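import Mathlib

/-!
# Locally of finite type over a locally Noetherian scheme (helper27)
-/

set_option autoImplicit false

universe u

open CategoryTheory AlgebraicGeometry

namespace Groth.Agent.Lib.Helper27.NoethLfp

/-- A morphism locally of finite type to a locally Noetherian scheme is locally of finite
presentation. -/
theorem locallyOfFinitePresentation_of_isLocallyNoetherian {X Y : Scheme.{u}} (f : X ⟶ Y)
    [LocallyOfFiniteType f] [IsLocallyNoetherian Y] : LocallyOfFinitePresentation f := by
  rw [HasRingHomProperty.iff_appLE (P := @LocallyOfFinitePresentation)]
  intro U V e
  have : IsNoetherianRing Γ(Y, U) := IsLocallyNoetherian.component_noetherian U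
  exact RingHom.FinitePresentation.of_finiteType.1
    (HasRingHomProperty.appLE (P := @LocallyOfFiniteType) f inferInstance U V e)

end Groth.Agent.Lib.Helper27.NoethLfp
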