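import Groth.Agent.Lib.Helper27.ToposCartan8
import Groth.Agent.Lib.Helper6.RpushNatIso
import Mathlib.CategoryTheory.Limits.Preserves.FunctorCategory

/-!
# Higher direct images commute with filtered colimits when the inverse images of the objects of
the target site are coherent
-/

set_option autoImplicit false
set_option backward.isDefEq.respectTransparency false
set_option backward.isDefEq.respectTransparency.types false

universe u

open CategoryTheory CategoryTheory.Limits Opposite Abelian

namespace Groth.Agent.Lib.Helper27.ToposCartan

open ToposFin Groth.Agent.Lib.Helper6 Groth.Agent.Lib.Helper27.ExtFilt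
  Groth.Agent.Lib.Helper6.SheafCoh

variable {C D : Type u} [SmallCategory C] [SmallCategory D]
  (J : GrothendieckTopology C) (K : GrothendieckTopology D)

instance isIso_sheafify_free_toSheafify (X : C) :
    IsIso ((presheafToSheaf J AddCommGrpCat.{u}).map
      (Functor.whiskerRight (toSheafify J (yoneda.obj X)) AddCommGrpCat.free.{u})) := by
  rw [← J.W_iff]
  exact J.W_of_preservesSheafification _ _ (J.W_toSheafify _)

/-- the free abelian sheaf on a representable presheaf is the free abelian sheaf on the
associated sheaf of sets -/
noncomputable def zfreeIso (X : C) : Zfree J X ≅ (Φ (J := J)).obj (eps J X) :=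
  asIso ((presheafToSheaf J AddCommGrpCat.{u}).map
    (Functor.whiskerRight (toSheafify J (yoneda.obj X)) AddCommGrpCat.free.{u}))

variable {J K}
variable {I : Type u} [SmallCategory I] [IsFiltered I]

/-- **higher direct images commute with filtered colimits** -/
theorem preservesColimit_Rpush (hE : IsAlgebraic J) (u : D ⥤ C) [u.IsContinuous K J]
    (hu : ∀ V : D, IsCoherent (eps J (u.obj V))) (q : ℕ) (F : I ⥤ Sheaf J AddCommGrpCat.{u}) :
    PreservesColimit F (CohSite.Rpush J K u q) := by
  obtain ⟨e⟩ := RpushNatIso.nonempty_natIso J K u q
  have h1 : ∀ V : Dᵒᵖ, PreservesColimit F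
      ((CohPresheaf.P J q ⋙ (Functor.whiskeringLeft _ _ _).obj u.op) ⋙
        (evaluation Dᵒᵖ AddCommGrpCat.{u}).obj V) := by
    intro V
    have h := preservesColimit_extFunctorObj_of_iso (zfreeIso J (u.obj V.unop)).symm q F
      (preservesColimit_ext_of_coherent hE _ (hu V.unop) q F)
    exact h
  haveI h2 : PreservesColimit F
      (CohPresheaf.P J q ⋙ (Functor.whiskeringLeft _ _ _).obj u.op) :=
    preservesColimit_of_evaluation _ _ h1
  haveI h3 : PreservesColimit F (CohPresheaf.P J q ⋙ CohSiteSheafify.Ψ K u) :=
    inferInstanceAs (PreservesColimit F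
      ((CohPresheaf.P J q ⋙ (Functor.whiskeringLeft _ _ _).obj u.op) ⋙
        presheafToSheaf K AddCommGrpCat.{u}))
  exact preservesColimit_of_natIso F e.symm

end Groth.Agent.Lib.Helper27.ToposCartan
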