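import Groth.Agent.Lib.Helper27.EtTransport5
import Groth.Agent.Lib.Helper27.ToposCartan10

/-!
# Étale cohomology of a qcqs scheme commutes with filtered colimits (helper27)
-/

set_option autoImplicit false
set_option backward.isDefEq.respectTransparency false
set_option backward.isDefEq.respectTransparency.types false

universe u

open CategoryTheory CategoryTheory.Limits Opposite AlgebraicGeometry Abelian

namespace Groth.Agent.Lib.Helper27.EtTransport

open Groth.Agent.Lib.Helper6 Groth.Agent.Lib.Helper27.ExtFilt Groth.Agent.Lib.Helper27.ToposCartan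

variable (X : Scheme.{u})

/-- the functor from the small model to the étale site -/
noncomputable abbrev GE : DE X ⥤ X.Etale := (eE X).inverse

/-- restriction of sheaves to the small model -/
noncomputable abbrev ΦE : EtCoh.Ab X ⥤ Sheaf (KE X) AddCommGrpCat.{u + 1} :=
  (Functor.IsDenseSubsite.sheafEquiv (KE X) X.smallEtaleTopology (GE X)
    AddCommGrpCat.{u + 1}).inverse

instance : (ΦE X).Additive where
  map_add := rfl

/-- the terminal object of the small model -/
noncomputable abbrev TE : DE X := ULiftHom.objUp (EtCoh.top X)

/-- it is terminal -/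
noncomputable def isTerminalTop : IsTerminal (EtCoh.top X) :=
  MorphismProperty.Over.mkIdTerminal _ X

/-- it is terminal -/
noncomputable def isTerminalTE : IsTerminal (TE X) :=
  (isTerminalTop X).isTerminalObj (eE X).functor _

lemma TE_mem : TE X ∈ BE X := by
  constructor
  · change QuasiCompact (𝟙 X); infer_instance
  · change QuasiSeparated (𝟙 X); infer_instance

/-- the constant sheaf `ℤ` on the étale site -/
noncomputable abbrev constZ : EtCoh.Ab X :=
  (constantSheaf X.smallEtaleTopology AddCommGrpCat.{u + 1}).obj
    (AddCommGrpCat.of (ULift.{u + 1} ℤ))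

/-- the restriction of the constant sheaf is the free abelian sheaf on the terminal object -/
noncomputable def zfreeIsoΦ : SheafCoh.Zfree (KE X) (TE X) ≅ (ΦE X).obj (constZ X) :=
  zfreeIso (KE X) (TE X) ≪≫
    freeTerminalIso (J := KE X) (T := ToposFin.eps (KE X) (TE X))
      (((isTerminalTE X).isTerminalObj yoneda _).isTerminalObj
        (presheafToSheaf (KE X) (Type (u + 1))) _) ≪≫
    (equivCommuteConstant' (KE X) AddCommGrpCat.{u + 1} X.smallEtaleTopology (GE X)
      (isTerminalTE X) (isTerminalTop X)).app (AddCommGrpCat.of (ULift.{u + 1} ℤ))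

end Groth.Agent.Lib.Helper27.EtTransport

namespace Groth.Agent.Lib.Helper27.EtTransport

open Groth.Agent.Lib.Helper6 Groth.Agent.Lib.Helper27.ExtFilt Groth.Agent.Lib.Helper27.ToposCartan

variable (X : Scheme.{u})

/-- **étale cohomology of a qcqs scheme commutes with filtered colimits** (Ext form) -/
theorem preservesColimitsOfShape_ext_constZ [CompactSpace X] [QuasiSeparatedSpace X] (n : ℕ)
    (I : Type (u + 1)) [SmallCategory I] [IsFiltered I] :
    PreservesColimitsOfShape I (extFunctorObj (constZ X) n) := by
  have h1 : PreservesColimitsOfShape I (extFunctorObj (SheafCoh.Zfree (KE X) (TE X)) n) :=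
    ⟨fun {F} => preservesColimit_ext (KE X) (BE X) (CovE X) covE_h1 covE_h2 (TE X) (TE_mem X) n F⟩
  have e : extFunctorObj (SheafCoh.Zfree (KE X) (TE X)) n ≅
      extFunctorObj ((ΦE X).obj (constZ X)) n :=
    (extFunctor n).mapIso (zfreeIsoΦ X).symm.op
  haveI h2 : PreservesColimitsOfShape I (extFunctorObj ((ΦE X).obj (constZ X)) n) :=
    preservesColimitsOfShape_of_natIso e
  exact preservesColimitsOfShape_extFunctorObj (ΦE X) (constZ X) n I

/-- **S0099** -/
theorem preservesColimitsOfShape_HF [CompactSpace X] [QuasiSeparatedSpace X] (n : ℕ)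
    (I : Type (u + 1)) [SmallCategory I] [IsFiltered I] :
    PreservesColimitsOfShape I (EtCoh.HF X n) :=
  preservesColimitsOfShape_ext_constZ X n I

end Groth.Agent.Lib.Helper27.EtTransport

namespace Groth.Agent.Lib.Helper27.EtTransport

variable (X : Scheme.{u})

theorem preservesColimitsOfShape_HF_of_equiv [CompactSpace X] [QuasiSeparatedSpace X] (n : ℕ)
    (I : Type u) [SmallCategory I] [IsFiltered I] {I' : Type (u + 1)} (_ : SmallCategory I')
    (e : I ≌ I') : PreservesColimitsOfShape I (EtCoh.HF X n) := by
  haveI : IsFiltered I' := IsFiltered.of_equivalence e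
  haveI := preservesColimitsOfShape_HF X n I'
  exact preservesColimitsOfShape_of_equiv e.symm _

/-- **S0099**, for index categories in the universe of the scheme -/
theorem preservesColimitsOfShape_HF' [CompactSpace X] [QuasiSeparatedSpace X] (n : ℕ)
    (I : Type u) [SmallCategory I] [IsFiltered I] :
    PreservesColimitsOfShape I (EtCoh.HF X n) :=
  preservesColimitsOfShape_HF_of_equiv X n I _
    (ULiftHomULiftCategory.equiv.{u + 1, u + 1} I)

end Groth.Agent.Lib.Helper27.EtTransport
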