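import Groth.Agent.Lib.Helper27.EtSheafCrit6

/-!
# Sheaf criterion on the small étale site: the general case and the criterion
-/

set_option autoImplicit false

universe w u

namespace Groth.Agent.Lib.Helper27.EtSheafCrit

open CategoryTheory Limits Opposite AlgebraicGeometry
open Groth.Agent.Lib.Helper23.EtGlue

variable {X : Scheme.{u}}

theorem range_sub₁ (U : X.Etale) (i j : {W : U.left.Opens // IsAffineOpen W})
    (W : {W : U.left.Opens // IsAffineOpen W ∧ W ≤ i.1 ⊓ j.1}) :
    Set.range (opnι U W.1).left ⊆ (i.1 : Set U.left) := by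
  rw [range_opnι]
  exact fun x hx => (W.2.2 hx).1

theorem range_sub₂ (U : X.Etale) (i j : {W : U.left.Opens // IsAffineOpen W})
    (W : {W : U.left.Opens // IsAffineOpen W ∧ W ≤ i.1 ⊓ j.1}) :
    Set.range (opnι U W.1).left ⊆ (j.1 : Set U.left) := by
  rw [range_opnι]
  exact fun x hx => (W.2.2 hx).2

/-- the affine opens of an object and the affine opens of their pairwise intersections,
as a pre-1-hypercover -/
noncomputable def affPre (U : X.Etale) : PreOneHypercover.{u} U where
  I₀ := {W : U.left.Opens // IsAffineOpen W}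
  X W := opn U W.1
  f W := opnι U W.1
  I₁ i j := {W : U.left.Opens // IsAffineOpen W ∧ W ≤ i.1 ⊓ j.1}
  Y _ _ W := opn U W.1
  p₁ i j W := liftOpn (opnι U W.1) i.1 (range_sub₁ U i j W)
  p₂ i j W := liftOpn (opnι U W.1) j.1 (range_sub₂ U i j W)
  w i j W := by rw [liftOpn_comp, liftOpn_comp]

theorem affPre_p₁_comp (U : X.Etale) {i j : (affPre U).I₀} (W : (affPre U).I₁ i j) :
    (affPre U).p₁ W ≫ (affPre U).f i = opnι U W.1 :=
  liftOpn_comp (opnι U W.1) i.1 (range_sub₁ U i j W)

theorem affPre_p₂_comp (U : X.Etale) {i j : (affPre U).I₀} (W : (affPre U).I₁ i j) :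
    (affPre U).p₂ W ≫ (affPre U).f j = opnι U W.1 :=
  liftOpn_comp (opnι U W.1) j.1 (range_sub₂ U i j W)

instance (U : X.Etale) (i : (affPre U).I₀) : Mono ((affPre U).f i) :=
  inferInstanceAs (Mono (opnι U i.1))

theorem affPre_f_mem (U : X.Etale) (i : (affPre U).I₀) (z : ((affPre U).X i).left) :
    ((affPre U).f i).left z ∈ i.1 := opnι_mem i.1 z

/-- the affine opens of an object, as a Zariski 1-hypercover -/
noncomputable def affHyper (U : X.Etale) : (Jz X).OneHypercover U where
  toPreOneHypercover := affPre U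
  mem₀ := by
    have h := affineOpens_mem_Jz U
    refine (Jz X).superset_covering ?_ h
    rintro Y f ⟨_, a, _, ⟨W⟩, rfl⟩
    exact ⟨_, a, _, ⟨W⟩, rfl⟩
  mem₁ i j T p₁ p₂ hw := by
    rw [mem_Jz_iff]
    intro t
    -- the common composite
    have hq : (p₁ ≫ (affPre U).f i).left t ∈ i.1 ⊓ j.1 := by
      refine ⟨affPre_f_mem U i (p₁.left t), ?_⟩
      rw [hw]
      exact affPre_f_mem U j (p₂.left t)
    obtain ⟨W, hW, htW, hWij⟩ := TopologicalSpace.Opens.isBasis_iff_nbhd.1
      U.left.isBasis_affineOpens hq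
    let V : T.left.Opens := preim (p₁ ≫ (affPre U).f i) W
    have hV : Set.range (opnι T V ≫ p₁ ≫ (affPre U).f i).left ⊆ (W : Set U.left) := by
      rintro _ ⟨z, rfl⟩
      exact opnι_mem V z
    let h : opn T V ⟶ opn U W := liftOpn (opnι T V ≫ p₁ ≫ (affPre U).f i) W hV
    have hh : h ≫ opnι U W = opnι T V ≫ p₁ ≫ (affPre U).f i := liftOpn_comp _ _ _
    let W' : (affPre U).I₁ i j := ⟨W, hW, hWij⟩
    refine ⟨opn T V, opnι T V, ⟨t, htW⟩, ⟨W', h, ?_, ?_⟩,
      inferInstanceAs (IsOpenImmersion (Scheme.Opens.ι V)), rfl⟩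
    · refine (cancel_mono ((affPre U).f i)).1 ?_
      rw [Category.assoc, Category.assoc, affPre_p₁_comp U W']
      exact hh.symm
    · refine (cancel_mono ((affPre U).f j)).1 ?_
      rw [Category.assoc, Category.assoc, affPre_p₂_comp U W', ← hw]
      exact hh.symm

variable {F : X.Etaleᵒᵖ ⥤ Type w}

theorem isSheafFor_of_zariski_of_affSingle (hzar : Presieve.IsSheaf (Jz X) F)
    (hff : AffSingle F) {U : X.Etale} (S : Sieve U) (hS : S ∈ X.smallEtaleTopology U) :
    Presieve.IsSheafFor F S.arrows := by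
  refine (affHyper U).isSheafFor_sieve_of_pullback hzar (fun i => ?_) (fun i j k => ?_)
  · have : IsAffine ((affHyper U).X i).left := i.2
    exact isSheafFor_of_affine hzar hff _ (X.smallEtaleTopology.pullback_stable _ hS)
  · exact isSeparatedFor hzar hff _ (X.smallEtaleTopology.pullback_stable _ hS)

theorem affSingle_of_isSheaf (hF : Presieve.IsSheaf X.smallEtaleTopology F) : AffSingle F := by
  intro U V _ _ f hf
  rw [Presieve.isSheafFor_iff_generate]
  apply hF
  refine sieve_mem_of_forall_point _ (fun u => ?_)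
  obtain ⟨v, hv⟩ := hf.surj u
  exact ⟨V, f, ⟨V, 𝟙 V, f, Presieve.singleton_self f, Category.id_comp f⟩, v, hv⟩

/-- a presheaf of sets on the small étale site is a sheaf iff it is a Zariski sheaf and satisfies
the sheaf condition for surjective maps of affines -/
theorem isSheaf_iff (X : Scheme.{u}) (F : X.Etaleᵒᵖ ⥤ Type w) :
    Presieve.IsSheaf X.smallEtaleTopology F ↔
      Presieve.IsSheaf (X.smallGrothendieckTopology (P := @IsOpenImmersion)) F ∧
        ∀ (U V : X.Etale) [IsAffine U.left] [IsAffine V.left] (f : V ⟶ U) [Surjective f.left],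
          Presieve.IsSheafFor F (Presieve.singleton f) := by
  constructor
  · intro hF
    exact ⟨Presieve.isSheaf_of_le F Jz_le hF, affSingle_of_isSheaf hF⟩
  · rintro ⟨hzar, hff⟩ U S hS
    exact isSheafFor_of_zariski_of_affSingle hzar hff S hS

end Groth.Agent.Lib.Helper27.EtSheafCrit
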