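import Groth.Agent.Lib.Helper27.EtZarHens2
import Groth.Agent.Lib.Helper6.CohSiteBigger

/-!
# Étale cohomology agrees with Zariski cohomology when all local rings are strictly henselian
-/

set_option autoImplicit false

universe u

namespace Groth.Agent.Lib.Helper27.EtZarHens

open CategoryTheory Limits AlgebraicGeometry TopologicalSpace Opposite Abelian
open Groth.Agent.Lib.Helper27.EtZarAcyc

variable (S : Scheme.{u}) [EtZar.ZarCont S]

/-- the whole scheme, as an open subscheme, is terminal among étale `S`-schemes -/
noncomputable def isTerminalZarToEtTop : IsTerminal ((EtZar.zarToEt S).obj ⊤) :=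
  IsTerminal.ofUniqueHom (fun T => liftHom S T ⊤ le_top) (fun _ _ => Subsingleton.elim _ _)

instance invZar_additive : (invZar S).Additive := (invResAdj S).left_adjoint_additive

/-- the inverse image of a constant Zariski sheaf is the constant étale sheaf -/
noncomputable def constIso :
    constantSheaf (Opens.grothendieckTopology S) AddCommGrpCat.{u + 1} ⋙ invZar S ≅
      constantSheaf S.smallEtaleTopology AddCommGrpCat.{u + 1} :=
  ((constantSheafAdj (Opens.grothendieckTopology S) AddCommGrpCat.{u + 1}
      (CategoryTheory.Limits.isTerminalTop : IsTerminal (⊤ : S.Opens))).comp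
    (invResAdj S)).leftAdjointUniq
    ((constantSheafAdj S.smallEtaleTopology AddCommGrpCat.{u + 1}
      (isTerminalZarToEtTop S)).ofNatIsoRight
      (NatIso.ofComponents (fun _ => Iso.refl _) :
        (sheafSections S.smallEtaleTopology AddCommGrpCat.{u + 1}).obj
          (op ((EtZar.zarToEt S).obj ⊤)) ≅
        EtZar.resZar S ⋙ (sheafSections (Opens.grothendieckTopology S)
          AddCommGrpCat.{u + 1}).obj (op ⊤)))

variable {S}

theorem preservesFiniteColimits_resZar
    (hS : ∀ s : S, EtCoh.IsStrictlyHenselianLocalRing (S.presheaf.stalk s)) :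
    PreservesFiniteColimits (EtZar.resZar S) := by
  rw [Functor.preservesFiniteColimits_iff_forall_exact_map_and_epi]
  intro T hT
  have h := resZar_shortExact' hS T hT
  exact ⟨h.exact, h.epi_g⟩

theorem nonempty_H_addEquiv
    (hS : ∀ s : S, EtCoh.IsStrictlyHenselianLocalRing (S.presheaf.stalk s))
    (F : EtCoh.Ab S) (i : ℕ) :
    Nonempty (EtCoh.H S F i ≃+ EtZar.H ((EtZar.resZar S).obj F) i) := by
  haveI := preservesFiniteColimits_resZar hS
  obtain ⟨e⟩ := Groth.Agent.Lib.Helper6.ExtAdj.nonempty_ext_addEquiv (invResAdj S)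
    (zarZ S) F i
  exact ⟨(Groth.Agent.Lib.Helper6.CohSiteBigger.extAddEquivOfIso
    ((constIso S).app (AddCommGrpCat.of (ULift.{u + 1} ℤ))) F i).symm.trans e⟩

end Groth.Agent.Lib.Helper27.EtZarHens
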