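import Groth.Prelude.Def_EtZar
import Mathlib.AlgebraicGeometry.Morphisms.UniversallyOpen
import Mathlib.AlgebraicGeometry.Morphisms.Etale
import Mathlib.CategoryTheory.Adjunction.Whiskering

/-!
# The open-image functor `S.Etale ⥤ S.Opens`, left adjoint to `zarToEt`
-/

set_option autoImplicit false

universe u

namespace Groth.Agent.Lib.Helper27.EtZarAcyc

open CategoryTheory Limits AlgebraicGeometry TopologicalSpace Opposite

variable (S : Scheme.{u})

/-- the (open) image of an étale `S`-scheme -/
noncomputable def imObj (T : S.Etale) : S.Opens :=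
  ⟨Set.range T.hom, by
    haveI : Etale T.hom := T.prop
    exact T.hom.isOpenMap.isOpen_range⟩

theorem mem_imObj (T : S.Etale) (s : S) : s ∈ imObj S T ↔ ∃ t : T.left, T.hom t = s := Iff.rfl

theorem imObj_mono {T T' : S.Etale} (g : T ⟶ T') : imObj S T ≤ imObj S T' := by
  rintro _ ⟨x, rfl⟩
  refine ⟨g.left x, ?_⟩
  rw [← Scheme.Hom.comp_apply, MorphismProperty.Over.w]

/-- the open-image functor -/
noncomputable def im : S.Etale ⥤ S.Opens where
  obj T := imObj S T
  map g := homOfLE (imObj_mono S g)

instance subsingleton_hom_zarToEt (T : S.Etale) (U : S.Opens) :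
    Subsingleton (T ⟶ (EtZar.zarToEt S).obj U) where
  allEq g g' := by
    apply MorphismProperty.Over.Hom.ext
    have h1 : g.left ≫ U.ι = T.hom := MorphismProperty.Over.w g
    have h2 : g'.left ≫ U.ι = T.hom := MorphismProperty.Over.w g'
    exact (cancel_mono U.ι).1 (h1.trans h2.symm)

theorem range_subset_of_le (T : S.Etale) (U : S.Opens) (h : imObj S T ≤ U) :
    Set.range T.hom ⊆ Set.range U.ι := by
  rw [Scheme.Opens.range_ι]
  exact h

/-- the lift of an étale `S`-scheme whose image lies in `U` -/
noncomputable def liftHom (T : S.Etale) (U : S.Opens) (h : imObj S T ≤ U) :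
    T ⟶ (EtZar.zarToEt S).obj U :=
  MorphismProperty.Over.homMk
    (show T.left ⟶ U.toScheme from
      IsOpenImmersion.lift U.ι T.hom (range_subset_of_le S T U h))
    (IsOpenImmersion.lift_fac U.ι T.hom (range_subset_of_le S T U h))

theorem le_of_hom (T : S.Etale) (U : S.Opens) (g : T ⟶ (EtZar.zarToEt S).obj U) :
    imObj S T ≤ U := by
  rintro _ ⟨x, rfl⟩
  have h1 : g.left ≫ U.ι = T.hom := MorphismProperty.Over.w g
  rw [← h1, Scheme.Hom.comp_apply]
  exact (g.left x).2

/-- `im ⊣ zarToEt` -/
noncomputable def imAdj : im S ⊣ EtZar.zarToEt S :=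
  Adjunction.mkOfHomEquiv
    { homEquiv := fun T U =>
        { toFun := fun h => liftHom S T U (leOfHom h)
          invFun := fun g => homOfLE (le_of_hom S T U g)
          left_inv := fun _ => Subsingleton.elim _ _
          right_inv := fun _ => Subsingleton.elim _ _ }
      homEquiv_naturality_left_symm := fun _ _ => Subsingleton.elim _ _
      homEquiv_naturality_right := fun _ _ => Subsingleton.elim _ _ }

end Groth.Agent.Lib.Helper27.EtZarAcyc
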