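import Groth.Agent.Lib.Helper27.GabberCrit6
import Groth.Agent.Lib.Helper23.EtJCont

/-!
# `j_! ℤ_U` for an étale morphism `j : U ⟶ X`: morphisms out of it are sections over `U`
-/

set_option autoImplicit false
set_option backward.isDefEq.respectTransparency false
universe u
open CategoryTheory Limits Opposite AlgebraicGeometry Abelian
open Groth.Agent.Lib.Helper23.EtRestr Groth.Agent.Lib.Helper23.ExtRestr
  Groth.Agent.Lib.Helper23.ExtAdj Groth.Agent.Lib.Helper27.GabberCrit

namespace Groth.Agent.Lib.Helper27.EtTrace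

variable {U X : Scheme.{u}} (j : U ⟶ X) [Etale j]

/-- the adjunction `j_! ⊣ j^{-1}` with `j^{-1}` the inverse image functor -/
noncomputable def adjE : EtShriek.extZero j ⊣ EtCoh.pull j :=
  (EtShriek.extZeroAdj j).ofNatIsoRight (pullIsoRestr j).symm

instance : (EtShriek.extZero j).Additive := (adjE j).left_adjoint_additive

instance : PreservesFiniteLimits (EtShriek.extZero j) := Groth.Agent.S0648.result j

instance : PreservesFiniteColimits (EtShriek.extZero j) :=
  have : PreservesColimitsOfSize.{0, 0} (EtShriek.extZero j) :=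
    (adjE j).leftAdjoint_preservesColimits
  PreservesColimitsOfSize.preservesFiniteColimits _

instance pullE_pfl : PreservesFiniteLimits (EtCoh.pull j) :=
  have : PreservesLimitsOfSize.{0, 0} (EtCoh.pull j) := (adjE j).rightAdjoint_preservesLimits
  PreservesLimitsOfSize.preservesFiniteLimits _

/-- `j_! ℤ_U` -/
noncomputable abbrev Zj : EtCoh.Ab X := (EtShriek.extZero j).obj (EtCoh.const U ℤ)

/-- `ε : j_! ℤ_U → ℤ_X` -/
noncomputable abbrev εj : Zj j ⟶ EtCoh.const X ℤ := eps (adjE j) (EtCore.pullConst j ℤ)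

/-- `U` as an object of the small étale site of `X` -/
noncomputable abbrev Tj : X.Etale := (EtShriek.compEtale j).obj (EtCoh.top U)

variable (A : EtCoh.Ab X)

/-- sections over `U`, as a morphism from `ℤ` -/
noncomputable def sMorE (φ : Zj j ⟶ A) : MZ.{u} ⟶ A.obj.obj (op (Tj j)) :=
  uY U ≫ (EtCore.gsec U).map ((adjE j).homEquiv _ _ φ) ≫
    ((pullIsoRestr j).hom.app A).hom.app (op (EtCoh.top U))

theorem homEquiv_εj : (adjE j).homEquiv _ _ (εj j) = (EtCore.pullConst j ℤ).inv := by
  rw [Adjunction.homEquiv_unit]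
  exact unit_map_eps (adjE j) (EtCore.pullConst j ℤ)

theorem uY_pullConst_inv' :
    uY U ≫ (EtCore.gsec U).map (EtCore.pullConst j ℤ).inv =
      uY X ≫ (EtCore.gsec X).map ((EtCoh.pullPushAdj j).unit.app (EtCoh.const X ℤ)) ≫
        (EtCore.pushGsecIso j).hom.app ((EtCoh.pull j).obj (EtCoh.const X ℤ)) := by
  have h := Adjunction.unit_leftAdjointUniq_hom_app
    (((EtCore.constAdj X).comp (EtCoh.pullPushAdj j)).ofNatIsoRight (EtCore.pushGsecIso j))
    (EtCore.constAdj U) MZ
  have h' : uY U ≫ (EtCore.gsec U).map (EtCore.pullConst j ℤ).inv =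
      ((((EtCore.constAdj X).comp (EtCoh.pullPushAdj j)).ofNatIsoRight
        (EtCore.pushGsecIso j)).unit.app MZ) := by
    change (EtCore.constAdj U).unit.app MZ ≫ _ = _
    rw [← h, Category.assoc, ← Functor.map_comp]
    erw [Iso.hom_inv_id_app]
    erw [CategoryTheory.Functor.map_id, Category.comp_id]
  rw [h', Adjunction.ofNatIsoRight_unit, NatTrans.comp_app, Adjunction.comp_unit_app]
  simp only [Category.assoc]
  rfl

theorem sMorE_εj :
    sMorE j (EtCoh.const X ℤ) (εj j) =
      uY X ≫ (EtCoh.const X ℤ).obj.map ((EtCore.topIsTerminal X).from (Tj j)).op := by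
  unfold sMorE
  rw [homEquiv_εj, ← Category.assoc, uY_pullConst_inv']
  simp only [Category.assoc]
  congr 1
  have hnat := ((pullIsoRestr j).hom.app (EtCoh.const X ℤ)).hom.naturality
    (EtCore.bcTopIso j).op.symm.hom
  have hunit := Adjunction.unit_leftAdjointUniq_hom_app (EtCoh.pullPushAdj j)
    (restrPushAdj j) (EtCoh.const X ℤ)
  have hunit' := congrArg (fun ψ : EtCoh.const X ℤ ⟶ (EtCoh.push j).obj
    ((EtShriek.restrAlong j).obj (EtCoh.const X ℤ)) => ψ.hom.app (op (EtCoh.top X))) hunit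
  change ((EtCoh.pullPushAdj j).unit.app (EtCoh.const X ℤ)).hom.app (op (EtCoh.top X)) ≫
    ((EtCoh.pull j).obj (EtCoh.const X ℤ)).obj.map (EtCore.bcTopIso j).op.symm.hom ≫
      ((pullIsoRestr j).hom.app (EtCoh.const X ℤ)).hom.app (op (EtCoh.top U)) = _
  rw [hnat, ← Category.assoc]
  change ((EtCoh.pullPushAdj j).unit.app (EtCoh.const X ℤ) ≫
            (EtCoh.push j).map
              (((EtCoh.pullPushAdj j).leftAdjointUniq (restrPushAdj j)).hom.app
                (EtCoh.const X ℤ))).hom.app (op (EtCoh.top X)) ≫ _ = _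
  rw [hunit']
  change (EtCoh.const X ℤ).obj.map ((adjSite j).counit.app (EtCoh.top X)).op ≫
    (EtCoh.const X ℤ).obj.map ((EtShriek.compEtale j).map (EtCore.bcTopIso j).inv).op = _
  rw [← Functor.map_comp, ← op_comp]
  congr 2
  exact (EtCore.topIsTerminal X).hom_ext _ _

theorem sMorE_bijective : Function.Bijective (sMorE j A) := by
  let e : (EtCore.gsec U).obj ((EtCoh.pull j).obj A) ≅ A.obj.obj (op (Tj j)) :=
    ((sheafSections _ _).obj (op (EtCoh.top U))).mapIso ((pullIsoRestr j).app A)
  have h : sMorE j A = fun φ => (e.homToEquiv (Z := MZ.{u}))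
      ((EtCore.constAdj U).homEquiv MZ _ ((adjE j).homEquiv _ _ φ)) := by
    funext φ
    rw [Adjunction.homEquiv_unit (adj := EtCore.constAdj U)]
    simp only [sMorE, Iso.homToEquiv_apply, Category.assoc]
    rfl
  rw [h]
  exact (e.homToEquiv.bijective.comp ((EtCore.constAdj U).homEquiv MZ _).bijective).comp
    ((adjE j).homEquiv _ _).bijective

theorem sMorE_naturality {A B : EtCoh.Ab X} (φ : Zj j ⟶ A) (g : A ⟶ B) :
    sMorE j B (φ ≫ g) = sMorE j A φ ≫ g.hom.app (op (Tj j)) := by
  unfold sMorE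
  rw [Adjunction.homEquiv_naturality_right, Functor.map_comp]
  have h1 := congrArg (fun ψ : (EtCoh.pull j).obj A ⟶ (EtShriek.restrAlong j).obj B =>
    ψ.hom.app (op (EtCoh.top U))) ((pullIsoRestr j).hom.naturality g)
  simp only [Category.assoc]
  congr 2

end Groth.Agent.Lib.Helper27.EtTrace
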