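import Groth.Prelude.Def_GalTw2
import Groth.Agent.Lib.Helper18.GalDesc

/-!
# Galois twists: isomorphic forms have cohomologous cocycles and conversely (helper27)
-/

set_option autoImplicit false
set_option backward.isDefEq.respectTransparency false
set_option backward.isDefEq.respectTransparency.types false

universe u

open CategoryTheory CategoryTheory.Limits AlgebraicGeometry

namespace Groth.Agent.Lib.Helper27.GalTwDesc

open GalTw

variable {k : Type u} [Field k] {K : Type u} [Field K] [Algebra k K]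
variable {X Y Y' : Over (Spec (CommRingCat.of k))}

/-- Base change of a `k`-morphism to `K`. -/
noncomputable def bcMap (e : Y ⟶ Y') : bcK K Y ⟶ bcK K Y' :=
  (Over.pullback (SGA7.pt (K := k) K).hom).map e

@[reassoc]
theorem bcMap_left_fst (e : Y ⟶ Y') :
    (bcMap (K := K) e).left ≫ pullback.fst Y'.hom (SGA7.pt (K := k) K).hom =
      pullback.fst Y.hom (SGA7.pt (K := k) K).hom ≫ e.left := by
  simp [bcMap, Over.pullback]

@[reassoc]
theorem bcMap_left_snd (e : Y ⟶ Y') :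
    (bcMap (K := K) e).left ≫ pullback.snd Y'.hom (SGA7.pt (K := k) K).hom =
      pullback.snd Y.hom (SGA7.pt (K := k) K).hom := by
  simp [bcMap, Over.pullback]

theorem twHom_bcMap (σ : K ≃ₐ[k] K) (e : Y ⟶ Y') : twHom σ (bcMap (K := K) e) = bcMap e := by
  ext1
  rw [twHom_left]
  apply pullback.hom_ext
  · simp only [Category.assoc, galMap_fst, bcMap_left_fst, galMap_fst_assoc]
  · rw [Category.assoc, Category.assoc, galMap_snd, bcMap_left_snd_assoc, galMap_snd_assoc,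
      ← specMap_mul, mul_inv_cancel, specMap_one, Category.comp_id]
    exact (bcMap_left_snd e).symm

theorem bcMap_id : bcMap (K := K) (𝟙 Y) = 𝟙 _ := (Over.pullback _).map_id _

theorem bcMap_comp {Y'' : Over (Spec (CommRingCat.of k))} (e : Y ⟶ Y') (e' : Y' ⟶ Y'') :
    bcMap (K := K) (e ≫ e') = bcMap e ≫ bcMap e' := (Over.pullback _).map_comp _ _

/-- Base change of a `k`-isomorphism. -/
noncomputable def bcIso (e : Y ≅ Y') : bcK K Y ≅ bcK K Y' :=
  (Over.pullback (SGA7.pt (K := k) K).hom).mapIso e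

@[simp] theorem bcIso_hom (e : Y ≅ Y') : (bcIso (K := K) e).hom = bcMap e.hom := rfl
@[simp] theorem bcIso_inv (e : Y ≅ Y') : (bcIso (K := K) e).inv = bcMap e.inv := rfl

theorem twIso_bcIso (σ : K ≃ₐ[k] K) (e : Y ≅ Y') : twIso σ (bcIso (K := K) e) = bcIso e :=
  Iso.ext (twHom_bcMap σ e.hom)

/-- The automorphism `φ⁻¹ ≫ ψ ≫ φ'` of `X_K`. -/
noncomputable def cOf (φ : bcK K Y ≅ bcK K X) (φ' : bcK K Y' ≅ bcK K X)
    (ψ : bcK K Y ≅ bcK K Y') : Aut (bcK K X) := φ.symm ≪≫ ψ ≪≫ φ'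

/-- The formal computation: if `ψ : Y_K ≅ Y'_K` is Galois invariant, the cocycles of
`φ` and `φ'` are cohomologous via `φ⁻¹ ≫ ψ ≫ φ'`. -/
theorem cocycle_eq_of_invariant (φ : bcK K Y ≅ bcK K X) (φ' : bcK K Y' ≅ bcK K X)
    (ψ : bcK K Y ≅ bcK K Y') (hψ : ∀ σ : K ≃ₐ[k] K, twIso σ ψ = ψ) (σ : K ≃ₐ[k] K) :
    cocycle φ σ = (cOf φ φ' ψ)⁻¹ * cocycle φ' σ * σ • (cOf φ φ' ψ) := by
  rw [aut_smul_def, Aut.Aut_mul_def, Aut.Aut_mul_def, Aut.Aut_inv_def]
  unfold cOf
  rw [twIso_trans, twIso_trans, hψ]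
  apply Iso.ext
  simp only [Iso.trans_hom, Iso.symm_hom, cocycle_apply_hom, twIso_inv, twIso_hom, Category.assoc,
    Iso.trans_inv, Iso.symm_inv]
  have h1 : twHom σ φ'.hom ≫ twHom σ φ'.inv = 𝟙 _ := by
    rw [← twHom_comp, φ'.hom_inv_id, twHom_id]
  rw [reassoc_of% h1]
  simp

/-- Conversely, from cohomologous cocycles one gets a Galois invariant isomorphism. -/
theorem invariant_of_cocycle_eq (φ : bcK K Y ≅ bcK K X) (φ' : bcK K Y' ≅ bcK K X)
    (c : Aut (bcK K X)) (σ : K ≃ₐ[k] K)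
    (h : cocycle φ σ = c⁻¹ * cocycle φ' σ * σ • c) :
    twIso σ (φ ≪≫ c ≪≫ φ'.symm) = φ ≪≫ c ≪≫ φ'.symm := by
  rw [aut_smul_def, Aut.Aut_mul_def, Aut.Aut_mul_def, Aut.Aut_inv_def] at h
  rw [twIso_trans, twIso_trans]
  have h' := congrArg Iso.hom h
  simp only [Iso.trans_hom, Iso.symm_hom, cocycle_apply_hom, twIso_inv, twIso_hom, Category.assoc]
    at h'
  apply Iso.ext
  simp only [Iso.trans_hom, Iso.symm_hom, twIso_hom, Category.assoc]
  -- h' : twHom σ φ.inv ≫ φ.hom = twHom σ c.hom ≫ twHom σ φ'.inv ≫ φ'.hom ≫ c.inv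
  have h2 : twHom σ φ.hom ≫ twHom σ φ.inv = 𝟙 _ := by
    rw [← twHom_comp, φ.hom_inv_id, twHom_id]
  have h3 : twHom σ c.hom ≫ twHom σ φ'.inv = twHom σ φ.inv ≫ φ.hom ≫ c.hom ≫ φ'.inv := by
    have := congrArg (fun t => t ≫ c.hom ≫ φ'.inv) h'
    simp only [Category.assoc, Iso.inv_hom_id_assoc, Iso.hom_inv_id, Category.comp_id] at this
    exact this.symm
  change twHom σ φ.hom ≫ twHom σ c.hom ≫ twHom σ φ'.inv = _
  rw [h3, reassoc_of% h2]

section Descent

open Groth.Agent.Lib.Helper18.GalFibre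

theorem galMap_eq_actOf (σ : K ≃ₐ[k] K) (Y : Over (Spec (CommRingCat.of k))) :
    galMap K σ Y = actOf Y.hom σ := rfl

instance epi_fst (Y : Over (Spec (CommRingCat.of k))) :
    Epi (pullback.fst Y.hom (SGA7.pt (K := k) K).hom) := by
  haveI : QuasiCompact (SGA7.pt (K := k) K).hom := by
    change QuasiCompact (sK k K); infer_instance
  haveI : Flat (SGA7.pt (K := k) K).hom := by
    change Flat (sK k K); infer_instance
  haveI : Surjective (SGA7.pt (K := k) K).hom := by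
    change Surjective (sK k K); infer_instance
  haveI : EffectiveEpi (pullback.fst Y.hom (SGA7.pt (K := k) K).hom) := inferInstance
  infer_instance

theorem bcMap_injective : Function.Injective (bcMap (K := K) (Y := Y) (Y' := Y')) := by
  intro e e' h
  ext1
  have h1 := bcMap_left_fst (K := K) e
  have h2 := bcMap_left_fst (K := K) e'
  rw [h] at h1
  rw [← cancel_epi (pullback.fst Y.hom (SGA7.pt (K := k) K).hom), ← h1, h2]

theorem comm_of_invariant (f : bcK K Y ⟶ bcK K Y') (σ : K ≃ₐ[k] K) (hf : twHom σ f = f) :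
    galMap K σ Y ≫ f.left = f.left ≫ galMap K σ Y' := by
  have h := congrArg (fun t => t.left ≫ galMap K σ Y') hf
  simp only [twHom_left, Category.assoc, galMap_mul, inv_mul_cancel, galMap_one,
    Category.comp_id] at h
  exact h

variable [FiniteDimensional k K] [IsGalois k K]

/-- Galois descent for morphisms in the language of the prelude. -/
theorem exists_bcMap_eq (f : bcK K Y ⟶ bcK K Y') (hf : ∀ σ : K ≃ₐ[k] K, twHom σ f = f) :
    ∃ e : Y ⟶ Y', bcMap e = f := by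
  let h : pullback Y.hom (sK k K) ⟶ Y'.left :=
    f.left ≫ pullback.fst Y'.hom (SGA7.pt (K := k) K).hom
  have hinv : ∀ σ : K ≃ₐ[k] K, actOf Y.hom σ ≫ h = h := by
    intro σ
    change galMap K σ Y ≫ f.left ≫ pullback.fst Y'.hom (SGA7.pt (K := k) K).hom = _
    rw [reassoc_of% (comm_of_invariant f σ (hf σ)), galMap_fst]
  obtain ⟨u, hu⟩ := exists_desc Y.hom h hinv
  have hw : u ≫ Y'.hom = Y.hom := by
    rw [← cancel_epi (pullback.fst Y.hom (SGA7.pt (K := k) K).hom)]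
    change pullback.fst Y.hom (sK k K) ≫ u ≫ Y'.hom = _
    rw [reassoc_of% hu]
    change f.left ≫ pullback.fst Y'.hom (SGA7.pt (K := k) K).hom ≫ Y'.hom = _
    rw [pullback.condition, pullback.condition]
    have := Over.w f
    change f.left ≫ pullback.snd Y'.hom (SGA7.pt (K := k) K).hom =
      pullback.snd Y.hom (SGA7.pt (K := k) K).hom at this
    rw [reassoc_of% this]
  refine ⟨Over.homMk u hw, ?_⟩
  ext1
  apply pullback.hom_ext
  · rw [bcMap_left_fst]
    exact hu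
  · rw [bcMap_left_snd]
    exact (Over.w f).symm

/-- Galois descent for isomorphisms. -/
theorem exists_bcIso_eq (ψ : bcK K Y ≅ bcK K Y') (hψ : ∀ σ : K ≃ₐ[k] K, twIso σ ψ = ψ) :
    ∃ e : Y ≅ Y', bcIso e = ψ := by
  obtain ⟨e, he⟩ := exists_bcMap_eq ψ.hom (fun σ => congrArg Iso.hom (hψ σ))
  obtain ⟨e', he'⟩ := exists_bcMap_eq ψ.inv (fun σ => congrArg Iso.inv (hψ σ))
  refine ⟨⟨e, e', ?_, ?_⟩, Iso.ext he⟩
  · apply bcMap_injective (K := K)
    rw [bcMap_comp, he, he', ψ.hom_inv_id, bcMap_id]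
  · apply bcMap_injective (K := K)
    rw [bcMap_comp, he, he', ψ.inv_hom_id, bcMap_id]

/-- **Forms are classified by their cocycles** (S15690). -/
theorem nonempty_iso_iff_cohomologous
    (a b : GpH1.OneCocycle (K ≃ₐ[k] K) (Aut (bcK K X)))
    (hY : IsTwist K X a Y) (hY' : IsTwist K X b Y') :
    Nonempty (Y ≅ Y') ↔ GpH1.Cohomologous a b := by
  obtain ⟨φ, hφ⟩ := hY
  obtain ⟨φ', hφ'⟩ := hY'
  constructor
  · rintro ⟨e⟩
    refine ⟨cOf φ φ' (bcIso e), fun σ => ?_⟩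
    rw [← hφ σ, ← hφ' σ]
    exact cocycle_eq_of_invariant φ φ' (bcIso e) (fun τ => twIso_bcIso τ e) σ
  · rintro ⟨c, hc⟩
    obtain ⟨e, -⟩ := exists_bcIso_eq (φ ≪≫ c ≪≫ φ'.symm) (fun σ =>
      invariant_of_cocycle_eq φ φ' c σ (by rw [hφ σ, hφ' σ]; exact hc σ))
    exact ⟨e⟩

end Descent

end Groth.Agent.Lib.Helper27.GalTwDesc
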