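import Groth.Agent.Lib.Helper27.GalTwDesc

/-!
# Galois twists of group schemes: isomorphic forms have cohomologous cocycles (helper27)
-/

set_option autoImplicit false
set_option backward.isDefEq.respectTransparency false
set_option backward.isDefEq.respectTransparency.types false

universe u v₁ v₂ u₁ u₂

open CategoryTheory CategoryTheory.Limits AlgebraicGeometry MonoidalCategory MonObj

namespace Groth.Agent.Lib.Helper27.GalTwDesc

section Abstract

open scoped Obj

variable {C : Type u₁} [Category.{v₁} C] [MonoidalCategory C]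
  {D : Type u₂} [Category.{v₂} D] [MonoidalCategory D]

/-- A monoidal functor injective on morphisms reflects morphisms of monoid objects. -/
theorem isMonHom_of_map (F : C ⥤ D) [F.Monoidal]
    (hinj : ∀ {A B : C} (g g' : A ⟶ B), F.map g = F.map g' → g = g')
    {M N : C} [MonObj M] [MonObj N] (f : M ⟶ N) (hf : IsMonHom (F.map f)) : IsMonHom f where
  one_hom := by
    apply hinj
    have h := hf.one_hom
    rw [Functor.obj.η_def, Functor.obj.η_def, Category.assoc] at h
    rw [F.map_comp]
    exact (cancel_epi (Functor.LaxMonoidal.ε F)).1 h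
  mul_hom := by
    apply hinj
    have h := hf.mul_hom
    rw [Functor.obj.μ_def, Functor.obj.μ_def, Category.assoc,
      Functor.LaxMonoidal.μ_natural_assoc] at h
    rw [F.map_comp, F.map_comp]
    exact (cancel_epi (Functor.LaxMonoidal.μ F M M)).1 h

end Abstract

open GalTw

variable {k : Type u} [Field k] {K : Type u} [Field K] [Algebra k K]
variable {G₀ G G' : Over (Spec (CommRingCat.of k))} [GrpObj G₀] [GrpObj G] [GrpObj G']

theorem isMonHom_bcMap (e : G ⟶ G') [IsMonHom e] : IsMonHom (bcMap (K := K) e) :=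
  Functor.map.instIsMonHom (F := Over.pullback (SGA7.pt (K := k) K).hom) G G' e

theorem isMonHom_of_bcMap (e : G ⟶ G') (h : IsMonHom (bcMap (K := K) e)) : IsMonHom e :=
  isMonHom_of_map (Over.pullback (SGA7.pt (K := k) K).hom)
    (fun g g' hg => bcMap_injective (K := K) hg) e h

variable [FiniteDimensional k K] [IsGalois k K]

/-- **Forms of group schemes are classified by their cocycles** (S16061). -/
theorem exists_grpIso_iff
    (a b : GpH1.OneCocycle (K ≃ₐ[k] K) (Aut (bcK K G₀)))
    (hG : IsGrpTwist K G₀ a G) (hG' : IsGrpTwist K G₀ b G') :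
    (∃ e : G ≅ G', IsMonHom e.hom) ↔
      ∃ c : Aut (bcK K G₀), c ∈ grpAuts K G₀ ∧
        ∀ σ : K ≃ₐ[k] K, a σ = c⁻¹ * b σ * σ • c := by
  obtain ⟨φ, hφm, hφ⟩ := hG
  obtain ⟨φ', hφ'm, hφ'⟩ := hG'
  haveI := hφm
  haveI := hφ'm
  constructor
  · rintro ⟨e, he⟩
    haveI := he
    refine ⟨cOf φ φ' (bcIso e), ?_, fun σ => ?_⟩
    · rw [mem_grpAuts]
      haveI : IsMonHom (bcMap (K := K) e.hom) := isMonHom_bcMap e.hom
      change IsMonHom (φ.inv ≫ bcMap e.hom ≫ φ'.hom)
      infer_instance
    · rw [← hφ σ, ← hφ' σ]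
      exact cocycle_eq_of_invariant φ φ' (bcIso e) (fun τ => twIso_bcIso τ e) σ
  · rintro ⟨c, hcm, hc⟩
    obtain ⟨e, he⟩ := exists_bcIso_eq (φ ≪≫ c ≪≫ φ'.symm) (fun σ =>
      invariant_of_cocycle_eq φ φ' c σ (by rw [hφ σ, hφ' σ]; exact hc σ))
    refine ⟨e, isMonHom_of_bcMap (K := K) e.hom ?_⟩
    have h1 : bcMap (K := K) e.hom = φ.hom ≫ c.hom ≫ φ'.inv := congrArg Iso.hom he
    rw [h1]
    haveI : IsMonHom c.hom := hcm
    infer_instance

end Groth.Agent.Lib.Helper27.GalTwDesc
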