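import Groth.Prelude.Def_AlgSpRep
import Mathlib.CategoryTheory.Limits.Types.Pullbacks
import Mathlib.CategoryTheory.Sites.SheafOfTypes

/-!
# Presheaf-level bootstrap for maps representable by algebraic spaces (helper27)
-/

set_option autoImplicit false
set_option backward.isDefEq.respectTransparency false
set_option backward.isDefEq.respectTransparency.types false

universe u

open CategoryTheory CategoryTheory.Limits AlgebraicGeometry Opposite

namespace Groth.Agent.Lib.Helper27.PshBoot

variable {S : Scheme.{u}}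

section Pointwise

variable {F G H F' : AlgSp.PSp S} {a : F ⟶ G} {ξ : H ⟶ G} {fst : F' ⟶ F} {snd : F' ⟶ H}

theorem sq_app (sq : IsPullback fst snd a ξ) (T : (Over S)ᵒᵖ) (z : F'.obj T) :
    a.app T (fst.app T z) = ξ.app T (snd.app T z) := by
  have := congrArg (fun (m : F' ⟶ G) => m.app T z) sq.w
  exact this

theorem sq_ext (sq : IsPullback fst snd a ξ) {T : (Over S)ᵒᵖ} {z z' : F'.obj T}
    (h1 : fst.app T z = fst.app T z') (h2 : snd.app T z = snd.app T z') : z = z' :=
  Types.ext_of_isPullback (sq.app T) h1 h2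

theorem sq_exists (sq : IsPullback fst snd a ξ) {T : (Over S)ᵒᵖ} (x : F.obj T) (h : H.obj T)
    (hx : a.app T x = ξ.app T h) : ∃ z : F'.obj T, fst.app T z = x ∧ snd.app T z = h :=
  Types.exists_of_isPullback (sq.app T) x h hx

end Pointwise

theorem yonedaSymm_app {G : AlgSp.PSp S} {T : Over S} (y : G.obj (op T)) {V : Over S} (f : V ⟶ T) :
    ((CategoryTheory.uliftYonedaEquiv.{u + 1} (X := T) (F := G)).symm y).app (op V) ⟨f⟩ =
      G.map f.op y := rfl

theorem isSheaf_of_repBySp {F G : AlgSp.PSp S} (a : F ⟶ G) (ha : AlgSp.RepBySp a)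
    (hG : Presheaf.IsSheaf (AlgSp.J S) G) : Presheaf.IsSheaf (AlgSp.J S) F := by
  rw [isSheaf_iff_isSheaf_of_type] at hG ⊢
  intro T R hR x hx
  have hy : (Presieve.FamilyOfElements.map x a).Compatible :=
    Presieve.FamilyOfElements.Compatible.map a hx
  obtain ⟨y, hy1, hy2⟩ := hG R hR (Presieve.FamilyOfElements.map x a) hy
  let ξ : (AlgSp.pyon S).obj T ⟶ G :=
    (CategoryTheory.uliftYonedaEquiv.{u + 1} (X := T) (F := G)).symm y
  have sq : IsPullback (pullback.fst a ξ) (pullback.snd a ξ) a ξ := IsPullback.of_hasPullback a ξ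
  obtain ⟨hF', -⟩ := ha ξ _ _ sq
  rw [isSheaf_iff_isSheaf_of_type] at hF'
  have hz : ∀ ⦃V : Over S⦄ (f : V ⟶ T) (hf : R f), ∃ z : (pullback a ξ).obj (op V),
      (pullback.fst a ξ).app (op V) z = x f hf ∧ (pullback.snd a ξ).app (op V) z = ⟨f⟩ := by
    intro V f hf
    apply sq_exists sq
    rw [yonedaSymm_app]
    exact (hy1 f hf).symm
  choose z hz1 hz2 using hz
  have hzc : Presieve.FamilyOfElements.Compatible (P := pullback a ξ) (R := R.arrows) z := by
    intro Y₁ Y₂ Z g₁ g₂ f₁ f₂ h₁ h₂ hcomm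
    apply sq_ext sq
    · have e1 := (pullback.fst a ξ).naturality_apply g₁.op (z f₁ h₁)
      have e2 := (pullback.fst a ξ).naturality_apply g₂.op (z f₂ h₂)
      rw [e1, e2, hz1, hz1]
      exact hx g₁ g₂ h₁ h₂ hcomm
    · have e1 := (pullback.snd a ξ).naturality_apply g₁.op (z f₁ h₁)
      have e2 := (pullback.snd a ξ).naturality_apply g₂.op (z f₂ h₂)
      rw [e1, e2, hz2, hz2]
      apply ULift.ext
      exact hcomm
  obtain ⟨t, ht1, ht2⟩ := hF' R hR z hzc
  refine ⟨(pullback.fst a ξ).app (op T) t, ?_, ?_⟩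
  · intro V f hf
    have e1 := (pullback.fst a ξ).naturality_apply f.op t
    change F.map f.op ((pullback.fst a ξ).app (op T) t) = x f hf
    rw [← e1, ht1 f hf, hz1]
  · intro x' hx'
    -- a x' = y
    have hax' : a.app (op T) x' = y := by
      apply hy2
      intro V f hf
      have e1 := a.naturality_apply f.op x'
      change G.map f.op (a.app (op T) x') = a.app (op V) (x f hf)
      rw [← e1, hx' f hf]
    obtain ⟨t', ht'1, ht'2⟩ := sq_exists sq (T := op T) x' (⟨𝟙 T⟩ : ULift (T ⟶ T)) (by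
      rw [yonedaSymm_app, hax']
      simp)
    have htt' : t' = t := by
      apply ht2
      intro V f hf
      apply sq_ext sq
      · have e1 := (pullback.fst a ξ).naturality_apply f.op t'
        change (pullback.fst a ξ).app (op V) ((pullback a ξ).map f.op t') = _
        rw [e1, ht'1, hz1]
        exact hx' f hf
      · have e1 := (pullback.snd a ξ).naturality_apply f.op t'
        change (pullback.snd a ξ).app (op V) ((pullback a ξ).map f.op t') = _
        rw [e1, ht'2, hz2]
        apply ULift.ext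
        simp
    rw [← htt', ht'1]

section SpPointwise

variable {A B C' D : AlgSp.Sp S} {f : B ⟶ D} {g : C' ⟶ D} {fst : A ⟶ B} {snd : A ⟶ C'}

theorem sp_sq_app (sq : IsPullback fst snd f g) (T : (Over S)ᵒᵖ) (z : A.obj.obj T) :
    f.hom.app T (fst.hom.app T z) = g.hom.app T (snd.hom.app T z) :=
  sq_app (sq.map (sheafToPresheaf (AlgSp.J S) (Type (u + 1)))) T z

theorem sp_sq_ext (sq : IsPullback fst snd f g) {T : (Over S)ᵒᵖ} {z z' : A.obj.obj T}
    (h1 : fst.hom.app T z = fst.hom.app T z') (h2 : snd.hom.app T z = snd.hom.app T z') : z = z' :=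
  sq_ext (sq.map (sheafToPresheaf (AlgSp.J S) (Type (u + 1)))) h1 h2

theorem sp_sq_exists (sq : IsPullback fst snd f g) {T : (Over S)ᵒᵖ} (b : B.obj.obj T)
    (c : C'.obj.obj T) (hbc : f.hom.app T b = g.hom.app T c) :
    ∃ z : A.obj.obj T, fst.hom.app T z = b ∧ snd.hom.app T z = c :=
  sq_exists (sq.map (sheafToPresheaf (AlgSp.J S) (Type (u + 1)))) b c hbc

theorem sp_isPullback_of
    (hw : ∀ (T : (Over S)ᵒᵖ) (z : A.obj.obj T),
      f.hom.app T (fst.hom.app T z) = g.hom.app T (snd.hom.app T z))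
    (hinj : ∀ (T : (Over S)ᵒᵖ) (z z' : A.obj.obj T), fst.hom.app T z = fst.hom.app T z' →
      snd.hom.app T z = snd.hom.app T z' → z = z')
    (hsurj : ∀ (T : (Over S)ᵒᵖ) (b : B.obj.obj T) (c : C'.obj.obj T),
      f.hom.app T b = g.hom.app T c → ∃ z : A.obj.obj T, fst.hom.app T z = b ∧ snd.hom.app T z = c) :
    IsPullback fst snd f g := by
  apply IsPullback.of_map_of_faithful (sheafToPresheaf (AlgSp.J S) (Type (u + 1)))
  apply IsPullback.of_forall_isPullback_app
  intro T
  rw [Types.isPullback_iff]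
  refine ⟨?_, ?_, ?_⟩
  · ext z
    exact hw T z
  · intro z z' h
    exact hinj T z z' h.1 h.2
  · intro b c h
    exact hsurj T b c h

end SpPointwise

end Groth.Agent.Lib.Helper27.PshBoot
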