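import Groth.Agent.Lib.Helper27.PshBootDiag

/-!
# Base change to spaces and composition of maps representable by algebraic spaces (helper27)
-/

set_option autoImplicit false
set_option backward.isDefEq.respectTransparency false
set_option backward.isDefEq.respectTransparency.types false

universe u

open CategoryTheory CategoryTheory.Limits AlgebraicGeometry Opposite

namespace Groth.Agent.Lib.Helper27.PshBootComp

open Groth.Agent.Lib.Helper27.PshBoot Groth.Agent.Lib.Helper27.PshBootDiag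

variable {S : Scheme.{u}}

theorem isAlgSpaceP_of_repBySp {F G : AlgSp.PSp S} (a : F ⟶ G) (ha : AlgSp.RepBySp a)
    (hG : AlgSp.IsAlgSpaceP G) : AlgSp.IsAlgSpaceP F := by
  obtain ⟨hGs, hGa⟩ := hG
  have hFs := isSheaf_of_repBySp a ha hGs
  refine ⟨hFs, ?_⟩
  exact isAlgSpace_of_repBySp (F := ⟨F, hFs⟩) (G := ⟨G, hGs⟩) (ObjectProperty.homMk a) ha hGa

/-- Base change of a map representable by algebraic spaces. -/
theorem repBySp_of_isPullback {F G X F' : AlgSp.PSp S} {a : F ⟶ G} (ha : AlgSp.RepBySp a)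
    {ξ : X ⟶ G} {fst : F' ⟶ X} {snd : F' ⟶ F} (sq : IsPullback fst snd ξ a) :
    AlgSp.RepBySp fst := by
  intro U η F'' fst'' snd'' sq''
  exact ha (η ≫ ξ) (fst'' ≫ snd) snd'' (sq''.paste_horiz sq.flip)

theorem isAlgSpaceP_pullback {F G X F' : AlgSp.PSp S} {a : F ⟶ G} (ha : AlgSp.RepBySp a)
    (hX : AlgSp.IsAlgSpaceP X) {ξ : X ⟶ G} {fst : F' ⟶ X} {snd : F' ⟶ F}
    (sq : IsPullback fst snd ξ a) : AlgSp.IsAlgSpaceP F' :=
  isAlgSpaceP_of_repBySp fst (repBySp_of_isPullback ha sq) hX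

theorem repBySp_comp {F G H : AlgSp.PSp S} (a : F ⟶ G) (b : G ⟶ H) (ha : AlgSp.RepBySp a)
    (hb : AlgSp.RepBySp b) : AlgSp.RepBySp (a ≫ b) := by
  intro U ξ F' fst snd sq
  have sqG : IsPullback (pullback.fst b ξ) (pullback.snd b ξ) b ξ := IsPullback.of_hasPullback _ _
  have hG' : AlgSp.IsAlgSpaceP (pullback b ξ) := hb ξ _ _ sqG
  let l : F' ⟶ pullback b ξ := pullback.lift (fst ≫ a) snd (by rw [Category.assoc]; exact sq.w)
  have hl1 : l ≫ pullback.fst b ξ = fst ≫ a := pullback.lift_fst _ _ _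
  have hl2 : l ≫ pullback.snd b ξ = snd := pullback.lift_snd _ _ _
  have top : IsPullback fst l a (pullback.fst b ξ) := by
    apply IsPullback.of_bot _ hl1.symm sqG
    rw [hl2]
    exact sq
  exact isAlgSpaceP_pullback ha hG' top.flip

theorem isAlgSpaceP_pyon (V : Over S) : AlgSp.IsAlgSpaceP ((AlgSp.pyon S).obj V) :=
  (AlgSp.isAlgSpaceP_obj_iff ((AlgSp.yon S).obj V)).2 (AlgSp.IsAlgSpace.yon_obj V)

theorem repBySp_of_relativelyRepresentable {F G : AlgSp.PSp S} (a : F ⟶ G)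
    (ha : (AlgSp.pyon S).relativelyRepresentable a) : AlgSp.RepBySp a := by
  intro U ξ F' fst snd sq
  obtain ⟨V, snd', fst', sq'⟩ := ha ξ
  exact (isAlgSpaceP_pyon V).of_iso (sq'.isoIsPullback _ _ sq)

theorem of_prod_snd_with_id {C : Type*} [Category C] {A B : C} (f : A ⟶ B) (X : C)
    [HasBinaryProduct X A] [HasBinaryProduct X B] :
    IsPullback prod.snd (prod.map (𝟙 X) f) f prod.snd := by
  apply IsPullback.mk'
  · simp
  · intro T φ φ' h1 h2
    ext
    · have := congrArg (fun m => m ≫ prod.fst) h2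
      simpa using this
    · exact h1
  · intro T a b hab
    refine ⟨prod.lift (b ≫ prod.fst) a, ?_, ?_⟩
    · simp
    · ext
      · simp
      · simp [hab]

theorem repBySp_prod_map {F₁ G₁ F₂ G₂ : AlgSp.PSp S} (a₁ : F₁ ⟶ G₁) (a₂ : F₂ ⟶ G₂)
    (h₁ : AlgSp.RepBySp a₁) (h₂ : AlgSp.RepBySp a₂) : AlgSp.RepBySp (prod.map a₁ a₂) := by
  have e : prod.map a₁ a₂ = prod.map a₁ (𝟙 F₂) ≫ prod.map (𝟙 G₁) a₂ := by
    ext <;> simp
  rw [e]
  apply repBySp_comp
  · exact repBySp_of_isPullback h₁ (IsPullback.of_prod_fst_with_id a₁ F₂).flip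
  · exact repBySp_of_isPullback h₂ (of_prod_snd_with_id a₂ G₁).flip

theorem repBySp_of_comp_of_diagonal {F G H : AlgSp.PSp S} (a : F ⟶ G) (b : G ⟶ H)
    (hΔ : AlgSp.RepBySp (pullback.diagonal b)) (hab : AlgSp.RepBySp (a ≫ b)) : AlgSp.RepBySp a := by
  have h1 : AlgSp.RepBySp (pullback.lift (𝟙 F) a (by simp) : F ⟶ pullback (a ≫ b) b) :=
    repBySp_of_isPullback hΔ (pullback_lift_diagonal_isPullback a b).flip
  have h2 : AlgSp.RepBySp (pullback.snd (a ≫ b) b) :=
    repBySp_of_isPullback hab (IsPullback.of_hasPullback (a ≫ b) b).flip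
  have e : a = (pullback.lift (𝟙 F) a (by simp) : F ⟶ pullback (a ≫ b) b) ≫ pullback.snd (a ≫ b) b := by
    simp
  rw [e]
  exact repBySp_comp _ _ h1 h2

end Groth.Agent.Lib.Helper27.PshBootComp
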