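import Groth.Agent.Lib.Helper27.PshBoot

/-!
# Bootstrap: a sheaf with a map representable by algebraic spaces to an algebraic space is an
algebraic space (helper27)
-/

set_option autoImplicit false
set_option backward.isDefEq.respectTransparency false
set_option backward.isDefEq.respectTransparency.types false

universe u

open CategoryTheory CategoryTheory.Limits AlgebraicGeometry Opposite

namespace Groth.Agent.Lib.Helper27.PshBootDiag

open Groth.Agent.Lib.Helper27.PshBoot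

variable {S : Scheme.{u}}

/-- The map `h_T ⟶ F` of a section. -/
noncomputable abbrev ι {F : AlgSp.Sp S} {T : Over S} (x₀ : F.obj.obj (op T)) : (AlgSp.yon S).obj T ⟶ F :=
  (GrothendieckTopology.uliftYonedaEquiv.{u + 1} (AlgSp.J S) (X := T) (F := F)).symm x₀

theorem ι_app {F : AlgSp.Sp S} {T : Over S} (x₀ : F.obj.obj (op T)) {R : Over S} (t : R ⟶ T) :
    (ι x₀).hom.app (op R) ⟨t⟩ = F.obj.map t.op x₀ := rfl

theorem exists_ι {F : AlgSp.Sp S} {T : Over S} (x : (AlgSp.yon S).obj T ⟶ F) :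
    ∃ x₀ : F.obj.obj (op T), x = ι x₀ :=
  ⟨_, ((GrothendieckTopology.uliftYonedaEquiv.{u + 1} (AlgSp.J S) (X := T) (F := F)).symm_apply_apply
    x).symm⟩

theorem yon_map_app {V T : Over S} (p : V ⟶ T) {R : Over S} (r : R ⟶ V) :
    ((AlgSp.yon S).map p).hom.app (op R) ⟨r⟩ = ⟨r ≫ p⟩ := rfl

theorem map_comp_apply' {F : AlgSp.Sp S} {R V T : Over S} (r : R ⟶ V) (p : V ⟶ T)
    (x₀ : F.obj.obj (op T)) :
    F.obj.map (r ≫ p).op x₀ = F.obj.map r.op (F.obj.map p.op x₀) := by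
  rw [op_comp, Functor.map_comp_apply]

theorem hom_nat {F G : AlgSp.Sp S} (a : F ⟶ G) {R T : Over S} (t : R ⟶ T) (x₀ : F.obj.obj (op T)) :
    a.hom.app (op R) (F.obj.map t.op x₀) = G.obj.map t.op (a.hom.app (op T) x₀) :=
  a.hom.naturality_apply t.op x₀

theorem isPullback_yon_of {F : AlgSp.Sp S} {T T' V : Over S} (x₀ : F.obj.obj (op T))
    (x₀' : F.obj.obj (op T')) (p : V ⟶ T) (q : V ⟶ T')
    (hw : F.obj.map p.op x₀ = F.obj.map q.op x₀')
    (huniq : ∀ (R : Over S) (r r' : R ⟶ V), r ≫ p = r' ≫ p → r ≫ q = r' ≫ q → r = r')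
    (hex : ∀ (R : Over S) (t : R ⟶ T) (t' : R ⟶ T'), F.obj.map t.op x₀ = F.obj.map t'.op x₀' →
      ∃ r : R ⟶ V, r ≫ p = t ∧ r ≫ q = t') :
    IsPullback ((AlgSp.yon S).map p) ((AlgSp.yon S).map q) (ι x₀) (ι x₀') := by
  apply sp_isPullback_of
  · intro R z
    obtain ⟨r⟩ := z
    obtain ⟨R⟩ := R
    rw [yon_map_app, yon_map_app, ι_app, ι_app, map_comp_apply', map_comp_apply', hw]
  · intro R z z' h1 h2
    obtain ⟨r⟩ := z
    obtain ⟨r'⟩ := z'
    obtain ⟨R⟩ := R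
    rw [yon_map_app, yon_map_app] at h1 h2
    have h1' : r ≫ p = r' ≫ p := congrArg ULift.down h1
    have h2' : r ≫ q = r' ≫ q := congrArg ULift.down h2
    rw [huniq R r r' h1' h2']
  · intro R b c hbc
    obtain ⟨t⟩ := b
    obtain ⟨t'⟩ := c
    obtain ⟨R⟩ := R
    rw [ι_app, ι_app] at hbc
    obtain ⟨r, hr1, hr2⟩ := hex R t t' hbc
    refine ⟨⟨r⟩, ?_, ?_⟩
    · rw [yon_map_app, hr1]
    · rw [yon_map_app, hr2]

theorem yon_sq_w {F : AlgSp.Sp S} {T T' V : Over S} {x₀ : F.obj.obj (op T)}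
    {x₀' : F.obj.obj (op T')} {p : V ⟶ T} {q : V ⟶ T'}
    (sq : IsPullback ((AlgSp.yon S).map p) ((AlgSp.yon S).map q) (ι x₀) (ι x₀')) :
    F.obj.map p.op x₀ = F.obj.map q.op x₀' := by
  have := sp_sq_app sq (op V) ⟨𝟙 V⟩
  rw [yon_map_app, yon_map_app, ι_app, ι_app, Category.id_comp, Category.id_comp] at this
  exact this

theorem yon_sq_uniq {F : AlgSp.Sp S} {T T' V : Over S} {x₀ : F.obj.obj (op T)}
    {x₀' : F.obj.obj (op T')} {p : V ⟶ T} {q : V ⟶ T'}
    (sq : IsPullback ((AlgSp.yon S).map p) ((AlgSp.yon S).map q) (ι x₀) (ι x₀'))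
    (R : Over S) (r r' : R ⟶ V) (h1 : r ≫ p = r' ≫ p) (h2 : r ≫ q = r' ≫ q) : r = r' := by
  have := sp_sq_ext sq (T := op R) (z := ⟨r⟩) (z' := ⟨r'⟩)
    (by rw [yon_map_app, yon_map_app, h1]) (by rw [yon_map_app, yon_map_app, h2])
  exact congrArg ULift.down this

theorem yon_sq_ex {F : AlgSp.Sp S} {T T' V : Over S} {x₀ : F.obj.obj (op T)}
    {x₀' : F.obj.obj (op T')} {p : V ⟶ T} {q : V ⟶ T'}
    (sq : IsPullback ((AlgSp.yon S).map p) ((AlgSp.yon S).map q) (ι x₀) (ι x₀'))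
    (R : Over S) (t : R ⟶ T) (t' : R ⟶ T') (h : F.obj.map t.op x₀ = F.obj.map t'.op x₀') :
    ∃ r : R ⟶ V, r ≫ p = t ∧ r ≫ q = t' := by
  obtain ⟨z, hz1, hz2⟩ := sp_sq_exists sq (T := op R) (⟨t⟩ : ULift (R ⟶ T)) (⟨t'⟩ : ULift (R ⟶ T'))
    (by rw [ι_app, ι_app, h])
  obtain ⟨r⟩ := z
  rw [yon_map_app] at hz1 hz2
  exact ⟨r, congrArg ULift.down hz1, congrArg ULift.down hz2⟩

/-- Representability of a map from a scheme, in elementwise form. -/
theorem exists_rep_of_representable {F : AlgSp.Sp S} {T : Over S} (x₀ : F.obj.obj (op T))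
    (h : AlgSp.Representable (ι x₀)) {T' : Over S} (x₀' : F.obj.obj (op T')) :
    ∃ (V : Over S) (p : V ⟶ T) (q : V ⟶ T'),
      IsPullback ((AlgSp.yon S).map p) ((AlgSp.yon S).map q) (ι x₀) (ι x₀') := by
  obtain ⟨V, q, fst, sq⟩ := h (ι x₀')
  obtain ⟨p, rfl⟩ := (AlgSp.yon S).map_surjective fst
  exact ⟨V, p, q, sq⟩

theorem yon_obj_map {W V : Over S} (v : V ⟶ W) (r : ULift.{u + 1} (W ⟶ W)) :
    ((AlgSp.yon S).obj W).obj.map v.op r = ⟨v ≫ r.down⟩ := rfl

theorem representable_ι_of_repBySp {F G : AlgSp.Sp S} (a : F ⟶ G) (ha : AlgSp.RepBySp a.hom)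
    (hG : AlgSp.IsAlgSpace G) {T : Over S} (x₀ : F.obj.obj (op T)) :
    AlgSp.Representable (ι x₀) := by
  intro T' g
  obtain ⟨x₀', rfl⟩ := exists_ι g
  obtain ⟨W, w, w', sqW⟩ := exists_rep_of_representable (a.hom.app (op T) x₀)
    (hG.representable_from_yon (ι (a.hom.app (op T) x₀))) (a.hom.app (op T') x₀')
  have hWw := yon_sq_w sqW
  obtain ⟨η, hη⟩ : ∃ η : G.obj.obj (op W), η = G.obj.map w.op (a.hom.app (op T) x₀) := ⟨_, rfl⟩
  have sqF : IsPullback (pullback.fst a (ι η)) (pullback.snd a (ι η)) a (ι η) :=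
    IsPullback.of_hasPullback _ _
  have hFW : AlgSp.IsAlgSpace (pullback a (ι η)) :=
    (AlgSp.repBySp_hom_iff a).1 ha (ι η) _ _ sqF
  have hid : (ι η).hom.app (op W) (⟨𝟙 W⟩ : ULift (W ⟶ W)) = η := by
    rw [ι_app, op_id, G.obj.map_id]
    rfl
  obtain ⟨s₀, hs1, hs2⟩ := sp_sq_exists sqF (T := op W) (F.obj.map w.op x₀)
    (⟨𝟙 W⟩ : ULift (W ⟶ W)) (by rw [hom_nat, hid, hη])
  obtain ⟨s₀', hs1', hs2'⟩ := sp_sq_exists sqF (T := op W) (F.obj.map w'.op x₀')
    (⟨𝟙 W⟩ : ULift (W ⟶ W)) (by rw [hom_nat, hid, hη, hWw])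
  obtain ⟨V, v, v', sqV⟩ := exists_rep_of_representable s₀
    (hFW.representable_from_yon (ι s₀)) s₀'
  have hVw := yon_sq_w sqV
  have hvv' : v = v' := by
    have h := congrArg (fun z => (pullback.snd a (ι η)).hom.app (op V) z) hVw
    simp only at h
    rw [hom_nat, hom_nat, hs2, hs2', yon_obj_map, yon_obj_map] at h
    have h' := congrArg ULift.down h
    simpa using h'
  subst hvv'
  refine ⟨V, v ≫ w', (AlgSp.yon S).map (v ≫ w), ?_⟩
  apply isPullback_yon_of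
  · have h := congrArg (fun z => (pullback.fst a (ι η)).hom.app (op V) z) hVw
    simp only at h
    rw [hom_nat, hom_nat, hs1, hs1'] at h
    rw [map_comp_apply', map_comp_apply']
    exact h
  · intro R r r' h1 h2
    apply yon_sq_uniq sqV R r r'
    · apply yon_sq_uniq sqW R (r ≫ v) (r' ≫ v)
      · simpa using h1
      · simpa using h2
    · apply yon_sq_uniq sqW R (r ≫ v) (r' ≫ v)
      · simpa using h1
      · simpa using h2
  · intro R t t' htt'
    have h1 : G.obj.map t.op (a.hom.app (op T) x₀) = G.obj.map t'.op (a.hom.app (op T') x₀') := by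
      rw [← hom_nat, ← hom_nat, htt']
    obtain ⟨ω, hω1, hω2⟩ := yon_sq_ex sqW R t t' h1
    have h2 : (pullback a (ι η)).obj.map ω.op s₀ = (pullback a (ι η)).obj.map ω.op s₀' := by
      apply sp_sq_ext sqF
      · rw [hom_nat, hom_nat, hs1, hs1', ← map_comp_apply', ← map_comp_apply', hω1, hω2, htt']
      · rw [hom_nat, hom_nat, hs2, hs2']
    obtain ⟨r, hr1, hr2⟩ := yon_sq_ex sqV R ω ω h2
    refine ⟨r, ?_, ?_⟩
    · rw [← Category.assoc, hr1, hω1]
    · rw [← Category.assoc, hr1, hω2]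

theorem representable_diag_of_repBySp {F G : AlgSp.Sp S} (a : F ⟶ G) (ha : AlgSp.RepBySp a.hom)
    (hG : AlgSp.IsAlgSpace G) : AlgSp.Representable (Limits.diag F) := by
  apply Functor.relativelyRepresentable.diag_of_map_from_obj
  intro T x
  obtain ⟨x₀, rfl⟩ := exists_ι x
  exact representable_ι_of_repBySp a ha hG x₀

theorem isAlgSpace_of_repBySp {F G : AlgSp.Sp S} (a : F ⟶ G) (ha : AlgSp.RepBySp a.hom)
    (hG : AlgSp.IsAlgSpace G) : AlgSp.IsAlgSpace F where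
  diag := representable_diag_of_repBySp a ha hG
  atlas := by
    obtain ⟨U, p, hpe, hps⟩ := hG.atlas
    have sq : IsPullback (pullback.fst a p) (pullback.snd a p) a p := IsPullback.of_hasPullback _ _
    have hFU : AlgSp.IsAlgSpace (pullback a p) := (AlgSp.repBySp_hom_iff a).1 ha p _ _ sq
    obtain ⟨V, q, hqe, hqs⟩ := hFU.atlas
    refine ⟨V, q ≫ pullback.fst a p, ?_, ?_⟩
    · exact (AlgSp.RepWith @Etale).comp_mem _ _ hqe
        ((AlgSp.RepWith @Etale).of_isPullback sq.flip hpe)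
    · exact (AlgSp.RepWith @Surjective).comp_mem _ _ hqs
        ((AlgSp.RepWith @Surjective).of_isPullback sq.flip hps)

end Groth.Agent.Lib.Helper27.PshBootDiag
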