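import Groth.Agent.Lib.Helper27.ExtFiltTop
import Mathlib.Topology.Sheaves.Flasque
import Mathlib.Topology.NoetherianSpace

/-!
# Filtered colimits of flasque abelian sheaves on a Noetherian space are flasque
-/

set_option autoImplicit false

universe u

open CategoryTheory CategoryTheory.Limits Opposite TopologicalSpace

namespace Groth.Agent.Lib.Helper27.ExtFilt

variable {X : TopCat.{u}}

theorem isQCQSSite_of_isCompact [PrespectralSpace X] [QuasiSeparatedSpace X] (U : Opens X)
    (hU : IsCompact (U : Set X)) : IsQCQSSite (Opens.grothendieckTopology X) U :=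
  isQCQSSite_of_mem (Opens.grothendieckTopology X) {U : Opens X | IsCompact (U : Set X)}
    (TopCov X) topCov_h1 topCov_h2 U hU

theorem quasiSeparatedSpace_of_noetherian [NoetherianSpace X] : QuasiSeparatedSpace X :=
  ⟨fun _ _ _ _ _ _ => NoetherianSpace.isCompact _⟩

variable {I : Type u} [SmallCategory I] [IsFiltered I]

/-- sections of a filtered colimit of abelian sheaves over a compact open of a prespectral
quasi-separated space come from a member of the diagram -/
theorem top_sections_surj [PrespectralSpace X] [QuasiSeparatedSpace X]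
    (D : I ⥤ Sheaf (Opens.grothendieckTopology X) AddCommGrpCat.{u}) {c : Cocone D}
    (hc : IsColimit c) (U : Opens X) (hU : IsCompact (U : Set X)) (t : c.pt.obj.obj (op U)) :
    ∃ (i : I) (s : (D.obj i).obj.obj (op U)), (c.ι.app i).hom.app (op U) s = t :=
  sections_surj hc (isQCQSSite_of_isCompact U hU) t

theorem isFlasque_colimit [NoetherianSpace X]
    (D : I ⥤ Sheaf (Opens.grothendieckTopology X) AddCommGrpCat.{u})
    (hD : ∀ i : I, TopCat.Sheaf.IsFlasque (D.obj i)) :
    TopCat.Sheaf.IsFlasque
      (colimit D : Sheaf (Opens.grothendieckTopology X) AddCommGrpCat.{u}) := by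
  have := quasiSeparatedSpace_of_noetherian (X := X)
  constructor
  intro U V r
  rw [AddCommGrpCat.epi_iff_surjective]
  intro t
  obtain ⟨i, s, hs⟩ := top_sections_surj D (colimit.isColimit D) V.unop
    (NoetherianSpace.isCompact _) t
  obtain ⟨s', hs'⟩ := (AddCommGrpCat.epi_iff_surjective _).1 ((hD i).epi r) s
  refine ⟨(colimit.ι D i).hom.app U s', ?_⟩
  have := NatTrans.naturality_apply (colimit.ι D i).hom r s'
  refine this.symm.trans ?_
  rw [hs']
  exact hs

end Groth.Agent.Lib.Helper27.ExtFilt
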