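import Groth.Agent.Lib.Helper27.ExtFiltTop

/-!
# Cohomology over a compact quasi-separated open of a prespectral space commutes with filtered
colimits (helper27)

Variant of `ExtFiltTop` where only the open `U₀` (not the whole space) is quasi-separated.
-/

set_option autoImplicit false

universe u

open CategoryTheory CategoryTheory.Limits Opposite TopologicalSpace

namespace Groth.Agent.Lib.Helper27.ExtFilt

section TopIn

variable {X : TopCat.{u}} (U₀ : Opens X)

/-- finite nonempty intersections of compact opens inside a quasi-separated open are compact -/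
theorem isCompact_biInter_finset_in (hqs : IsQuasiSeparated (U₀ : Set X)) {κ : Type*}
    (f : κ → Opens X) (hf : ∀ k, IsCompact (f k : Set X)) (hle : ∀ k, f k ≤ U₀)
    (s : Finset κ) (hs : s.Nonempty) :
    IsCompact (⋂ k ∈ s, (f k : Set X)) ∧ (⋂ k ∈ s, (f k : Set X)) ⊆ (U₀ : Set X) := by
  classical
  induction hs using Finset.Nonempty.cons_induction with
  | singleton a =>
    simp only [Finset.mem_singleton, Set.iInter_iInter_eq_left]
    exact ⟨hf a, hle a⟩
  | cons a s h hs ih =>
    rw [Finset.cons_eq_insert, Finset.set_biInter_insert]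
    refine ⟨hqs _ _ (hle a) (f a).2 (hf a) ih.2 (isOpen_biInter_finset (fun k _ => (f k).2)) ih.1,
      Set.inter_subset_left.trans (hle a)⟩

/-- the covering families: finite families of compact opens covering a compact open inside `U₀` -/
def TopCovIn (U : Opens X) (ι : Type u) (Y : ι → Over U) : Prop :=
  Finite ι ∧ (IsCompact (U : Set X) ∧ U ≤ U₀) ∧ (∀ i, IsCompact ((Y i).left : Set X)) ∧
    (U : Set X) ⊆ ⋃ i, ((Y i).left : Set X)

theorem topCovIn_h1 (hqs : IsQuasiSeparated (U₀ : Set X)) (U : Opens X) (ι : Type u)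
    (Y : ι → Over U) (h : TopCovIn U₀ U ι Y) :
    Finite ι ∧ U ∈ {U : Opens X | IsCompact (U : Set X) ∧ U ≤ U₀} ∧
      Sieve.ofArrows (fun i => (Y i).left) (fun i => (Y i).hom) ∈
        Opens.grothendieckTopology X U ∧
      ∀ (p : ℕ) (a : Fin (p + 1) → ι),
        (∏ᶜ fun k => Y (a k)).left ∈ {U : Opens X | IsCompact (U : Set X) ∧ U ≤ U₀} := by
  obtain ⟨hfin, hU, hY, hcov⟩ := h
  refine ⟨hfin, hU, ?_, ?_⟩
  · intro x hx
    obtain ⟨i, hi⟩ := Set.mem_iUnion.1 (hcov hx)
    exact ⟨(Y i).left, (Y i).hom, Sieve.ofArrows_mk _ _ i, hi⟩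
  · intro p a
    have hset : (((∏ᶜ fun k => Y (a k)).left : Opens X) : Set X) =
        ⋂ k ∈ (Finset.univ : Finset (Fin (p + 1))), ((Y (a k)).left : Set X) := by
      apply Set.Subset.antisymm
      · intro x hx
        simp only [Finset.mem_univ, Set.iInter_true, Set.mem_iInter]
        intro k
        exact (Pi.π (fun k => Y (a k)) k).left.le hx
      · intro x hx
        simp only [Finset.mem_univ, Set.iInter_true, Set.mem_iInter] at hx
        let V : Opens X := ⟨⋂ k : Fin (p + 1), ((Y (a k)).left : Set X),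
          isOpen_iInter_of_finite (fun k => (Y (a k)).left.2)⟩
        have hVk : ∀ k, V ≤ (Y (a k)).left := fun k y hy => Set.mem_iInter.1 hy k
        have hVU : V ≤ U := (hVk 0).trans (Y (a 0)).hom.le
        let φ : Over.mk (homOfLE hVU) ⟶ ∏ᶜ fun k => Y (a k) :=
          Pi.lift (fun k => Over.homMk (homOfLE (hVk k)) (Subsingleton.elim _ _))
        exact φ.left.le (Set.mem_iInter.2 hx)
    have key := isCompact_biInter_finset_in U₀ hqs (fun k => (Y (a k)).left) (fun k => hY (a k))
      (fun k => ((Y (a k)).hom.le).trans hU.2) Finset.univ Finset.univ_nonempty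
    refine ⟨?_, ?_⟩
    · change IsCompact (((∏ᶜ fun k => Y (a k)).left : Opens X) : Set X)
      rw [hset]
      exact key.1
    · change (((∏ᶜ fun k => Y (a k)).left : Opens X) : Set X) ⊆ (U₀ : Set X)
      rw [hset]
      exact key.2

theorem topCovIn_h2 [PrespectralSpace X] (U : Opens X)
    (hU : U ∈ {U : Opens X | IsCompact (U : Set X) ∧ U ≤ U₀})
    (T : Sieve U) (hT : T ∈ Opens.grothendieckTopology X U) :
    ∃ (ι : Type u) (Y : ι → Over U), TopCovIn U₀ U ι Y ∧ ∀ i, T.arrows (Y i).hom := by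
  obtain ⟨ι, Y, ⟨hfin, hUc, hY, hcov⟩, hT'⟩ := topCov_h2 U hU.1 T hT
  exact ⟨ι, Y, ⟨hfin, ⟨hUc, hU.2⟩, hY, hcov⟩, hT'⟩

/-- cohomology over a compact quasi-separated open of a prespectral space commutes with filtered
colimits -/
theorem preservesColimit_of_isQuasiSeparated [PrespectralSpace X]
    (hc : IsCompact (U₀ : Set X)) (hqs : IsQuasiSeparated (U₀ : Set X))
    {I : Type u} [SmallCategory I] [IsFiltered I] (q : ℕ) (F : I ⥤ CohTop.Ab X) :
    PreservesColimit F
      ((Sheaf.cohomologyPresheafFunctor (Opens.grothendieckTopology X) q).flip.obj (op U₀) :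
        CohTop.Ab X ⥤ AddCommGrpCat.{u}) :=
  preservesColimit_ext (Opens.grothendieckTopology X)
    {U : Opens X | IsCompact (U : Set X) ∧ U ≤ U₀} (TopCovIn U₀)
    (topCovIn_h1 U₀ hqs) (topCovIn_h2 U₀) U₀ ⟨hc, le_rfl⟩ q F

end TopIn

end Groth.Agent.Lib.Helper27.ExtFilt
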