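import Groth.Prelude.Def_RelSpec2

/-!
# The vertex section of a relative spectrum attached to an augmentation (helper27)
-/

set_option autoImplicit false
set_option backward.isDefEq.respectTransparency false
set_option backward.isDefEq.respectTransparency.types false
universe u
open CategoryTheory CategoryTheory.Limits AlgebraicGeometry Opposite TopologicalSpace

noncomputable section

namespace Groth.Agent.Lib.Helper27.ConeVertex

variable {Y : Scheme.{u}} (A : RelSpec.QCAlg Y) (aug : A ⟶ RelSpec.QCAlg.unit Y)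

/-- `str ≫ aug = 𝟙` on sections. -/
theorem str_aug (U : Y.Opens) : A.str.app (op U) ≫ aug.hom.app (op U) = 𝟙 _ := by
  have h := aug.comm
  have h2 := congrArg (fun α => α.app (op U)) h
  exact h2

/-- The cocone over the diagram of affine opens defining the section attached to `aug`. -/
def sectionCocone :
    Cocone (Scheme.AffineZariskiSite.toOpensFunctor Y ⋙ Y.presheaf.rightOp ⋙ Scheme.Spec) where
  pt := A.spec
  ι :=
    { app := fun U => Spec.map (aug.hom.app (op U.1)) ≫ A.ι U.1 U.2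
      naturality := by
        intro U V f
        dsimp
        rw [Category.comp_id, ← A.ι_res f, ← Spec.map_comp_assoc, ← Spec.map_comp_assoc]
        congr 2
        exact (aug.hom.naturality _).symm }

/-- The section of `Spec(A) ⟶ Y` attached to an augmentation `aug : A ⟶ O_Y`. -/
def sectionOf : Y ⟶ A.spec :=
  (Scheme.AffineZariskiSite.isColimitCocone Y).desc (sectionCocone A aug)

theorem fromSpec_sectionOf (U : Y.Opens) (hU : IsAffineOpen U) :
    hU.fromSpec ≫ sectionOf A aug = Spec.map (aug.hom.app (op U)) ≫ A.ι U hU :=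
  (Scheme.AffineZariskiSite.isColimitCocone Y).fac (sectionCocone A aug) ⟨U, hU⟩

theorem hom_ext_fromSpec {Z : Scheme.{u}} (f g : Y ⟶ Z)
    (h : ∀ (U : Y.Opens) (hU : IsAffineOpen U), hU.fromSpec ≫ f = hU.fromSpec ≫ g) : f = g :=
  (Scheme.AffineZariskiSite.isColimitCocone Y).hom_ext (fun U => h U.1 U.2)

theorem sectionOf_π : sectionOf A aug ≫ A.π = 𝟙 Y := by
  apply hom_ext_fromSpec
  intro U hU
  rw [reassoc_of% (fromSpec_sectionOf A aug U hU), A.ι_π, ← Spec.map_comp_assoc, str_aug]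
  simp only [Spec.map_id, Category.comp_id]
  exact Category.id_comp _


section Algebra

variable {R R₀ : Type*} [CommRing R] [CommRing R₀] (𝒜 : ℕ → AddSubgroup R) [GradedRing 𝒜]
  (str : R₀ →+* R) (aug : R →+* R₀)

include 𝒜 in
theorem aug_eq_zero_of_mem_irrelevant (haug : ∀ (d : ℕ) (x : R), x ∈ 𝒜 (d + 1) → aug x = 0)
    {x : R} (hx : x ∈ (HomogeneousIdeal.irrelevant 𝒜).toIdeal) : aug x = 0 := by
  have hx' : x ∈ (HomogeneousIdeal.irrelevant 𝒜).toAddSubmonoid := hx
  rw [HomogeneousIdeal.irrelevant_eq_closure] at hx'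
  clear hx
  induction hx' using AddSubmonoid.closure_induction with
  | mem y hy =>
    simp only [Set.mem_iUnion] at hy
    obtain ⟨i, hi, hy⟩ := hy
    obtain ⟨d, rfl⟩ : ∃ d, i = d + 1 := ⟨i - 1, by omega⟩
    exact haug d y hy
  | zero => exact map_zero aug
  | add y z _ _ hy hz => rw [map_add, hy, hz, add_zero]

theorem sub_proj_mem_irrelevant (a : R) :
    a - GradedRing.proj 𝒜 0 a ∈ (HomogeneousIdeal.irrelevant 𝒜).toIdeal := by
  change a - GradedRing.proj 𝒜 0 a ∈ HomogeneousIdeal.irrelevant 𝒜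
  rw [HomogeneousIdeal.mem_irrelevant_iff, map_sub, sub_eq_zero]
  rw [GradedRing.proj_apply, GradedRing.proj_apply]
  exact (DirectSum.decompose_of_mem_same 𝒜 (SetLike.coe_mem _)).symm

theorem str_aug_eq_proj (hsurj : ∀ x ∈ 𝒜 0, ∃ r, str r = x) (haugstr : ∀ r, aug (str r) = r)
    (haug : ∀ (d : ℕ) (x : R), x ∈ 𝒜 (d + 1) → aug x = 0) (a : R) :
    str (aug a) = GradedRing.proj 𝒜 0 a := by
  obtain ⟨r, hr⟩ := hsurj (GradedRing.proj 𝒜 0 a) (by
    rw [GradedRing.proj_apply]; exact SetLike.coe_mem _)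
  have h1 : aug (a - GradedRing.proj 𝒜 0 a) = 0 :=
    aug_eq_zero_of_mem_irrelevant 𝒜 aug haug (sub_proj_mem_irrelevant 𝒜 a)
  have h2 : aug a = r := by
    rw [map_sub, sub_eq_zero] at h1
    rw [h1, ← hr, haugstr]
  rw [h2, hr]

/-- For a prime containing the irrelevant ideal, pulling back along `str ∘ aug` gives it back. -/
theorem comap_str_aug_eq (hsurj : ∀ x ∈ 𝒜 0, ∃ r, str r = x) (haugstr : ∀ r, aug (str r) = r)
    (haug : ∀ (d : ℕ) (x : R), x ∈ 𝒜 (d + 1) → aug x = 0) (w : Ideal R)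
    (hw : (HomogeneousIdeal.irrelevant 𝒜).toIdeal ≤ w) :
    (w.comap str).comap aug = w := by
  ext a
  simp only [Ideal.mem_comap]
  rw [str_aug_eq_proj 𝒜 str aug hsurj haugstr haug a]
  have h := hw (sub_proj_mem_irrelevant 𝒜 a)
  constructor
  · intro h'
    have := w.add_mem h h'
    simpa using this
  · intro h'
    have := w.sub_mem h' h
    simpa using this

end Algebra


section Geometry

variable {Y : Scheme.{u}} (𝒮 : RelProj.QCGrAlg Y) (aug : 𝒮.toQCAlg ⟶ RelSpec.QCAlg.unit Y)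

theorem strZero_surj (h0 : RelCone.StrZeroBij 𝒮) (U : Y.Opens) (hU : IsAffineOpen U)
    (x : 𝒮.presheaf.obj (op U)) (hx : x ∈ 𝒮.deg U hU 0) :
    ∃ r, (𝒮.str.app (op U)).hom r = x := by
  obtain ⟨r, hr⟩ := (h0 U hU).2 ⟨x, hx⟩
  exact ⟨r, congrArg Subtype.val hr⟩

theorem aug_str_apply (U : Y.Opens) (r : Γ(Y, U)) :
    (aug.hom.app (op U)).hom ((𝒮.str.app (op U)).hom r) = r := by
  have h := str_aug 𝒮.toQCAlg aug U
  exact congr($(h).hom r)

/-- A point of the chart over `U` lies on the vertex section iff it contains the irrelevant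
ideal. -/
theorem ι_mem_range_iff (h0 : RelCone.StrZeroBij 𝒮) (haug : RelCone.IsAugmentation 𝒮 aug)
    (ε : Y ⟶ 𝒮.toQCAlg.spec) (hε : RelCone.IsVertex 𝒮 aug ε) (U : Y.Opens) (hU : IsAffineOpen U)
    (w : Spec (𝒮.presheaf.obj (op U))) :
    (𝒮.toQCAlg.ι U hU) w ∈ Set.range ε ↔
      w ∈ PrimeSpectrum.zeroLocus
        ((HomogeneousIdeal.irrelevant (𝒮.deg U hU)).toIdeal : Set (𝒮.presheaf.obj (op U))) := by
  have hchart := hε.chart U hU
  have hπ := 𝒮.toQCAlg.ι_π U hU
  have key : ε (𝒮.toQCAlg.π (𝒮.toQCAlg.ι U hU w)) =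
      𝒮.toQCAlg.ι U hU (Spec.map (aug.hom.app (op U)) (Spec.map (𝒮.str.app (op U)) w)) := by
    rw [← Scheme.Hom.comp_apply (𝒮.toQCAlg.ι U hU) 𝒮.toQCAlg.π, hπ, Scheme.Hom.comp_apply,
      ← Scheme.Hom.comp_apply hU.fromSpec ε, hchart, Scheme.Hom.comp_apply]
    rfl
  constructor
  · rintro ⟨y, hy⟩
    have hy' : 𝒮.toQCAlg.π (𝒮.toQCAlg.ι U hU w) = y := by
      rw [← hy, ← Scheme.Hom.comp_apply, hε.comp_π]; rfl
    rw [hy', hy] at key
    have hw := (𝒮.toQCAlg.ι U hU).isOpenEmbedding.injective key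
    intro a ha
    rw [hw]
    change (𝒮.str.app (op U)).hom ((aug.hom.app (op U)).hom a) ∈ w.asIdeal
    rw [aug_eq_zero_of_mem_irrelevant (𝒮.deg U hU) (aug.hom.app (op U)).hom (haug U hU) ha,
      map_zero]
    exact zero_mem _
  · intro hw
    refine ⟨𝒮.toQCAlg.π (𝒮.toQCAlg.ι U hU w), ?_⟩
    rw [key]
    congr 1
    apply PrimeSpectrum.ext
    exact comap_str_aug_eq (𝒮.deg U hU) (𝒮.str.app (op U)).hom (aug.hom.app (op U)).hom
      (strZero_surj 𝒮 h0 U hU) (aug_str_apply 𝒮 aug U) (haug U hU) w.asIdeal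
      (fun a ha => hw ha)

theorem pointedCone_eq_compl (h0 : RelCone.StrZeroBij 𝒮) (haug : RelCone.IsAugmentation 𝒮 aug)
    (ε : Y ⟶ 𝒮.toQCAlg.spec) (hε : RelCone.IsVertex 𝒮 aug ε) :
    ((RelCone.pointedCone 𝒮 : 𝒮.toQCAlg.spec.Opens) : Set 𝒮.toQCAlg.spec) =
      (Set.range ε)ᶜ := by
  ext x
  simp only [RelCone.pointedCone, Opens.coe_iSup, Set.mem_iUnion, Set.mem_compl_iff]
  constructor
  · rintro ⟨U, w, hw, rfl⟩
    exact fun h => hw ((ι_mem_range_iff 𝒮 aug h0 haug ε hε U.1 U.2 w).1 h)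
  · intro hx
    obtain ⟨U, w, rfl⟩ := 𝒮.toQCAlg.glueData.cover.exists_eq x
    refine ⟨U, w, ?_, rfl⟩
    intro hw
    exact hx ((ι_mem_range_iff 𝒮 aug h0 haug ε hε U.1 U.2 w).2 hw)

end Geometry

end Groth.Agent.Lib.Helper27.ConeVertex
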