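import Mathlib

/-!
# Scheme-level lemmas around spectra of fields (helper27)

Smooth schemes over a field are reduced, reducedness and local Noetherianity descend along flat
(locally finitely presented) surjective morphisms, generic points of reduced schemes, closed
points of nonempty schemes.
-/

set_option autoImplicit false
set_option linter.style.haveILetI false

universe u

open TensorProduct CategoryTheory AlgebraicGeometry

namespace Groth.Agent.Lib.Helper27.SchemeField

theorem isReduced_of_etale_of_isDomain (A B : Type u) [CommRing A] [IsDomain A] [CommRing B]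
    [Algebra A B] [Algebra.Etale A B] : IsReduced B := by
  let K := FractionRing A
  have h1 : IsReduced (K ⊗[A] B) := Algebra.FormallyUnramified.isReduced_of_field K (K ⊗[A] B)
  have hinj : Function.Injective
      (Algebra.TensorProduct.includeRight : B →ₐ[A] K ⊗[A] B) :=
    Algebra.TensorProduct.includeRight_injective (IsFractionRing.injective A K)
  exact isReduced_of_injective _ hinj

theorem isReduced_of_smooth_field (k A : Type u) [Field k] [CommRing A] [Algebra k A]
    [Algebra.Smooth k A] : IsReduced A := by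
  constructor
  intro x hx
  by_contra hx0
  have hI : (Ideal.span {x}).annihilator ≠ ⊤ := by
    intro h
    have h1 : (1 : A) ∈ (Ideal.span {x}).annihilator := h ▸ Submodule.mem_top
    rw [Submodule.mem_annihilator_span_singleton] at h1
    exact hx0 (by simpa using h1)
  obtain ⟨p, hp, hIp⟩ := Ideal.exists_le_maximal _ hI
  have : p.IsPrime := hp.isPrime
  have hsm : Algebra.IsSmoothAt k p := inferInstance
  obtain ⟨f, hfp, n, _, _, _⟩ :=
    Algebra.IsSmoothAt.exists_isStandardEtale_mvPolynomial (R := k) (p := p)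
  have hred : IsReduced (Localization.Away f) :=
    isReduced_of_etale_of_isDomain (MvPolynomial (Fin n) k) (Localization.Away f)
  have h0 : algebraMap A (Localization.Away f) x = 0 :=
    (hx.map (algebraMap A (Localization.Away f))).eq_zero
  rw [IsLocalization.map_eq_zero_iff (Submonoid.powers f)] at h0
  obtain ⟨⟨_, m, rfl⟩, hm⟩ := h0
  have : f ^ m ∈ (Ideal.span {x}).annihilator := by
    rw [Submodule.mem_annihilator_span_singleton]
    simpa using hm
  exact hfp (hp.isPrime.mem_of_pow_mem m (hIp this))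


theorem isReduced_of_smooth_spec {k : Type u} [Field k] {R : CommRingCat.{u}}
    (g : Spec R ⟶ Spec (CommRingCat.of k)) [Smooth g] : _root_.IsReduced R := by
  obtain ⟨φ, hφ⟩ : ∃ φ : CommRingCat.of k ⟶ R, Spec.map φ = g :=
    ⟨Spec.preimage _, Spec.map_preimage _⟩
  have h1 : Smooth (Spec.map φ) := hφ ▸ inferInstance
  rw [HasRingHomProperty.Spec_iff (P := @Smooth)] at h1
  algebraize [φ.hom]
  exact isReduced_of_smooth_field k R

theorem isReduced_of_smooth_to_field {k : Type u} [Field k] {X : Scheme.{u}}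
    (f : X ⟶ Spec (CommRingCat.of k)) [Smooth f] : AlgebraicGeometry.IsReduced X := by
  have : ∀ i, AlgebraicGeometry.IsReduced (X.affineOpenCover.openCover.X i) := by
    intro i
    have hoi : IsOpenImmersion (X.affineOpenCover.f i) := X.affineOpenCover.map_prop i
    have : _root_.IsReduced (X.affineOpenCover.X i) :=
      isReduced_of_smooth_spec (X.affineOpenCover.f i ≫ f)
    change AlgebraicGeometry.IsReduced (Spec (X.affineOpenCover.X i))
    infer_instance
  exact AlgebraicGeometry.IsReduced.of_openCover X X.affineOpenCover.openCover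

theorem stalkMap_injective_of_flat {X Y : Scheme.{u}} (f : X ⟶ Y) [Flat f] (x : X) :
    Function.Injective (f.stalkMap x).hom := by
  algebraize [(f.stalkMap x).hom]
  have : Module.FaithfullyFlat (Y.presheaf.stalk (f x)) (X.presheaf.stalk x) :=
    @Module.FaithfullyFlat.of_flat_of_isLocalHom _ _ _ _ _ _ _
      (Flat.stalkMap f x) (f.toLRSHom.prop x)
  exact ‹RingHom.FaithfullyFlat _›.injective

theorem isReduced_of_flat_surjective {X Y : Scheme.{u}} (f : X ⟶ Y) [Flat f] [Surjective f]
    [AlgebraicGeometry.IsReduced X] : AlgebraicGeometry.IsReduced Y := by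
  have : ∀ y : Y, _root_.IsReduced (Y.presheaf.stalk y) := by
    intro y
    obtain ⟨x, rfl⟩ := f.surjective y
    exact isReduced_of_injective _ (stalkMap_injective_of_flat f x)
  exact isReduced_of_isReduced_stalk Y

theorem IsAffineOpen.fromSpecStalk_flat {X : Scheme.{u}} {U : X.Opens}
    (hU : IsAffineOpen U) (x : X) (hx : x ∈ U) : Flat (hU.fromSpecStalk hx) := by
  dsimp [IsAffineOpen.fromSpecStalk]
  have : Flat (Spec.map (X.presheaf.germ U x hx)) := by
    rw [Flat.SpecMap_iff]
    letI : Algebra Γ(X, U) (X.presheaf.stalk x) := (X.presheaf.germ U x hx).hom.toAlgebra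
    haveI := hU.isLocalization_stalk ⟨x, hx⟩
    exact IsLocalization.flat (X.presheaf.stalk x) (hU.primeIdealOf ⟨x, hx⟩).asIdeal.primeCompl
  infer_instance

instance fromSpecStalk_flat {X : Scheme.{u}} (x : X) : Flat (X.fromSpecStalk x) :=
  IsAffineOpen.fromSpecStalk_flat _ _ _


theorem exists_isField_stalk {W : Scheme.{u}} [AlgebraicGeometry.IsReduced W] [Nonempty W] :
    ∃ η : W, IsField (W.presheaf.stalk η) := by
  obtain ⟨w₀⟩ := (inferInstance : Nonempty W)
  have hirr : IsIrreducible (irreducibleComponent w₀) := isIrreducible_irreducibleComponent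
  refine ⟨hirr.genericPoint, isField_stalk_of_closure_mem_irreducibleComponents W _ ?_⟩
  rw [hirr.closure_genericPoint isClosed_irreducibleComponent]
  exact irreducibleComponent_mem_irreducibleComponents w₀

theorem flat_fromSpecResidueField_of_isField {W : Scheme.{u}} (η : W)
    (h : IsField (W.presheaf.stalk η)) : Flat (W.fromSpecResidueField η) := by
  have h1 : Flat (Spec.map (W.residue η)) := by
    rw [Flat.SpecMap_iff]
    apply RingHom.Flat.of_bijective
    refine ⟨?_, W.residue_surjective η⟩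
    rw [injective_iff_map_eq_zero]
    intro a ha
    have h2 : a ∈ IsLocalRing.maximalIdeal (W.presheaf.stalk η) :=
      (IsLocalRing.residue_eq_zero_iff a).1 ha
    rw [IsLocalRing.isField_iff_maximalIdeal_eq.1 h] at h2
    exact h2
  dsimp only [Scheme.fromSpecResidueField]
  infer_instance

theorem exists_closedPoint_lft {W : Scheme.{u}} [Nonempty W] :
    ∃ (k : Type u) (_ : Field k) (j : Spec (CommRingCat.of k) ⟶ W), LocallyOfFiniteType j := by
  obtain ⟨w₀⟩ := (inferInstance : Nonempty W)
  obtain ⟨i, y, hy⟩ := W.affineOpenCover.openCover.exists_eq w₀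
  have hoi : IsOpenImmersion (W.affineOpenCover.f i) := W.affineOpenCover.map_prop i
  have hnt : Nontrivial (W.affineOpenCover.X i) := by
    by_contra hn
    rw [not_nontrivial_iff_subsingleton] at hn
    have : IsEmpty (PrimeSpectrum (W.affineOpenCover.X i)) := inferInstance
    exact this.false y
  obtain ⟨m, hm⟩ := Ideal.exists_maximal (W.affineOpenCover.X i)
  let _ : Field (W.affineOpenCover.X i ⧸ m) := Ideal.Quotient.field m
  refine ⟨W.affineOpenCover.X i ⧸ m, inferInstance,
    Spec.map (CommRingCat.ofHom (Ideal.Quotient.mk m)) ≫ W.affineOpenCover.f i, ?_⟩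
  have h1 : IsClosedImmersion (Spec.map (CommRingCat.ofHom (Ideal.Quotient.mk m))) :=
    IsClosedImmersion.spec_of_surjective _ Ideal.Quotient.mk_surjective
  infer_instance

theorem isNoetherianRing_of_faithfullyFlat {A B : Type*} [CommRing A] [CommRing B]
    (φ : A →+* B) (h : φ.FaithfullyFlat) [IsNoetherianRing B] : IsNoetherianRing A := by
  algebraize [φ]
  have hmono : StrictMono (Ideal.map (algebraMap A B)) :=
    Monotone.strictMono_of_injective (fun _ _ h => Ideal.map_mono h)
      Ideal.map_injective_of_faithfullyFlat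
  rw [isNoetherianRing_iff, isNoetherian_iff'] 
  have : WellFoundedGT (Ideal B) := (isNoetherian_iff'.1 (inferInstance : IsNoetherian B B))
  exact hmono.wellFoundedGT


theorem isLocallyNoetherian_of_fppf {T U : Scheme.{u}} (f : T ⟶ U) [Flat f]
    [LocallyOfFinitePresentation f] [Surjective f] [IsLocallyNoetherian T] :
    IsLocallyNoetherian U := by
  have key : ∀ u : U, ∃ O : U.affineOpens, u ∈ (O : U.Opens) ∧ IsNoetherianRing Γ(U, O) := by
    intro u
    obtain ⟨t, rfl⟩ := f.surjective u
    obtain ⟨_, ⟨V, hV, rfl⟩, htV, -⟩ :=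
      U.isBasis_affineOpens.exists_subset_of_mem_open (Set.mem_univ (f t)) isOpen_univ
    obtain ⟨_, ⟨T₀, hT₀, rfl⟩, htT₀, hT₀V⟩ :=
      T.isBasis_affineOpens.exists_subset_of_mem_open (show t ∈ (f ⁻¹ᵁ V : T.Opens) from htV)
        (f ⁻¹ᵁ V).isOpen
    have hopen : IsOpen (f '' (T₀ : Set T)) := f.isOpenMap _ T₀.isOpen
    let W : U.Opens := ⟨f '' (T₀ : Set T), hopen⟩
    have hfW : f t ∈ W := ⟨t, htT₀, rfl⟩
    obtain ⟨a, haW, hta⟩ := hV.exists_basicOpen_le (V := W) ⟨f t, hfW⟩ htV
    have hO : IsAffineOpen (U.basicOpen a) := hV.basicOpen a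
    refine ⟨⟨U.basicOpen a, hO⟩, hta, ?_⟩
    -- the affine open of `T`
    have e₀ : T₀ ≤ f ⁻¹ᵁ V := hT₀V
    obtain ⟨T₁, hT₁def⟩ : ∃ T₁ : T.Opens, T₁ = T.basicOpen (f.appLE V T₀ e₀ a) := ⟨_, rfl⟩
    have hT₁ : IsAffineOpen T₁ := hT₁def ▸ hT₀.basicOpen _
    have hT₁eq : T₁ = T₀ ⊓ f ⁻¹ᵁ (U.basicOpen a) := by
      rw [hT₁def, Scheme.basicOpen_appLE]
    have e₁ : T₁ ≤ f ⁻¹ᵁ (U.basicOpen a) := hT₁eq ▸ inf_le_right
    have : IsAffine ↑T₁ := hT₁
    have : IsAffine ↑(U.basicOpen a) := hO
    have hsurj : Surjective (f.resLE (U.basicOpen a) T₁ e₁) := by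
      refine ⟨fun ⟨u', hu'⟩ => ?_⟩
      obtain ⟨t', ht'T₀, ht'⟩ := haW hu'
      have ht'1 : t' ∈ T₁ := by
        rw [hT₁eq]
        exact ⟨ht'T₀, by change f t' ∈ U.basicOpen a; rw [ht']; exact hu'⟩
      refine ⟨⟨t', ht'1⟩, ?_⟩
      apply Subtype.ext
      have := Scheme.Hom.resLE_comp_ι f e₁
      have h2 : (f.resLE (U.basicOpen a) T₁ e₁ ≫ (U.basicOpen a).ι) (⟨t', ht'1⟩ : ↑T₁) =
          (T₁.ι ≫ f) (⟨t', ht'1⟩ : ↑T₁) := by rw [this]
      exact h2.trans ht'
    have hff := (Flat.flat_and_surjective_iff_faithfullyFlat_of_isAffine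
      (f := f.resLE (U.basicOpen a) T₁ e₁)).1 ⟨inferInstance, hsurj⟩
    have hN : IsNoetherianRing Γ(↑T₁, ⊤) :=
      IsLocallyNoetherian.component_noetherian ⟨⊤, isAffineOpen_top _⟩
    have hN2 : IsNoetherianRing Γ(↑(U.basicOpen a), ⊤) :=
      isNoetherianRing_of_faithfullyFlat _ hff
    exact isNoetherianRing_of_ringEquiv _
      ((U.basicOpen a).topIso.commRingCatIsoToRingEquiv)
  choose O hO₁ hO₂ using key
  refine isLocallyNoetherian_of_affine_cover (S := O) ?_ hO₂
  rw [eq_top_iff]
  intro u _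
  exact TopologicalSpace.Opens.mem_iSup.2 ⟨u, hO₁ u⟩

end Groth.Agent.Lib.Helper27.SchemeField
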