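import Groth.Prelude.Def_Smoothing
import Mathlib

/-! Base change of marked presentations (helper27). -/

namespace Groth.Agent.Lib.Helper27.SmoothingAux

open MvPolynomial TensorProduct Smoothing

universe u

variable {R A : Type u} [CommRing R] [CommRing A] [Algebra R A]

/-- The Mathlib presentation attached to a marked presentation. -/
noncomputable def toPres (P : MarkedPresentation R A) :
    Algebra.Presentation R A (Fin P.n) (Fin P.m) where
  toGenerators := Algebra.Generators.ofAlgHom P.hom P.surj
  relation := P.rel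
  span_range_relation_eq_ker := by
    rw [Algebra.Generators.ker_ofAlgHom]
    exact P.ker_eq.symm

theorem toPres_val (P : MarkedPresentation R A) (i : Fin P.n) :
    (toPres P).val i = P.hom (X i) := rfl

variable (R' : Type u) [CommRing R'] [Algebra R R']

/-- the evaluation map of the base change -/
noncomputable def bcHom (P : MarkedPresentation R A) : MvPolynomial (Fin P.n) R' →ₐ[R'] R' ⊗[R] A :=
  aeval (fun i => (1 : R') ⊗ₜ[R] P.hom (X i))

theorem bcHom_map (P : MarkedPresentation R A) (p : MvPolynomial (Fin P.n) R) :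
    bcHom R' P (MvPolynomial.map (algebraMap R R') p) = (1 : R') ⊗ₜ[R] P.hom p := by
  unfold bcHom
  induction p using MvPolynomial.induction_on with
  | C a =>
    rw [map_C, aeval_C, Algebra.TensorProduct.algebraMap_apply, Algebra.algebraMap_self_apply,
      ← algebraMap_eq, AlgHom.commutes, Algebra.algebraMap_eq_smul_one (A := R'),
      Algebra.algebraMap_eq_smul_one (A := A), smul_tmul]
  | add p q hp hq => rw [map_add, map_add, hp, hq, map_add, tmul_add]
  | mul_X p i hp =>
    rw [map_mul, map_mul, hp, map_X, aeval_X, map_mul, Algebra.TensorProduct.tmul_mul_tmul, one_mul]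

theorem bcHom_surj (P : MarkedPresentation R A) : Function.Surjective (bcHom R' P) :=
  ((toPres P).toGenerators.baseChange R').aeval_val_surjective

theorem bcHom_ker (P : MarkedPresentation R A) :
    RingHom.ker (bcHom R' P).toRingHom =
      Ideal.span (Set.range fun j => MvPolynomial.map (algebraMap R R') (P.rel j)) :=
  ((toPres P).span_range_relation_eq_ker_baseChange R').symm

/-- Base change of a marked presentation. -/
noncomputable def baseChange (P : MarkedPresentation R A) : MarkedPresentation R' (R' ⊗[R] A) where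
  n := P.n
  m := P.m
  c := P.c
  hcn := P.hcn
  hcm := P.hcm
  rel := fun j => MvPolynomial.map (algebraMap R R') (P.rel j)
  hom := bcHom R' P
  surj := bcHom_surj R' P
  ker_eq := bcHom_ker R' P

theorem jacobianMinor_map {n m c : ℕ} (f : Fin m → MvPolynomial (Fin n) R) (rows : Fin c → Fin m)
    (cols : Fin c → Fin n) :
    jacobianMinor (fun j => MvPolynomial.map (algebraMap R R') (f j)) rows cols =
      MvPolynomial.map (algebraMap R R') (jacobianMinor f rows cols) := by
  unfold jacobianMinor
  rw [RingHom.map_det]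
  congr 1
  ext j k
  simp [MvPolynomial.pderiv_map]

theorem killsTail_baseChange_aux (P : MarkedPresentation R A) (a : A) (h : KillsTail P a)
    (a'' : MvPolynomial (Fin P.n) R') (ha'' : bcHom R' P a'' = (1 : R') ⊗ₜ[R] a) (j : Fin P.m)
    (hj : P.c ≤ (j : ℕ)) :
    a'' * MvPolynomial.map (algebraMap R R') (P.rel j) ∈
      Ideal.span ((fun j => MvPolynomial.map (algebraMap R R') (P.rel j)) '' {j' : Fin P.m | (j' : ℕ) < P.c}) ⊔
        Ideal.span (Set.range fun j => MvPolynomial.map (algebraMap R R') (P.rel j)) ^ 2 := by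
  obtain ⟨a', ha'⟩ := P.surj a
  set φ : MvPolynomial (Fin P.n) R →+* MvPolynomial (Fin P.n) R' := MvPolynomial.map (algebraMap R R') with hφ
  have h1 := h a' ha' j hj
  have hdiff : a'' - φ a' ∈ Ideal.span (Set.range fun j => φ (P.rel j)) := by
    rw [← bcHom_ker R' P, RingHom.mem_ker]
    change bcHom R' P (a'' - φ a') = 0
    rw [map_sub, bcHom_map, ha', ha'', sub_self]
  have hrel : φ (P.rel j) ∈ Ideal.span (Set.range fun j => φ (P.rel j)) :=
    Ideal.subset_span ⟨j, rfl⟩
  have h2 : (a'' - φ a') * φ (P.rel j) ∈ Ideal.span (Set.range fun j => φ (P.rel j)) ^ 2 := by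
    rw [pow_two]
    exact Ideal.mul_mem_mul hdiff hrel
  have h3 : φ a' * φ (P.rel j) ∈
      Ideal.span ((fun j => φ (P.rel j)) '' {j' : Fin P.m | (j' : ℕ) < P.c}) ⊔
        Ideal.span (Set.range fun j => φ (P.rel j)) ^ 2 := by
    rw [← map_mul]
    have hm := Ideal.mem_map_of_mem φ h1
    rw [Ideal.map_sup, Ideal.map_pow, Ideal.map_span, Ideal.map_span, ← Set.range_comp,
      Set.image_image] at hm
    exact hm
  have : a'' * φ (P.rel j) = (a'' - φ a') * φ (P.rel j) + φ a' * φ (P.rel j) := by ring
  rw [this]
  exact Ideal.add_mem _ (Ideal.mem_sup_right h2) h3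

theorem killsTail_baseChange (P : MarkedPresentation R A) (a : A) (h : KillsTail P a) :
    KillsTail (baseChange R' P) ((1 : R') ⊗ₜ[R] a) := by
  intro a'' ha'' j hj
  exact killsTail_baseChange_aux R' P a h a'' ha'' j hj

end Groth.Agent.Lib.Helper27.SmoothingAux
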