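import Mathlib

/-! A submersive presentation of `A` over itself with prescribed values of distinguished variables (helper27). -/

namespace Groth.Agent.Lib.Helper27.PointPres

open MvPolynomial

universe u

variable {A : Type u} [CommRing A] {k : ℕ} (e : Fin k → A)

theorem sub_C_aeval_mem (p : MvPolynomial (Fin k) A) :
    p - C (aeval e p) ∈ Ideal.span (Set.range fun i : Fin k => (X i - C (e i) : MvPolynomial (Fin k) A)) := by
  induction p using MvPolynomial.induction_on with
  | C a =>
    rw [aeval_C]
    simp
  | add p q hp hq =>
    have : p + q - C (aeval e (p + q)) = (p - C (aeval e p)) + (q - C (aeval e q)) := by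
      rw [map_add, C_add]; ring
    rw [this]
    exact Ideal.add_mem _ hp hq
  | mul_X p i hp =>
    have : p * X i - C (aeval e (p * X i)) =
        (p - C (aeval e p)) * X i + C (aeval e p) * (X i - C (e i)) := by
      rw [map_mul, aeval_X, C_mul]; ring
    rw [this]
    refine Ideal.add_mem _ (Ideal.mul_mem_right _ _ hp) (Ideal.mul_mem_left _ _ ?_)
    exact Ideal.subset_span ⟨i, rfl⟩

/-- generators -/
noncomputable def gens : Algebra.Generators A A (Fin k) where
  val := e
  σ' a := C a
  aeval_val_σ' a := by simp

/-- presentation -/
noncomputable def pres : Algebra.Presentation A A (Fin k) (Fin k) where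
  toGenerators := gens e
  relation i := X i - C (e i)
  span_range_relation_eq_ker := by
    rw [Algebra.Generators.ker_eq_ker_aeval_val]
    apply le_antisymm
    · rw [Ideal.span_le]
      rintro _ ⟨i, rfl⟩
      change aeval e (X i - C (e i)) = 0
      simp
    · intro p hp
      have hp' : aeval e p = 0 := hp
      have := sub_C_aeval_mem e p
      rw [hp', map_zero, sub_zero] at this
      exact this

/-- pre-submersive presentation -/
noncomputable def prePres : Algebra.PreSubmersivePresentation A A (Fin k) (Fin k) where
  toPresentation := pres e
  map := id
  map_inj := Function.injective_id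

theorem jacobiMatrix_eq : (prePres e).jacobiMatrix = 1 := by
  refine Matrix.ext fun i j => ?_
  rw [Algebra.PreSubmersivePresentation.jacobiMatrix_apply]
  change pderiv i (X j - C (e j)) = _
  rw [map_sub, pderiv_C, sub_zero, pderiv_X, Matrix.one_apply]
  by_cases h : i = j
  · subst h; simp
  · rw [if_neg h, Pi.single_eq_of_ne (Ne.symm h)]

/-- submersive presentation -/
noncomputable def subPres : Algebra.SubmersivePresentation A A (Fin k) (Fin k) where
  toPreSubmersivePresentation := prePres e
  jacobian_isUnit := by
    rw [Algebra.PreSubmersivePresentation.jacobian_eq_jacobiMatrix_det, jacobiMatrix_eq,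
      Matrix.det_one, map_one]
    exact isUnit_one

theorem subPres_val (i : Fin k) : (subPres e).val i = e i := rfl
theorem subPres_map (i : Fin k) : (subPres e).map i = i := rfl

end Groth.Agent.Lib.Helper27.PointPres
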