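import Groth.Agent.Lib.Helper27.EtTorsion2

/-!
# Étale cohomology of a torsion sheaf on a qcqs scheme is torsion, part 3 (helper27)
-/

set_option autoImplicit false

universe u

open CategoryTheory CategoryTheory.Limits Opposite AlgebraicGeometry Abelian

namespace Groth.Agent.Lib.Helper27.EtTransport

variable {X : Scheme.{u}} (F : EtCoh.Ab X)

instance (n : ℕ) : (EtCoh.HF X n).Additive := by
  unfold EtCoh.HF
  infer_instance

/-- the transition maps from stage `0` are multiplication by a positive integer -/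
lemma torDiag_map_zero (k : ℕ) : ∃ c : ℕ, 0 < c ∧ ∀ f : (0 : ℕ) ⟶ k,
    (torDiag F).map f = (c • 𝟙 F : F ⟶ F) := by
  induction k with
  | zero =>
    refine ⟨1, Nat.one_pos, fun f => ?_⟩
    have : f = 𝟙 _ := Subsingleton.elim _ _
    rw [this, (torDiag F).map_id, one_nsmul]
    rfl
  | succ k ih =>
    obtain ⟨c, hc, h⟩ := ih
    refine ⟨c * (k + 1).factorial, Nat.mul_pos hc (Nat.factorial_pos _), fun f => ?_⟩
    have : f = homOfLE (Nat.zero_le k) ≫ homOfLE (Nat.le_add_right k 1) := Subsingleton.elim _ _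
    rw [this, (torDiag F).map_comp, h, torDiag_map_succ, mulFact]
    change (c • 𝟙 F) ≫ ((k + 1).factorial • 𝟙 F) = _
    rw [Preadditive.nsmul_comp, Category.id_comp, ← mul_nsmul']

lemma nsmul_id_apply' {A : AddCommGrpCat.{u + 1}} (c : ℕ) (x : A) :
    (c • 𝟙 A : A ⟶ A) x = c • x := by
  induction c with
  | zero => simp
  | succ c ih =>
    rw [succ_nsmul, succ_nsmul]
    simp [ih]

/-- **S0124** -/
theorem isAddTorsion_H [CompactSpace X] [QuasiSeparatedSpace X] (hF : EtCoh.IsTorsion F) (n : ℕ) :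
    IsAddTorsion (EtCoh.H X F n) := by
  intro x
  have hc : IsColimit ((EtCoh.HF X n).mapCocone (colimit.cocone (torDiag F))) :=
    isColimitOfPreserves _ (colimit.isColimit _)
  haveI := preservesSmallestFilteredColimits_of_preservesFilteredColimits
    (forget AddCommGrpCat.{u + 1})
  have hc' := isColimitOfPreserves (forget AddCommGrpCat.{u + 1}) hc
  have hz : IsZero ((EtCoh.HF X n).obj (colimit (torDiag F))) :=
    (EtCoh.HF X n).map_isZero (isZero_colimit_torDiag F hF)
  have hsub : Subsingleton ((EtCoh.HF X n).obj (colimit (torDiag F))) :=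
    AddCommGrpCat.subsingleton_of_isZero hz
  have heq : ((forget AddCommGrpCat.{u + 1}).mapCocone
      ((EtCoh.HF X n).mapCocone (colimit.cocone (torDiag F)))).ι.app 0 x =
      ((forget AddCommGrpCat.{u + 1}).mapCocone
      ((EtCoh.HF X n).mapCocone (colimit.cocone (torDiag F)))).ι.app 0 (0 : EtCoh.H X F n) :=
    hsub.elim _ _
  obtain ⟨k, f, g, hfg⟩ := (Types.FilteredColimit.isColimit_eq_iff _ hc').1 heq
  obtain ⟨c, hcpos, hcmap⟩ := torDiag_map_zero F k
  have h1 : ((EtCoh.HF X n).map ((torDiag F).map f)) x = 0 := by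
    have h2 : ((EtCoh.HF X n).map ((torDiag F).map g)) (0 : EtCoh.H X F n) = 0 := map_zero _
    exact hfg.trans h2
  rw [hcmap f] at h1
  have h2 : (EtCoh.HF X n).map (c • 𝟙 F : F ⟶ F) = c • 𝟙 ((EtCoh.HF X n).obj F) := by
    rw [Functor.map_nsmul, CategoryTheory.Functor.map_id]
  have h3 : (c • 𝟙 ((EtCoh.HF X n).obj F) : (EtCoh.HF X n).obj F ⟶ (EtCoh.HF X n).obj F) x = 0 := by
    rw [← h2]
    exact h1
  rw [nsmul_id_apply'] at h3
  rw [isOfFinAddOrder_iff_nsmul_eq_zero]
  exact ⟨c, hcpos, h3⟩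

end Groth.Agent.Lib.Helper27.EtTransport
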