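import Groth.Agent.Lib.Helper27.EtTrace10

/-!
# `cd_p` does not drop along finite separable extensions of degree prime to `p`
-/

set_option autoImplicit false
set_option backward.isDefEq.respectTransparency false
universe u
open CategoryTheory Limits Opposite AlgebraicGeometry Abelian
open Groth.Agent.Lib.Helper18.GalFibre Groth.Agent.Lib.Helper23.EtGlue
  Groth.Agent.Lib.Helper27.GabberCrit Groth.Agent.Lib.Helper23.EtRestr

namespace Groth.Agent.Lib.Helper27.EtTrace

section Torsion

variable {U X : Scheme.{u}}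

/-- being torsion is invariant under isomorphism of sheaves -/
theorem isTorsion_of_iso {F G : EtCoh.Ab X} (e : F ≅ G) (hF : EtCoh.IsTorsion F) :
    EtCoh.IsTorsion G := by
  intro V s x
  obtain ⟨W, g, hw, hfin⟩ := hF V (e.inv.hom.app (op V) s) x
  refine ⟨W, g, hw, ?_⟩
  have h1 : G.obj.map g.op s = e.hom.hom.app (op W) (F.obj.map g.op (e.inv.hom.app (op V) s)) := by
    have nat := ConcreteCategory.congr_hom (e.hom.hom.naturality g.op) (e.inv.hom.app (op V) s)
    simp only [ConcreteCategory.comp_apply] at nat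
    rw [nat]
    congr 1
    have h2' : e.inv.hom ≫ e.hom.hom = 𝟙 _ := congrArg (fun f => f.hom) e.inv_hom_id
    have h2 : e.inv.hom.app (op V) ≫ e.hom.hom.app (op V) = 𝟙 _ :=
      congrArg (fun t => t.app (op V)) h2'
    have h3 := ConcreteCategory.congr_hom h2 s
    simp only [ConcreteCategory.comp_apply] at h3
    exact h3.symm
  rw [h1]
  exact (e.hom.hom.app (op W)).hom.isOfFinAddOrder hfin

variable (j : U ⟶ X) [hj : Etale j]

/-- restriction along an étale morphism preserves torsion sheaves -/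
theorem isTorsion_restrAlong (F : EtCoh.Ab X) (hF : EtCoh.IsTorsion F) :
    EtCoh.IsTorsion ((EtShriek.restrAlong j).obj F) := by
  intro V s x
  obtain ⟨W, g, ⟨w, hw⟩, hfin⟩ := hF ((EtShriek.compEtale j).obj V) s x
  have e : g.left ≫ V.hom ≫ j = W.hom := MorphismProperty.Over.w g
  have hW : EtCoh.etaleMP ((g.left ≫ V.hom) ≫ j) := by
    rw [Category.assoc, e]; exact W.prop
  let V' : U.Etale := MorphismProperty.Over.mk ⊤ (g.left ≫ V.hom)
      (EtCoh.etaleMP.of_postcomp (W' := EtCoh.etaleMP) (g.left ≫ V.hom) j hj hW)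
  let g' : V' ⟶ V := MorphismProperty.Over.homMk g.left rfl trivial
  let ι : (EtShriek.compEtale j).obj V' ≅ W :=
    MorphismProperty.Over.isoMk (Iso.refl _)
      ((Category.id_comp W.hom).trans (e.symm.trans (Category.assoc _ _ _).symm))
  have hι : (EtShriek.compEtale j).map g' = ι.hom ≫ g := by
    apply MorphismProperty.Over.Hom.ext
    change g.left = 𝟙 _ ≫ g.left
    rw [Category.id_comp]
  refine ⟨V', g', ⟨w, hw⟩, ?_⟩
  change IsOfFinAddOrder (F.obj.map ((EtShriek.compEtale j).map g').op s)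
  have h1 : F.obj.map ((EtShriek.compEtale j).map g').op s =
      F.obj.map ι.hom.op (F.obj.map g.op s) := by
    rw [hι, op_comp, F.obj.map_comp]
    rfl
  rw [h1]
  exact (F.obj.map ι.hom.op).hom.isOfFinAddOrder hfin

/-- inverse image along an étale morphism preserves torsion sheaves -/
theorem isTorsion_pull (F : EtCoh.Ab X) (hF : EtCoh.IsTorsion F) :
    EtCoh.IsTorsion ((EtCoh.pull j).obj F) :=
  isTorsion_of_iso ((pullIsoRestr j).app F).symm (isTorsion_restrAlong j F hF)

end Torsion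

/-- an element killed by two coprime integers vanishes -/
theorem eq_zero_of_coprime_nsmul {A : Type*} [AddCommGroup A] (x : A) (a b : ℕ)
    (hab : Nat.Coprime a b) (ha : a • x = 0) (hb : b • x = 0) : x = 0 := by
  have h1 : addOrderOf x ∣ a := addOrderOf_dvd_of_nsmul_eq_zero ha
  have h2 : addOrderOf x ∣ b := addOrderOf_dvd_of_nsmul_eq_zero hb
  have h3 : addOrderOf x ∣ 1 := by
    have := Nat.dvd_gcd h1 h2
    rwa [hab] at this
  exact AddMonoid.addOrderOf_eq_one_iff.1 (Nat.dvd_one.1 h3)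

variable (k K : Type u) [Field k] [Field K] [Algebra k K]
  [FiniteDimensional k K] [Algebra.IsSeparable k K]

theorem cohDim_p_ge_of_finrank_coprime (p : ℕ) [Fact p.Prime]
    (hdeg : ¬ p ∣ Module.finrank k K) (n : ℕ)
    (hcd : ∀ (F : EtCoh.Ab (Spec (CommRingCat.of K))), EtCoh.IsTorsion F → ∀ q : ℕ, n < q →
        ∀ x : EtCoh.H (Spec (CommRingCat.of K)) F q, (∃ m : ℕ, p ^ m • x = 0) → x = 0)
    (F : EtCoh.Ab (Spec (CommRingCat.of k))) (hF : EtCoh.IsTorsion F) (q : ℕ) (hq : n < q)
    (x : EtCoh.H (Spec (CommRingCat.of k)) F q) (hx : ∃ m : ℕ, p ^ m • x = 0) : x = 0 := by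
  obtain ⟨m, hm⟩ := hx
  have hy : EtCore.Hpull (sK k K) F q x = 0 := by
    refine hcd _ (isTorsion_pull (sK k K) F hF) q hq _ ⟨m, ?_⟩
    rw [← map_nsmul, hm, map_zero]
  have hfin := finrank_nsmul_eq_zero k K F q x hy
  refine eq_zero_of_coprime_nsmul x _ _ ?_ hfin hm
  exact Nat.Coprime.pow_right m
    ((Nat.Prime.coprime_iff_not_dvd (Fact.out : p.Prime)).2 hdeg).symm

end Groth.Agent.Lib.Helper27.EtTrace
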