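import Groth.Agent.Lib.Helper27.AS3
import Groth.Agent.S18415
import Groth.Agent.S0109

/-!
# The Artin–Schreier sequence and the vanishing of `H^q(S, ℤ/p)` for `q ≥ 2` on affine schemes
of characteristic `p`
-/

set_option autoImplicit false
universe u

namespace Groth.Agent.Lib.Helper27.AS

open CategoryTheory CategoryTheory.Limits AlgebraicGeometry Opposite Abelian
open Groth.Agent.Lib.Helper23 W4c5etcohweilstudent

variable {S : Scheme.{u}} (p : ℕ) [hp : Fact p.Prime] (h0 : (p : Γ(S, ⊤)) = 0)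

/-- the Artin–Schreier short complex `ℤ/p → G_a → G_a` -/
noncomputable def asSC : ShortComplex (EtCoh.Ab S) :=
  ShortComplex.mk (g p h0) (artinSchreierEndo S p hp.out h0) (g_as p h0)

theorem asSC_shortExact : (asSC p h0).ShortExact := by
  haveI := isIso_φ p h0
  have hmono : Mono (g p h0) := by
    rw [← φ_ι p h0]
    infer_instance
  haveI : Epi (artinSchreierEndo S p hp.out h0) := Groth.Agent.S18415.result p hp.out h0
  exact
    { exact := ShortComplex.exact_of_f_is_kernel _
        (kernel.isoKernel (f := artinSchreierEndo S p hp.out h0) (g p h0) (asIso (φ p h0)) (φ_ι p h0))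
      mono_f := hmono
      epi_g := inferInstanceAs (Epi (artinSchreierEndo S p hp.out h0)) }

include h0 in
theorem subsingleton_H_const [IsAffine S] (q : ℕ) (hq : 2 ≤ q) :
    Subsingleton (EtCoh.H S (EtCoh.const S (ZMod p)) q) := by
  obtain ⟨n, rfl⟩ : ∃ n, q = n + 1 + 1 := ⟨q - 2, by omega⟩
  have hS := asSC_shortExact p h0
  have hGa : ∀ (m : ℕ) (y : EtCoh.H S (EtCoh.Ga S) (m + 1)), y = 0 := by
    intro m y
    exact (Groth.Agent.S0109.result S (m + 1) (by omega)).elim y 0
  have key : ∀ x : EtCoh.H S (EtCoh.const S (ZMod p)) (n + 1 + 1), x = 0 := by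
    intro x
    have hx : x.comp (Ext.mk₀ (asSC p h0).f) (add_zero _) = 0 := hGa (n + 1) _
    obtain ⟨x₃, hx₃⟩ := Ext.covariant_sequence_exact₁ _ hS x hx (rfl : n + 1 + 1 = n + 1 + 1)
    have hx₃0 : x₃ = 0 := hGa n x₃
    rw [← hx₃, hx₃0, Ext.zero_comp]
    rfl
  exact ⟨fun a b => (key a).trans (key b).symm⟩

end Groth.Agent.Lib.Helper27.AS
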