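import Groth.Agent.Lib.Helper6.RDShift
import Mathlib.CategoryTheory.Abelian.RightDerived

/-!
# Right derived functors of a composite, by dimension shifting (helper27)

`G : A ⥤ B`, `H : B ⥤ C` left exact, `G` sends injectives to `H`-acyclic objects.  If
`RᵖG(F) = 0` for `p < N` then `Rᵖ(G ⋙ H)(F) = 0` for `p < N` and
`Rᴺ(G ⋙ H)(F) ≅ H(RᴺG(F))`.
-/

set_option autoImplicit false
universe v₁ v₂ v₃ u₁ u₂ u₃
open CategoryTheory Limits
open Groth.Agent.Lib.Helper6.RDShift Groth.Agent.Lib.Helper6.DeltaCompare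

namespace Groth.Agent.Lib.Helper27.AbsComp

variable {A : Type u₁} [Category.{v₁} A] [Abelian A] [EnoughInjectives A]
  {B : Type u₂} [Category.{v₂} B] [Abelian B] [EnoughInjectives B]
  {C : Type u₃} [Category.{v₃} C] [Abelian C]

section Acyclic

variable (H : B ⥤ C) [H.Additive] [PreservesFiniteLimits H]

/-- `H`-acyclic objects -/
def HAcyc (Y : B) : Prop := ∀ p : ℕ, IsZero ((H.rightDerived (p + 1)).obj Y)

variable {H}

theorem HAcyc.of_iso {Y Y' : B} (h : HAcyc H Y) (e : Y ≅ Y') : HAcyc H Y' :=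
  fun p => (h p).of_iso ((H.rightDerived (p + 1)).mapIso e.symm)

theorem hAcyc_of_isZero {Y : B} (h : IsZero Y) : HAcyc H Y :=
  fun p => (H.rightDerived (p + 1)).map_isZero h

theorem hAcyc_of_injective (Y : B) [Injective Y] : HAcyc H Y :=
  fun p => Functor.isZero_rightDerived_obj_injective_succ _ p Y

/-- two out of three -/
theorem HAcyc.X₃ {S : ShortComplex B} (hS : S.ShortExact) (h₁ : HAcyc H S.X₁) (h₂ : HAcyc H S.X₂) :
    HAcyc H S.X₃ := by
  intro p
  obtain ⟨δ, w₀, w₁, w₂, e₀, e₁, e₂⟩ := rightDerived_les H hS (p + 1)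
  exact e₁.isZero_of_both_isZero (h₂ p) (h₁ (p + 1))

/-- `H` is exact on short exact sequences with acyclic kernel -/
theorem shortExact_map_of_hAcyc {S : ShortComplex B} (hS : S.ShortExact) (h₁ : HAcyc H S.X₁) :
    (S.map H).ShortExact := by
  obtain ⟨δ, w₀, w₁, w₂, e₀, e₁, e₂⟩ := rightDerived_les H hS 0
  haveI := hS.mono_f
  have hex : (S.map H).Exact := hS.exact.map_of_mono_of_preservesKernel H inferInstance inferInstance
  haveI : Mono (S.map H).f := by
    change Mono (H.map S.f)
    infer_instance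
  haveI : Epi ((H.rightDerived 0).map S.g) := e₁.epi_f ((h₁ 0).eq_of_tgt _ _)
  haveI : Epi (S.map H).g := by
    change Epi (H.map S.g)
    have nat := H.rightDerivedZeroIsoSelf.hom.naturality S.g
    have h2 : H.map S.g = H.rightDerivedZeroIsoSelf.inv.app S.X₂ ≫
        (H.rightDerived 0).map S.g ≫ H.rightDerivedZeroIsoSelf.hom.app S.X₃ := by
      rw [nat, Iso.inv_hom_id_app_assoc]
    rw [h2]
    infer_instance
  exact { exact := hex }

/-- `H` commutes with the cokernel of a morphism with acyclic source and acyclic kernel -/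
theorem nonempty_cokernel_map_iso {Y₂ Y₃ : B} (φ : Y₂ ⟶ Y₃) (hker : HAcyc H (kernel φ))
    (h₂ : HAcyc H Y₂) : Nonempty (cokernel (H.map φ) ≅ H.obj (cokernel φ)) := by
  let S₁ : ShortComplex B := ShortComplex.mk (kernel.ι φ) (Abelian.factorThruImage φ) (by
    rw [← cancel_mono (Abelian.image.ι φ), Category.assoc, Abelian.image.fac, kernel.condition,
      zero_comp])
  let S₁' : ShortComplex B := ShortComplex.mk (kernel.ι φ) φ (kernel.condition φ)
  let α : S₁ ⟶ S₁' :=
    { τ₁ := 𝟙 _
      τ₂ := 𝟙 _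
      τ₃ := Abelian.image.ι φ
      comm₁₂ := by simp [S₁, S₁']
      comm₂₃ := by simp [S₁, S₁'] }
  haveI : Epi α.τ₁ := inferInstanceAs (Epi (𝟙 _))
  haveI : IsIso α.τ₂ := inferInstanceAs (IsIso (𝟙 _))
  haveI : Mono α.τ₃ := inferInstanceAs (Mono (Abelian.image.ι φ))
  have hS₁ : S₁.ShortExact :=
    { exact := (ShortComplex.exact_iff_of_epi_of_isIso_of_mono α).2 (ShortComplex.exact_kernel φ)
      mono_f := inferInstanceAs (Mono (kernel.ι φ))
      epi_g := inferInstanceAs (Epi (Abelian.factorThruImage φ)) }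
  let S₂ : ShortComplex B := ShortComplex.mk (Abelian.image.ι φ) (cokernel.π φ) (by simp)
  have hS₂ : S₂.ShortExact :=
    { exact := ShortComplex.exact_kernel (cokernel.π φ)
      mono_f := inferInstanceAs (Mono (Abelian.image.ι φ))
      epi_g := inferInstanceAs (Epi (cokernel.π φ)) }
  have hK : HAcyc H (Abelian.image φ) := HAcyc.X₃ hS₁ hker h₂
  have hH₁ := shortExact_map_of_hAcyc hS₁ hker
  have hH₂ := shortExact_map_of_hAcyc hS₂ hK
  haveI : Epi (H.map (Abelian.factorThruImage φ)) := hH₁.epi_g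
  haveI := hH₂.epi_g
  have e1 : H.map φ = H.map (Abelian.factorThruImage φ) ≫ H.map (Abelian.image.ι φ) := by
    rw [← H.map_comp, Abelian.image.fac]
  have hc : IsColimit (CokernelCofork.ofπ (S₂.map H).g (S₂.map H).zero) := hH₂.exact.gIsCokernel
  refine ⟨cokernel.mapIso _ _ (Iso.refl _) (Iso.refl _) (by simp [e1]) ≪≫
    cokernelEpiComp (H.map (Abelian.factorThruImage φ)) (H.map (Abelian.image.ι φ)) ≪≫
    (IsColimit.coconePointUniqueUpToIso (cokernelIsCokernel (H.map (Abelian.image.ι φ))) hc :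
      (CokernelCofork.ofπ (cokernel.π (H.map (Abelian.image.ι φ))) (cokernel.condition _)).pt ≅
        (CokernelCofork.ofπ (S₂.map H).g (S₂.map H).zero).pt)⟩

end Acyclic

section Main

/-- the injective presentation `0 → F → I → Q → 0` -/
noncomputable def ses (F : A) : ShortComplex A :=
  ShortComplex.mk (Injective.ι F) (cokernel.π (Injective.ι F)) (cokernel.condition _)

theorem ses_shortExact (F : A) : (ses F).ShortExact :=
  { exact := ShortComplex.exact_cokernel _
    mono_f := inferInstanceAs (Mono (Injective.ι F))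
    epi_g := inferInstanceAs (Epi (cokernel.π (Injective.ι F))) }

instance (F : A) : Injective (ses F).X₂ := inferInstanceAs (Injective (Injective.under F))

section Gen

variable {D : Type u₃} [Category.{v₃} D] [Abelian D] (G : A ⥤ D) [G.Additive]

theorem hasShift_ses (F : A) :
    HasShift (fun n => G.rightDerived n) (ses F).f (ses F).g :=
  hasShift_rightDerived G (ses F) (ses_shortExact F)
    (fun n => Functor.isZero_rightDerived_obj_injective_succ _ n _)

/-- `R¹G(F) ≅ coker (G(I) → G(Q))` -/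
theorem nonempty_rightDerived_one_iso [PreservesFiniteLimits G] (F : A) :
    Nonempty ((G.rightDerived 1).obj F ≅ cokernel (G.map (ses F).g)) := by
  obtain ⟨e₁⟩ := (hasShift_ses G F).nonempty_iso_cokernel 0
  exact ⟨e₁ ≪≫ cokernel.mapIso _ _ (G.rightDerivedZeroIsoSelf.app _)
    (G.rightDerivedZeroIsoSelf.app _) (G.rightDerivedZeroIsoSelf.hom.naturality _)⟩

end Gen

variable (G : A ⥤ B) (H : B ⥤ C) [G.Additive] [H.Additive] [PreservesFiniteLimits G]
  [PreservesFiniteLimits H] (hacyc : ∀ I : A, Injective I → HAcyc H (G.obj I))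

include hacyc in
/-- the case `N = 1` -/
theorem nonempty_iso_one (F : A) (hF : HAcyc H (G.obj F)) :
    Nonempty (((G ⋙ H).rightDerived 1).obj F ≅ H.obj ((G.rightDerived 1).obj F)) := by
  haveI : PreservesFiniteLimits (G ⋙ H) := comp_preservesFiniteLimits G H
  obtain ⟨e₁⟩ := nonempty_rightDerived_one_iso G F
  obtain ⟨e₂⟩ := nonempty_rightDerived_one_iso (G ⋙ H) F
  have hE := ses_shortExact F
  haveI := hE.mono_f
  have hex : ((ses F).map G).Exact :=
    hE.exact.map_of_mono_of_preservesKernel G inferInstance inferInstance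
  haveI : Mono ((ses F).map G).f := by
    change Mono (G.map (ses F).f)
    infer_instance
  have hk : IsLimit (KernelFork.ofι ((ses F).map G).f ((ses F).map G).zero) := hex.fIsKernel
  let ek : G.obj F ≅ kernel (G.map (ses F).g) :=
    (IsLimit.conePointUniqueUpToIso hk (kernelIsKernel (G.map (ses F).g)) :
      (KernelFork.ofι ((ses F).map G).f ((ses F).map G).zero).pt ≅
        (KernelFork.ofι (kernel.ι (G.map (ses F).g)) (kernel.condition _)).pt)
  obtain ⟨k⟩ := nonempty_cokernel_map_iso (H := H) (G.map (ses F).g) (hF.of_iso ek)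
    (hacyc _ inferInstance)
  exact ⟨e₂ ≪≫ k ≪≫ H.mapIso e₁.symm⟩

include hacyc in
/-- the inductive statement -/
theorem main (N : ℕ) : ∀ F : A, HAcyc H (G.obj F) →
    (∀ p, 0 < p → p < N → IsZero ((G.rightDerived p).obj F)) →
    (∀ p, 0 < p → p < N → IsZero (((G ⋙ H).rightDerived p).obj F)) ∧
      (0 < N → Nonempty (((G ⋙ H).rightDerived N).obj F ≅ H.obj ((G.rightDerived N).obj F))) := by
  induction N with
  | zero =>
    intro F _ _
    exact ⟨fun p _ hp' => absurd hp' (Nat.not_lt_zero _), fun h => absurd h (lt_irrefl _)⟩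
  | succ N ih =>
    intro F hF hv
    cases N with
    | zero =>
      exact ⟨fun p hp hp' => by omega, fun _ => nonempty_iso_one G H hacyc F hF⟩
    | succ M =>
      have h1 : IsZero ((G.rightDerived 1).obj F) := hv 1 (by omega) (by omega)
      obtain ⟨e₁⟩ := nonempty_rightDerived_one_iso G F
      have hcok : IsZero (cokernel (G.map (ses F).g)) := h1.of_iso e₁.symm
      have hE := ses_shortExact F
      haveI := hE.mono_f
      have hex : ((ses F).map G).Exact :=
        hE.exact.map_of_mono_of_preservesKernel G inferInstance inferInstance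
      have hSG : ((ses F).map G).ShortExact :=
        { exact := hex
          mono_f := by
            change Mono (G.map (ses F).f)
            infer_instance
          epi_g := Preadditive.epi_of_isZero_cokernel (G.map (ses F).g) hcok }
      have hQ : HAcyc H (G.obj (ses F).X₃) := HAcyc.X₃ hSG hF (hacyc _ inferInstance)
      have hvQ : ∀ p, 0 < p → p < M + 1 → IsZero ((G.rightDerived p).obj (ses F).X₃) := by
        intro p hp hp'
        obtain ⟨q, rfl⟩ : ∃ q, p = q + 1 := ⟨p - 1, by omega⟩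
        obtain ⟨e⟩ := (hasShift_ses G F).nonempty_iso_succ q
        exact (hv (q + 2) (by omega) (by omega)).of_iso e
      obtain ⟨ihv, ihiso⟩ := ih (ses F).X₃ hQ hvQ
      refine ⟨?_, fun _ => ?_⟩
      · intro p hp hp'
        obtain ⟨q, rfl⟩ : ∃ q, p = q + 1 := ⟨p - 1, by omega⟩
        cases q with
        | zero =>
          obtain ⟨e⟩ := nonempty_iso_one G H hacyc F hF
          exact (H.map_isZero h1).of_iso e
        | succ q =>
          obtain ⟨e⟩ := (hasShift_ses (G ⋙ H) F).nonempty_iso_succ q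
          exact (ihv (q + 1) (by omega) (by omega)).of_iso e.symm
      · obtain ⟨e⟩ := (hasShift_ses (G ⋙ H) F).nonempty_iso_succ M
        obtain ⟨e'⟩ := (hasShift_ses G F).nonempty_iso_succ M
        obtain ⟨k⟩ := ihiso (by omega)
        exact ⟨e.symm ≪≫ k ≪≫ H.mapIso e'⟩

include hacyc in
/-- If `RᵖG(F) = 0` for `p < N`, then `Rᵖ(G ⋙ H)(F) = 0` for `p < N` and
`Rᴺ(G ⋙ H)(F) ≅ H(RᴺG(F))`. -/
theorem comp_rightDerived (N : ℕ) (F : A)
    (h : ∀ p, p < N → IsZero ((G.rightDerived p).obj F)) :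
    (∀ p, p < N → IsZero (((G ⋙ H).rightDerived p).obj F)) ∧
      Nonempty (((G ⋙ H).rightDerived N).obj F ≅ H.obj ((G.rightDerived N).obj F)) := by
  haveI : PreservesFiniteLimits (G ⋙ H) := comp_preservesFiniteLimits G H
  have e0 : ((G ⋙ H).rightDerived 0).obj F ≅ H.obj ((G.rightDerived 0).obj F) :=
    (G ⋙ H).rightDerivedZeroIsoSelf.app F ≪≫ H.mapIso (G.rightDerivedZeroIsoSelf.app F).symm
  cases N with
  | zero => exact ⟨fun p hp => absurd hp (Nat.not_lt_zero _), ⟨e0⟩⟩
  | succ M =>
    have h0 : IsZero ((G.rightDerived 0).obj F) := h 0 (by omega)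
    have hGF : IsZero (G.obj F) := h0.of_iso (G.rightDerivedZeroIsoSelf.app F).symm
    obtain ⟨hv, hiso⟩ := main G H hacyc (M + 1) F (hAcyc_of_isZero hGF)
      (fun p _ hp' => h p hp')
    refine ⟨fun p hp => ?_, hiso (by omega)⟩
    cases p with
    | zero => exact (H.map_isZero h0).of_iso e0
    | succ q => exact hv (q + 1) (by omega) hp

end Main

section Compare

variable {A' : Type u₂} [Category.{v₂} A'] [Abelian A'] [EnoughInjectives A']
  {D : Type u₃} [Category.{v₃} D] [Abelian D]

/-- derived functors and precomposition with an exact functor preserving injectives -/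
theorem nonempty_rightDerived_iso_of_iso (Φ : A ⥤ D) (Ψ : A ⥤ A') (Φ' : A' ⥤ D) [Φ.Additive]
    [Φ'.Additive] [Ψ.Additive] [PreservesFiniteLimits Φ] [PreservesFiniteLimits Φ']
    [PreservesFiniteLimits Ψ] [PreservesFiniteColimits Ψ]
    (hinj : ∀ I : A, Injective I → Injective (Ψ.obj I)) (θ : Φ ≅ Ψ ⋙ Φ') (n : ℕ) (F : A) :
    Nonempty ((Φ.rightDerived n).obj F ≅ (Φ'.rightDerived n).obj (Ψ.obj F)) := by
  let S : ℕ → A ⥤ D := fun n => Φ.rightDerived n
  let T : ℕ → A ⥤ D := fun n => Ψ ⋙ Φ'.rightDerived n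
  let θ0 : S 0 ≅ T 0 := Φ.rightDerivedZeroIsoSelf ≪≫ θ ≪≫
    Functor.isoWhiskerLeft Ψ Φ'.rightDerivedZeroIsoSelf.symm
  refine delta_compare S T θ0 (fun _ => True) ?_ n F trivial
  intro G _
  refine ⟨(ses G).X₂, (ses G).X₃, (ses G).f, (ses G).g, trivial, hasShift_ses Φ G, ?_⟩
  haveI : Injective (Ψ.obj (ses G).X₂) := hinj _ inferInstance
  exact hasShift_comp_rightDerived Φ' Ψ (ses G) ((ses_shortExact G).map_of_exact Ψ)
    (fun n => Functor.isZero_rightDerived_obj_injective_succ _ n _)

end Compare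

end Groth.Agent.Lib.Helper27.AbsComp
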