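import Groth.Prelude.Def_AlgSp
import Mathlib

/-! Representable morphisms of sheaves with a monic property are monomorphisms (helper27). -/

set_option autoImplicit false
universe u
open CategoryTheory CategoryTheory.Limits AlgebraicGeometry Opposite

namespace Groth.Agent.Lib.Helper27.AlgSpMono

theorem mono_of_repWith {S : Scheme.{u}} (P : MorphismProperty Scheme.{u})
    (hP : P ≤ MorphismProperty.monomorphisms Scheme.{u}) {F G : AlgSp.Sp S} (a : F ⟶ G)
    (ha : AlgSp.RepWith P a) : Mono a := by
  have key : ∀ {X : Over S} {p q : (AlgSp.yon S).obj X ⟶ F}, p ≫ a = q ≫ a → p = q := by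
    intro X p q h
    have hrep : (AlgSp.yon S).relativelyRepresentable a := ha.rep
    suffices hrep.lift (g := p ≫ a) p (𝟙 X) (by simp) = hrep.lift q (𝟙 X) (by simp [← h]) by
      simpa using (AlgSp.yon S).congr_map this =≫ (hrep.fst (p ≫ a))
    have hmono : Mono (hrep.snd (p ≫ a)) := by
      have h1 : P (hrep.snd (p ≫ a)).left := ha.property_snd (p ≫ a)
      have h2 : Mono (hrep.snd (p ≫ a)).left := hP _ h1
      exact Over.mono_of_mono_left _
    simp only [← cancel_mono (hrep.snd (p ≫ a)), Functor.relativelyRepresentable.lift_snd]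
  constructor
  intro H φ ψ hφψ
  apply Sheaf.hom_ext
  ext T x
  have h1 := key (p := (AlgSp.J S).uliftYonedaEquiv.symm x ≫ φ)
    (q := (AlgSp.J S).uliftYonedaEquiv.symm x ≫ ψ) (by rw [Category.assoc, Category.assoc, hφψ])
  have h2 := congrArg (AlgSp.J S).uliftYonedaEquiv h1
  rw [GrothendieckTopology.uliftYonedaEquiv_comp, GrothendieckTopology.uliftYonedaEquiv_comp,
    Equiv.apply_symm_apply] at h2
  exact h2

end Groth.Agent.Lib.Helper27.AlgSpMono
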