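import Groth.Prelude.Def_AlgSt
import Groth.Prelude.Def_FibCat2
import Groth.Agent.Lib.Helper16.FpFibGrpd

/-!
# Transport along equivalences over the base (helper27)

General-universe versions: postcomposition with an equivalence over `C` is an equivalence of
categories of based functors, it commutes with restriction, and the conditions "fibred in
groupoids", "prestack", "stack", "fibred in setoids" are invariant.
-/

set_option autoImplicit false
set_option backward.isDefEq.respectTransparency false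
set_option backward.isDefEq.respectTransparency.types false

universe v₅ u₅ v₄ u₄ v₃ u₃ v₂ u₂ v u

open CategoryTheory Groth.Agent.Lib.Helper16.FpFibGrpd

namespace Groth.Agent.Lib.Helper27.EquivOverAux

variable {C : Type u} [Category.{v} C]
variable {𝒳 : BasedCategory.{v₂, u₂} C} {𝒴 : BasedCategory.{v₃, u₃} C}

/-- Postcomposition with a based functor, as a functor between categories of based functors. -/
def postF (𝒜 : BasedCategory.{v₄, u₄} C) (F : 𝒳 ⥤ᵇ 𝒴) : (𝒜 ⥤ᵇ 𝒳) ⥤ (𝒜 ⥤ᵇ 𝒴) where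
  obj H := BasedFunctor.comp H F
  map α := BasedCategory.whiskerRight α F
  map_id H := by
    apply BasedNatTrans.homCategory.ext
    ext a
    exact F.toFunctor.map_id _
  map_comp α β := by
    apply BasedNatTrans.homCategory.ext
    ext a
    exact F.toFunctor.map_comp _ _

@[simp] lemma postF_obj (𝒜 : BasedCategory.{v₄, u₄} C) (F : 𝒳 ⥤ᵇ 𝒴) (H : 𝒜 ⥤ᵇ 𝒳) :
    (postF 𝒜 F).obj H = BasedFunctor.comp H F := rfl

@[simp] lemma postF_map_app (𝒜 : BasedCategory.{v₄, u₄} C) (F : 𝒳 ⥤ᵇ 𝒴) {H H' : 𝒜 ⥤ᵇ 𝒳}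
    (α : H ⟶ H') (a : 𝒜.obj) :
    ((postF 𝒜 F).map α).toNatTrans.app a = F.map (α.toNatTrans.app a) := rfl

lemma iso_hom_inv_app {F G : 𝒳 ⥤ᵇ 𝒴} (e : F ≅ G) (a : 𝒳.obj) :
    e.hom.toNatTrans.app a ≫ e.inv.toNatTrans.app a = 𝟙 _ := by
  have : e.hom ≫ e.inv = 𝟙 _ := e.hom_inv_id
  exact congrArg (fun α => (BasedNatTrans.toNatTrans α).app a) this

lemma iso_inv_hom_app {F G : 𝒳 ⥤ᵇ 𝒴} (e : F ≅ G) (a : 𝒳.obj) :
    e.inv.toNatTrans.app a ≫ e.hom.toNatTrans.app a = 𝟙 _ := by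
  have : e.inv ≫ e.hom = 𝟙 _ := e.inv_hom_id
  exact congrArg (fun α => (BasedNatTrans.toNatTrans α).app a) this

/-- The counit-type isomorphism `(- ⋙ F) ⋙ G ≅ 𝟭` attached to `F ⋙ G ≅ 𝟭`. -/
def postUnit (𝒜 : BasedCategory.{v₄, u₄} C) (F : 𝒳 ⥤ᵇ 𝒴) (G : 𝒴 ⥤ᵇ 𝒳)
    (e1 : BasedFunctor.comp F G ≅ BasedFunctor.id 𝒳) :
    postF 𝒜 F ⋙ postF 𝒜 G ≅ 𝟭 (𝒜 ⥤ᵇ 𝒳) :=
  NatIso.ofComponents
    (fun H =>
      { hom := (BasedCategory.whiskerLeft H e1.hom :
          BasedFunctor.comp (BasedFunctor.comp H F) G ⟶ H)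
        inv := (BasedCategory.whiskerLeft H e1.inv :
          H ⟶ BasedFunctor.comp (BasedFunctor.comp H F) G)
        hom_inv_id := by
          apply BasedNatTrans.homCategory.ext
          ext a
          exact iso_hom_inv_app e1 (H.obj a)
        inv_hom_id := by
          apply BasedNatTrans.homCategory.ext
          ext a
          exact iso_inv_hom_app e1 (H.obj a) })
    (by
      intro H H' α
      apply BasedNatTrans.homCategory.ext
      ext a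
      exact e1.hom.toNatTrans.naturality (α.toNatTrans.app a))

/-- Postcomposition with an equivalence over `C` is an equivalence. -/
def postEquiv (𝒜 : BasedCategory.{v₄, u₄} C) (F : 𝒳 ⥤ᵇ 𝒴) (G : 𝒴 ⥤ᵇ 𝒳)
    (e1 : BasedFunctor.comp F G ≅ BasedFunctor.id 𝒳)
    (e2 : BasedFunctor.comp G F ≅ BasedFunctor.id 𝒴) : (𝒜 ⥤ᵇ 𝒳) ≌ (𝒜 ⥤ᵇ 𝒴) :=
  CategoryTheory.Equivalence.mk (postF 𝒜 F) (postF 𝒜 G) (postUnit 𝒜 F G e1).symm
    (postUnit 𝒜 G F e2)

/-- Postcomposition commutes with restriction. -/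
def restrPostIso {𝒜 : BasedCategory.{v₄, u₄} C} {ℬ : BasedCategory.{v₅, u₅} C} (ι : 𝒜 ⥤ᵇ ℬ)
    (F : 𝒳 ⥤ᵇ 𝒴) :
    Stk.restr ι 𝒳 ⋙ postF 𝒜 F ≅ postF ℬ F ⋙ Stk.restr ι 𝒴 :=
  NatIso.ofComponents (fun H => Iso.refl _)
    (by
      intro H H' α
      apply BasedNatTrans.homCategory.ext
      ext a
      simp only [Iso.refl_hom, Category.comp_id, Category.id_comp]
      rfl)

section Transport

variable (F : 𝒳 ⥤ᵇ 𝒴) (G : 𝒴 ⥤ᵇ 𝒳)
  (e1 : BasedFunctor.comp F G ≅ BasedFunctor.id 𝒳)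
  (e2 : BasedFunctor.comp G F ≅ BasedFunctor.id 𝒴)

include e1 e2 in
theorem isStackFor_of_equiv {U : C} (R : Sieve U) (h : Stk.IsStackFor R 𝒳) :
    Stk.IsStackFor R 𝒴 := by
  have e := restrPostIso (Stk.sieveIncl R) F
  haveI : (Stk.restr (Stk.sieveIncl R) 𝒳).IsEquivalence := h
  haveI : (postF (Stk.sieveCat R) F).IsEquivalence :=
    (postEquiv (Stk.sieveCat R) F G e1 e2).isEquivalence_functor
  haveI : (postF (FibCat.overCat U) F).IsEquivalence :=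
    (postEquiv (FibCat.overCat U) F G e1 e2).isEquivalence_functor
  haveI : (postF (FibCat.overCat U) F ⋙ Stk.restr (Stk.sieveIncl R) 𝒴).IsEquivalence :=
    Functor.isEquivalence_of_iso e
  exact Functor.isEquivalence_of_comp_left (postF (FibCat.overCat U) F)
    (Stk.restr (Stk.sieveIncl R) 𝒴)

include e1 e2 in
theorem isPrestackFor_of_equiv {U : C} (R : Sieve U) (h : Stk.IsPrestackFor R 𝒳) :
    Stk.IsPrestackFor R 𝒴 := by
  have e := restrPostIso (Stk.sieveIncl R) F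
  haveI : (Stk.restr (Stk.sieveIncl R) 𝒳).Full := h.1
  haveI : (Stk.restr (Stk.sieveIncl R) 𝒳).Faithful := h.2
  haveI : (postF (Stk.sieveCat R) F).IsEquivalence :=
    (postEquiv (Stk.sieveCat R) F G e1 e2).isEquivalence_functor
  let E := postEquiv (FibCat.overCat U) F G e1 e2
  have e' : Stk.restr (Stk.sieveIncl R) 𝒴 ≅
      E.inverse ⋙ (Stk.restr (Stk.sieveIncl R) 𝒳 ⋙ postF (Stk.sieveCat R) F) :=
    (Functor.leftUnitor _).symm ≪≫ Functor.isoWhiskerRight E.counitIso.symm _ ≪≫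
      Functor.associator _ _ _ ≪≫ Functor.isoWhiskerLeft _ e.symm
  exact ⟨Functor.Full.of_iso e'.symm, Functor.Faithful.of_iso e'.symm⟩

/-- The underlying functor of the quasi-inverse is an equivalence. -/
def underlyingEquiv : 𝒳.obj ≌ 𝒴.obj :=
  CategoryTheory.Equivalence.mk F.toFunctor G.toFunctor
    ((BasedNatTrans.forgetful _ _).mapIso e1).symm ((BasedNatTrans.forgetful _ _).mapIso e2)

include e1 e2 in
theorem isFibGrpd_of_equiv (h : FibCat.IsFibGrpd 𝒳.p) : FibCat.IsFibGrpd 𝒴.p := by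
  haveI : G.toFunctor.IsEquivalence := (underlyingEquiv F G e1 e2).isEquivalence_inverse
  constructor
  · intro y V f
    obtain ⟨x', φ, hφ⟩ := FibGrpd.exists_lift' 𝒳.p h (x := G.obj y) (G.w_obj y) f
    exact ⟨F.obj x', F.map φ ≫ e2.hom.toNatTrans.app y, inferInstance⟩
  · intro y' y φ
    refine { toIsHomLift := inferInstance, universal_property' := ?_ }
    intro a' g φ' hφ'
    have hGφ : 𝒳.p.IsStronglyCartesian (𝒴.p.map φ) (G.map φ) :=
      FibGrpd.isStronglyCartesian 𝒳.p h (𝒴.p.map φ) (G.map φ)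
    have hGφ' : 𝒳.p.IsHomLift (g ≫ 𝒴.p.map φ) (G.map φ') := inferInstance
    have hg : 𝒳.p.obj (G.obj a') = 𝒴.p.obj a' := G.w_obj a'
    obtain ⟨χ₀, ⟨hχ₀l, hχ₀⟩, huniq⟩ :=
      Functor.IsStronglyCartesian.universal_property 𝒳.p (𝒴.p.map φ) (G.map φ) g
        (g ≫ 𝒴.p.map φ) rfl (G.map φ')
    refine ⟨G.toFunctor.preimage χ₀, ⟨?_, ?_⟩, ?_⟩
    · rw [← BasedFunctor.isHomLift_iff G]
      rw [show G.map (G.toFunctor.preimage χ₀) = χ₀ from G.toFunctor.map_preimage χ₀]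
      exact hχ₀l
    · apply G.toFunctor.map_injective
      rw [Functor.map_comp, G.toFunctor.map_preimage χ₀]
      exact hχ₀
    · rintro χ' ⟨hχ'l, hχ'⟩
      apply G.toFunctor.map_injective
      rw [G.toFunctor.map_preimage χ₀]
      apply huniq
      refine ⟨inferInstance, ?_⟩
      change G.toFunctor.map χ' ≫ G.toFunctor.map φ = G.toFunctor.map φ'
      rw [← Functor.map_comp, hχ']

include e1 e2 in
theorem isThin_fiber_of_equiv (h : ∀ U : C, Quiver.IsThin (𝒳.p.Fiber U)) (U : C) :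
    Quiver.IsThin (𝒴.p.Fiber U) := by
  haveI : G.toFunctor.IsEquivalence := (underlyingEquiv F G e1 e2).isEquivalence_inverse
  intro a b
  constructor
  intro f g
  have hf : 𝒴.p.IsHomLift (𝟙 U) f.1 := f.2
  have hg : 𝒴.p.IsHomLift (𝟙 U) g.1 := g.2
  let a' : 𝒳.p.Fiber U := ⟨G.obj a.1, (G.w_obj a.1).trans a.2⟩
  let b' : 𝒳.p.Fiber U := ⟨G.obj b.1, (G.w_obj b.1).trans b.2⟩
  let f' : a' ⟶ b' := ⟨G.map f.1, inferInstance⟩
  let g' : a' ⟶ b' := ⟨G.map g.1, inferInstance⟩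
  have : f' = g' := (h U a' b').elim f' g'
  apply Subtype.ext
  apply G.toFunctor.map_injective
  exact congrArg Subtype.val this

end Transport

/-- Prestacks are invariant under equivalence over the base. -/
theorem isPrestack_iff (J : GrothendieckTopology C) (F : 𝒳 ⥤ᵇ 𝒴) (hF : FibCat.IsEquivOver F) :
    Stk.IsPrestack J 𝒳 ↔ Stk.IsPrestack J 𝒴 := by
  obtain ⟨G, ⟨e1⟩, ⟨e2⟩⟩ := hF
  constructor
  · rintro ⟨h1, h2⟩
    exact ⟨isFibGrpd_of_equiv F G e1 e2 h1, fun U R hR =>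
      isPrestackFor_of_equiv F G e1 e2 R (h2 R hR)⟩
  · rintro ⟨h1, h2⟩
    exact ⟨isFibGrpd_of_equiv G F e2 e1 h1, fun U R hR =>
      isPrestackFor_of_equiv G F e2 e1 R (h2 R hR)⟩

/-- Stacks are invariant under equivalence over the base. -/
theorem isStack_iff (J : GrothendieckTopology C) (F : 𝒳 ⥤ᵇ 𝒴) (hF : FibCat.IsEquivOver F) :
    Stk.IsStack J 𝒳 ↔ Stk.IsStack J 𝒴 := by
  obtain ⟨G, ⟨e1⟩, ⟨e2⟩⟩ := hF
  constructor
  · rintro ⟨h1, h2⟩
    exact ⟨isFibGrpd_of_equiv F G e1 e2 h1, fun U R hR =>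
      isStackFor_of_equiv F G e1 e2 R (h2 R hR)⟩
  · rintro ⟨h1, h2⟩
    exact ⟨isFibGrpd_of_equiv G F e2 e1 h1, fun U R hR =>
      isStackFor_of_equiv G F e2 e1 R (h2 R hR)⟩

/-- Fibred in setoids is invariant under equivalence over the base. -/
theorem isFibSetoid_iff (F : 𝒳 ⥤ᵇ 𝒴) (hF : FibCat.IsEquivOver F) :
    FibCat.IsFibSetoid 𝒳.p ↔ FibCat.IsFibSetoid 𝒴.p := by
  obtain ⟨G, ⟨e1⟩, ⟨e2⟩⟩ := hF
  constructor
  · rintro ⟨h1, h2⟩
    exact ⟨isFibGrpd_of_equiv F G e1 e2 h1, isThin_fiber_of_equiv F G e1 e2 h2⟩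
  · rintro ⟨h1, h2⟩
    exact ⟨isFibGrpd_of_equiv G F e2 e1 h1, isThin_fiber_of_equiv G F e2 e1 h2⟩


section QuasiInverse

variable {𝒳 : BasedCategory.{v₂, u₂} C} {𝒴 : BasedCategory.{v₃, u₃} C} (F : 𝒳 ⥤ᵇ 𝒴)
  [F.toFunctor.Full] [F.toFunctor.Faithful]
  (ξ : 𝒴.obj → 𝒳.obj) (ε : ∀ η : 𝒴.obj, F.obj (ξ η) ≅ η)
  (hε : ∀ η : 𝒴.obj, 𝒴.p.IsHomLift (𝟙 (𝒴.p.obj η)) (ε η).hom)

include hε in
theorem qinv_map_lift {η η' : 𝒴.obj} (ψ : η ⟶ η') :
    𝒴.p.IsHomLift (𝒴.p.map ψ) ((ε η).hom ≫ ψ ≫ (ε η').inv) := by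
  have h1 := hε η
  have h2 := hε η'
  have h3 : 𝒴.p.IsHomLift (𝟙 (𝒴.p.obj η')) (ε η').inv := inferInstance
  infer_instance

/-- The quasi-inverse built from a choice of preimages up to isomorphism over identities. -/
noncomputable def qinv : 𝒴 ⥤ᵇ 𝒳 where
  toFunctor :=
    { obj := ξ
      map := fun {η η'} ψ => F.toFunctor.preimage ((ε η).hom ≫ ψ ≫ (ε η').inv)
      map_id := fun η => by
        apply F.toFunctor.map_injective
        simp
      map_comp := fun {η η' η''} ψ ψ' => by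
        apply F.toFunctor.map_injective
        simp }
  w := by
    refine CategoryTheory.Functor.ext (fun η => ?_) (fun η η' ψ => ?_)
    · have := hε η
      change 𝒳.p.obj (ξ η) = 𝒴.p.obj η
      rw [← F.w_obj]
      exact IsHomLift.domain_eq 𝒴.p (𝟙 (𝒴.p.obj η)) (ε η).hom
    · have h := qinv_map_lift F ξ ε hε ψ
      have h' : 𝒳.p.IsHomLift (𝒴.p.map ψ)
          (F.toFunctor.preimage ((ε η).hom ≫ ψ ≫ (ε η').inv)) := by
        rw [← BasedFunctor.isHomLift_iff F]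
        rw [show F.map (F.toFunctor.preimage ((ε η).hom ≫ ψ ≫ (ε η').inv)) =
          (ε η).hom ≫ ψ ≫ (ε η').inv from F.toFunctor.map_preimage _]
        exact h
      exact IsHomLift.fac' 𝒳.p (𝒴.p.map ψ) _

theorem map_qinv_map {η η' : 𝒴.obj} (ψ : η ⟶ η') :
    F.map ((qinv F ξ ε hε).map ψ) = (ε η).hom ≫ ψ ≫ (ε η').inv :=
  F.toFunctor.map_preimage _

include hε in
/-- A fully faithful based functor which is essentially surjective over identities is an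
equivalence over the base. -/
theorem isEquivOver_of_ff_ess : FibCat.IsEquivOver F := by
  refine ⟨qinv F ξ ε hε, ⟨?_⟩, ⟨?_⟩⟩
  · -- F ⋙ G ≅ 𝟭
    refine BasedNatIso.mkNatIso (NatIso.ofComponents
      (fun x => F.toFunctor.preimageIso (ε (F.obj x))) ?_) ?_
    · intro x x' φ
      apply F.toFunctor.map_injective
      simp only [Functor.map_comp, Functor.preimageIso_hom, Functor.map_preimage]
      change F.map ((qinv F ξ ε hε).map (F.map φ)) ≫ _ = _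
      rw [map_qinv_map]
      simp
      rfl
    · intro x
      change 𝒳.p.IsHomLift (𝟙 (𝒳.p.obj x)) (F.toFunctor.preimage (ε (F.obj x)).hom)
      rw [← BasedFunctor.isHomLift_iff F]
      rw [show F.map (F.toFunctor.preimage (ε (F.obj x)).hom) = (ε (F.obj x)).hom from
        F.toFunctor.map_preimage _]
      have := hε (F.obj x)
      rw [F.w_obj] at this
      exact this
  · -- G ⋙ F ≅ 𝟭
    refine BasedNatIso.mkNatIso (NatIso.ofComponents (fun η => ε η) ?_) ?_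
    · intro η η' ψ
      change F.map ((qinv F ξ ε hε).map ψ) ≫ _ = _ ≫ ψ
      rw [map_qinv_map]
      simp
    · intro η
      exact hε η

end QuasiInverse

/-- Characterisation of equivalences over the base. -/
theorem isEquivOver_iff_ff_ess {𝒳 : BasedCategory.{v₂, u₂} C} {𝒴 : BasedCategory.{v₃, u₃} C}
    (F : 𝒳 ⥤ᵇ 𝒴) :
    FibCat.IsEquivOver F ↔
      (F.toFunctor.Full ∧ F.toFunctor.Faithful) ∧
        ∀ η : 𝒴.obj, ∃ (ξ : 𝒳.obj) (e : F.toFunctor.obj ξ ≅ η),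
          𝒴.p.IsHomLift (𝟙 (𝒴.p.obj η)) e.hom := by
  constructor
  · rintro ⟨G, ⟨e1⟩, ⟨e2⟩⟩
    have hE := (underlyingEquiv F G e1 e2).isEquivalence_functor
    have hE' : F.toFunctor.IsEquivalence := hE
    refine ⟨⟨hE'.full, hE'.faithful⟩, fun η => ⟨G.obj η,
      ((BasedNatTrans.forgetful _ _).mapIso e2).app η, ?_⟩⟩
    change 𝒴.p.IsHomLift (𝟙 (𝒴.p.obj η)) (e2.hom.toNatTrans.app η)
    infer_instance
  · rintro ⟨⟨h1, h2⟩, h3⟩
    choose ξ ε hε using h3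
    exact isEquivOver_of_ff_ess F ξ ε hε


section Transportable

variable {𝒳 : BasedCategory.{v₂, u₂} C} {𝒴 : BasedCategory.{v₃, u₃} C}

/-- If isomorphisms of the base lift to `𝒳`, a based functor whose underlying functor is an
equivalence is an equivalence over the base. -/
theorem isEquivOver_of_isEquivalence_of_transport
    (h𝒳 : ∀ ⦃T S : C⦄ (α : T ≅ S) (ξ : 𝒳.obj), 𝒳.p.obj ξ = T →
      ∃ (ξ' : 𝒳.obj) (e : ξ ≅ ξ'), 𝒳.p.IsHomLift α.hom e.hom)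
    (F : 𝒳 ⥤ᵇ 𝒴) [F.toFunctor.IsEquivalence] : FibCat.IsEquivOver F := by
  rw [isEquivOver_iff_ff_ess]
  refine ⟨⟨inferInstance, inferInstance⟩, fun η => ?_⟩
  let ξ₀ := F.toFunctor.objPreimage η
  let e₀ : F.obj ξ₀ ≅ η := F.toFunctor.objObjPreimageIso η
  let α : 𝒳.p.obj ξ₀ ≅ 𝒴.p.obj η := eqToIso (F.w_obj ξ₀).symm ≪≫ 𝒴.p.mapIso e₀
  obtain ⟨ξ', e, he⟩ := h𝒳 α ξ₀ rfl
  have h1 : 𝒴.p.IsHomLift α.hom e₀.hom := by
    change 𝒴.p.IsHomLift (eqToHom (F.w_obj ξ₀).symm ≫ 𝒴.p.map e₀.hom) e₀.hom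
    infer_instance
  have h2 : 𝒴.p.IsHomLift α.hom (F.toFunctor.mapIso e).hom := by
    change 𝒴.p.IsHomLift α.hom (F.map e.hom)
    infer_instance
  have h3 : 𝒴.p.IsHomLift α.inv (F.toFunctor.mapIso e).inv := inferInstance
  have h4 : 𝒴.p.IsHomLift (α.inv ≫ α.hom) ((F.toFunctor.mapIso e).inv ≫ e₀.hom) := inferInstance
  rw [Iso.inv_hom_id] at h4
  exact ⟨ξ', (F.toFunctor.mapIso e).symm ≪≫ e₀, h4⟩

end Transportable

section Cartesian

variable {𝒳 : BasedCategory.{v₂, u₂} C} {𝒴 : BasedCategory.{v₃, u₃} C}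

/-- A fully faithful based functor reflects cartesian morphisms. -/
theorem isCartesian_of_map (F : 𝒳 ⥤ᵇ 𝒴) [F.toFunctor.Full] [F.toFunctor.Faithful]
    {R S : C} (f : R ⟶ S) {a b : 𝒳.obj} (φ : a ⟶ b)
    (h : 𝒴.p.IsCartesian f (F.map φ)) : 𝒳.p.IsCartesian f φ := by
  haveI : 𝒳.p.IsHomLift f φ := (BasedFunctor.isHomLift_iff F f φ).1 inferInstance
  refine { universal_property := ?_ }
  intro a' φ' hφ'
  obtain ⟨χ', ⟨hχ'l, hχ'⟩, huniq⟩ := h.universal_property (F.map φ')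
  refine ⟨F.toFunctor.preimage χ', ⟨?_, ?_⟩, ?_⟩
  · rw [← BasedFunctor.isHomLift_iff F]
    rw [show F.map (F.toFunctor.preimage χ') = χ' from F.toFunctor.map_preimage χ']
    exact hχ'l
  · apply F.toFunctor.map_injective
    rw [Functor.map_comp, F.toFunctor.map_preimage χ']
    exact hχ'
  · rintro χ ⟨hχl, hχ⟩
    apply F.toFunctor.map_injective
    rw [F.toFunctor.map_preimage χ']
    apply huniq
    refine ⟨inferInstance, ?_⟩
    change F.toFunctor.map χ ≫ F.toFunctor.map φ = F.toFunctor.map φ'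
    rw [← Functor.map_comp, hχ]

/-- A fully faithful based functor that is essentially surjective over identities preserves
cartesian morphisms. -/
theorem isCartesian_map (F : 𝒳 ⥤ᵇ 𝒴) [F.toFunctor.Full] [F.toFunctor.Faithful]
    (hess : ∀ η : 𝒴.obj, ∃ (ξ : 𝒳.obj) (e : F.toFunctor.obj ξ ≅ η),
      𝒴.p.IsHomLift (𝟙 (𝒴.p.obj η)) e.hom)
    {R S : C} (f : R ⟶ S) {a b : 𝒳.obj} (φ : a ⟶ b)
    (h : 𝒳.p.IsCartesian f φ) : 𝒴.p.IsCartesian f (F.map φ) := by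
  refine { universal_property := ?_ }
  intro c' ψ' hψ'
  obtain ⟨c, ε, hε⟩ := hess c'
  have hc' : 𝒴.p.obj c' = R := IsHomLift.domain_eq 𝒴.p f ψ'
  subst hc'
  have hεinv : 𝒴.p.IsHomLift (𝟙 (𝒴.p.obj c')) ε.inv := inferInstance
  let ψ : c ⟶ b := F.toFunctor.preimage (ε.hom ≫ ψ')
  have hFψ : F.map ψ = ε.hom ≫ ψ' := F.toFunctor.map_preimage _
  have hψ : 𝒳.p.IsHomLift f ψ := by
    rw [← BasedFunctor.isHomLift_iff F, hFψ]
    infer_instance
  obtain ⟨χ, ⟨hχl, hχ⟩, huniq⟩ := h.universal_property ψ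
  have hFχl : 𝒴.p.IsHomLift (𝟙 (𝒴.p.obj c')) (F.map χ) := inferInstance
  refine ⟨ε.inv ≫ F.map χ, ⟨inferInstance, ?_⟩, ?_⟩
  · rw [Category.assoc, ← F.map_comp, hχ, hFψ, Iso.inv_hom_id_assoc]
  · rintro χ'' ⟨hl, hc⟩
    let χ₂ : c ⟶ a := F.toFunctor.preimage (ε.hom ≫ χ'')
    have hFχ₂ : F.map χ₂ = ε.hom ≫ χ'' := F.toFunctor.map_preimage _
    have hχ₂l : 𝒳.p.IsHomLift (𝟙 (𝒴.p.obj c')) χ₂ := by
      rw [← BasedFunctor.isHomLift_iff F, hFχ₂]
      infer_instance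
    have hχ₂ : χ₂ ≫ φ = ψ := by
      apply F.toFunctor.map_injective
      rw [Functor.map_comp]
      change F.map χ₂ ≫ F.map φ = F.map ψ
      rw [hFχ₂, hFψ, Category.assoc, hc]
    have h3 : χ₂ = χ := huniq χ₂ ⟨hχ₂l, hχ₂⟩
    rw [← h3, hFχ₂, Iso.inv_hom_id_assoc]

theorem isCartesian_map_iff (F : 𝒳 ⥤ᵇ 𝒴) (hF : FibCat.IsEquivOver F) {R S : C} (f : R ⟶ S)
    {a b : 𝒳.obj} (φ : a ⟶ b) :
    𝒴.p.IsCartesian f (F.map φ) ↔ 𝒳.p.IsCartesian f φ := by
  obtain ⟨⟨h1, h2⟩, h3⟩ := (isEquivOver_iff_ff_ess F).1 hF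
  exact ⟨isCartesian_of_map F f φ, isCartesian_map F h3 f φ⟩

end Cartesian

end Groth.Agent.Lib.Helper27.EquivOverAux
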