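import Groth.Prelude.Def_AlgSt
import Groth.Prelude.Def_FibCat2
import Groth.Agent.Lib.Helper16.FpFibGrpd

/-!
# Elementwise descent toolkit for categories fibred in groupoids (helper27)

* `FG.lift`, `FG.lift_fac`, `FG.lift_uniq`, `FG.cancel`: cartesian lifting in a category fibred
  in groupoids, without instance arguments.
* `cleave x hx : overCat U ⥤ᵇ 𝒳`: the functor of chosen pullbacks of an object `x` over `U`.
* `GluesMor R 𝒳`, `Effective R 𝒳`: elementwise descent conditions for a sieve `R`;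
  `isPrestackFor_iff`, `isStackFor_iff`.
-/

set_option autoImplicit false
set_option backward.isDefEq.respectTransparency false
set_option backward.isDefEq.respectTransparency.types false

universe v₄ u₄ v₃ u₃ v₂ u₂ v u

open CategoryTheory Groth.Agent.Lib.Helper16.FpFibGrpd

namespace Groth.Agent.Lib.Helper27.DescentKit

section FG

variable {C : Type u} [Category.{v} C] {𝒳 : Type u₂} [Category.{v₂} 𝒳] {p : 𝒳 ⥤ C}
  (hp : FibCat.IsFibGrpd p)

/-- Cartesian lifting in a category fibred in groupoids. -/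
noncomputable def FG.lift {R S : C} {a b : 𝒳} (f : R ⟶ S) (φ : a ⟶ b) (hφ : p.IsHomLift f φ)
    {R' : C} {a' : 𝒳} (g : R' ⟶ R) {f' : R' ⟶ S} (hf' : f' = g ≫ f) (φ' : a' ⟶ b)
    (hφ' : p.IsHomLift f' φ') : a' ⟶ a :=
  haveI := FibGrpd.isStronglyCartesian p hp f φ
  Functor.IsStronglyCartesian.map p f φ hf' φ'

theorem FG.lift_isHomLift {R S : C} {a b : 𝒳} (f : R ⟶ S) (φ : a ⟶ b) (hφ : p.IsHomLift f φ)
    {R' : C} {a' : 𝒳} (g : R' ⟶ R) {f' : R' ⟶ S} (hf' : f' = g ≫ f) (φ' : a' ⟶ b)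
    (hφ' : p.IsHomLift f' φ') : p.IsHomLift g (FG.lift hp f φ hφ g hf' φ' hφ') := by
  haveI := FibGrpd.isStronglyCartesian p hp f φ
  exact Functor.IsStronglyCartesian.map_isHomLift p f φ hf' φ'

theorem FG.lift_fac {R S : C} {a b : 𝒳} (f : R ⟶ S) (φ : a ⟶ b) (hφ : p.IsHomLift f φ)
    {R' : C} {a' : 𝒳} (g : R' ⟶ R) {f' : R' ⟶ S} (hf' : f' = g ≫ f) (φ' : a' ⟶ b)
    (hφ' : p.IsHomLift f' φ') : FG.lift hp f φ hφ g hf' φ' hφ' ≫ φ = φ' := by
  haveI := FibGrpd.isStronglyCartesian p hp f φ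
  exact Functor.IsStronglyCartesian.fac p f φ hf' φ'

theorem FG.lift_uniq {R S : C} {a b : 𝒳} (f : R ⟶ S) (φ : a ⟶ b) (hφ : p.IsHomLift f φ)
    {R' : C} {a' : 𝒳} (g : R' ⟶ R) {f' : R' ⟶ S} (hf' : f' = g ≫ f) (φ' : a' ⟶ b)
    (hφ' : p.IsHomLift f' φ') (ψ : a' ⟶ a) (hψ : p.IsHomLift g ψ) (h : ψ ≫ φ = φ') :
    ψ = FG.lift hp f φ hφ g hf' φ' hφ' := by
  haveI := FibGrpd.isStronglyCartesian p hp f φ
  exact Functor.IsStronglyCartesian.map_uniq p f φ hf' φ' ψ h

include hp in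
theorem FG.cancel {R S : C} {a b : 𝒳} (f : R ⟶ S) (φ : a ⟶ b) (hφ : p.IsHomLift f φ)
    {R' : C} {a' : 𝒳} (g : R' ⟶ R) {ψ ψ' : a' ⟶ a} (hψ : p.IsHomLift g ψ)
    (hψ' : p.IsHomLift g ψ') (h : ψ ≫ φ = ψ' ≫ φ) : ψ = ψ' := by
  haveI := FibGrpd.isStronglyCartesian p hp f φ
  exact Functor.IsStronglyCartesian.ext p f φ g h

include hp in
theorem FG.isIso {R : C} {a b : 𝒳} (φ : a ⟶ b) (hφ : p.IsHomLift (𝟙 R) φ) : IsIso φ :=
  FibGrpd.isIso_of_base_isIso p hp (𝟙 R) φ

end FG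

section Cleave

variable {C : Type u} [Category.{v} C] {𝒳 : BasedCategory.{v₂, u₂} C}
  (hp : FibCat.IsFibGrpd 𝒳.p) {U : C} (x : 𝒳.obj) (hx : 𝒳.p.obj x = U)

/-- A chosen pullback of `x` along `f : V ⟶ U`. -/
noncomputable def pbObj (f : Over U) : 𝒳.obj :=
  (FibGrpd.exists_lift' 𝒳.p hp hx f.hom).choose

/-- The chosen cartesian morphism from the pullback. -/
noncomputable def pbHom (f : Over U) : pbObj hp x hx f ⟶ x :=
  (FibGrpd.exists_lift' 𝒳.p hp hx f.hom).choose_spec.choose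

theorem pbHom_isHomLift (f : Over U) : 𝒳.p.IsHomLift f.hom (pbHom hp x hx f) :=
  (FibGrpd.exists_lift' 𝒳.p hp hx f.hom).choose_spec.choose_spec

theorem p_pbObj (f : Over U) : 𝒳.p.obj (pbObj hp x hx f) = f.left :=
  haveI := pbHom_isHomLift hp x hx f
  IsHomLift.domain_eq 𝒳.p f.hom (pbHom hp x hx f)

/-- The transition morphisms between chosen pullbacks. -/
noncomputable def pbMap {f f' : Over U} (g : f ⟶ f') : pbObj hp x hx f ⟶ pbObj hp x hx f' :=
  FG.lift hp f'.hom (pbHom hp x hx f') (pbHom_isHomLift hp x hx f') g.left (Over.w g).symm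
    (pbHom hp x hx f) (pbHom_isHomLift hp x hx f)

theorem pbMap_isHomLift {f f' : Over U} (g : f ⟶ f') :
    𝒳.p.IsHomLift g.left (pbMap hp x hx g) :=
  FG.lift_isHomLift hp _ _ _ _ _ _ _

theorem pbMap_fac {f f' : Over U} (g : f ⟶ f') :
    pbMap hp x hx g ≫ pbHom hp x hx f' = pbHom hp x hx f :=
  FG.lift_fac hp _ _ _ _ _ _ _

theorem pbMap_uniq {f f' : Over U} (g : f ⟶ f') (ψ : pbObj hp x hx f ⟶ pbObj hp x hx f')
    (hψ : 𝒳.p.IsHomLift g.left ψ) (h : ψ ≫ pbHom hp x hx f' = pbHom hp x hx f) :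
    ψ = pbMap hp x hx g :=
  FG.lift_uniq hp _ _ _ _ _ _ _ ψ hψ h

/-- The functor of chosen pullbacks of `x`. -/
noncomputable def cleave : FibCat.overCat U ⥤ᵇ 𝒳 where
  toFunctor :=
    { obj := fun f => pbObj hp x hx f
      map := fun g => pbMap hp x hx g
      map_id := fun f₀ => by
        symm
        apply pbMap_uniq
        · exact IsHomLift.id (p_pbObj hp x hx f₀)
        · exact Category.id_comp _
      map_comp := fun {f f' f''} g g' => by
        symm
        apply pbMap_uniq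
        · haveI := pbMap_isHomLift hp x hx g
          haveI := pbMap_isHomLift hp x hx g'
          exact inferInstanceAs (𝒳.p.IsHomLift (g.left ≫ g'.left) _)
        · rw [Category.assoc, pbMap_fac, pbMap_fac] }
  w := by
    refine CategoryTheory.Functor.ext (fun f => p_pbObj hp x hx f) (fun f f' g => ?_)
    haveI := pbMap_isHomLift hp x hx g
    exact IsHomLift.fac' 𝒳.p g.left (pbMap hp x hx g)

@[simp] theorem cleave_obj (f : Over U) : (cleave hp x hx).obj f = pbObj hp x hx f := rfl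

@[simp] theorem cleave_map {f f' : Over U} (g : f ⟶ f') :
    (cleave hp x hx).map g = pbMap hp x hx g := rfl

end Cleave


section Elementwise

variable {C : Type u} [Category.{v} C] {U : C} (R : Sieve U) (𝒳 : BasedCategory.{v₂, u₂} C)

/-- A matching family of morphisms from `x` to `y` along the sieve `R`: for every morphism
`a : x' ⟶ x` lying over a member `f` of `R`, a morphism `x' ⟶ y` lying over `f`, compatibly with
precomposition. -/
structure MatchFam (x y : 𝒳.obj) where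
  m : ∀ ⦃V : C⦄ (f : V ⟶ U) ⦃x' : 𝒳.obj⦄ (a : x' ⟶ x), R f → 𝒳.p.IsHomLift f a → (x' ⟶ y)
  lift : ∀ ⦃V : C⦄ (f : V ⟶ U) ⦃x' : 𝒳.obj⦄ (a : x' ⟶ x) (hf : R f) (ha : 𝒳.p.IsHomLift f a),
    𝒳.p.IsHomLift f (m f a hf ha)
  compat : ∀ ⦃V W : C⦄ (f : V ⟶ U) (g : W ⟶ V) ⦃x' x'' : 𝒳.obj⦄ (a : x' ⟶ x) (b : x'' ⟶ x')
    (hf : R f) (ha : 𝒳.p.IsHomLift f a) (_ : 𝒳.p.IsHomLift g b)
    (hba : 𝒳.p.IsHomLift (g ≫ f) (b ≫ a)),
    m (g ≫ f) (b ≫ a) (R.downward_closed hf g) hba = b ≫ m f a hf ha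

/-- Morphisms over the identity of `U` are determined by their restrictions along `R`. -/
def UniqMor : Prop :=
  ∀ (x y : 𝒳.obj) (φ ψ : x ⟶ y), 𝒳.p.IsHomLift (𝟙 U) φ → 𝒳.p.IsHomLift (𝟙 U) ψ →
    (∀ ⦃V : C⦄ (f : V ⟶ U) ⦃x' : 𝒳.obj⦄ (a : x' ⟶ x), R f → 𝒳.p.IsHomLift f a →
      a ≫ φ = a ≫ ψ) → φ = ψ

/-- Matching families of morphisms along `R` glue. -/
def GlueMor : Prop :=
  ∀ (x y : 𝒳.obj), 𝒳.p.obj x = U → 𝒳.p.obj y = U → ∀ M : MatchFam R 𝒳 x y,
    ∃ φ : x ⟶ y, 𝒳.p.IsHomLift (𝟙 U) φ ∧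
      ∀ ⦃V : C⦄ (f : V ⟶ U) ⦃x' : 𝒳.obj⦄ (a : x' ⟶ x) (hf : R f) (ha : 𝒳.p.IsHomLift f a),
        a ≫ φ = M.m f a hf ha

/-- Descent data along `R` (in sieve form) are effective. -/
def Effective : Prop :=
  ∀ D : Stk.sieveCat R ⥤ᵇ 𝒳, ∃ (x : 𝒳.obj) (c : ∀ f : (Stk.sieveCat R).obj, D.obj f ⟶ x),
    𝒳.p.obj x = U ∧ (∀ f, 𝒳.p.IsHomLift f.obj.hom (c f)) ∧
      ∀ ⦃f f' : (Stk.sieveCat R).obj⦄ (g : f ⟶ f'), D.map g ≫ c f' = c f

end Elementwise

section CleaveHom

variable {C : Type u} [Category.{v} C] {𝒳 : BasedCategory.{v₂, u₂} C}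
  (hp : FibCat.IsFibGrpd 𝒳.p) {U : C} {x y : 𝒳.obj} (hx : 𝒳.p.obj x = U) (hy : 𝒳.p.obj y = U)

/-- The components of the natural transformation between cleavage functors induced by a morphism
over the identity. -/
noncomputable def cleaveHomApp (φ : x ⟶ y) (hφ : 𝒳.p.IsHomLift (𝟙 U) φ) (f : Over U) :
    pbObj hp x hx f ⟶ pbObj hp y hy f :=
  FG.lift hp f.hom (pbHom hp y hy f) (pbHom_isHomLift hp y hy f) (𝟙 f.left)
    (Category.id_comp _).symm (pbHom hp x hx f ≫ φ)
    (haveI := pbHom_isHomLift hp x hx f; inferInstance)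

theorem cleaveHomApp_isHomLift (φ : x ⟶ y) (hφ : 𝒳.p.IsHomLift (𝟙 U) φ) (f : Over U) :
    𝒳.p.IsHomLift (𝟙 f.left) (cleaveHomApp hp hx hy φ hφ f) :=
  FG.lift_isHomLift hp _ _ _ _ _ _ _

theorem cleaveHomApp_fac (φ : x ⟶ y) (hφ : 𝒳.p.IsHomLift (𝟙 U) φ) (f : Over U) :
    cleaveHomApp hp hx hy φ hφ f ≫ pbHom hp y hy f = pbHom hp x hx f ≫ φ :=
  FG.lift_fac hp _ _ _ _ _ _ _

/-- The natural transformation between cleavage functors induced by a morphism over the
identity. -/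
noncomputable def cleaveHom (φ : x ⟶ y) (hφ : 𝒳.p.IsHomLift (𝟙 U) φ) :
    cleave hp x hx ⟶ cleave hp y hy where
  toNatTrans :=
    { app := fun f => cleaveHomApp hp hx hy φ hφ f
      naturality := by
        intro f f' g
        have h1 := cleaveHomApp_isHomLift hp hx hy φ hφ f
        have h2 := cleaveHomApp_isHomLift hp hx hy φ hφ f'
        have h3 := pbMap_isHomLift hp x hx g
        have h4 := pbMap_isHomLift hp y hy g
        refine FG.cancel hp f'.hom (pbHom hp y hy f') (pbHom_isHomLift hp y hy f') g.left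
          (ψ := (cleave hp x hx).map g ≫ cleaveHomApp hp hx hy φ hφ f')
          (ψ' := cleaveHomApp hp hx hy φ hφ f ≫ (cleave hp y hy).map g) ?_ ?_ ?_
        · simp only [cleave_map]; infer_instance
        · simp only [cleave_map]; infer_instance
        · simp only [cleave_map, Category.assoc, cleaveHomApp_fac, pbMap_fac]
          rw [← Category.assoc, pbMap_fac] }
  isHomLift' := fun f => cleaveHomApp_isHomLift hp hx hy φ hφ f

end CleaveHom


section Forward

variable {C : Type u} [Category.{v} C] {U : C} {R : Sieve U} {𝒳 : BasedCategory.{v₂, u₂} C}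
  (hp : FibCat.IsFibGrpd 𝒳.p)

/-- The canonical morphism to the terminal object of the slice. -/
def toTop (f : Over U) : f ⟶ Over.mk (𝟙 U) := Over.homMk f.hom (by simp)

@[simp] theorem toTop_left (f : Over U) : (toTop f).left = f.hom := rfl

theorem comp_toTop {f f' : Over U} (g : f ⟶ f') : g ≫ toTop f' = toTop f := by
  apply Over.OverMorphism.ext
  simp [toTop]

theorem MatchFam.m_congr {x y : 𝒳.obj} (M : MatchFam R 𝒳 x y) {V : C} {f f' : V ⟶ U}
    {x' : 𝒳.obj} {a a' : x' ⟶ x} (hff' : f = f') (haa' : a = a') (hf : R f)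
    (ha : 𝒳.p.IsHomLift f a) (hf' : R f') (ha' : 𝒳.p.IsHomLift f' a') :
    M.m f a hf ha = M.m f' a' hf' ha' := by
  subst hff' haa'
  rfl

include hp in
theorem uniqMor_of_faithful (h : (Stk.resSieve R 𝒳).Faithful) : UniqMor R 𝒳 := by
  intro x y φ ψ hφ hψ hloc
  have hx : 𝒳.p.obj x = U := IsHomLift.domain_eq 𝒳.p (𝟙 U) φ
  have hy : 𝒳.p.obj y = U := IsHomLift.codomain_eq 𝒳.p (𝟙 U) φ
  have key : (Stk.resSieve R 𝒳).map (cleaveHom hp hx hy φ hφ) =
      (Stk.resSieve R 𝒳).map (cleaveHom hp hx hy ψ hψ) := by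
    apply BasedNatTrans.homCategory.ext
    ext f
    change cleaveHomApp hp hx hy φ hφ f.obj = cleaveHomApp hp hx hy ψ hψ f.obj
    refine FG.cancel hp f.obj.hom (pbHom hp y hy f.obj) (pbHom_isHomLift hp y hy f.obj)
      (𝟙 f.obj.left) (cleaveHomApp_isHomLift hp hx hy φ hφ f.obj)
      (cleaveHomApp_isHomLift hp hx hy ψ hψ f.obj) ?_
    rw [cleaveHomApp_fac, cleaveHomApp_fac]
    exact hloc f.obj.hom (pbHom hp x hx f.obj) f.property (pbHom_isHomLift hp x hx f.obj)
  have h2 := h.map_injective key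
  have e : cleaveHomApp hp hx hy φ hφ (Over.mk (𝟙 U)) =
      cleaveHomApp hp hx hy ψ hψ (Over.mk (𝟙 U)) :=
    congrArg (fun α => (BasedNatTrans.toNatTrans α).app (Over.mk (𝟙 U))) h2
  have h3 : pbHom hp x hx (Over.mk (𝟙 U)) ≫ φ = pbHom hp x hx (Over.mk (𝟙 U)) ≫ ψ := by
    rw [← cleaveHomApp_fac hp hx hy φ hφ, ← cleaveHomApp_fac hp hx hy ψ hψ, e]
  haveI : IsIso (pbHom hp x hx (Over.mk (𝟙 U))) :=
    FG.isIso hp _ (pbHom_isHomLift hp x hx (Over.mk (𝟙 U)))
  exact (cancel_epi _).1 h3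

theorem effective_of_essSurj (h : (Stk.resSieve R 𝒳).EssSurj) : Effective R 𝒳 := by
  intro D
  obtain ⟨H, ⟨e⟩⟩ := h.mem_essImage D
  have hnat : ∀ ⦃f f' : (Stk.sieveCat R).obj⦄ (g : f ⟶ f'),
      D.map g ≫ e.inv.toNatTrans.app f' = e.inv.toNatTrans.app f ≫ H.map g.hom :=
    fun f f' g => e.inv.toNatTrans.naturality g
  refine ⟨H.obj (Over.mk (𝟙 U)), fun f => e.inv.toNatTrans.app f ≫ H.map (toTop f.obj),
    H.w_obj _, ?_, ?_⟩
  · intro f
    have h1 : 𝒳.p.IsHomLift (𝟙 f.obj.left) (e.inv.toNatTrans.app f) :=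
      BasedNatTrans.isHomLift e.inv rfl
    have h2 : 𝒳.p.IsHomLift f.obj.hom (H.map (toTop f.obj)) :=
      inferInstanceAs (𝒳.p.IsHomLift ((FibCat.overCat U).p.map (toTop f.obj)) _)
    infer_instance
  · intro f f' g
    rw [← Category.assoc, hnat g, Category.assoc, ← H.map_comp, comp_toTop]
    rfl

end Forward


section ForwardFull

variable {C : Type u} [Category.{v} C] {U : C} {R : Sieve U} {𝒳 : BasedCategory.{v₂, u₂} C}
  (hp : FibCat.IsFibGrpd 𝒳.p)

/-- The component at `f ∈ R` of the natural transformation attached to a matching family. -/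
noncomputable def matchApp {x y : 𝒳.obj} (hx : 𝒳.p.obj x = U) (hy : 𝒳.p.obj y = U)
    (M : MatchFam R 𝒳 x y) (f : (Stk.sieveCat R).obj) :
    pbObj hp x hx f.obj ⟶ pbObj hp y hy f.obj :=
  FG.lift hp f.obj.hom (pbHom hp y hy f.obj) (pbHom_isHomLift hp y hy f.obj) (𝟙 f.obj.left)
    (Category.id_comp _).symm
    (M.m f.obj.hom (pbHom hp x hx f.obj) f.property (pbHom_isHomLift hp x hx f.obj))
    (M.lift _ _ _ _)

theorem matchApp_isHomLift {x y : 𝒳.obj} (hx : 𝒳.p.obj x = U) (hy : 𝒳.p.obj y = U)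
    (M : MatchFam R 𝒳 x y) (f : (Stk.sieveCat R).obj) :
    𝒳.p.IsHomLift (𝟙 f.obj.left) (matchApp hp hx hy M f) :=
  FG.lift_isHomLift hp _ _ _ _ _ _ _

theorem matchApp_fac {x y : 𝒳.obj} (hx : 𝒳.p.obj x = U) (hy : 𝒳.p.obj y = U)
    (M : MatchFam R 𝒳 x y) (f : (Stk.sieveCat R).obj) :
    matchApp hp hx hy M f ≫ pbHom hp y hy f.obj =
      M.m f.obj.hom (pbHom hp x hx f.obj) f.property (pbHom_isHomLift hp x hx f.obj) :=
  FG.lift_fac hp _ _ _ _ _ _ _

/-- The natural transformation between restricted cleavage functors attached to a matching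
family. -/
noncomputable def matchHom {x y : 𝒳.obj} (hx : 𝒳.p.obj x = U) (hy : 𝒳.p.obj y = U)
    (M : MatchFam R 𝒳 x y) :
    (Stk.resSieve R 𝒳).obj (cleave hp x hx) ⟶ (Stk.resSieve R 𝒳).obj (cleave hp y hy) where
  toNatTrans :=
    { app := fun f => matchApp hp hx hy M f
      naturality := by
        intro f f' g
        change pbMap hp x hx g.hom ≫ matchApp hp hx hy M f' =
          matchApp hp hx hy M f ≫ pbMap hp y hy g.hom
        have h1 := matchApp_isHomLift hp hx hy M f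
        have h2 := matchApp_isHomLift hp hx hy M f'
        have h3 := pbMap_isHomLift hp x hx g.hom
        have h4 := pbMap_isHomLift hp y hy g.hom
        refine FG.cancel hp f'.obj.hom (pbHom hp y hy f'.obj) (pbHom_isHomLift hp y hy f'.obj)
          g.hom.left (ψ := pbMap hp x hx g.hom ≫ matchApp hp hx hy M f')
          (ψ' := matchApp hp hx hy M f ≫ pbMap hp y hy g.hom) inferInstance inferInstance ?_
        rw [Category.assoc, Category.assoc, matchApp_fac, pbMap_fac, matchApp_fac]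
        have h5 := pbHom_isHomLift hp x hx f'.obj
        have h6 : 𝒳.p.IsHomLift (g.hom.left ≫ f'.obj.hom)
            (pbMap hp x hx g.hom ≫ pbHom hp x hx f'.obj) := inferInstance
        rw [← M.compat f'.obj.hom g.hom.left (pbHom hp x hx f'.obj) (pbMap hp x hx g.hom)
          f'.property h5 h3 h6]
        exact M.m_congr (Over.w g.hom) (pbMap_fac hp x hx g.hom) _ _ _ _ }
  isHomLift' := fun f => matchApp_isHomLift hp hx hy M f

include hp in
theorem glueMor_of_full (h : (Stk.resSieve R 𝒳).Full) : GlueMor R 𝒳 := by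
  intro x y hx hy M
  obtain ⟨α, hα⟩ := h.map_surjective (matchHom hp hx hy M)
  have hαapp : ∀ f : (Stk.sieveCat R).obj, α.toNatTrans.app f.obj = matchApp hp hx hy M f :=
    fun f => congrArg (fun γ => (BasedNatTrans.toNatTrans γ).app f) hα
  have hxt := pbHom_isHomLift hp x hx (Over.mk (𝟙 U))
  have hyt := pbHom_isHomLift hp y hy (Over.mk (𝟙 U))
  haveI : IsIso (pbHom hp x hx (Over.mk (𝟙 U))) := FG.isIso hp _ hxt
  have hxt' : 𝒳.p.IsHomLift (𝟙 U) (pbHom hp x hx (Over.mk (𝟙 U))) := hxt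
  have hyt' : 𝒳.p.IsHomLift (𝟙 U) (pbHom hp y hy (Over.mk (𝟙 U))) := hyt
  have hinv : 𝒳.p.IsHomLift (𝟙 U) (inv (pbHom hp x hx (Over.mk (𝟙 U)))) := inferInstance
  have hαt : 𝒳.p.IsHomLift (𝟙 U) (α.toNatTrans.app (Over.mk (𝟙 U))) :=
    BasedNatTrans.isHomLift α rfl
  refine ⟨inv (pbHom hp x hx (Over.mk (𝟙 U))) ≫ α.toNatTrans.app (Over.mk (𝟙 U)) ≫
    pbHom hp y hy (Over.mk (𝟙 U)), inferInstance, ?_⟩
  intro V f x' a hf ha
  -- factor `a` through the chosen pullback along `f`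
  let s : (Stk.sieveCat R).obj := ⟨Over.mk f, hf⟩
  have hs : 𝒳.p.IsHomLift f (pbHom hp x hx (Over.mk f)) := pbHom_isHomLift hp x hx (Over.mk f)
  let θ : x' ⟶ pbObj hp x hx (Over.mk f) :=
    FG.lift hp f (pbHom hp x hx (Over.mk f)) hs (𝟙 V) (Category.id_comp _).symm a ha
  have hθl : 𝒳.p.IsHomLift (𝟙 V) θ := FG.lift_isHomLift hp _ _ _ _ _ _ _
  have hθ : θ ≫ pbHom hp x hx (Over.mk f) = a := FG.lift_fac hp _ _ _ _ _ _ _
  have hθa : 𝒳.p.IsHomLift (𝟙 V ≫ f) (θ ≫ pbHom hp x hx (Over.mk f)) := inferInstance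
  have e1 : M.m f a hf ha = θ ≫ M.m f (pbHom hp x hx (Over.mk f)) hf hs := by
    rw [← M.compat f (𝟙 V) (pbHom hp x hx (Over.mk f)) θ hf hs hθl hθa]
    exact M.m_congr (Category.id_comp f).symm hθ.symm _ _ _ _
  have e2 : M.m f (pbHom hp x hx (Over.mk f)) hf hs =
      α.toNatTrans.app (Over.mk f) ≫ pbHom hp y hy (Over.mk f) := by
    rw [hαapp s]
    exact (matchApp_fac hp hx hy M s).symm
  have e3 : pbHom hp y hy (Over.mk f) =
      pbMap hp y hy (toTop (Over.mk f)) ≫ pbHom hp y hy (Over.mk (𝟙 U)) :=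
    (pbMap_fac hp y hy (toTop (Over.mk f))).symm
  have e4 : pbHom hp x hx (Over.mk f) =
      pbMap hp x hx (toTop (Over.mk f)) ≫ pbHom hp x hx (Over.mk (𝟙 U)) :=
    (pbMap_fac hp x hx (toTop (Over.mk f))).symm
  have e5 : pbMap hp x hx (toTop (Over.mk f)) ≫ α.toNatTrans.app (Over.mk (𝟙 U)) =
      α.toNatTrans.app (Over.mk f) ≫ pbMap hp y hy (toTop (Over.mk f)) :=
    α.toNatTrans.naturality (toTop (Over.mk f))
  rw [e1, e2, e3, ← hθ, e4]
  simp only [Category.assoc, IsIso.hom_inv_id_assoc]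
  rw [← Category.assoc (pbMap hp x hx (toTop (Over.mk f))), e5]
  simp only [Category.assoc]

end ForwardFull


section Backward

variable {C : Type u} [Category.{v} C] {U : C} {R : Sieve U} {𝒳 : BasedCategory.{v₂, u₂} C}
  (hp : FibCat.IsFibGrpd 𝒳.p)

theorem map_isHomLift (H : FibCat.overCat U ⥤ᵇ 𝒳) {f f' : Over U} (g : f ⟶ f') :
    𝒳.p.IsHomLift g.left (H.map g) :=
  inferInstanceAs (𝒳.p.IsHomLift ((FibCat.overCat U).p.map g) _)

theorem map_toTop_isHomLift (H : FibCat.overCat U ⥤ᵇ 𝒳) (f : Over U) :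
    𝒳.p.IsHomLift f.hom (H.map (toTop f)) :=
  map_isHomLift H (toTop f)

theorem app_isHomLift {H H' : FibCat.overCat U ⥤ᵇ 𝒳} (α : H ⟶ H') (f : Over U) :
    𝒳.p.IsHomLift (𝟙 f.left) (α.toNatTrans.app f) :=
  BasedNatTrans.isHomLift α rfl

include hp in
theorem faithful_of_uniqMor (h : UniqMor R 𝒳) : (Stk.resSieve R 𝒳).Faithful := by
  constructor
  intro H H' α α' hαα'
  have hR : ∀ f : (Stk.sieveCat R).obj, α.toNatTrans.app f.obj = α'.toNatTrans.app f.obj :=
    fun f => congrArg (fun γ => (BasedNatTrans.toNatTrans γ).app f) hαα'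
  have htop : α.toNatTrans.app (Over.mk (𝟙 U)) = α'.toNatTrans.app (Over.mk (𝟙 U)) := by
    apply h _ _ _ _ (app_isHomLift α (Over.mk (𝟙 U))) (app_isHomLift α' (Over.mk (𝟙 U)))
    intro V f x' a hf ha
    have hs : 𝒳.p.IsHomLift f (H.map (toTop (Over.mk f))) := map_toTop_isHomLift H (Over.mk f)
    have hθ : FG.lift hp f (H.map (toTop (Over.mk f))) hs (𝟙 V) (Category.id_comp _).symm a ha ≫
        H.map (toTop (Over.mk f)) = a := FG.lift_fac hp _ _ _ _ _ _ _
    rw [← hθ, Category.assoc, Category.assoc]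
    have n1 := α.toNatTrans.naturality (toTop (Over.mk f))
    have n2 := α'.toNatTrans.naturality (toTop (Over.mk f))
    have e := hR ⟨Over.mk f, hf⟩
    change α.toNatTrans.app (Over.mk f) = α'.toNatTrans.app (Over.mk f) at e
    change H.map (toTop (Over.mk f)) ≫ _ = _ at n1
    change H.map (toTop (Over.mk f)) ≫ _ = _ at n2
    rw [n1, n2, e]
  apply BasedNatTrans.homCategory.ext
  ext g
  refine FG.cancel hp g.hom (H'.map (toTop g)) (map_toTop_isHomLift H' g) (𝟙 g.left)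
    (app_isHomLift α g) (app_isHomLift α' g) ?_
  have n1 := α.toNatTrans.naturality (toTop g)
  have n2 := α'.toNatTrans.naturality (toTop g)
  change H.map (toTop g) ≫ _ = _ ≫ H'.map (toTop g) at n1
  change H.map (toTop g) ≫ _ = _ ≫ H'.map (toTop g) at n2
  rw [← n1, ← n2, htop]

include hp in
theorem essSurj_of_effective (h : Effective R 𝒳) : (Stk.resSieve R 𝒳).EssSurj := by
  constructor
  intro D
  obtain ⟨x, c, hx, hc, hcompat⟩ := h D
  refine ⟨cleave hp x hx, ⟨?_⟩⟩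
  let τapp : ∀ f : (Stk.sieveCat R).obj, D.obj f ⟶ pbObj hp x hx f.obj := fun f =>
    FG.lift hp f.obj.hom (pbHom hp x hx f.obj) (pbHom_isHomLift hp x hx f.obj) (𝟙 f.obj.left)
      (Category.id_comp _).symm (c f) (hc f)
  have τl : ∀ f, 𝒳.p.IsHomLift (𝟙 f.obj.left) (τapp f) :=
    fun f => FG.lift_isHomLift hp _ _ _ _ _ _ _
  have τfac : ∀ f, τapp f ≫ pbHom hp x hx f.obj = c f := fun f => FG.lift_fac hp _ _ _ _ _ _ _
  let τ : D ⟶ (Stk.resSieve R 𝒳).obj (cleave hp x hx) :=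
    { toNatTrans :=
        { app := τapp
          naturality := by
            intro f f' g
            change D.map g ≫ τapp f' = τapp f ≫ pbMap hp x hx g.hom
            have h1 := τl f
            have h2 := τl f'
            have h3 := pbMap_isHomLift hp x hx g.hom
            have h4 : 𝒳.p.IsHomLift g.hom.left (D.map g) :=
              inferInstanceAs (𝒳.p.IsHomLift ((Stk.sieveCat R).p.map g) _)
            refine FG.cancel hp f'.obj.hom (pbHom hp x hx f'.obj)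
              (pbHom_isHomLift hp x hx f'.obj) g.hom.left
              (ψ := D.map g ≫ τapp f') (ψ' := τapp f ≫ pbMap hp x hx g.hom)
              inferInstance inferInstance ?_
            rw [Category.assoc, Category.assoc, τfac, pbMap_fac, τfac, hcompat] }
      isHomLift' := fun f => τl f }
  haveI : ∀ f, IsIso (τ.toNatTrans.app f) := fun f => FG.isIso hp _ (τl f)
  haveI : IsIso (X := D.toFunctor) τ.toNatTrans := NatIso.isIso_of_isIso_app _
  haveI : IsIso τ := BasedNatIso.isIso_of_toNatTrans_isIso τ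
  exact (asIso τ).symm

end Backward


section BackwardFull

variable {C : Type u} [Category.{v} C] {U : C} {R : Sieve U} {𝒳 : BasedCategory.{v₂, u₂} C}
  (hp : FibCat.IsFibGrpd 𝒳.p)

/-- The factorization of a lift of `f` through the value of `H` at `f`. -/
noncomputable def facThrough (H : FibCat.overCat U ⥤ᵇ 𝒳) {V : C} (f : V ⟶ U) {x' : 𝒳.obj}
    (a : x' ⟶ H.obj (Over.mk (𝟙 U))) (ha : 𝒳.p.IsHomLift f a) : x' ⟶ H.obj (Over.mk f) :=
  FG.lift hp f (H.map (toTop (Over.mk f))) (map_toTop_isHomLift H (Over.mk f)) (𝟙 V)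
    (Category.id_comp _).symm a ha

theorem facThrough_isHomLift (H : FibCat.overCat U ⥤ᵇ 𝒳) {V : C} (f : V ⟶ U) {x' : 𝒳.obj}
    (a : x' ⟶ H.obj (Over.mk (𝟙 U))) (ha : 𝒳.p.IsHomLift f a) :
    𝒳.p.IsHomLift (𝟙 V) (facThrough hp H f a ha) :=
  FG.lift_isHomLift hp _ _ _ _ _ _ _

theorem facThrough_fac (H : FibCat.overCat U ⥤ᵇ 𝒳) {V : C} (f : V ⟶ U) {x' : 𝒳.obj}
    (a : x' ⟶ H.obj (Over.mk (𝟙 U))) (ha : 𝒳.p.IsHomLift f a) :
    facThrough hp H f a ha ≫ H.map (toTop (Over.mk f)) = a :=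
  FG.lift_fac hp _ _ _ _ _ _ _

/-- The matching family attached to a natural transformation between restrictions. -/
noncomputable def matchOfRestr (H H' : FibCat.overCat U ⥤ᵇ 𝒳)
    (β : (Stk.resSieve R 𝒳).obj H ⟶ (Stk.resSieve R 𝒳).obj H') :
    MatchFam R 𝒳 (H.obj (Over.mk (𝟙 U))) (H'.obj (Over.mk (𝟙 U))) where
  m := fun V f x' a hf ha =>
    facThrough hp H f a ha ≫ β.toNatTrans.app ⟨Over.mk f, hf⟩ ≫ H'.map (toTop (Over.mk f))
  lift := fun V f x' a hf ha => by
    have h1 := facThrough_isHomLift hp H f a ha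
    have h2 : 𝒳.p.IsHomLift (𝟙 V) (β.toNatTrans.app ⟨Over.mk f, hf⟩) :=
      BasedNatTrans.isHomLift β rfl
    have h3 : 𝒳.p.IsHomLift f (H'.map (toTop (Over.mk f))) :=
      map_toTop_isHomLift H' (Over.mk f)
    infer_instance
  compat := fun V W f g x' x'' a b hf ha hb hba => by
    -- the morphism `mk (g ≫ f) ⟶ mk f` of the slice
    let γ : Over.mk (g ≫ f) ⟶ Over.mk f := Over.homMk g rfl
    let s : (Stk.sieveCat R).obj := ⟨Over.mk f, hf⟩
    let s' : (Stk.sieveCat R).obj := ⟨Over.mk (g ≫ f), R.downward_closed hf g⟩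
    let γ' : s' ⟶ s := ObjectProperty.homMk γ
    have nat : H.map γ ≫ β.toNatTrans.app s = β.toNatTrans.app s' ≫ H'.map γ :=
      β.toNatTrans.naturality γ'
    have hγ : 𝒳.p.IsHomLift g (H.map γ) := map_isHomLift H γ
    have h1 := facThrough_isHomLift hp H (g ≫ f) (b ≫ a) hba
    have h2 := facThrough_isHomLift hp H f a ha
    have key : facThrough hp H (g ≫ f) (b ≫ a) hba ≫ H.map γ = b ≫ facThrough hp H f a ha := by
      refine FG.cancel hp f (H.map (toTop (Over.mk f))) (map_toTop_isHomLift H (Over.mk f)) g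
        (ψ := facThrough hp H (g ≫ f) (b ≫ a) hba ≫ H.map γ)
        (ψ' := b ≫ facThrough hp H f a ha) inferInstance inferInstance ?_
      rw [Category.assoc, Category.assoc, facThrough_fac, ← H.map_comp, comp_toTop,
        facThrough_fac]
    have e1 : H'.map (toTop (Over.mk (g ≫ f))) = H'.map γ ≫ H'.map (toTop (Over.mk f)) := by
      rw [← H'.map_comp, comp_toTop]
    change facThrough hp H (g ≫ f) (b ≫ a) hba ≫ β.toNatTrans.app s' ≫
        H'.map (toTop (Over.mk (g ≫ f))) =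
      b ≫ facThrough hp H f a ha ≫ β.toNatTrans.app s ≫ H'.map (toTop (Over.mk f))
    rw [e1, ← Category.assoc (β.toNatTrans.app s'), ← nat]
    simp only [Category.assoc]
    rw [← Category.assoc, key]
    simp only [Category.assoc]

include hp in
theorem full_of_glueMor (hg : GlueMor R 𝒳) : (Stk.resSieve R 𝒳).Full := by
  constructor
  intro H H' β
  obtain ⟨φ, hφl, hφ⟩ := hg _ _ (H.w_obj (Over.mk (𝟙 U))) (H'.w_obj (Over.mk (𝟙 U)))
    (matchOfRestr hp H H' β)
  let αapp : ∀ g : Over U, H.obj g ⟶ H'.obj g := fun g =>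
    FG.lift hp g.hom (H'.map (toTop g)) (map_toTop_isHomLift H' g) (𝟙 g.left)
      (Category.id_comp _).symm (H.map (toTop g) ≫ φ)
      (haveI := map_toTop_isHomLift H g; inferInstance)
  have αl : ∀ g, 𝒳.p.IsHomLift (𝟙 g.left) (αapp g) := fun g => FG.lift_isHomLift hp _ _ _ _ _ _ _
  have αfac : ∀ g, αapp g ≫ H'.map (toTop g) = H.map (toTop g) ≫ φ :=
    fun g => FG.lift_fac hp _ _ _ _ _ _ _
  let α : H ⟶ H' :=
    { toNatTrans :=
        { app := αapp
          naturality := by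
            intro f f' g
            have h1 := αl f
            have h2 := αl f'
            have h3 := map_isHomLift H g
            have h4 := map_isHomLift H' g
            refine FG.cancel hp f'.hom (H'.map (toTop f')) (map_toTop_isHomLift H' f') g.left
              (ψ := H.map g ≫ αapp f') (ψ' := αapp f ≫ H'.map g) inferInstance inferInstance ?_
            rw [Category.assoc, Category.assoc, αfac, ← H'.map_comp, comp_toTop, αfac,
              ← Category.assoc, ← H.map_comp, comp_toTop] }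
      isHomLift' := fun g => αl g }
  refine ⟨α, ?_⟩
  apply BasedNatTrans.homCategory.ext
  ext f
  change αapp f.obj = β.toNatTrans.app f
  have hβl : 𝒳.p.IsHomLift (𝟙 f.obj.left) (β.toNatTrans.app f) := BasedNatTrans.isHomLift β rfl
  refine FG.cancel hp f.obj.hom (H'.map (toTop f.obj)) (map_toTop_isHomLift H' f.obj)
    (𝟙 f.obj.left) (αl f.obj) hβl ?_
  rw [αfac, hφ f.obj.hom (H.map (toTop f.obj)) f.property (map_toTop_isHomLift H f.obj)]
  change facThrough hp H f.obj.hom (H.map (toTop f.obj)) _ ≫ β.toNatTrans.app f ≫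
    H'.map (toTop f.obj) = _
  have hθ : facThrough hp H f.obj.hom (H.map (toTop f.obj)) (map_toTop_isHomLift H f.obj) =
      𝟙 (H.obj f.obj) := by
    symm
    exact FG.lift_uniq hp _ _ _ _ _ _ _ (𝟙 (H.obj f.obj))
      (IsHomLift.id (H.w_obj f.obj)) (Category.id_comp _)
  rw [hθ, Category.id_comp]

end BackwardFull

section Main

variable {C : Type u} [Category.{v} C] {U : C} (R : Sieve U) {𝒳 : BasedCategory.{v₂, u₂} C}
  (hp : FibCat.IsFibGrpd 𝒳.p)

include hp in
/-- Elementwise form of the prestack condition for one sieve. -/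
theorem isPrestackFor_iff : Stk.IsPrestackFor R 𝒳 ↔ UniqMor R 𝒳 ∧ GlueMor R 𝒳 :=
  ⟨fun h => ⟨uniqMor_of_faithful hp h.2, glueMor_of_full hp h.1⟩,
    fun h => ⟨full_of_glueMor hp h.2, faithful_of_uniqMor hp h.1⟩⟩

include hp in
/-- Elementwise form of the stack condition for one sieve. -/
theorem isStackFor_iff : Stk.IsStackFor R 𝒳 ↔ UniqMor R 𝒳 ∧ GlueMor R 𝒳 ∧ Effective R 𝒳 := by
  constructor
  · intro h
    have h' : (Stk.resSieve R 𝒳).IsEquivalence := h
    exact ⟨uniqMor_of_faithful hp h'.faithful, glueMor_of_full hp h'.full,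
      effective_of_essSurj h'.essSurj⟩
  · rintro ⟨h1, h2, h3⟩
    exact { faithful := faithful_of_uniqMor hp h1
            full := full_of_glueMor hp h2
            essSurj := essSurj_of_effective hp h3 }

end Main

end Groth.Agent.Lib.Helper27.DescentKit
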