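import Groth.Prelude.Def_FibCat2
import Groth.Agent.Lib.Helper16.FpFibGrpd
import Groth.Agent.S6416

/-!
# The 2-fibre product of categories fibred in groupoids is fibred in groupoids (helper27)
-/

set_option autoImplicit false
set_option backward.isDefEq.respectTransparency false
set_option backward.isDefEq.respectTransparency.types false

universe v₄ u₄ v₃ u₃ v₂ u₂ v u

open CategoryTheory

namespace Groth.Agent.Lib.Helper27.FpFib

variable {C : Type u} [Category.{v} C] {𝒳 : BasedCategory.{v₂, u₂} C}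
  {𝒴 : BasedCategory.{v₃, u₃} C} {𝒮 : BasedCategory.{v₄, u₄} C}

theorem isFibGrpd_fp (F : 𝒳 ⥤ᵇ 𝒮) (G : 𝒴 ⥤ᵇ 𝒮) (h𝒳 : FibCat.IsFibGrpd 𝒳.p)
    (h𝒴 : FibCat.IsFibGrpd 𝒴.p) (h𝒮 : FibCat.IsFibGrpd 𝒮.p) :
    FibCat.IsFibGrpd (FibCat.fp F G).p :=
  Groth.Agent.S6416.result (FibCat.fpFst F G).toFunctor 𝒳.p
    (Groth.Agent.Lib.Helper16.FpFibGrpd.isFibGrpd_fpFst h𝒴 h𝒮 F G) h𝒳

end Groth.Agent.Lib.Helper27.FpFib
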