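import Groth.Prelude.Def_AlgSt
import Groth.Prelude.Def_FibCat2
import Groth.Agent.Lib.Helper27.DescentKit
import Groth.Agent.Lib.Helper27.FpFib

/-!
# The 2-fibre product of stacks over a prestack is a stack (helper27)
-/

set_option autoImplicit false
set_option backward.isDefEq.respectTransparency false
set_option backward.isDefEq.respectTransparency.types false

universe v₄ u₄ v₃ u₃ v₂ u₂ v u

open CategoryTheory CategoryTheory.Limits Groth.Agent.Lib.Helper27.DescentKit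
  Groth.Agent.Lib.Helper16.FpFibGrpd

namespace Groth.Agent.Lib.Helper27.StackFp

variable {C : Type u} [Category.{v} C] {𝒳 : BasedCategory.{v₂, u₂} C}
  {𝒴 : BasedCategory.{v₃, u₃} C} {𝒮 : BasedCategory.{v₄, u₄} C}
  (F : 𝒳 ⥤ᵇ 𝒮) (G : 𝒴 ⥤ᵇ 𝒮)

open FibCat

section Basic

variable {F G}

theorem fst_lift {t t' : (fp F G).obj} (Φ : t ⟶ t') {V U : C} (f : V ⟶ U)
    (h : (fp F G).p.IsHomLift f Φ) : 𝒳.p.IsHomLift f Φ.hom.fst :=
  (BasedFunctor.isHomLift_iff (fpFst F G) f Φ).2 h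

theorem snd_lift {t t' : (fp F G).obj} (Φ : t ⟶ t') {V U : C} (f : V ⟶ U)
    (h : (fp F G).p.IsHomLift f Φ) : 𝒴.p.IsHomLift f Φ.hom.snd :=
  (BasedFunctor.isHomLift_iff (fpSnd F G) f Φ).2 h

theorem lift_of_fst {t t' : (fp F G).obj} (Φ : t ⟶ t') {V U : C} (f : V ⟶ U)
    (h : 𝒳.p.IsHomLift f Φ.hom.fst) : (fp F G).p.IsHomLift f Φ :=
  (BasedFunctor.isHomLift_iff (fpFst F G) f Φ).1 h

theorem hom_ext' {t t' : (fp F G).obj} {Φ Ψ : t ⟶ t'} (h1 : Φ.hom.fst = Ψ.hom.fst)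
    (h2 : Φ.hom.snd = Ψ.hom.snd) : Φ = Ψ := by
  apply ObjectProperty.hom_ext
  exact CategoricalPullback.hom_ext h1 h2

theorem p_snd (t : (fp F G).obj) : 𝒴.p.obj t.obj.snd = 𝒳.p.obj t.obj.fst :=
  (fpSnd F G).w_obj t

theorem iso_lift (t : (fp F G).obj) : 𝒮.p.IsHomLift (𝟙 (𝒳.p.obj t.obj.fst)) t.obj.iso.hom :=
  t.property

end Basic

section Uniq

variable {F G} (h𝒳 : FibCat.IsFibGrpd 𝒳.p) (h𝒴 : FibCat.IsFibGrpd 𝒴.p)
  (hfp : FibCat.IsFibGrpd (fp F G).p) {U : C} (R : Sieve U)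

include h𝒳 h𝒴 hfp in
theorem uniqMor_fp (hu𝒳 : UniqMor R 𝒳) (hu𝒴 : UniqMor R 𝒴) : UniqMor R (fp F G) := by
  intro t t' Φ Ψ hΦ hΨ hloc
  have ht : (fp F G).p.obj t = U := IsHomLift.domain_eq (fp F G).p (𝟙 U) Φ
  apply hom_ext'
  · apply hu𝒳 _ _ _ _ (fst_lift Φ (𝟙 U) hΦ) (fst_lift Ψ (𝟙 U) hΨ)
    intro V f x'' a hf ha
    -- a lift of `f` in the fibre product
    have hA := pbHom_isHomLift hfp t ht (Over.mk f)
    have hA' : (fp F G).p.IsHomLift f (pbHom hfp t ht (Over.mk f)) := hA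
    have hAf := fst_lift _ f hA'
    have e : FG.lift h𝒳 f (pbHom hfp t ht (Over.mk f)).hom.fst hAf (𝟙 V)
        (Category.id_comp _).symm a ha ≫ (pbHom hfp t ht (Over.mk f)).hom.fst = a :=
      FG.lift_fac h𝒳 _ _ _ _ _ _ _
    have h1 := hloc f (pbHom hfp t ht (Over.mk f)) hf hA'
    have h2 : (pbHom hfp t ht (Over.mk f)).hom.fst ≫ Φ.hom.fst =
        (pbHom hfp t ht (Over.mk f)).hom.fst ≫ Ψ.hom.fst :=
      congrArg (fun Ξ => Ξ.hom.fst) h1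
    rw [← e, Category.assoc, Category.assoc, h2]
  · apply hu𝒴 _ _ _ _ (snd_lift Φ (𝟙 U) hΦ) (snd_lift Ψ (𝟙 U) hΨ)
    intro V f y'' b hf hb
    have hA := pbHom_isHomLift hfp t ht (Over.mk f)
    have hA' : (fp F G).p.IsHomLift f (pbHom hfp t ht (Over.mk f)) := hA
    have hAs := snd_lift _ f hA'
    have e : FG.lift h𝒴 f (pbHom hfp t ht (Over.mk f)).hom.snd hAs (𝟙 V)
        (Category.id_comp _).symm b hb ≫ (pbHom hfp t ht (Over.mk f)).hom.snd = b :=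
      FG.lift_fac h𝒴 _ _ _ _ _ _ _
    have h1 := hloc f (pbHom hfp t ht (Over.mk f)) hf hA'
    have h2 : (pbHom hfp t ht (Over.mk f)).hom.snd ≫ Φ.hom.snd =
        (pbHom hfp t ht (Over.mk f)).hom.snd ≫ Ψ.hom.snd :=
      congrArg (fun Ξ => Ξ.hom.snd) h1
    rw [← e, Category.assoc, Category.assoc, h2]

end Uniq


section Eff

variable {F G} (h𝒮 : FibCat.IsFibGrpd 𝒮.p) {U : C} (R : Sieve U)

include h𝒮 in
theorem effective_fp (he𝒳 : Effective R 𝒳) (he𝒴 : Effective R 𝒴) (hg𝒮 : GlueMor R 𝒮) :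
    Effective R (fp F G) := by
  intro D
  obtain ⟨x, cx, hx, hcx, hcompx⟩ := he𝒳 (BasedFunctor.comp D (fpFst F G))
  obtain ⟨y, cy, hy, hcy, hcompy⟩ := he𝒴 (BasedFunctor.comp D (fpSnd F G))
  have cx' : ∀ s : (Stk.sieveCat R).obj, (D.obj s).obj.fst ⟶ x := cx
  have hFc : ∀ s : (Stk.sieveCat R).obj, 𝒮.p.IsHomLift s.obj.hom (F.map (cx s)) := fun s => by
    have := hcx s
    infer_instance
  have hGc : ∀ s : (Stk.sieveCat R).obj, 𝒮.p.IsHomLift s.obj.hom (G.map (cy s)) := fun s => by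
    have := hcy s
    infer_instance
  have hDs : ∀ s : (Stk.sieveCat R).obj, 𝒳.p.obj (D.obj s).obj.fst = s.obj.left :=
    fun s => D.w_obj s
  have hθs : ∀ s : (Stk.sieveCat R).obj,
      𝒮.p.IsHomLift (𝟙 s.obj.left) (D.obj s).obj.iso.hom := fun s => by
    have hprop : 𝒮.p.IsHomLift (𝟙 (𝒳.p.obj (D.obj s).obj.fst)) (D.obj s).obj.iso.hom :=
      (D.obj s).property
    exact isHomLift_id_of_eq 𝒮.p (hDs s) _
  let χ : ∀ ⦃V : C⦄ (f : V ⟶ U) ⦃z : 𝒮.obj⦄ (c : z ⟶ F.obj x) (hf : R f)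
      (_ : 𝒮.p.IsHomLift f c), z ⟶ F.obj (D.obj ⟨Over.mk f, hf⟩).obj.fst := fun V f z c hf hc =>
    FG.lift h𝒮 f (F.map (cx ⟨Over.mk f, hf⟩)) (hFc ⟨Over.mk f, hf⟩) (𝟙 V)
      (Category.id_comp _).symm c hc
  have χl : ∀ ⦃V : C⦄ (f : V ⟶ U) ⦃z : 𝒮.obj⦄ (c : z ⟶ F.obj x) (hf : R f)
      (hc : 𝒮.p.IsHomLift f c), 𝒮.p.IsHomLift (𝟙 V) (χ f c hf hc) :=
    fun V f z c hf hc => FG.lift_isHomLift h𝒮 _ _ _ _ _ _ _
  have χfac : ∀ ⦃V : C⦄ (f : V ⟶ U) ⦃z : 𝒮.obj⦄ (c : z ⟶ F.obj x) (hf : R f)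
      (hc : 𝒮.p.IsHomLift f c), χ f c hf hc ≫ F.map (cx ⟨Over.mk f, hf⟩) = c :=
    fun V f z c hf hc => FG.lift_fac h𝒮 _ _ _ _ _ _ _
  let M : MatchFam R 𝒮 (F.obj x) (G.obj y) :=
    { m := fun V f z c hf hc => χ f c hf hc ≫ (D.obj ⟨Over.mk f, hf⟩).obj.iso.hom ≫
        G.map (cy ⟨Over.mk f, hf⟩)
      lift := fun V f z c hf hc => by
        have h1 := χl f c hf hc
        have h2 : 𝒮.p.IsHomLift (𝟙 V) (D.obj ⟨Over.mk f, hf⟩).obj.iso.hom :=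
          hθs ⟨Over.mk f, hf⟩
        have h3 : 𝒮.p.IsHomLift f (G.map (cy ⟨Over.mk f, hf⟩)) := hGc ⟨Over.mk f, hf⟩
        infer_instance
      compat := fun V W f g z z' c b hf hc hb hbc => by
        let s : (Stk.sieveCat R).obj := ⟨Over.mk f, hf⟩
        let s' : (Stk.sieveCat R).obj := ⟨Over.mk (g ≫ f), R.downward_closed hf g⟩
        let γ : s' ⟶ s := ObjectProperty.homMk (Over.homMk g rfl)
        have hDγ : (fp F G).p.IsHomLift g (D.map γ) := by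
          haveI : (Stk.sieveCat R).p.IsHomLift g γ := IsHomLift.map (Stk.sieveCat R).p γ
          exact BasedFunctor.preserves_isHomLift D g γ
        have hγf : 𝒳.p.IsHomLift g (D.map γ).hom.fst := fst_lift _ g hDγ
        have hFγ : 𝒮.p.IsHomLift g (F.map (D.map γ).hom.fst) := inferInstance
        have w := (D.map γ).hom.w
        have ex : (D.map γ).hom.fst ≫ cx s = cx s' := hcompx γ
        have ey : (D.map γ).hom.snd ≫ cy s = cy s' := hcompy γ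
        have h1 := χl (g ≫ f) (b ≫ c) (R.downward_closed hf g) hbc
        have h2 := χl f c hf hc
        have key : χ (g ≫ f) (b ≫ c) (R.downward_closed hf g) hbc ≫
            F.map (D.map γ).hom.fst = b ≫ χ f c hf hc := by
          have hcs : 𝒮.p.IsHomLift f (F.map (cx s)) := hFc s
          refine FG.cancel h𝒮 f (F.map (cx s)) hcs g
            (ψ := χ (g ≫ f) (b ≫ c) (R.downward_closed hf g) hbc ≫ F.map (D.map γ).hom.fst)
            (ψ' := b ≫ χ f c hf hc) inferInstance inferInstance ?_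
          rw [Category.assoc, Category.assoc, χfac f c hf hc, ← F.map_comp, ex]
          exact χfac (g ≫ f) (b ≫ c) (R.downward_closed hf g) hbc
        change χ (g ≫ f) (b ≫ c) (R.downward_closed hf g) hbc ≫ (D.obj s').obj.iso.hom ≫
          G.map (cy s') = b ≫ χ f c hf hc ≫ (D.obj s).obj.iso.hom ≫ G.map (cy s)
        rw [← ey, G.map_comp, ← Category.assoc (D.obj s').obj.iso.hom]
        have w' : (D.obj s').obj.iso.hom ≫ G.map (D.map γ).hom.snd =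
            F.map (D.map γ).hom.fst ≫ (D.obj s).obj.iso.hom := w.symm
        rw [w']
        simp only [Category.assoc]
        rw [← Category.assoc, key]
        simp only [Category.assoc] }
  obtain ⟨θ, hθl, hθ⟩ := hg𝒮 (F.obj x) (G.obj y) ((F.w_obj x).trans hx) ((G.w_obj y).trans hy) M
  haveI : IsIso θ := FG.isIso h𝒮 θ hθl
  have hθl' : 𝒮.p.IsHomLift (𝟙 (𝒳.p.obj x)) θ := by
    have := hθl
    exact isHomLift_id_of_eq 𝒮.p hx.symm θ
  let t : (fp F G).obj := ⟨⟨x, y, asIso θ⟩, hθl'⟩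
  have hw : ∀ s : (Stk.sieveCat R).obj,
      F.map (cx s) ≫ θ = (D.obj s).obj.iso.hom ≫ G.map (cy s) := fun s => by
    have h1 := hθ s.obj.hom (F.map (cx s)) s.property (hFc s)
    rw [h1]
    change χ s.obj.hom (F.map (cx s)) s.property (hFc s) ≫ (D.obj s).obj.iso.hom ≫
      G.map (cy s) = _
    have hχ : χ s.obj.hom (F.map (cx s)) s.property (hFc s) = 𝟙 _ := by
      symm
      exact FG.lift_uniq h𝒮 _ _ _ _ _ _ _ (𝟙 _)
        (IsHomLift.id ((F.w_obj _).trans (hDs s))) (Category.id_comp _)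
    rw [hχ, Category.id_comp]
  refine ⟨t, fun s => ObjectProperty.homMk
    { fst := cx s
      snd := cy s
      w := hw s }, hx, ?_, ?_⟩
  · intro s
    exact lift_of_fst _ _ (hcx s)
  · intro s s' g
    apply hom_ext'
    · exact hcompx g
    · exact hcompy g

end Eff

section Glue

variable {F G} (h𝒳 : FibCat.IsFibGrpd 𝒳.p) (h𝒴 : FibCat.IsFibGrpd 𝒴.p)
  (h𝒮 : FibCat.IsFibGrpd 𝒮.p)
  (hfp : FibCat.IsFibGrpd (fp F G).p) {U : C} (R : Sieve U)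

/-- The `𝒳`-component of a matching family in the fibre product. -/
noncomputable def matchFst {t t' : (fp F G).obj} (ht : (fp F G).p.obj t = U)
    (M : MatchFam R (fp F G) t t') : MatchFam R 𝒳 t.obj.fst t'.obj.fst where
  m := fun V f x' a hf ha =>
    FG.lift h𝒳 f (pbHom hfp t ht (Over.mk f)).hom.fst
      (fst_lift _ f (pbHom_isHomLift hfp t ht (Over.mk f))) (𝟙 V) (Category.id_comp _).symm a ha ≫
      (M.m f (pbHom hfp t ht (Over.mk f)) hf (pbHom_isHomLift hfp t ht (Over.mk f))).hom.fst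
  lift := fun V f x' a hf ha => by
    have h1 : 𝒳.p.IsHomLift (𝟙 V) (FG.lift h𝒳 f (pbHom hfp t ht (Over.mk f)).hom.fst
      (fst_lift _ f (pbHom_isHomLift hfp t ht (Over.mk f))) (𝟙 V) (Category.id_comp _).symm a ha) :=
      FG.lift_isHomLift h𝒳 _ _ _ _ _ _ _
    have h2 : 𝒳.p.IsHomLift f
        (M.m f (pbHom hfp t ht (Over.mk f)) hf (pbHom_isHomLift hfp t ht (Over.mk f))).hom.fst :=
      fst_lift _ f (M.lift _ _ _ _)
    infer_instance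
  compat := fun V W f g x' x'' a b hf ha hb hba => by
    have hAf : (fp F G).p.IsHomLift f (pbHom hfp t ht (Over.mk f)) :=
      pbHom_isHomLift hfp t ht (Over.mk f)
    have hAgf : (fp F G).p.IsHomLift (g ≫ f) (pbHom hfp t ht (Over.mk (g ≫ f))) :=
      pbHom_isHomLift hfp t ht (Over.mk (g ≫ f))
    let γ : Over.mk (g ≫ f) ⟶ Over.mk f := Over.homMk g rfl
    have hΓ : (fp F G).p.IsHomLift g (pbMap hfp t ht γ) := pbMap_isHomLift hfp t ht γ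
    have hΓfac : pbMap hfp t ht γ ≫ pbHom hfp t ht (Over.mk f) =
        pbHom hfp t ht (Over.mk (g ≫ f)) := pbMap_fac hfp t ht γ
    have hΓA : (fp F G).p.IsHomLift (g ≫ f) (pbMap hfp t ht γ ≫ pbHom hfp t ht (Over.mk f)) :=
      inferInstance
    have e1 : M.m (g ≫ f) (pbHom hfp t ht (Over.mk (g ≫ f))) (R.downward_closed hf g) hAgf =
        pbMap hfp t ht γ ≫ M.m f (pbHom hfp t ht (Over.mk f)) hf hAf := by
      rw [← M.compat f g (pbHom hfp t ht (Over.mk f)) (pbMap hfp t ht γ) hf hAf hΓ hΓA]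
      exact M.m_congr rfl hΓfac.symm _ _ _ _
    have e1' : (M.m (g ≫ f) (pbHom hfp t ht (Over.mk (g ≫ f)))
        (R.downward_closed hf g) hAgf).hom.fst =
        (pbMap hfp t ht γ).hom.fst ≫ (M.m f (pbHom hfp t ht (Over.mk f)) hf hAf).hom.fst :=
      congrArg (fun Ξ => Ξ.hom.fst) e1
    have hΓf : 𝒳.p.IsHomLift g (pbMap hfp t ht γ).hom.fst := fst_lift _ g hΓ
    have hAff : 𝒳.p.IsHomLift f (pbHom hfp t ht (Over.mk f)).hom.fst := fst_lift _ f hAf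
    have hAgff : 𝒳.p.IsHomLift (g ≫ f) (pbHom hfp t ht (Over.mk (g ≫ f))).hom.fst :=
      fst_lift _ (g ≫ f) hAgf
    have hl1 : 𝒳.p.IsHomLift (𝟙 W) (FG.lift h𝒳 (g ≫ f) (pbHom hfp t ht (Over.mk (g ≫ f))).hom.fst
        hAgff (𝟙 W) (Category.id_comp _).symm (b ≫ a) hba) := FG.lift_isHomLift h𝒳 _ _ _ _ _ _ _
    have hl2 : 𝒳.p.IsHomLift (𝟙 V) (FG.lift h𝒳 f (pbHom hfp t ht (Over.mk f)).hom.fst
        hAff (𝟙 V) (Category.id_comp _).symm a ha) := FG.lift_isHomLift h𝒳 _ _ _ _ _ _ _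
    have key : FG.lift h𝒳 (g ≫ f) (pbHom hfp t ht (Over.mk (g ≫ f))).hom.fst
        hAgff (𝟙 W) (Category.id_comp _).symm (b ≫ a) hba ≫ (pbMap hfp t ht γ).hom.fst =
        b ≫ FG.lift h𝒳 f (pbHom hfp t ht (Over.mk f)).hom.fst
        hAff (𝟙 V) (Category.id_comp _).symm a ha := by
      refine FG.cancel h𝒳 f (pbHom hfp t ht (Over.mk f)).hom.fst hAff g
        (ψ := FG.lift h𝒳 (g ≫ f) (pbHom hfp t ht (Over.mk (g ≫ f))).hom.fst
          hAgff (𝟙 W) (Category.id_comp _).symm (b ≫ a) hba ≫ (pbMap hfp t ht γ).hom.fst)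
        (ψ' := b ≫ FG.lift h𝒳 f (pbHom hfp t ht (Over.mk f)).hom.fst
          hAff (𝟙 V) (Category.id_comp _).symm a ha) inferInstance inferInstance ?_
      have e2 : (pbMap hfp t ht γ).hom.fst ≫ (pbHom hfp t ht (Over.mk f)).hom.fst =
          (pbHom hfp t ht (Over.mk (g ≫ f))).hom.fst := congrArg (fun Ξ => Ξ.hom.fst) hΓfac
      rw [Category.assoc, Category.assoc, e2, FG.lift_fac, FG.lift_fac]
    change FG.lift h𝒳 (g ≫ f) (pbHom hfp t ht (Over.mk (g ≫ f))).hom.fst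
        hAgff (𝟙 W) (Category.id_comp _).symm (b ≫ a) hba ≫
      (M.m (g ≫ f) (pbHom hfp t ht (Over.mk (g ≫ f))) (R.downward_closed hf g) hAgf).hom.fst =
      b ≫ FG.lift h𝒳 f (pbHom hfp t ht (Over.mk f)).hom.fst hAff (𝟙 V)
        (Category.id_comp _).symm a ha ≫ (M.m f (pbHom hfp t ht (Over.mk f)) hf hAf).hom.fst
    rw [e1', ← Category.assoc, key, Category.assoc]

theorem matchFst_self {t t' : (fp F G).obj} (ht : (fp F G).p.obj t = U)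
    (M : MatchFam R (fp F G) t t') {V : C} (f : V ⟶ U) (hf : R f) :
    (matchFst h𝒳 hfp R ht M).m f (pbHom hfp t ht (Over.mk f)).hom.fst hf
      (fst_lift _ f (pbHom_isHomLift hfp t ht (Over.mk f))) =
    (M.m f (pbHom hfp t ht (Over.mk f)) hf (pbHom_isHomLift hfp t ht (Over.mk f))).hom.fst := by
  have hAf : (fp F G).p.IsHomLift f (pbHom hfp t ht (Over.mk f)) :=
    pbHom_isHomLift hfp t ht (Over.mk f)
  have hAff : 𝒳.p.IsHomLift f (pbHom hfp t ht (Over.mk f)).hom.fst := fst_lift _ f hAf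
  change FG.lift h𝒳 f (pbHom hfp t ht (Over.mk f)).hom.fst hAff (𝟙 V) (Category.id_comp _).symm
    (pbHom hfp t ht (Over.mk f)).hom.fst hAff ≫ _ = _
  have h1 : FG.lift h𝒳 f (pbHom hfp t ht (Over.mk f)).hom.fst hAff (𝟙 V)
      (Category.id_comp _).symm (pbHom hfp t ht (Over.mk f)).hom.fst hAff = 𝟙 _ := by
    symm
    exact FG.lift_uniq h𝒳 _ _ _ _ _ _ _ (𝟙 _)
      (IsHomLift.id (IsHomLift.domain_eq 𝒳.p f (pbHom hfp t ht (Over.mk f)).hom.fst))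
      (Category.id_comp _)
  rw [h1, Category.id_comp]

/-- The `𝒴`-component of a matching family in the fibre product. -/
noncomputable def matchSnd {t t' : (fp F G).obj} (ht : (fp F G).p.obj t = U)
    (M : MatchFam R (fp F G) t t') : MatchFam R 𝒴 t.obj.snd t'.obj.snd where
  m := fun V f x' a hf ha =>
    FG.lift h𝒴 f (pbHom hfp t ht (Over.mk f)).hom.snd
      (snd_lift _ f (pbHom_isHomLift hfp t ht (Over.mk f))) (𝟙 V) (Category.id_comp _).symm a ha ≫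
      (M.m f (pbHom hfp t ht (Over.mk f)) hf (pbHom_isHomLift hfp t ht (Over.mk f))).hom.snd
  lift := fun V f x' a hf ha => by
    have h1 : 𝒴.p.IsHomLift (𝟙 V) (FG.lift h𝒴 f (pbHom hfp t ht (Over.mk f)).hom.snd
      (snd_lift _ f (pbHom_isHomLift hfp t ht (Over.mk f))) (𝟙 V) (Category.id_comp _).symm a ha) :=
      FG.lift_isHomLift h𝒴 _ _ _ _ _ _ _
    have h2 : 𝒴.p.IsHomLift f
        (M.m f (pbHom hfp t ht (Over.mk f)) hf (pbHom_isHomLift hfp t ht (Over.mk f))).hom.snd :=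
      snd_lift _ f (M.lift _ _ _ _)
    infer_instance
  compat := fun V W f g x' x'' a b hf ha hb hba => by
    have hAf : (fp F G).p.IsHomLift f (pbHom hfp t ht (Over.mk f)) :=
      pbHom_isHomLift hfp t ht (Over.mk f)
    have hAgf : (fp F G).p.IsHomLift (g ≫ f) (pbHom hfp t ht (Over.mk (g ≫ f))) :=
      pbHom_isHomLift hfp t ht (Over.mk (g ≫ f))
    let γ : Over.mk (g ≫ f) ⟶ Over.mk f := Over.homMk g rfl
    have hΓ : (fp F G).p.IsHomLift g (pbMap hfp t ht γ) := pbMap_isHomLift hfp t ht γ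
    have hΓfac : pbMap hfp t ht γ ≫ pbHom hfp t ht (Over.mk f) =
        pbHom hfp t ht (Over.mk (g ≫ f)) := pbMap_fac hfp t ht γ
    have hΓA : (fp F G).p.IsHomLift (g ≫ f) (pbMap hfp t ht γ ≫ pbHom hfp t ht (Over.mk f)) :=
      inferInstance
    have e1 : M.m (g ≫ f) (pbHom hfp t ht (Over.mk (g ≫ f))) (R.downward_closed hf g) hAgf =
        pbMap hfp t ht γ ≫ M.m f (pbHom hfp t ht (Over.mk f)) hf hAf := by
      rw [← M.compat f g (pbHom hfp t ht (Over.mk f)) (pbMap hfp t ht γ) hf hAf hΓ hΓA]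
      exact M.m_congr rfl hΓfac.symm _ _ _ _
    have e1' : (M.m (g ≫ f) (pbHom hfp t ht (Over.mk (g ≫ f)))
        (R.downward_closed hf g) hAgf).hom.snd =
        (pbMap hfp t ht γ).hom.snd ≫ (M.m f (pbHom hfp t ht (Over.mk f)) hf hAf).hom.snd :=
      congrArg (fun Ξ => Ξ.hom.snd) e1
    have hΓf : 𝒴.p.IsHomLift g (pbMap hfp t ht γ).hom.snd := snd_lift _ g hΓ
    have hAff : 𝒴.p.IsHomLift f (pbHom hfp t ht (Over.mk f)).hom.snd := snd_lift _ f hAf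
    have hAgff : 𝒴.p.IsHomLift (g ≫ f) (pbHom hfp t ht (Over.mk (g ≫ f))).hom.snd :=
      snd_lift _ (g ≫ f) hAgf
    have hl1 : 𝒴.p.IsHomLift (𝟙 W) (FG.lift h𝒴 (g ≫ f) (pbHom hfp t ht (Over.mk (g ≫ f))).hom.snd
        hAgff (𝟙 W) (Category.id_comp _).symm (b ≫ a) hba) := FG.lift_isHomLift h𝒴 _ _ _ _ _ _ _
    have hl2 : 𝒴.p.IsHomLift (𝟙 V) (FG.lift h𝒴 f (pbHom hfp t ht (Over.mk f)).hom.snd
        hAff (𝟙 V) (Category.id_comp _).symm a ha) := FG.lift_isHomLift h𝒴 _ _ _ _ _ _ _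
    have key : FG.lift h𝒴 (g ≫ f) (pbHom hfp t ht (Over.mk (g ≫ f))).hom.snd
        hAgff (𝟙 W) (Category.id_comp _).symm (b ≫ a) hba ≫ (pbMap hfp t ht γ).hom.snd =
        b ≫ FG.lift h𝒴 f (pbHom hfp t ht (Over.mk f)).hom.snd
        hAff (𝟙 V) (Category.id_comp _).symm a ha := by
      refine FG.cancel h𝒴 f (pbHom hfp t ht (Over.mk f)).hom.snd hAff g
        (ψ := FG.lift h𝒴 (g ≫ f) (pbHom hfp t ht (Over.mk (g ≫ f))).hom.snd
          hAgff (𝟙 W) (Category.id_comp _).symm (b ≫ a) hba ≫ (pbMap hfp t ht γ).hom.snd)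
        (ψ' := b ≫ FG.lift h𝒴 f (pbHom hfp t ht (Over.mk f)).hom.snd
          hAff (𝟙 V) (Category.id_comp _).symm a ha) inferInstance inferInstance ?_
      have e2 : (pbMap hfp t ht γ).hom.snd ≫ (pbHom hfp t ht (Over.mk f)).hom.snd =
          (pbHom hfp t ht (Over.mk (g ≫ f))).hom.snd := congrArg (fun Ξ => Ξ.hom.snd) hΓfac
      rw [Category.assoc, Category.assoc, e2, FG.lift_fac, FG.lift_fac]
    change FG.lift h𝒴 (g ≫ f) (pbHom hfp t ht (Over.mk (g ≫ f))).hom.snd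
        hAgff (𝟙 W) (Category.id_comp _).symm (b ≫ a) hba ≫
      (M.m (g ≫ f) (pbHom hfp t ht (Over.mk (g ≫ f))) (R.downward_closed hf g) hAgf).hom.snd =
      b ≫ FG.lift h𝒴 f (pbHom hfp t ht (Over.mk f)).hom.snd hAff (𝟙 V)
        (Category.id_comp _).symm a ha ≫ (M.m f (pbHom hfp t ht (Over.mk f)) hf hAf).hom.snd
    rw [e1', ← Category.assoc, key, Category.assoc]

theorem matchSnd_self {t t' : (fp F G).obj} (ht : (fp F G).p.obj t = U)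
    (M : MatchFam R (fp F G) t t') {V : C} (f : V ⟶ U) (hf : R f) :
    (matchSnd h𝒴 hfp R ht M).m f (pbHom hfp t ht (Over.mk f)).hom.snd hf
      (snd_lift _ f (pbHom_isHomLift hfp t ht (Over.mk f))) =
    (M.m f (pbHom hfp t ht (Over.mk f)) hf (pbHom_isHomLift hfp t ht (Over.mk f))).hom.snd := by
  have hAf : (fp F G).p.IsHomLift f (pbHom hfp t ht (Over.mk f)) :=
    pbHom_isHomLift hfp t ht (Over.mk f)
  have hAff : 𝒴.p.IsHomLift f (pbHom hfp t ht (Over.mk f)).hom.snd := snd_lift _ f hAf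
  change FG.lift h𝒴 f (pbHom hfp t ht (Over.mk f)).hom.snd hAff (𝟙 V) (Category.id_comp _).symm
    (pbHom hfp t ht (Over.mk f)).hom.snd hAff ≫ _ = _
  have h1 : FG.lift h𝒴 f (pbHom hfp t ht (Over.mk f)).hom.snd hAff (𝟙 V)
      (Category.id_comp _).symm (pbHom hfp t ht (Over.mk f)).hom.snd hAff = 𝟙 _ := by
    symm
    exact FG.lift_uniq h𝒴 _ _ _ _ _ _ _ (𝟙 _)
      (IsHomLift.id (IsHomLift.domain_eq 𝒴.p f (pbHom hfp t ht (Over.mk f)).hom.snd))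
      (Category.id_comp _)
  rw [h1, Category.id_comp]

include h𝒳 h𝒴 h𝒮 hfp in
theorem glueMor_fp (hg𝒳 : GlueMor R 𝒳) (hg𝒴 : GlueMor R 𝒴) (hu𝒮 : UniqMor R 𝒮) :
    GlueMor R (fp F G) := by
  intro t t' ht ht' M
  have htx : 𝒳.p.obj t.obj.fst = U := ht
  have htx' : 𝒳.p.obj t'.obj.fst = U := ht'
  have hty : 𝒴.p.obj t.obj.snd = U := (p_snd t).trans ht
  have hty' : 𝒴.p.obj t'.obj.snd = U := (p_snd t').trans ht'
  obtain ⟨φx, hφxl, hφx⟩ := hg𝒳 _ _ htx htx' (matchFst h𝒳 hfp R ht M)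
  obtain ⟨φy, hφyl, hφy⟩ := hg𝒴 _ _ hty hty' (matchSnd h𝒴 hfp R ht M)
  have hA : ∀ ⦃V : C⦄ (f : V ⟶ U), (fp F G).p.IsHomLift f (pbHom hfp t ht (Over.mk f)) :=
    fun V f => pbHom_isHomLift hfp t ht (Over.mk f)
  have hx : ∀ ⦃V : C⦄ (f : V ⟶ U) (hf : R f), (pbHom hfp t ht (Over.mk f)).hom.fst ≫ φx =
      (M.m f (pbHom hfp t ht (Over.mk f)) hf (hA f)).hom.fst := fun V f hf => by
    rw [hφx f _ hf (fst_lift _ f (hA f))]
    exact matchFst_self h𝒳 hfp R ht M f hf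
  have hy : ∀ ⦃V : C⦄ (f : V ⟶ U) (hf : R f), (pbHom hfp t ht (Over.mk f)).hom.snd ≫ φy =
      (M.m f (pbHom hfp t ht (Over.mk f)) hf (hA f)).hom.snd := fun V f hf => by
    rw [hφy f _ hf (snd_lift _ f (hA f))]
    exact matchSnd_self h𝒴 hfp R ht M f hf
  have hti : 𝒮.p.IsHomLift (𝟙 U) t.obj.iso.hom := by
    have := iso_lift t
    exact isHomLift_id_of_eq 𝒮.p htx _
  have hti' : 𝒮.p.IsHomLift (𝟙 U) t'.obj.iso.hom := by
    have := iso_lift t'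
    exact isHomLift_id_of_eq 𝒮.p htx' _
  have hFφ : 𝒮.p.IsHomLift (𝟙 U) (F.map φx) := inferInstance
  have hGφ : 𝒮.p.IsHomLift (𝟙 U) (G.map φy) := inferInstance
  have hw : F.map φx ≫ t'.obj.iso.hom = t.obj.iso.hom ≫ G.map φy := by
    apply hu𝒮 _ _ _ _ _ _ _
    · have : 𝒮.p.IsHomLift (𝟙 U ≫ 𝟙 U) (F.map φx ≫ t'.obj.iso.hom) := inferInstance
      simpa using this
    · have : 𝒮.p.IsHomLift (𝟙 U ≫ 𝟙 U) (t.obj.iso.hom ≫ G.map φy) := inferInstance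
      simpa using this
    · intro V f z c hf hc
      have hFA : 𝒮.p.IsHomLift f (F.map (pbHom hfp t ht (Over.mk f)).hom.fst) := by
        have := fst_lift _ f (hA f)
        infer_instance
      have e : FG.lift h𝒮 f (F.map (pbHom hfp t ht (Over.mk f)).hom.fst) hFA (𝟙 V)
          (Category.id_comp _).symm c hc ≫ F.map (pbHom hfp t ht (Over.mk f)).hom.fst = c :=
        FG.lift_fac h𝒮 _ _ _ _ _ _ _
      rw [← e]
      simp only [Category.assoc]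
      congr 1
      rw [← Category.assoc, ← F.map_comp, hx f hf,
        (M.m f (pbHom hfp t ht (Over.mk f)) hf (hA f)).hom.w, ← hy f hf, G.map_comp,
        ← Category.assoc, ← (pbHom hfp t ht (Over.mk f)).hom.w, Category.assoc]
  have hΦl : (fp F G).p.IsHomLift (𝟙 U)
      (ObjectProperty.homMk (P := fpProp F G) (X := t) (Y := t')
        { fst := φx, snd := φy, w := hw }) :=
    lift_of_fst _ _ hφxl
  refine ⟨ObjectProperty.homMk { fst := φx, snd := φy, w := hw }, hΦl, ?_⟩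
  intro V f s A hf hAl
  -- factor `A` through the chosen pullback
  have hΞl : (fp F G).p.IsHomLift (𝟙 V) (FG.lift hfp f (pbHom hfp t ht (Over.mk f)) (hA f) (𝟙 V)
      (Category.id_comp _).symm A hAl) := FG.lift_isHomLift hfp _ _ _ _ _ _ _
  have hΞ : FG.lift hfp f (pbHom hfp t ht (Over.mk f)) (hA f) (𝟙 V)
      (Category.id_comp _).symm A hAl ≫ pbHom hfp t ht (Over.mk f) = A :=
    FG.lift_fac hfp _ _ _ _ _ _ _
  have hΞA : (fp F G).p.IsHomLift (𝟙 V ≫ f) (FG.lift hfp f (pbHom hfp t ht (Over.mk f)) (hA f) (𝟙 V)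
      (Category.id_comp _).symm A hAl ≫ pbHom hfp t ht (Over.mk f)) := inferInstance
  have e1 : M.m f A hf hAl = FG.lift hfp f (pbHom hfp t ht (Over.mk f)) (hA f) (𝟙 V)
      (Category.id_comp _).symm A hAl ≫ M.m f (pbHom hfp t ht (Over.mk f)) hf (hA f) := by
    rw [← M.compat f (𝟙 V) (pbHom hfp t ht (Over.mk f)) _ hf (hA f) hΞl hΞA]
    exact M.m_congr (Category.id_comp f).symm hΞ.symm _ _ _ _
  have e2 : pbHom hfp t ht (Over.mk f) ≫
      ObjectProperty.homMk (P := fpProp F G) (X := t) (Y := t')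
        { fst := φx, snd := φy, w := hw } = M.m f (pbHom hfp t ht (Over.mk f)) hf (hA f) := by
    apply hom_ext'
    · exact hx f hf
    · exact hy f hf
  rw [e1, ← e2, ← Category.assoc, hΞ]

end Glue

section Main

theorem isStack_fp {C : Type u} [Category.{v} C] (J : GrothendieckTopology C)
    {𝒳 : BasedCategory.{v₂, u₂} C} {𝒴 : BasedCategory.{v₃, u₃} C} {𝒮 : BasedCategory.{v₄, u₄} C}
    (F : 𝒳 ⥤ᵇ 𝒮) (G : 𝒴 ⥤ᵇ 𝒮) (h𝒳 : Stk.IsStack J 𝒳) (h𝒴 : Stk.IsStack J 𝒴)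
    (h𝒮 : Stk.IsPrestack J 𝒮) : Stk.IsStack J (FibCat.fp F G) := by
  have hfp : FibCat.IsFibGrpd (fp F G).p :=
    Groth.Agent.Lib.Helper27.FpFib.isFibGrpd_fp F G h𝒳.1 h𝒴.1 h𝒮.1
  refine ⟨hfp, fun U R hR => ?_⟩
  obtain ⟨ux, gx, ex⟩ := (isStackFor_iff R h𝒳.1).1 (h𝒳.2 R hR)
  obtain ⟨uy, gy, ey⟩ := (isStackFor_iff R h𝒴.1).1 (h𝒴.2 R hR)
  obtain ⟨us, gs⟩ := (isPrestackFor_iff R h𝒮.1).1 (h𝒮.2 R hR)
  exact (isStackFor_iff R hfp).2 ⟨uniqMor_fp h𝒳.1 h𝒴.1 hfp R ux uy,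
    glueMor_fp h𝒳.1 h𝒴.1 h𝒮.1 hfp R gx gy us, effective_fp h𝒮.1 R ex ey gs⟩

end Main

section Setoid

/-- Thin fibres, elementwise. -/
theorem thin_iff {C : Type u} [Category.{v} C] {𝒳 : Type u₂} [Category.{v₂} 𝒳] (p : 𝒳 ⥤ C) (U : C) :
    Quiver.IsThin (p.Fiber U) ↔ ∀ (x y : 𝒳) (φ ψ : x ⟶ y), p.IsHomLift (𝟙 U) φ →
      p.IsHomLift (𝟙 U) ψ → φ = ψ := by
  constructor
  · intro h x y φ ψ hφ hψ
    have hx : p.obj x = U := IsHomLift.domain_eq p (𝟙 U) φ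
    have hy : p.obj y = U := IsHomLift.codomain_eq p (𝟙 U) φ
    let a : p.Fiber U := ⟨x, hx⟩
    let b : p.Fiber U := ⟨y, hy⟩
    let f : a ⟶ b := ⟨φ, hφ⟩
    let g : a ⟶ b := ⟨ψ, hψ⟩
    have : f = g := (h a b).elim f g
    exact congrArg Subtype.val this
  · intro h a b
    constructor
    intro f g
    apply Subtype.ext
    exact h _ _ _ _ f.2 g.2

theorem isFibSetoid_fp {C : Type u} [Category.{v} C]
    {𝒳 : BasedCategory.{v₂, u₂} C} {𝒴 : BasedCategory.{v₃, u₃} C} {𝒮 : BasedCategory.{v₄, u₄} C}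
    (F : 𝒳 ⥤ᵇ 𝒮) (G : 𝒴 ⥤ᵇ 𝒮) (h𝒳 : FibCat.IsFibSetoid 𝒳.p) (h𝒴 : FibCat.IsFibSetoid 𝒴.p)
    (h𝒮 : FibCat.IsFibGrpd 𝒮.p) : FibCat.IsFibSetoid (FibCat.fp F G).p := by
  refine ⟨Groth.Agent.Lib.Helper27.FpFib.isFibGrpd_fp F G h𝒳.1 h𝒴.1 h𝒮, fun U => ?_⟩
  rw [thin_iff]
  intro t t' Φ Ψ hΦ hΨ
  apply hom_ext'
  · exact (thin_iff 𝒳.p U).1 (h𝒳.2 U) _ _ _ _ (fst_lift Φ _ hΦ) (fst_lift Ψ _ hΨ)
  · exact (thin_iff 𝒴.p U).1 (h𝒴.2 U) _ _ _ _ (snd_lift Φ _ hΦ) (snd_lift Ψ _ hΨ)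

end Setoid

section SetoidFaithful

theorem isFibSetoid_fp_of_faithful {C : Type u} [Category.{v} C]
    {𝒳 : BasedCategory.{v₂, u₂} C} {𝒴 : BasedCategory.{v₃, u₃} C} {𝒮 : BasedCategory.{v₄, u₄} C}
    (F : 𝒳 ⥤ᵇ 𝒮) (G : 𝒴 ⥤ᵇ 𝒮) [F.toFunctor.Faithful] (h𝒳 : FibCat.IsFibGrpd 𝒳.p)
    (h𝒴 : FibCat.IsFibSetoid 𝒴.p)
    (h𝒮 : FibCat.IsFibGrpd 𝒮.p) : FibCat.IsFibSetoid (FibCat.fp F G).p := by
  refine ⟨Groth.Agent.Lib.Helper27.FpFib.isFibGrpd_fp F G h𝒳 h𝒴.1 h𝒮, fun U => ?_⟩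
  rw [thin_iff]
  intro t t' Φ Ψ hΦ hΨ
  have hs : Φ.hom.snd = Ψ.hom.snd :=
    (thin_iff 𝒴.p U).1 (h𝒴.2 U) _ _ _ _ (snd_lift Φ _ hΦ) (snd_lift Ψ _ hΨ)
  apply hom_ext' _ hs
  apply F.toFunctor.map_injective
  have w1 : F.map Φ.hom.fst ≫ t'.obj.iso.hom = t.obj.iso.hom ≫ G.map Φ.hom.snd := Φ.hom.w
  have w2 : F.map Ψ.hom.fst ≫ t'.obj.iso.hom = t.obj.iso.hom ≫ G.map Ψ.hom.snd := Ψ.hom.w
  rw [← hs, ← w1] at w2
  exact ((cancel_mono _).1 w2).symm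

end SetoidFaithful

end Groth.Agent.Lib.Helper27.StackFp
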