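import Groth.Prelude.Def_FibCat2
import Groth.Agent.Lib.Helper27.EquivOverAux
import Groth.Agent.Lib.Helper27.StackFp

/-!
# Fully faithful functors and diagonals (helper27)
-/

set_option autoImplicit false
set_option backward.isDefEq.respectTransparency false
set_option backward.isDefEq.respectTransparency.types false

universe v₄ u₄ v₃ u₃ v₂ u₂ v u

open CategoryTheory Groth.Agent.Lib.Helper27.DescentKit
  Groth.Agent.Lib.Helper16.FpFibGrpd Groth.Agent.Lib.Helper27.StackFp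

namespace Groth.Agent.Lib.Helper27.DiagEquiv

variable {C : Type u} [Category.{v} C] {𝒳 : BasedCategory.{v₂, u₂} C}
  {𝒴 : BasedCategory.{v₃, u₃} C} (G : 𝒳 ⥤ᵇ 𝒴)

open FibCat

@[simp] theorem diag_obj_fst (x : 𝒳.obj) : ((diag G).obj x).obj.fst = x := rfl
@[simp] theorem diag_obj_snd (x : 𝒳.obj) : ((diag G).obj x).obj.snd = x := rfl
theorem diag_obj_iso_hom (x : 𝒳.obj) : ((diag G).obj x).obj.iso.hom = 𝟙 (G.obj x) := rfl
@[simp] theorem diag_map_fst {x x' : 𝒳.obj} (a : x ⟶ x') : ((diag G).map a).hom.fst = a := rfl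
@[simp] theorem diag_map_snd {x x' : 𝒳.obj} (a : x ⟶ x') : ((diag G).map a).hom.snd = a := rfl

theorem exists_base {𝒵 : Type u₄} [Category.{v₄} 𝒵] (p : 𝒵 ⥤ C) {a b : 𝒵} (ψ : a ⟶ b) {V U : C}
    (ha : p.obj a = V) (hb : p.obj b = U) : ∃ f : V ⟶ U, p.IsHomLift f ψ := by
  subst ha hb
  exact ⟨p.map ψ, inferInstance⟩

theorem isEquivOver_diag_of_ff (h𝒳 : FibCat.IsFibGrpd 𝒳.p) (h𝒴 : FibCat.IsFibGrpd 𝒴.p)
    [G.toFunctor.Full] [G.toFunctor.Faithful] : FibCat.IsEquivOver (FibCat.diag G) := by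
  have hfp : FibCat.IsFibGrpd (fp G G).p :=
    Groth.Agent.Lib.Helper27.FpFib.isFibGrpd_fp G G h𝒳 h𝒳 h𝒴
  rw [Groth.Agent.Lib.Helper27.EquivOverAux.isEquivOver_iff_ff_ess]
  refine ⟨⟨⟨?_⟩, ⟨?_⟩⟩, ?_⟩
  · intro x x' Φ
    have w : G.map Φ.hom.fst ≫ 𝟙 _ = 𝟙 _ ≫ G.map Φ.hom.snd := Φ.hom.w
    rw [Category.comp_id, Category.id_comp] at w
    have e : Φ.hom.fst = Φ.hom.snd := G.toFunctor.map_injective w
    refine ⟨Φ.hom.fst, ?_⟩
    apply hom_ext'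
    · rfl
    · exact e
  · intro x x' a b hab
    exact congrArg (fun Ξ => Ξ.hom.fst) hab
  · intro t
    obtain ⟨τ, hτ⟩ := G.toFunctor.map_surjective t.obj.iso.hom
    have hτ' : G.map τ = t.obj.iso.hom := hτ
    have hw : G.map (𝟙 t.obj.fst) ≫ t.obj.iso.hom =
        ((diag G).obj t.obj.fst).obj.iso.hom ≫ G.map τ := by
      change G.map (𝟙 t.obj.fst) ≫ t.obj.iso.hom = 𝟙 (G.obj t.obj.fst) ≫ G.map τ
      rw [G.map_id, Category.id_comp, Category.id_comp, hτ']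
    let Φ : (diag G).obj t.obj.fst ⟶ t :=
      ObjectProperty.homMk { fst := 𝟙 t.obj.fst, snd := τ, w := hw }
    have hΦl : (fp G G).p.IsHomLift (𝟙 ((fp G G).p.obj t)) Φ := by
      apply lift_of_fst
      change 𝒳.p.IsHomLift (𝟙 (𝒳.p.obj t.obj.fst)) (𝟙 t.obj.fst)
      infer_instance
    haveI : IsIso Φ := FG.isIso hfp Φ hΦl
    exact ⟨t.obj.fst, asIso Φ, hΦl⟩

theorem ff_of_isEquivOver_diag (h𝒳 : FibCat.IsFibGrpd 𝒳.p) (h𝒴 : FibCat.IsFibGrpd 𝒴.p)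
    (h : FibCat.IsEquivOver (FibCat.diag G)) : G.toFunctor.Full ∧ G.toFunctor.Faithful := by
  obtain ⟨⟨hfull, hfaith⟩, hess⟩ :=
    (Groth.Agent.Lib.Helper27.EquivOverAux.isEquivOver_iff_ff_ess _).1 h
  have hfaithG : G.toFunctor.Faithful := by
    constructor
    intro x x' a b hab
    have hab' : G.map a = G.map b := hab
    have hw : G.map a ≫ ((diag G).obj x').obj.iso.hom =
        ((diag G).obj x).obj.iso.hom ≫ G.map b := by
      change G.map a ≫ 𝟙 (G.obj x') = 𝟙 (G.obj x) ≫ G.map b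
      rw [Category.id_comp, Category.comp_id, hab']
    let Φ : (diag G).obj x ⟶ (diag G).obj x' :=
      ObjectProperty.homMk { fst := a, snd := b, w := hw }
    obtain ⟨c, hc⟩ := hfull.map_surjective Φ
    have h1 : c = a := congrArg (fun Ξ => Ξ.hom.fst) hc
    have h2 : c = b := congrArg (fun Ξ => Ξ.hom.snd) hc
    exact h1.symm.trans h2
  refine ⟨⟨?_⟩, hfaithG⟩
  intro x x' ψ
  obtain ⟨f, hf⟩ := exists_base 𝒴.p ψ (G.w_obj x) (G.w_obj x')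
  have hφ := pbHom_isHomLift h𝒳 x' rfl (Over.mk f)
  have hφ' : 𝒳.p.IsHomLift f (pbHom h𝒳 x' rfl (Over.mk f)) := hφ
  have hGφ : 𝒴.p.IsHomLift f (G.map (pbHom h𝒳 x' rfl (Over.mk f))) := inferInstance
  have hθl : 𝒴.p.IsHomLift (𝟙 (𝒳.p.obj x)) (FG.lift h𝒴 f (G.map (pbHom h𝒳 x' rfl (Over.mk f))) hGφ
      (𝟙 _) (Category.id_comp _).symm ψ hf) := FG.lift_isHomLift h𝒴 _ _ _ _ _ _ _
  have hθ : FG.lift h𝒴 f (G.map (pbHom h𝒳 x' rfl (Over.mk f))) hGφ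
      (𝟙 _) (Category.id_comp _).symm ψ hf ≫ G.map (pbHom h𝒳 x' rfl (Over.mk f)) = ψ :=
    FG.lift_fac h𝒴 _ _ _ _ _ _ _
  haveI : IsIso (FG.lift h𝒴 f (G.map (pbHom h𝒳 x' rfl (Over.mk f))) hGφ
      (𝟙 _) (Category.id_comp _).symm ψ hf) := FG.isIso h𝒴 _ hθl
  let t : (fp G G).obj := ⟨⟨x, pbObj h𝒳 x' rfl (Over.mk f),
    asIso (FG.lift h𝒴 f (G.map (pbHom h𝒳 x' rfl (Over.mk f))) hGφ
      (𝟙 _) (Category.id_comp _).symm ψ hf)⟩, hθl⟩
  obtain ⟨ξ, e, he⟩ := hess t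
  have w : G.map e.hom.hom.fst ≫ t.obj.iso.hom =
      𝟙 (G.obj ξ) ≫ G.map e.hom.hom.snd := e.hom.hom.w
  rw [Category.id_comp] at w
  haveI : IsIso e.hom.hom.fst := by
    have : IsIso ((fpFst G G).toFunctor.map e.hom) := inferInstance
    exact this
  refine ⟨inv e.hom.hom.fst ≫ e.hom.hom.snd ≫ pbHom h𝒳 x' rfl (Over.mk f), ?_⟩
  change G.map (inv e.hom.hom.fst ≫ e.hom.hom.snd ≫ pbHom h𝒳 x' rfl (Over.mk f)) = ψ
  rw [G.map_comp, G.map_comp, ← Category.assoc, ← hθ]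
  congr 1
  have : G.map (inv e.hom.hom.fst) = inv (G.map e.hom.hom.fst) := by
    have := Functor.map_inv G.toFunctor e.hom.hom.fst
    exact this
  rw [this, IsIso.inv_comp_eq]
  exact w.symm

theorem ff_iff_isEquivOver_diag (h𝒳 : FibCat.IsFibGrpd 𝒳.p) (h𝒴 : FibCat.IsFibGrpd 𝒴.p) :
    (G.toFunctor.Full ∧ G.toFunctor.Faithful) ↔ FibCat.IsEquivOver (FibCat.diag G) :=
  ⟨fun ⟨_, _⟩ => isEquivOver_diag_of_ff G h𝒳 h𝒴, ff_of_isEquivOver_diag G h𝒳 h𝒴⟩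

end Groth.Agent.Lib.Helper27.DiagEquiv
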