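import Groth.Prelude.Def_FibCat2
import Groth.Agent.Lib.Helper27.EquivOverAux
import Groth.Agent.Lib.Helper27.StackFp
import Groth.Agent.Lib.Helper27.DiagEquiv

/-!
# The relative inertia as a fibre product of diagonals (helper27)
-/

set_option autoImplicit false
set_option backward.isDefEq.respectTransparency false
set_option backward.isDefEq.respectTransparency.types false

universe v₄ u₄ v₃ u₃ v₂ u₂ v u

open CategoryTheory CategoryTheory.Limits Groth.Agent.Lib.Helper27.DescentKit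
  Groth.Agent.Lib.Helper16.FpFibGrpd Groth.Agent.Lib.Helper27.StackFp

namespace Groth.Agent.Lib.Helper27.InertiaDiag

variable {C : Type u} [Category.{v} C] {𝒳 : BasedCategory.{v₂, u₂} C}
  {𝒴 : BasedCategory.{v₃, u₃} C} (F : 𝒳 ⥤ᵇ 𝒴)

open FibCat

/-- Morphisms of a fibre product with invertible components are invertible. -/
theorem isIso_of_components {𝒮 : BasedCategory.{v₄, u₄} C} {F' : 𝒳 ⥤ᵇ 𝒮} {G' : 𝒴 ⥤ᵇ 𝒮}
    {t t' : (fp F' G').obj} (Φ : t ⟶ t') [IsIso Φ.hom.fst] [IsIso Φ.hom.snd] : IsIso Φ := by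
  rw [← ObjectProperty.isIso_hom_iff]
  exact (CategoricalPullback.mkIso (asIso Φ.hom.fst) (asIso Φ.hom.snd) Φ.hom.w).isIso_hom

theorem aut_lift (a : (inertia F).obj) : 𝒳.p.IsHomLift (𝟙 (𝒳.p.obj a.pt)) a.aut.hom := by
  apply (BasedFunctor.isHomLift_iff F _ _).1
  rw [a.map_aut]
  exact IsHomLift.id (F.w_obj a.pt)

/-- The object of the fibre product of the diagonals attached to `(x, α)`. -/
def eObj (a : (inertia F).obj) : (fp (diag F) (diag F)).obj :=
  ⟨⟨a.pt, a.pt, ObjectProperty.isoMk _ (CategoricalPullback.mkIso a.aut (Iso.refl a.pt) (by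
      change F.map a.aut.hom ≫ 𝟙 (F.obj a.pt) = 𝟙 (F.obj a.pt) ≫ F.map (𝟙 a.pt)
      rw [a.map_aut, F.map_id]))⟩, by
    change (fp F F).p.IsHomLift (𝟙 (𝒳.p.obj a.pt)) _
    apply lift_of_fst
    exact aut_lift F a⟩

@[simp] theorem eObj_fst (a : (inertia F).obj) : (eObj F a).obj.fst = a.pt := rfl
@[simp] theorem eObj_snd (a : (inertia F).obj) : (eObj F a).obj.snd = a.pt := rfl
theorem eObj_iso_fst (a : (inertia F).obj) : (eObj F a).obj.iso.hom.hom.fst = a.aut.hom := rfl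
theorem eObj_iso_snd (a : (inertia F).obj) : (eObj F a).obj.iso.hom.hom.snd = 𝟙 a.pt := rfl

/-- The functor on morphisms. -/
def eMap {a b : (inertia F).obj} (φ : a ⟶ b) : eObj F a ⟶ eObj F b :=
  ObjectProperty.homMk
    { fst := φ.hom
      snd := φ.hom
      w := by
        apply hom_ext'
        · change φ.hom ≫ b.aut.hom = a.aut.hom ≫ φ.hom
          exact φ.comm.symm
        · change φ.hom ≫ 𝟙 b.pt = 𝟙 a.pt ≫ φ.hom
          rw [Category.comp_id, Category.id_comp] }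

/-- The comparison functor. -/
def E : inertia F ⥤ᵇ fp (diag F) (diag F) where
  toFunctor :=
    { obj := eObj F
      map := fun φ => eMap F φ
      map_id := fun a => by apply hom_ext' <;> rfl
      map_comp := fun φ ψ => by apply hom_ext' <;> rfl }
  w := rfl

theorem E_fst : BasedFunctor.comp (E F) (fpFst _ _) = inertiaToBase F := rfl

theorem E_snd : BasedFunctor.comp (E F) (fpSnd _ _) = inertiaToBase F := rfl

theorem isEquivOver_E : FibCat.IsEquivOver (E F) := by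
  rw [Groth.Agent.Lib.Helper27.EquivOverAux.isEquivOver_iff_ff_ess]
  refine ⟨⟨⟨?_⟩, ⟨?_⟩⟩, ?_⟩
  · -- full
    intro a b Φ
    have w : (diag F).map Φ.hom.fst ≫ (eObj F b).obj.iso.hom =
        (eObj F a).obj.iso.hom ≫ (diag F).map Φ.hom.snd := Φ.hom.w
    have w1 : Φ.hom.fst ≫ b.aut.hom = a.aut.hom ≫ Φ.hom.snd :=
      congrArg (fun Θ => Θ.hom.fst) w
    have w2' : Φ.hom.fst ≫ 𝟙 b.pt = 𝟙 a.pt ≫ Φ.hom.snd :=
      congrArg (fun Θ => Θ.hom.snd) w
    have w2 : Φ.hom.fst = Φ.hom.snd :=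
      (Category.comp_id (X := a.pt) (Y := b.pt) Φ.hom.fst).symm.trans
        (w2'.trans (Category.id_comp (X := a.pt) (Y := b.pt) Φ.hom.snd))
    refine ⟨⟨Φ.hom.fst, ?_⟩, ?_⟩
    · rw [w1, w2]
    · apply hom_ext'
      · rfl
      · exact w2
  · -- faithful
    intro a b φ ψ h
    apply InertiaObj.hom_ext
    exact congrArg (fun Θ => Θ.hom.fst) h
  · -- essentially surjective
    intro t
    -- the components of the isomorphism
    haveI : IsIso t.obj.iso.hom.hom.fst :=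
      inferInstanceAs (IsIso ((fpFst F F).toFunctor.map t.obj.iso.hom))
    haveI : IsIso t.obj.iso.hom.hom.snd :=
      inferInstanceAs (IsIso ((fpSnd F F).toFunctor.map t.obj.iso.hom))
    have wF' : F.map t.obj.iso.hom.hom.fst ≫ 𝟙 (F.obj t.obj.snd) =
        𝟙 (F.obj t.obj.fst) ≫ F.map t.obj.iso.hom.hom.snd := t.obj.iso.hom.hom.w
    have wF : F.map t.obj.iso.hom.hom.fst = F.map t.obj.iso.hom.hom.snd :=
      (Category.comp_id (X := F.obj t.obj.fst) (Y := F.obj t.obj.snd)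
        (F.map t.obj.iso.hom.hom.fst)).symm.trans
        (wF'.trans (Category.id_comp (X := F.obj t.obj.fst) (Y := F.obj t.obj.snd)
          (F.map t.obj.iso.hom.hom.snd)))
    have hmap : F.map (t.obj.iso.hom.hom.fst ≫ inv t.obj.iso.hom.hom.snd) =
        𝟙 (F.obj t.obj.fst) := by
      rw [F.map_comp, wF, ← F.map_comp, IsIso.hom_inv_id, F.map_id]
      rfl
    let a : (inertia F).obj :=
      ⟨t.obj.fst, asIso (t.obj.iso.hom.hom.fst ≫ inv t.obj.iso.hom.hom.snd), hmap⟩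
    have hw : (diag F).map (𝟙 t.obj.fst) ≫ t.obj.iso.hom =
        (eObj F a).obj.iso.hom ≫ (diag F).map t.obj.iso.hom.hom.snd := by
      apply hom_ext'
      · change 𝟙 t.obj.fst ≫ t.obj.iso.hom.hom.fst =
          (t.obj.iso.hom.hom.fst ≫ inv t.obj.iso.hom.hom.snd) ≫ t.obj.iso.hom.hom.snd
        simp
      · change 𝟙 t.obj.fst ≫ t.obj.iso.hom.hom.snd = 𝟙 t.obj.fst ≫ t.obj.iso.hom.hom.snd
        rfl
    let Ξ : eObj F a ⟶ t :=
      ObjectProperty.homMk { fst := 𝟙 t.obj.fst, snd := t.obj.iso.hom.hom.snd, w := hw }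
    haveI : IsIso Ξ.hom.fst := inferInstanceAs (IsIso (𝟙 t.obj.fst))
    haveI : IsIso Ξ.hom.snd := inferInstanceAs (IsIso t.obj.iso.hom.hom.snd)
    haveI : IsIso Ξ := isIso_of_components Ξ
    refine ⟨a, asIso Ξ, ?_⟩
    apply lift_of_fst
    change 𝒳.p.IsHomLift (𝟙 (𝒳.p.obj t.obj.fst)) (𝟙 t.obj.fst)
    infer_instance

end Groth.Agent.Lib.Helper27.InertiaDiag
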