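import Groth.Prelude.Def_FibCat2
import Groth.Agent.Lib.Helper27.EquivOverAux
import Groth.Agent.Lib.Helper27.DescentKit

/-!
# Representable categories over `C` (helper27)
-/

set_option autoImplicit false
set_option backward.isDefEq.respectTransparency false
set_option backward.isDefEq.respectTransparency.types false

universe v₄ u₄ v₃ u₃ v₂ u₂ v u

open CategoryTheory Groth.Agent.Lib.Helper27.DescentKit
  Groth.Agent.Lib.Helper16.FpFibGrpd

namespace Groth.Agent.Lib.Helper27.ReprAux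

variable {C : Type u} [Category.{v} C]

open FibCat

theorem isFibGrpd_overForget (U : C) : FibCat.IsFibGrpd (Over.forget U) := by
  constructor
  · intro x V f
    let φ₀ : Over.mk (f ≫ x.hom) ⟶ x := Over.homMk f rfl
    refine ⟨Over.mk (f ≫ x.hom), φ₀, ?_⟩
    exact inferInstanceAs ((Over.forget U).IsHomLift ((Over.forget U).map φ₀) φ₀)
  · intro y x φ
    refine @Functor.IsStronglyCartesian.mk _ _ _ _ _ _ _ _ _ _ _ inferInstance ?_
    intro z g ψ hψ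
    have h1 : g ≫ φ.left = ψ.left :=
      IsHomLift.eq_of_isHomLift (Over.forget U) (g ≫ (Over.forget U).map φ) ψ
    have hw : g ≫ y.hom = z.hom := by
      rw [← Over.w φ, ← Category.assoc, h1, Over.w ψ]
    let χ₀ : z ⟶ y := Over.homMk g hw
    refine ⟨χ₀, ⟨?_, ?_⟩, ?_⟩
    · exact inferInstanceAs ((Over.forget U).IsHomLift ((Over.forget U).map χ₀) χ₀)
    · apply Over.OverMorphism.ext
      exact h1
    · rintro χ' ⟨hχ'l, -⟩
      apply Over.OverMorphism.ext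
      exact (IsHomLift.eq_of_isHomLift (Over.forget U) g χ').symm

theorem isFibGrpd_overCat (U : C) : FibCat.IsFibGrpd (overCat U).p := isFibGrpd_overForget U

section Terminal

variable (𝒳 : BasedCategory.{v₂, u₂} C)

/-- Every object has exactly one morphism to `ξ`. -/
def IsTerm (ξ : 𝒳.obj) : Prop := ∀ ρ : 𝒳.obj, Nonempty (Unique (ρ ⟶ ξ))

variable {𝒳}

/-- The morphism to a terminal object. -/
noncomputable def toTerm {ξ : 𝒳.obj} (h : IsTerm 𝒳 ξ) (ρ : 𝒳.obj) : ρ ⟶ ξ :=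
  (h ρ).some.default

theorem toTerm_uniq {ξ : 𝒳.obj} (h : IsTerm 𝒳 ξ) {ρ : 𝒳.obj} (a b : ρ ⟶ ξ) : a = b :=
  ((h ρ).some.uniq a).trans ((h ρ).some.uniq b).symm

/-- The functor to the slice over the base of a terminal object. -/
noncomputable def toOver {ξ : 𝒳.obj} (h : IsTerm 𝒳 ξ) : 𝒳 ⥤ᵇ overCat (𝒳.p.obj ξ) where
  toFunctor :=
    { obj := fun ρ => Over.mk (𝒳.p.map (toTerm h ρ))
      map := fun {ρ ρ'} a => Over.homMk (𝒳.p.map a) (by
        change 𝒳.p.map a ≫ 𝒳.p.map (toTerm h ρ') = 𝒳.p.map (toTerm h ρ)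
        rw [← 𝒳.p.map_comp]
        exact congrArg _ (toTerm_uniq h _ _))
      map_id := fun ρ => by apply Over.OverMorphism.ext; exact 𝒳.p.map_id ρ
      map_comp := fun a b => by apply Over.OverMorphism.ext; exact 𝒳.p.map_comp a b }
  w := rfl

theorem isEquivOver_toOver (hp : FibCat.IsFibGrpd 𝒳.p) {ξ : 𝒳.obj} (h : IsTerm 𝒳 ξ) :
    FibCat.IsEquivOver (toOver h) := by
  rw [Groth.Agent.Lib.Helper27.EquivOverAux.isEquivOver_iff_ff_ess]
  refine ⟨⟨⟨?_⟩, ⟨?_⟩⟩, ?_⟩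
  · intro ρ ρ' g
    have hw : g.left ≫ 𝒳.p.map (toTerm h ρ') = 𝒳.p.map (toTerm h ρ) := Over.w g
    have h1 : 𝒳.p.IsHomLift (𝒳.p.map (toTerm h ρ')) (toTerm h ρ') := inferInstance
    have h2 : 𝒳.p.IsHomLift (g.left ≫ 𝒳.p.map (toTerm h ρ')) (toTerm h ρ) := by
      rw [hw]; infer_instance
    have hχl : 𝒳.p.IsHomLift g.left (FG.lift hp _ (toTerm h ρ') h1 g.left rfl (toTerm h ρ) h2) :=
      FG.lift_isHomLift hp _ _ _ _ _ _ _
    refine ⟨FG.lift hp _ (toTerm h ρ') h1 g.left rfl (toTerm h ρ) h2, ?_⟩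
    apply Over.OverMorphism.ext
    change 𝒳.p.map (FG.lift hp _ (toTerm h ρ') h1 g.left rfl (toTerm h ρ) h2) = g.left
    exact (IsHomLift.eq_of_isHomLift 𝒳.p g.left _).symm
  · intro ρ ρ' a b hab
    have hab' : 𝒳.p.map a = 𝒳.p.map b := congrArg CommaMorphism.left hab
    have h1 : 𝒳.p.IsHomLift (𝒳.p.map (toTerm h ρ')) (toTerm h ρ') := inferInstance
    have ha : 𝒳.p.IsHomLift (𝒳.p.map a) a := inferInstance
    have hb : 𝒳.p.IsHomLift (𝒳.p.map a) b := by rw [hab']; infer_instance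
    exact FG.cancel hp _ (toTerm h ρ') h1 (𝒳.p.map a) ha hb (toTerm_uniq h _ _)
  · intro η
    obtain ⟨ρ, φ, hφ⟩ := hp.exists_lift (x := ξ) η.hom
    have hρ : 𝒳.p.obj ρ = η.left := IsHomLift.domain_eq 𝒳.p η.hom φ
    have hφ' : φ = toTerm h ρ := toTerm_uniq h _ _
    have hfac : 𝒳.p.map (toTerm h ρ) = eqToHom hρ ≫ η.hom := by
      rw [← hφ']
      have := IsHomLift.fac' 𝒳.p η.hom φ
      rw [this]
      simp
    let e : (toOver h).toFunctor.obj ρ ≅ η :=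
      Over.isoMk (eqToIso hρ) (by
        change eqToHom hρ ≫ η.hom = 𝒳.p.map (toTerm h ρ)
        exact hfac.symm)
    refine ⟨ρ, e, ?_⟩
    have hmap : (overCat (𝒳.p.obj ξ)).p.map e.hom = eqToHom hρ := rfl
    have h3 : (overCat (𝒳.p.obj ξ)).p.IsHomLift (eqToHom hρ) e.hom := by
      rw [← hmap]; infer_instance
    have h4 : (overCat (𝒳.p.obj ξ)).p.IsHomLift (eqToHom hρ ≫ 𝟙 η.left) e.hom := by
      rw [Category.comp_id]; exact h3
    exact (IsHomLift.lift_eqToHom_comp_iff _ (𝟙 η.left) _ hρ).1 h4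

end Terminal

section Main

open CategoryTheory.Limits

theorem isRepresentable_iff (𝒳 : BasedCategory.{v, max u v} C) :
    FibCat.IsRepresentable 𝒳 ↔ (FibCat.IsFibGrpd 𝒳.p ∧ ∃ ξ : 𝒳.obj, IsTerm 𝒳 ξ) := by
  constructor
  · rintro ⟨U, F, hF⟩
    obtain ⟨⟨hfull, hfaith⟩, -⟩ :=
      (Groth.Agent.Lib.Helper27.EquivOverAux.isEquivOver_iff_ff_ess F).1 hF
    obtain ⟨G, ⟨e1⟩, ⟨e2⟩⟩ := hF
    refine ⟨Groth.Agent.Lib.Helper27.EquivOverAux.isFibGrpd_of_equiv G F e2 e1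
      (isFibGrpd_overCat U), G.obj (Over.mk (𝟙 U)), fun ρ => ?_⟩
    let i : F.toFunctor.obj (G.obj (Over.mk (𝟙 U))) ≅ Over.mk (𝟙 U) :=
      ((BasedNatTrans.forgetful _ _).mapIso e2).app (Over.mk (𝟙 U))
    have hT : IsTerminal (F.toFunctor.obj (G.obj (Over.mk (𝟙 U)))) :=
      IsTerminal.ofIso Over.mkIdTerminal i.symm
    obtain ⟨a, -⟩ := hfull.map_surjective (hT.from (F.toFunctor.obj ρ))
    refine ⟨⟨⟨a⟩, fun b => ?_⟩⟩
    apply hfaith.map_injective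
    exact hT.hom_ext _ _
  · rintro ⟨hp, ξ, hξ⟩
    exact ⟨𝒳.p.obj ξ, toOver hξ, isEquivOver_toOver hp hξ⟩

end Main

end Groth.Agent.Lib.Helper27.ReprAux
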