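import Groth.Prelude.Def_FibCat2
import Groth.Agent.Lib.Helper27.ReprAux
import Groth.Agent.Lib.Helper27.StackFp
import Groth.Agent.Lib.Helper27.DiagEquiv
import Groth.Agent.Lib.Helper27.InertiaDiag
import Mathlib.CategoryTheory.Limits.Constructions.Equalizers

/-!
# Representability of the diagonal (helper27)
-/

set_option autoImplicit false
set_option backward.isDefEq.respectTransparency false
set_option backward.isDefEq.respectTransparency.types false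

universe v₄ u₄ v₃ u₃ v₂ u₂ v u

open CategoryTheory CategoryTheory.Limits Groth.Agent.Lib.Helper27.DescentKit
  Groth.Agent.Lib.Helper16.FpFibGrpd Groth.Agent.Lib.Helper27.StackFp
  Groth.Agent.Lib.Helper27.ReprAux

namespace Groth.Agent.Lib.Helper27.ReprDiag

variable {C : Type u} [Category.{v} C]

open FibCat

section SelfOver

theorem isFibGrpd_selfOver : FibCat.IsFibGrpd (selfOver C).p := by
  constructor
  · intro x V f
    exact ⟨V, f, inferInstanceAs ((𝟭 C).IsHomLift ((𝟭 C).map f) f)⟩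
  · intro y x φ
    refine @Functor.IsStronglyCartesian.mk _ _ _ _ _ _ _ _ _ _ _ inferInstance ?_
    intro z g ψ hψ
    have h1 : g ≫ φ = ψ :=
      IsHomLift.eq_of_isHomLift (selfOver C).p (g ≫ (selfOver C).p.map φ) ψ
    refine ⟨g, ⟨inferInstanceAs ((𝟭 C).IsHomLift ((𝟭 C).map g) g), h1⟩, ?_⟩
    rintro χ' ⟨hχ', -⟩
    exact (IsHomLift.eq_of_isHomLift (selfOver C).p g χ').symm

/-- Parallel lifts of the same arrow to `C` over itself are equal. -/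
theorem selfOver_ext {A B : (selfOver C).obj} {V U : C} (h : V ⟶ U) (f g : A ⟶ B)
    (hf : (selfOver C).p.IsHomLift h f) (hg : (selfOver C).p.IsHomLift h g) : f = g := by
  have h1 := IsHomLift.fac' (selfOver C).p h f
  have h2 := IsHomLift.fac' (selfOver C).p h g
  change f = _ at h1
  change g = _ at h2
  rw [h1, h2]

end SelfOver

section Sq

variable {𝒮 : BasedCategory.{v₂, u₂} C}

/-- Morphisms of `𝒮 ×_C 𝒮` from a pair of morphisms over the same arrow. -/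
def mkHom2 {t t' : (fp (toSelf 𝒮) (toSelf 𝒮)).obj} {V U : C} (f : V ⟶ U)
    (a : t.obj.fst ⟶ t'.obj.fst) (b : t.obj.snd ⟶ t'.obj.snd)
    (ha : 𝒮.p.IsHomLift f a) (hb : 𝒮.p.IsHomLift f b) : t ⟶ t' :=
  ObjectProperty.homMk
    { fst := a
      snd := b
      w := by
        have hV : 𝒮.p.obj t.obj.fst = V := IsHomLift.domain_eq 𝒮.p f a
        have hU : 𝒮.p.obj t'.obj.fst = U := IsHomLift.codomain_eq 𝒮.p f a
        have h1 : (selfOver C).p.IsHomLift f ((toSelf 𝒮).map a) := inferInstance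
        have h2 : (selfOver C).p.IsHomLift f ((toSelf 𝒮).map b) := inferInstance
        have h3 : (selfOver C).p.IsHomLift (𝟙 U) t'.obj.iso.hom := by
          have h0 : (selfOver C).p.IsHomLift (𝟙 (𝒮.p.obj t'.obj.fst)) t'.obj.iso.hom := iso_lift t'
          exact isHomLift_id_of_eq _ hU _
        have h4 : (selfOver C).p.IsHomLift (𝟙 V) t.obj.iso.hom := by
          have h0 : (selfOver C).p.IsHomLift (𝟙 (𝒮.p.obj t.obj.fst)) t.obj.iso.hom := iso_lift t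
          exact isHomLift_id_of_eq _ hV _
        exact selfOver_ext f _ _ inferInstance inferInstance }

@[simp] theorem mkHom2_fst {t t' : (fp (toSelf 𝒮) (toSelf 𝒮)).obj} {V U : C} (f : V ⟶ U)
    (a : t.obj.fst ⟶ t'.obj.fst) (b : t.obj.snd ⟶ t'.obj.snd)
    (ha : 𝒮.p.IsHomLift f a) (hb : 𝒮.p.IsHomLift f b) : (mkHom2 f a b ha hb).hom.fst = a := rfl

@[simp] theorem mkHom2_snd {t t' : (fp (toSelf 𝒮) (toSelf 𝒮)).obj} {V U : C} (f : V ⟶ U)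
    (a : t.obj.fst ⟶ t'.obj.fst) (b : t.obj.snd ⟶ t'.obj.snd)
    (ha : 𝒮.p.IsHomLift f a) (hb : 𝒮.p.IsHomLift f b) : (mkHom2 f a b ha hb).hom.snd = b := rfl

theorem mkHom2_lift {t t' : (fp (toSelf 𝒮) (toSelf 𝒮)).obj} {V U : C} (f : V ⟶ U)
    (a : t.obj.fst ⟶ t'.obj.fst) (b : t.obj.snd ⟶ t'.obj.snd)
    (ha : 𝒮.p.IsHomLift f a) (hb : 𝒮.p.IsHomLift f b) :
    (fp (toSelf 𝒮) (toSelf 𝒮)).p.IsHomLift f (mkHom2 f a b ha hb) :=
  lift_of_fst _ f ha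

theorem isFibGrpd_sq (h𝒮 : FibCat.IsFibGrpd 𝒮.p) :
    FibCat.IsFibGrpd (fp (toSelf 𝒮) (toSelf 𝒮)).p :=
  Groth.Agent.Lib.Helper27.FpFib.isFibGrpd_fp _ _ h𝒮 h𝒮 isFibGrpd_selfOver

end Sq

section DiagObj

variable {𝒮 : BasedCategory.{v₂, u₂} C} (h𝒮 : FibCat.IsFibGrpd 𝒮.p) {W : C}
  (K : overCat W ⥤ᵇ fp (toSelf 𝒮) (toSelf 𝒮))

theorem K_fst_lift {c c' : Over W} (γ : c ⟶ c') : 𝒮.p.IsHomLift γ.left (K.map γ).hom.fst :=
  fst_lift _ _ (map_isHomLift K γ)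

theorem K_snd_lift {c c' : Over W} (γ : c ⟶ c') : 𝒮.p.IsHomLift γ.left (K.map γ).hom.snd :=
  snd_lift _ _ (map_isHomLift K γ)

theorem K_fst_obj (c : Over W) : 𝒮.p.obj (K.obj c).obj.fst = c.left := K.w_obj c

theorem K_snd_obj (c : Over W) : 𝒮.p.obj (K.obj c).obj.snd = c.left :=
  (p_snd (K.obj c)).trans (K.w_obj c)

include h𝒮 in
theorem isIso_mkHom2 (c : Over W) (s : 𝒮.obj) (κ₁ : (K.obj c).obj.fst ⟶ s)
    (κ₂ : (K.obj c).obj.snd ⟶ s) (h1 : 𝒮.p.IsHomLift (𝟙 c.left) κ₁)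
    (h2 : 𝒮.p.IsHomLift (𝟙 c.left) κ₂) :
    IsIso (mkHom2 (t := K.obj c) (t' := (diag (toSelf 𝒮)).obj s) (𝟙 c.left) κ₁ κ₂ h1 h2) := by
  haveI : IsIso κ₁ := FG.isIso h𝒮 κ₁ h1
  haveI : IsIso κ₂ := FG.isIso h𝒮 κ₂ h2
  haveI : IsIso (mkHom2 (t := K.obj c) (t' := (diag (toSelf 𝒮)).obj s)
    (𝟙 c.left) κ₁ κ₂ h1 h2).hom.fst := inferInstanceAs (IsIso κ₁)
  haveI : IsIso (mkHom2 (t := K.obj c) (t' := (diag (toSelf 𝒮)).obj s)
    (𝟙 c.left) κ₁ κ₂ h1 h2).hom.snd := inferInstanceAs (IsIso κ₂)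
  exact Groth.Agent.Lib.Helper27.InertiaDiag.isIso_of_components _

/-- Objects of the fibre product with the diagonal. -/
noncomputable def objΔ (c : Over W) (s : 𝒮.obj) (κ₁ : (K.obj c).obj.fst ⟶ s)
    (κ₂ : (K.obj c).obj.snd ⟶ s) (h1 : 𝒮.p.IsHomLift (𝟙 c.left) κ₁)
    (h2 : 𝒮.p.IsHomLift (𝟙 c.left) κ₂) : (fp K (diag (toSelf 𝒮))).obj :=
  haveI := isIso_mkHom2 h𝒮 K c s κ₁ κ₂ h1 h2
  ⟨⟨c, s, asIso (mkHom2 (t := K.obj c) (t' := (diag (toSelf 𝒮)).obj s) (𝟙 c.left) κ₁ κ₂ h1 h2)⟩,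
    mkHom2_lift (t := K.obj c) (t' := (diag (toSelf 𝒮)).obj s) (𝟙 c.left) κ₁ κ₂ h1 h2⟩

@[simp] theorem objΔ_fst (c : Over W) (s : 𝒮.obj) (κ₁ : (K.obj c).obj.fst ⟶ s)
    (κ₂ : (K.obj c).obj.snd ⟶ s) (h1 : 𝒮.p.IsHomLift (𝟙 c.left) κ₁)
    (h2 : 𝒮.p.IsHomLift (𝟙 c.left) κ₂) : (objΔ h𝒮 K c s κ₁ κ₂ h1 h2).obj.fst = c := rfl

@[simp] theorem objΔ_snd (c : Over W) (s : 𝒮.obj) (κ₁ : (K.obj c).obj.fst ⟶ s)
    (κ₂ : (K.obj c).obj.snd ⟶ s) (h1 : 𝒮.p.IsHomLift (𝟙 c.left) κ₁)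
    (h2 : 𝒮.p.IsHomLift (𝟙 c.left) κ₂) : (objΔ h𝒮 K c s κ₁ κ₂ h1 h2).obj.snd = s := rfl

theorem objΔ_iso_fst (c : Over W) (s : 𝒮.obj) (κ₁ : (K.obj c).obj.fst ⟶ s)
    (κ₂ : (K.obj c).obj.snd ⟶ s) (h1 : 𝒮.p.IsHomLift (𝟙 c.left) κ₁)
    (h2 : 𝒮.p.IsHomLift (𝟙 c.left) κ₂) :
    (objΔ h𝒮 K c s κ₁ κ₂ h1 h2).obj.iso.hom.hom.fst = κ₁ := rfl

theorem objΔ_iso_snd (c : Over W) (s : 𝒮.obj) (κ₁ : (K.obj c).obj.fst ⟶ s)
    (κ₂ : (K.obj c).obj.snd ⟶ s) (h1 : 𝒮.p.IsHomLift (𝟙 c.left) κ₁)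
    (h2 : 𝒮.p.IsHomLift (𝟙 c.left) κ₂) :
    (objΔ h𝒮 K c s κ₁ κ₂ h1 h2).obj.iso.hom.hom.snd = κ₂ := rfl

/-- The components of the structure isomorphism of an object. -/
theorem κ_lift (t : (fp K (diag (toSelf 𝒮))).obj) :
    𝒮.p.IsHomLift (𝟙 t.obj.fst.left) t.obj.iso.hom.hom.fst ∧
      𝒮.p.IsHomLift (𝟙 t.obj.fst.left) t.obj.iso.hom.hom.snd := by
  have h : (fp (toSelf 𝒮) (toSelf 𝒮)).p.IsHomLift (𝟙 t.obj.fst.left) t.obj.iso.hom := iso_lift t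
  exact ⟨fst_lift _ _ h, snd_lift _ _ h⟩

/-- Morphisms of the fibre product with the diagonal. -/
def homΔ {t t' : (fp K (diag (toSelf 𝒮))).obj} (γ : t.obj.fst ⟶ t'.obj.fst)
    (σ : t.obj.snd ⟶ t'.obj.snd)
    (w1 : (K.map γ).hom.fst ≫ t'.obj.iso.hom.hom.fst = t.obj.iso.hom.hom.fst ≫ σ)
    (w2 : (K.map γ).hom.snd ≫ t'.obj.iso.hom.hom.snd = t.obj.iso.hom.hom.snd ≫ σ) : t ⟶ t' :=
  ObjectProperty.homMk
    { fst := γ
      snd := σ
      w := by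
        apply hom_ext'
        · exact w1
        · exact w2 }

theorem homΔ_w1 {t t' : (fp K (diag (toSelf 𝒮))).obj} (Φ : t ⟶ t') :
    (K.map Φ.hom.fst).hom.fst ≫ t'.obj.iso.hom.hom.fst = t.obj.iso.hom.hom.fst ≫ Φ.hom.snd :=
  congrArg (fun Θ => Θ.hom.fst) Φ.hom.w

theorem homΔ_w2 {t t' : (fp K (diag (toSelf 𝒮))).obj} (Φ : t ⟶ t') :
    (K.map Φ.hom.fst).hom.snd ≫ t'.obj.iso.hom.hom.snd = t.obj.iso.hom.hom.snd ≫ Φ.hom.snd :=
  congrArg (fun Θ => Θ.hom.snd) Φ.hom.w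

end DiagObj

section Backward

variable {𝒮 : BasedCategory.{v₂, u₂} C} (h𝒮 : FibCat.IsFibGrpd 𝒮.p) {W : C}
  (K : overCat W ⥤ᵇ fp (toSelf 𝒮) (toSelf 𝒮))

/-- First component functor. -/
abbrev Hf : overCat W ⥤ᵇ 𝒮 := BasedFunctor.comp K (fpFst _ _)

/-- Second component functor. -/
abbrev Gf : overCat W ⥤ᵇ 𝒮 := BasedFunctor.comp K (fpSnd _ _)

theorem Hf_map {c c' : Over W} (γ : c ⟶ c') : (Hf K).map γ = (K.map γ).hom.fst := rfl

theorem Gf_map {c c' : Over W} (γ : c ⟶ c') : (Gf K).map γ = (K.map γ).hom.snd := rfl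

theorem K_map_comp_fst {c c' c'' : Over W} (γ : c ⟶ c') (γ' : c' ⟶ c'') :
    (K.map (γ ≫ γ')).hom.fst = (K.map γ).hom.fst ≫ (K.map γ').hom.fst := by
  rw [K.map_comp]; rfl

theorem K_map_comp_snd {c c' c'' : Over W} (γ : c ⟶ c') (γ' : c' ⟶ c'') :
    (K.map (γ ≫ γ')).hom.snd = (K.map γ).hom.snd ≫ (K.map γ').hom.snd := by
  rw [K.map_comp]; rfl

/-- The second leg of a morphism of a fibre product of slices, in terms of the first. -/
theorem snd_left_eq {V U : C} {H : overCat V ⥤ᵇ 𝒮} {G : overCat U ⥤ᵇ 𝒮} {t t' : (fp H G).obj}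
    (Φ : t ⟶ t') :
    Φ.hom.snd.left = eqToHom (p_snd t) ≫ Φ.hom.fst.left ≫ eqToHom (p_snd t').symm := by
  have h : (overCat U).p.IsHomLift ((fp H G).p.map Φ) Φ.hom.snd := fp_isHomLift_snd H G Φ
  have := IsHomLift.fac' (overCat U).p ((fp H G).p.map Φ) Φ.hom.snd
  exact this

end Backward

section BackwardMain

variable {𝒮 : BasedCategory.{v₂, u₂} C} (h𝒮 : FibCat.IsFibGrpd 𝒮.p) {W : C}
  (K : overCat W ⥤ᵇ fp (toSelf 𝒮) (toSelf 𝒮)) [HasEqualizers C]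

include h𝒮 in
theorem exists_term_diag (ξ : (fp (Hf K) (Gf K)).obj) (hξ : IsTerm (fp (Hf K) (Gf K)) ξ) :
    ∃ ζ : (fp K (diag (toSelf 𝒮))).obj, IsTerm (fp K (diag (toSelf 𝒮))) ζ := by
  have hb₀ : ξ.obj.snd.left = ξ.obj.fst.left := p_snd ξ
  have hcond := equalizer.condition ξ.obj.fst.hom (eqToHom hb₀.symm ≫ ξ.obj.snd.hom)
  let e := equalizer.ι ξ.obj.fst.hom (eqToHom hb₀.symm ≫ ξ.obj.snd.hom)
  let c₀ : Over W := Over.mk (e ≫ ξ.obj.fst.hom)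
  let εa : c₀ ⟶ ξ.obj.fst := Over.homMk e rfl
  let εb : c₀ ⟶ ξ.obj.snd := Over.homMk (e ≫ eqToHom hb₀.symm) (by
    change (e ≫ eqToHom hb₀.symm) ≫ ξ.obj.snd.hom = e ≫ ξ.obj.fst.hom
    rw [Category.assoc]
    exact hcond.symm)
  have hXa : 𝒮.p.IsHomLift e (K.map εa).hom.fst := K_fst_lift K εa
  have hYb : 𝒮.p.IsHomLift (e ≫ eqToHom hb₀.symm) (K.map εb).hom.snd := K_snd_lift K εb
  have hθ₀ : 𝒮.p.IsHomLift (𝟙 ξ.obj.fst.left) ξ.obj.iso.hom := iso_lift ξ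
  have hθ₀' : 𝒮.p.IsHomLift (eqToHom hb₀.symm) ξ.obj.iso.hom := by
    have : 𝒮.p.IsHomLift (𝟙 ξ.obj.fst.left ≫ eqToHom hb₀.symm) ξ.obj.iso.hom := inferInstance
    simpa using this
  have h1 : 𝒮.p.IsHomLift (e ≫ eqToHom hb₀.symm) ((K.map εa).hom.fst ≫ ξ.obj.iso.hom) :=
    inferInstance
  -- the comparison isomorphism over the equalizer
  have hlaml : 𝒮.p.IsHomLift (𝟙 c₀.left) (FG.lift h𝒮 (e ≫ eqToHom hb₀.symm) (K.map εb).hom.snd hYb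
      (𝟙 c₀.left) (Category.id_comp _).symm ((K.map εa).hom.fst ≫ ξ.obj.iso.hom) h1) :=
    FG.lift_isHomLift h𝒮 _ _ _ _ _ _ _
  have hlam : FG.lift h𝒮 (e ≫ eqToHom hb₀.symm) (K.map εb).hom.snd hYb
      (𝟙 c₀.left) (Category.id_comp _).symm ((K.map εa).hom.fst ≫ ξ.obj.iso.hom) h1 ≫
      (K.map εb).hom.snd = (K.map εa).hom.fst ≫ ξ.obj.iso.hom := FG.lift_fac h𝒮 _ _ _ _ _ _ _
  generalize FG.lift h𝒮 (e ≫ eqToHom hb₀.symm) (K.map εb).hom.snd hYb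
      (𝟙 c₀.left) (Category.id_comp _).symm ((K.map εa).hom.fst ≫ ξ.obj.iso.hom) h1 = lam
      at hlaml hlam
  haveI : IsIso lam := FG.isIso h𝒮 lam hlaml
  have hlami : 𝒮.p.IsHomLift (𝟙 c₀.left) (inv lam) := inferInstance
  refine ⟨objΔ h𝒮 K c₀ (K.obj c₀).obj.fst (𝟙 _) (inv lam) (IsHomLift.id (K_fst_obj K c₀)) hlami,
    fun t => ?_⟩
  -- components of `t`
  obtain ⟨hκ₁, hκ₂⟩ := κ_lift K t
  haveI : IsIso t.obj.iso.hom.hom.fst := FG.isIso h𝒮 _ hκ₁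
  haveI : IsIso t.obj.iso.hom.hom.snd := FG.isIso h𝒮 _ hκ₂
  have hκ₂i : 𝒮.p.IsHomLift (𝟙 t.obj.fst.left) (inv t.obj.iso.hom.hom.snd) := inferInstance
  have hθt : 𝒮.p.IsHomLift (𝟙 t.obj.fst.left)
      (t.obj.iso.hom.hom.fst ≫ inv t.obj.iso.hom.hom.snd) := inferInstance
  haveI : IsIso (t.obj.iso.hom.hom.fst ≫ inv t.obj.iso.hom.hom.snd) := inferInstance
  let t' : (fp (Hf K) (Gf K)).obj :=
    ⟨⟨t.obj.fst, t.obj.fst, asIso (t.obj.iso.hom.hom.fst ≫ inv t.obj.iso.hom.hom.snd)⟩, hθt⟩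
  -- the morphism to the terminal object
  have hΦw : (K.map (toTerm hξ t').hom.fst).hom.fst ≫ ξ.obj.iso.hom =
      (t.obj.iso.hom.hom.fst ≫ inv t.obj.iso.hom.hom.snd) ≫
        (K.map (toTerm hξ t').hom.snd).hom.snd := (toTerm hξ t').hom.w
  have hβ : (toTerm hξ t').hom.snd.left = (toTerm hξ t').hom.fst.left ≫ eqToHom hb₀.symm := by
    have := snd_left_eq (toTerm hξ t')
    rw [this]
    simp
  have hEq : (toTerm hξ t').hom.fst.left ≫ ξ.obj.fst.hom =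
      (toTerm hξ t').hom.fst.left ≫ eqToHom hb₀.symm ≫ ξ.obj.snd.hom := by
    rw [← Category.assoc, ← hβ, Over.w, Over.w]
  let γ : t.obj.fst ⟶ c₀ := Over.homMk (equalizer.lift (toTerm hξ t').hom.fst.left hEq) (by
    change equalizer.lift (toTerm hξ t').hom.fst.left hEq ≫ e ≫ ξ.obj.fst.hom = t.obj.fst.hom
    rw [← Category.assoc, equalizer.lift_ι, Over.w])
  have hγa : γ ≫ εa = (toTerm hξ t').hom.fst := by
    apply Over.OverMorphism.ext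
    change equalizer.lift (toTerm hξ t').hom.fst.left hEq ≫ e = _
    exact equalizer.lift_ι _ _
  have hγb : γ ≫ εb = (toTerm hξ t').hom.snd := by
    apply Over.OverMorphism.ext
    change equalizer.lift (toTerm hξ t').hom.fst.left hEq ≫ e ≫ eqToHom hb₀.symm = _
    rw [← Category.assoc, equalizer.lift_ι, hβ]
  have hXγ : 𝒮.p.IsHomLift γ.left (K.map γ).hom.fst := K_fst_lift K γ
  have hYγ : 𝒮.p.IsHomLift γ.left (K.map γ).hom.snd := K_snd_lift K γ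
  -- the key compatibility
  have key : (t.obj.iso.hom.hom.fst ≫ inv t.obj.iso.hom.hom.snd) ≫ (K.map γ).hom.snd =
      (K.map γ).hom.fst ≫ lam := by
    have l1 : 𝒮.p.IsHomLift γ.left ((t.obj.iso.hom.hom.fst ≫ inv t.obj.iso.hom.hom.snd) ≫
        (K.map γ).hom.snd) := inferInstance
    have l2 : 𝒮.p.IsHomLift γ.left ((K.map γ).hom.fst ≫ lam) := inferInstance
    refine FG.cancel h𝒮 (e ≫ eqToHom hb₀.symm) (K.map εb).hom.snd hYb γ.left l1 l2 ?_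
    rw [Category.assoc, ← K_map_comp_snd, hγb, ← hΦw, ← hγa, K_map_comp_fst, Category.assoc,
      Category.assoc, hlam]
  have w1 : (K.map γ).hom.fst ≫ 𝟙 _ =
      t.obj.iso.hom.hom.fst ≫ inv t.obj.iso.hom.hom.fst ≫ (K.map γ).hom.fst := by simp
  have w2 : (K.map γ).hom.snd ≫ inv lam =
      t.obj.iso.hom.hom.snd ≫ inv t.obj.iso.hom.hom.fst ≫ (K.map γ).hom.fst := by
    rw [IsIso.comp_inv_eq, Category.assoc, Category.assoc, ← key]
    simp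
  refine ⟨⟨⟨homΔ K (t' := objΔ h𝒮 K c₀ (K.obj c₀).obj.fst (𝟙 _) (inv lam)
    (IsHomLift.id (K_fst_obj K c₀)) hlami) γ (inv t.obj.iso.hom.hom.fst ≫ (K.map γ).hom.fst)
    w1 w2⟩, fun Ψ => ?_⟩⟩
  -- uniqueness
  have v1 : (K.map Ψ.hom.fst).hom.fst ≫ 𝟙 _ = t.obj.iso.hom.hom.fst ≫ Ψ.hom.snd := homΔ_w1 K Ψ
  have v2 : (K.map Ψ.hom.fst).hom.snd ≫ inv lam = t.obj.iso.hom.hom.snd ≫ Ψ.hom.snd :=
    homΔ_w2 K Ψ
  rw [Category.comp_id] at v1
  have hw'' : (K.map (Ψ.hom.fst ≫ εa)).hom.fst ≫ ξ.obj.iso.hom =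
      (t.obj.iso.hom.hom.fst ≫ inv t.obj.iso.hom.hom.snd) ≫
        (K.map (Ψ.hom.fst ≫ εb)).hom.snd := by
    rw [K_map_comp_fst, K_map_comp_snd, Category.assoc, ← hlam]
    have v2' : (K.map Ψ.hom.fst).hom.snd = t.obj.iso.hom.hom.snd ≫ Ψ.hom.snd ≫ lam := by
      rw [← Category.assoc, ← v2, Category.assoc, IsIso.inv_hom_id, Category.comp_id]
    rw [v2', v1]
    simp
  let Φ'' : t' ⟶ ξ := ObjectProperty.homMk
    { fst := Ψ.hom.fst ≫ εa, snd := Ψ.hom.fst ≫ εb, w := hw'' }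
  have hΦ'' : Φ'' = toTerm hξ t' := toTerm_uniq hξ _ _
  have hfst : Ψ.hom.fst ≫ εa = (toTerm hξ t').hom.fst := congrArg (fun Θ => Θ.hom.fst) hΦ''
  have hγ' : Ψ.hom.fst = γ := by
    apply Over.OverMorphism.ext
    have h3 : Ψ.hom.fst.left ≫ e = γ.left ≫ e := by
      have e1 : (Ψ.hom.fst ≫ εa).left = (γ ≫ εa).left := by rw [hfst, hγa]
      exact e1
    exact (cancel_mono e).1 h3
  apply hom_ext'
  · exact hγ'
  · change Ψ.hom.snd = inv t.obj.iso.hom.hom.fst ≫ (K.map γ).hom.fst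
    rw [← hγ', v1]
    simp

end BackwardMain

section ForwardSetup

variable {𝒮 : BasedCategory.{v₂, u₂} C}

/-- Composition with a morphism, as a functor over `C` between slices. -/
def overMap {X Y : C} (f : X ⟶ Y) : overCat X ⥤ᵇ overCat Y :=
  ⟨Over.map f, Over.mapForget_eq f⟩

/-- The 2-isomorphism between the composites to `C`. -/
def eIso {W : C} (A B : overCat W ⥤ᵇ 𝒮) :
    BasedFunctor.comp A (toSelf 𝒮) ≅ BasedFunctor.comp B (toSelf 𝒮) :=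
  BasedNatIso.mkNatIso
    (NatIso.ofComponents (fun c => eqToIso ((A.w_obj c).trans (B.w_obj c).symm)) (by
      intro c c' γ
      change 𝒮.p.map (A.map γ) ≫ eqToHom ((A.w_obj c').trans (B.w_obj c').symm) =
        eqToHom ((A.w_obj c).trans (B.w_obj c).symm) ≫ 𝒮.p.map (B.map γ)
      have h1 := Functor.congr_hom A.w γ
      have h2 := Functor.congr_hom B.w γ
      change 𝒮.p.map (A.map γ) = _ at h1
      change 𝒮.p.map (B.map γ) = _ at h2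
      rw [h1, h2]
      simp))
    (fun c => IsHomLift.eqToHom_domain_lift_id (p := (selfOver C).p)
      (a := 𝒮.p.obj (A.obj c)) (b := 𝒮.p.obj (B.obj c))
      ((A.w_obj c).trans (B.w_obj c).symm) (A.w_obj c))

/-- The functor to `𝒮 ×_C 𝒮` attached to two functors from a slice. -/
def pairK {W : C} (A B : overCat W ⥤ᵇ 𝒮) : overCat W ⥤ᵇ fp (toSelf 𝒮) (toSelf 𝒮) :=
  fpLift A B (eIso A B)

@[simp] theorem pairK_obj_fst {W : C} (A B : overCat W ⥤ᵇ 𝒮) (c : Over W) :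
    ((pairK A B).obj c).obj.fst = A.obj c := rfl

@[simp] theorem pairK_obj_snd {W : C} (A B : overCat W ⥤ᵇ 𝒮) (c : Over W) :
    ((pairK A B).obj c).obj.snd = B.obj c := rfl

@[simp] theorem pairK_map_fst {W : C} (A B : overCat W ⥤ᵇ 𝒮) {c c' : Over W} (γ : c ⟶ c') :
    ((pairK A B).map γ).hom.fst = A.map γ := rfl

@[simp] theorem pairK_map_snd {W : C} (A B : overCat W ⥤ᵇ 𝒮) {c c' : Over W} (γ : c ⟶ c') :
    ((pairK A B).map γ).hom.snd = B.map γ := rfl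

end ForwardSetup

section ForwardMain

variable {𝒮 : BasedCategory.{v₂, u₂} C} (h𝒮 : FibCat.IsFibGrpd 𝒮.p) [HasBinaryProducts C]
  {V U : C} (H : overCat V ⥤ᵇ 𝒮) (G : overCat U ⥤ᵇ 𝒮)

/-- The functor `C/(V × U) ⟶ 𝒮 ×_C 𝒮` attached to `H` and `G`. -/
noncomputable abbrev prodK : overCat (V ⨯ U) ⥤ᵇ fp (toSelf 𝒮) (toSelf 𝒮) :=
  pairK (BasedFunctor.comp (overMap (prod.fst : V ⨯ U ⟶ V)) H)
    (BasedFunctor.comp (overMap (prod.snd : V ⨯ U ⟶ U)) G)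

theorem prodK_map_fst {c c' : Over (V ⨯ U)} (γ : c ⟶ c') :
    ((prodK H G).map γ).hom.fst = H.map ((Over.map prod.fst).map γ) := rfl

theorem prodK_map_snd {c c' : Over (V ⨯ U)} (γ : c ⟶ c') :
    ((prodK H G).map γ).hom.snd = G.map ((Over.map prod.snd).map γ) := rfl

include h𝒮 in
theorem exists_term_fp (ζ : (fp (prodK H G) (diag (toSelf 𝒮))).obj)
    (hζ : IsTerm (fp (prodK H G) (diag (toSelf 𝒮))) ζ) :
    ∃ ξ : (fp H G).obj, IsTerm (fp H G) ξ := by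
  obtain ⟨hκ₁, hκ₂⟩ := κ_lift (prodK H G) ζ
  haveI : IsIso ζ.obj.iso.hom.hom.fst := FG.isIso h𝒮 _ hκ₁
  haveI : IsIso ζ.obj.iso.hom.hom.snd := FG.isIso h𝒮 _ hκ₂
  have hκ₂i : 𝒮.p.IsHomLift (𝟙 ζ.obj.fst.left) (inv ζ.obj.iso.hom.hom.snd) := inferInstance
  have hθ₁ : 𝒮.p.IsHomLift (𝟙 ζ.obj.fst.left)
      (ζ.obj.iso.hom.hom.fst ≫ inv ζ.obj.iso.hom.hom.snd) := inferInstance
  haveI : IsIso (ζ.obj.iso.hom.hom.fst ≫ inv ζ.obj.iso.hom.hom.snd) := inferInstance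
  let ξ : (fp H G).obj :=
    ⟨⟨(Over.map prod.fst).obj ζ.obj.fst, (Over.map prod.snd).obj ζ.obj.fst,
      asIso (ζ.obj.iso.hom.hom.fst ≫ inv ζ.obj.iso.hom.hom.snd)⟩, hθ₁⟩
  refine ⟨ξ, fun t => ?_⟩
  have hb : t.obj.snd.left = t.obj.fst.left := p_snd t
  have hθ : 𝒮.p.IsHomLift (𝟙 t.obj.fst.left) t.obj.iso.hom := iso_lift t
  haveI : IsIso t.obj.iso.hom := inferInstance
  let c : Over (V ⨯ U) := Over.mk (prod.lift t.obj.fst.hom (eqToHom hb.symm ≫ t.obj.snd.hom))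
  let ia : (Over.map prod.fst).obj c ⟶ t.obj.fst := Over.homMk (𝟙 t.obj.fst.left) (by
    change 𝟙 _ ≫ t.obj.fst.hom = prod.lift _ _ ≫ prod.fst
    simp)
  let ia' : t.obj.fst ⟶ (Over.map prod.fst).obj c := Over.homMk (𝟙 t.obj.fst.left) (by
    change 𝟙 _ ≫ prod.lift _ _ ≫ prod.fst = t.obj.fst.hom
    simp)
  let ib : (Over.map prod.snd).obj c ⟶ t.obj.snd := Over.homMk (eqToHom hb.symm) (by
    change eqToHom hb.symm ≫ t.obj.snd.hom = prod.lift _ _ ≫ prod.snd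
    simp)
  let ib' : t.obj.snd ⟶ (Over.map prod.snd).obj c := Over.homMk (eqToHom hb) (by
    change eqToHom hb ≫ prod.lift _ _ ≫ prod.snd = t.obj.snd.hom
    simp)
  have hia : ia' ≫ ia = 𝟙 _ := by
    apply Over.OverMorphism.ext
    change 𝟙 t.obj.fst.left ≫ 𝟙 t.obj.fst.left = 𝟙 _
    simp
  have hib : ib' ≫ ib = 𝟙 _ := by
    apply Over.OverMorphism.ext
    change eqToHom hb ≫ eqToHom hb.symm = 𝟙 _
    simp
  have hHia : 𝒮.p.IsHomLift (𝟙 c.left) (H.map ia) := map_isHomLift H ia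
  have hGib : 𝒮.p.IsHomLift (eqToHom hb.symm) (G.map ib) := map_isHomLift G ib
  have hθi : 𝒮.p.IsHomLift (𝟙 t.obj.fst.left) (inv t.obj.iso.hom) := inferInstance
  have hθi' : 𝒮.p.IsHomLift (eqToHom hb) (inv t.obj.iso.hom) := by
    have : 𝒮.p.IsHomLift (eqToHom hb ≫ 𝟙 t.obj.fst.left) (inv t.obj.iso.hom) := inferInstance
    simpa using this
  have hκ₂' : 𝒮.p.IsHomLift (𝟙 c.left) (G.map ib ≫ inv t.obj.iso.hom) := by
    have : 𝒮.p.IsHomLift (eqToHom hb.symm ≫ eqToHom hb) (G.map ib ≫ inv t.obj.iso.hom) :=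
      inferInstance
    have h' : 𝒮.p.IsHomLift (𝟙 t.obj.fst.left) (G.map ib ≫ inv t.obj.iso.hom) := by
      simpa using this
    exact h'
  -- the object of the fibre product with the diagonal attached to `t`
  let τ := objΔ h𝒮 (prodK H G) c (H.obj t.obj.fst) (H.map ia) (G.map ib ≫ inv t.obj.iso.hom)
    hHia hκ₂'
  have w1 : H.map ((Over.map prod.fst).map (toTerm hζ τ).hom.fst) ≫ ζ.obj.iso.hom.hom.fst =
      H.map ia ≫ (toTerm hζ τ).hom.snd := homΔ_w1 (prodK H G) (toTerm hζ τ)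
  have w2 : G.map ((Over.map prod.snd).map (toTerm hζ τ).hom.fst) ≫ ζ.obj.iso.hom.hom.snd =
      (G.map ib ≫ inv t.obj.iso.hom) ≫ (toTerm hζ τ).hom.snd :=
    homΔ_w2 (prodK H G) (toTerm hζ τ)
  have hHia' : H.map ia' ≫ H.map ia = 𝟙 _ := by rw [← H.map_comp, hia, H.map_id]
  have hGib' : G.map ib' ≫ G.map ib = 𝟙 _ := by rw [← G.map_comp, hib, G.map_id]
  have hw : H.map (ia' ≫ (Over.map prod.fst).map (toTerm hζ τ).hom.fst) ≫
      (ζ.obj.iso.hom.hom.fst ≫ inv ζ.obj.iso.hom.hom.snd) =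
      t.obj.iso.hom ≫ G.map (ib' ≫ (Over.map prod.snd).map (toTerm hζ τ).hom.fst) := by
    have e2 : G.map ((Over.map prod.snd).map (toTerm hζ τ).hom.fst) =
        ((G.map ib ≫ inv t.obj.iso.hom) ≫ (toTerm hζ τ).hom.snd) ≫
          inv ζ.obj.iso.hom.hom.snd := by
      rw [← w2, Category.assoc, IsIso.hom_inv_id, Category.comp_id]
    have L : H.map (ia' ≫ (Over.map prod.fst).map (toTerm hζ τ).hom.fst) ≫
        (ζ.obj.iso.hom.hom.fst ≫ inv ζ.obj.iso.hom.hom.snd) =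
        (toTerm hζ τ).hom.snd ≫ inv ζ.obj.iso.hom.hom.snd := by
      rw [H.map_comp, Category.assoc,
        ← Category.assoc (H.map ((Over.map prod.fst).map (toTerm hζ τ).hom.fst)), w1,
        Category.assoc, ← Category.assoc (H.map ia'), hHia', Category.id_comp]
    have Rr : t.obj.iso.hom ≫ G.map (ib' ≫ (Over.map prod.snd).map (toTerm hζ τ).hom.fst) =
        (toTerm hζ τ).hom.snd ≫ inv ζ.obj.iso.hom.hom.snd := by
      rw [G.map_comp, e2]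
      simp only [Category.assoc]
      rw [← Category.assoc (G.map ib'), hGib', Category.id_comp, IsIso.hom_inv_id_assoc]
    exact L.trans Rr.symm
  refine ⟨⟨⟨ObjectProperty.homMk
    { fst := ia' ≫ (Over.map prod.fst).map (toTerm hζ τ).hom.fst
      snd := ib' ≫ (Over.map prod.snd).map (toTerm hζ τ).hom.fst
      w := hw }⟩, fun Ψ => ?_⟩⟩
  -- uniqueness
  have wΨ : H.map Ψ.hom.fst ≫ (ζ.obj.iso.hom.hom.fst ≫ inv ζ.obj.iso.hom.hom.snd) =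
      t.obj.iso.hom ≫ G.map Ψ.hom.snd := Ψ.hom.w
  have hβ' : Ψ.hom.snd.left = eqToHom hb ≫ Ψ.hom.fst.left := by
    have := snd_left_eq Ψ
    rw [this]
    simp
  have hγ'w : Ψ.hom.fst.left ≫ ζ.obj.fst.hom =
      prod.lift t.obj.fst.hom (eqToHom hb.symm ≫ t.obj.snd.hom) := by
    apply Limits.prod.hom_ext
    · rw [Category.assoc, prod.lift_fst]
      exact Over.w Ψ.hom.fst
    · rw [Category.assoc, prod.lift_snd]
      have h1 : Ψ.hom.snd.left ≫ ζ.obj.fst.hom ≫ prod.snd = t.obj.snd.hom := Over.w Ψ.hom.snd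
      rw [hβ', Category.assoc] at h1
      rw [← h1]
      simp
  let γ' : c ⟶ ζ.obj.fst := Over.homMk Ψ.hom.fst.left hγ'w
  have e1 : ia ≫ Ψ.hom.fst = (Over.map prod.fst).map γ' := by
    apply Over.OverMorphism.ext
    change 𝟙 _ ≫ Ψ.hom.fst.left = Ψ.hom.fst.left
    simp
  have e2 : ib ≫ Ψ.hom.snd = (Over.map prod.snd).map γ' := by
    apply Over.OverMorphism.ext
    change eqToHom hb.symm ≫ Ψ.hom.snd.left = Ψ.hom.fst.left
    rw [hβ']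
    simp
  have w1' : ((prodK H G).map γ').hom.fst ≫ ζ.obj.iso.hom.hom.fst =
      τ.obj.iso.hom.hom.fst ≫ (H.map Ψ.hom.fst ≫ ζ.obj.iso.hom.hom.fst) := by
    change H.map ((Over.map prod.fst).map γ') ≫ ζ.obj.iso.hom.hom.fst =
      H.map ia ≫ (H.map Ψ.hom.fst ≫ ζ.obj.iso.hom.hom.fst)
    rw [← e1, H.map_comp, Category.assoc]
  have w2' : ((prodK H G).map γ').hom.snd ≫ ζ.obj.iso.hom.hom.snd =
      τ.obj.iso.hom.hom.snd ≫ (H.map Ψ.hom.fst ≫ ζ.obj.iso.hom.hom.fst) := by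
    change G.map ((Over.map prod.snd).map γ') ≫ ζ.obj.iso.hom.hom.snd =
      (G.map ib ≫ inv t.obj.iso.hom) ≫ (H.map Ψ.hom.fst ≫ ζ.obj.iso.hom.hom.fst)
    have e3 : inv t.obj.iso.hom ≫ H.map Ψ.hom.fst ≫ ζ.obj.iso.hom.hom.fst =
        G.map Ψ.hom.snd ≫ ζ.obj.iso.hom.hom.snd := by
      rw [IsIso.inv_comp_eq, ← Category.assoc, ← wΨ]
      simp
    rw [Category.assoc, e3, ← e2, G.map_comp, Category.assoc]
  have hΩ : homΔ (prodK H G) (t := τ) (t' := ζ) γ' (H.map Ψ.hom.fst ≫ ζ.obj.iso.hom.hom.fst)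
      w1' w2' = toTerm hζ τ := toTerm_uniq hζ _ _
  have hγ' : γ' = (toTerm hζ τ).hom.fst := congrArg (fun Θ => Θ.hom.fst) hΩ
  apply hom_ext'
  · change Ψ.hom.fst = ia' ≫ (Over.map prod.fst).map (toTerm hζ τ).hom.fst
    rw [← hγ']
    apply Over.OverMorphism.ext
    change Ψ.hom.fst.left = 𝟙 _ ≫ Ψ.hom.fst.left
    simp
  · change Ψ.hom.snd = ib' ≫ (Over.map prod.snd).map (toTerm hζ τ).hom.fst
    rw [← hγ']
    apply Over.OverMorphism.ext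
    change Ψ.hom.snd.left = eqToHom hb ≫ Ψ.hom.fst.left
    exact hβ'

end ForwardMain

section Main

theorem isRepresentable1_diag_iff [HasBinaryProducts C] [HasPullbacks C]
    {𝒮 : BasedCategory.{v, max u v} C} (h𝒮 : FibCat.IsFibGrpd 𝒮.p) :
    FibCat.IsRepresentable1 (FibCat.diag (FibCat.toSelf 𝒮)) ↔
      ∀ (U : C) (G : FibCat.overCat U ⥤ᵇ 𝒮), FibCat.IsRepresentable1 G := by
  constructor
  · intro hΔ U G V H
    have hFG : FibCat.IsFibGrpd (fp H G).p :=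
      Groth.Agent.Lib.Helper27.FpFib.isFibGrpd_fp H G (isFibGrpd_overCat V) (isFibGrpd_overCat U) h𝒮
    obtain ⟨-, ζ, hζ⟩ := (isRepresentable_iff _).1 (hΔ (V ⨯ U) (prodK H G))
    exact (isRepresentable_iff _).2 ⟨hFG, exists_term_fp h𝒮 H G ζ hζ⟩
  · intro hall W K
    haveI : HasEqualizers C := hasEqualizers_of_hasPullbacks_and_binary_products
    have hFG : FibCat.IsFibGrpd (fp K (diag (toSelf 𝒮))).p :=
      Groth.Agent.Lib.Helper27.FpFib.isFibGrpd_fp K _ (isFibGrpd_overCat W) h𝒮 (isFibGrpd_sq h𝒮)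
    obtain ⟨-, ξ, hξ⟩ := (isRepresentable_iff _).1 (hall W (Gf K) W (Hf K))
    exact (isRepresentable_iff _).2 ⟨hFG, exists_term_diag h𝒮 K ξ hξ⟩

end Main

end Groth.Agent.Lib.Helper27.ReprDiag
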