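import Groth.Agent.Lib.Helper27.RepWithGeneral
import Groth.Agent.Lib.Helper27.EquivOverAux
import Groth.Agent.Lib.Helper27.ReprDiag

/-!
# Algebraic stacks are invariant under equivalence (helper27)
-/

set_option autoImplicit false
set_option backward.isDefEq.respectTransparency false
set_option backward.isDefEq.respectTransparency.types false

universe v₅ u₅ v₄ u₄ v₃ u₃ v₂ u₂ v u

open CategoryTheory CategoryTheory.Limits FibCat AlgebraicGeometry
  Groth.Agent.Lib.Helper27.FpKit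

namespace Groth.Agent.Lib.Helper27.AlgStackEquiv

section General

variable {C : Type u} [Category.{v} C] {𝒳 : BasedCategory.{v₂, u₂} C}
  {𝒴 : BasedCategory.{v₃, u₃} C}

theorem vert_eqToHom {a b : 𝒳.obj} (h : a = b) : Vert (eqToHom h) := by
  subst h
  exact Vert.id _

variable (E : 𝒳 ⥤ᵇ 𝒴)

/-- The cospan morphism inducing `E × E`. -/
def DE : MapData (toSelf 𝒴) (toSelf 𝒴) (toSelf 𝒳) (toSelf 𝒳) E E
    (BasedFunctor.id (selfOver C)) where
  e₁ := fun x => eqToIso (E.w_obj x).symm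
  n₁ := fun {x x'} α => by
    have h := Functor.congr_hom E.w α
    change 𝒳.p.map α ≫ eqToHom (E.w_obj x').symm =
      eqToHom (E.w_obj x).symm ≫ 𝒴.p.map (E.toFunctor.map α)
    change 𝒴.p.map (E.toFunctor.map α) = _ at h
    rw [h]
    simp
  l₁ := fun x => vert_eqToHom (𝒳 := selfOver C) (E.w_obj x).symm
  e₂ := fun x => eqToIso (E.w_obj x).symm
  n₂ := fun {x x'} α => by
    have h := Functor.congr_hom E.w α
    change 𝒳.p.map α ≫ eqToHom (E.w_obj x').symm =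
      eqToHom (E.w_obj x).symm ≫ 𝒴.p.map (E.toFunctor.map α)
    change 𝒴.p.map (E.toFunctor.map α) = _ at h
    rw [h]
    simp
  l₂ := fun x => vert_eqToHom (𝒳 := selfOver C) (E.w_obj x).symm

/-- `E × E`. -/
abbrev EE : fp (toSelf 𝒳) (toSelf 𝒳) ⥤ᵇ fp (toSelf 𝒴) (toSelf 𝒴) := fpMap (DE E)

theorem EE_diag_w (x : 𝒳.obj) :
    (toSelf 𝒴).toFunctor.map (Iso.refl (E.toFunctor.obj x)).hom ≫
        ((diag (toSelf 𝒴)).toFunctor.obj (E.toFunctor.obj x)).obj.iso.hom =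
      ((EE E).toFunctor.obj ((diag (toSelf 𝒳)).toFunctor.obj x)).obj.iso.hom ≫
        (toSelf 𝒴).toFunctor.map (Iso.refl (E.toFunctor.obj x)).hom := by
  apply Groth.Agent.Lib.Helper27.ReprDiag.selfOver_ext (𝟙 _)
  · exact (((Vert.id (E.toFunctor.obj x)).map (toSelf 𝒴)).comp (vert_iso _)).lift rfl
  · exact ((vert_iso ((EE E).toFunctor.obj ((diag (toSelf 𝒳)).toFunctor.obj x))).comp
      ((Vert.id (E.toFunctor.obj x)).map (toSelf 𝒴))).lift rfl

/-- The square of diagonals commutes. -/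
def diagSq : BasedFunctor.comp (diag (toSelf 𝒳)) (EE E) ≅ BasedFunctor.comp E (diag (toSelf 𝒴)) :=
  BasedNatIso.mkNatIso (NatIso.ofComponents
    (fun x => (mkIso (t := (EE E).toFunctor.obj ((diag (toSelf 𝒳)).toFunctor.obj x))
      (t' := (diag (toSelf 𝒴)).toFunctor.obj (E.toFunctor.obj x)) (Iso.refl _) (Iso.refl _)
      (EE_diag_w E x)))
    (fun {x x'} α => by
      apply Groth.Agent.Lib.Helper27.StackFp.hom_ext'
      · exact (Category.comp_id _).trans (Category.id_comp _).symm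
      · exact (Category.comp_id _).trans (Category.id_comp _).symm))
    (fun x => by
      have hv : Vert (mkIso (t := (EE E).toFunctor.obj ((diag (toSelf 𝒳)).toFunctor.obj x))
          (t' := (diag (toSelf 𝒴)).toFunctor.obj (E.toFunctor.obj x)) (Iso.refl _) (Iso.refl _)
          (EE_diag_w E x)).hom := by
        rw [vert_hom_iff]
        exact Vert.id _
      exact hv.lift (E.w_obj x))

end General

section Main

variable {S : Scheme.{u}} {𝒳 : BasedCategory.{v₂, u₂} (Over S)}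
  {𝒴 : BasedCategory.{v₃, u₃} (Over S)}

theorem repByAlgSp1_iff {𝒜 : BasedCategory.{v₄, u₄} (Over S)} {ℬ : BasedCategory.{v₅, u₅} (Over S)}
    (f : 𝒜 ⥤ᵇ ℬ) :
    AlgSt.RepByAlgSp1 f ↔ AlgSt.RepByAlgSpWith (⊤ : MorphismProperty (AlgSp.Sp S)) f := by
  constructor
  · intro h U y
    obtain ⟨F, e, he⟩ := h U y
    exact ⟨F, e, he, trivial⟩
  · intro h U y
    obtain ⟨F, e, he, -⟩ := h U y
    exact ⟨F, e, he⟩

theorem hasAtlas_of_equiv (P : MorphismProperty (AlgSp.Sp S)) (E : 𝒳 ⥤ᵇ 𝒴) (hE : IsEquivOver E)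
    (h : AlgSt.HasAtlas P 𝒳) : AlgSt.HasAtlas P 𝒴 := by
  obtain ⟨U, x, h1, h2⟩ := h
  have e : BasedFunctor.comp x E ≅ BasedFunctor.comp (BasedFunctor.id _) (BasedFunctor.comp x E) :=
    Iso.refl _
  exact ⟨U, BasedFunctor.comp x E,
    Groth.Agent.Lib.Helper27.RepWithGeneral.repByAlgSpWith_of_equiv' P _ x (BasedFunctor.id _) E
      (isEquivOver_id _) hE e h1,
    Groth.Agent.Lib.Helper27.RepWithGeneral.repByAlgSpWith_of_equiv' _ _ x (BasedFunctor.id _) E
      (isEquivOver_id _) hE e h2⟩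

theorem isAlgStack_of_equiv (K : Precoverage Scheme.{u}) (E : 𝒳 ⥤ᵇ 𝒴) (hE : IsEquivOver E)
    (h : AlgSt.IsAlgStack K 𝒳) : AlgSt.IsAlgStack K 𝒴 := by
  refine ⟨(Groth.Agent.Lib.Helper27.EquivOverAux.isStack_iff _ E hE).1 h.isStack, ?_,
    hasAtlas_of_equiv _ E hE h.atlas⟩
  rw [repByAlgSp1_iff]
  exact Groth.Agent.Lib.Helper27.RepWithGeneral.repByAlgSpWith_of_equiv' _ _
    (diag (toSelf 𝒳)) E (EE E) hE (isEquivOver_fpMap (DE E) hE hE (isEquivOver_id _))
    (diagSq E) ((repByAlgSp1_iff _).1 h.diag)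

theorem isDM_of_equiv (K : Precoverage Scheme.{u}) (E : 𝒳 ⥤ᵇ 𝒴) (hE : IsEquivOver E)
    (h : AlgSt.IsDM K 𝒳) : AlgSt.IsDM K 𝒴 :=
  ⟨isAlgStack_of_equiv K E hE h.1, hasAtlas_of_equiv _ E hE h.2⟩

end Main

end Groth.Agent.Lib.Helper27.AlgStackEquiv
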