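import Groth.Agent.Lib.Helper27.RepWithGeneral

/-!
# The comparison of fibre products over `𝒵` and over `𝒯` is a base change of the diagonal (helper27)
-/

set_option autoImplicit false
set_option backward.isDefEq.respectTransparency false
set_option backward.isDefEq.respectTransparency.types false

universe v₅ u₅ v₄ u₄ v₃ u₃ v₂ u₂ u

open CategoryTheory CategoryTheory.Limits FibCat AlgebraicGeometry
  Groth.Agent.Lib.Helper27.FpKit Groth.Agent.Lib.Helper27.GraphDiag

namespace Groth.Agent.Lib.Helper27.CompareDiag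

variable {S : Scheme.{u}} {𝒳 : BasedCategory.{v₂, u₂} (Over S)}
  {𝒴 : BasedCategory.{v₃, u₃} (Over S)} {𝒵 : BasedCategory.{v₄, u₄} (Over S)}
  {𝒯 : BasedCategory.{v₅, u₅} (Over S)}
  (f : 𝒳 ⥤ᵇ 𝒵) (g : 𝒴 ⥤ᵇ 𝒵) (t : 𝒵 ⥤ᵇ 𝒯)
  (e : BasedFunctor.comp (FibCat.fpFst f g) (BasedFunctor.comp f t) ≅
    BasedFunctor.comp (FibCat.fpSnd f g) (BasedFunctor.comp g t))
  (he : ∀ x, e.hom.toNatTrans.app x = t.map x.obj.iso.hom)

/-- The comparison functor. -/
abbrev cmp : fp f g ⥤ᵇ fp (BasedFunctor.comp f t) (BasedFunctor.comp g t) :=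
  FibCat.fpLift (FibCat.fpFst f g) (FibCat.fpSnd f g) e

theorem cmp_iso_hom (x : (fp f g).obj) :
    ((cmp f g t e).toFunctor.obj x).obj.iso.hom = e.hom.toNatTrans.app x := rfl

include he in
theorem comp_w (w : (fp (P g t f) (diag t)).obj) :
    (BasedFunctor.comp f t).toFunctor.map (Iso.refl w.obj.fst.obj.fst).hom ≫
        ((cmp f g t e).toFunctor.obj ((K g t f).toFunctor.obj w)).obj.iso.hom =
      w.obj.fst.obj.iso.hom ≫
        (BasedFunctor.comp g t).toFunctor.map (Iso.refl w.obj.fst.obj.snd).hom := by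
  rw [cmp_iso_hom, he, ψ_eq g t f w]
  have h1 : ∀ {A B : 𝒯.obj} (a b : A ⟶ B) (i : A ⟶ A) (j : B ⟶ B), i = 𝟙 _ → j = 𝟙 _ → a = b →
      i ≫ a = b ≫ j := by
    intro A B a b i j hi hj hab
    rw [hi, hj, hab, Category.id_comp, Category.comp_id]
  refine h1 _ _ _ _ ((BasedFunctor.comp f t).toFunctor.map_id _)
    ((BasedFunctor.comp g t).toFunctor.map_id _) ?_
  change t.toFunctor.map ((KObj g t f w).obj.iso.hom) = _
  rw [KObj_iso_hom, t.toFunctor.map_comp]

/-- `fpFst ≅ K ≫ cmp`. -/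
def compIso (w : (fp (P g t f) (diag t)).obj) :
    (fpFst (P g t f) (diag t)).toFunctor.obj w ≅
      (cmp f g t e).toFunctor.obj ((K g t f).toFunctor.obj w) :=
  mkIso (t := w.obj.fst) (t' := (cmp f g t e).toFunctor.obj ((K g t f).toFunctor.obj w))
    (Iso.refl _) (Iso.refl _) (comp_w f g t e he w)

include he in
theorem repByAlgSpWith_cmp (Q : MorphismProperty (AlgSp.Sp S))
    (h : AlgSt.RepByAlgSpWith Q (FibCat.diag t)) : AlgSt.RepByAlgSpWith Q (cmp f g t e) := by
  have h1 := Groth.Agent.Lib.Helper27.RepWithGeneral.repByAlgSpWith_fpFst Q (FibCat.diag t)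
    (P g t f) h
  refine Groth.Agent.Lib.Helper27.RepWithGeneral.repByAlgSpWith_of_equiv' Q (cmp f g t e)
    (fpFst (P g t f) (diag t)) (K g t f) (BasedFunctor.id _) (isEquivOver_K g t f)
    (isEquivOver_id _) ?_ h1
  refine BasedNatIso.mkNatIso (NatIso.ofComponents (fun w => compIso f g t e he w) ?_) ?_
  · intro w w' m
    apply Groth.Agent.Lib.Helper27.StackFp.hom_ext'
    · exact (Category.comp_id _).trans (Category.id_comp _).symm
    · exact (Category.comp_id _).trans (Category.id_comp _).symm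
  · intro w
    have hv : Vert (compIso f g t e he w).hom := by
      rw [vert_hom_iff]
      exact Vert.id _
    exact hv.lift rfl

end Groth.Agent.Lib.Helper27.CompareDiag
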