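import Groth.Agent.Lib.Helper27.RepWithComp2
import Groth.Agent.Lib.Helper27.CompareDiag
import Groth.Agent.Lib.Helper27.FpFib

/-!
# The diagonal of a composite (helper27)
-/

set_option autoImplicit false
set_option backward.isDefEq.respectTransparency false
set_option backward.isDefEq.respectTransparency.types false

universe u

open CategoryTheory CategoryTheory.Limits AlgebraicGeometry Opposite FibCat
  Groth.Agent.Lib.Helper27.FpKit Groth.Agent.Lib.Helper27.GraphDiag
  Groth.Agent.Lib.Helper27.CompareDiag Groth.Agent.Lib.Helper27.RepWithComp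

namespace Groth.Agent.Lib.Helper27.DiagComp

variable {S : Scheme.{u}} {𝒳 𝒴 𝒵 : AlgSt.Cat S} (f : 𝒳 ⥤ᵇ 𝒴) (g : 𝒴 ⥤ᵇ 𝒵)

/-- The canonical 2-isomorphism of `𝒳 ×_𝒴 𝒳` pushed to `𝒵`. -/
def e₀ : BasedFunctor.comp (fpFst f f) (BasedFunctor.comp f g) ≅
    BasedFunctor.comp (fpSnd f f) (BasedFunctor.comp f g) :=
  BasedNatIso.mkNatIso
    (NatIso.ofComponents (fun x => g.toFunctor.mapIso x.obj.iso) (fun {x x'} m => by
      change g.toFunctor.map (f.toFunctor.map m.hom.fst) ≫ g.toFunctor.map x'.obj.iso.hom =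
        g.toFunctor.map x.obj.iso.hom ≫ g.toFunctor.map (f.toFunctor.map m.hom.snd)
      rw [← g.toFunctor.map_comp, ← g.toFunctor.map_comp, hom_w m]))
    (fun x => ((vert_iso x).map g).lift ((BasedFunctor.comp f g).w_obj x.obj.fst))

theorem he₀ (x : (fp f f).obj) : (e₀ f g).hom.toNatTrans.app x = g.map x.obj.iso.hom := rfl

/-- The comparison of the two diagonals, objectwise. -/
def θ (x : 𝒳.obj) : (diag (BasedFunctor.comp f g)).toFunctor.obj x ≅
    (cmp f f g (e₀ f g)).toFunctor.obj ((diag f).toFunctor.obj x) :=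
  mkIso (t := (diag (BasedFunctor.comp f g)).toFunctor.obj x)
    (t' := (cmp f f g (e₀ f g)).toFunctor.obj ((diag f).toFunctor.obj x))
    (Iso.refl _) (Iso.refl _) (by
      rw [cmp_iso_hom, he₀, diag_iso_hom, diag_iso_hom]
      have h1 : ∀ {A : 𝒵.obj} (i j k : A ⟶ A), i = 𝟙 _ → j = 𝟙 _ → k = 𝟙 _ →
          i ≫ j = 𝟙 _ ≫ k := by
        intro A i j k hi hj hk
        rw [hi, hj, hk]
      exact h1 _ _ _ (CategoryTheory.Functor.map_id _ _) (CategoryTheory.Functor.map_id _ _)
        (CategoryTheory.Functor.map_id _ _))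

theorem θ_vert (x : 𝒳.obj) : Vert (θ f g x).hom := by
  rw [vert_hom_iff]
  exact Vert.id _

/-- The diagonal of a composite is the diagonal of the first functor followed by the comparison
functor. -/
def diagIso : BasedFunctor.comp (diag (BasedFunctor.comp f g)) (BasedFunctor.id _) ≅
    BasedFunctor.comp (BasedFunctor.id 𝒳) (BasedFunctor.comp (diag f) (cmp f f g (e₀ f g))) :=
  BasedNatIso.mkNatIso
    (NatIso.ofComponents (fun x => θ f g x) (fun {x x'} m => by
      apply Groth.Agent.Lib.Helper27.StackFp.hom_ext'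
      · exact (Category.comp_id _).trans (Category.id_comp _).symm
      · exact (Category.comp_id _).trans (Category.id_comp _).symm))
    (fun x => (θ_vert f g x).lift rfl)

/-- The diagonal of a composite has a property satisfying the composition hypotheses as soon as
the two diagonals do. -/
theorem repByAlgSpWith_diag_comp (P : MorphismProperty (AlgSp.Sp S)) (H : CompHyp P)
    (h𝒳 : FibCat.IsFibGrpd 𝒳.p) (h𝒴 : FibCat.IsFibGrpd 𝒴.p)
    (hf : AlgSt.RepByAlgSpWith P (diag f)) (hg : AlgSt.RepByAlgSpWith P (diag g)) :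
    AlgSt.RepByAlgSpWith P (diag (BasedFunctor.comp f g)) := by
  have h1 : AlgSt.RepByAlgSpWith P (cmp f f g (e₀ f g)) :=
    repByAlgSpWith_cmp f f g (e₀ f g) (he₀ f g) P hg
  have h2 : AlgSt.RepByAlgSpWith P (BasedFunctor.comp (diag f) (cmp f f g (e₀ f g))) :=
    comp_gen P H h𝒳 (Groth.Agent.Lib.Helper27.FpFib.isFibGrpd_fp f f h𝒳 h𝒳 h𝒴) (diag f)
      (cmp f f g (e₀ f g)) hf h1
  exact Groth.Agent.Lib.Helper27.RepWithGeneral.repByAlgSpWith_of_equiv P
    (BasedFunctor.comp (diag f) (cmp f f g (e₀ f g))) (diag (BasedFunctor.comp f g))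
    (BasedFunctor.id _) (BasedFunctor.id _) (isEquivOver_id _) (isEquivOver_id _)
    (diagIso f g) h2

end Groth.Agent.Lib.Helper27.DiagComp
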