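import Groth.Agent.Lib.Helper27.RepWithGeneral

/-!
# Symmetry of the 2-fibre product (helper27)
-/

set_option autoImplicit false
set_option backward.isDefEq.respectTransparency false
set_option backward.isDefEq.respectTransparency.types false

universe v₅ u₅ v₄ u₄ v₃ u₃ v₂ u₂ v u

open CategoryTheory CategoryTheory.Limits FibCat AlgebraicGeometry
  Groth.Agent.Lib.Helper27.FpKit

namespace Groth.Agent.Lib.Helper27.FpSwap

section General

variable {C : Type u} [Category.{v} C] {𝒳 : BasedCategory.{v₂, u₂} C}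
  {𝒴 : BasedCategory.{v₃, u₃} C} {𝒮 : BasedCategory.{v₄, u₄} C} (F : 𝒳 ⥤ᵇ 𝒮) (G : 𝒴 ⥤ᵇ 𝒮)

/-- Object part of the symmetry. -/
def swapObj (t : (fp F G).obj) : (fp G F).obj :=
  mkObj (F := G) (G := F) t.obj.snd t.obj.fst t.obj.iso.symm (Vert.inv (vert_iso t))

theorem swapObj_iso_hom (t : (fp F G).obj) : (swapObj F G t).obj.iso.hom = t.obj.iso.inv := rfl

theorem swap_w {t t' : (fp F G).obj} (Θ : t ⟶ t') :
    G.toFunctor.map Θ.hom.snd ≫ (swapObj F G t').obj.iso.hom =
      (swapObj F G t).obj.iso.hom ≫ F.toFunctor.map Θ.hom.fst := by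
  rw [swapObj_iso_hom, swapObj_iso_hom, Iso.comp_inv_eq, Category.assoc, hom_w Θ,
    Iso.inv_hom_id_assoc]

/-- The symmetry of the 2-fibre product. -/
def swap : fp F G ⥤ᵇ fp G F where
  toFunctor :=
    { obj := swapObj F G
      map := fun {t t'} Θ =>
        mkHom (t := swapObj F G t) (t' := swapObj F G t') Θ.hom.snd Θ.hom.fst (swap_w F G Θ)
      map_id := fun t => by
        apply Groth.Agent.Lib.Helper27.StackFp.hom_ext'
        · rfl
        · rfl
      map_comp := fun {t t' t''} Φ Ψ => by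
        apply Groth.Agent.Lib.Helper27.StackFp.hom_ext'
        · rfl
        · rfl }
  w := (fpSnd F G).w

theorem swap_faithful : (swap F G).toFunctor.Faithful := by
  constructor
  intro t t' Θ Θ' h
  have h1 : Θ.hom.snd = Θ'.hom.snd := congrArg (fun Ξ => Ξ.hom.fst) h
  have h2 : Θ.hom.fst = Θ'.hom.fst := congrArg (fun Ξ => Ξ.hom.snd) h
  exact Groth.Agent.Lib.Helper27.StackFp.hom_ext' h2 h1

theorem swap_full : (swap F G).toFunctor.Full := by
  constructor
  intro t t' Ξ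
  have hΞ : G.toFunctor.map Ξ.hom.fst ≫ t'.obj.iso.inv =
      t.obj.iso.inv ≫ F.toFunctor.map Ξ.hom.snd := hom_w Ξ
  have hw : F.toFunctor.map Ξ.hom.snd ≫ t'.obj.iso.hom =
      t.obj.iso.hom ≫ G.toFunctor.map Ξ.hom.fst := by
    rw [← Iso.inv_comp_eq, ← Category.assoc, ← hΞ, Category.assoc, Iso.inv_hom_id,
      Category.comp_id]
  refine ⟨mkHom Ξ.hom.snd Ξ.hom.fst hw, ?_⟩
  apply Groth.Agent.Lib.Helper27.StackFp.hom_ext'
  · rfl
  · rfl

theorem swap_ess (r : (fp G F).obj) :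
    ∃ (t : (fp F G).obj) (e : (swap F G).toFunctor.obj t ≅ r), Vert e.hom := by
  have hw : G.toFunctor.map (Iso.refl r.obj.fst).hom ≫ r.obj.iso.hom =
      (swapObj F G (swapObj G F r)).obj.iso.hom ≫ F.toFunctor.map (Iso.refl r.obj.snd).hom := by
    rw [swapObj_iso_hom]
    change G.toFunctor.map (𝟙 _) ≫ r.obj.iso.hom = r.obj.iso.hom ≫ F.toFunctor.map (𝟙 _)
    rw [G.toFunctor.map_id, F.toFunctor.map_id, Category.id_comp, Category.comp_id]
  refine ⟨swapObj G F r, mkIso (t := swapObj F G (swapObj G F r)) (t' := r) (Iso.refl _)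
    (Iso.refl _) hw, ?_⟩
  rw [vert_hom_iff]
  exact Vert.id _

theorem isEquivOver_swap : IsEquivOver (swap F G) :=
  isEquivOver_of_ess _ (swap_full F G) (swap_faithful F G) (swap_ess F G)

end General

section RepWith

variable {S : Scheme.{u}} {𝒳 : BasedCategory.{v₂, u₂} (Over S)}
  {𝒴 : BasedCategory.{v₃, u₃} (Over S)} {𝒵 : BasedCategory.{v₄, u₄} (Over S)}

theorem repByAlgSpWith_fpSnd (P : MorphismProperty (AlgSp.Sp S)) (f : 𝒳 ⥤ᵇ 𝒴) (z : 𝒵 ⥤ᵇ 𝒴)
    (hz : AlgSt.RepByAlgSpWith P z) : AlgSt.RepByAlgSpWith P (FibCat.fpSnd z f) := by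
  have h1 := Groth.Agent.Lib.Helper27.RepWithGeneral.repByAlgSpWith_fpFst P z f hz
  refine Groth.Agent.Lib.Helper27.RepWithGeneral.repByAlgSpWith_of_equiv P (FibCat.fpFst f z)
    (FibCat.fpSnd z f) (swap z f) (BasedFunctor.id 𝒳) (isEquivOver_swap z f)
    (isEquivOver_id _) ?_ h1
  exact BasedNatIso.mkNatIso (NatIso.ofComponents (fun t => Iso.refl _)
    (fun α => (Category.comp_id _).trans (Category.id_comp _).symm))
    (fun t => (Vert.id _).lift ((fpSnd z f).w_obj t))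

end RepWith

end Groth.Agent.Lib.Helper27.FpSwap
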