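import Groth.Agent.Lib.Helper27.DiagRep2
import Groth.Agent.Lib.Helper27.DiagComp
import Groth.Agent.Lib.Helper27.FpSwap
import Groth.Agent.S9936
import Groth.Agent.S10536
import Groth.Agent.S10519
import Groth.Agent.S10520

/-!
# Cancellation for functors representable by algebraic spaces with a property (helper27)
-/

set_option autoImplicit false
set_option backward.isDefEq.respectTransparency false
set_option backward.isDefEq.respectTransparency.types false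

universe u

open CategoryTheory CategoryTheory.Limits AlgebraicGeometry Opposite FibCat
  Groth.Agent.Lib.Helper27.FpKit Groth.Agent.Lib.Helper27.RepWithComp
  Groth.Agent.Lib.Helper27.CompareDiag Groth.Agent.Lib.Helper27.DiagComp
  Groth.Agent.Lib.Helper27.DiagRep

namespace Groth.Agent.Lib.Helper27.DiagCancel

variable {S : Scheme.{u}}

section Cancel

variable {𝒳 𝒴 𝒵 : AlgSt.Cat S}

/-- If `g ∘ f` and the diagonal of `g` have `P` then `f` has `P` (graph factorisation). -/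
theorem repByAlgSpWith_of_comp (P : MorphismProperty (AlgSp.Sp S)) (H : CompHyp P)
    (h𝒳 : FibCat.IsFibGrpd 𝒳.p) (h𝒴 : FibCat.IsFibGrpd 𝒴.p) (h𝒵 : FibCat.IsFibGrpd 𝒵.p)
    (f : 𝒳 ⥤ᵇ 𝒴) (g : 𝒴 ⥤ᵇ 𝒵) (hgf : AlgSt.RepByAlgSpWith P (BasedFunctor.comp f g))
    (hΔ : AlgSt.RepByAlgSpWith P (diag g)) : AlgSt.RepByAlgSpWith P f := by
  let e : BasedFunctor.comp (BasedFunctor.id 𝒳) (BasedFunctor.comp f g) ≅ BasedFunctor.comp f g :=
    Iso.refl _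
  have h1 := Groth.Agent.Lib.Helper27.RepWithGeneral.repByAlgSpWith_graph P
    (BasedFunctor.comp f g) g f e hΔ
  have h2 := Groth.Agent.Lib.Helper27.FpSwap.repByAlgSpWith_fpSnd P g (BasedFunctor.comp f g) hgf
  exact comp_gen P H h𝒳
    (Groth.Agent.Lib.Helper27.FpFib.isFibGrpd_fp (BasedFunctor.comp f g) g h𝒳 h𝒴 h𝒵)
    (FibCat.fpLift (BasedFunctor.id 𝒳) f e) (FibCat.fpSnd (BasedFunctor.comp f g) g) h1 h2

end Cancel

section Hyps

theorem compHyp_isProperMor : CompHyp (AlgSp.IsProperMor (S := S)) :=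
  compHyp_of_fppf _ (fun _ _ _ hX hY hZ _ _ ha hb =>
      Groth.Agent.Lib.Helper3.isProperMor_comp hX hY hZ ha hb)
    (isLocalOnBase_fppf_of_fpqc _ (Groth.Agent.S10536.result S))

theorem compHyp_qcqs :
    CompHyp (AlgSp.IsQuasiCompactMor (S := S) ⊓ AlgSp.IsQuasiSeparatedMor (S := S)) := by
  refine compHyp_of_fppf _ ?_ (isLocalOnBase_fppf_of_fpqc _ ?_)
  · intro X Y Z hX hY hZ a b ha hb
    refine ⟨Groth.Agent.Lib.Helper3.isQuasiCompactMor_comp hY hZ.diag ha.1 hb.1, ?_⟩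
    have h1 : (AlgSp.RepWith (S := S) @QuasiCompact).diagonal a := ha.2
    have h2 : (AlgSp.RepWith (S := S) @QuasiCompact).diagonal b := hb.2
    exact MorphismProperty.comp_mem (AlgSp.RepWith (S := S) @QuasiCompact).diagonal a b h1 h2
  · intro ι Y Yi g hY hYi hcov X f hX Xi p q hXi sq
    have h1 := Groth.Agent.S10519.result S Yi g hY hYi hcov f hX Xi p q hXi sq
    have h2 := Groth.Agent.S10520.result S Yi g hY hYi hcov f hX Xi p q hXi sq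
    constructor
    · intro h i
      exact ⟨h1.1 h.1 i, h2.1 h.2 i⟩
    · intro h
      exact ⟨h1.2 fun i => (h i).1, h2.2 fun i => (h i).2⟩

end Hyps

section Diag

variable {𝒳 𝒴 𝒵 : AlgSt.Cat S} (f : 𝒳 ⥤ᵇ 𝒴) (g : 𝒴 ⥤ᵇ 𝒵)

/-- If the diagonal of `g ∘ f` has `P` and the second diagonal of the comparison functor has `P`,
then the diagonal of `f` has `P`. -/
theorem repByAlgSpWith_diag_of_comp (P : MorphismProperty (AlgSp.Sp S)) (H : CompHyp P)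
    (h𝒳 : FibCat.IsFibGrpd 𝒳.p) (h𝒴 : FibCat.IsFibGrpd 𝒴.p) (h𝒵 : FibCat.IsFibGrpd 𝒵.p)
    (hgf : AlgSt.RepByAlgSpWith P (diag (BasedFunctor.comp f g)))
    (hΔ : AlgSt.RepByAlgSpWith P (diag (cmp f f g (e₀ f g)))) :
    AlgSt.RepByAlgSpWith P (diag f) := by
  have h1 : AlgSt.RepByAlgSpWith P (BasedFunctor.comp (diag f) (cmp f f g (e₀ f g))) :=
    Groth.Agent.Lib.Helper27.RepWithGeneral.repByAlgSpWith_of_equiv' P
      (BasedFunctor.comp (diag f) (cmp f f g (e₀ f g))) (diag (BasedFunctor.comp f g))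
      (BasedFunctor.id _) (BasedFunctor.id _) (isEquivOver_id _) (isEquivOver_id _)
      (diagIso f g) hgf
  exact repByAlgSpWith_of_comp P H h𝒳
    (Groth.Agent.Lib.Helper27.FpFib.isFibGrpd_fp f f h𝒳 h𝒳 h𝒴)
    (Groth.Agent.Lib.Helper27.FpFib.isFibGrpd_fp (BasedFunctor.comp f g) (BasedFunctor.comp f g)
      h𝒳 h𝒳 h𝒵)
    (diag f) (cmp f f g (e₀ f g)) h1 hΔ

/-- Separatedness of `f` from that of `g ∘ f` when the diagonal of `g` is separated. -/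
theorem isSeparatedMor_of_comp
    (h𝒳 : FibCat.IsFibGrpd 𝒳.p) (h𝒴 : FibCat.IsFibGrpd 𝒴.p) (h𝒵 : FibCat.IsFibGrpd 𝒵.p)
    (hgf : AlgSt.IsSeparatedMor (BasedFunctor.comp f g))
    (hΔg : AlgSt.RepByAlgSpWith AlgSp.IsSeparatedMor (diag g)) : AlgSt.IsSeparatedMor f := by
  have h2 : AlgSt.RepByAlgSpWith AlgSp.IsSeparatedMor (cmp f f g (e₀ f g)) :=
    repByAlgSpWith_cmp f f g (e₀ f g) (he₀ f g) _ hΔg
  have h3 : AlgSt.RepByAlgSpWith AlgSp.IsProperMor (diag (cmp f f g (e₀ f g))) := by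
    refine repByAlgSpWith_diag (cmp f f g (e₀ f g)) AlgSp.IsSeparatedMor _ h2 ?_
    intro F U π τ₁ τ₂ hπ _ hs
    have h4 : AlgSp.RepWith @IsClosedImmersion τ₂ :=
      Groth.Agent.S9902.repWith_section @IsClosedImmersion π τ₂ hs hπ
    have h5 : AlgSp.RepWith @IsClosedImmersion (pullback.snd τ₂ τ₁) :=
      MorphismProperty.of_isPullback (IsPullback.of_hasPullback τ₂ τ₁) h4
    exact Groth.Agent.Lib.Helper3.isProperMor_of_repWith_isClosedImmersion _ h5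
  exact repByAlgSpWith_diag_of_comp f g _ compHyp_isProperMor h𝒳 h𝒴 h𝒵 hgf h3

/-- Quasi-separatedness of `f` from that of `g ∘ f` when the diagonal of `g` is
quasi-separated. -/
theorem isQuasiSeparatedMor_of_comp
    (h𝒳 : FibCat.IsFibGrpd 𝒳.p) (h𝒴 : FibCat.IsFibGrpd 𝒴.p) (h𝒵 : FibCat.IsFibGrpd 𝒵.p)
    (hgf : AlgSt.IsQuasiSeparatedMor (BasedFunctor.comp f g))
    (hΔg : AlgSt.RepByAlgSpWith AlgSp.IsQuasiSeparatedMor (diag g)) :
    AlgSt.IsQuasiSeparatedMor f := by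
  have h2 : AlgSt.RepByAlgSpWith AlgSp.IsQuasiSeparatedMor (cmp f f g (e₀ f g)) :=
    repByAlgSpWith_cmp f f g (e₀ f g) (he₀ f g) _ hΔg
  have h3 : AlgSt.RepByAlgSpWith (AlgSp.IsQuasiCompactMor ⊓ AlgSp.IsQuasiSeparatedMor)
      (diag (cmp f f g (e₀ f g))) := by
    refine repByAlgSpWith_diag (cmp f f g (e₀ f g)) AlgSp.IsQuasiSeparatedMor _ h2 ?_
    intro F U π τ₁ τ₂ hπ _ hs
    have h4 : AlgSp.RepWith @QuasiCompact τ₂ :=
      Groth.Agent.S9902.repWith_section @QuasiCompact π τ₂ hs hπ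
    have h5 : AlgSp.RepWith @QuasiCompact (pullback.snd τ₂ τ₁) :=
      MorphismProperty.of_isPullback (IsPullback.of_hasPullback τ₂ τ₁) h4
    have hm := mono_snd π τ₁ τ₂ hs
    refine ⟨Groth.Agent.S9936.isQuasiCompactMor_of_repWith @QuasiCompact (fun k hk hB => ?_) _ h5,
      ?_⟩
    · have : QuasiCompact k := hk
      exact QuasiCompact.compactSpace_of_compactSpace k
    · have : IsIso (pullback.diagonal (pullback.snd τ₂ τ₁)) := inferInstance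
      exact Groth.Agent.S9937.repWith_of_isIso @QuasiCompact (fun k _ => inferInstance) _
  exact repByAlgSpWith_diag_of_comp f g _ compHyp_qcqs h𝒳 h𝒴 h𝒵 hgf h3

end Diag

end Groth.Agent.Lib.Helper27.DiagCancel

namespace Groth.Agent.Lib.Helper27.DiagCancel

open CategoryTheory CategoryTheory.Limits AlgebraicGeometry Opposite FibCat
  Groth.Agent.Lib.Helper27.FpKit Groth.Agent.Lib.Helper27.RepWithComp
  Groth.Agent.Lib.Helper27.CompareDiag Groth.Agent.Lib.Helper27.DiagComp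
  Groth.Agent.Lib.Helper27.DiagRep

universe u₁

variable {S : Scheme.{u₁}}

section Lemma33

variable {𝒴 𝒵 : AlgSt.Cat S}

theorem basedFunctor_ext {𝒜 ℬ : AlgSt.Cat S} (F G : 𝒜 ⥤ᵇ ℬ) (h : F.toFunctor = G.toFunctor) :
    F = G := by
  obtain ⟨F, wF⟩ := F
  obtain ⟨G, wG⟩ := G
  have h' : F = G := h
  subst h'
  rfl

theorem comp_toSelf (g : 𝒴 ⥤ᵇ 𝒵) : BasedFunctor.comp g (toSelf 𝒵) = toSelf 𝒴 :=
  basedFunctor_ext _ _ g.w

/-- The diagonal of a functor between categories fibred in groupoids whose absolute diagonals are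
representable by algebraic spaces is representable by algebraic spaces. -/
theorem repByAlgSp1_diag (h𝒴 : FibCat.IsFibGrpd 𝒴.p) (h𝒵 : FibCat.IsFibGrpd 𝒵.p)
    (hΔ𝒴 : AlgSt.RepByAlgSp1 (diag (toSelf 𝒴))) (hΔ𝒵 : AlgSt.RepByAlgSp1 (diag (toSelf 𝒵)))
    (g : 𝒴 ⥤ᵇ 𝒵) : AlgSt.RepByAlgSp1 (diag g) := by
  have h0 : AlgSt.RepByAlgSp1 (diag (BasedFunctor.comp g (toSelf 𝒵))) := by
    rw [comp_toSelf]
    exact hΔ𝒴
  have hb : AlgSt.RepByAlgSpWith ⊤ (cmp g g (toSelf 𝒵) (e₀ g (toSelf 𝒵))) :=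
    repByAlgSpWith_cmp g g (toSelf 𝒵) (e₀ g (toSelf 𝒵)) (he₀ g (toSelf 𝒵)) ⊤
      ((Groth.Agent.Lib.Helper27.AlgStackEquiv.repByAlgSp1_iff _).1 hΔ𝒵)
  have hΔb : AlgSt.RepByAlgSpWith ⊤ (diag (cmp g g (toSelf 𝒵) (e₀ g (toSelf 𝒵)))) :=
    repByAlgSpWith_diag _ ⊤ ⊤ hb (fun _ _ _ _ _ _ _ _ => trivial)
  exact (Groth.Agent.Lib.Helper27.AlgStackEquiv.repByAlgSp1_iff _).2
    (repByAlgSpWith_diag_of_comp g (toSelf 𝒵) ⊤ compHyp_top h𝒴 h𝒵
      Groth.Agent.Lib.Helper27.ReprDiag.isFibGrpd_selfOver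
      ((Groth.Agent.Lib.Helper27.AlgStackEquiv.repByAlgSp1_iff _).1 h0) hΔb)

end Lemma33

section DM

variable {𝒳 𝒴 𝒵 : AlgSt.Cat S} (f : 𝒳 ⥤ᵇ 𝒴) (g : 𝒴 ⥤ᵇ 𝒵)

theorem isDMMor_of_comp (h𝒳 : FibCat.IsFibGrpd 𝒳.p) (h𝒴 : FibCat.IsFibGrpd 𝒴.p)
    (h𝒵 : FibCat.IsFibGrpd 𝒵.p)
    (hΔ𝒴 : AlgSt.RepByAlgSp1 (diag (toSelf 𝒴))) (hΔ𝒵 : AlgSt.RepByAlgSp1 (diag (toSelf 𝒵)))
    (hgf : AlgSt.IsDMMor (BasedFunctor.comp f g)) : AlgSt.IsDMMor f := by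
  have hΔg := repByAlgSp1_diag h𝒴 h𝒵 hΔ𝒴 hΔ𝒵 g
  have hb : AlgSt.RepByAlgSpWith ⊤ (cmp f f g (e₀ f g)) :=
    repByAlgSpWith_cmp f f g (e₀ f g) (he₀ f g) ⊤
      ((Groth.Agent.Lib.Helper27.AlgStackEquiv.repByAlgSp1_iff _).1 hΔg)
  have hΔb : AlgSt.IsDMMor (cmp f f g (e₀ f g)) :=
    isDMMor_of_repByAlgSp1 _ ((Groth.Agent.Lib.Helper27.AlgStackEquiv.repByAlgSp1_iff _).2 hb)
  exact repByAlgSpWith_diag_of_comp f g _
    (compHyp_locP Groth.Agent.Lib.Helper3.isEtLocal_unramified) h𝒳 h𝒴 h𝒵 hgf hΔb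

theorem isQuasiDMMor_of_comp (h𝒳 : FibCat.IsFibGrpd 𝒳.p) (h𝒴 : FibCat.IsFibGrpd 𝒴.p)
    (h𝒵 : FibCat.IsFibGrpd 𝒵.p)
    (hΔ𝒴 : AlgSt.RepByAlgSp1 (diag (toSelf 𝒴))) (hΔ𝒵 : AlgSt.RepByAlgSp1 (diag (toSelf 𝒵)))
    (hgf : AlgSt.IsQuasiDMMor (BasedFunctor.comp f g)) : AlgSt.IsQuasiDMMor f := by
  have hΔg := repByAlgSp1_diag h𝒴 h𝒵 hΔ𝒴 hΔ𝒵 g
  have hb : AlgSt.RepByAlgSpWith ⊤ (cmp f f g (e₀ f g)) :=
    repByAlgSpWith_cmp f f g (e₀ f g) (he₀ f g) ⊤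
      ((Groth.Agent.Lib.Helper27.AlgStackEquiv.repByAlgSp1_iff _).1 hΔg)
  have hΔb : AlgSt.IsDMMor (cmp f f g (e₀ f g)) :=
    isDMMor_of_repByAlgSp1 _ ((Groth.Agent.Lib.Helper27.AlgStackEquiv.repByAlgSp1_iff _).2 hb)
  have hΔb' : AlgSt.IsQuasiDMMor (cmp f f g (e₀ f g)) := by
    intro U y
    obtain ⟨F, e, he, h⟩ := hΔb U y
    refine ⟨F, e, he, Groth.Agent.Lib.Helper3.locP_mono ?_ h⟩
    intro A B k hk
    have := hk.1
    have := hk.2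
    exact ⟨Groth.Agent.Lib.Helper3.locallyQuasiFinite_of_unramified k, hk.1⟩
  exact repByAlgSpWith_diag_of_comp f g _
    (compHyp_locP Groth.Agent.Lib.Helper3.isEtLocal_locallyQuasiFinite) h𝒳 h𝒴 h𝒵 hgf hΔb'

end DM

end Groth.Agent.Lib.Helper27.DiagCancel
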