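import Groth.Agent.Lib.Helper27.FpKit

/-!
# The graph as a base change of the diagonal (helper27)
-/

set_option autoImplicit false
set_option backward.isDefEq.respectTransparency false
set_option backward.isDefEq.respectTransparency.types false

universe v₅ u₅ v₄ u₄ v₃ u₃ v₂ u₂ v u

open CategoryTheory CategoryTheory.Limits FibCat Groth.Agent.Lib.Helper27.FpKit

namespace Groth.Agent.Lib.Helper27.GraphDiag

variable {C : Type u} [Category.{v} C]

section Aux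

variable {𝒳 : BasedCategory.{v₂, u₂} C} {𝒴 : BasedCategory.{v₃, u₃} C}
  {𝒮 : BasedCategory.{v₄, u₄} C} {F : 𝒳 ⥤ᵇ 𝒮} {G : 𝒴 ⥤ᵇ 𝒮}

theorem vert_snd {t t' : (fp F G).obj} (Φ : t ⟶ t') (h : Vert Φ) : Vert Φ.hom.snd :=
  Vert.of_lift (Groth.Agent.Lib.Helper27.StackFp.snd_lift Φ _ h)

theorem vert_fst {t t' : (fp F G).obj} (Φ : t ⟶ t') (h : Vert Φ) : Vert Φ.hom.fst :=
  (vert_hom_iff Φ).1 h

end Aux

variable {𝒳 : BasedCategory.{v₂, u₂} C} {𝒴 : BasedCategory.{v₃, u₃} C}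
  {𝒵 : BasedCategory.{v₄, u₄} C} {𝒜 : BasedCategory.{v₅, u₅} C}
  (f : 𝒳 ⥤ᵇ 𝒴) (g : 𝒴 ⥤ᵇ 𝒵) (G : 𝒜 ⥤ᵇ 𝒴)

/-- The cospan morphism defining `P`. -/
def D₀ : MapData g g (BasedFunctor.comp G g) (BasedFunctor.comp f g) G f (BasedFunctor.id 𝒵) where
  e₁ := fun _ => Iso.refl _
  n₁ := fun _ => (Category.comp_id _).trans (Category.id_comp _).symm
  l₁ := fun _ => Vert.id _
  e₂ := fun _ => Iso.refl _
  n₂ := fun _ => (Category.comp_id _).trans (Category.id_comp _).symm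
  l₂ := fun _ => Vert.id _

/-- `(s, x, ψ) ↦ (G s, f x, ψ)`. -/
abbrev P : fp (BasedFunctor.comp G g) (BasedFunctor.comp f g) ⥤ᵇ fp g g := fpMap (D₀ f g G)

theorem P_iso_hom (w : (fp (BasedFunctor.comp G g) (BasedFunctor.comp f g)).obj) :
    ((P f g G).toFunctor.obj w).obj.iso.hom = w.obj.iso.hom := by
  change (Iso.refl _).inv ≫ w.obj.iso.hom ≫ (Iso.refl _).hom = _
  simp

theorem diag_iso_hom (y : 𝒴.obj) : ((diag g).toFunctor.obj y).obj.iso.hom = 𝟙 _ := rfl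

abbrev T := (fp (P f g G) (diag g)).obj

variable {f g G}

/-- First component of the structure isomorphism. -/
def θ₁ (t : T f g G) : G.toFunctor.obj t.obj.fst.obj.fst ≅ t.obj.snd :=
  (fpFst g g).toFunctor.mapIso t.obj.iso

/-- Second component of the structure isomorphism. -/
def θ₂ (t : T f g G) : f.toFunctor.obj t.obj.fst.obj.snd ≅ t.obj.snd :=
  (fpSnd g g).toFunctor.mapIso t.obj.iso

theorem θ₁_hom (t : T f g G) : (θ₁ t).hom = t.obj.iso.hom.hom.fst := rfl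
theorem θ₂_hom (t : T f g G) : (θ₂ t).hom = t.obj.iso.hom.hom.snd := rfl

theorem vert_θ₁ (t : T f g G) : Vert (θ₁ t).hom := vert_fst _ (vert_iso t)
theorem vert_θ₂ (t : T f g G) : Vert (θ₂ t).hom := vert_snd _ (vert_iso t)

theorem θ_w (t : T f g G) :
    g.toFunctor.map (θ₁ t).hom = t.obj.fst.obj.iso.hom ≫ g.toFunctor.map (θ₂ t).hom := by
  have h := hom_w t.obj.iso.hom
  rw [P_iso_hom] at h
  change g.toFunctor.map (θ₁ t).hom ≫ 𝟙 _ = t.obj.fst.obj.iso.hom ≫ g.toFunctor.map (θ₂ t).hom at h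
  rw [Category.comp_id] at h
  exact h

theorem hom_w₁ {t t' : T f g G} (Θ : t ⟶ t') :
    G.toFunctor.map Θ.hom.fst.hom.fst ≫ (θ₁ t').hom = (θ₁ t).hom ≫ Θ.hom.snd := by
  have h := congrArg (fun m => m.hom.fst) (hom_w Θ)
  exact h

theorem hom_w₂ {t t' : T f g G} (Θ : t ⟶ t') :
    f.toFunctor.map Θ.hom.fst.hom.snd ≫ (θ₂ t').hom = (θ₂ t).hom ≫ Θ.hom.snd := by
  have h := congrArg (fun m => m.hom.snd) (hom_w Θ)
  exact h

variable (f g G)

/-- Object part of the comparison. -/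
def KObj (t : T f g G) : (fp G f).obj :=
  mkObj (F := G) (G := f) t.obj.fst.obj.fst t.obj.fst.obj.snd (θ₁ t ≪≫ (θ₂ t).symm)
    ((vert_θ₁ t).comp (Vert.inv (vert_θ₂ t)))

theorem KObj_iso_hom (t : T f g G) :
    (KObj f g G t).obj.iso.hom = (θ₁ t).hom ≫ (θ₂ t).inv := rfl

theorem K_w {t t' : T f g G} (Θ : t ⟶ t') :
    G.toFunctor.map Θ.hom.fst.hom.fst ≫ (KObj f g G t').obj.iso.hom =
      (KObj f g G t).obj.iso.hom ≫ f.toFunctor.map Θ.hom.fst.hom.snd := by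
  rw [KObj_iso_hom, KObj_iso_hom]
  have h2 : (θ₂ t).inv ≫ f.toFunctor.map Θ.hom.fst.hom.snd = Θ.hom.snd ≫ (θ₂ t').inv := by
    rw [Iso.inv_comp_eq, ← Category.assoc, ← hom_w₂ Θ, Category.assoc, Iso.hom_inv_id,
      Category.comp_id]
  rw [← Category.assoc, hom_w₁ Θ, Category.assoc, Category.assoc, h2]

/-- The comparison functor `W ×_{𝒴 ×_𝒵 𝒴} 𝒴 ⟶ 𝒜 ×_𝒴 𝒳`. -/
def K : fp (P f g G) (diag g) ⥤ᵇ fp G f where
  toFunctor :=
    { obj := KObj f g G
      map := fun {t t'} Θ =>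
        mkHom (t := KObj f g G t) (t' := KObj f g G t') Θ.hom.fst.hom.fst Θ.hom.fst.hom.snd
          (K_w f g G Θ)
      map_id := fun t => by
        apply Groth.Agent.Lib.Helper27.StackFp.hom_ext'
        · rfl
        · rfl
      map_comp := fun {t t' t''} Φ Ψ => by
        apply Groth.Agent.Lib.Helper27.StackFp.hom_ext'
        · rfl
        · rfl }
  w := CategoryTheory.Functor.ext (fun t => rfl) (fun t t' Θ => by
    simp only [eqToHom_refl, Category.id_comp, Category.comp_id]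
    rfl)

theorem K_faithful : (K f g G).toFunctor.Faithful := by
  constructor
  intro t t' Θ Θ' h
  have h1 : Θ.hom.fst.hom.fst = Θ'.hom.fst.hom.fst := congrArg (fun Ξ => Ξ.hom.fst) h
  have h2 : Θ.hom.fst.hom.snd = Θ'.hom.fst.hom.snd := congrArg (fun Ξ => Ξ.hom.snd) h
  have h3 : Θ.hom.snd = Θ'.hom.snd := by
    apply (cancel_epi (θ₁ t).hom).1
    rw [← hom_w₁ Θ, ← hom_w₁ Θ', h1]
  apply Groth.Agent.Lib.Helper27.StackFp.hom_ext' _ h3
  exact Groth.Agent.Lib.Helper27.StackFp.hom_ext' h1 h2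

theorem ψ_eq (t : T f g G) :
    t.obj.fst.obj.iso.hom = g.toFunctor.map (θ₁ t).hom ≫ g.toFunctor.map (θ₂ t).inv := by
  rw [θ_w t, Category.assoc, ← g.toFunctor.map_comp, Iso.hom_inv_id, g.toFunctor.map_id]
  exact (Category.comp_id _).symm

theorem K_full : (K f g G).toFunctor.Full := by
  constructor
  intro t t' Ξ
  obtain ⟨α, hα⟩ : ∃ α : t.obj.fst.obj.fst ⟶ t'.obj.fst.obj.fst, α = Ξ.hom.fst := ⟨_, rfl⟩
  obtain ⟨γ, hγ⟩ : ∃ γ : t.obj.fst.obj.snd ⟶ t'.obj.fst.obj.snd, γ = Ξ.hom.snd := ⟨_, rfl⟩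
  have hΞ : G.toFunctor.map α ≫ (θ₁ t').hom ≫ (θ₂ t').inv =
      ((θ₁ t).hom ≫ (θ₂ t).inv) ≫ f.toFunctor.map γ := by
    rw [hα, hγ]
    exact hom_w Ξ
  have hΩ : (BasedFunctor.comp G g).toFunctor.map α ≫ t'.obj.fst.obj.iso.hom =
      t.obj.fst.obj.iso.hom ≫ (BasedFunctor.comp f g).toFunctor.map γ := by
    rw [ψ_eq f g G t, ψ_eq f g G t']
    change g.toFunctor.map (G.toFunctor.map α) ≫ g.toFunctor.map (θ₁ t').hom ≫
        g.toFunctor.map (θ₂ t').inv =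
      (g.toFunctor.map (θ₁ t).hom ≫ g.toFunctor.map (θ₂ t).inv) ≫
        g.toFunctor.map (f.toFunctor.map γ)
    rw [← g.toFunctor.map_comp, ← g.toFunctor.map_comp, ← g.toFunctor.map_comp,
      ← g.toFunctor.map_comp, hΞ]
  let Ω : t.obj.fst ⟶ t'.obj.fst := mkHom α γ hΩ
  let β : t.obj.snd ⟶ t'.obj.snd := (θ₁ t).inv ≫ G.toFunctor.map α ≫ (θ₁ t').hom
  have hβ1 : G.toFunctor.map α ≫ (θ₁ t').hom = (θ₁ t).hom ≫ β := by
    simp only [β, Iso.hom_inv_id_assoc]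
  have hβ2 : f.toFunctor.map γ ≫ (θ₂ t').hom = (θ₂ t).hom ≫ β := by
    have h1 : (θ₂ t).inv ≫ f.toFunctor.map γ ≫ (θ₂ t').hom = β := by
      have h2 := congrArg (fun m => (θ₁ t).inv ≫ m ≫ (θ₂ t').hom) hΞ
      simp only [Category.assoc, Iso.inv_hom_id, Category.comp_id, Iso.inv_hom_id_assoc] at h2
      exact h2.symm
    rw [← h1, Iso.hom_inv_id_assoc]
  have hΘ : (P f g G).toFunctor.map Ω ≫ t'.obj.iso.hom =
      t.obj.iso.hom ≫ (diag g).toFunctor.map β := by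
    apply Groth.Agent.Lib.Helper27.StackFp.hom_ext'
    · exact hβ1
    · exact hβ2
  refine ⟨mkHom Ω β hΘ, ?_⟩
  apply Groth.Agent.Lib.Helper27.StackFp.hom_ext'
  · exact hα
  · exact hγ

theorem K_ess (r : (fp G f).obj) :
    ∃ (t : (fp (P f g G) (diag g)).obj) (e : (K f g G).toFunctor.obj t ≅ r), Vert e.hom := by
  let w : (fp (BasedFunctor.comp G g) (BasedFunctor.comp f g)).obj :=
    mkObj (F := BasedFunctor.comp G g) (G := BasedFunctor.comp f g) r.obj.fst r.obj.snd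
      (g.toFunctor.mapIso r.obj.iso) ((vert_iso r).map g)
  have hw : g.toFunctor.map r.obj.iso.hom ≫
      ((diag g).toFunctor.obj (f.toFunctor.obj r.obj.snd)).obj.iso.hom =
      ((P f g G).toFunctor.obj w).obj.iso.hom ≫
        g.toFunctor.map (Iso.refl (f.toFunctor.obj r.obj.snd)).hom := by
    rw [P_iso_hom, diag_iso_hom]
    change g.toFunctor.map r.obj.iso.hom ≫ 𝟙 _ =
      g.toFunctor.map r.obj.iso.hom ≫ g.toFunctor.map (𝟙 _)
    rw [g.toFunctor.map_id]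
  let θ : (P f g G).toFunctor.obj w ≅ (diag g).toFunctor.obj (f.toFunctor.obj r.obj.snd) :=
    mkIso (t := (P f g G).toFunctor.obj w)
      (t' := (diag g).toFunctor.obj (f.toFunctor.obj r.obj.snd)) r.obj.iso (Iso.refl _) hw
  have hθ : Vert θ.hom := by
    rw [vert_hom_iff]
    exact vert_iso r
  let t : (fp (P f g G) (diag g)).obj :=
    mkObj (F := P f g G) (G := diag g) w (f.toFunctor.obj r.obj.snd) θ hθ
  have hw' : G.toFunctor.map (Iso.refl r.obj.fst).hom ≫ r.obj.iso.hom =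
      (KObj f g G t).obj.iso.hom ≫ f.toFunctor.map (Iso.refl r.obj.snd).hom := by
    rw [KObj_iso_hom]
    change G.toFunctor.map (𝟙 _) ≫ r.obj.iso.hom = (r.obj.iso.hom ≫ 𝟙 _) ≫ f.toFunctor.map (𝟙 _)
    rw [G.toFunctor.map_id, f.toFunctor.map_id, Category.id_comp, Category.comp_id,
      Category.comp_id]
  refine ⟨t, mkIso (t := KObj f g G t) (t' := r) (Iso.refl _) (Iso.refl _) hw', ?_⟩
  rw [vert_hom_iff]
  exact Vert.id _

theorem isEquivOver_K : IsEquivOver (K f g G) :=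
  isEquivOver_of_ess _ (K_full f g G) (K_faithful f g G) (K_ess f g G)

end Groth.Agent.Lib.Helper27.GraphDiag
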