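import Groth.Agent.Lib.Helper27.FpKit
import Groth.Agent.Lib.Helper27.GraphDiag

/-!
# The diagonal of a base change is a base change of the diagonal (helper27)
-/

set_option autoImplicit false
set_option backward.isDefEq.respectTransparency false
set_option backward.isDefEq.respectTransparency.types false

universe v₅ u₅ v₄ u₄ v₃ u₃ v₂ u₂ v u

open CategoryTheory CategoryTheory.Limits FibCat Groth.Agent.Lib.Helper27.FpKit
  Groth.Agent.Lib.Helper27.GraphDiag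

namespace Groth.Agent.Lib.Helper27.DiagBaseChange

variable {C : Type u} [Category.{v} C]

variable {𝒳 : BasedCategory.{v₂, u₂} C} {𝒴 : BasedCategory.{v₃, u₃} C}
  {𝒴' : BasedCategory.{v₄, u₄} C} {𝒜 : BasedCategory.{v₅, u₅} C}
  (f : 𝒳 ⥤ᵇ 𝒴) (g : 𝒴' ⥤ᵇ 𝒴)

/-- The cospan morphism defining `Pr`. -/
def DPr : MapData f f (fpFst g f) (fpFst g f) (fpSnd g f) (fpSnd g f) g where
  e₁ := fun p => p.obj.iso
  n₁ := fun α => hom_w α
  l₁ := fun p => vert_iso p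
  e₂ := fun p => p.obj.iso
  n₂ := fun α => hom_w α
  l₂ := fun p => vert_iso p

/-- `(p₁, p₂, ω) ↦ (x₁, x₂, φ₁⁻¹ ≫ g ω ≫ φ₂)`. -/
abbrev Pr : fp (fpFst g f) (fpFst g f) ⥤ᵇ fp f f := fpMap (DPr f g)

theorem Pr_iso_hom (q : (fp (fpFst g f) (fpFst g f)).obj) :
    ((Pr f g).toFunctor.obj q).obj.iso.hom =
      q.obj.fst.obj.iso.inv ≫ g.toFunctor.map q.obj.iso.hom ≫ q.obj.snd.obj.iso.hom := rfl

theorem Pr_map_fst {q q' : (fp (fpFst g f) (fpFst g f)).obj} (m : q ⟶ q') :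
    ((Pr f g).toFunctor.map m).hom.fst = m.hom.fst.hom.snd := rfl

theorem Pr_map_snd {q q' : (fp (fpFst g f) (fpFst g f)).obj} (m : q ⟶ q') :
    ((Pr f g).toFunctor.map m).hom.snd = m.hom.snd.hom.snd := rfl

theorem diag_map_fst {𝒮 : BasedCategory.{v₅, u₅} C} (h : 𝒳 ⥤ᵇ 𝒮) {x x' : 𝒳.obj} (m : x ⟶ x') :
    ((diag h).toFunctor.map m).hom.fst = m := rfl

theorem diag_map_snd {𝒮 : BasedCategory.{v₅, u₅} C} (h : 𝒳 ⥤ᵇ 𝒮) {x x' : 𝒳.obj} (m : x ⟶ x') :
    ((diag h).toFunctor.map m).hom.snd = m := rfl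

/-- The comparison `Pr (Δ' p) ≅ Δ (snd p)`. -/
def ν (p : (fp g f).obj) :
    (Pr f g).toFunctor.obj ((diag (fpFst g f)).toFunctor.obj p) ≅
      (diag f).toFunctor.obj ((fpSnd g f).toFunctor.obj p) :=
  mkIso (t := (Pr f g).toFunctor.obj ((diag (fpFst g f)).toFunctor.obj p))
    (t' := (diag f).toFunctor.obj ((fpSnd g f).toFunctor.obj p)) (Iso.refl _) (Iso.refl _) (by
      rw [Pr_iso_hom, diag_iso_hom, diag_iso_hom]
      have h1 : ∀ {A B : 𝒴.obj} (i : A ≅ B) (j k : A ⟶ A) (l : B ⟶ B), j = 𝟙 _ → k = 𝟙 _ →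
          l = 𝟙 _ → j ≫ 𝟙 _ = (i.hom ≫ l ≫ i.inv) ≫ k := by
        intro A B i j k l hj hk hl
        rw [hj, hk, hl]
        simp
      exact h1 p.obj.iso.symm _ _ _ (f.toFunctor.map_id _) (f.toFunctor.map_id _)
        (g.toFunctor.map_id _))

theorem ν_hom_fst (p : (fp g f).obj) : (ν f g p).hom.hom.fst = 𝟙 _ := rfl
theorem ν_hom_snd (p : (fp g f).obj) : (ν f g p).hom.hom.snd = 𝟙 _ := rfl

theorem ν_nat {p p' : (fp g f).obj} (π : p ⟶ p') :
    (Pr f g).toFunctor.map ((diag (fpFst g f)).toFunctor.map π) ≫ (ν f g p').hom =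
      (ν f g p).hom ≫ (diag f).toFunctor.map ((fpSnd g f).toFunctor.map π) := by
  apply Groth.Agent.Lib.Helper27.StackFp.hom_ext'
  · rw [comp_fst, comp_fst, ν_hom_fst, ν_hom_fst, Pr_map_fst, diag_map_fst, diag_map_fst]
    exact (Category.comp_id _).trans (Category.id_comp _).symm
  · rw [comp_snd, comp_snd, ν_hom_snd, ν_hom_snd, Pr_map_snd, diag_map_snd, diag_map_snd]
    exact (Category.comp_id _).trans (Category.id_comp _).symm

theorem ν_vert (p : (fp g f).obj) : Vert (ν f g p).hom := by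
  rw [vert_hom_iff]
  exact Vert.id _

variable (y : 𝒜 ⥤ᵇ fp (fpFst g f) (fpFst g f))

/-- The cospan morphism defining `Lm`. -/
def DLm : MapData (BasedFunctor.comp y (Pr f g)) (diag f) y (diag (fpFst g f))
    (BasedFunctor.id 𝒜) (fpSnd g f) (Pr f g) where
  e₁ := fun _ => Iso.refl _
  n₁ := fun _ => (Category.comp_id _).trans (Category.id_comp _).symm
  l₁ := fun _ => Vert.id _
  e₂ := fun p => ν f g p
  n₂ := fun π => ν_nat f g π
  l₂ := fun p => ν_vert f g p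

/-- The comparison functor. -/
abbrev Lm : fp y (diag (fpFst g f)) ⥤ᵇ fp (BasedFunctor.comp y (Pr f g)) (diag f) :=
  fpMap (DLm f g y)

theorem Lm_iso_hom (t : (fp y (diag (fpFst g f))).obj) :
    ((Lm f g y).toFunctor.obj t).obj.iso.hom =
      (Pr f g).toFunctor.map t.obj.iso.hom ≫ (ν f g t.obj.snd).hom := by
  change (Iso.refl _).inv ≫ (Pr f g).toFunctor.map t.obj.iso.hom ≫ (ν f g t.obj.snd).hom = _
  exact Category.id_comp _

theorem Lm_iso_hom_fst (t : (fp y (diag (fpFst g f))).obj) :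
    ((Lm f g y).toFunctor.obj t).obj.iso.hom.hom.fst = t.obj.iso.hom.hom.fst.hom.snd := by
  rw [Lm_iso_hom, comp_fst, ν_hom_fst, Pr_map_fst]
  exact Category.comp_id _

theorem Lm_iso_hom_snd (t : (fp y (diag (fpFst g f))).obj) :
    ((Lm f g y).toFunctor.obj t).obj.iso.hom.hom.snd = t.obj.iso.hom.hom.snd.hom.snd := by
  rw [Lm_iso_hom, comp_snd, ν_hom_snd, Pr_map_snd]
  exact Category.comp_id _

theorem Lm_faithful : (Lm f g y).toFunctor.Faithful := by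
  constructor
  intro t t' Θ Θ' h
  have h1 : Θ.hom.fst = Θ'.hom.fst := congrArg (fun Ξ => Ξ.hom.fst) h
  have w1 := hom_w Θ
  have w2 := hom_w Θ'
  rw [h1] at w1
  have h2 : (diag (fpFst g f)).toFunctor.map Θ.hom.snd =
      (diag (fpFst g f)).toFunctor.map Θ'.hom.snd :=
    (cancel_epi t.obj.iso.hom).1 (w1.symm.trans w2)
  have h3 : Θ.hom.snd = Θ'.hom.snd := congrArg (fun m => m.hom.fst) h2
  exact Groth.Agent.Lib.Helper27.StackFp.hom_ext' h1 h3

section Components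

variable {f g y}

/-- First component of the structure isomorphism. -/
def θ₁ (t : (fp y (diag (fpFst g f))).obj) :
    (y.toFunctor.obj t.obj.fst).obj.fst ≅ t.obj.snd :=
  (fpFst (fpFst g f) (fpFst g f)).toFunctor.mapIso t.obj.iso

/-- Second component of the structure isomorphism. -/
def θ₂ (t : (fp y (diag (fpFst g f))).obj) :
    (y.toFunctor.obj t.obj.fst).obj.snd ≅ t.obj.snd :=
  (fpSnd (fpFst g f) (fpFst g f)).toFunctor.mapIso t.obj.iso

theorem θ₁_hom (t : (fp y (diag (fpFst g f))).obj) : (θ₁ t).hom = t.obj.iso.hom.hom.fst := rfl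
theorem θ₂_hom (t : (fp y (diag (fpFst g f))).obj) : (θ₂ t).hom = t.obj.iso.hom.hom.snd := rfl

/-- The `𝒴'`-component of `θ₁` as an isomorphism. -/
def θ₁f (t : (fp y (diag (fpFst g f))).obj) :
    (y.toFunctor.obj t.obj.fst).obj.fst.obj.fst ≅ t.obj.snd.obj.fst :=
  (fpFst g f).toFunctor.mapIso (θ₁ t)

/-- The `𝒳`-component of `θ₁` as an isomorphism. -/
def θ₁s (t : (fp y (diag (fpFst g f))).obj) :
    (y.toFunctor.obj t.obj.fst).obj.fst.obj.snd ≅ t.obj.snd.obj.snd :=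
  (fpSnd g f).toFunctor.mapIso (θ₁ t)

theorem θ₁f_hom (t : (fp y (diag (fpFst g f))).obj) : (θ₁f t).hom = (θ₁ t).hom.hom.fst := rfl
theorem θ₁s_hom (t : (fp y (diag (fpFst g f))).obj) : (θ₁s t).hom = (θ₁ t).hom.hom.snd := rfl

/-- The compatibility of the two components. -/
theorem θ_cond (t : (fp y (diag (fpFst g f))).obj) :
    (θ₁ t).hom.hom.fst = (y.toFunctor.obj t.obj.fst).obj.iso.hom ≫ (θ₂ t).hom.hom.fst := by
  have h := hom_w t.obj.iso.hom
  rw [diag_iso_hom] at h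
  exact (Category.comp_id _).symm.trans h

theorem map_cond {s s' : 𝒜.obj} (α : s ⟶ s') :
    (y.toFunctor.map α).hom.fst.hom.fst ≫ (y.toFunctor.obj s').obj.iso.hom =
      (y.toFunctor.obj s).obj.iso.hom ≫ (y.toFunctor.map α).hom.snd.hom.fst :=
  hom_w (y.toFunctor.map α)

end Components

theorem Lm_full : (Lm f g y).toFunctor.Full := by
  constructor
  intro t t' Ξ
  obtain ⟨α, hα⟩ : ∃ α : t.obj.fst ⟶ t'.obj.fst, α = Ξ.hom.fst := ⟨_, rfl⟩
  obtain ⟨γ, hγ⟩ : ∃ γ : t.obj.snd.obj.snd ⟶ t'.obj.snd.obj.snd, γ = Ξ.hom.snd := ⟨_, rfl⟩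
  have hΞ := hom_w Ξ
  have A1 : (y.toFunctor.map α).hom.fst.hom.snd ≫ (θ₁ t').hom.hom.snd =
      (θ₁ t).hom.hom.snd ≫ γ := by
    have h := congrArg (fun m => m.hom.fst) hΞ
    rw [hα, hγ, θ₁_hom, θ₁_hom, ← Lm_iso_hom_fst, ← Lm_iso_hom_fst]
    exact h
  have A2 : (y.toFunctor.map α).hom.snd.hom.snd ≫ (θ₂ t').hom.hom.snd =
      (θ₂ t).hom.hom.snd ≫ γ := by
    have h := congrArg (fun m => m.hom.snd) hΞ
    rw [hα, hγ, θ₂_hom, θ₂_hom, ← Lm_iso_hom_snd, ← Lm_iso_hom_snd]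
    exact h
  let π : t.obj.snd ⟶ t'.obj.snd := (θ₁ t).inv ≫ (y.toFunctor.map α).hom.fst ≫ (θ₁ t').hom
  have hπ : (θ₁ t).hom ≫ π = (y.toFunctor.map α).hom.fst ≫ (θ₁ t').hom := by
    simp only [π, Iso.hom_inv_id_assoc]
  have hπs : π.hom.snd = γ := by
    apply (cancel_epi (θ₁s t).hom).1
    rw [θ₁s_hom, ← A1]
    exact congrArg (fun m => m.hom.snd) hπ
  have hsnd : (y.toFunctor.map α).hom.snd ≫ (θ₂ t').hom = (θ₂ t).hom ≫ π := by
    apply Groth.Agent.Lib.Helper27.StackFp.hom_ext'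
    · apply (cancel_epi (y.toFunctor.obj t.obj.fst).obj.iso.hom).1
      rw [comp_fst, comp_fst, ← Category.assoc, ← map_cond α, Category.assoc, ← θ_cond t',
        ← Category.assoc, ← θ_cond t]
      exact (congrArg (fun m => m.hom.fst) hπ).symm
    · rw [comp_snd, comp_snd, hπs]
      exact A2
  have hΘ : y.toFunctor.map α ≫ t'.obj.iso.hom =
      t.obj.iso.hom ≫ (diag (fpFst g f)).toFunctor.map π := by
    apply Groth.Agent.Lib.Helper27.StackFp.hom_ext'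
    · exact hπ.symm
    · exact hsnd
  refine ⟨mkHom α π hΘ, ?_⟩
  apply Groth.Agent.Lib.Helper27.StackFp.hom_ext'
  · exact hα
  · exact hπs.trans hγ

theorem Lm_ess (r : (fp (BasedFunctor.comp y (Pr f g)) (diag f)).obj) :
    ∃ (t : (fp y (diag (fpFst g f))).obj) (e : (Lm f g y).toFunctor.obj t ≅ r), Vert e.hom := by
  obtain ⟨q, hq⟩ : ∃ q : (fp (fpFst g f) (fpFst g f)).obj, q = y.toFunctor.obj r.obj.fst :=
    ⟨_, rfl⟩
  let ξ₁ : q.obj.fst.obj.snd ≅ r.obj.snd :=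
    eqToIso (by rw [hq]; rfl) ≪≫ (fpFst f f).toFunctor.mapIso r.obj.iso
  let ξ₂ : q.obj.snd.obj.snd ≅ r.obj.snd :=
    eqToIso (by rw [hq]; rfl) ≪≫ (fpSnd f f).toFunctor.mapIso r.obj.iso
  have hξ₁ : Vert ξ₁.hom := by
    subst hq
    have : Vert ((fpFst f f).toFunctor.mapIso r.obj.iso).hom := vert_fst _ (vert_iso r)
    simpa [ξ₁] using this
  have hr : f.toFunctor.map ξ₁.hom =
      (q.obj.fst.obj.iso.inv ≫ g.toFunctor.map q.obj.iso.hom ≫ q.obj.snd.obj.iso.hom) ≫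
        f.toFunctor.map ξ₂.hom := by
    subst hq
    have h := hom_w r.obj.iso.hom
    rw [diag_iso_hom] at h
    have h' : f.toFunctor.map ((fpFst f f).toFunctor.mapIso r.obj.iso).hom =
        ((Pr f g).toFunctor.obj (y.toFunctor.obj r.obj.fst)).obj.iso.hom ≫
          f.toFunctor.map ((fpSnd f f).toFunctor.mapIso r.obj.iso).hom :=
      (Category.comp_id _).symm.trans h
    simpa [ξ₁, ξ₂, Pr_iso_hom] using h'
  let p : (fp g f).obj := mkObj (F := g) (G := f) q.obj.fst.obj.fst r.obj.snd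
    (q.obj.fst.obj.iso ≪≫ f.toFunctor.mapIso ξ₁) ((vert_iso q.obj.fst).comp (hξ₁.map f))
  have hp : p.obj.iso.hom = q.obj.fst.obj.iso.hom ≫ f.toFunctor.map ξ₁.hom := rfl
  have hw₁ : g.toFunctor.map (Iso.refl q.obj.fst.obj.fst).hom ≫ p.obj.iso.hom =
      q.obj.fst.obj.iso.hom ≫ f.toFunctor.map ξ₁.hom := by
    rw [hp]
    change g.toFunctor.map (𝟙 _) ≫ _ = _
    rw [g.toFunctor.map_id]
    exact Category.id_comp _
  let Θ₁ : q.obj.fst ≅ p := mkIso (t := q.obj.fst) (t' := p) (Iso.refl _) ξ₁ hw₁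
  have hw₂ : g.toFunctor.map q.obj.iso.symm.hom ≫ p.obj.iso.hom =
      q.obj.snd.obj.iso.hom ≫ f.toFunctor.map ξ₂.hom := by
    rw [hp, hr]
    have h1 : g.toFunctor.map q.obj.iso.symm.hom ≫ g.toFunctor.map q.obj.iso.hom = 𝟙 _ := by
      rw [← g.toFunctor.map_comp]
      change g.toFunctor.map (q.obj.iso.inv ≫ q.obj.iso.hom) = 𝟙 _
      rw [Iso.inv_hom_id, g.toFunctor.map_id]
    simp only [Category.assoc, Iso.hom_inv_id_assoc]
    rw [← Category.assoc, h1]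
    exact Category.id_comp _
  let Θ₂ : q.obj.snd ≅ p := mkIso (t := q.obj.snd) (t' := p) q.obj.iso.symm ξ₂ hw₂
  have hw : (fpFst g f).toFunctor.map Θ₁.hom ≫
      ((diag (fpFst g f)).toFunctor.obj p).obj.iso.hom =
      q.obj.iso.hom ≫ (fpFst g f).toFunctor.map Θ₂.hom := by
    rw [diag_iso_hom]
    change 𝟙 _ ≫ 𝟙 _ = q.obj.iso.hom ≫ q.obj.iso.inv
    rw [Iso.hom_inv_id, Category.id_comp]
  let Θ : q ≅ (diag (fpFst g f)).toFunctor.obj p :=
    mkIso (t := q) (t' := (diag (fpFst g f)).toFunctor.obj p) Θ₁ Θ₂ hw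
  have hΘ : Vert Θ.hom := by
    rw [vert_hom_iff]
    change Vert Θ₁.hom
    rw [vert_hom_iff]
    exact Vert.id _
  subst hq
  let t : (fp y (diag (fpFst g f))).obj :=
    mkObj (F := y) (G := diag (fpFst g f)) r.obj.fst p Θ hΘ
  have hfin : (BasedFunctor.comp y (Pr f g)).toFunctor.map (Iso.refl r.obj.fst).hom ≫
      r.obj.iso.hom =
      ((Lm f g y).toFunctor.obj t).obj.iso.hom ≫
        (diag f).toFunctor.map (Iso.refl r.obj.snd).hom := by
    change (BasedFunctor.comp y (Pr f g)).toFunctor.map (𝟙 _) ≫ r.obj.iso.hom =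
      ((Lm f g y).toFunctor.obj t).obj.iso.hom ≫ (diag f).toFunctor.map (𝟙 _)
    rw [CategoryTheory.Functor.map_id, CategoryTheory.Functor.map_id]
    apply Groth.Agent.Lib.Helper27.StackFp.hom_ext'
    · rw [comp_fst, comp_fst, id_fst, id_fst, Lm_iso_hom_fst]
      change 𝟙 _ ≫ r.obj.iso.hom.hom.fst = ξ₁.hom ≫ 𝟙 _
      simp [ξ₁]
      rfl
    · rw [comp_snd, comp_snd, id_snd, id_snd, Lm_iso_hom_snd]
      change 𝟙 _ ≫ r.obj.iso.hom.hom.snd = ξ₂.hom ≫ 𝟙 _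
      simp [ξ₂]
      rfl
  refine ⟨t, mkIso (t := (Lm f g y).toFunctor.obj t) (t' := r) (Iso.refl _) (Iso.refl _) hfin, ?_⟩
  rw [vert_hom_iff]
  exact Vert.id _

theorem isEquivOver_Lm : IsEquivOver (Lm f g y) :=
  isEquivOver_of_ess _ (Lm_full f g y) (Lm_faithful f g y) (Lm_ess f g y)

end Groth.Agent.Lib.Helper27.DiagBaseChange
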