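import Groth.Prelude.Def_FibCat2
import Groth.Agent.Lib.Helper27.EquivOverAux
import Groth.Agent.Lib.Helper27.StackFp
import Groth.Agent.Lib.Helper27.ReprAux

/-!
# A toolkit for 2-fibre products over the base (helper27)
-/

set_option autoImplicit false
set_option backward.isDefEq.respectTransparency false
set_option backward.isDefEq.respectTransparency.types false

universe v₇ u₇ v₆ u₆ v₅ u₅ v₄ u₄ v₃ u₃ v₂ u₂ v u

open CategoryTheory CategoryTheory.Limits FibCat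

namespace Groth.Agent.Lib.Helper27.FpKit

variable {C : Type u} [Category.{v} C]

section Vert

variable {𝒳 : BasedCategory.{v₂, u₂} C} {𝒴 : BasedCategory.{v₃, u₃} C}

/-- A morphism lying over an identity. -/
def Vert {a b : 𝒳.obj} (φ : a ⟶ b) : Prop := 𝒳.p.IsHomLift (𝟙 (𝒳.p.obj a)) φ

theorem Vert.of_lift {a b : 𝒳.obj} {φ : a ⟶ b} {U : C} (h : 𝒳.p.IsHomLift (𝟙 U) φ) : Vert φ := by
  have := IsHomLift.domain_eq 𝒳.p (𝟙 U) φ
  subst this
  exact h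

theorem Vert.cod_eq {a b : 𝒳.obj} {φ : a ⟶ b} (h : Vert φ) : 𝒳.p.obj b = 𝒳.p.obj a :=
  have : 𝒳.p.IsHomLift (𝟙 (𝒳.p.obj a)) φ := h
  IsHomLift.codomain_eq 𝒳.p (𝟙 _) φ

theorem Vert.lift {a b : 𝒳.obj} {φ : a ⟶ b} (h : Vert φ) {U : C} (hU : 𝒳.p.obj a = U) :
    𝒳.p.IsHomLift (𝟙 U) φ := by
  subst hU
  exact h

theorem Vert.lift' {a b : 𝒳.obj} {φ : a ⟶ b} (h : Vert φ) {U : C} (hU : 𝒳.p.obj b = U) :
    𝒳.p.IsHomLift (𝟙 U) φ :=
  h.lift (h.cod_eq.symm.trans hU)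

theorem Vert.id (a : 𝒳.obj) : Vert (𝟙 a) :=
  (inferInstance : 𝒳.p.IsHomLift (𝟙 (𝒳.p.obj a)) (𝟙 a))

theorem Vert.comp {a b c : 𝒳.obj} {φ : a ⟶ b} {ψ : b ⟶ c} (h : Vert φ) (h' : Vert ψ) :
    Vert (φ ≫ ψ) := by
  have h1 : 𝒳.p.IsHomLift (𝟙 (𝒳.p.obj a)) φ := h
  have h2 : 𝒳.p.IsHomLift (𝟙 (𝒳.p.obj a)) ψ := h'.lift h.cod_eq
  have : 𝒳.p.IsHomLift (𝟙 (𝒳.p.obj a) ≫ 𝟙 (𝒳.p.obj a)) (φ ≫ ψ) := inferInstance
  rwa [Category.comp_id] at this

theorem Vert.inv {a b : 𝒳.obj} {e : a ≅ b} (h : Vert e.hom) : Vert e.inv := by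
  have h1 : 𝒳.p.IsHomLift (𝟙 (𝒳.p.obj a)) e.hom := h
  have : 𝒳.p.IsHomLift (𝟙 (𝒳.p.obj a)) e.inv := inferInstance
  exact Vert.of_lift this

theorem Vert.map {a b : 𝒳.obj} {φ : a ⟶ b} (h : Vert φ) (F : 𝒳 ⥤ᵇ 𝒴) :
    Vert (F.toFunctor.map φ) := by
  have h1 : 𝒳.p.IsHomLift (𝟙 (𝒳.p.obj a)) φ := h
  have : 𝒴.p.IsHomLift (𝟙 (𝒳.p.obj a)) (F.toFunctor.map φ) := inferInstance
  exact Vert.of_lift this

theorem Vert.of_map {a b : 𝒳.obj} {φ : a ⟶ b} (F : 𝒳 ⥤ᵇ 𝒴) (h : Vert (F.toFunctor.map φ)) :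
    Vert φ := by
  have h1 : 𝒴.p.IsHomLift (𝟙 (𝒳.p.obj a)) (F.toFunctor.map φ) := h.lift (F.w_obj a)
  exact (BasedFunctor.isHomLift_iff F (𝟙 (𝒳.p.obj a)) φ).1 h1

theorem Vert.app {F G : 𝒳 ⥤ᵇ 𝒴} (α : F ⟶ G) (a : 𝒳.obj) : Vert (α.toNatTrans.app a) :=
  Vert.of_lift (inferInstance : 𝒴.p.IsHomLift (𝟙 (𝒳.p.obj a)) (α.toNatTrans.app a))

end Vert

section Basic

variable {𝒳 : BasedCategory.{v₂, u₂} C} {𝒴 : BasedCategory.{v₃, u₃} C}
  {𝒮 : BasedCategory.{v₄, u₄} C} {F : 𝒳 ⥤ᵇ 𝒮} {G : 𝒴 ⥤ᵇ 𝒮}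

/-- Objects of the 2-fibre product. -/
def mkObj (x : 𝒳.obj) (y : 𝒴.obj) (φ : F.toFunctor.obj x ≅ G.toFunctor.obj y)
    (h : Vert φ.hom) : (fp F G).obj :=
  ⟨⟨x, y, φ⟩, h.lift (F.w_obj x)⟩

theorem vert_iso (t : (fp F G).obj) : Vert t.obj.iso.hom :=
  Vert.of_lift (Groth.Agent.Lib.Helper27.StackFp.iso_lift t)

/-- Morphisms of the 2-fibre product. -/
def mkHom {t t' : (fp F G).obj} (α : t.obj.fst ⟶ t'.obj.fst) (β : t.obj.snd ⟶ t'.obj.snd)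
    (w : F.toFunctor.map α ≫ t'.obj.iso.hom = t.obj.iso.hom ≫ G.toFunctor.map β) : t ⟶ t' :=
  ObjectProperty.homMk ⟨α, β, w⟩

@[simp] theorem mkHom_fst {t t' : (fp F G).obj} (α : t.obj.fst ⟶ t'.obj.fst)
    (β : t.obj.snd ⟶ t'.obj.snd)
    (w : F.toFunctor.map α ≫ t'.obj.iso.hom = t.obj.iso.hom ≫ G.toFunctor.map β) :
    (mkHom α β w).hom.fst = α := rfl

@[simp] theorem mkHom_snd {t t' : (fp F G).obj} (α : t.obj.fst ⟶ t'.obj.fst)
    (β : t.obj.snd ⟶ t'.obj.snd)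
    (w : F.toFunctor.map α ≫ t'.obj.iso.hom = t.obj.iso.hom ≫ G.toFunctor.map β) :
    (mkHom α β w).hom.snd = β := rfl

theorem comp_fst {t t' t'' : (fp F G).obj} (Φ : t ⟶ t') (Ψ : t' ⟶ t'') :
    (Φ ≫ Ψ).hom.fst = Φ.hom.fst ≫ Ψ.hom.fst := rfl

theorem comp_snd {t t' t'' : (fp F G).obj} (Φ : t ⟶ t') (Ψ : t' ⟶ t'') :
    (Φ ≫ Ψ).hom.snd = Φ.hom.snd ≫ Ψ.hom.snd := rfl

theorem id_fst (t : (fp F G).obj) : (𝟙 t : t ⟶ t).hom.fst = 𝟙 _ := rfl

theorem id_snd (t : (fp F G).obj) : (𝟙 t : t ⟶ t).hom.snd = 𝟙 _ := rfl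

theorem hom_w {t t' : (fp F G).obj} (Φ : t ⟶ t') :
    F.toFunctor.map Φ.hom.fst ≫ t'.obj.iso.hom = t.obj.iso.hom ≫ G.toFunctor.map Φ.hom.snd :=
  Φ.hom.w

/-- Isomorphisms of the 2-fibre product. -/
def mkIso {t t' : (fp F G).obj} (α : t.obj.fst ≅ t'.obj.fst) (β : t.obj.snd ≅ t'.obj.snd)
    (w : F.toFunctor.map α.hom ≫ t'.obj.iso.hom = t.obj.iso.hom ≫ G.toFunctor.map β.hom) :
    t ≅ t' where
  hom := mkHom α.hom β.hom w
  inv := mkHom α.inv β.inv (by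
    have h1 : F.toFunctor.map α.inv ≫ F.toFunctor.map α.hom = 𝟙 _ := by
      rw [← F.toFunctor.map_comp, Iso.inv_hom_id, F.toFunctor.map_id]
    have h2 : G.toFunctor.map β.hom ≫ G.toFunctor.map β.inv = 𝟙 _ := by
      rw [← G.toFunctor.map_comp, Iso.hom_inv_id, G.toFunctor.map_id]
    calc F.toFunctor.map α.inv ≫ t.obj.iso.hom
        = F.toFunctor.map α.inv ≫ (t.obj.iso.hom ≫ G.toFunctor.map β.hom) ≫
            G.toFunctor.map β.inv := by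
          rw [Category.assoc, h2, Category.comp_id]
      _ = t'.obj.iso.hom ≫ G.toFunctor.map β.inv := by
          rw [← w, Category.assoc, ← Category.assoc, ← Category.assoc, h1, Category.id_comp])
  hom_inv_id := Groth.Agent.Lib.Helper27.StackFp.hom_ext'
    (by rw [comp_fst, mkHom_fst, mkHom_fst, Iso.hom_inv_id]; rfl)
    (by rw [comp_snd, mkHom_snd, mkHom_snd, Iso.hom_inv_id]; rfl)
  inv_hom_id := Groth.Agent.Lib.Helper27.StackFp.hom_ext'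
    (by rw [comp_fst, mkHom_fst, mkHom_fst, Iso.inv_hom_id]; rfl)
    (by rw [comp_snd, mkHom_snd, mkHom_snd, Iso.inv_hom_id]; rfl)

theorem vert_hom_iff {t t' : (fp F G).obj} (Φ : t ⟶ t') : Vert Φ ↔ Vert Φ.hom.fst := by
  constructor
  · intro h
    exact Vert.of_lift (Groth.Agent.Lib.Helper27.StackFp.fst_lift Φ _ h)
  · intro h
    exact Vert.of_lift (Groth.Agent.Lib.Helper27.StackFp.lift_of_fst Φ _ h)

end Basic

section Map

variable {𝒳 : BasedCategory.{v₂, u₂} C} {𝒴 : BasedCategory.{v₃, u₃} C}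
  {𝒮 : BasedCategory.{v₄, u₄} C} {𝒳' : BasedCategory.{v₅, u₅} C}
  {𝒴' : BasedCategory.{v₆, u₆} C} {𝒮' : BasedCategory.{v₇, u₇} C}
  (F : 𝒳 ⥤ᵇ 𝒮) (G : 𝒴 ⥤ᵇ 𝒮) (F' : 𝒳' ⥤ᵇ 𝒮') (G' : 𝒴' ⥤ᵇ 𝒮')
  (a : 𝒳' ⥤ᵇ 𝒳) (b : 𝒴' ⥤ᵇ 𝒴) (c : 𝒮' ⥤ᵇ 𝒮)

/-- Data of a morphism of cospans (two squares commuting up to vertical isomorphisms). -/
structure MapData where
  e₁ : ∀ x' : 𝒳'.obj,
    c.toFunctor.obj (F'.toFunctor.obj x') ≅ F.toFunctor.obj (a.toFunctor.obj x')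
  n₁ : ∀ {x' x'' : 𝒳'.obj} (α : x' ⟶ x''),
    c.toFunctor.map (F'.toFunctor.map α) ≫ (e₁ x'').hom =
      (e₁ x').hom ≫ F.toFunctor.map (a.toFunctor.map α)
  l₁ : ∀ x' : 𝒳'.obj, Vert (e₁ x').hom
  e₂ : ∀ y' : 𝒴'.obj,
    c.toFunctor.obj (G'.toFunctor.obj y') ≅ G.toFunctor.obj (b.toFunctor.obj y')
  n₂ : ∀ {y' y'' : 𝒴'.obj} (β : y' ⟶ y''),
    c.toFunctor.map (G'.toFunctor.map β) ≫ (e₂ y'').hom =
      (e₂ y').hom ≫ G.toFunctor.map (b.toFunctor.map β)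
  l₂ : ∀ y' : 𝒴'.obj, Vert (e₂ y').hom

variable {F G F' G' a b c} (D : MapData F G F' G' a b c)

theorem MapData.n₁' {x' x'' : 𝒳'.obj} (α : x' ⟶ x'') :
    F.toFunctor.map (a.toFunctor.map α) ≫ (D.e₁ x'').inv =
      (D.e₁ x').inv ≫ c.toFunctor.map (F'.toFunctor.map α) := by
  rw [Iso.comp_inv_eq, Category.assoc, D.n₁, Iso.inv_hom_id_assoc]

/-- The image of an object. -/
def mapObj (t : (fp F' G').obj) : (fp F G).obj :=
  mkObj (a.toFunctor.obj t.obj.fst) (b.toFunctor.obj t.obj.snd)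
    ((D.e₁ t.obj.fst).symm ≪≫ c.toFunctor.mapIso t.obj.iso ≪≫ D.e₂ t.obj.snd)
    (by
      have h1 : Vert (D.e₁ t.obj.fst).symm.hom := Vert.inv (D.l₁ t.obj.fst)
      have h2 : Vert (c.toFunctor.mapIso t.obj.iso).hom := (vert_iso t).map c
      have h3 : Vert (D.e₂ t.obj.snd).hom := D.l₂ t.obj.snd
      exact h1.comp (h2.comp h3))

theorem mapObj_iso_hom (t : (fp F' G').obj) :
    (mapObj D t).obj.iso.hom =
      (D.e₁ t.obj.fst).inv ≫ c.toFunctor.map t.obj.iso.hom ≫ (D.e₂ t.obj.snd).hom := rfl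

theorem map_w {t t' : (fp F' G').obj} (Φ : t ⟶ t') :
    F.toFunctor.map (a.toFunctor.map Φ.hom.fst) ≫ (mapObj D t').obj.iso.hom =
      (mapObj D t).obj.iso.hom ≫ G.toFunctor.map (b.toFunctor.map Φ.hom.snd) := by
  rw [mapObj_iso_hom, mapObj_iso_hom]
  calc F.toFunctor.map (a.toFunctor.map Φ.hom.fst) ≫
        (D.e₁ t'.obj.fst).inv ≫ c.toFunctor.map t'.obj.iso.hom ≫ (D.e₂ t'.obj.snd).hom
      = (D.e₁ t.obj.fst).inv ≫ c.toFunctor.map (F'.toFunctor.map Φ.hom.fst ≫ t'.obj.iso.hom) ≫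
          (D.e₂ t'.obj.snd).hom := by
        rw [← Category.assoc, D.n₁', c.toFunctor.map_comp]
        simp only [Category.assoc]
    _ = (D.e₁ t.obj.fst).inv ≫ c.toFunctor.map (t.obj.iso.hom ≫ G'.toFunctor.map Φ.hom.snd) ≫
          (D.e₂ t'.obj.snd).hom := by rw [hom_w Φ]
    _ = ((D.e₁ t.obj.fst).inv ≫ c.toFunctor.map t.obj.iso.hom ≫ (D.e₂ t.obj.snd).hom) ≫
          G.toFunctor.map (b.toFunctor.map Φ.hom.snd) := by
        rw [c.toFunctor.map_comp]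
        simp only [Category.assoc]
        rw [D.n₂]

/-- The functor between 2-fibre products induced by a morphism of cospans. -/
def fpMap : fp F' G' ⥤ᵇ fp F G where
  toFunctor :=
    { obj := mapObj D
      map := fun {t t'} Φ =>
        mkHom (t := mapObj D t) (t' := mapObj D t') (a.toFunctor.map Φ.hom.fst)
          (b.toFunctor.map Φ.hom.snd) (map_w D Φ)
      map_id := fun t => by
        apply Groth.Agent.Lib.Helper27.StackFp.hom_ext'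
        · rw [mkHom_fst, id_fst, id_fst]; exact a.toFunctor.map_id _
        · rw [mkHom_snd, id_snd, id_snd]; exact b.toFunctor.map_id _
      map_comp := fun {t t' t''} Φ Ψ => by
        apply Groth.Agent.Lib.Helper27.StackFp.hom_ext'
        · rw [mkHom_fst, comp_fst, comp_fst, mkHom_fst, mkHom_fst]
          exact a.toFunctor.map_comp _ _
        · rw [mkHom_snd, comp_snd, comp_snd, mkHom_snd, mkHom_snd]
          exact b.toFunctor.map_comp _ _ }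
  w := CategoryTheory.Functor.ext (fun t => a.w_obj t.obj.fst)
    (fun t t' Φ => by simpa using Functor.congr_hom a.w Φ.hom.fst)

theorem fpMap_map_fst {t t' : (fp F' G').obj} (Φ : t ⟶ t') :
    ((fpMap D).toFunctor.map Φ).hom.fst = a.toFunctor.map Φ.hom.fst := rfl

theorem fpMap_map_snd {t t' : (fp F' G').obj} (Φ : t ⟶ t') :
    ((fpMap D).toFunctor.map Φ).hom.snd = b.toFunctor.map Φ.hom.snd := rfl

theorem fpMap_obj (t : (fp F' G').obj) : (fpMap D).toFunctor.obj t = mapObj D t := rfl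

theorem fpMap_faithful [a.toFunctor.Faithful] [b.toFunctor.Faithful] :
    (fpMap D).toFunctor.Faithful := by
  constructor
  intro t t' Φ Ψ h
  apply Groth.Agent.Lib.Helper27.StackFp.hom_ext'
  · apply a.toFunctor.map_injective
    have := congrArg (fun Θ => Θ.hom.fst) h
    exact this
  · apply b.toFunctor.map_injective
    have := congrArg (fun Θ => Θ.hom.snd) h
    exact this

theorem fpMap_full [a.toFunctor.Full] [b.toFunctor.Full] [c.toFunctor.Faithful] :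
    (fpMap D).toFunctor.Full := by
  constructor
  intro t t' Θ
  obtain ⟨α, hα⟩ := a.toFunctor.map_surjective Θ.hom.fst
  obtain ⟨β, hβ⟩ := b.toFunctor.map_surjective Θ.hom.snd
  have hw : F'.toFunctor.map α ≫ t'.obj.iso.hom = t.obj.iso.hom ≫ G'.toFunctor.map β := by
    apply c.toFunctor.map_injective
    have h0 := hom_w Θ
    rw [← hα, ← hβ] at h0
    change F.toFunctor.map (a.toFunctor.map α) ≫ (mapObj D t').obj.iso.hom =
      (mapObj D t).obj.iso.hom ≫ G.toFunctor.map (b.toFunctor.map β) at h0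
    rw [mapObj_iso_hom, mapObj_iso_hom] at h0
    have h1 : (D.e₁ t.obj.fst).inv ≫ (c.toFunctor.map (F'.toFunctor.map α ≫ t'.obj.iso.hom)) ≫
        (D.e₂ t'.obj.snd).hom =
        (D.e₁ t.obj.fst).inv ≫ (c.toFunctor.map (t.obj.iso.hom ≫ G'.toFunctor.map β)) ≫
        (D.e₂ t'.obj.snd).hom := by
      calc (D.e₁ t.obj.fst).inv ≫ (c.toFunctor.map (F'.toFunctor.map α ≫ t'.obj.iso.hom)) ≫
            (D.e₂ t'.obj.snd).hom
          = F.toFunctor.map (a.toFunctor.map α) ≫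
              (D.e₁ t'.obj.fst).inv ≫ c.toFunctor.map t'.obj.iso.hom ≫ (D.e₂ t'.obj.snd).hom := by
            rw [← Category.assoc (F.toFunctor.map (a.toFunctor.map α)), D.n₁',
              c.toFunctor.map_comp]
            simp only [Category.assoc]
        _ = ((D.e₁ t.obj.fst).inv ≫ c.toFunctor.map t.obj.iso.hom ≫ (D.e₂ t.obj.snd).hom) ≫
              G.toFunctor.map (b.toFunctor.map β) := h0
        _ = (D.e₁ t.obj.fst).inv ≫ (c.toFunctor.map (t.obj.iso.hom ≫ G'.toFunctor.map β)) ≫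
              (D.e₂ t'.obj.snd).hom := by
            rw [c.toFunctor.map_comp]
            simp only [Category.assoc]
            rw [D.n₂]
    have h2 := (cancel_epi (D.e₁ t.obj.fst).inv).1 h1
    exact (cancel_mono (D.e₂ t'.obj.snd).hom).1 h2
  refine ⟨mkHom α β hw, ?_⟩
  apply Groth.Agent.Lib.Helper27.StackFp.hom_ext'
  · rw [fpMap_map_fst, mkHom_fst, hα]
  · rw [fpMap_map_snd, mkHom_snd, hβ]

theorem fpMap_ess [c.toFunctor.Full] [c.toFunctor.Faithful]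
    (ha : ∀ x : 𝒳.obj, ∃ (x' : 𝒳'.obj) (ε : a.toFunctor.obj x' ≅ x), Vert ε.hom)
    (hb : ∀ y : 𝒴.obj, ∃ (y' : 𝒴'.obj) (δ : b.toFunctor.obj y' ≅ y), Vert δ.hom)
    (s : (fp F G).obj) :
    ∃ (t : (fp F' G').obj) (e : (fpMap D).toFunctor.obj t ≅ s), Vert e.hom := by
  obtain ⟨x', ε, hε⟩ := ha s.obj.fst
  obtain ⟨y', δ, hδ⟩ := hb s.obj.snd
  let θ : c.toFunctor.obj (F'.toFunctor.obj x') ≅ c.toFunctor.obj (G'.toFunctor.obj y') :=
    D.e₁ x' ≪≫ F.toFunctor.mapIso ε ≪≫ s.obj.iso ≪≫ G.toFunctor.mapIso δ.symm ≪≫ (D.e₂ y').symm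
  have hθ : Vert θ.hom := by
    have h1 : Vert (D.e₁ x').hom := D.l₁ x'
    have h2 : Vert (F.toFunctor.mapIso ε).hom := hε.map F
    have h3 : Vert s.obj.iso.hom := vert_iso s
    have h4 : Vert (G.toFunctor.mapIso δ.symm).hom := (Vert.inv hδ).map G
    have h5 : Vert (D.e₂ y').symm.hom := Vert.inv (D.l₂ y')
    exact h1.comp (h2.comp (h3.comp (h4.comp h5)))
  let φ : F'.toFunctor.obj x' ≅ G'.toFunctor.obj y' := c.toFunctor.preimageIso θ
  have hφ : c.toFunctor.map φ.hom = θ.hom := by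
    simp [φ]
  have hφv : Vert φ.hom := by
    apply Vert.of_map c
    rw [hφ]
    exact hθ
  let t : (fp F' G').obj := mkObj x' y' φ hφv
  have hw : F.toFunctor.map ε.hom ≫ s.obj.iso.hom =
      (mapObj D t).obj.iso.hom ≫ G.toFunctor.map δ.hom := by
    rw [mapObj_iso_hom]
    change _ = ((D.e₁ x').inv ≫ c.toFunctor.map φ.hom ≫ (D.e₂ y').hom) ≫ G.toFunctor.map δ.hom
    rw [hφ]
    simp only [θ, Iso.trans_hom, Functor.mapIso_hom, Iso.symm_hom, Category.assoc,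
      Iso.inv_hom_id_assoc, Iso.inv_hom_id, Category.comp_id]
    rw [← G.toFunctor.map_comp, Iso.inv_hom_id, G.toFunctor.map_id, Category.comp_id]
  refine ⟨t, mkIso (t := mapObj D t) (t' := s) ε δ hw, ?_⟩
  rw [vert_hom_iff]
  exact hε

theorem ess_of_equiv {𝒜 : BasedCategory.{v₂, u₂} C} {ℬ : BasedCategory.{v₃, u₃} C}
    (E : 𝒜 ⥤ᵇ ℬ) (hE : IsEquivOver E) (y : ℬ.obj) :
    ∃ (x : 𝒜.obj) (ε : E.toFunctor.obj x ≅ y), Vert ε.hom := by
  obtain ⟨-, h⟩ := (Groth.Agent.Lib.Helper27.EquivOverAux.isEquivOver_iff_ff_ess E).1 hE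
  obtain ⟨x, ε, hε⟩ := h y
  exact ⟨x, ε, Vert.of_lift hε⟩

theorem isEquivOver_of_ess {𝒜 : BasedCategory.{v₂, u₂} C} {ℬ : BasedCategory.{v₃, u₃} C}
    (E : 𝒜 ⥤ᵇ ℬ) (h1 : E.toFunctor.Full) (h2 : E.toFunctor.Faithful)
    (h3 : ∀ y : ℬ.obj, ∃ (x : 𝒜.obj) (ε : E.toFunctor.obj x ≅ y), Vert ε.hom) :
    IsEquivOver E := by
  refine (Groth.Agent.Lib.Helper27.EquivOverAux.isEquivOver_iff_ff_ess E).2 ⟨⟨h1, h2⟩, ?_⟩
  intro y
  obtain ⟨x, ε, hε⟩ := h3 y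
  exact ⟨x, ε, hε.lift' rfl⟩

theorem full_of_equiv {𝒜 : BasedCategory.{v₂, u₂} C} {ℬ : BasedCategory.{v₃, u₃} C}
    (E : 𝒜 ⥤ᵇ ℬ) (hE : IsEquivOver E) : E.toFunctor.Full :=
  ((Groth.Agent.Lib.Helper27.EquivOverAux.isEquivOver_iff_ff_ess E).1 hE).1.1

theorem faithful_of_equiv {𝒜 : BasedCategory.{v₂, u₂} C} {ℬ : BasedCategory.{v₃, u₃} C}
    (E : 𝒜 ⥤ᵇ ℬ) (hE : IsEquivOver E) : E.toFunctor.Faithful :=
  ((Groth.Agent.Lib.Helper27.EquivOverAux.isEquivOver_iff_ff_ess E).1 hE).1.2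

theorem isEquivOver_fpMap (ha : IsEquivOver a) (hb : IsEquivOver b) (hc : IsEquivOver c) :
    IsEquivOver (fpMap D) := by
  have := full_of_equiv a ha
  have := faithful_of_equiv a ha
  have := full_of_equiv b hb
  have := faithful_of_equiv b hb
  have := full_of_equiv c hc
  have := faithful_of_equiv c hc
  exact isEquivOver_of_ess (fpMap D) (fpMap_full D) (fpMap_faithful D)
    (fpMap_ess D (ess_of_equiv a ha) (ess_of_equiv b hb))

end Map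

section Equiv

variable {𝒜 : BasedCategory.{v₂, u₂} C} {ℬ : BasedCategory.{v₃, u₃} C}
  {𝒟 : BasedCategory.{v₄, u₄} C}

theorem isEquivOver_id (𝒜 : BasedCategory.{v₂, u₂} C) : IsEquivOver (BasedFunctor.id 𝒜) := by
  apply isEquivOver_of_ess
  · exact (inferInstance : (𝟭 𝒜.obj).Full)
  · exact (inferInstance : (𝟭 𝒜.obj).Faithful)
  · intro y
    exact ⟨y, Iso.refl _, Vert.id y⟩

theorem isEquivOver_comp (E₁ : 𝒜 ⥤ᵇ ℬ) (E₂ : ℬ ⥤ᵇ 𝒟) (h₁ : IsEquivOver E₁)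
    (h₂ : IsEquivOver E₂) : IsEquivOver (BasedFunctor.comp E₁ E₂) := by
  have := full_of_equiv E₁ h₁
  have := faithful_of_equiv E₁ h₁
  have := full_of_equiv E₂ h₂
  have := faithful_of_equiv E₂ h₂
  apply isEquivOver_of_ess
  · exact (inferInstance : (E₁.toFunctor ⋙ E₂.toFunctor).Full)
  · exact (inferInstance : (E₁.toFunctor ⋙ E₂.toFunctor).Faithful)
  · intro z
    obtain ⟨y, δ, hδ⟩ := ess_of_equiv E₂ h₂ z
    obtain ⟨x, ε, hε⟩ := ess_of_equiv E₁ h₁ y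
    exact ⟨x, E₂.toFunctor.mapIso ε ≪≫ δ, (hε.map E₂).comp hδ⟩

theorem exists_inverse (E : 𝒜 ⥤ᵇ ℬ) (h : IsEquivOver E) :
    ∃ E' : ℬ ⥤ᵇ 𝒜, IsEquivOver E' ∧ Nonempty (BasedFunctor.comp E E' ≅ BasedFunctor.id 𝒜) ∧
      Nonempty (BasedFunctor.comp E' E ≅ BasedFunctor.id ℬ) := by
  obtain ⟨E', e1, e2⟩ := h
  exact ⟨E', ⟨E, e2, e1⟩, e1, e2⟩

theorem isRepresentable_of_equiv (E : 𝒜 ⥤ᵇ ℬ) (h : IsEquivOver E)
    (hℬ : FibCat.IsRepresentable ℬ) : FibCat.IsRepresentable 𝒜 := by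
  obtain ⟨U, F, hF⟩ := hℬ
  exact ⟨U, BasedFunctor.comp E F, isEquivOver_comp E F h hF⟩

theorem isRepresentable_of_equiv' (E : 𝒜 ⥤ᵇ ℬ) (h : IsEquivOver E)
    (h𝒜 : FibCat.IsRepresentable 𝒜) : FibCat.IsRepresentable ℬ := by
  obtain ⟨E', hE', -, -⟩ := exists_inverse E h
  exact isRepresentable_of_equiv E' hE' h𝒜

end Equiv

section PasteL

variable {𝒳 : BasedCategory.{v₂, u₂} C} {𝒴 : BasedCategory.{v₃, u₃} C}
  {𝒵 : BasedCategory.{v₄, u₄} C} {𝒜 : BasedCategory.{v₅, u₅} C}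
  (f : 𝒳 ⥤ᵇ 𝒴) (g : 𝒵 ⥤ᵇ 𝒴) (G : 𝒜 ⥤ᵇ 𝒵)

/-- Object part of the pasting functor. -/
def pasteLObj (t : (fp G (fpFst g f)).obj) : (fp (BasedFunctor.comp G g) f).obj :=
  mkObj (F := BasedFunctor.comp G g) (G := f) t.obj.fst t.obj.snd.obj.snd
    (g.toFunctor.mapIso t.obj.iso ≪≫ t.obj.snd.obj.iso)
    (((vert_iso t).map g).comp (vert_iso t.obj.snd))

theorem pasteLObj_iso_hom (t : (fp G (fpFst g f)).obj) :
    (pasteLObj f g G t).obj.iso.hom = g.toFunctor.map t.obj.iso.hom ≫ t.obj.snd.obj.iso.hom := rfl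

theorem pasteL_w {t t' : (fp G (fpFst g f)).obj} (Θ : t ⟶ t') :
    (BasedFunctor.comp G g).toFunctor.map Θ.hom.fst ≫ (pasteLObj f g G t').obj.iso.hom =
      (pasteLObj f g G t).obj.iso.hom ≫ f.toFunctor.map Θ.hom.snd.hom.snd := by
  rw [pasteLObj_iso_hom, pasteLObj_iso_hom]
  have h1 : G.toFunctor.map Θ.hom.fst ≫ t'.obj.iso.hom =
      t.obj.iso.hom ≫ Θ.hom.snd.hom.fst := hom_w Θ
  have h2 : g.toFunctor.map Θ.hom.snd.hom.fst ≫ t'.obj.snd.obj.iso.hom =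
      t.obj.snd.obj.iso.hom ≫ f.toFunctor.map Θ.hom.snd.hom.snd := hom_w Θ.hom.snd
  calc g.toFunctor.map (G.toFunctor.map Θ.hom.fst) ≫
        g.toFunctor.map t'.obj.iso.hom ≫ t'.obj.snd.obj.iso.hom
      = g.toFunctor.map (G.toFunctor.map Θ.hom.fst ≫ t'.obj.iso.hom) ≫
          t'.obj.snd.obj.iso.hom := by
        rw [g.toFunctor.map_comp, Category.assoc]
    _ = g.toFunctor.map t.obj.iso.hom ≫ g.toFunctor.map Θ.hom.snd.hom.fst ≫
          t'.obj.snd.obj.iso.hom := by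
        rw [h1, g.toFunctor.map_comp, Category.assoc]
    _ = (g.toFunctor.map t.obj.iso.hom ≫ t.obj.snd.obj.iso.hom) ≫
          f.toFunctor.map Θ.hom.snd.hom.snd := by
        rw [h2, Category.assoc]

/-- The pasting functor `𝒜 ×_𝒵 (𝒵 ×_𝒴 𝒳) ⟶ 𝒜 ×_𝒴 𝒳`. -/
def pasteL : fp G (fpFst g f) ⥤ᵇ fp (BasedFunctor.comp G g) f where
  toFunctor :=
    { obj := pasteLObj f g G
      map := fun {t t'} Θ =>
        mkHom (t := pasteLObj f g G t) (t' := pasteLObj f g G t') Θ.hom.fst Θ.hom.snd.hom.snd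
          (pasteL_w f g G Θ)
      map_id := fun t => by
        apply Groth.Agent.Lib.Helper27.StackFp.hom_ext'
        · rfl
        · rfl
      map_comp := fun {t t' t''} Φ Ψ => by
        apply Groth.Agent.Lib.Helper27.StackFp.hom_ext'
        · rfl
        · rfl }
  w := CategoryTheory.Functor.ext (fun t => rfl) (fun t t' Θ => by
    simp only [eqToHom_refl, Category.id_comp, Category.comp_id]
    rfl)

theorem pasteL_faithful : (pasteL f g G).toFunctor.Faithful := by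
  constructor
  intro t t' Θ Θ' h
  have h1 : Θ.hom.fst = Θ'.hom.fst := congrArg (fun Ξ => Ξ.hom.fst) h
  have h2 : Θ.hom.snd.hom.snd = Θ'.hom.snd.hom.snd := congrArg (fun Ξ => Ξ.hom.snd) h
  have w1 : G.toFunctor.map Θ.hom.fst ≫ t'.obj.iso.hom =
      t.obj.iso.hom ≫ Θ.hom.snd.hom.fst := hom_w Θ
  have w2 : G.toFunctor.map Θ'.hom.fst ≫ t'.obj.iso.hom =
      t.obj.iso.hom ≫ Θ'.hom.snd.hom.fst := hom_w Θ'
  have h3 : Θ.hom.snd.hom.fst = Θ'.hom.snd.hom.fst := by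
    apply (cancel_epi t.obj.iso.hom).1
    rw [← w1, ← w2, h1]
  apply Groth.Agent.Lib.Helper27.StackFp.hom_ext' h1
  exact Groth.Agent.Lib.Helper27.StackFp.hom_ext' h3 h2

theorem pasteL_full : (pasteL f g G).toFunctor.Full := by
  constructor
  intro t t' Ξ
  have hΞ : g.toFunctor.map (G.toFunctor.map Ξ.hom.fst) ≫
      g.toFunctor.map t'.obj.iso.hom ≫ t'.obj.snd.obj.iso.hom =
      (g.toFunctor.map t.obj.iso.hom ≫ t.obj.snd.obj.iso.hom) ≫ f.toFunctor.map Ξ.hom.snd :=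
    hom_w Ξ
  let β : t.obj.snd.obj.fst ⟶ t'.obj.snd.obj.fst :=
    t.obj.iso.inv ≫ G.toFunctor.map Ξ.hom.fst ≫ t'.obj.iso.hom
  have hβ : g.toFunctor.map β ≫ t'.obj.snd.obj.iso.hom =
      t.obj.snd.obj.iso.hom ≫ f.toFunctor.map Ξ.hom.snd := by
    have h0 : g.toFunctor.map t.obj.iso.inv ≫ g.toFunctor.map t.obj.iso.hom = 𝟙 _ := by
      rw [← g.toFunctor.map_comp, Iso.inv_hom_id, g.toFunctor.map_id]
    calc g.toFunctor.map β ≫ t'.obj.snd.obj.iso.hom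
        = g.toFunctor.map t.obj.iso.inv ≫ (g.toFunctor.map (G.toFunctor.map Ξ.hom.fst) ≫
            g.toFunctor.map t'.obj.iso.hom ≫ t'.obj.snd.obj.iso.hom) := by
          simp only [β, g.toFunctor.map_comp, Category.assoc]
      _ = t.obj.snd.obj.iso.hom ≫ f.toFunctor.map Ξ.hom.snd := by
          rw [hΞ, Category.assoc, ← Category.assoc, h0, Category.id_comp]
  let Q : t.obj.snd ⟶ t'.obj.snd := mkHom β Ξ.hom.snd hβ
  have hw : G.toFunctor.map Ξ.hom.fst ≫ t'.obj.iso.hom =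
      t.obj.iso.hom ≫ (fpFst g f).toFunctor.map Q := by
    change _ = t.obj.iso.hom ≫ β
    simp only [β, Iso.hom_inv_id_assoc]
  refine ⟨mkHom Ξ.hom.fst Q hw, ?_⟩
  apply Groth.Agent.Lib.Helper27.StackFp.hom_ext'
  · rfl
  · rfl

theorem pasteL_ess (r : (fp (BasedFunctor.comp G g) f).obj) :
    ∃ (t : (fp G (fpFst g f)).obj) (e : (pasteL f g G).toFunctor.obj t ≅ r), Vert e.hom := by
  let q : (fp g f).obj := mkObj (F := g) (G := f) (G.toFunctor.obj r.obj.fst) r.obj.snd r.obj.iso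
    (vert_iso r)
  let t : (fp G (fpFst g f)).obj :=
    mkObj (F := G) (G := fpFst g f) r.obj.fst q (Iso.refl _) (Vert.id _)
  have hw : (BasedFunctor.comp G g).toFunctor.map (Iso.refl r.obj.fst).hom ≫ r.obj.iso.hom =
      (pasteLObj f g G t).obj.iso.hom ≫ f.toFunctor.map (Iso.refl r.obj.snd).hom := by
    rw [pasteLObj_iso_hom]
    change (BasedFunctor.comp G g).toFunctor.map (𝟙 _) ≫ r.obj.iso.hom =
      (g.toFunctor.map (𝟙 _) ≫ r.obj.iso.hom) ≫ f.toFunctor.map (𝟙 _)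
    rw [CategoryTheory.Functor.map_id, CategoryTheory.Functor.map_id,
      CategoryTheory.Functor.map_id, Category.id_comp, Category.id_comp, Category.comp_id]
  refine ⟨t, mkIso (t := pasteLObj f g G t) (t' := r) (Iso.refl _) (Iso.refl _) hw, ?_⟩
  rw [vert_hom_iff]
  exact Vert.id _

theorem isEquivOver_pasteL : IsEquivOver (pasteL f g G) :=
  isEquivOver_of_ess _ (pasteL_full f g G) (pasteL_faithful f g G) (pasteL_ess f g G)

end PasteL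

section PasteR

variable {𝒳 : BasedCategory.{v₂, u₂} C} {𝒴 : BasedCategory.{v₃, u₃} C}
  {𝒵 : BasedCategory.{v₄, u₄} C} {𝒜 : BasedCategory.{v₅, u₅} C}
  (f : 𝒳 ⥤ᵇ 𝒴) (g : 𝒴 ⥤ᵇ 𝒵) (G : 𝒜 ⥤ᵇ 𝒵)

/-- Object part of the second pasting functor. -/
def pasteRObj (t : (fp (fpSnd G g) f).obj) : (fp G (BasedFunctor.comp f g)).obj :=
  mkObj (F := G) (G := BasedFunctor.comp f g) t.obj.fst.obj.fst t.obj.snd
    (t.obj.fst.obj.iso ≪≫ g.toFunctor.mapIso t.obj.iso)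
    ((vert_iso t.obj.fst).comp ((vert_iso t).map g))

theorem pasteRObj_iso_hom (t : (fp (fpSnd G g) f).obj) :
    (pasteRObj f g G t).obj.iso.hom =
      t.obj.fst.obj.iso.hom ≫ g.toFunctor.map t.obj.iso.hom := rfl

theorem pasteR_w {t t' : (fp (fpSnd G g) f).obj} (Θ : t ⟶ t') :
    G.toFunctor.map Θ.hom.fst.hom.fst ≫ (pasteRObj f g G t').obj.iso.hom =
      (pasteRObj f g G t).obj.iso.hom ≫ (BasedFunctor.comp f g).toFunctor.map Θ.hom.snd := by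
  rw [pasteRObj_iso_hom, pasteRObj_iso_hom]
  have h1 : Θ.hom.fst.hom.snd ≫ t'.obj.iso.hom =
      t.obj.iso.hom ≫ f.toFunctor.map Θ.hom.snd := hom_w Θ
  have h2 : G.toFunctor.map Θ.hom.fst.hom.fst ≫ t'.obj.fst.obj.iso.hom =
      t.obj.fst.obj.iso.hom ≫ g.toFunctor.map Θ.hom.fst.hom.snd := hom_w Θ.hom.fst
  calc G.toFunctor.map Θ.hom.fst.hom.fst ≫ t'.obj.fst.obj.iso.hom ≫
        g.toFunctor.map t'.obj.iso.hom
      = t.obj.fst.obj.iso.hom ≫ g.toFunctor.map (Θ.hom.fst.hom.snd ≫ t'.obj.iso.hom) := by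
        rw [← Category.assoc, h2, Category.assoc, g.toFunctor.map_comp]
    _ = (t.obj.fst.obj.iso.hom ≫ g.toFunctor.map t.obj.iso.hom) ≫
          g.toFunctor.map (f.toFunctor.map Θ.hom.snd) := by
        rw [h1, g.toFunctor.map_comp, Category.assoc]

/-- The pasting functor `(𝒜 ×_𝒵 𝒴) ×_𝒴 𝒳 ⟶ 𝒜 ×_𝒵 𝒳`. -/
def pasteR : fp (fpSnd G g) f ⥤ᵇ fp G (BasedFunctor.comp f g) where
  toFunctor :=
    { obj := pasteRObj f g G
      map := fun {t t'} Θ =>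
        mkHom (t := pasteRObj f g G t) (t' := pasteRObj f g G t') Θ.hom.fst.hom.fst Θ.hom.snd
          (pasteR_w f g G Θ)
      map_id := fun t => by
        apply Groth.Agent.Lib.Helper27.StackFp.hom_ext'
        · rfl
        · rfl
      map_comp := fun {t t' t''} Φ Ψ => by
        apply Groth.Agent.Lib.Helper27.StackFp.hom_ext'
        · rfl
        · rfl }
  w := CategoryTheory.Functor.ext (fun t => rfl) (fun t t' Θ => by
    simp only [eqToHom_refl, Category.id_comp, Category.comp_id]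
    rfl)

theorem pasteR_faithful : (pasteR f g G).toFunctor.Faithful := by
  constructor
  intro t t' Θ Θ' h
  have h1 : Θ.hom.fst.hom.fst = Θ'.hom.fst.hom.fst := congrArg (fun Ξ => Ξ.hom.fst) h
  have h2 : Θ.hom.snd = Θ'.hom.snd := congrArg (fun Ξ => Ξ.hom.snd) h
  have w1 : Θ.hom.fst.hom.snd ≫ t'.obj.iso.hom =
      t.obj.iso.hom ≫ f.toFunctor.map Θ.hom.snd := hom_w Θ
  have w2 : Θ'.hom.fst.hom.snd ≫ t'.obj.iso.hom =
      t.obj.iso.hom ≫ f.toFunctor.map Θ'.hom.snd := hom_w Θ'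
  have h3 : Θ.hom.fst.hom.snd = Θ'.hom.fst.hom.snd := by
    apply (cancel_mono t'.obj.iso.hom).1
    rw [w1, w2, h2]
  apply Groth.Agent.Lib.Helper27.StackFp.hom_ext' _ h2
  exact Groth.Agent.Lib.Helper27.StackFp.hom_ext' h1 h3

theorem pasteR_full : (pasteR f g G).toFunctor.Full := by
  constructor
  intro t t' Ξ
  have hΞ : G.toFunctor.map Ξ.hom.fst ≫ t'.obj.fst.obj.iso.hom ≫
      g.toFunctor.map t'.obj.iso.hom =
      (t.obj.fst.obj.iso.hom ≫ g.toFunctor.map t.obj.iso.hom) ≫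
        g.toFunctor.map (f.toFunctor.map Ξ.hom.snd) :=
    hom_w Ξ
  let β : t.obj.fst.obj.snd ⟶ t'.obj.fst.obj.snd :=
    t.obj.iso.hom ≫ f.toFunctor.map Ξ.hom.snd ≫ t'.obj.iso.inv
  have hβ : G.toFunctor.map Ξ.hom.fst ≫ t'.obj.fst.obj.iso.hom =
      t.obj.fst.obj.iso.hom ≫ g.toFunctor.map β := by
    have h0 : g.toFunctor.map t'.obj.iso.hom ≫ g.toFunctor.map t'.obj.iso.inv = 𝟙 _ := by
      rw [← g.toFunctor.map_comp, Iso.hom_inv_id, g.toFunctor.map_id]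
    have h1 : ∀ {A B B' : 𝒵.obj} (m : A ⟶ B) (i : B ⟶ B') (j : B' ⟶ B), i ≫ j = 𝟙 _ →
        m = (m ≫ i) ≫ j := by
      intro A B B' m i j hij
      rw [Category.assoc, hij, Category.comp_id]
    calc G.toFunctor.map Ξ.hom.fst ≫ t'.obj.fst.obj.iso.hom
        = ((G.toFunctor.map Ξ.hom.fst ≫ t'.obj.fst.obj.iso.hom) ≫
            g.toFunctor.map t'.obj.iso.hom) ≫ g.toFunctor.map t'.obj.iso.inv :=
          h1 _ _ _ h0
      _ = (G.toFunctor.map Ξ.hom.fst ≫ t'.obj.fst.obj.iso.hom ≫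
            g.toFunctor.map t'.obj.iso.hom) ≫ g.toFunctor.map t'.obj.iso.inv := by
          rw [Category.assoc (G.toFunctor.map Ξ.hom.fst)]
      _ = t.obj.fst.obj.iso.hom ≫ g.toFunctor.map β := by
          rw [hΞ]
          simp only [β, g.toFunctor.map_comp, Category.assoc]
  let Q : t.obj.fst ⟶ t'.obj.fst := mkHom Ξ.hom.fst β hβ
  have hw : (fpSnd G g).toFunctor.map Q ≫ t'.obj.iso.hom =
      t.obj.iso.hom ≫ f.toFunctor.map Ξ.hom.snd := by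
    change β ≫ t'.obj.iso.hom = _
    simp only [β, Category.assoc, Iso.inv_hom_id, Category.comp_id]
  refine ⟨mkHom Q Ξ.hom.snd hw, ?_⟩
  apply Groth.Agent.Lib.Helper27.StackFp.hom_ext'
  · rfl
  · rfl

theorem pasteR_ess (r : (fp G (BasedFunctor.comp f g)).obj) :
    ∃ (t : (fp (fpSnd G g) f).obj) (e : (pasteR f g G).toFunctor.obj t ≅ r), Vert e.hom := by
  let q : (fp G g).obj := mkObj (F := G) (G := g) r.obj.fst (f.toFunctor.obj r.obj.snd) r.obj.iso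
    (vert_iso r)
  let t : (fp (fpSnd G g) f).obj :=
    mkObj (F := fpSnd G g) (G := f) q r.obj.snd (Iso.refl _) (Vert.id _)
  have hw : G.toFunctor.map (Iso.refl r.obj.fst).hom ≫ r.obj.iso.hom =
      (pasteRObj f g G t).obj.iso.hom ≫
        (BasedFunctor.comp f g).toFunctor.map (Iso.refl r.obj.snd).hom := by
    rw [pasteRObj_iso_hom]
    have h1 : ∀ {A B : 𝒵.obj} (ρ : A ⟶ B) (i : A ⟶ A) (j k : B ⟶ B), i = 𝟙 _ → j = 𝟙 _ →
        k = 𝟙 _ → i ≫ ρ = (ρ ≫ j) ≫ k := by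
      intro A B ρ i j k hi hj hk
      rw [hi, hj, hk, Category.id_comp, Category.comp_id, Category.comp_id]
    exact h1 r.obj.iso.hom _ _ _ (G.toFunctor.map_id _) (g.toFunctor.map_id _)
      ((BasedFunctor.comp f g).toFunctor.map_id _)
  refine ⟨t, mkIso (t := pasteRObj f g G t) (t' := r) (Iso.refl _) (Iso.refl _) hw, ?_⟩
  rw [vert_hom_iff]
  exact Vert.id _

theorem isEquivOver_pasteR : IsEquivOver (pasteR f g G) :=
  isEquivOver_of_ess _ (pasteR_full f g G) (pasteR_faithful f g G) (pasteR_ess f g G)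

end PasteR

end Groth.Agent.Lib.Helper27.FpKit
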