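import Groth.Prelude.Def_FibCat2
import Groth.Agent.Lib.Helper27.FpKit
import Groth.Agent.Lib.Helper27.FpFib

/-!
# Functors between slices over the base (helper27)
-/

set_option autoImplicit false
set_option backward.isDefEq.respectTransparency false
set_option backward.isDefEq.respectTransparency.types false

universe v u

open CategoryTheory CategoryTheory.Limits FibCat Groth.Agent.Lib.Helper27.FpKit

namespace Groth.Agent.Lib.Helper27.SliceYoneda

variable {C : Type u} [Category.{v} C]

/-- Composition with a morphism, as a functor over the base. -/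
abbrev overMap {X Y : C} (f : X ⟶ Y) : overCat X ⥤ᵇ overCat Y :=
  ⟨Over.map f, Over.mapForget_eq f⟩

section Cls

variable {U Y : C} (Φ : overCat U ⥤ᵇ overCat Y)

theorem κ (s : Over U) : (Φ.toFunctor.obj s).left = s.left := Φ.w_obj s

theorem map_left {s s' : Over U} (α : s ⟶ s') :
    (Φ.toFunctor.map α).left = eqToHom (κ Φ s) ≫ α.left ≫ eqToHom (κ Φ s').symm := by
  have := Functor.congr_hom Φ.w α
  exact this

/-- The morphism classifying a functor between slices. -/
def cls : U ⟶ Y :=
  eqToHom (κ Φ (Over.mk (𝟙 U))).symm ≫ (Φ.toFunctor.obj (Over.mk (𝟙 U))).hom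

theorem obj_hom (s : Over U) :
    (Φ.toFunctor.obj s).hom = eqToHom (κ Φ s) ≫ s.hom ≫ cls Φ := by
  let τ : s ⟶ Over.mk (𝟙 U) := Over.homMk s.hom (by simp)
  have h1 := Over.w (Φ.toFunctor.map τ)
  rw [map_left] at h1
  rw [← h1]
  simp [cls, τ]

/-- The components of the comparison isomorphism. -/
def compIso (s : Over U) : Φ.toFunctor.obj s ≅ (Over.map (cls Φ)).obj s :=
  Over.isoMk (eqToIso (κ Φ s)) (by
    rw [obj_hom]
    simp)

theorem compIso_hom_left (s : Over U) : (compIso Φ s).hom.left = eqToHom (κ Φ s) := rfl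

theorem compIso_nat {s s' : Over U} (α : s ⟶ s') :
    Φ.toFunctor.map α ≫ (compIso Φ s').hom = (compIso Φ s).hom ≫ (Over.map (cls Φ)).map α := by
  apply Over.OverMorphism.ext
  rw [Over.comp_left, Over.comp_left, compIso_hom_left, compIso_hom_left, map_left]
  simp

theorem compIso_vert (s : Over U) : Vert (𝒳 := overCat Y) (compIso Φ s).hom := by
  apply Vert.of_lift (U := s.left)
  apply IsHomLift.of_fac (Over.forget Y) (𝟙 s.left) (compIso Φ s).hom (κ Φ s) rfl
  change 𝟙 s.left = eqToHom (κ Φ s).symm ≫ (compIso Φ s).hom.left ≫ eqToHom rfl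
  rw [compIso_hom_left]
  simp

/-- Every functor between slices over the base is composition with a morphism. -/
def iso : Φ ≅ overMap (cls Φ) :=
  BasedNatIso.mkNatIso (NatIso.ofComponents (compIso Φ) (fun α => compIso_nat Φ α))
    (fun s => (compIso_vert Φ s).lift (κ Φ s))

end Cls

section VertOver

variable {Y : C}

theorem vert_of_left {a b : Over Y} (φ : a ⟶ b) (e : a.left = b.left)
    (hφ : φ.left = eqToHom e) : Vert (𝒳 := overCat Y) φ := by
  apply Vert.of_lift (U := a.left)
  apply IsHomLift.of_fac (Over.forget Y) (𝟙 a.left) φ rfl e.symm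
  change 𝟙 a.left = eqToHom rfl ≫ φ.left ≫ eqToHom e.symm
  rw [hφ]
  simp

theorem left_of_vert {a b : Over Y} (φ : a ⟶ b) (hv : Vert (𝒳 := overCat Y) φ) :
    ∃ e : a.left = b.left, φ.left = eqToHom e := by
  have h1 : (Over.forget Y).IsHomLift (𝟙 a.left) φ := hv
  have e : b.left = a.left := IsHomLift.codomain_eq (Over.forget Y) (𝟙 a.left) φ
  refine ⟨e.symm, ?_⟩
  have h2 := IsHomLift.fac' (Over.forget Y) (𝟙 a.left) φ
  change φ.left = _ at h2
  rw [h2]
  simp

end VertOver

section Pullback

variable [HasPullbacks C] {U X Y : C} (h : U ⟶ Y) (f : X ⟶ Y)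

/-- The terminal object of the 2-fibre product of two slices over a slice. -/
noncomputable def term : (fp (overMap h) (overMap f)).obj :=
  mkObj (F := overMap h) (G := overMap f) (Over.mk (pullback.fst h f))
    (Over.mk (pullback.snd h f))
    (Over.isoMk (Iso.refl _) (by
      change 𝟙 _ ≫ (pullback.snd h f ≫ f) = pullback.fst h f ≫ h
      rw [Category.id_comp, pullback.condition]))
    (vert_of_left _ rfl rfl)

theorem term_iso_left : (term h f).obj.iso.hom.left = 𝟙 _ := rfl

theorem isTerm_term :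
    Groth.Agent.Lib.Helper27.ReprAux.IsTerm (fp (overMap h) (overMap f)) (term h f) := by
  intro ρ
  obtain ⟨lam, hlam⟩ := left_of_vert ρ.obj.iso.hom (vert_iso ρ)
  have lam' : ρ.obj.fst.left = ρ.obj.snd.left := lam
  have hlam' : ρ.obj.iso.hom.left = eqToHom lam' := hlam
  have hw : eqToHom lam' ≫ ρ.obj.snd.hom ≫ f = ρ.obj.fst.hom ≫ h := by
    have h0 := Over.w ρ.obj.iso.hom
    rw [hlam'] at h0
    exact h0
  let lft : ρ.obj.fst.left ⟶ pullback h f :=
    pullback.lift ρ.obj.fst.hom (eqToHom lam' ≫ ρ.obj.snd.hom) (by rw [Category.assoc, hw])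
  have hl1 : lft ≫ pullback.fst h f = ρ.obj.fst.hom := pullback.lift_fst _ _ _
  have hl2 : lft ≫ pullback.snd h f = eqToHom lam' ≫ ρ.obj.snd.hom := pullback.lift_snd _ _ _
  let α : ρ.obj.fst ⟶ Over.mk (pullback.fst h f) := Over.homMk lft hl1
  let β : ρ.obj.snd ⟶ Over.mk (pullback.snd h f) := Over.homMk (eqToHom lam'.symm ≫ lft) (by
    change (eqToHom lam'.symm ≫ lft) ≫ pullback.snd h f = ρ.obj.snd.hom
    rw [Category.assoc, hl2, ← Category.assoc, eqToHom_trans, eqToHom_refl, Category.id_comp])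
  have hαβ : (overMap h).toFunctor.map α ≫ (term h f).obj.iso.hom =
      ρ.obj.iso.hom ≫ (overMap f).toFunctor.map β := by
    apply Over.OverMorphism.ext
    change lft ≫ 𝟙 _ = ρ.obj.iso.hom.left ≫ (eqToHom lam'.symm ≫ lft)
    rw [hlam', Category.comp_id, ← Category.assoc, eqToHom_trans, eqToHom_refl, Category.id_comp]
  refine ⟨⟨⟨mkHom α β hαβ⟩, fun Θ => ?_⟩⟩
  have hΘ := congrArg (fun m => m.left) (hom_w Θ)
  have hΘ' : Θ.hom.fst.left ≫ 𝟙 _ = ρ.obj.iso.hom.left ≫ Θ.hom.snd.left := hΘ
  rw [Category.comp_id, hlam'] at hΘ'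
  have w1 : Θ.hom.fst.left ≫ pullback.fst h f = ρ.obj.fst.hom := Over.w Θ.hom.fst
  have w2 : Θ.hom.snd.left ≫ pullback.snd h f = ρ.obj.snd.hom := Over.w Θ.hom.snd
  have e1 : Θ.hom.fst.left = lft := by
    apply pullback.hom_ext
    · rw [w1, hl1]
    · rw [hl2, hΘ', Category.assoc, w2]
  apply Groth.Agent.Lib.Helper27.StackFp.hom_ext'
  · apply Over.OverMorphism.ext
    exact e1
  · apply Over.OverMorphism.ext
    change Θ.hom.snd.left = eqToHom lam'.symm ≫ lft
    rw [← e1, hΘ', ← Category.assoc, eqToHom_trans, eqToHom_refl, Category.id_comp]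

theorem isRepresentable_fp_overMap : FibCat.IsRepresentable (fp (overMap h) (overMap f)) := by
  rw [Groth.Agent.Lib.Helper27.ReprAux.isRepresentable_iff]
  refine ⟨Groth.Agent.Lib.Helper27.FpFib.isFibGrpd_fp _ _
    (Groth.Agent.Lib.Helper27.ReprAux.isFibGrpd_overCat U)
    (Groth.Agent.Lib.Helper27.ReprAux.isFibGrpd_overCat X)
    (Groth.Agent.Lib.Helper27.ReprAux.isFibGrpd_overCat Y), term h f, isTerm_term h f⟩

theorem isRepresentable1_overMap : FibCat.IsRepresentable1 (overMap f) := by
  intro U G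
  let D : MapData (overMap (cls G)) (overMap f) G (overMap f) (BasedFunctor.id _)
      (BasedFunctor.id _) (BasedFunctor.id _) :=
    { e₁ := fun s => compIso G s
      n₁ := fun α => compIso_nat G α
      l₁ := fun s => compIso_vert G s
      e₂ := fun _ => Iso.refl _
      n₂ := fun β => (Category.comp_id _).trans (Category.id_comp _).symm
      l₂ := fun _ => Vert.id _ }
  exact isRepresentable_of_equiv _
    (isEquivOver_fpMap D (isEquivOver_id _) (isEquivOver_id _) (isEquivOver_id _))
    (isRepresentable_fp_overMap (cls G) f)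

end Pullback

end Groth.Agent.Lib.Helper27.SliceYoneda
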