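import Groth.Prelude.Def_AlgSt2
import Groth.Agent.Lib.Helper27.FpKit
import Groth.Agent.Lib.Helper27.SliceYoneda

/-!
# Transporting representability by algebraic spaces with a property (helper27)
-/

set_option autoImplicit false
set_option backward.isDefEq.respectTransparency false
set_option backward.isDefEq.respectTransparency.types false

universe v₃ u₃ v₂ u₂ u

open CategoryTheory CategoryTheory.Limits FibCat AlgebraicGeometry Opposite
  Groth.Agent.Lib.Helper27.FpKit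

namespace Groth.Agent.Lib.Helper27.RepWithKit

variable {S : Scheme.{u}}

theorem secHom_congr {F : AlgSp.Sp S} {U : Over S} (Φ Φ' : AlgSt.ofSp F ⥤ᵇ overCat U)
    (a : (AlgSt.ofSp F).obj) (m : Φ.obj a ⟶ Φ'.obj a) (hm : Vert (𝒳 := overCat U) m) :
    AlgSt.secHom Φ a = AlgSt.secHom Φ' a := by
  obtain ⟨lam, hlam⟩ := Groth.Agent.Lib.Helper27.SliceYoneda.left_of_vert m hm
  have h0 := Over.w m
  unfold AlgSt.secHom
  rw [← h0, hlam, ← Category.assoc, eqToHom_trans]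

theorem spMapOfOver_congr {F : AlgSp.Sp S} {U : Over S} (Φ Φ' : AlgSt.ofSp F ⥤ᵇ overCat U)
    (h : ∀ a : (AlgSt.ofSp F).obj, ∃ m : Φ.obj a ⟶ Φ'.obj a, Vert (𝒳 := overCat U) m) :
    AlgSt.spMapOfOver Φ = AlgSt.spMapOfOver Φ' := by
  apply ObjectProperty.hom_ext
  apply NatTrans.ext
  funext T
  ext x
  obtain ⟨m, hm⟩ := h ⟨T.unop, x⟩
  change (⟨AlgSt.secHom Φ ⟨T.unop, x⟩⟩ : ULift _) = ⟨AlgSt.secHom Φ' ⟨T.unop, x⟩⟩
  rw [secHom_congr Φ Φ' _ m hm]

section Transport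

variable {𝒜 : BasedCategory.{v₂, u₂} (Over S)} {ℬ : BasedCategory.{v₃, u₃} (Over S)}
  {U : Over S} (P : MorphismProperty (AlgSp.Sp S))

/-- Transport of a presentation along an equivalence compatible with the projections. -/
theorem transport (E : 𝒜 ⥤ᵇ ℬ) (hE : IsEquivOver E) (p : 𝒜 ⥤ᵇ overCat U) (q : ℬ ⥤ᵇ overCat U)
    (hpq : ∀ t : 𝒜.obj, ∃ m : p.obj t ≅ q.obj (E.obj t), Vert (𝒳 := overCat U) m.hom)
    (h : ∃ (F : AlgSp.Space S) (e : AlgSt.ofSp F.obj ⥤ᵇ 𝒜),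
      IsEquivOver e ∧ P (AlgSt.spMapOfOver (BasedFunctor.comp e p))) :
    ∃ (F : AlgSp.Space S) (e : AlgSt.ofSp F.obj ⥤ᵇ ℬ),
      IsEquivOver e ∧ P (AlgSt.spMapOfOver (BasedFunctor.comp e q)) := by
  obtain ⟨F, e, he, hP⟩ := h
  refine ⟨F, BasedFunctor.comp e E, isEquivOver_comp e E he hE, ?_⟩
  rw [← spMapOfOver_congr (BasedFunctor.comp e p) (BasedFunctor.comp (BasedFunctor.comp e E) q)
    (fun a => by
      obtain ⟨m, hm⟩ := hpq (e.obj a)
      exact ⟨m.hom, hm⟩)]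
  exact hP

/-- Transport of a presentation backwards along an equivalence compatible with the projections. -/
theorem transport' (E : 𝒜 ⥤ᵇ ℬ) (hE : IsEquivOver E) (p : 𝒜 ⥤ᵇ overCat U) (q : ℬ ⥤ᵇ overCat U)
    (hpq : ∀ t : 𝒜.obj, ∃ m : p.obj t ≅ q.obj (E.obj t), Vert (𝒳 := overCat U) m.hom)
    (h : ∃ (F : AlgSp.Space S) (e : AlgSt.ofSp F.obj ⥤ᵇ ℬ),
      IsEquivOver e ∧ P (AlgSt.spMapOfOver (BasedFunctor.comp e q))) :
    ∃ (F : AlgSp.Space S) (e : AlgSt.ofSp F.obj ⥤ᵇ 𝒜),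
      IsEquivOver e ∧ P (AlgSt.spMapOfOver (BasedFunctor.comp e p)) := by
  obtain ⟨E', hE', -, ⟨ε⟩⟩ := exists_inverse E hE
  refine transport P E' hE' q p (fun b => ?_) h
  obtain ⟨m, hm⟩ := hpq (E'.obj b)
  have hv : Vert (q.toFunctor.map (ε.inv.toNatTrans.app b)) := (Vert.app ε.inv b).map q
  have hm' : Vert (𝒳 := overCat U) m.inv := Vert.inv hm
  exact ⟨q.toFunctor.mapIso (((BasedNatTrans.forgetful _ _).mapIso ε).app b).symm ≪≫ m.symm,
    hv.comp hm'⟩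

end Transport

end Groth.Agent.Lib.Helper27.RepWithKit
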