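import Groth.Prelude.Def_AlgSt3
import Groth.Agent.Lib.Helper27.RepWithKit
import Groth.Agent.Lib.Helper27.DiagBaseChange

/-!
# Properties of the diagonal are stable under base change (helper27)
-/

set_option autoImplicit false
set_option backward.isDefEq.respectTransparency false
set_option backward.isDefEq.respectTransparency.types false

universe v₄ u₄ v₃ u₃ v₂ u₂ u

open CategoryTheory CategoryTheory.Limits FibCat AlgebraicGeometry
  Groth.Agent.Lib.Helper27.FpKit

namespace Groth.Agent.Lib.Helper27.DiagRepWith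

variable {S : Scheme.{u}} {𝒳 : BasedCategory.{v₂, u₂} (Over S)}
  {𝒴 : BasedCategory.{v₃, u₃} (Over S)} {𝒴' : BasedCategory.{v₄, u₄} (Over S)}

theorem repByAlgSpWith_diag_fpFst (P : MorphismProperty (AlgSp.Sp S)) (f : 𝒳 ⥤ᵇ 𝒴)
    (g : 𝒴' ⥤ᵇ 𝒴) (h : AlgSt.RepByAlgSpWith P (FibCat.diag f)) :
    AlgSt.RepByAlgSpWith P (FibCat.diag (FibCat.fpFst g f)) := by
  intro U y
  exact Groth.Agent.Lib.Helper27.RepWithKit.transport' P
    (Groth.Agent.Lib.Helper27.DiagBaseChange.Lm f g y)
    (Groth.Agent.Lib.Helper27.DiagBaseChange.isEquivOver_Lm f g y)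
    (FibCat.fpFst y (FibCat.diag (FibCat.fpFst g f)))
    (FibCat.fpFst (BasedFunctor.comp y (Groth.Agent.Lib.Helper27.DiagBaseChange.Pr f g))
      (FibCat.diag f))
    (fun t => ⟨Iso.refl _, Vert.id _⟩)
    (h U (BasedFunctor.comp y (Groth.Agent.Lib.Helper27.DiagBaseChange.Pr f g)))

end Groth.Agent.Lib.Helper27.DiagRepWith
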