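import Groth.Prelude.Def_FibCat2

/-!
# The 2-fibre product of fibred categories is fibred (helper27)
-/

set_option autoImplicit false
set_option backward.isDefEq.respectTransparency false
set_option backward.isDefEq.respectTransparency.types false

universe v₅ u₅ v₄ u₄ v₃ u₃ v₂ u₂ v u

open CategoryTheory CategoryTheory.Limits

namespace Groth.Agent.Lib.Helper27.FpFibered

variable {C : Type u} [Category.{v} C]

theorem exists_sc_lift {𝒵 : Type u₅} [Category.{v₅} 𝒵] (p : 𝒵 ⥤ C) [p.IsFibered] {R S : C}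
    (f : R ⟶ S) (a : 𝒵) (ha : p.obj a = S) :
    ∃ (b : 𝒵) (φ : b ⟶ a), p.IsStronglyCartesian f φ := by
  obtain ⟨b, φ, hφ⟩ := IsPreFibered.exists_isCartesian p ha f
  exact ⟨b, φ, inferInstance⟩

theorem lift_id_congr {𝒵 : Type u₅} [Category.{v₅} 𝒵] (p : 𝒵 ⥤ C) {R R' : C} (h : R = R')
    {a b : 𝒵} (φ : a ⟶ b) (hφ : p.IsHomLift (𝟙 R) φ) : p.IsHomLift (𝟙 R') φ := by
  subst h; exact hφ

variable {𝒳 : BasedCategory.{v₂, u₂} C} {𝒴 : BasedCategory.{v₃, u₃} C}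
  {𝒮 : BasedCategory.{v₄, u₄} C} (F : 𝒳 ⥤ᵇ 𝒮) (G : 𝒴 ⥤ᵇ 𝒮)

open FibCat

theorem isFibered_fp [𝒳.p.IsFibered] [𝒴.p.IsFibered] [𝒮.p.IsFibered]
    (hF : ∀ {R S : C} (f : R ⟶ S) {a b : 𝒳.obj} (φ : a ⟶ b),
      𝒳.p.IsStronglyCartesian f φ → 𝒮.p.IsStronglyCartesian f (F.map φ))
    (hG : ∀ {R S : C} (f : R ⟶ S) {a b : 𝒴.obj} (φ : a ⟶ b),
      𝒴.p.IsStronglyCartesian f φ → 𝒮.p.IsStronglyCartesian f (G.map φ)) :
    (FibCat.fp F G).p.IsFibered := by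
  apply Functor.IsFibered.of_exists_isStronglyCartesian
  intro t R f
  have ht : 𝒮.p.IsHomLift (𝟙 (𝒳.p.obj t.obj.fst)) t.obj.iso.hom := t.property
  have hy : 𝒴.p.obj t.obj.snd = 𝒳.p.obj t.obj.fst := by
    have := IsHomLift.codomain_eq 𝒮.p (𝟙 (𝒳.p.obj t.obj.fst)) t.obj.iso.hom
    rw [← this]; exact (G.w_obj _).symm
  let f' : R ⟶ 𝒳.p.obj t.obj.fst := f
  obtain ⟨x', φ, hφ⟩ := exists_sc_lift 𝒳.p f' t.obj.fst rfl
  obtain ⟨y', ψ, hψ⟩ := exists_sc_lift 𝒴.p f' t.obj.snd hy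
  have hFφ : 𝒮.p.IsStronglyCartesian f' (F.map φ) := hF f' φ hφ
  have hGψ : 𝒮.p.IsStronglyCartesian f' (G.map ψ) := hG f' ψ hψ
  have hcomp : 𝒮.p.IsStronglyCartesian f' (F.map φ ≫ t.obj.iso.hom) := by
    have : 𝒮.p.IsStronglyCartesian (f' ≫ 𝟙 _) (F.map φ ≫ t.obj.iso.hom) := inferInstance
    rwa [Category.comp_id] at this
  let e' : F.obj x' ≅ G.obj y' :=
    Functor.IsStronglyCartesian.domainIsoOfBaseIso 𝒮.p (g := Iso.refl R) (f := f') (f' := f')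
      (Category.id_comp f').symm (G.map ψ) (F.map φ ≫ t.obj.iso.hom)
  have he'fac : e'.hom ≫ G.map ψ = F.map φ ≫ t.obj.iso.hom :=
    Functor.IsStronglyCartesian.fac 𝒮.p f' (G.map ψ) (g := 𝟙 R) (Category.id_comp f').symm
      (F.map φ ≫ t.obj.iso.hom)
  have he'lift : 𝒮.p.IsHomLift (𝟙 R) e'.hom :=
    Functor.IsStronglyCartesian.map_isHomLift 𝒮.p f' (G.map ψ) (g := 𝟙 R)
      (Category.id_comp f').symm (F.map φ ≫ t.obj.iso.hom)
  have hx' : R = 𝒳.p.obj x' := (IsHomLift.domain_eq 𝒳.p f' φ).symm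
  have he'prop : 𝒮.p.IsHomLift (𝟙 (𝒳.p.obj x')) e'.hom := lift_id_congr 𝒮.p hx' _ he'lift
  let t' : (FibCat.fp F G).obj := ⟨{ fst := x', snd := y', iso := e' }, he'prop⟩
  let Φ : t' ⟶ t := ObjectProperty.homMk { fst := φ, snd := ψ, w := he'fac.symm }
  have hΦ : (FibCat.fp F G).p.IsHomLift f Φ :=
    (BasedFunctor.isHomLift_iff (FibCat.fpFst F G) f Φ).1
      (inferInstanceAs (𝒳.p.IsHomLift f' φ))
  refine ⟨t', Φ, ?_⟩
  refine { toIsHomLift := hΦ, universal_property' := ?_ }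
  intro t'' g Φ'' hΦ''
  have h1 : 𝒳.p.IsHomLift (g ≫ f') Φ''.hom.fst :=
    (BasedFunctor.isHomLift_iff (FibCat.fpFst F G) (g ≫ f) Φ'').2 hΦ''
  have h2 : 𝒴.p.IsHomLift (g ≫ f') Φ''.hom.snd :=
    (BasedFunctor.isHomLift_iff (FibCat.fpSnd F G) (g ≫ f) Φ'').2 hΦ''
  let α' : t''.obj.fst ⟶ x' := Functor.IsStronglyCartesian.map 𝒳.p f' φ (g := g) rfl Φ''.hom.fst
  let β' : t''.obj.snd ⟶ y' := Functor.IsStronglyCartesian.map 𝒴.p f' ψ (g := g) rfl Φ''.hom.snd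
  have hα'l : 𝒳.p.IsHomLift g α' := Functor.IsStronglyCartesian.map_isHomLift 𝒳.p f' φ rfl _
  have hβ'l : 𝒴.p.IsHomLift g β' := Functor.IsStronglyCartesian.map_isHomLift 𝒴.p f' ψ rfl _
  have hα' : α' ≫ φ = Φ''.hom.fst := Functor.IsStronglyCartesian.fac 𝒳.p f' φ rfl _
  have hβ' : β' ≫ ψ = Φ''.hom.snd := Functor.IsStronglyCartesian.fac 𝒴.p f' ψ rfl _
  have ht'' : 𝒮.p.IsHomLift (𝟙 (𝒳.p.obj t''.obj.fst)) t''.obj.iso.hom := t''.property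
  have hw' : F.map α' ≫ e'.hom = t''.obj.iso.hom ≫ G.map β' := by
    have hl1 : 𝒮.p.IsHomLift g (F.map α' ≫ e'.hom) := by
      have : 𝒮.p.IsHomLift (g ≫ 𝟙 R) (F.map α' ≫ e'.hom) := inferInstance
      rwa [Category.comp_id] at this
    have hl2 : 𝒮.p.IsHomLift g (t''.obj.iso.hom ≫ G.map β') := by
      have hg : 𝒮.p.IsHomLift g (G.map β') := inferInstance
      have : 𝒮.p.IsHomLift (𝟙 (𝒳.p.obj t''.obj.fst) ≫ g) (t''.obj.iso.hom ≫ G.map β') :=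
        inferInstance
      rwa [Category.id_comp] at this
    apply Functor.IsStronglyCartesian.ext 𝒮.p f' (G.map ψ) g
    rw [Category.assoc, he'fac, ← Category.assoc, ← F.map_comp, hα', Category.assoc,
      ← G.map_comp, hβ']
    exact Φ''.hom.w
  let χ : t'' ⟶ t' := ObjectProperty.homMk { fst := α', snd := β', w := hw' }
  have hχl : (FibCat.fp F G).p.IsHomLift g χ :=
    (BasedFunctor.isHomLift_iff (FibCat.fpFst F G) g χ).1 hα'l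
  refine ⟨χ, ⟨hχl, ?_⟩, ?_⟩
  · apply ObjectProperty.hom_ext
    apply CategoricalPullback.hom_ext
    · exact hα'
    · exact hβ'
  · rintro χ₂ ⟨hχ₂l, hχ₂⟩
    have k1 : 𝒳.p.IsHomLift g χ₂.hom.fst :=
      (BasedFunctor.isHomLift_iff (FibCat.fpFst F G) g χ₂).2 hχ₂l
    have k2 : 𝒴.p.IsHomLift g χ₂.hom.snd :=
      (BasedFunctor.isHomLift_iff (FibCat.fpSnd F G) g χ₂).2 hχ₂l
    have e1 : χ₂.hom.fst ≫ φ = Φ''.hom.fst := by rw [← hχ₂]; rfl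
    have e2 : χ₂.hom.snd ≫ ψ = Φ''.hom.snd := by rw [← hχ₂]; rfl
    apply ObjectProperty.hom_ext
    apply CategoricalPullback.hom_ext
    · exact Functor.IsStronglyCartesian.map_uniq 𝒳.p f' φ rfl Φ''.hom.fst χ₂.hom.fst e1
    · exact Functor.IsStronglyCartesian.map_uniq 𝒴.p f' ψ rfl Φ''.hom.snd χ₂.hom.snd e2

end Groth.Agent.Lib.Helper27.FpFibered
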