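import Groth.Prelude.Def_StGerb
import Groth.Agent.Lib.Helper16.FpFibGrpd
import Groth.Agent.Lib.Helper27.EquivOverAux

/-!
# Auxiliary lemmas on gerbes over a site (helper27)
-/

set_option autoImplicit false
set_option backward.isDefEq.respectTransparency false
set_option backward.isDefEq.respectTransparency.types false

universe v₄ u₄ v₃ u₃ v₂ u₂ v u

open CategoryTheory Groth.Agent.Lib.Helper16.FpFibGrpd

namespace Groth.Agent.Lib.Helper27.GerbAux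

variable {C : Type u} [Category.{v} C] (J : GrothendieckTopology C)
  {𝒳 : BasedCategory.{v₂, u₂} C} {𝒴 : BasedCategory.{v₃, u₃} C} {𝒵 : BasedCategory.{v₄, u₄} C}

/-- `LocSurjObj` with a propositionally prescribed base object. -/
theorem LocSurjObj.exists' {F : 𝒳 ⥤ᵇ 𝒴} (hF : Gerb.LocSurjObj J F) (y : 𝒴.obj) {V : C}
    (hV : 𝒴.p.obj y = V) :
    ∃ R ∈ J V, ∀ ⦃W : C⦄ (f : W ⟶ V), R f →
      ∃ (x : 𝒳.obj) (g : F.obj x ⟶ y), 𝒴.p.IsHomLift f g := by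
  subst hV
  exact hF y

/-- `LocSurjHom` with a propositionally prescribed base object. -/
theorem LocSurjHom.exists' {F : 𝒳 ⥤ᵇ 𝒴} (hF : Gerb.LocSurjHom J F) (x x' : 𝒳.obj)
    (b : F.obj x ⟶ F.obj x') {U : C} (hU : 𝒳.p.obj x = U) (hb : 𝒴.p.IsHomLift (𝟙 U) b) :
    ∃ R ∈ J U, ∀ ⦃V : C⦄ (f : V ⟶ U), R f →
      ∃ (x₀ : 𝒳.obj) (φ : x₀ ⟶ x) (ψ : x₀ ⟶ x'),
        𝒳.p.IsHomLift f φ ∧ 𝒳.p.IsHomLift f ψ ∧ F.map φ ≫ b = F.map ψ := by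
  subst hU
  exact hF x x' b hb

/-- Local essential surjectivity composes. -/
theorem locSurjObj_comp (F : 𝒳 ⥤ᵇ 𝒴) (G : 𝒴 ⥤ᵇ 𝒵) (hF : Gerb.LocSurjObj J F)
    (hG : Gerb.LocSurjObj J G) : Gerb.LocSurjObj J (BasedFunctor.comp F G) := by
  intro z
  obtain ⟨R, hR, h⟩ := hG z
  have h2 : ∀ ⦃V : C⦄ (f : V ⟶ 𝒵.p.obj z), R f → ∃ R' ∈ J V, ∀ ⦃W : C⦄ (k : W ⟶ V), R' k →
      ∃ (x : 𝒳.obj) (g : (BasedFunctor.comp F G).obj x ⟶ z), 𝒵.p.IsHomLift (k ≫ f) g := by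
    intro V f hf
    obtain ⟨y, g, hg⟩ := h f hf
    have hy : 𝒴.p.obj y = V := by
      rw [← G.w_obj]; exact IsHomLift.domain_eq 𝒵.p f g
    obtain ⟨R', hR', h'⟩ := LocSurjObj.exists' J hF y hy
    refine ⟨R', hR', fun W k hk => ?_⟩
    obtain ⟨x, g', hg'⟩ := h' k hk
    exact ⟨x, G.map g' ≫ g, inferInstance⟩
  choose R' hR' h' using h2
  refine ⟨Sieve.bind R (fun V f hf => R' f hf), J.bind_covering hR (fun V f hf => hR' f hf), ?_⟩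
  rintro W _ ⟨V, k, f, hf, hk, rfl⟩
  exact h' f hf k hk

/-- Local fullness composes, for categories fibred in groupoids. -/
theorem locSurjHom_comp (h𝒳 : FibCat.IsFibGrpd 𝒳.p) (h𝒴 : FibCat.IsFibGrpd 𝒴.p)
    (F : 𝒳 ⥤ᵇ 𝒴) (G : 𝒴 ⥤ᵇ 𝒵) (hF : Gerb.LocSurjHom J F)
    (hG : Gerb.LocSurjHom J G) : Gerb.LocSurjHom J (BasedFunctor.comp F G) := by
  intro x x' c hc
  have hc' : 𝒵.p.IsHomLift (𝟙 (𝒳.p.obj x)) (show G.obj (F.obj x) ⟶ G.obj (F.obj x') from c) := hc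
  obtain ⟨R, hR, h⟩ := LocSurjHom.exists' J hG (F.obj x) (F.obj x') c (F.w_obj x) hc'
  have hx' : 𝒳.p.obj x' = 𝒳.p.obj x := by
    rw [← F.w_obj, ← G.w_obj]
    exact IsHomLift.codomain_eq 𝒵.p (𝟙 (𝒳.p.obj x)) c
  have h2 : ∀ ⦃V : C⦄ (f : V ⟶ 𝒳.p.obj x), R f → ∃ R' ∈ J V, ∀ ⦃W : C⦄ (k : W ⟶ V), R' k →
      ∃ (x₀ : 𝒳.obj) (φ : x₀ ⟶ x) (ψ : x₀ ⟶ x'),
        𝒳.p.IsHomLift (k ≫ f) φ ∧ 𝒳.p.IsHomLift (k ≫ f) ψ ∧
          (BasedFunctor.comp F G).map φ ≫ c = (BasedFunctor.comp F G).map ψ := by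
    intro V f hf
    obtain ⟨y₀, φ, ψ, hφ, hψ, hφψ⟩ := h f hf
    obtain ⟨xV, a, ha⟩ := h𝒳.exists_lift (x := x) f
    obtain ⟨xV', a', ha'⟩ := FibGrpd.exists_lift' 𝒳.p h𝒳 (x := x') hx' f
    have hFa : 𝒴.p.IsStronglyCartesian f (F.map a) :=
      FibGrpd.isStronglyCartesian 𝒴.p h𝒴 f (F.map a)
    have hFa' : 𝒴.p.IsStronglyCartesian f (F.map a') :=
      FibGrpd.isStronglyCartesian 𝒴.p h𝒴 f (F.map a')
    have hy₀ : 𝒴.p.obj y₀ = V := IsHomLift.domain_eq 𝒴.p f φ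
    -- the comparison morphisms
    obtain ⟨α, ⟨hα1, hα2⟩, -⟩ :=
      Functor.IsStronglyCartesian.universal_property 𝒴.p f (F.map a) (𝟙 V) f (by simp) φ
    obtain ⟨β, ⟨hβ1, hβ2⟩, -⟩ :=
      Functor.IsStronglyCartesian.universal_property 𝒴.p f (F.map a') (𝟙 V) f (by simp) ψ
    have hαiso : IsIso α := FibGrpd.isIso_of_base_isIso 𝒴.p h𝒴 (𝟙 V) α
    have hinv : 𝒴.p.IsHomLift (𝟙 V) (inv α) := by
      have := IsHomLift.lift_id_inv_isIso (p := 𝒴.p) V α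
      exact this
    have hb : 𝒴.p.IsHomLift (𝟙 V) (inv α ≫ β) := by
      have : 𝒴.p.IsHomLift (𝟙 V ≫ 𝟙 V) (inv α ≫ β) := inferInstance
      rwa [Category.id_comp] at this
    have hxV : 𝒳.p.obj xV = V := IsHomLift.domain_eq 𝒳.p f a
    obtain ⟨R', hR', h'⟩ := LocSurjHom.exists' J hF xV xV' (inv α ≫ β) hxV hb
    refine ⟨R', hR', fun W k hk => ?_⟩
    obtain ⟨x₀, φ', ψ', hφ', hψ', hφψ'⟩ := h' k hk
    refine ⟨x₀, φ' ≫ a, ψ' ≫ a', inferInstance, inferInstance, ?_⟩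
    change G.map (F.map (φ' ≫ a)) ≫ c = G.map (F.map (ψ' ≫ a'))
    have e1 : F.map a = inv α ≫ φ := by rw [← hα2, IsIso.inv_hom_id_assoc]
    rw [F.map_comp, F.map_comp, ← hφψ', e1, G.map_comp, G.map_comp, Category.assoc, Category.assoc,
      hφψ, ← hβ2]
    simp only [Functor.map_comp, Category.assoc]
  choose R' hR' h' using h2
  refine ⟨Sieve.bind R (fun V f hf => R' f hf), J.bind_covering hR (fun V f hf => hR' f hf), ?_⟩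
  rintro W _ ⟨V, k, f, hf, hk, rfl⟩
  exact h' f hf k hk

/-- Gerbes compose. -/
theorem isGerbeOver_comp (h𝒳 : FibCat.IsFibGrpd 𝒳.p) (h𝒴 : FibCat.IsFibGrpd 𝒴.p)
    (F : 𝒳 ⥤ᵇ 𝒴) (G : 𝒴 ⥤ᵇ 𝒵) (hF : Gerb.IsGerbeOver J F) (hG : Gerb.IsGerbeOver J G) :
    Gerb.IsGerbeOver J (BasedFunctor.comp F G) :=
  ⟨locSurjObj_comp J F G hF.1 hG.1, locSurjHom_comp J h𝒳 h𝒴 F G hF.2 hG.2⟩


section TwoCart

variable {𝒳' : BasedCategory.{v₂, u₂} C} {𝒴' : BasedCategory.{v₃, u₃} C}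

/-- Local essential surjectivity descends along any 2-commutative square whose base change is
locally essentially surjective. -/
theorem locSurjObj_of_square
    (F : 𝒳 ⥤ᵇ 𝒵) (G : 𝒴 ⥤ᵇ 𝒵) (F' : 𝒳' ⥤ᵇ 𝒴) (G' : 𝒳' ⥤ᵇ 𝒳)
    (e : BasedFunctor.comp F' G ≅ BasedFunctor.comp G' F)
    (hG : Gerb.LocSurjObj J G) (hF' : Gerb.LocSurjObj J F') : Gerb.LocSurjObj J F := by
  intro z
  obtain ⟨R, hR, h⟩ := hG z
  have h2 : ∀ ⦃V : C⦄ (f : V ⟶ 𝒵.p.obj z), R f → ∃ R' ∈ J V, ∀ ⦃W : C⦄ (k : W ⟶ V), R' k →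
      ∃ (x : 𝒳.obj) (g : F.obj x ⟶ z), 𝒵.p.IsHomLift (k ≫ f) g := by
    intro V f hf
    obtain ⟨y, g, hg⟩ := h f hf
    have hy : 𝒴.p.obj y = V := by
      rw [← G.w_obj]; exact IsHomLift.domain_eq 𝒵.p f g
    obtain ⟨R', hR', h'⟩ := LocSurjObj.exists' J hF' y hy
    refine ⟨R', hR', fun W k hk => ?_⟩
    obtain ⟨x', g', hg'⟩ := h' k hk
    have hx' : 𝒳'.p.obj x' = W := by
      rw [← F'.w_obj]; exact IsHomLift.domain_eq 𝒴.p k g'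
    have h1 : 𝒵.p.IsHomLift (𝟙 W) (e.inv.toNatTrans.app x') := BasedNatTrans.isHomLift e.inv hx'
    have h2 : 𝒵.p.IsHomLift k (G.map g') := inferInstance
    have h3 : 𝒵.p.IsHomLift (k ≫ f) (G.map g' ≫ g) := inferInstance
    exact ⟨G'.obj x', e.inv.toNatTrans.app x' ≫ (G.map g' ≫ g), inferInstance⟩
  choose R' hR' h' using h2
  refine ⟨Sieve.bind R (fun V f hf => R' f hf), J.bind_covering hR (fun V f hf => hR' f hf), ?_⟩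
  rintro W _ ⟨V, k, f, hf, hk, rfl⟩
  exact h' f hf k hk

end TwoCart


section TwoCartHom

variable {𝒳' : BasedCategory.{v₂, u₂} C} {𝒴' : BasedCategory.{v₃, u₃} C}

open FibCat

/-- Local fullness descends along a 2-cartesian square (in the weak form: the comparison functor
to the 2-fibre product is essentially surjective over the base) whose base change is locally
essentially surjective. Here the square is `F' : 𝒳' ⟶ 𝒴`, `G' : 𝒳' ⟶ 𝒳` over `G : 𝒴 ⟶ 𝒵`,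
`F : 𝒳 ⟶ 𝒵`. -/
theorem locSurjHom_of_twoCart (h𝒳 : FibCat.IsFibGrpd 𝒳.p) (h𝒵 : FibCat.IsFibGrpd 𝒵.p)
    (F : 𝒳 ⥤ᵇ 𝒵) (G : 𝒴 ⥤ᵇ 𝒵) (F' : 𝒳' ⥤ᵇ 𝒴) (G' : 𝒳' ⥤ᵇ 𝒳)
    (e : BasedFunctor.comp F' G ≅ BasedFunctor.comp G' F)
    (hess : ∀ t : (fp G F).obj, ∃ (c : 𝒳'.obj) (ε : (fpLift F' G' e).obj c ≅ t),
      (fp G F).p.IsHomLift (𝟙 ((fp G F).p.obj t)) ε.hom)
    (hG : Gerb.LocSurjObj J G) (hF' : Gerb.LocSurjHom J F') : Gerb.LocSurjHom J F := by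
  intro x₁ x₂ b hb
  obtain ⟨R, hR, h⟩ := LocSurjObj.exists' J hG (F.obj x₁) (F.w_obj x₁)
  have hx₂ : 𝒳.p.obj x₂ = 𝒳.p.obj x₁ := by
    rw [← F.w_obj]
    exact IsHomLift.codomain_eq 𝒵.p (𝟙 (𝒳.p.obj x₁)) b
  have h2 : ∀ ⦃V : C⦄ (f : V ⟶ 𝒳.p.obj x₁), R f → ∃ R' ∈ J V, ∀ ⦃W : C⦄ (k : W ⟶ V), R' k →
      ∃ (x₀ : 𝒳.obj) (φ : x₀ ⟶ x₁) (ψ : x₀ ⟶ x₂),
        𝒳.p.IsHomLift (k ≫ f) φ ∧ 𝒳.p.IsHomLift (k ≫ f) ψ ∧ F.map φ ≫ b = F.map ψ := by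
    intro V f hf
    obtain ⟨y', g, hg⟩ := h f hf
    have hy' : 𝒴.p.obj y' = V := by
      rw [← G.w_obj]; exact IsHomLift.domain_eq 𝒵.p f g
    subst hy'
    obtain ⟨x₁V, a₁, ha₁⟩ := h𝒳.exists_lift (x := x₁) f
    obtain ⟨x₂V, a₂, ha₂⟩ := FibGrpd.exists_lift' 𝒳.p h𝒳 (x := x₂) hx₂ f
    have hFa₁ : 𝒵.p.IsStronglyCartesian f (F.map a₁) :=
      FibGrpd.isStronglyCartesian 𝒵.p h𝒵 f (F.map a₁)
    have hFa₂ : 𝒵.p.IsStronglyCartesian f (F.map a₂) :=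
      FibGrpd.isStronglyCartesian 𝒵.p h𝒵 f (F.map a₂)
    obtain ⟨γ₁, ⟨hγ₁l, hγ₁⟩, -⟩ :=
      Functor.IsStronglyCartesian.universal_property 𝒵.p f (F.map a₁) (𝟙 _) f (by simp) g
    have hgb : 𝒵.p.IsHomLift f (g ≫ b) := inferInstance
    obtain ⟨γ₂, ⟨hγ₂l, hγ₂⟩, -⟩ :=
      Functor.IsStronglyCartesian.universal_property 𝒵.p f (F.map a₂) (𝟙 _) f (by simp) (g ≫ b)
    have hγ₁iso : IsIso γ₁ := FibGrpd.isIso_of_base_isIso 𝒵.p h𝒵 (𝟙 (𝒴.p.obj y')) γ₁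
    have hγ₂iso : IsIso γ₂ := FibGrpd.isIso_of_base_isIso 𝒵.p h𝒵 (𝟙 (𝒴.p.obj y')) γ₂
    let t₁ : (fp G F).obj := ⟨⟨y', x₁V, asIso γ₁⟩, hγ₁l⟩
    let t₂ : (fp G F).obj := ⟨⟨y', x₂V, asIso γ₂⟩, hγ₂l⟩
    obtain ⟨c₁, ε₁, hε₁⟩ := hess t₁
    obtain ⟨c₂, ε₂, hε₂⟩ := hess t₂
    have hε₁' : (fp G F).p.IsHomLift (𝟙 (𝒴.p.obj y')) ε₁.hom := hε₁
    have hε₂' : (fp G F).p.IsHomLift (𝟙 (𝒴.p.obj y')) ε₂.hom := hε₂
    have hε₂i : (fp G F).p.IsHomLift (𝟙 (𝒴.p.obj y')) ε₂.inv := inferInstance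
    -- components
    let u₁ : F'.obj c₁ ⟶ y' := (fpFst G F).map ε₁.hom
    let u₂ : F'.obj c₂ ⟶ y' := (fpFst G F).map ε₂.hom
    let u₂i : y' ⟶ F'.obj c₂ := (fpFst G F).map ε₂.inv
    let w₁ : G'.obj c₁ ⟶ x₁V := (fpSnd G F).map ε₁.hom
    let w₂ : G'.obj c₂ ⟶ x₂V := (fpSnd G F).map ε₂.hom
    have hu₁ : 𝒴.p.IsHomLift (𝟙 (𝒴.p.obj y')) u₁ := inferInstance
    have hu₂i : 𝒴.p.IsHomLift (𝟙 (𝒴.p.obj y')) u₂i := inferInstance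
    have hw₁ : 𝒳.p.IsHomLift (𝟙 (𝒴.p.obj y')) w₁ := inferInstance
    have hw₂ : 𝒳.p.IsHomLift (𝟙 (𝒴.p.obj y')) w₂ := inferInstance
    have hu₂u₂i : u₂i ≫ u₂ = 𝟙 y' := by
      change (fpFst G F).map ε₂.inv ≫ (fpFst G F).map ε₂.hom = _
      rw [← CategoryTheory.Functor.map_comp, Iso.inv_hom_id]
      exact (fpFst G F).toFunctor.map_id t₂
    have hcomp₁ : G.map u₁ ≫ γ₁ = e.hom.toNatTrans.app c₁ ≫ F.map w₁ := ε₁.hom.hom.w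
    have hcomp₂ : G.map u₂ ≫ γ₂ = e.hom.toNatTrans.app c₂ ≫ F.map w₂ := ε₂.hom.hom.w
    have hb' : 𝒴.p.IsHomLift (𝟙 (𝒴.p.obj y')) (u₁ ≫ u₂i) := inferInstance
    have hc₁ : 𝒳'.p.obj c₁ = 𝒴.p.obj y' := by
      rw [← (fpLift F' G' e).w_obj]
      exact IsHomLift.domain_eq (fp G F).p (𝟙 (𝒴.p.obj y')) ε₁.hom
    have hc₂ : 𝒳'.p.obj c₂ = 𝒴.p.obj y' := by
      rw [← (fpLift F' G' e).w_obj]
      exact IsHomLift.domain_eq (fp G F).p (𝟙 (𝒴.p.obj y')) ε₂.hom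
    obtain ⟨R', hR', h'⟩ := LocSurjHom.exists' J hF' c₁ c₂ (u₁ ≫ u₂i) hc₁ hb'
    refine ⟨R', hR', fun W k hk => ?_⟩
    obtain ⟨x₀', φ', ψ', hφ', hψ', hφψ'⟩ := h' k hk
    have hx₀' : 𝒳'.p.obj x₀' = W := IsHomLift.domain_eq 𝒳'.p k φ'
    have l1 : 𝒳.p.IsHomLift f (w₁ ≫ a₁) := inferInstance
    have l2 : 𝒳.p.IsHomLift f (w₂ ≫ a₂) := inferInstance
    refine ⟨G'.obj x₀', G'.map φ' ≫ w₁ ≫ a₁, G'.map ψ' ≫ w₂ ≫ a₂, inferInstance, inferInstance, ?_⟩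
    -- the computation
    have n1 : F.map (G'.map φ') = e.inv.toNatTrans.app x₀' ≫ G.map (F'.map φ') ≫
        e.hom.toNatTrans.app c₁ := by
      have := e.hom.toNatTrans.naturality φ'
      have hinv : e.inv.toNatTrans.app x₀' ≫ e.hom.toNatTrans.app x₀' = 𝟙 _ := by
        rw [← NatTrans.comp_app]
        have : e.inv ≫ e.hom = 𝟙 _ := e.inv_hom_id
        have h3 := congrArg (fun α => (BasedNatTrans.toNatTrans α).app x₀') this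
        exact h3
      change G.map (F'.map φ') ≫ e.hom.toNatTrans.app c₁ =
        e.hom.toNatTrans.app x₀' ≫ F.map (G'.map φ') at this
      rw [this, ← Category.assoc, hinv, Category.id_comp]
    have n2 : F.map (G'.map ψ') = e.inv.toNatTrans.app x₀' ≫ G.map (F'.map ψ') ≫
        e.hom.toNatTrans.app c₂ := by
      have := e.hom.toNatTrans.naturality ψ'
      have hinv : e.inv.toNatTrans.app x₀' ≫ e.hom.toNatTrans.app x₀' = 𝟙 _ := by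
        rw [← NatTrans.comp_app]
        have : e.inv ≫ e.hom = 𝟙 _ := e.inv_hom_id
        have h3 := congrArg (fun α => (BasedNatTrans.toNatTrans α).app x₀') this
        exact h3
      change G.map (F'.map ψ') ≫ e.hom.toNatTrans.app c₂ =
        e.hom.toNatTrans.app x₀' ≫ F.map (G'.map ψ') at this
      rw [this, ← Category.assoc, hinv, Category.id_comp]
    have key : F'.map φ' ≫ u₁ = F'.map ψ' ≫ u₂ := by
      rw [← hφψ', Category.assoc, Category.assoc, hu₂u₂i, Category.comp_id]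
    calc F.map (G'.map φ' ≫ w₁ ≫ a₁) ≫ b
        = e.inv.toNatTrans.app x₀' ≫ G.map (F'.map φ') ≫
            (e.hom.toNatTrans.app c₁ ≫ F.map w₁) ≫ F.map a₁ ≫ b := by
          rw [F.map_comp, F.map_comp, n1]; simp only [Category.assoc]
      _ = e.inv.toNatTrans.app x₀' ≫ G.map (F'.map φ' ≫ u₁) ≫ (g ≫ b) := by
          rw [← hcomp₁, G.map_comp, ← hγ₁]; simp only [Category.assoc]
      _ = e.inv.toNatTrans.app x₀' ≫ G.map (F'.map ψ') ≫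
            (e.hom.toNatTrans.app c₂ ≫ F.map w₂) ≫ F.map a₂ := by
          rw [key, ← hcomp₂, G.map_comp, ← hγ₂]; simp only [Category.assoc]
      _ = F.map (G'.map ψ' ≫ w₂ ≫ a₂) := by
          rw [F.map_comp, F.map_comp, n2]; simp only [Category.assoc]
  choose R' hR' h' using h2
  refine ⟨Sieve.bind R (fun V f hf => R' f hf), J.bind_covering hR (fun V f hf => hR' f hf), ?_⟩
  rintro W _ ⟨V, k, f, hf, hk, rfl⟩
  exact h' f hf k hk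

end TwoCartHom


section Equiv

/-- An equivalence over the base (given with a quasi-inverse) is a gerbe, when the source is fibred
in groupoids. -/
theorem isGerbeOver_of_equiv (h𝒳 : FibCat.IsFibGrpd 𝒳.p) (F : 𝒳 ⥤ᵇ 𝒴) (G : 𝒴 ⥤ᵇ 𝒳)
    (e1 : BasedFunctor.comp F G ≅ BasedFunctor.id 𝒳)
    (e2 : BasedFunctor.comp G F ≅ BasedFunctor.id 𝒴) : Gerb.IsGerbeOver J F := by
  haveI : F.toFunctor.IsEquivalence :=
    (CategoryTheory.Equivalence.mk F.toFunctor G.toFunctor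
      ((BasedNatTrans.forgetful _ _).mapIso e1).symm
      ((BasedNatTrans.forgetful _ _).mapIso e2)).isEquivalence_functor
  constructor
  · intro y
    refine ⟨⊤, J.top_mem _, fun V f _ => ?_⟩
    obtain ⟨x', φ, hφ⟩ := FibGrpd.exists_lift' 𝒳.p h𝒳 (x := G.obj y) (G.w_obj y) f
    exact ⟨x', F.map φ ≫ e2.hom.toNatTrans.app y, inferInstance⟩
  · intro x x' b hb
    refine ⟨⊤, J.top_mem _, fun V f _ => ?_⟩
    obtain ⟨x₀, a, ha⟩ := h𝒳.exists_lift (x := x) f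
    have hc : 𝒳.p.IsHomLift (𝟙 (𝒳.p.obj x)) (F.toFunctor.preimage b) := by
      rw [← BasedFunctor.isHomLift_iff F]
      rw [show F.map (F.toFunctor.preimage b) = b from F.toFunctor.map_preimage b]
      exact hb
    refine ⟨x₀, a, a ≫ F.toFunctor.preimage b, ha, inferInstance, ?_⟩
    rw [F.map_comp]
    congr 1
    exact (F.toFunctor.map_preimage b).symm

/-- The structure functor of the source is the composite with the structure functor of the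
target. -/
theorem toSelf_eq_comp (F : 𝒳 ⥤ᵇ 𝒴) :
    FibCat.toSelf 𝒳 = BasedFunctor.comp F (FibCat.toSelf 𝒴) := by
  have h : (FibCat.toSelf 𝒳).toFunctor = (BasedFunctor.comp F (FibCat.toSelf 𝒴)).toFunctor :=
    F.w.symm
  cases h' : FibCat.toSelf 𝒳 with
  | mk f w =>
    cases h'' : BasedFunctor.comp F (FibCat.toSelf 𝒴) with
    | mk f' w' =>
      rw [h', h''] at h
      change f = f' at h
      subst h
      rfl

/-- Being a gerbe over the site is invariant under equivalence over the base (one direction). -/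
theorem isGerbeOver_toSelf_of_equiv (h𝒳 : FibCat.IsFibGrpd 𝒳.p) (h𝒴 : FibCat.IsFibGrpd 𝒴.p)
    (F : 𝒳 ⥤ᵇ 𝒴) (G : 𝒴 ⥤ᵇ 𝒳)
    (e1 : BasedFunctor.comp F G ≅ BasedFunctor.id 𝒳)
    (e2 : BasedFunctor.comp G F ≅ BasedFunctor.id 𝒴)
    (h : Gerb.IsGerbeOver J (FibCat.toSelf 𝒴)) : Gerb.IsGerbeOver J (FibCat.toSelf 𝒳) := by
  rw [toSelf_eq_comp F]
  exact isGerbeOver_comp J h𝒳 h𝒴 F (FibCat.toSelf 𝒴) (isGerbeOver_of_equiv J h𝒳 F G e1 e2) h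

end Equiv


section BaseChange

open FibCat

/-- Base change of a gerbe: if `F : 𝒳 ⟶ 𝒵` is a gerbe then the first projection
`𝒴 ×_𝒵 𝒳 ⟶ 𝒴` is a gerbe (all three fibred in groupoids). -/
theorem isGerbeOver_fpFst (h𝒴 : FibCat.IsFibGrpd 𝒴.p) (h𝒵 : FibCat.IsFibGrpd 𝒵.p)
    (F : 𝒳 ⥤ᵇ 𝒵) (G : 𝒴 ⥤ᵇ 𝒵) (hF : Gerb.IsGerbeOver J F) :
    Gerb.IsGerbeOver J (fpFst G F) := by
  constructor
  · -- local essential surjectivity
    intro y'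
    obtain ⟨R, hR, h⟩ := LocSurjObj.exists' J hF.1 (G.obj y') (G.w_obj y')
    refine ⟨R, hR, fun V k hk => ?_⟩
    obtain ⟨x, c, hc⟩ := h k hk
    obtain ⟨yV, a, ha⟩ := h𝒴.exists_lift (x := y') k
    have hGa : 𝒵.p.IsHomLift k (G.map a) := inferInstance
    have hcart : 𝒵.p.IsStronglyCartesian k c := FibGrpd.isStronglyCartesian 𝒵.p h𝒵 k c
    obtain ⟨θ, ⟨hθl, hθ⟩, -⟩ :=
      Functor.IsStronglyCartesian.universal_property 𝒵.p k c (𝟙 V) k (by simp) (G.map a)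
    have hθiso : IsIso θ := FibGrpd.isIso_of_base_isIso 𝒵.p h𝒵 (𝟙 V) θ
    have hyV : 𝒴.p.obj yV = V := IsHomLift.domain_eq 𝒴.p k a
    subst hyV
    let t : (fp G F).obj := ⟨⟨yV, x, asIso θ⟩, hθl⟩
    refine ⟨t, (show (fpFst G F).obj t ⟶ y' from a), ha⟩
  · -- local fullness
    intro t₁ t₂ b hb
    have ht₁ : 𝒵.p.IsHomLift (𝟙 (𝒴.p.obj t₁.obj.fst)) t₁.obj.iso.hom := t₁.property
    have ht₂ : 𝒵.p.IsHomLift (𝟙 (𝒴.p.obj t₂.obj.fst)) t₂.obj.iso.hom := t₂.property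
    have hb' : 𝒴.p.IsHomLift (𝟙 (𝒴.p.obj t₁.obj.fst))
        (show t₁.obj.fst ⟶ t₂.obj.fst from b) := hb
    have h12 : 𝒴.p.obj t₂.obj.fst = 𝒴.p.obj t₁.obj.fst :=
      IsHomLift.codomain_eq 𝒴.p (𝟙 (𝒴.p.obj t₁.obj.fst)) (show t₁.obj.fst ⟶ t₂.obj.fst from b)
    have ht₂' : 𝒵.p.IsHomLift (𝟙 (𝒴.p.obj t₁.obj.fst)) t₂.obj.iso.hom :=
      isHomLift_id_of_eq 𝒵.p h12 t₂.obj.iso.hom
    have ht₁i : 𝒵.p.IsHomLift (𝟙 (𝒴.p.obj t₁.obj.fst)) t₁.obj.iso.inv := inferInstance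
    have hGb : 𝒵.p.IsHomLift (𝟙 (𝒴.p.obj t₁.obj.fst))
        (G.map (show t₁.obj.fst ⟶ t₂.obj.fst from b)) := inferInstance
    -- the induced morphism between the images in `𝒵`
    let c : F.obj t₁.obj.snd ⟶ F.obj t₂.obj.snd :=
      t₁.obj.iso.inv ≫ G.map (show t₁.obj.fst ⟶ t₂.obj.fst from b) ≫ t₂.obj.iso.hom
    have hc : 𝒵.p.IsHomLift (𝟙 (𝒴.p.obj t₁.obj.fst)) c := inferInstance
    have hx₁ : 𝒳.p.obj t₁.obj.snd = 𝒴.p.obj t₁.obj.fst := by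
      rw [← F.w_obj]
      exact IsHomLift.codomain_eq 𝒵.p (𝟙 (𝒴.p.obj t₁.obj.fst)) t₁.obj.iso.hom
    obtain ⟨R, hR, h⟩ := LocSurjHom.exists' J hF.2 t₁.obj.snd t₂.obj.snd c hx₁ hc
    refine ⟨R, hR, fun V (k : V ⟶ 𝒴.p.obj t₁.obj.fst) hk => ?_⟩
    obtain ⟨x₀, φ, ψ, hφ, hψ, hφψ⟩ := h k hk
    obtain ⟨y₀, a, ha⟩ := h𝒴.exists_lift (x := t₁.obj.fst) k
    have hy₀ : 𝒴.p.obj y₀ = V := IsHomLift.domain_eq 𝒴.p k a
    subst hy₀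
    have hFφ : 𝒵.p.IsStronglyCartesian k (F.map φ) :=
      FibGrpd.isStronglyCartesian 𝒵.p h𝒵 k (F.map φ)
    have hGa0 : 𝒵.p.IsHomLift k (G.map a) := inferInstance
    have hGa : 𝒵.p.IsHomLift k (G.map a ≫ t₁.obj.iso.hom) :=
      IsHomLift.comp_lift_id_right 𝒵.p k (G.map a) t₁.obj.iso.hom
    obtain ⟨θ₀, ⟨hθ₀l, hθ₀⟩, -⟩ :=
      Functor.IsStronglyCartesian.universal_property 𝒵.p k (F.map φ) (𝟙 _) k (by simp)
        (G.map a ≫ t₁.obj.iso.hom)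
    have hθ₀iso : IsIso θ₀ := FibGrpd.isIso_of_base_isIso 𝒵.p h𝒵 (𝟙 (𝒴.p.obj y₀)) θ₀
    let t₀ : (fp G F).obj := ⟨⟨y₀, x₀, asIso θ₀⟩, hθ₀l⟩
    let Φ : t₀ ⟶ t₁ := ObjectProperty.homMk
      { fst := a
        snd := φ
        w := hθ₀.symm }
    have hab : 𝒴.p.IsHomLift k (a ≫ (show t₁.obj.fst ⟶ t₂.obj.fst from b)) := inferInstance
    let Ψ : t₀ ⟶ t₂ := ObjectProperty.homMk
      { fst := a ≫ (show t₁.obj.fst ⟶ t₂.obj.fst from b)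
        snd := ψ
        w := by
          change G.map (a ≫ b) ≫ t₂.obj.iso.hom = θ₀ ≫ F.map ψ
          rw [← hφψ, ← Category.assoc θ₀, hθ₀]
          simp only [c, Functor.map_comp, Category.assoc, Iso.hom_inv_id_assoc] }
    refine ⟨t₀, Φ, Ψ, ?_, ?_, rfl⟩
    · rw [← BasedFunctor.isHomLift_iff (fpFst G F)]
      exact ha
    · rw [← BasedFunctor.isHomLift_iff (fpFst G F)]
      exact hab

end BaseChange


section BaseChangeTwoCart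

open FibCat

variable {𝒳' : BasedCategory.{v₂, u₂} C}

theorem eq_comp_fpLift_fpFst (F : 𝒳 ⥤ᵇ 𝒵) (G : 𝒴 ⥤ᵇ 𝒵) (F' : 𝒳' ⥤ᵇ 𝒴) (G' : 𝒳' ⥤ᵇ 𝒳)
    (e : BasedFunctor.comp F' G ≅ BasedFunctor.comp G' F) :
    F' = BasedFunctor.comp (fpLift F' G' e) (fpFst G F) := rfl

/-- Being a gerbe is preserved by 2-cartesian base change (given a quasi-inverse of the
comparison functor). -/
theorem isGerbeOver_of_twoCart (h𝒳' : FibCat.IsFibGrpd 𝒳'.p) (h𝒴 : FibCat.IsFibGrpd 𝒴.p)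
    (h𝒵 : FibCat.IsFibGrpd 𝒵.p)
    (F : 𝒳 ⥤ᵇ 𝒵) (G : 𝒴 ⥤ᵇ 𝒵) (F' : 𝒳' ⥤ᵇ 𝒴) (G' : 𝒳' ⥤ᵇ 𝒳)
    (e : BasedFunctor.comp F' G ≅ BasedFunctor.comp G' F)
    (hc : FibCat.IsTwoCartOver F' G' e) (hF : Gerb.IsGerbeOver J F) :
    Gerb.IsGerbeOver J F' := by
  obtain ⟨K, ⟨e1⟩, ⟨e2⟩⟩ := hc
  have hfp : FibCat.IsFibGrpd (fp G F).p :=
    Groth.Agent.Lib.Helper27.EquivOverAux.isFibGrpd_of_equiv (fpLift F' G' e) K e1 e2 h𝒳'
  rw [eq_comp_fpLift_fpFst F G F' G' e]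
  exact isGerbeOver_comp J h𝒳' hfp (fpLift F' G' e) (fpFst G F)
    (isGerbeOver_of_equiv J h𝒳' (fpLift F' G' e) K e1 e2)
    (isGerbeOver_fpFst J h𝒴 h𝒵 F G hF)

end BaseChangeTwoCart

end Groth.Agent.Lib.Helper27.GerbAux
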