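import Groth.Prelude.Def_AlgSt
import Groth.Prelude.Def_FibCat2
import Groth.Agent.Lib.Helper27.DescentKit
import Groth.Agent.Lib.Helper27.EquivOverAux
import Groth.Agent.Lib.Helper27.GerbAux

/-!
# A fully faithful functor of stacks that is locally essentially surjective is an equivalence
(helper27)
-/

set_option autoImplicit false
set_option backward.isDefEq.respectTransparency false
set_option backward.isDefEq.respectTransparency.types false

universe v₃ u₃ v₂ u₂ v u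

open CategoryTheory Groth.Agent.Lib.Helper27.DescentKit Groth.Agent.Lib.Helper16.FpFibGrpd

namespace Groth.Agent.Lib.Helper27.StackEquiv

variable {C : Type u} [Category.{v} C] {𝒳 : BasedCategory.{v₂, u₂} C}
  {𝒴 : BasedCategory.{v₃, u₃} C}

section Local

variable (h𝒳 : FibCat.IsFibGrpd 𝒳.p) (h𝒴 : FibCat.IsFibGrpd 𝒴.p)
  (F : 𝒳 ⥤ᵇ 𝒴) [F.toFunctor.Full] [F.toFunctor.Faithful]
  {U : C} (R : Sieve U) (y : 𝒴.obj) (hy : 𝒴.p.obj y = U)
  (xs : (Stk.sieveCat R).obj → 𝒳.obj) (φs : ∀ s : (Stk.sieveCat R).obj, F.obj (xs s) ⟶ y)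
  (hφs : ∀ s : (Stk.sieveCat R).obj, 𝒴.p.IsHomLift s.obj.hom (φs s))

/-- The transition morphisms between the images of the local preimages. -/
noncomputable def trans {s s' : (Stk.sieveCat R).obj} (g : s ⟶ s') :
    F.obj (xs s) ⟶ F.obj (xs s') :=
  FG.lift h𝒴 s'.obj.hom (φs s') (hφs s') g.hom.left (Over.w g.hom).symm (φs s) (hφs s)

theorem trans_isHomLift {s s' : (Stk.sieveCat R).obj} (g : s ⟶ s') :
    𝒴.p.IsHomLift g.hom.left (trans h𝒴 F R y xs φs hφs g) :=
  FG.lift_isHomLift h𝒴 _ _ _ _ _ _ _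

theorem trans_fac {s s' : (Stk.sieveCat R).obj} (g : s ⟶ s') :
    trans h𝒴 F R y xs φs hφs g ≫ φs s' = φs s :=
  FG.lift_fac h𝒴 _ _ _ _ _ _ _

theorem trans_uniq {s s' : (Stk.sieveCat R).obj} (g : s ⟶ s')
    (ψ : F.obj (xs s) ⟶ F.obj (xs s')) (hψ : 𝒴.p.IsHomLift g.hom.left ψ)
    (h : ψ ≫ φs s' = φs s) : ψ = trans h𝒴 F R y xs φs hφs g :=
  FG.lift_uniq h𝒴 _ _ _ _ _ _ _ ψ hψ h

include hφs in
theorem p_xs (s : (Stk.sieveCat R).obj) : 𝒳.p.obj (xs s) = s.obj.left := by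
  have := hφs s
  rw [← F.w_obj]
  exact IsHomLift.domain_eq 𝒴.p s.obj.hom (φs s)

/-- The descent datum in `𝒳` formed by local preimages of `y`. -/
noncomputable def datum : Stk.sieveCat R ⥤ᵇ 𝒳 where
  toFunctor :=
    { obj := xs
      map := fun {s s'} g => F.toFunctor.preimage (trans h𝒴 F R y xs φs hφs g)
      map_id := fun s => by
        apply F.toFunctor.map_injective
        rw [F.toFunctor.map_preimage, CategoryTheory.Functor.map_id]
        symm
        apply trans_uniq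
        · exact IsHomLift.id ((F.w_obj _).trans (p_xs F R y xs φs hφs s))
        · exact Category.id_comp _
      map_comp := fun {s s' s''} g g' => by
        apply F.toFunctor.map_injective
        rw [F.toFunctor.map_preimage, CategoryTheory.Functor.map_comp, F.toFunctor.map_preimage,
          F.toFunctor.map_preimage]
        symm
        apply trans_uniq
        · have h1 := trans_isHomLift h𝒴 F R y xs φs hφs g
          have h2 := trans_isHomLift h𝒴 F R y xs φs hφs g'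
          exact inferInstanceAs (𝒴.p.IsHomLift (g.hom.left ≫ g'.hom.left) _)
        · rw [Category.assoc, trans_fac, trans_fac] }
  w := by
    refine CategoryTheory.Functor.ext (fun s => p_xs F R y xs φs hφs s) (fun s s' g => ?_)
    have h1 := trans_isHomLift h𝒴 F R y xs φs hφs g
    have h2 : 𝒳.p.IsHomLift g.hom.left
        (F.toFunctor.preimage (trans h𝒴 F R y xs φs hφs g)) := by
      rw [← BasedFunctor.isHomLift_iff F]
      rw [show F.map (F.toFunctor.preimage (trans h𝒴 F R y xs φs hφs g)) =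
        trans h𝒴 F R y xs φs hφs g from F.toFunctor.map_preimage _]
      exact h1
    exact IsHomLift.fac' 𝒳.p g.hom.left _

theorem map_datum_map {s s' : (Stk.sieveCat R).obj} (g : s ⟶ s') :
    F.map ((datum h𝒴 F R y xs φs hφs).map g) = trans h𝒴 F R y xs φs hφs g :=
  F.toFunctor.map_preimage _

include h𝒳 h𝒴 hy hφs in
/-- Gluing the local preimages: an object of `𝒳` whose image is isomorphic to `y` over the
identity. -/
theorem exists_iso_of_local (heff : Effective R 𝒳) (hglue : GlueMor R 𝒴) :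
    ∃ (x : 𝒳.obj) (e : F.obj x ≅ y), 𝒴.p.IsHomLift (𝟙 (𝒴.p.obj y)) e.hom := by
  obtain ⟨x, c, hx, hc, hcompat⟩ := heff (datum h𝒴 F R y xs φs hφs)
  have hFx : 𝒴.p.obj (F.obj x) = U := (F.w_obj x).trans hx
  have hFc : ∀ s : (Stk.sieveCat R).obj, 𝒴.p.IsHomLift s.obj.hom (F.map (c s)) := fun s => by
    have := hc s
    infer_instance
  -- the matching family
  let θ : ∀ ⦃V : C⦄ (f : V ⟶ U) ⦃z : 𝒴.obj⦄ (a : z ⟶ F.obj x) (hf : R f)
      (_ : 𝒴.p.IsHomLift f a), z ⟶ F.obj (xs ⟨Over.mk f, hf⟩) := fun V f z a hf ha =>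
    FG.lift h𝒴 f (F.map (c ⟨Over.mk f, hf⟩)) (hFc ⟨Over.mk f, hf⟩) (𝟙 V)
      (Category.id_comp _).symm a ha
  have θl : ∀ ⦃V : C⦄ (f : V ⟶ U) ⦃z : 𝒴.obj⦄ (a : z ⟶ F.obj x) (hf : R f)
      (ha : 𝒴.p.IsHomLift f a), 𝒴.p.IsHomLift (𝟙 V) (θ f a hf ha) :=
    fun V f z a hf ha => FG.lift_isHomLift h𝒴 _ _ _ _ _ _ _
  have θfac : ∀ ⦃V : C⦄ (f : V ⟶ U) ⦃z : 𝒴.obj⦄ (a : z ⟶ F.obj x) (hf : R f)
      (ha : 𝒴.p.IsHomLift f a), θ f a hf ha ≫ F.map (c ⟨Over.mk f, hf⟩) = a :=
    fun V f z a hf ha => FG.lift_fac h𝒴 _ _ _ _ _ _ _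
  let M : MatchFam R 𝒴 (F.obj x) y :=
    { m := fun V f z a hf ha => θ f a hf ha ≫ φs ⟨Over.mk f, hf⟩
      lift := fun V f z a hf ha => by
        have h1 := θl f a hf ha
        have h2 : 𝒴.p.IsHomLift f (φs ⟨Over.mk f, hf⟩) := hφs ⟨Over.mk f, hf⟩
        infer_instance
      compat := fun V W f g z z' a b hf ha hb hba => by
        let s : (Stk.sieveCat R).obj := ⟨Over.mk f, hf⟩
        let s' : (Stk.sieveCat R).obj := ⟨Over.mk (g ≫ f), R.downward_closed hf g⟩
        let γ : s' ⟶ s := ObjectProperty.homMk (Over.homMk g rfl)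
        have hγ : 𝒴.p.IsHomLift g (trans h𝒴 F R y xs φs hφs γ) :=
          trans_isHomLift h𝒴 F R y xs φs hφs γ
        have h1 := θl (g ≫ f) (b ≫ a) (R.downward_closed hf g) hba
        have h2 := θl f a hf ha
        have key : θ (g ≫ f) (b ≫ a) (R.downward_closed hf g) hba ≫
            trans h𝒴 F R y xs φs hφs γ = b ≫ θ f a hf ha := by
          have hcs : 𝒴.p.IsHomLift f (F.map (c s)) := hFc s
          refine FG.cancel h𝒴 f (F.map (c s)) hcs g
            (ψ := θ (g ≫ f) (b ≫ a) (R.downward_closed hf g) hba ≫ trans h𝒴 F R y xs φs hφs γ)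
            (ψ' := b ≫ θ f a hf ha) inferInstance inferInstance ?_
          rw [Category.assoc, Category.assoc, θfac f a hf ha,
            ← map_datum_map h𝒴 F R y xs φs hφs γ, ← F.map_comp, hcompat γ]
          exact θfac (g ≫ f) (b ≫ a) (R.downward_closed hf g) hba
        change θ (g ≫ f) (b ≫ a) (R.downward_closed hf g) hba ≫ φs s' =
          b ≫ θ f a hf ha ≫ φs s
        rw [← trans_fac h𝒴 F R y xs φs hφs γ, ← Category.assoc, key, Category.assoc] }
  obtain ⟨ψ, hψl, -⟩ := hglue (F.obj x) y hFx hy M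
  haveI : IsIso ψ := FG.isIso h𝒴 ψ hψl
  subst hy
  exact ⟨x, asIso ψ, hψl⟩

end Local

/-- A fully faithful functor over `C` between stacks in groupoids which is locally essentially
surjective is an equivalence over `C`. -/
theorem isEquivOver_iff_locSurjObj (J : GrothendieckTopology C)
    (h𝒳 : Stk.IsStack J 𝒳) (h𝒴 : Stk.IsStack J 𝒴) (F : 𝒳 ⥤ᵇ 𝒴)
    [F.toFunctor.Full] [F.toFunctor.Faithful] :
    FibCat.IsEquivOver F ↔ Gerb.LocSurjObj J F := by
  constructor
  · rintro ⟨G, ⟨e1⟩, ⟨e2⟩⟩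
    exact (Groth.Agent.Lib.Helper27.GerbAux.isGerbeOver_of_equiv J h𝒳.1 F G e1 e2).1
  · intro hloc
    rw [Groth.Agent.Lib.Helper27.EquivOverAux.isEquivOver_iff_ff_ess]
    refine ⟨⟨inferInstance, inferInstance⟩, fun y => ?_⟩
    obtain ⟨R, hR, h⟩ := hloc y
    have h' : ∀ s : (Stk.sieveCat R).obj, ∃ (x : 𝒳.obj) (g : F.obj x ⟶ y),
        𝒴.p.IsHomLift s.obj.hom g := fun s => h s.obj.hom s.property
    choose xs φs hφs using h'
    have hst𝒳 := (isStackFor_iff R h𝒳.1).1 (h𝒳.2 R hR)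
    have hst𝒴 := (isStackFor_iff R h𝒴.1).1 (h𝒴.2 R hR)
    exact exists_iso_of_local h𝒳.1 h𝒴.1 F R y rfl xs φs hφs hst𝒳.2.2 hst𝒴.2.1

end Groth.Agent.Lib.Helper27.StackEquiv
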