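import Groth.Prelude.Def_StGerb2
import Groth.Agent.Lib.Helper27.DescentKit
import Groth.Agent.Lib.Helper27.EquivOverAux
import Groth.Agent.Lib.Helper27.GerbAux
import Groth.Agent.Lib.Helper27.StackEquiv
import Groth.Agent.Lib.Helper27.FpFibered

/-!
# A morphism of gerbes inducing isomorphisms on automorphism sheaves is an equivalence (helper27)
-/

set_option autoImplicit false
set_option backward.isDefEq.respectTransparency false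
set_option backward.isDefEq.respectTransparency.types false

universe v₃ u₃ v₂ u₂ v u

open CategoryTheory Groth.Agent.Lib.Helper27.DescentKit Groth.Agent.Lib.Helper16.FpFibGrpd

namespace Groth.Agent.Lib.Helper27.GerbEquiv

variable {C : Type u} [Category.{v} C] (J : GrothendieckTopology C)
  {𝒳 : BasedCategory.{v₂, u₂} C} {𝒴 : BasedCategory.{v₃, u₃} C}

section Vert

variable (h𝒳 : FibCat.IsFibGrpd 𝒳.p) (h𝒴 : FibCat.IsFibGrpd 𝒴.p) (F : 𝒳 ⥤ᵇ 𝒴)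

include h𝒳 h𝒴 in
/-- A functor over `C` between categories fibred in groupoids which is faithful on morphisms over
identities is faithful. -/
theorem faithful_of_vert
    (hv : ∀ {a b : 𝒳.obj} (β β' : a ⟶ b), 𝒳.p.IsHomLift (𝟙 (𝒳.p.obj a)) β →
      𝒳.p.IsHomLift (𝟙 (𝒳.p.obj a)) β' → F.map β = F.map β' → β = β') :
    F.toFunctor.Faithful := by
  refine ⟨fun {a b} φ φ' e => ?_⟩
  have hk : 𝒳.p.map φ = 𝒳.p.map φ' := by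
    have h1 : 𝒴.p.IsHomLift (𝒳.p.map φ) (F.map φ) := inferInstance
    have h2 : 𝒴.p.IsHomLift (𝒳.p.map φ') (F.map φ') := inferInstance
    have e' : F.map φ = F.map φ' := e
    rw [← e'] at h2
    exact (IsHomLift.fac 𝒴.p _ (F.map φ)).trans (IsHomLift.fac 𝒴.p _ (F.map φ)).symm
  have hφ' : 𝒳.p.IsHomLift (𝒳.p.map φ) φ' := by rw [hk]; infer_instance
  have hφ : 𝒳.p.IsHomLift (𝒳.p.map φ) φ := inferInstance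
  obtain ⟨δ, hδl, hδfac⟩ : ∃ δ : a ⟶ a, 𝒳.p.IsHomLift (𝟙 (𝒳.p.obj a)) δ ∧ δ ≫ φ' = φ :=
    ⟨_, FG.lift_isHomLift h𝒳 (𝒳.p.map φ) φ' hφ' (𝟙 _) (Category.id_comp _).symm φ hφ,
      FG.lift_fac h𝒳 (𝒳.p.map φ) φ' hφ' (𝟙 _) (Category.id_comp _).symm φ hφ⟩
  have hFφ' : 𝒴.p.IsHomLift (𝒳.p.map φ) (F.map φ') := inferInstance
  have h1 : 𝒴.p.IsHomLift (𝟙 (𝒳.p.obj a)) (F.map δ) := inferInstance
  have h2 : 𝒴.p.IsHomLift (𝟙 (𝒳.p.obj a)) (F.map (𝟙 a)) := inferInstance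
  have e0 : F.map δ = F.map (𝟙 a) := by
    refine FG.cancel h𝒴 (𝒳.p.map φ) (F.map φ') hFφ' (𝟙 _) h1 h2 ?_
    rw [← F.map_comp, ← F.map_comp, hδfac, Category.id_comp]; exact e
  have := hv δ (𝟙 a) hδl inferInstance e0
  rw [← hδfac, this, Category.id_comp]

include h𝒳 h𝒴 in
/-- A functor over `C` between categories fibred in groupoids which is full on morphisms over
identities is full. -/
theorem full_of_vert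
    (hv : ∀ {a b : 𝒳.obj} (_ : 𝒳.p.obj b = 𝒳.p.obj a) (ψ : F.obj a ⟶ F.obj b),
      𝒴.p.IsHomLift (𝟙 (𝒳.p.obj a)) ψ → ∃ β : a ⟶ b, F.map β = ψ) :
    F.toFunctor.Full := by
  refine ⟨fun {a b} ψ => ?_⟩
  let k : 𝒳.p.obj a ⟶ 𝒳.p.obj b :=
    eqToHom (F.w_obj a).symm ≫ 𝒴.p.map ψ ≫ eqToHom (F.w_obj b)
  have hψ : 𝒴.p.IsHomLift k ψ := by
    change 𝒴.p.IsHomLift (eqToHom (F.w_obj a).symm ≫ 𝒴.p.map ψ ≫ eqToHom (F.w_obj b)) ψ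
    infer_instance
  let c := pbObj h𝒳 b rfl (Over.mk k)
  let χ : c ⟶ b := pbHom h𝒳 b rfl (Over.mk k)
  have hχ : 𝒳.p.IsHomLift k χ := pbHom_isHomLift h𝒳 b rfl (Over.mk k)
  have hc : 𝒳.p.obj c = 𝒳.p.obj a := p_pbObj h𝒳 b rfl (Over.mk k)
  have hFχ : 𝒴.p.IsHomLift k (F.map χ) := inferInstance
  obtain ⟨ψ₀, hψ₀l, hψ₀fac⟩ : ∃ ψ₀ : F.obj a ⟶ F.obj c,
      𝒴.p.IsHomLift (𝟙 (𝒳.p.obj a)) ψ₀ ∧ ψ₀ ≫ F.map χ = ψ :=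
    ⟨_, FG.lift_isHomLift h𝒴 k (F.map χ) hFχ (𝟙 _) (Category.id_comp _).symm ψ hψ,
      FG.lift_fac h𝒴 k (F.map χ) hFχ (𝟙 _) (Category.id_comp _).symm ψ hψ⟩
  obtain ⟨β₀, hβ₀⟩ := hv hc ψ₀ hψ₀l
  refine ⟨β₀ ≫ χ, ?_⟩
  change F.map (β₀ ≫ χ) = ψ
  rw [F.map_comp, hβ₀, hψ₀fac]

end Vert

/-- An automorphism over the identity from an endomorphism over the identity, in a category
fibred in groupoids. -/
noncomputable def mkAut (h𝒳 : FibCat.IsFibGrpd 𝒳.p) (x : 𝒳.obj) (α : x ⟶ x)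
    (hα : 𝒳.p.IsHomLift (𝟙 (𝒳.p.obj x)) α) : Gerb.AutO x :=
  haveI : IsIso α := FG.isIso h𝒳 α hα
  { hom := ⟨α, hα⟩
    inv := ⟨inv α, inferInstance⟩
    hom_inv_id := by
      apply Functor.Fiber.hom_ext
      change α ≫ inv α = 𝟙 x
      exact IsIso.hom_inv_id α
    inv_hom_id := by
      apply Functor.Fiber.hom_ext
      change inv α ≫ α = 𝟙 x
      exact IsIso.inv_hom_id α }

@[simp] theorem mkAut_hom (h𝒳 : FibCat.IsFibGrpd 𝒳.p) (x : 𝒳.obj) (α : x ⟶ x)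
    (hα : 𝒳.p.IsHomLift (𝟙 (𝒳.p.obj x)) α) : (mkAut h𝒳 x α hα).hom.1 = α := rfl

section Main

variable (h𝒳 : Stk.IsStack J 𝒳) (h𝒴 : Stk.IsStack J 𝒴)
  (hg𝒳 : Gerb.LocSurjHom J (FibCat.toSelf 𝒳)) (hg𝒴 : Gerb.LocSurjHom J (FibCat.toSelf 𝒴))
  (φ : 𝒳 ⥤ᵇ 𝒴) (s : 𝒳.obj) (hT : ∀ U : C, Nonempty (U ⟶ 𝒳.p.obj s))

include h𝒳 hg𝒳 in
/-- Two objects over the same base are locally isomorphic (gerbe condition), with prescribed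
base. -/
theorem exists_local_iso {U : C} (y y' : 𝒳.obj) (hy : 𝒳.p.obj y = U) (hy' : 𝒳.p.obj y' = U) :
    ∃ R ∈ J U, ∀ ⦃V : C⦄ (f : V ⟶ U), R f →
      ∃ (x₀ : 𝒳.obj) (a : x₀ ⟶ y) (a' : x₀ ⟶ y'),
        𝒳.p.IsHomLift f a ∧ 𝒳.p.IsHomLift f a' := by
  have hb : (FibCat.selfOver C).p.IsHomLift (𝟙 U)
      (eqToHom (hy.trans hy'.symm) : (FibCat.toSelf 𝒳).obj y ⟶ (FibCat.toSelf 𝒳).obj y') :=
    IsHomLift.eqToHom_domain_lift_id (p := 𝟭 C) (hy.trans hy'.symm) hy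
  obtain ⟨R, hR, h⟩ := GerbAux.LocSurjHom.exists' J hg𝒳 y y' _ hy hb
  refine ⟨R, hR, fun V f hf => ?_⟩
  obtain ⟨x₀, a, a', ha, ha', -⟩ := h f hf
  exact ⟨x₀, a, a', ha, ha'⟩

include h𝒳 hg𝒳 hT in
/-- Locally every pair of objects over `U` is a pair of pullbacks of one pullback of `s`. -/
theorem exists_local {U : C} (y y' : 𝒳.obj) (hy : 𝒳.p.obj y = U) (hy' : 𝒳.p.obj y' = U) :
    ∃ R ∈ J U, ∀ ⦃V : C⦄ (f : V ⟶ U), R f →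
      ∃ (x₀ : 𝒳.obj) (a : x₀ ⟶ y) (a' : x₀ ⟶ y') (_ : x₀ ⟶ s),
        𝒳.p.IsHomLift f a ∧ 𝒳.p.IsHomLift f a' := by
  obtain ⟨u⟩ := hT U
  let sU := pbObj h𝒳.1 s rfl (Over.mk u)
  let σ : sU ⟶ s := pbHom h𝒳.1 s rfl (Over.mk u)
  have hsU : 𝒳.p.obj sU = U := p_pbObj h𝒳.1 s rfl (Over.mk u)
  obtain ⟨R₁, hR₁, h₁⟩ := exists_local_iso J h𝒳 hg𝒳 y y' hy hy'
  obtain ⟨R₂, hR₂, h₂⟩ := exists_local_iso J h𝒳 hg𝒳 y sU hy hsU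
  refine ⟨R₁ ⊓ R₂, J.intersection_covering hR₁ hR₂, fun V f hf => ?_⟩
  obtain ⟨x₁, a₁, a₁', ha₁, ha₁'⟩ := h₁ f hf.1
  obtain ⟨x₂, a₂, c₂, ha₂, hc₂⟩ := h₂ f hf.2
  obtain ⟨θ, hθl, hθfac⟩ : ∃ θ : x₂ ⟶ x₁, 𝒳.p.IsHomLift (𝟙 V) θ ∧ θ ≫ a₁ = a₂ :=
    ⟨_, FG.lift_isHomLift h𝒳.1 f a₁ ha₁ (𝟙 V) (Category.id_comp _).symm a₂ ha₂,
      FG.lift_fac h𝒳.1 f a₁ ha₁ (𝟙 V) (Category.id_comp _).symm a₂ ha₂⟩
  refine ⟨x₂, a₂, θ ≫ a₁', c₂ ≫ σ, ha₂, ?_⟩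
  have : 𝒳.p.IsHomLift (𝟙 V ≫ f) (θ ≫ a₁') := inferInstance
  rwa [Category.id_comp] at this

variable (hinj : ∀ (x : 𝒳.obj) (_ : x ⟶ s), Function.Injective (Gerb.autMap φ x))

include h𝒳 h𝒴 hg𝒳 hT hinj in
theorem vert_faithful {U : C} {y y' : 𝒳.obj} (hy : 𝒳.p.obj y = U) (β β' : y ⟶ y')
    (hβ : 𝒳.p.IsHomLift (𝟙 U) β) (hβ' : 𝒳.p.IsHomLift (𝟙 U) β')
    (e : φ.map β = φ.map β') : β = β' := by
  obtain ⟨R, hR, h⟩ := exists_local J h𝒳 hg𝒳 s hT y y hy hy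
  have hst := (isStackFor_iff R h𝒳.1).1 (h𝒳.2 R hR)
  refine hst.1 y y' β β' hβ hβ' (fun V f z az hf haz => ?_)
  obtain ⟨x₀, a, -, c, ha, -⟩ := h f hf
  obtain ⟨θ, hθl, hθfac⟩ : ∃ θ : z ⟶ x₀, 𝒳.p.IsHomLift (𝟙 V) θ ∧ θ ≫ a = az :=
    ⟨_, FG.lift_isHomLift h𝒳.1 f a ha (𝟙 V) (Category.id_comp _).symm az haz,
      FG.lift_fac h𝒳.1 f a ha (𝟙 V) (Category.id_comp _).symm az haz⟩
  suffices hs : a ≫ β = a ≫ β' by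
    rw [← hθfac, Category.assoc, Category.assoc, hs]
  have hV : 𝒳.p.obj x₀ = V := IsHomLift.domain_eq 𝒳.p f a
  have l1 : 𝒳.p.IsHomLift f (a ≫ β) := by
    have : 𝒳.p.IsHomLift (f ≫ 𝟙 U) (a ≫ β) := inferInstance
    rwa [Category.comp_id] at this
  have l2 : 𝒳.p.IsHomLift f (a ≫ β') := by
    have : 𝒳.p.IsHomLift (f ≫ 𝟙 U) (a ≫ β') := inferInstance
    rwa [Category.comp_id] at this
  obtain ⟨α₀, hα₀l, hα₀fac⟩ : ∃ α₀ : x₀ ⟶ x₀, 𝒳.p.IsHomLift (𝟙 V) α₀ ∧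
      α₀ ≫ (a ≫ β') = a ≫ β :=
    ⟨_, FG.lift_isHomLift h𝒳.1 f (a ≫ β') l2 (𝟙 V) (Category.id_comp _).symm (a ≫ β) l1,
      FG.lift_fac h𝒳.1 f (a ≫ β') l2 (𝟙 V) (Category.id_comp _).symm (a ≫ β) l1⟩
  have hα₀l' : 𝒳.p.IsHomLift (𝟙 (𝒳.p.obj x₀)) α₀ := FpFibered.lift_id_congr 𝒳.p hV.symm α₀ hα₀l
  let α : Gerb.AutO x₀ := mkAut h𝒳.1 x₀ α₀ hα₀l'
  have m1 : 𝒴.p.IsHomLift (𝟙 V) (φ.map α₀) := inferInstance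
  have m2 : 𝒴.p.IsHomLift (𝟙 V) (φ.map (𝟙 x₀)) := by
    have : 𝒳.p.IsHomLift (𝟙 V) (𝟙 x₀) := IsHomLift.id hV
    infer_instance
  have m3 : 𝒴.p.IsHomLift f (φ.map (a ≫ β')) := inferInstance
  have e0 : φ.map α₀ = φ.map (𝟙 x₀) := by
    refine FG.cancel h𝒴.1 f (φ.map (a ≫ β')) m3 (𝟙 V) m1 m2 ?_
    rw [← φ.map_comp, ← φ.map_comp, hα₀fac, Category.id_comp, φ.map_comp, φ.map_comp, e]
  have e1 : Gerb.autMap φ x₀ α = Gerb.autMap φ x₀ 1 := by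
    apply Aut.ext; apply Functor.Fiber.hom_ext
    exact e0
  have e2 := hinj x₀ c e1
  have e3 : α₀ = 𝟙 x₀ := congrArg (fun t : Gerb.AutO x₀ => t.hom.1) e2
  rw [← hα₀fac, e3, Category.id_comp]

include h𝒳 h𝒴 hg𝒳 hT hinj in
theorem faithful : φ.toFunctor.Faithful :=
  faithful_of_vert h𝒳.1 h𝒴.1 φ (fun β β' hβ hβ' e =>
    vert_faithful J h𝒳 h𝒴 hg𝒳 φ s hT hinj rfl β β' hβ hβ' e)

variable (hsurj : ∀ (x : 𝒳.obj) (_ : x ⟶ s), Function.Surjective (Gerb.autMap φ x))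

include h𝒳 h𝒴 hg𝒳 hT hinj hsurj in
theorem vert_full {U : C} {y y' : 𝒳.obj} (hy : 𝒳.p.obj y = U) (hy' : 𝒳.p.obj y' = U)
    (ψ : φ.obj y ⟶ φ.obj y') (hψ : 𝒴.p.IsHomLift (𝟙 U) ψ) : ∃ β : y ⟶ y', φ.map β = ψ := by
  have hfaith := faithful J h𝒳 h𝒴 hg𝒳 φ s hT hinj
  obtain ⟨R, hR, h⟩ := exists_local J h𝒳 hg𝒳 s hT y y' hy hy'
  have hst𝒳 := (isStackFor_iff R h𝒳.1).1 (h𝒳.2 R hR)
  have hst𝒴 := (isStackFor_iff R h𝒴.1).1 (h𝒴.2 R hR)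
  -- local existence
  have hloc : ∀ ⦃V : C⦄ (f : V ⟶ U) ⦃z : 𝒳.obj⦄ (az : z ⟶ y), R f → 𝒳.p.IsHomLift f az →
      ∃ m : z ⟶ y', 𝒳.p.IsHomLift f m ∧ φ.map m = φ.map az ≫ ψ := by
    intro V f z az hf haz
    obtain ⟨x₀, a, a', c, ha, ha'⟩ := h f hf
    obtain ⟨θ, hθl, hθfac⟩ : ∃ θ : z ⟶ x₀, 𝒳.p.IsHomLift (𝟙 V) θ ∧ θ ≫ a = az :=
      ⟨_, FG.lift_isHomLift h𝒳.1 f a ha (𝟙 V) (Category.id_comp _).symm az haz,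
        FG.lift_fac h𝒳.1 f a ha (𝟙 V) (Category.id_comp _).symm az haz⟩
    have hV : 𝒳.p.obj x₀ = V := IsHomLift.domain_eq 𝒳.p f a
    have n1 : 𝒴.p.IsHomLift f (φ.map a') := inferInstance
    have n2 : 𝒴.p.IsHomLift f (φ.map a ≫ ψ) := by
      have h1 : 𝒴.p.IsHomLift f (φ.map a) := inferInstance
      have : 𝒴.p.IsHomLift (f ≫ 𝟙 U) (φ.map a ≫ ψ) := inferInstance
      rwa [Category.comp_id] at this
    obtain ⟨γ, hγl, hγfac⟩ : ∃ γ : φ.obj x₀ ⟶ φ.obj x₀, 𝒴.p.IsHomLift (𝟙 V) γ ∧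
        γ ≫ φ.map a' = φ.map a ≫ ψ :=
      ⟨_, FG.lift_isHomLift h𝒴.1 f (φ.map a') n1 (𝟙 V) (Category.id_comp _).symm _ n2,
        FG.lift_fac h𝒴.1 f (φ.map a') n1 (𝟙 V) (Category.id_comp _).symm _ n2⟩
    have hV' : 𝒴.p.obj (φ.obj x₀) = V := (φ.w_obj x₀).trans hV
    let Γ : Gerb.AutO (φ.obj x₀) := mkAut h𝒴.1 (φ.obj x₀) γ
      (FpFibered.lift_id_congr 𝒴.p hV'.symm γ hγl)
    obtain ⟨α, hα⟩ := hsurj x₀ c Γ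
    have hα' : φ.map α.hom.1 = γ := congrArg (fun t : Gerb.AutO (φ.obj x₀) => t.hom.1) hα
    have hαl : 𝒳.p.IsHomLift (𝟙 V) α.hom.1 :=
      FpFibered.lift_id_congr 𝒳.p hV α.hom.1 α.hom.2
    refine ⟨θ ≫ α.hom.1 ≫ a', ?_, ?_⟩
    · have : 𝒳.p.IsHomLift (𝟙 V ≫ 𝟙 V ≫ f) (θ ≫ α.hom.1 ≫ a') := inferInstance
      rwa [Category.id_comp, Category.id_comp] at this
    · rw [φ.map_comp, φ.map_comp, hα', hγfac, ← Category.assoc, ← φ.map_comp, hθfac]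
  choose m hm₁ hm₂ using hloc
  let M : MatchFam R 𝒳 y y' :=
    { m := fun V f z a hf ha => m f a hf ha
      lift := fun V f z a hf ha => hm₁ f a hf ha
      compat := fun V W f g z z' a b hf ha hb hba => by
        apply hfaith.map_injective
        change φ.map (m (g ≫ f) (b ≫ a) _ hba) = φ.map (b ≫ m f a hf ha)
        rw [hm₂, φ.map_comp, φ.map_comp, hm₂, Category.assoc] }
  obtain ⟨β, hβl, hβ⟩ := hst𝒳.2.1 y y' hy hy' M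
  refine ⟨β, ?_⟩
  have hφβ : 𝒴.p.IsHomLift (𝟙 U) (φ.map β) := inferInstance
  refine hst𝒴.1 (φ.obj y) (φ.obj y') (φ.map β) ψ hφβ hψ (fun V f w b hf hb => ?_)
  let x₁ := pbObj h𝒳.1 y hy (Over.mk f)
  let a : x₁ ⟶ y := pbHom h𝒳.1 y hy (Over.mk f)
  have ha : 𝒳.p.IsHomLift f a := pbHom_isHomLift h𝒳.1 y hy (Over.mk f)
  have hφa : 𝒴.p.IsHomLift f (φ.map a) := inferInstance
  obtain ⟨θ', -, hθ'fac⟩ : ∃ θ' : w ⟶ φ.obj x₁, 𝒴.p.IsHomLift (𝟙 V) θ' ∧ θ' ≫ φ.map a = b :=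
    ⟨_, FG.lift_isHomLift h𝒴.1 f (φ.map a) hφa (𝟙 V) (Category.id_comp _).symm b hb,
      FG.lift_fac h𝒴.1 f (φ.map a) hφa (𝟙 V) (Category.id_comp _).symm b hb⟩
  have := hβ f a hf ha
  change a ≫ β = m f a hf ha at this
  rw [← hθ'fac, Category.assoc, Category.assoc, ← φ.map_comp, this, hm₂]

include h𝒳 h𝒴 hg𝒳 hT hinj hsurj in
theorem full : φ.toFunctor.Full :=
  full_of_vert h𝒳.1 h𝒴.1 φ (fun {a b} hb ψ hψ =>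
    vert_full J h𝒳 h𝒴 hg𝒳 φ s hT hinj hsurj rfl hb ψ hψ)

include h𝒳 h𝒴 hg𝒴 hT in
theorem locSurjObj : Gerb.LocSurjObj J φ := by
  intro z
  obtain ⟨u⟩ := hT (𝒴.p.obj z)
  let sU := pbObj h𝒳.1 s rfl (Over.mk u)
  have hsU : 𝒳.p.obj sU = 𝒴.p.obj z := p_pbObj h𝒳.1 s rfl (Over.mk u)
  have hφsU : 𝒴.p.obj (φ.obj sU) = 𝒴.p.obj z := (φ.w_obj sU).trans hsU
  obtain ⟨R, hR, h⟩ := exists_local_iso J h𝒴 hg𝒴 (φ.obj sU) z hφsU rfl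
  refine ⟨R, hR, fun V f hf => ?_⟩
  obtain ⟨w₀, b₁, b₂, hb₁, hb₂⟩ := h f hf
  let x := pbObj h𝒳.1 sU hsU (Over.mk f)
  let χ : x ⟶ sU := pbHom h𝒳.1 sU hsU (Over.mk f)
  have hχ : 𝒳.p.IsHomLift f χ := pbHom_isHomLift h𝒳.1 sU hsU (Over.mk f)
  have hφχ : 𝒴.p.IsHomLift f (φ.map χ) := inferInstance
  obtain ⟨θ, hθl, -⟩ : ∃ θ : φ.obj x ⟶ w₀, 𝒴.p.IsHomLift (𝟙 V) θ ∧ θ ≫ b₁ = φ.map χ :=
    ⟨_, FG.lift_isHomLift h𝒴.1 f b₁ hb₁ (𝟙 V) (Category.id_comp _).symm _ hφχ,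
      FG.lift_fac h𝒴.1 f b₁ hb₁ (𝟙 V) (Category.id_comp _).symm _ hφχ⟩
  refine ⟨x, θ ≫ b₂, ?_⟩
  have : 𝒴.p.IsHomLift (𝟙 V ≫ f) (θ ≫ b₂) := inferInstance
  rwa [Category.id_comp] at this

include h𝒳 h𝒴 hg𝒳 hg𝒴 hT hinj hsurj in
/-- A morphism of gerbes which is bijective on the automorphism groups of all pullbacks of a global
object is an equivalence over the base. -/
theorem isEquivOver : FibCat.IsEquivOver φ := by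
  haveI := faithful J h𝒳 h𝒴 hg𝒳 φ s hT hinj
  haveI := full J h𝒳 h𝒴 hg𝒳 φ s hT hinj hsurj
  exact (StackEquiv.isEquivOver_iff_locSurjObj J h𝒳 h𝒴 φ).2 (locSurjObj J h𝒳 h𝒴 hg𝒴 φ s hT)

end Main

end Groth.Agent.Lib.Helper27.GerbEquiv
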