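import Groth.Prelude.Def_FibCat2
import Groth.Prelude.Def_W4stkcategoriessitesFib
import Groth.Agent.Lib.Helper27.DescentKit

/-!
# The 2-Yoneda lemma for categories fibred in groupoids (helper27)
-/

set_option autoImplicit false
set_option backward.isDefEq.respectTransparency false
set_option backward.isDefEq.respectTransparency.types false

universe v₄ u₄ v₃ u₃ v₂ u₂ v u

open CategoryTheory Groth.Agent.Lib.Helper27.DescentKit
  Groth.Agent.Lib.Helper16.FpFibGrpd

namespace Groth.Agent.Lib.Helper27.TwoYoneda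

variable {C : Type u} [Category.{v} C] {𝒳 : BasedCategory.{v₂, u₂} C}
  (hp : FibCat.IsFibGrpd 𝒳.p) (U : C)

open FibCat

include hp in
theorem evalAtId_faithful : (evalAtId 𝒳 U).Faithful := by
  constructor
  intro H H' α α' hαα'
  have htop : α.toNatTrans.app (Over.mk (𝟙 U)) = α'.toNatTrans.app (Over.mk (𝟙 U)) :=
    congrArg Subtype.val hαα'
  apply BasedNatTrans.homCategory.ext
  ext g
  refine FG.cancel hp g.hom (H'.map (toTop g)) (map_toTop_isHomLift H' g) (𝟙 g.left)
    (app_isHomLift α g) (app_isHomLift α' g) ?_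
  have n1 := α.toNatTrans.naturality (toTop g)
  have n2 := α'.toNatTrans.naturality (toTop g)
  change H.map (toTop g) ≫ _ = _ ≫ H'.map (toTop g) at n1
  change H.map (toTop g) ≫ _ = _ ≫ H'.map (toTop g) at n2
  rw [← n1, ← n2, htop]

include hp in
theorem evalAtId_full : (evalAtId 𝒳 U).Full := by
  constructor
  intro H H' φ'
  have hφl : 𝒳.p.IsHomLift (𝟙 U) φ'.1 := φ'.2
  let αapp : ∀ g : Over U, H.obj g ⟶ H'.obj g := fun g =>
    FG.lift hp g.hom (H'.map (toTop g)) (map_toTop_isHomLift H' g) (𝟙 g.left)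
      (Category.id_comp _).symm (H.map (toTop g) ≫ φ'.1)
      (haveI := map_toTop_isHomLift H g; inferInstance)
  have αl : ∀ g, 𝒳.p.IsHomLift (𝟙 g.left) (αapp g) := fun g => FG.lift_isHomLift hp _ _ _ _ _ _ _
  have αfac : ∀ g, αapp g ≫ H'.map (toTop g) = H.map (toTop g) ≫ φ'.1 :=
    fun g => FG.lift_fac hp _ _ _ _ _ _ _
  let α : H ⟶ H' :=
    { toNatTrans :=
        { app := αapp
          naturality := by
            intro f f' g
            have h1 := αl f
            have h2 := αl f'
            have h3 := map_isHomLift H g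
            have h4 := map_isHomLift H' g
            refine FG.cancel hp f'.hom (H'.map (toTop f')) (map_toTop_isHomLift H' f') g.left
              (ψ := H.map g ≫ αapp f') (ψ' := αapp f ≫ H'.map g) inferInstance inferInstance ?_
            rw [Category.assoc, Category.assoc, αfac, ← H'.map_comp, comp_toTop, αfac,
              ← Category.assoc, ← H.map_comp, comp_toTop] }
      isHomLift' := fun g => αl g }
  refine ⟨α, ?_⟩
  apply Subtype.ext
  change αapp (Over.mk (𝟙 U)) = φ'.1
  have e1 : toTop (Over.mk (𝟙 U)) = 𝟙 (Over.mk (𝟙 U)) := by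
    apply Over.OverMorphism.ext
    simp [toTop]
  have h := αfac (Over.mk (𝟙 U))
  rw [e1, H.map_id, H'.map_id, Category.comp_id, Category.id_comp] at h
  exact h

include hp in
theorem evalAtId_essSurj : (evalAtId 𝒳 U).EssSurj := by
  constructor
  intro x
  refine ⟨cleave hp x.1 x.2, ⟨?_⟩⟩
  have hl := pbHom_isHomLift hp x.1 x.2 (Over.mk (𝟙 U))
  have hl' : 𝒳.p.IsHomLift (𝟙 U) (pbHom hp x.1 x.2 (Over.mk (𝟙 U))) := hl
  haveI : IsIso (pbHom hp x.1 x.2 (Over.mk (𝟙 U))) := FG.isIso hp _ hl'
  have hinv : 𝒳.p.IsHomLift (𝟙 U) (inv (pbHom hp x.1 x.2 (Over.mk (𝟙 U)))) := inferInstance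
  exact
    { hom := ⟨pbHom hp x.1 x.2 (Over.mk (𝟙 U)), hl'⟩
      inv := ⟨inv (pbHom hp x.1 x.2 (Over.mk (𝟙 U))), hinv⟩
      hom_inv_id := Subtype.ext (IsIso.hom_inv_id _)
      inv_hom_id := Subtype.ext (IsIso.inv_hom_id _) }

include hp in
theorem evalAtId_isEquivalence : (evalAtId 𝒳 U).IsEquivalence :=
  { faithful := evalAtId_faithful hp U
    full := evalAtId_full hp U
    essSurj := evalAtId_essSurj hp U }

end Groth.Agent.Lib.Helper27.TwoYoneda
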