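import Groth.Prelude.Def_AlgSt3
import Groth.Agent.Lib.Helper27.RepWithKit
import Groth.Agent.Lib.Helper27.TwoYoneda
import Groth.Agent.Lib.Helper27.GerbEquiv

/-!
# Representable morphisms are faithful; monomorphisms are fully faithful (helper27)
-/

set_option autoImplicit false
set_option backward.isDefEq.respectTransparency false
set_option backward.isDefEq.respectTransparency.types false

universe v₄ u₄ v₃ u₃ v₂ u₂ u

open CategoryTheory CategoryTheory.Limits FibCat AlgebraicGeometry Opposite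
  Groth.Agent.Lib.Helper27.FpKit

namespace Groth.Agent.Lib.Helper27.MonoFF

variable {S : Scheme.{u}}

section Thin

variable {𝒲 : BasedCategory.{v₂, u₂} (Over S)}

/-- Vertical parallel morphisms of the category of a presheaf are equal. -/
theorem ofSp_vert_ext {F : AlgSp.Sp S} {a b : (AlgSt.ofSp F).obj} (φ ψ : a ⟶ b)
    (hφ : Vert φ) (hψ : Vert ψ) : φ = ψ := by
  apply Stk.EltObj.hom_ext
  have h1 : (AlgSt.ofSp F).p.IsHomLift (𝟙 ((AlgSt.ofSp F).p.obj a)) φ := hφ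
  have h2 : (AlgSt.ofSp F).p.IsHomLift (𝟙 ((AlgSt.ofSp F).p.obj a)) ψ := hψ
  have e1 := IsHomLift.fac' (AlgSt.ofSp F).p (𝟙 ((AlgSt.ofSp F).p.obj a)) φ
  have e2 := IsHomLift.fac' (AlgSt.ofSp F).p (𝟙 ((AlgSt.ofSp F).p.obj a)) ψ
  exact e1.trans e2.symm

/-- Vertical parallel morphisms of a category representable by a sheaf are equal. -/
theorem vert_ext_of_rep (h : AlgSt.RepByAlgSp 𝒲) {a b : 𝒲.obj} (φ ψ : a ⟶ b)
    (hφ : Vert φ) (hψ : Vert ψ) : φ = ψ := by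
  obtain ⟨F, e, he⟩ := h
  obtain ⟨e', he', -, -⟩ := exists_inverse e he
  have := faithful_of_equiv e' he'
  apply e'.toFunctor.map_injective
  exact ofSp_vert_ext _ _ (hφ.map e') (hψ.map e')

end Thin

section Faithful

variable {𝒳 : BasedCategory.{v₂, u₂} (Over S)} {𝒴 : BasedCategory.{v₃, u₃} (Over S)}

/-- The 2-Yoneda lemma, in the form used here. -/
theorem exists_yoneda (h𝒴 : FibCat.IsFibGrpd 𝒴.p) {U : Over S} (η : 𝒴.obj)
    (hη : 𝒴.p.obj η = U) :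
    ∃ (y : overCat U ⥤ᵇ 𝒴) (ι : y.toFunctor.obj (Over.mk (𝟙 U)) ≅ η), Vert ι.hom := by
  obtain ⟨y, ⟨i⟩⟩ := (Groth.Agent.Lib.Helper27.TwoYoneda.evalAtId_essSurj h𝒴 U).mem_essImage
    ⟨η, hη⟩
  refine ⟨y, ⟨i.hom.1, i.inv.1, congrArg Subtype.val i.hom_inv_id,
    congrArg Subtype.val i.inv_hom_id⟩, ?_⟩
  exact Vert.of_lift i.hom.2

theorem faithful_of_repByAlgSp1 (h𝒳 : FibCat.IsFibGrpd 𝒳.p) (h𝒴 : FibCat.IsFibGrpd 𝒴.p)
    (f : 𝒳 ⥤ᵇ 𝒴) (hf : AlgSt.RepByAlgSp1 f) : f.toFunctor.Faithful := by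
  apply Groth.Agent.Lib.Helper27.GerbEquiv.faithful_of_vert h𝒳 h𝒴 f
  intro a b α β hα hβ hαβ
  have hb : 𝒴.p.obj (f.toFunctor.obj b) = 𝒳.p.obj a :=
    (f.w_obj b).trans (Vert.cod_eq (φ := α) hα)
  obtain ⟨y, ι, hι⟩ := exists_yoneda h𝒴 (f.toFunctor.obj b) hb
  haveI : IsIso (f.toFunctor.map α) :=
    Groth.Agent.Lib.Helper27.DescentKit.FG.isIso h𝒴 _
      (inferInstance : 𝒴.p.IsHomLift (𝟙 (𝒳.p.obj a)) (f.toFunctor.map α))
  have hinv : Vert (inv (f.toFunctor.map α)) := by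
    have : Vert (asIso (f.toFunctor.map α)).inv := Vert.inv (e := asIso (f.toFunctor.map α))
      (Vert.map (𝒳 := 𝒳) hα f)
    exact this
  let t_b : (fp y f).obj := mkObj (F := y) (G := f) (Over.mk (𝟙 (𝒳.p.obj a))) b ι hι
  let t_a : (fp y f).obj := mkObj (F := y) (G := f) (Over.mk (𝟙 (𝒳.p.obj a))) a
    (ι ≪≫ (asIso (f.toFunctor.map α)).symm) (hι.comp hinv)
  have wα : y.toFunctor.map (𝟙 (Over.mk (𝟙 (𝒳.p.obj a)))) ≫ t_b.obj.iso.hom =
      t_a.obj.iso.hom ≫ f.toFunctor.map α := by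
    change y.toFunctor.map (𝟙 _) ≫ ι.hom = (ι.hom ≫ inv (f.toFunctor.map α)) ≫ f.toFunctor.map α
    rw [y.toFunctor.map_id, Category.id_comp, Category.assoc, IsIso.inv_hom_id, Category.comp_id]
  have wβ : y.toFunctor.map (𝟙 (Over.mk (𝟙 (𝒳.p.obj a)))) ≫ t_b.obj.iso.hom =
      t_a.obj.iso.hom ≫ f.toFunctor.map β := by
    rw [← hαβ]
    exact wα
  have hv : ∀ (γ : a ⟶ b) (w : y.toFunctor.map (𝟙 (Over.mk (𝟙 (𝒳.p.obj a)))) ≫ t_b.obj.iso.hom =
      t_a.obj.iso.hom ≫ f.toFunctor.map γ), Vert (mkHom (t := t_a) (t' := t_b) (𝟙 _) γ w) := by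
    intro γ w
    rw [vert_hom_iff]
    exact Vert.id _
  have key := vert_ext_of_rep (hf _ y) (mkHom (t := t_a) (t' := t_b) (𝟙 _) α wα)
    (mkHom (t := t_a) (t' := t_b) (𝟙 _) β wβ) (hv α wα) (hv β wβ)
  exact congrArg (fun m => m.hom.snd) key

end Faithful

end Groth.Agent.Lib.Helper27.MonoFF
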