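import Groth.Prelude.Def_AlgSt3
import Groth.Agent.Lib.Helper27.RepWithKit
import Groth.Agent.Lib.Helper27.GraphDiag

/-!
# A section is a base change of the diagonal (helper27)
-/

set_option autoImplicit false
set_option backward.isDefEq.respectTransparency false
set_option backward.isDefEq.respectTransparency.types false

universe v₅ u₅ v₄ u₄ v₃ u₃ v₂ u₂ v u

open CategoryTheory CategoryTheory.Limits FibCat AlgebraicGeometry
  Groth.Agent.Lib.Helper27.FpKit

namespace Groth.Agent.Lib.Helper27.SectionDiag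

section General

variable {C : Type u} [Category.{v} C]

theorem isEquivOver_of_iso {𝒜 : BasedCategory.{v₂, u₂} C} {ℬ : BasedCategory.{v₃, u₃} C}
    {F G : 𝒜 ⥤ᵇ ℬ} (e : F ≅ G) (hG : IsEquivOver G) : IsEquivOver F := by
  have := full_of_equiv G hG
  have := faithful_of_equiv G hG
  have hnat : G.toFunctor ≅ F.toFunctor := (BasedNatTrans.forgetful _ _).mapIso e.symm
  apply isEquivOver_of_ess
  · exact Functor.Full.of_iso hnat
  · exact Functor.Faithful.of_iso hnat
  · intro b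
    obtain ⟨a, ε, hε⟩ := ess_of_equiv G hG b
    exact ⟨a, ((BasedNatTrans.forgetful _ _).mapIso e).app a ≪≫ ε, (Vert.app e.hom a).comp hε⟩

theorem isEquivOver_fpFst_of_equiv {𝒳 : BasedCategory.{v₂, u₂} C} {𝒴 : BasedCategory.{v₃, u₃} C}
    {𝒮 : BasedCategory.{v₄, u₄} C} (F : 𝒳 ⥤ᵇ 𝒮) (G : 𝒴 ⥤ᵇ 𝒮) (hG : IsEquivOver G) :
    IsEquivOver (fpFst F G) := by
  have := full_of_equiv G hG
  have := faithful_of_equiv G hG
  apply isEquivOver_of_ess
  · constructor
    intro t t' α
    obtain ⟨β, hβ⟩ := G.toFunctor.map_surjective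
      (t.obj.iso.inv ≫ F.toFunctor.map α ≫ t'.obj.iso.hom)
    refine ⟨mkHom α β ?_, rfl⟩
    rw [hβ, Iso.hom_inv_id_assoc]
  · constructor
    intro t t' Θ Θ' h
    have h1 : Θ.hom.fst = Θ'.hom.fst := h
    apply Groth.Agent.Lib.Helper27.StackFp.hom_ext' h1
    apply G.toFunctor.map_injective
    apply (cancel_epi t.obj.iso.hom).1
    rw [← hom_w Θ, ← hom_w Θ', h1]
  · intro x
    obtain ⟨y, ε, hε⟩ := ess_of_equiv G hG (F.toFunctor.obj x)
    exact ⟨mkObj (F := F) (G := G) x y ε.symm (Vert.inv hε), Iso.refl _, Vert.id _⟩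

end General

section Main

variable {S : Scheme.{u}} {𝒳 : BasedCategory.{v₂, u₂} (Over S)}
  {𝒯 : BasedCategory.{v₃, u₃} (Over S)}

theorem repByAlgSpWith_section (P : MorphismProperty (AlgSp.Sp S)) (f : 𝒳 ⥤ᵇ 𝒯) (s : 𝒯 ⥤ᵇ 𝒳)
    (e : BasedFunctor.comp s f ≅ BasedFunctor.id 𝒯)
    (h : AlgSt.RepByAlgSpWith P (FibCat.diag f)) : AlgSt.RepByAlgSpWith P s := by
  intro U y
  have hsf : IsEquivOver (BasedFunctor.comp s f) := isEquivOver_of_iso e (isEquivOver_id 𝒯)
  have hpr : IsEquivOver (fpFst (BasedFunctor.comp y f) (BasedFunctor.comp s f)) :=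
    isEquivOver_fpFst_of_equiv _ _ hsf
  obtain ⟨E', hE', -, ⟨ε₂⟩⟩ := exists_inverse _ hpr
  let D : MapData (Groth.Agent.Lib.Helper27.GraphDiag.P s f y) (FibCat.diag f)
      (BasedFunctor.comp E' (Groth.Agent.Lib.Helper27.GraphDiag.P s f y)) (FibCat.diag f) E'
      (BasedFunctor.id 𝒳) (BasedFunctor.id (fp f f)) :=
    { e₁ := fun _ => Iso.refl _
      n₁ := fun α => (Category.comp_id _).trans (Category.id_comp _).symm
      l₁ := fun _ => Vert.id _
      e₂ := fun _ => Iso.refl _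
      n₂ := fun β => (Category.comp_id _).trans (Category.id_comp _).symm
      l₂ := fun _ => Vert.id _ }
  have hM : IsEquivOver (fpMap D) :=
    isEquivOver_fpMap D hE' (isEquivOver_id _) (isEquivOver_id _)
  have hK := Groth.Agent.Lib.Helper27.GraphDiag.isEquivOver_K s f y
  exact Groth.Agent.Lib.Helper27.RepWithKit.transport P
    (BasedFunctor.comp (fpMap D) (Groth.Agent.Lib.Helper27.GraphDiag.K s f y))
    (isEquivOver_comp _ _ hM hK)
    (fpFst (BasedFunctor.comp E' (Groth.Agent.Lib.Helper27.GraphDiag.P s f y)) (FibCat.diag f))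
    (fpFst y s)
    (fun t => ⟨(((BasedNatTrans.forgetful _ _).mapIso ε₂).app t.obj.fst).symm,
      Vert.inv (e := ((BasedNatTrans.forgetful _ _).mapIso ε₂).app t.obj.fst)
        (Vert.app ε₂.hom t.obj.fst)⟩)
    (h U (BasedFunctor.comp E' (Groth.Agent.Lib.Helper27.GraphDiag.P s f y)))

end Main

end Groth.Agent.Lib.Helper27.SectionDiag
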