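import Groth.Prelude.Def_AlgSt3
import Groth.Agent.Lib.Helper27.RepWithKit
import Groth.Agent.Lib.Helper27.DiagRepWith
import Groth.Agent.Lib.Helper27.SectionDiag

/-!
# Formal permanence properties of representability with a property (helper27)
-/

set_option autoImplicit false
set_option backward.isDefEq.respectTransparency false
set_option backward.isDefEq.respectTransparency.types false

universe v₅ u₅ v₄ u₄ v₃ u₃ v₂ u₂ u

open CategoryTheory CategoryTheory.Limits FibCat AlgebraicGeometry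
  Groth.Agent.Lib.Helper27.FpKit

namespace Groth.Agent.Lib.Helper27.RepWithGeneral

variable {S : Scheme.{u}}

section BaseChange

variable {𝒳 : BasedCategory.{v₂, u₂} (Over S)} {𝒴 : BasedCategory.{v₃, u₃} (Over S)}
  {𝒵 : BasedCategory.{v₄, u₄} (Over S)}

theorem repByAlgSpWith_fpFst (P : MorphismProperty (AlgSp.Sp S)) (f : 𝒳 ⥤ᵇ 𝒴) (g : 𝒵 ⥤ᵇ 𝒴)
    (hf : AlgSt.RepByAlgSpWith P f) : AlgSt.RepByAlgSpWith P (FibCat.fpFst g f) := by
  intro U y
  exact Groth.Agent.Lib.Helper27.RepWithKit.transport' P (pasteL f g y) (isEquivOver_pasteL f g y)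
    (FibCat.fpFst y (FibCat.fpFst g f)) (FibCat.fpFst (BasedFunctor.comp y g) f)
    (fun t => ⟨Iso.refl _, Vert.id _⟩) (hf U (BasedFunctor.comp y g))

end BaseChange

section Equiv

variable {𝒳 : BasedCategory.{v₂, u₂} (Over S)} {𝒴 : BasedCategory.{v₃, u₃} (Over S)}
  {𝒳' : BasedCategory.{v₄, u₄} (Over S)} {𝒴' : BasedCategory.{v₅, u₅} (Over S)}

theorem repByAlgSpWith_of_equiv (P : MorphismProperty (AlgSp.Sp S)) (f : 𝒳 ⥤ᵇ 𝒴)
    (f' : 𝒳' ⥤ᵇ 𝒴') (a : 𝒳' ⥤ᵇ 𝒳) (b : 𝒴' ⥤ᵇ 𝒴) (ha : IsEquivOver a) (hb : IsEquivOver b)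
    (e : BasedFunctor.comp f' b ≅ BasedFunctor.comp a f) (hf : AlgSt.RepByAlgSpWith P f) :
    AlgSt.RepByAlgSpWith P f' := by
  intro U G'
  let D : MapData (BasedFunctor.comp G' b) f G' f' (BasedFunctor.id _) a b :=
    { e₁ := fun _ => Iso.refl _
      n₁ := fun α => (Category.comp_id _).trans (Category.id_comp _).symm
      l₁ := fun _ => Vert.id _
      e₂ := fun x' => ((BasedNatTrans.forgetful _ _).mapIso e).app x'
      n₂ := fun β => e.hom.toNatTrans.naturality β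
      l₂ := fun x' => Vert.app e.hom x' }
  exact Groth.Agent.Lib.Helper27.RepWithKit.transport' P (fpMap D)
    (isEquivOver_fpMap D (isEquivOver_id _) ha hb)
    (FibCat.fpFst G' f') (FibCat.fpFst (BasedFunctor.comp G' b) f)
    (fun t => ⟨Iso.refl _, Vert.id _⟩) (hf U (BasedFunctor.comp G' b))

theorem repByAlgSpWith_of_equiv' (P : MorphismProperty (AlgSp.Sp S)) (f : 𝒳 ⥤ᵇ 𝒴)
    (f' : 𝒳' ⥤ᵇ 𝒴') (a : 𝒳' ⥤ᵇ 𝒳) (b : 𝒴' ⥤ᵇ 𝒴) (ha : IsEquivOver a) (hb : IsEquivOver b)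
    (e : BasedFunctor.comp f' b ≅ BasedFunctor.comp a f) (hf' : AlgSt.RepByAlgSpWith P f') :
    AlgSt.RepByAlgSpWith P f := by
  intro U G
  obtain ⟨b', hb', -, ⟨ε⟩⟩ := exists_inverse b hb
  let D : MapData G f (BasedFunctor.comp G b') f' (BasedFunctor.id _) a b :=
    { e₁ := fun s => ((BasedNatTrans.forgetful _ _).mapIso ε).app (G.toFunctor.obj s)
      n₁ := fun α => ε.hom.toNatTrans.naturality (G.toFunctor.map α)
      l₁ := fun s => Vert.app ε.hom _
      e₂ := fun x' => ((BasedNatTrans.forgetful _ _).mapIso e).app x'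
      n₂ := fun β => e.hom.toNatTrans.naturality β
      l₂ := fun x' => Vert.app e.hom x' }
  exact Groth.Agent.Lib.Helper27.RepWithKit.transport P (fpMap D)
    (isEquivOver_fpMap D (isEquivOver_id _) ha hb)
    (FibCat.fpFst (BasedFunctor.comp G b') f') (FibCat.fpFst G f)
    (fun t => ⟨Iso.refl _, Vert.id _⟩) (hf' U (BasedFunctor.comp G b'))

end Equiv

section Graph

variable {𝒳 : BasedCategory.{v₂, u₂} (Over S)} {𝒴 : BasedCategory.{v₃, u₃} (Over S)}
  {𝒯 : BasedCategory.{v₄, u₄} (Over S)}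

/-- The graph of a morphism over `𝒯` is a base change of the diagonal of the target. -/
theorem repByAlgSpWith_graph (P : MorphismProperty (AlgSp.Sp S)) (p : 𝒳 ⥤ᵇ 𝒯) (q : 𝒴 ⥤ᵇ 𝒯)
    (g : 𝒳 ⥤ᵇ 𝒴) (e : BasedFunctor.comp (BasedFunctor.id 𝒳) p ≅ BasedFunctor.comp g q)
    (h : AlgSt.RepByAlgSpWith P (FibCat.diag q)) :
    AlgSt.RepByAlgSpWith P (FibCat.fpLift (BasedFunctor.id 𝒳) g e) := by
  have h1 := Groth.Agent.Lib.Helper27.DiagRepWith.repByAlgSpWith_diag_fpFst P q p h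
  refine Groth.Agent.Lib.Helper27.SectionDiag.repByAlgSpWith_section P (FibCat.fpFst p q)
    (FibCat.fpLift (BasedFunctor.id 𝒳) g e) ?_ h1
  exact BasedNatIso.mkNatIso (NatIso.ofComponents (fun x => Iso.refl _)
    (fun α => (Category.comp_id _).trans (Category.id_comp _).symm))
    (fun x => (Vert.id x).lift rfl)

end Graph

end Groth.Agent.Lib.Helper27.RepWithGeneral
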