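import Groth.Agent.Lib.Helper27.PshRep
import Groth.Agent.Lib.Helper27.RepWithGeneral
import Groth.Agent.Lib.Helper27.AlgStackEquiv
import Groth.Agent.S9874

/-!
# Morphisms between categories representable by algebraic spaces (helper27)
-/

set_option autoImplicit false
set_option backward.isDefEq.respectTransparency false
set_option backward.isDefEq.respectTransparency.types false

universe v₃ u₃ v₂ u₂ u

open CategoryTheory CategoryTheory.Limits AlgebraicGeometry Opposite FibCat
  Groth.Agent.Lib.Helper27.FpKit Groth.Agent.Lib.Helper27.PshKit Groth.Agent.Lib.Helper27.PshFp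

namespace Groth.Agent.Lib.Helper27.PshRepSp

variable {S : Scheme.{u}}

open Stk

theorem repBySp_of_spaces {F G : AlgSp.Space S} (φ : F.obj ⟶ G.obj) : AlgSp.RepBySp φ.hom := by
  rw [AlgSp.repBySp_hom_iff]
  intro U ξ F' fst snd sq
  exact Groth.Agent.S9874.result S G.obj G.property.diag F
    ⟨(AlgSp.yon S).obj U, AlgSp.IsAlgSpace.yon_obj U⟩ φ ξ F' fst snd sq

section Strict

variable {𝒳 : BasedCategory.{v₂, u₂} (Over S)} {𝒴 : BasedCategory.{v₃, u₃} (Over S)}
  {P Q : AlgSp.PSp S} (g : Stk.ofPsh P ⥤ᵇ 𝒴) (b : Stk.ofPsh Q ⥤ᵇ 𝒴) (b' : 𝒴 ⥤ᵇ Stk.ofPsh Q)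
  (ε : BasedFunctor.comp b' b ≅ BasedFunctor.id 𝒴)

/-- The map of presheaves underlying a functor to a category equivalent to a category of
elements. -/
abbrev strictMap : P ⟶ Q := pshMapOf (BasedFunctor.comp g b')

/-- The strictification isomorphism. -/
def strictIso : BasedFunctor.comp (Stk.ofPshMap (strictMap g b')) b ≅ g :=
  BasedNatIso.mkNatIso
    (NatIso.ofComponents
      (fun x => b.toFunctor.mapIso (τ (BasedFunctor.comp g b') x) ≪≫
        ((BasedNatTrans.forgetful _ _).mapIso ε).app (g.toFunctor.obj x))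
      (fun {x x'} α => by
        have h1 := τ_nat (BasedFunctor.comp g b') α
        have h2 := ε.hom.toNatTrans.naturality (g.toFunctor.map α)
        change b.toFunctor.map ((Stk.ofPshMap (strictMap g b')).toFunctor.map α) ≫
          b.toFunctor.map (τ (BasedFunctor.comp g b') x').hom ≫
            ε.hom.toNatTrans.app (g.toFunctor.obj x') =
          (b.toFunctor.map (τ (BasedFunctor.comp g b') x).hom ≫
            ε.hom.toNatTrans.app (g.toFunctor.obj x)) ≫ g.toFunctor.map α
        rw [← Category.assoc, ← b.toFunctor.map_comp, h1, b.toFunctor.map_comp, Category.assoc,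
          Category.assoc]
        congr 1))
    (fun x => by
      have h1 : Vert (b.toFunctor.map (τ (BasedFunctor.comp g b') x).hom) :=
        (τ_vert (BasedFunctor.comp g b') x).map b
      have h2 : Vert (ε.hom.toNatTrans.app (g.toFunctor.obj x)) := Vert.app ε.hom _
      exact (h1.comp h2).lift ((BasedFunctor.comp (Stk.ofPshMap (strictMap g b')) b).w_obj x))

end Strict

theorem repByAlgSp1_of_repByAlgSp {𝒳 𝒴 : AlgSt.Cat S} (hX : AlgSt.RepByAlgSp 𝒳)
    (hY : AlgSt.RepByAlgSp 𝒴) (f : 𝒳 ⥤ᵇ 𝒴) : AlgSt.RepByAlgSp1 f := by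
  obtain ⟨F, eX, heX⟩ := hX
  obtain ⟨G, eY, heY⟩ := hY
  obtain ⟨b', hb', -, ⟨ε⟩⟩ := exists_inverse eY heY
  let φ : F.obj.obj ⟶ G.obj.obj := strictMap (BasedFunctor.comp eX f) b'
  have hφ : AlgSp.RepBySp φ := repBySp_of_spaces (F := F) (G := G) (ObjectProperty.homMk φ)
  have h1 : AlgSt.RepByAlgSp1 (Stk.ofPshMap φ) :=
    Groth.Agent.Lib.Helper27.PshRep.repByAlgSp1_of_repBySp φ hφ
  rw [Groth.Agent.Lib.Helper27.AlgStackEquiv.repByAlgSp1_iff] at h1 ⊢
  exact Groth.Agent.Lib.Helper27.RepWithGeneral.repByAlgSpWith_of_equiv' ⊤ f (Stk.ofPshMap φ) eX eY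
    heX heY (strictIso (BasedFunctor.comp eX f) eY b' ε) h1

end Groth.Agent.Lib.Helper27.PshRepSp
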