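import Groth.Agent.Lib.Helper27.FibSetPsh
import Groth.Agent.Lib.Helper27.PshRepSp
import Groth.Agent.Lib.Helper27.PshBootComp
import Groth.Agent.Lib.Helper27.MonoFF
import Groth.Agent.Lib.Helper27.FpFib

/-!
# Base change of a morphism representable by algebraic spaces to an algebraic space (helper27)
-/

set_option autoImplicit false
set_option backward.isDefEq.respectTransparency false
set_option backward.isDefEq.respectTransparency.types false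

universe v₂ u₂ v u

open CategoryTheory CategoryTheory.Limits AlgebraicGeometry Opposite FibCat
  Groth.Agent.Lib.Helper27.FpKit Groth.Agent.Lib.Helper27.PshKit

namespace Groth.Agent.Lib.Helper27.FpRepSp

section General

variable {C : Type u} [Category.{v} C] {𝒲 : BasedCategory.{v₂, u₂} C}

open Groth.Agent.Lib.Helper27.SetoidToSet Groth.Agent.Lib.Helper27.FibSetPsh
  Groth.Agent.Lib.Helper27.FibSetAux

/-- A category fibred in setoids is equivalent to the category of elements of a presheaf. -/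
theorem exists_psh_of_fibSetoid (hp : FibCat.IsFibGrpd 𝒲.p)
    (hthin : ∀ U : C, Quiver.IsThin (𝒲.p.Fiber U)) :
    ∃ (W : Cᵒᵖ ⥤ Type u₂) (E : 𝒲 ⥤ᵇ Stk.ofPsh W), IsEquivOver E :=
  ⟨fibPsh (ul_of_isFibSet (isFibSet_quot hp)),
    BasedFunctor.comp (toQuot hp) (toPsh (ul_of_isFibSet (isFibSet_quot hp))),
    isEquivOver_comp _ _ (isEquivOver_toQuot hp hthin) (isEquivOver_toPsh _)⟩

end General

variable {S : Scheme.{u}}

theorem thin_fp {𝒳 𝒴 𝒵 : AlgSt.Cat S} (f : 𝒳 ⥤ᵇ 𝒴) (g : 𝒵 ⥤ᵇ 𝒴) [f.toFunctor.Faithful]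
    (hZ : AlgSt.RepByAlgSp 𝒵) (U : Over S) : Quiver.IsThin ((FibCat.fp g f).p.Fiber U) := by
  rw [Groth.Agent.Lib.Helper27.StackFp.thin_iff]
  intro t t' Φ Ψ hΦ hΨ
  have h1 : Φ.hom.fst = Ψ.hom.fst :=
    Groth.Agent.Lib.Helper27.MonoFF.vert_ext_of_rep hZ _ _
      (Vert.of_lift (Groth.Agent.Lib.Helper27.StackFp.fst_lift Φ _ hΦ))
      (Vert.of_lift (Groth.Agent.Lib.Helper27.StackFp.fst_lift Ψ _ hΨ))
  apply Groth.Agent.Lib.Helper27.StackFp.hom_ext' h1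
  apply f.toFunctor.map_injective
  apply (cancel_epi t.obj.iso.hom).1
  rw [← hom_w Φ, ← hom_w Ψ, h1]

theorem repByAlgSp_fp {𝒳 𝒴 𝒵 : AlgSt.Cat S}
    (h𝒳 : FibCat.IsFibGrpd 𝒳.p) (h𝒴 : FibCat.IsFibGrpd 𝒴.p) (h𝒵 : FibCat.IsFibGrpd 𝒵.p)
    (f : 𝒳 ⥤ᵇ 𝒴) (g : 𝒵 ⥤ᵇ 𝒴) (hf : AlgSt.RepByAlgSp1 f) (hZ : AlgSt.RepByAlgSp 𝒵) :
    AlgSt.RepByAlgSp (FibCat.fp g f) := by
  have hfaith := Groth.Agent.Lib.Helper27.MonoFF.faithful_of_repByAlgSp1 h𝒳 h𝒴 f hf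
  have hW : FibCat.IsFibGrpd (FibCat.fp g f).p :=
    Groth.Agent.Lib.Helper27.FpFib.isFibGrpd_fp g f h𝒵 h𝒳 h𝒴
  obtain ⟨W, E, hE⟩ := exists_psh_of_fibSetoid hW (thin_fp f g hZ)
  obtain ⟨E', hE', -, -⟩ := exists_inverse E hE
  obtain ⟨Z, eZ, heZ⟩ := hZ
  obtain ⟨eZ', heZ', -, ⟨ε⟩⟩ := exists_inverse eZ heZ
  let q : Stk.ofPsh W ⥤ᵇ 𝒵 := BasedFunctor.comp E' (FibCat.fpFst g f)
  let π : W ⟶ Z.obj.obj := Groth.Agent.Lib.Helper27.PshRepSp.strictMap q eZ'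
  have h6 : AlgSt.RepByAlgSpWith ⊤ (FibCat.fpFst g f) :=
    Groth.Agent.Lib.Helper27.RepWithGeneral.repByAlgSpWith_fpFst ⊤ f g
      ((Groth.Agent.Lib.Helper27.AlgStackEquiv.repByAlgSp1_iff f).1 hf)
  have h7 : AlgSt.RepByAlgSpWith ⊤ (Stk.ofPshMap π) :=
    Groth.Agent.Lib.Helper27.RepWithGeneral.repByAlgSpWith_of_equiv ⊤ (FibCat.fpFst g f)
      (Stk.ofPshMap π) E' eZ hE' heZ
      (Groth.Agent.Lib.Helper27.PshRepSp.strictIso q eZ eZ' ε) h6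
  have h8 : AlgSp.RepBySp π :=
    Groth.Agent.Lib.Helper27.PshRep.repBySp_of_repByAlgSp1 π
      ((Groth.Agent.Lib.Helper27.AlgStackEquiv.repByAlgSp1_iff _).2 h7)
  obtain ⟨hsh, halg⟩ := Groth.Agent.Lib.Helper27.PshBootComp.isAlgSpaceP_of_repBySp π h8
    ((AlgSp.isAlgSpaceP_obj_iff Z.obj).2 Z.property)
  exact ⟨⟨⟨W, hsh⟩, halg⟩, E', hE'⟩

end Groth.Agent.Lib.Helper27.FpRepSp
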