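import Groth.Agent.Lib.Helper27.FpRepSp
import Groth.Agent.Lib.Helper27.FpSwap
import Groth.Agent.Lib.Helper27.ReprAux

/-!
# Consequences of the bootstrap for categories over schemes (helper27)
-/

set_option autoImplicit false
set_option backward.isDefEq.respectTransparency false
set_option backward.isDefEq.respectTransparency.types false

universe v₂ u₂ v u

open CategoryTheory CategoryTheory.Limits AlgebraicGeometry Opposite FibCat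
  Groth.Agent.Lib.Helper27.FpKit Groth.Agent.Lib.Helper27.PshKit

namespace Groth.Agent.Lib.Helper27.FpRepSp2

variable {S : Scheme.{u}}

theorem isFibSetoid_of_repByAlgSp {𝒳 : AlgSt.Cat S} (h𝒳 : FibCat.IsFibGrpd 𝒳.p)
    (hr : AlgSt.RepByAlgSp 𝒳) : FibCat.IsFibSetoid 𝒳.p := by
  refine ⟨h𝒳, fun U => ?_⟩
  rw [Groth.Agent.Lib.Helper27.StackFp.thin_iff]
  intro x y φ ψ hφ hψ
  exact Groth.Agent.Lib.Helper27.MonoFF.vert_ext_of_rep hr φ ψ (Vert.of_lift hφ) (Vert.of_lift hψ)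

theorem repByAlgSp_of_equiv {𝒜 ℬ : AlgSt.Cat S} (E : 𝒜 ⥤ᵇ ℬ) (hE : IsEquivOver E)
    (h : AlgSt.RepByAlgSp 𝒜) : AlgSt.RepByAlgSp ℬ := by
  obtain ⟨F, e, he⟩ := h
  exact ⟨F, BasedFunctor.comp e E, isEquivOver_comp e E he hE⟩

theorem repByAlgSp_overCat (U : Over S) : AlgSt.RepByAlgSp (FibCat.overCat U) :=
  ⟨⟨(AlgSp.yon S).obj U, AlgSp.IsAlgSpace.yon_obj U⟩, AlgSt.toOverCat U,
    Groth.Agent.Lib.Helper27.PshRep.isEquivOver_toOverCat U⟩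

theorem repByAlgSp1_from_space {𝒳 : AlgSt.Cat S} (h𝒳 : FibCat.IsFibGrpd 𝒳.p)
    (h : ∀ (U : Over S) (x : FibCat.overCat U ⥤ᵇ 𝒳), AlgSt.RepByAlgSp1 x)
    (𝒰 : AlgSt.Cat S) (h𝒰 : FibCat.IsFibGrpd 𝒰.p) (hU : AlgSt.RepByAlgSp 𝒰) (x : 𝒰 ⥤ᵇ 𝒳) :
    AlgSt.RepByAlgSp1 x := by
  intro V y
  have h1 : AlgSt.RepByAlgSp (FibCat.fp x y) :=
    Groth.Agent.Lib.Helper27.FpRepSp.repByAlgSp_fp
      (Groth.Agent.Lib.Helper27.ReprAux.isFibGrpd_overCat V) h𝒳 h𝒰 y x (h V y) hU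
  exact repByAlgSp_of_equiv _ (Groth.Agent.Lib.Helper27.FpSwap.isEquivOver_swap x y) h1

end Groth.Agent.Lib.Helper27.FpRepSp2
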