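import Groth.Agent.Lib.Helper27.QcStack
import Groth.Agent.Lib.Helper27.CompareDiag
import Groth.Agent.Lib.Helper27.DiagCancel
import Groth.Agent.Lib.Helper27.DiagComp
import Groth.Agent.Lib.Helper27.DiagRepWith
import Groth.Agent.Lib.Helper27.FpRepSp
import Groth.Agent.Lib.Helper27.FpRepSp2

/-!
# The 2-fibre product of algebraic stacks is algebraic (helper27)
-/

set_option autoImplicit false
set_option backward.isDefEq.respectTransparency false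
set_option backward.isDefEq.respectTransparency.types false

universe u

open CategoryTheory CategoryTheory.Limits AlgebraicGeometry Opposite FibCat
  Groth.Agent.Lib.Helper27.FpKit Groth.Agent.Lib.Helper27.RepWithComp
  Groth.Agent.Lib.Helper27.LocQOver Groth.Agent.Lib.Helper27.FpBaseChange

namespace Groth.Agent.Lib.Helper27.AlgStackFp

variable {S : Scheme.{u}} {𝒳 𝒴 𝒵 𝒯 : AlgSt.Cat S} (f : 𝒳 ⥤ᵇ 𝒵) (g : 𝒴 ⥤ᵇ 𝒵)

/-- The canonical 2-isomorphism of `𝒳 ×_𝒵 𝒴` pushed along `t`. -/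
def eT (t : 𝒵 ⥤ᵇ 𝒯) : BasedFunctor.comp (fpFst f g) (BasedFunctor.comp f t) ≅
    BasedFunctor.comp (fpSnd f g) (BasedFunctor.comp g t) :=
  BasedNatIso.mkNatIso
    (NatIso.ofComponents (fun x => t.toFunctor.mapIso x.obj.iso) (fun {x x'} m => by
      change t.toFunctor.map (f.toFunctor.map m.hom.fst) ≫ t.toFunctor.map x'.obj.iso.hom =
        t.toFunctor.map x.obj.iso.hom ≫ t.toFunctor.map (g.toFunctor.map m.hom.snd)
      rw [← t.toFunctor.map_comp, ← t.toFunctor.map_comp, hom_w m]))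
    (fun x => ((vert_iso x).map t).lift ((BasedFunctor.comp f t).w_obj x.obj.fst))

theorem heT (t : 𝒵 ⥤ᵇ 𝒯) (x : (fp f g).obj) :
    (eT f g t).hom.toNatTrans.app x = t.map x.obj.iso.hom := rfl

theorem repByAlgSp1_diag_fp (h𝒳 : FibCat.IsFibGrpd 𝒳.p) (h𝒴 : FibCat.IsFibGrpd 𝒴.p)
    (h𝒵 : FibCat.IsFibGrpd 𝒵.p)
    (hΔ𝒳 : AlgSt.RepByAlgSp1 (diag (toSelf 𝒳))) (hΔ𝒴 : AlgSt.RepByAlgSp1 (diag (toSelf 𝒴)))
    (hΔ𝒵 : AlgSt.RepByAlgSp1 (diag (toSelf 𝒵))) :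
    AlgSt.RepByAlgSp1 (diag (toSelf (fp f g))) := by
  have hg : AlgSt.RepByAlgSp1 (diag g) :=
    Groth.Agent.Lib.Helper27.DiagCancel.repByAlgSp1_diag h𝒴 h𝒵 hΔ𝒴 hΔ𝒵 g
  have h1 : AlgSt.RepByAlgSpWith ⊤ (diag (fpFst f g)) :=
    Groth.Agent.Lib.Helper27.DiagRepWith.repByAlgSpWith_diag_fpFst ⊤ g f
      ((Groth.Agent.Lib.Helper27.AlgStackEquiv.repByAlgSp1_iff _).1 hg)
  have h2 : AlgSt.RepByAlgSpWith ⊤ (diag (BasedFunctor.comp (fpFst f g) (toSelf 𝒳))) :=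
    Groth.Agent.Lib.Helper27.DiagComp.repByAlgSpWith_diag_comp (fpFst f g) (toSelf 𝒳) ⊤
      compHyp_top (Groth.Agent.Lib.Helper27.FpFib.isFibGrpd_fp f g h𝒳 h𝒴 h𝒵) h𝒳 h1
      ((Groth.Agent.Lib.Helper27.AlgStackEquiv.repByAlgSp1_iff _).1 hΔ𝒳)
  rw [Groth.Agent.Lib.Helper27.DiagCancel.comp_toSelf] at h2
  exact (Groth.Agent.Lib.Helper27.AlgStackEquiv.repByAlgSp1_iff _).2 h2

theorem hasAtlas_fp (h𝒳 : FibCat.IsFibGrpd 𝒳.p) (h𝒴 : FibCat.IsFibGrpd 𝒴.p)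
    (h𝒵 : FibCat.IsFibGrpd 𝒵.p) (hΔ𝒵 : AlgSt.RepByAlgSp1 (diag (toSelf 𝒵)))
    (hx : AlgSt.HasAtlas (AlgSp.LocP @Smooth) 𝒳) (hy : AlgSt.HasAtlas (AlgSp.LocP @Smooth) 𝒴) :
    AlgSt.HasAtlas (AlgSp.LocP @Smooth) (fp f g) := by
  obtain ⟨U, x, hx₁, hx₂⟩ := hx
  obtain ⟨V, y, hy₁, hy₂⟩ := hy
  have hself := Groth.Agent.Lib.Helper27.ReprDiag.isFibGrpd_selfOver (C := Over S)
  have hU := Groth.Agent.Lib.Helper27.ReprAux.isFibGrpd_overCat U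
  have hV := Groth.Agent.Lib.Helper27.ReprAux.isFibGrpd_overCat V
  let T := toSelf 𝒵
  let F := BasedFunctor.comp f T
  let G := BasedFunctor.comp g T
  let c := Groth.Agent.Lib.Helper27.CompareDiag.cmp f g T (eT f g T)
  have hc : AlgSt.RepByAlgSp1 c :=
    (Groth.Agent.Lib.Helper27.AlgStackEquiv.repByAlgSp1_iff _).2
      (Groth.Agent.Lib.Helper27.CompareDiag.repByAlgSpWith_cmp f g T (eT f g T) (heT f g T) ⊤
        ((Groth.Agent.Lib.Helper27.AlgStackEquiv.repByAlgSp1_iff _).1 hΔ𝒵))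
  let m₁ := mapFst F G x
  let m₂ := mapSnd (BasedFunctor.comp x F) G y
  let m := BasedFunctor.comp m₂ m₁
  have hFG := Groth.Agent.Lib.Helper27.FpFib.isFibGrpd_fp F G h𝒳 h𝒴 hself
  have hQ₁ := Groth.Agent.Lib.Helper27.FpFib.isFibGrpd_fp (BasedFunctor.comp x F) G hU h𝒴 hself
  have hQ := Groth.Agent.Lib.Helper27.FpFib.isFibGrpd_fp (BasedFunctor.comp x F)
    (BasedFunctor.comp y G) hU hV hself
  have hP := Groth.Agent.Lib.Helper27.FpFib.isFibGrpd_fp f g h𝒳 h𝒴 h𝒵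
  have hm : ∀ (R : MorphismProperty (AlgSp.Sp S)), CompHyp R → AlgSt.RepByAlgSpWith R x →
      AlgSt.RepByAlgSpWith R y → AlgSt.RepByAlgSpWith R m :=
    fun R H h1 h2 => comp_gen R H hQ hQ₁ m₂ m₁
      (repByAlgSpWith_mapSnd (BasedFunctor.comp x F) G y R h2) (repByAlgSpWith_mapFst F G x R h1)
  have h𝒬 : AlgSt.RepByAlgSp (fp (BasedFunctor.comp x F) (BasedFunctor.comp y G)) :=
    Groth.Agent.Lib.Helper27.DiagLft.repByAlgSp1_to_selfOver V (BasedFunctor.comp y G) U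
      (BasedFunctor.comp x F)
  have h𝒲 : AlgSt.RepByAlgSp (fp m c) :=
    Groth.Agent.Lib.Helper27.FpRepSp.repByAlgSp_fp hP hFG hQ c m hc h𝒬
  obtain ⟨W, eW, heW⟩ := h𝒲
  obtain ⟨U', c', hc'₁, hc'₂⟩ := exists_atlas_of_equiv W eW heW
  have hW := Groth.Agent.Lib.Helper27.FpFib.isFibGrpd_fp m c hQ hP hFG
  have hU' := Groth.Agent.Lib.Helper27.ReprAux.isFibGrpd_overCat U'
  exact ⟨U', BasedFunctor.comp c' (fpSnd m c),
    comp_gen _ (compHyp_locP Groth.Agent.Lib.Helper3.isEtLocal_smooth) hU' hW c' (fpSnd m c) hc'₁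
      (Groth.Agent.Lib.Helper27.FpSwap.repByAlgSpWith_fpSnd _ c m
        (hm _ (compHyp_locP Groth.Agent.Lib.Helper3.isEtLocal_smooth) hx₁ hy₁)),
    comp_gen _ Groth.Agent.Lib.Helper27.DiagLft.compHyp_isSurjectiveMor hU' hW c' (fpSnd m c) hc'₂
      (Groth.Agent.Lib.Helper27.FpSwap.repByAlgSpWith_fpSnd _ c m
        (hm _ Groth.Agent.Lib.Helper27.DiagLft.compHyp_isSurjectiveMor hx₂ hy₂))⟩

theorem isPrestack_of_isStack {𝒜 : AlgSt.Cat S} (h : Stk.IsStack (AlgSp.J S) 𝒜) :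
    Stk.IsPrestack (AlgSp.J S) 𝒜 :=
  ⟨h.1, fun _ R hR => by
    have := h.2 R hR
    have h' : (Stk.resSieve R 𝒜).IsEquivalence := this
    exact ⟨inferInstance, inferInstance⟩⟩

theorem isAlgStack_fp (h𝒵 : Stk.IsStack (AlgSp.J S) 𝒵)
    (hΔ : AlgSt.RepByAlgSp1 (diag (toSelf 𝒵)))
    (h𝒳 : AlgSt.IsAlgStack Scheme.fppfPrecoverage 𝒳)
    (h𝒴 : AlgSt.IsAlgStack Scheme.fppfPrecoverage 𝒴) :
    AlgSt.IsAlgStack Scheme.fppfPrecoverage (fp f g) where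
  isStack := Groth.Agent.Lib.Helper27.StackFp.isStack_fp _ f g h𝒳.isStack h𝒴.isStack
    (isPrestack_of_isStack h𝒵)
  diag := repByAlgSp1_diag_fp f g h𝒳.isStack.1 h𝒴.isStack.1 h𝒵.1 h𝒳.diag h𝒴.diag hΔ
  atlas := hasAtlas_fp f g h𝒳.isStack.1 h𝒴.isStack.1 h𝒵.1 hΔ h𝒳.atlas h𝒴.atlas

end Groth.Agent.Lib.Helper27.AlgStackFp
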