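import Groth.Agent.Lib.Helper27.EqSec
import Groth.Agent.Lib.Helper27.PshRepSp

/-!
# The base change of the diagonal of a functor representable by algebraic spaces (helper27)

For `f : 𝒳 ⟶ 𝒴` representable by algebraic spaces and `G : (Sch/U) ⟶ 𝒳 ×_𝒴 𝒳`, the base change of the
diagonal of `f` along `G` is presented by the fibre product of two sections `σ₁`, `σ₂ : h_U ⟶ F` of
an algebraic space `F` over `h_U`.
-/

set_option autoImplicit false
set_option backward.isDefEq.respectTransparency false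
set_option backward.isDefEq.respectTransparency.types false

universe u

open CategoryTheory CategoryTheory.Limits AlgebraicGeometry Opposite FibCat
  Groth.Agent.Lib.Helper27.FpKit Groth.Agent.Lib.Helper27.PshKit Groth.Agent.Lib.Helper27.PshFp
  Groth.Agent.Lib.Helper27.PshRep Groth.Agent.Lib.Helper27.PshRepSp Groth.Agent.Lib.Helper27.EqSec

namespace Groth.Agent.Lib.Helper27.DiagRep

variable {S : Scheme.{u}}

open Stk

section Setup

variable {𝒳 𝒴 : AlgSt.Cat S} (f : 𝒳 ⥤ᵇ 𝒴) {U : Over S} (G : overCat U ⥤ᵇ fp f f)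
  {F : AlgSp.Sp S} (e : AlgSt.ofSp F ⥤ᵇ fp (y f G) f) (e' : fp (y f G) f ⥤ᵇ AlgSt.ofSp F)
  (ε : BasedFunctor.comp e' e ≅ BasedFunctor.id _)

/-- The first section, from the category of `h_U`. -/
abbrev g₁ : AlgSt.ofSch U ⥤ᵇ fp (y f G) f := BasedFunctor.comp (AlgSt.toOverCat U) (s₁ f G)

/-- The second section, from the category of `h_U`. -/
abbrev g₂ : AlgSt.ofSch U ⥤ᵇ fp (y f G) f := BasedFunctor.comp (AlgSt.toOverCat U) (s₂ f G)

/-- The first section as a map of presheaves. -/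
abbrev σ₁ : (AlgSp.pyon S).obj U ⟶ F.obj := strictMap (g₁ f G) e'

/-- The second section as a map of presheaves. -/
abbrev σ₂ : (AlgSp.pyon S).obj U ⟶ F.obj := strictMap (g₂ f G) e'

/-- The morphism of cospans from the cospan of the two maps of presheaves to the cospan of the two
sections. -/
def D : MapData (s₁ f G) (s₂ f G) (Stk.ofPshMap (σ₁ f G e')) (Stk.ofPshMap (σ₂ f G e'))
    (AlgSt.toOverCat U) (AlgSt.toOverCat U) e where
  e₁ := fun x' => ((BasedNatTrans.forgetful _ _).mapIso (strictIso (g₁ f G) e e' ε)).app x'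
  n₁ := fun α => (strictIso (g₁ f G) e e' ε).hom.toNatTrans.naturality α
  l₁ := fun x' => Vert.app (strictIso (g₁ f G) e e' ε).hom x'
  e₂ := fun x' => ((BasedNatTrans.forgetful _ _).mapIso (strictIso (g₂ f G) e e' ε)).app x'
  n₂ := fun α => (strictIso (g₂ f G) e e' ε).hom.toNatTrans.naturality α
  l₂ := fun x' => Vert.app (strictIso (g₂ f G) e e' ε).hom x'

include ε in
theorem σ₂_section :
    σ₂ f G e' ≫ (AlgSt.spMapOfOver (BasedFunctor.comp e (fpFst (y f G) f))).hom = 𝟙 _ := by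
  rw [spMapOfOver_eq, ← pshMapOf_comp, ← pshMapOf_id]
  apply pshMapOf_congr
  intro a
  exact ⟨(AlgSt.ofOverCat U).toFunctor.map ((fpFst (y f G) f).toFunctor.map
      (ε.hom.toNatTrans.app ((g₂ f G).toFunctor.obj a))),
    ((Vert.app ε.hom ((g₂ f G).toFunctor.obj a)).map (fpFst (y f G) f)).map (AlgSt.ofOverCat U)⟩

include ε in
theorem σ₁_section :
    σ₁ f G e' ≫ (AlgSt.spMapOfOver (BasedFunctor.comp e (fpFst (y f G) f))).hom = 𝟙 _ := by
  rw [spMapOfOver_eq, ← pshMapOf_comp, ← pshMapOf_id]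
  apply pshMapOf_congr
  intro a
  exact ⟨(AlgSt.ofOverCat U).toFunctor.map ((fpFst (y f G) f).toFunctor.map
      (ε.hom.toNatTrans.app ((g₁ f G).toFunctor.obj a))),
    ((Vert.app ε.hom ((g₁ f G).toFunctor.obj a)).map (fpFst (y f G) f)).map (AlgSt.ofOverCat U)⟩

end Setup

section Main

variable {𝒳 𝒴 : AlgSt.Cat S} (f : 𝒳 ⥤ᵇ 𝒴)

/-- The presentation of the base change of the diagonal. -/
theorem exists_pres (Q : MorphismProperty (AlgSp.Sp S)) (hf : AlgSt.RepByAlgSpWith Q f)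
    (U : Over S) (G : overCat U ⥤ᵇ fp f f) :
    ∃ (F : AlgSp.Space S) (π : F.obj ⟶ (AlgSp.yon S).obj U)
      (τ₁ τ₂ : (AlgSp.yon S).obj U ⟶ F.obj), Q π ∧ τ₁ ≫ π = 𝟙 _ ∧ τ₂ ≫ π = 𝟙 _ ∧
      ∀ (W : AlgSp.Sp S) (fst snd : W ⟶ (AlgSp.yon S).obj U), IsPullback fst snd τ₂ τ₁ →
        ∃ (Ξ : AlgSt.ofSp W ⥤ᵇ fp G (diag f)), IsEquivOver Ξ ∧
          AlgSt.spMapOfOver (BasedFunctor.comp Ξ (fpFst G (diag f))) = snd := by
  obtain ⟨F, e, he, hQ⟩ := hf U (y f G)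
  obtain ⟨e', he', -, ⟨ε⟩⟩ := exists_inverse e he
  refine ⟨F, AlgSt.spMapOfOver (BasedFunctor.comp e (fpFst (y f G) f)),
    ObjectProperty.homMk (σ₁ f G e'), ObjectProperty.homMk (σ₂ f G e'), hQ, ?_, ?_, ?_⟩
  · apply ObjectProperty.hom_ext
    exact σ₁_section f G e e' ε
  · apply ObjectProperty.hom_ext
    exact σ₂_section f G e e' ε
  · intro W fst snd sq
    have sqP : IsPullback fst.hom snd.hom (σ₂ f G e') (σ₁ f G e') :=
      sq.map (sheafToPresheaf (AlgSp.J S) (Type (u + 1)))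
    obtain ⟨Φ', hΦ', -, ⟨εΦ⟩⟩ := exists_inverse (Φ f G) (isEquivOver_Φ f G)
    have hD : IsEquivOver (fpMap (D f G e e' ε)) :=
      isEquivOver_fpMap (D f G e e' ε) (isEquivOver_toOverCat U) (isEquivOver_toOverCat U) he
    have hB : IsEquivOver (bridge sqP) := isEquivOver_bridge sqP
    obtain ⟨Ξ₀, hΞ₀⟩ : ∃ Ξ₀ : Stk.ofPsh W.obj ⥤ᵇ fp (s₁ f G) (s₂ f G),
        Ξ₀ = BasedFunctor.comp (bridge sqP) (fpMap (D f G e e' ε)) := ⟨_, rfl⟩
    have hΞ₀e : IsEquivOver Ξ₀ := by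
      rw [hΞ₀]
      exact isEquivOver_comp _ _ hB hD
    refine ⟨BasedFunctor.comp Ξ₀ Φ', isEquivOver_comp _ _ hΞ₀e hΦ', ?_⟩
    have h1 : AlgSt.spMapOfOver (F := W)
        (BasedFunctor.comp (BasedFunctor.comp Ξ₀ Φ') (fpFst G (diag f))) =
        AlgSt.spMapOfOver (F := W) (BasedFunctor.comp Ξ₀ (fpFst (s₁ f G) (s₂ f G))) := by
      apply Groth.Agent.Lib.Helper27.RepWithKit.spMapOfOver_congr
      intro t
      exact ⟨(fpFst (s₁ f G) (s₂ f G)).toFunctor.map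
          (εΦ.hom.toNatTrans.app (Ξ₀.toFunctor.obj t)),
        (Vert.app εΦ.hom (Ξ₀.toFunctor.obj t)).map (fpFst (s₁ f G) (s₂ f G))⟩
    rw [h1, hΞ₀]
    apply ObjectProperty.hom_ext
    apply NatTrans.ext
    funext T
    ext z
    obtain ⟨T⟩ := T
    change (⟨AlgSt.secHom _ ⟨T, z⟩⟩ : ULift _) = snd.hom.app (op T) z
    apply ULift.ext
    unfold AlgSt.secHom
    rw [eqToHom_refl, Category.id_comp]
    rfl

/-- The diagonal of a functor representable by algebraic spaces with property `Q` has every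
property `P` which holds for the fibre products of two sections of morphisms with `Q`. -/
theorem repByAlgSpWith_diag (Q P : MorphismProperty (AlgSp.Sp S))
    (hf : AlgSt.RepByAlgSpWith Q f)
    (hP : ∀ (F : AlgSp.Space S) (U : Over S) (π : F.obj ⟶ (AlgSp.yon S).obj U)
      (τ₁ τ₂ : (AlgSp.yon S).obj U ⟶ F.obj), Q π → τ₁ ≫ π = 𝟙 _ → τ₂ ≫ π = 𝟙 _ →
      P (pullback.snd τ₂ τ₁)) :
    AlgSt.RepByAlgSpWith P (diag f) := by
  intro U G
  obtain ⟨F, π, τ₁, τ₂, hQ, h1, h2, h⟩ := exists_pres f Q hf U G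
  have sq : IsPullback (pullback.fst τ₂ τ₁) (pullback.snd τ₂ τ₁) τ₂ τ₁ :=
    IsPullback.of_hasPullback τ₂ τ₁
  have hW : AlgSp.IsAlgSpace (pullback τ₂ τ₁) :=
    Groth.Agent.S9874.result S F.obj F.property.diag
      ⟨(AlgSp.yon S).obj U, AlgSp.IsAlgSpace.yon_obj U⟩
      ⟨(AlgSp.yon S).obj U, AlgSp.IsAlgSpace.yon_obj U⟩ τ₂ τ₁ _ _ _ sq
  obtain ⟨Ξ, hΞ, hsnd⟩ := h _ _ _ sq
  refine ⟨⟨pullback τ₂ τ₁, hW⟩, Ξ, hΞ, ?_⟩
  rw [hsnd]
  exact hP F U π τ₁ τ₂ hQ h1 h2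

/-- The diagonal of a functor representable by algebraic spaces is representable by schemes. -/
theorem isRepresentable1_diag (hf : AlgSt.RepByAlgSp1 f) : FibCat.IsRepresentable1 (diag f) := by
  intro U G
  obtain ⟨F, π, τ₁, τ₂, -, h1, h2, h⟩ := exists_pres f ⊤
    ((Groth.Agent.Lib.Helper27.AlgStackEquiv.repByAlgSp1_iff f).1 hf) U G
  have hτ₂ : AlgSp.Representable τ₂ := F.property.representable_from_yon τ₂
  obtain ⟨Ξ, hΞ, -⟩ := h _ _ _ (hτ₂.isPullback τ₁)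
  exact isRepresentable_of_equiv' Ξ hΞ
    ⟨hτ₂.pullback τ₁, AlgSt.toOverCat _, isEquivOver_toOverCat _⟩

end Main

end Groth.Agent.Lib.Helper27.DiagRep
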