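import Groth.Prelude.Def_AlgSt
import Groth.Prelude.Def_FibCat2
import Groth.Agent.Lib.Helper27.DescentKit
import Mathlib.CategoryTheory.Sites.IsSheafFor
import Mathlib.CategoryTheory.Sites.SheafOfTypes

/-!
# The category of elements of a presheaf is a stack iff the presheaf is a sheaf (helper27)
-/

set_option autoImplicit false
set_option backward.isDefEq.respectTransparency false
set_option backward.isDefEq.respectTransparency.types false

universe w v u

open CategoryTheory Opposite Groth.Agent.Lib.Helper27.DescentKit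

namespace Groth.Agent.Lib.Helper27.StackPsh

variable {C : Type u} [Category.{v} C] (P : Cᵒᵖ ⥤ Type w)

open Stk

theorem hom_eq_of_isHomLift {a b : EltObj P} {V U : C} (f : V ⟶ U) (φ : a ⟶ b)
    (hφ : (EltObj.forget P).IsHomLift f φ) :
    φ.hom = eqToHom (IsHomLift.domain_eq (EltObj.forget P) f φ) ≫ f ≫
      eqToHom (IsHomLift.codomain_eq (EltObj.forget P) f φ).symm :=
  IsHomLift.fac' (EltObj.forget P) f φ

theorem ext_of_isHomLift {a b : EltObj P} {V U : C} (f : V ⟶ U) (φ ψ : a ⟶ b)
    (hφ : (EltObj.forget P).IsHomLift f φ) (hψ : (EltObj.forget P).IsHomLift f ψ) : φ = ψ := by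
  apply EltObj.hom_ext
  rw [hom_eq_of_isHomLift P f φ hφ, hom_eq_of_isHomLift P f ψ hψ]

theorem isHomLift_of_hom_eq {a b : EltObj P} {V U : C} (f : V ⟶ U) (φ : a ⟶ b)
    (ha : a.base = V) (hb : b.base = U) (h : φ.hom = eqToHom ha ≫ f ≫ eqToHom hb.symm) :
    (EltObj.forget P).IsHomLift f φ :=
  IsHomLift.of_fac' (EltObj.forget P) f φ ha hb h

theorem isHomLift_self {a b : EltObj P} (φ : a ⟶ b) :
    (EltObj.forget P).IsHomLift φ.hom φ :=
  IsHomLift.map (EltObj.forget P) φ

theorem uniqMor {U : C} (R : Sieve U) : UniqMor R (ofPsh P) := by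
  intro x y φ ψ hφ hψ _
  exact ext_of_isHomLift P (𝟙 U) φ ψ hφ hψ

variable {P}

theorem map_eqToHom_map {A B : C} (h : A = B) (z : P.obj (op A)) :
    P.map (eqToHom h).op (P.map (eqToHom h.symm).op z) = z := by
  subst h; simp

theorem transport_sec {a b : EltObj P} {A B : C} (ha : a.base = A) (hb : b.base = B)
    (g : A ⟶ B) (ψ : a ⟶ b) (h : ψ.hom = eqToHom ha ≫ g ≫ eqToHom hb.symm) :
    P.map g.op (P.map (eqToHom hb.symm).op b.sec) = P.map (eqToHom ha.symm).op a.sec := by
  obtain ⟨A', sa⟩ := a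
  obtain ⟨B', sb⟩ := b
  change A' = A at ha
  change B' = B at hb
  subst ha hb
  simp only [eqToHom_refl, Category.id_comp, Category.comp_id] at h
  simp only [eqToHom_refl, op_id, FunctorToTypes.map_id_apply]
  rw [← h]
  exact ψ.map_sec

theorem glueMor_of_isSeparatedFor {U : C} (R : Sieve U)
    (hsep : Presieve.IsSeparatedFor P (R : Presieve U)) : GlueMor R (ofPsh P) := by
  intro x y hx hy M
  obtain ⟨U₁, s⟩ := x
  obtain ⟨U₂, t⟩ := y
  change U₁ = U at hx
  change U₂ = U at hy
  subst hx
  have hy' : U₁ = U₂ := hy.symm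
  subst hy'
  have hst : t = s := by
    apply hsep.ext
    intro V f hf
    let x' : EltObj P := ⟨V, P.map f.op s⟩
    let a : x' ⟶ (⟨U₁, s⟩ : EltObj P) := ⟨f, rfl⟩
    have ha : (EltObj.forget P).IsHomLift f a := isHomLift_self P a
    have hm := M.lift f a hf ha
    have h1 := (M.m f a hf ha).map_sec
    have h2 := hom_eq_of_isHomLift P f (M.m f a hf ha) hm
    simp only [eqToHom_refl, Category.id_comp, Category.comp_id] at h2
    rw [h2] at h1
    exact h1
  subst hst
  refine ⟨𝟙 _, IsHomLift.id rfl, ?_⟩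
  intro V f x' a hf ha
  rw [Category.comp_id]
  exact ext_of_isHomLift P f _ _ ha (M.lift f a hf ha)

theorem effective_of_isSheafFor {U : C} (R : Sieve U)
    (hsh : Presieve.IsSheafFor P (R : Presieve U)) : Effective R (ofPsh P) := by
  intro D
  have hbase : ∀ s : (sieveCat R).obj, (D.obj s).base = s.obj.left := fun s => D.w_obj s
  let x : Presieve.FamilyOfElements P (R : Presieve U) := fun V f hf =>
    P.map (eqToHom (hbase ⟨Over.mk f, hf⟩).symm).op (D.obj ⟨Over.mk f, hf⟩).sec
  have hDmap : ∀ {s s' : (sieveCat R).obj} (g : s ⟶ s'),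
      (D.map g).hom = eqToHom (hbase s) ≫ g.hom.left ≫ eqToHom (hbase s').symm := by
    intro s s' g
    haveI : (sieveCat R).p.IsHomLift g.hom.left g := IsHomLift.map (sieveCat R).p g
    have : (ofPsh P).p.IsHomLift g.hom.left (D.map g) :=
      BasedFunctor.preserves_isHomLift D g.hom.left g
    exact hom_eq_of_isHomLift P g.hom.left (D.map g) this
  have hx : x.Compatible := by
    rw [Presieve.compatible_iff_sieveCompatible]
    intro V W f g hf
    let s : (sieveCat R).obj := ⟨Over.mk f, hf⟩
    let s' : (sieveCat R).obj := ⟨Over.mk (g ≫ f), R.downward_closed hf g⟩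
    let γ : s' ⟶ s := ObjectProperty.homMk (Over.homMk g rfl)
    exact (transport_sec (hbase s') (hbase s) g (D.map γ) (hDmap γ)).symm
  obtain ⟨s₀, hs₀, -⟩ := hsh x hx
  let cc : ∀ s : (sieveCat R).obj, D.obj s ⟶ (⟨U, s₀⟩ : EltObj P) := fun s =>
    ⟨eqToHom (hbase s) ≫ s.obj.hom, by
      have h1 := hs₀ s.obj.hom s.property
      change P.map (eqToHom (hbase s) ≫ s.obj.hom).op s₀ = (D.obj s).sec
      rw [op_comp, Functor.map_comp_apply, h1]
      exact map_eqToHom_map (hbase s) _⟩
  refine ⟨⟨U, s₀⟩, cc, rfl, ?_, ?_⟩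
  · intro s
    exact isHomLift_of_hom_eq P s.obj.hom (cc s) (hbase s) rfl (by simp [cc])
  · intro s s' g
    apply EltObj.hom_ext
    change (D.map g).hom ≫ eqToHom (hbase s') ≫ s'.obj.hom = eqToHom (hbase s) ≫ s.obj.hom
    rw [hDmap g]
    simp only [Category.assoc, eqToHom_trans_assoc, eqToHom_refl, Category.id_comp]
    rw [Over.w g.hom]


theorem fam_congr {U : C} {R : Presieve U} (x : Presieve.FamilyOfElements P R) {V : C}
    {f f' : V ⟶ U} (h : f = f') (hf : R f) (hf' : R f') : x f hf = x f' hf' := by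
  subst h; rfl

theorem isSeparatedFor_of_glueMor {U : C} (R : Sieve U) (hg : GlueMor R (ofPsh P)) :
    Presieve.IsSeparatedFor P (R : Presieve U) := by
  intro x t₁ t₂ h₁ h₂
  let M : MatchFam R (ofPsh P) (⟨U, t₁⟩ : EltObj P) (⟨U, t₂⟩ : EltObj P) :=
    { m := fun V f x' a hf ha => (⟨a.hom, by
        have h := hom_eq_of_isHomLift P f a ha
        have e1 := a.map_sec
        change P.map a.hom.op t₂ = x'.sec
        change P.map a.hom.op t₁ = x'.sec at e1
        rw [← e1, h]
        simp only [eqToHom_refl, Category.comp_id, op_comp, Functor.map_comp_apply]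
        rw [h₁ f hf, h₂ f hf]⟩ : x' ⟶ (⟨U, t₂⟩ : EltObj P))
      lift := fun V f x' a hf ha =>
        isHomLift_of_hom_eq P f _ (IsHomLift.domain_eq (EltObj.forget P) f a) rfl
          (hom_eq_of_isHomLift P f a ha)
      compat := fun V W f g x' x'' a b hf ha hb hba => by
        apply EltObj.hom_ext
        rfl }
  obtain ⟨φ, hφ, -⟩ := hg _ _ rfl rfl M
  have h := hom_eq_of_isHomLift P (𝟙 U) φ hφ
  have e := φ.map_sec
  simp only [eqToHom_refl, Category.comp_id] at h
  change P.map φ.hom.op t₂ = t₁ at e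
  rw [h] at e
  simpa using e.symm

theorem exists_amalgamation_of_effective {U : C} (R : Sieve U) (he : Effective R (ofPsh P))
    (x : Presieve.FamilyOfElements P (R : Presieve U)) (hx : x.Compatible) :
    ∃ t, x.IsAmalgamation t := by
  have hx' := (Presieve.compatible_iff_sieveCompatible x).1 hx
  let D : sieveCat R ⥤ᵇ ofPsh P :=
    { toFunctor :=
        { obj := fun s => (⟨s.obj.left, x s.obj.hom s.property⟩ : EltObj P)
          map := fun {s s'} g => (⟨g.hom.left, by
            have h := hx' s'.obj.hom g.hom.left s'.property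
            change P.map g.hom.left.op (x s'.obj.hom s'.property) = x s.obj.hom s.property
            rw [← h]
            exact fam_congr x (Over.w g.hom) _ _⟩ :
              (⟨s.obj.left, x s.obj.hom s.property⟩ : EltObj P) ⟶
                (⟨s'.obj.left, x s'.obj.hom s'.property⟩ : EltObj P))
          map_id := fun s => by apply EltObj.hom_ext; rfl
          map_comp := fun g g' => by apply EltObj.hom_ext; rfl }
      w := rfl }
  obtain ⟨x₀, c, hx₀, hc, -⟩ := he D
  obtain ⟨U', s₀⟩ := x₀
  change U' = U at hx₀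
  subst hx₀
  refine ⟨s₀, fun V f hf => ?_⟩
  let s : (sieveCat R).obj := ⟨Over.mk f, hf⟩
  have h1 := (c s).map_sec
  have h2 := hom_eq_of_isHomLift P f (c s) (hc s)
  simp only [eqToHom_refl, Category.comp_id, Category.id_comp] at h2
  change P.map (c s).hom.op s₀ = x f hf at h1
  rw [h2] at h1
  exact h1

theorem isSheafFor_iff {U : C} (R : Sieve U) :
    Stk.IsStackFor R (ofPsh P) ↔ Presieve.IsSheafFor P (R : Presieve U) := by
  rw [isStackFor_iff R (inferInstance : FibCat.IsFibGrpd (EltObj.forget P))]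
  constructor
  · rintro ⟨-, h2, h3⟩
    exact (isSeparatedFor_of_glueMor R h2).isSheafFor (exists_amalgamation_of_effective R h3)
  · intro h
    exact ⟨uniqMor P R, glueMor_of_isSeparatedFor R h.isSeparatedFor,
      effective_of_isSheafFor R h⟩

theorem isStack_iff_isSheaf (J : GrothendieckTopology C) :
    Stk.IsStack J (ofPsh P) ↔ Presieve.IsSheaf J P := by
  constructor
  · intro h U R hR
    exact (isSheafFor_iff R).1 (h.2 R hR)
  · intro h
    exact ⟨inferInstance, fun U R hR => (isSheafFor_iff R).2 (h R hR)⟩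

end Groth.Agent.Lib.Helper27.StackPsh
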