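import Groth.Agent.Lib.Helper27.StackComp

/-!
# Stacks over stacks: the converse (helper27)

If `𝒳` and the composite `𝒴 ⟶ 𝒳 ⟶ C` are stacks over `C` and `𝒴` is fibred in groupoids over `𝒳`,
then `𝒴` is a stack over `𝒳` for the inherited topology.
-/

set_option autoImplicit false
set_option backward.isDefEq.respectTransparency false
set_option backward.isDefEq.respectTransparency.types false

universe v₄ u₄ v₃ u₃ v₂ u₂ v u

open CategoryTheory Groth.Agent.Lib.Helper27.DescentKit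
  Groth.Agent.Lib.Helper16.FpFibGrpd Groth.Agent.Lib.Helper27.StackRefine
  Groth.Agent.Lib.Helper27.StackComp

namespace Groth.Agent.Lib.Helper27.StackConv

variable {C : Type u} [Category.{v} C] {𝒳 : BasedCategory.{v₂, u₂} C}
  {𝒴 : BasedCategory.{v₃, u₃} 𝒳.obj}

open FibCat

theorem isHomLift_id_of_map_eq {𝒵 : Type u₄} [Category.{v₄} 𝒵] (p : 𝒵 ⥤ C) {a b : 𝒵} (φ : a ⟶ b)
    (h : p.obj b = p.obj a) (hφ : p.map φ = eqToHom h.symm) : p.IsHomLift (𝟙 (p.obj a)) φ := by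
  apply IsHomLift.of_fac p (𝟙 (p.obj a)) φ rfl h
  rw [hφ]
  simp

theorem lift_of_map_eq {𝒵 : Type u₄} [Category.{v₄} 𝒵] (p : 𝒵 ⥤ C) {a b : 𝒵} (m : a ⟶ b)
    {V : C} (g : V ⟶ p.obj b) (hs : p.obj a = V) (h : p.map m = eqToHom hs ≫ g) :
    p.IsHomLift g m := by
  subst hs
  rw [eqToHom_refl, Category.id_comp] at h
  subst h
  infer_instance

section Uniq

variable {U : C} (R : Sieve U)

theorem uniqMor_conv (hu : UniqMor R (tot 𝒴)) (x : 𝒳.obj) (hx : 𝒳.p.obj x = U) :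
    UniqMor (liftSieve R x hx) 𝒴 := by
  intro y y' φ ψ hφ hψ hloc
  have hyx : 𝒴.p.obj y = x := IsHomLift.domain_eq 𝒴.p (𝟙 x) φ
  subst hyx
  have hφ' : (tot 𝒴).p.IsHomLift (𝟙 U) φ := tot_lift_of φ (𝟙 _) hφ (𝟙 U) (IsHomLift.id hx)
  have hψ' : (tot 𝒴).p.IsHomLift (𝟙 U) ψ := tot_lift_of ψ (𝟙 _) hψ (𝟙 U) (IsHomLift.id hx)
  apply hu y y' φ ψ hφ' hψ'
  intro V f y'' b hf hb
  have hb1 : 𝒳.p.IsHomLift f (𝒴.p.map b) := (tot_lift_iff b f).1 hb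
  exact hloc (𝒴.p.map b) b (liftSieve_of_lift R _ hx (𝒴.p.map b) f hf hb1) inferInstance

end Uniq

section Glue

variable {U : C} (R : Sieve U)

/-- A matching family over `𝒳` as a matching family in the total category. -/
def famTot {y y' : 𝒴.obj} (hx : 𝒳.p.obj (𝒴.p.obj y) = U)
    (M : MatchFam (liftSieve R (𝒴.p.obj y) hx) 𝒴 y y') : MatchFam R (tot 𝒴) y y' where
  m := fun _ f _ b hf hb => M.m (𝒴.p.map b) b
    (liftSieve_of_lift R _ hx (𝒴.p.map b) f hf ((tot_lift_iff b f).1 hb)) inferInstance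
  lift := fun _ f _ b hf hb =>
    tot_lift_of _ (𝒴.p.map b) (M.lift _ _ _ _) f ((tot_lift_iff b f).1 hb)
  compat := fun V W f g s s' b c hf hb hc hcb => by
    have h1 : 𝒴.p.IsHomLift (𝒴.p.map c ≫ 𝒴.p.map b) (c ≫ b) := inferInstance
    rw [← M.compat (𝒴.p.map b) (𝒴.p.map c) b c
      (liftSieve_of_lift R _ hx (𝒴.p.map b) f hf ((tot_lift_iff b f).1 hb)) inferInstance
      inferInstance h1]
    exact M.m_congr (𝒴.p.map_comp c b) rfl _ _ _ _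

variable (h𝒴 : FibCat.IsFibGrpd 𝒴.p)

include h𝒴 in
theorem glueMor_conv (hu𝒳 : UniqMor R 𝒳) (hg : GlueMor R (tot 𝒴)) (x : 𝒳.obj)
    (hx : 𝒳.p.obj x = U) : GlueMor (liftSieve R x hx) 𝒴 := by
  intro y y' hy hy' M
  subst hy
  have hy1' : 𝒳.p.obj (𝒴.p.obj y') = U := by rw [hy']; exact hx
  obtain ⟨φ, hφl, hφ⟩ := hg y y' hx hy1' (famTot R hx M)
  refine ⟨φ, ?_, ?_⟩
  · have hφ1 : 𝒳.p.IsHomLift (𝟙 U) (𝒴.p.map φ) := (tot_lift_iff φ _).1 hφl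
    have key : 𝒴.p.map φ = eqToHom hy'.symm := by
      apply hu𝒳 _ _ _ _ hφ1 (IsHomLift.eqToHom_domain_lift_id _ hx)
      intro V f x' a hf ha
      obtain ⟨s, b, hb⟩ := h𝒴.exists_lift (x := y) a
      have h1 : 𝒴.p.obj s = x' := IsHomLift.domain_eq 𝒴.p a b
      subst h1
      have h2 : a = 𝒴.p.map b := IsHomLift.eq_of_isHomLift 𝒴.p a b
      subst h2
      have hb' : (tot 𝒴).p.IsHomLift f b := (tot_lift_iff b f).2 ha
      have e : b ≫ φ = M.m (𝒴.p.map b) b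
          (liftSieve_of_lift R _ hx (𝒴.p.map b) f hf ((tot_lift_iff b f).1 hb')) inferInstance :=
        hφ f b hf hb'
      have hm : 𝒴.p.IsHomLift (𝒴.p.map b) (M.m (𝒴.p.map b) b
          (liftSieve_of_lift R _ hx (𝒴.p.map b) f hf ((tot_lift_iff b f).1 hb')) inferInstance) :=
        M.lift _ _ _ _
      rw [← 𝒴.p.map_comp, e]
      have := IsHomLift.fac' 𝒴.p (𝒴.p.map b) (M.m (𝒴.p.map b) b
          (liftSieve_of_lift R _ hx (𝒴.p.map b) f hf ((tot_lift_iff b f).1 hb')) inferInstance)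
      rw [this]
      simp
    exact isHomLift_id_of_map_eq 𝒴.p φ hy' key
  · intro x' a s b ha hb
    have h1 : 𝒴.p.obj s = x' := IsHomLift.domain_eq 𝒴.p a b
    subst h1
    have h2 : a = 𝒴.p.map b := IsHomLift.eq_of_isHomLift 𝒴.p a b
    subst h2
    have hf : R (𝒳.p.map (𝒴.p.map b) ≫ eqToHom hx) := ha
    have hb' : (tot 𝒴).p.IsHomLift (𝒳.p.map (𝒴.p.map b) ≫ eqToHom hx) b :=
      tot_lift_of b _ hb _ (liftSieve_lift _ hx _)
    exact hφ _ b hf hb'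

end Glue

section Eff

variable {U : C} (R : Sieve U) (h𝒳 : FibCat.IsFibGrpd 𝒳.p) (h𝒴 : FibCat.IsFibGrpd 𝒴.p)
  (x : 𝒳.obj) (hx : 𝒳.p.obj x = U)

theorem D_obj_eq {𝒵 : BasedCategory.{v₄, u₄} 𝒳.obj} {x : 𝒳.obj} {S : Sieve x}
    (D : Stk.sieveCat S ⥤ᵇ 𝒵) (s : (Stk.sieveCat S).obj) : 𝒵.p.obj (D.obj s) = s.obj.left :=
  Functor.congr_obj D.w s

/-- The chosen arrow of the lifted sieve over a member of `R`. -/
noncomputable def kObj (f : (Stk.sieveCat R).obj) : (Stk.sieveCat (liftSieve R x hx)).obj :=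
  ⟨Over.mk (pbHom h𝒳 x hx f.obj),
    liftSieve_of_lift R x hx _ f.obj.hom f.property (pbHom_isHomLift h𝒳 x hx f.obj)⟩

/-- Functoriality of the chosen arrows. -/
noncomputable def kMap {f f' : (Stk.sieveCat R).obj} (g : f ⟶ f') :
    kObj R h𝒳 x hx f ⟶ kObj R h𝒳 x hx f' :=
  ObjectProperty.homMk (Over.homMk (pbMap h𝒳 x hx g.hom) (pbMap_fac h𝒳 x hx g.hom))

theorem kMap_id (f : (Stk.sieveCat R).obj) : kMap R h𝒳 x hx (𝟙 f) = 𝟙 (kObj R h𝒳 x hx f) := by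
  apply ObjectProperty.hom_ext
  apply Over.OverMorphism.ext
  exact (cleave h𝒳 x hx).toFunctor.map_id f.obj

theorem kMap_comp {f f' f'' : (Stk.sieveCat R).obj} (g : f ⟶ f') (g' : f' ⟶ f'') :
    kMap R h𝒳 x hx (g ≫ g') = kMap R h𝒳 x hx g ≫ kMap R h𝒳 x hx g' := by
  apply ObjectProperty.hom_ext
  apply Over.OverMorphism.ext
  exact (cleave h𝒳 x hx).toFunctor.map_comp g.hom g'.hom

variable (D : Stk.sieveCat (liftSieve R x hx) ⥤ᵇ 𝒴)

theorem dTot_lift {f f' : (Stk.sieveCat R).obj} (g : f ⟶ f') :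
    (tot 𝒴).p.IsHomLift g.hom.left (D.map (kMap R h𝒳 x hx g)) :=
  tot_lift_of _ (pbMap h𝒳 x hx g.hom) (D_map_lift D (kMap R h𝒳 x hx g)) g.hom.left
    (pbMap_isHomLift h𝒳 x hx g.hom)

/-- The descent datum in the total category. -/
noncomputable def dTot : Stk.sieveCat R ⥤ᵇ tot 𝒴 where
  toFunctor :=
    { obj := fun f => D.obj (kObj R h𝒳 x hx f)
      map := fun g => D.map (kMap R h𝒳 x hx g)
      map_id := fun f => by rw [kMap_id]; exact D.toFunctor.map_id _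
      map_comp := fun g g' => by rw [kMap_comp]; exact D.toFunctor.map_comp _ _ }
  w := by
    refine CategoryTheory.Functor.ext (fun f => ?_) (fun f f' g => ?_)
    · have h1 : 𝒴.p.obj (D.obj (kObj R h𝒳 x hx f)) = pbObj h𝒳 x hx f.obj :=
        D_obj_eq D (kObj R h𝒳 x hx f)
      change 𝒳.p.obj (𝒴.p.obj (D.obj (kObj R h𝒳 x hx f))) = f.obj.left
      rw [h1]; exact p_pbObj h𝒳 x hx f.obj
    · haveI := dTot_lift R h𝒳 x hx D g
      exact IsHomLift.fac' (tot 𝒴).p g.hom.left (D.map (kMap R h𝒳 x hx g))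

end Eff

section Eff2

variable {U : C} (R : Sieve U) (h𝒳 : FibCat.IsFibGrpd 𝒳.p) (𝒴)

/-- A descent datum over `𝒳` with a gluing of its image in the total category. -/
structure ConvData where
  x : 𝒳.obj
  hx : 𝒳.p.obj x = U
  D : Stk.sieveCat (liftSieve R x hx) ⥤ᵇ 𝒴
  y₁ : 𝒴.obj
  hy₁ : 𝒳.p.obj (𝒴.p.obj y₁) = U
  c : ∀ f : (Stk.sieveCat R).obj, D.obj (kObj R h𝒳 x hx f) ⟶ y₁
  hc : ∀ f : (Stk.sieveCat R).obj, (tot 𝒴).p.IsHomLift f.obj.hom (c f)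
  hcomp : ∀ ⦃f f' : (Stk.sieveCat R).obj⦄ (g : f ⟶ f'), D.map (kMap R h𝒳 x hx g) ≫ c f' = c f

variable {R h𝒳 𝒴} (E : ConvData 𝒴 R h𝒳)

/-- The member of `R` under an arrow of the lifted sieve. -/
def fA (a : (Stk.sieveCat (liftSieve R E.x E.hx)).obj) : (Stk.sieveCat R).obj :=
  ⟨Over.mk (𝒳.p.map a.obj.hom ≫ eqToHom E.hx), a.property⟩

/-- Functoriality of `fA`. -/
def fK {a a' : (Stk.sieveCat (liftSieve R E.x E.hx)).obj} (k : a ⟶ a') : fA E a ⟶ fA E a' :=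
  ObjectProperty.homMk (Over.homMk (𝒳.p.map k.hom.left) (by
    change 𝒳.p.map k.hom.left ≫ 𝒳.p.map a'.obj.hom ≫ eqToHom E.hx =
      𝒳.p.map a.obj.hom ≫ eqToHom E.hx
    rw [← Category.assoc, ← 𝒳.p.map_comp, Over.w]))

/-- The comparison of an arrow of the lifted sieve with the chosen one. -/
noncomputable def iL (a : (Stk.sieveCat (liftSieve R E.x E.hx)).obj) :
    a.obj.left ⟶ pbObj h𝒳 E.x E.hx (fA E a).obj :=
  FG.lift h𝒳 (fA E a).obj.hom (pbHom h𝒳 E.x E.hx (fA E a).obj)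
    (pbHom_isHomLift h𝒳 E.x E.hx (fA E a).obj) (𝟙 (𝒳.p.obj a.obj.left))
    (Category.id_comp _).symm a.obj.hom (liftSieve_lift E.x E.hx a.obj.hom)

theorem iL_lift (a : (Stk.sieveCat (liftSieve R E.x E.hx)).obj) :
    𝒳.p.IsHomLift (𝟙 (𝒳.p.obj a.obj.left)) (iL E a) :=
  FG.lift_isHomLift h𝒳 _ _ _ _ _ _ _

theorem iL_fac (a : (Stk.sieveCat (liftSieve R E.x E.hx)).obj) :
    iL E a ≫ pbHom h𝒳 E.x E.hx (fA E a).obj = a.obj.hom :=
  FG.lift_fac h𝒳 _ _ _ _ _ _ _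

/-- The comparison as a morphism of the lifted sieve. -/
noncomputable def iA (a : (Stk.sieveCat (liftSieve R E.x E.hx)).obj) :
    a ⟶ kObj R h𝒳 E.x E.hx (fA E a) :=
  ObjectProperty.homMk (Over.homMk (iL E a) (iL_fac E a))

theorem iA_nat {a a' : (Stk.sieveCat (liftSieve R E.x E.hx)).obj} (k : a ⟶ a') :
    k ≫ iA E a' = iA E a ≫ kMap R h𝒳 E.x E.hx (fK E k) := by
  apply ObjectProperty.hom_ext
  apply Over.OverMorphism.ext
  change k.hom.left ≫ iL E a' = iL E a ≫ pbMap h𝒳 E.x E.hx (fK E k).hom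
  have hl := iL_lift E a
  have hl' := iL_lift E a'
  have hp : 𝒳.p.IsHomLift (𝒳.p.map k.hom.left) (pbMap h𝒳 E.x E.hx (fK E k).hom) :=
    pbMap_isHomLift h𝒳 E.x E.hx (fK E k).hom
  have h1 : 𝒳.p.IsHomLift (𝒳.p.map k.hom.left) (k.hom.left ≫ iL E a') := by
    have : 𝒳.p.IsHomLift (𝒳.p.map k.hom.left ≫ 𝟙 _) (k.hom.left ≫ iL E a') := inferInstance
    rwa [Category.comp_id] at this
  have h2 : 𝒳.p.IsHomLift (𝒳.p.map k.hom.left)
      (iL E a ≫ pbMap h𝒳 E.x E.hx (fK E k).hom) := by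
    have : 𝒳.p.IsHomLift (𝟙 _ ≫ 𝒳.p.map k.hom.left)
      (iL E a ≫ pbMap h𝒳 E.x E.hx (fK E k).hom) := inferInstance
    rwa [Category.id_comp] at this
  refine FG.cancel h𝒳 (fA E a').obj.hom (pbHom h𝒳 E.x E.hx (fA E a').obj)
    (pbHom_isHomLift h𝒳 E.x E.hx (fA E a').obj) (𝒳.p.map k.hom.left) h1 h2 ?_
  rw [Category.assoc, Category.assoc, iL_fac, pbMap_fac, iL_fac]
  exact Over.w k.hom

/-- The cocone over all arrows of the lifted sieve. -/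
noncomputable def cT (a : (Stk.sieveCat (liftSieve R E.x E.hx)).obj) : E.D.obj a ⟶ E.y₁ :=
  E.D.map (iA E a) ≫ E.c (fA E a)

theorem cT_lift (a : (Stk.sieveCat (liftSieve R E.x E.hx)).obj) :
    (tot 𝒴).p.IsHomLift (𝒳.p.map a.obj.hom ≫ eqToHom E.hx) (cT E a) := by
  have h1 : (tot 𝒴).p.IsHomLift (𝟙 (𝒳.p.obj a.obj.left)) (E.D.map (iA E a)) :=
    tot_lift_of _ (iL E a) (D_map_lift E.D (iA E a)) _ (iL_lift E a)
  have h2 : (tot 𝒴).p.IsHomLift (𝒳.p.map a.obj.hom ≫ eqToHom E.hx) (E.c (fA E a)) :=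
    E.hc (fA E a)
  have : (tot 𝒴).p.IsHomLift (𝟙 (𝒳.p.obj a.obj.left) ≫ 𝒳.p.map a.obj.hom ≫ eqToHom E.hx)
    (E.D.map (iA E a) ≫ E.c (fA E a)) := inferInstance
  rwa [Category.id_comp] at this

theorem cT_comp {a a' : (Stk.sieveCat (liftSieve R E.x E.hx)).obj} (k : a ⟶ a') :
    E.D.map k ≫ cT E a' = cT E a := by
  change E.D.map k ≫ E.D.map (iA E a') ≫ E.c (fA E a') = E.D.map (iA E a) ≫ E.c (fA E a)
  rw [← Category.assoc, ← CategoryTheory.Functor.map_comp, iA_nat,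
    CategoryTheory.Functor.map_comp, Category.assoc, E.hcomp]

end Eff2

section Eff3

variable {U : C} {R : Sieve U} {h𝒳 : FibCat.IsFibGrpd 𝒳.p} (E : ConvData 𝒴 R h𝒳)

/-- An arrow of the lifted sieve as an object of its category. -/
def sArr {x' : 𝒳.obj} (a : x' ⟶ E.x) (h : liftSieve R E.x E.hx a) :
    (Stk.sieveCat (liftSieve R E.x E.hx)).obj := ⟨Over.mk a, h⟩

theorem sArr_eq (a : (Stk.sieveCat (liftSieve R E.x E.hx)).obj) :
    sArr E a.obj.hom a.property = a := rfl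

/-- The members of the matching family comparing `x` with the image of the glued object. -/
noncomputable def mθ {x' : 𝒳.obj} (a : x' ⟶ E.x) (h : liftSieve R E.x E.hx a) :
    x' ⟶ 𝒴.p.obj E.y₁ :=
  eqToHom (D_obj_eq E.D (sArr E a h)).symm ≫ 𝒴.p.map (cT E (sArr E a h))

theorem mθ_lift {x' : 𝒳.obj} (a : x' ⟶ E.x) (h : liftSieve R E.x E.hx a) :
    𝒳.p.IsHomLift (𝒳.p.map a ≫ eqToHom E.hx) (mθ E a h) := by
  have h1 : 𝒳.p.IsHomLift (𝒳.p.map a ≫ eqToHom E.hx) (𝒴.p.map (cT E (sArr E a h))) :=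
    (tot_lift_iff _ _).1 (cT_lift E (sArr E a h))
  exact inferInstanceAs (𝒳.p.IsHomLift (𝒳.p.map a ≫ eqToHom E.hx)
    (eqToHom (D_obj_eq E.D (sArr E a h)).symm ≫ 𝒴.p.map (cT E (sArr E a h))))

theorem mθ_comp {x' x'' : 𝒳.obj} (a : x' ⟶ E.x) (b : x'' ⟶ x') (h : liftSieve R E.x E.hx a)
    (h' : liftSieve R E.x E.hx (b ≫ a)) : mθ E (b ≫ a) h' = b ≫ mθ E a h := by
  let kb : sArr E (b ≫ a) h' ⟶ sArr E a h := ObjectProperty.homMk (Over.homMk b rfl)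
  have e1 : cT E (sArr E (b ≫ a) h') = E.D.map kb ≫ cT E (sArr E a h) := (cT_comp E kb).symm
  have hk : 𝒴.p.IsHomLift b (E.D.map kb) := D_map_lift E.D kb
  have e2 := IsHomLift.fac' 𝒴.p b (E.D.map kb)
  change eqToHom _ ≫ 𝒴.p.map (cT E (sArr E (b ≫ a) h')) =
    b ≫ eqToHom _ ≫ 𝒴.p.map (cT E (sArr E a h))
  rw [e1, 𝒴.p.map_comp, e2]
  simp

/-- The matching family comparing `x` with the image of the glued object. -/
noncomputable def famθ : MatchFam R 𝒳 E.x (𝒴.p.obj E.y₁) where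
  m := fun _ f _ a hf ha => mθ E a (liftSieve_of_lift R E.x E.hx a f hf ha)
  lift := fun V f x' a hf ha => by
    have hV : 𝒳.p.obj x' = V := IsHomLift.domain_eq 𝒳.p f a
    subst hV
    have hfe : f = 𝒳.p.map a ≫ eqToHom E.hx := by
      have := IsHomLift.fac 𝒳.p f a
      simpa using this
    subst hfe
    exact mθ_lift E a _
  compat := fun _ _ f g _ _ a b hf ha hb hba => mθ_comp E a b _ _

end Eff3

section EffMain

variable {U : C} (R : Sieve U) (h𝒳 : FibCat.IsFibGrpd 𝒳.p) (h𝒴 : FibCat.IsFibGrpd 𝒴.p)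

include h𝒳 h𝒴 in
theorem effective_conv (hg𝒳 : GlueMor R 𝒳) (he : Effective R (tot 𝒴)) (x : 𝒳.obj)
    (hx : 𝒳.p.obj x = U) : Effective (liftSieve R x hx) 𝒴 := by
  intro D
  obtain ⟨y₁, c, hy₁, hc, hcomp⟩ := he (dTot R h𝒳 x hx D)
  let E : ConvData 𝒴 R h𝒳 := ⟨x, hx, D, y₁, hy₁, c, hc, hcomp⟩
  obtain ⟨θ, hθl, hθ⟩ := hg𝒳 x (𝒴.p.obj y₁) hx hy₁ (famθ E)
  obtain ⟨y₂, ξ, hξ⟩ := h𝒴.exists_lift (x := y₁) θ
  have hy₂ : 𝒴.p.obj y₂ = x := IsHomLift.domain_eq 𝒴.p θ ξ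
  have hkey : ∀ a : (Stk.sieveCat (liftSieve R x hx)).obj,
      𝒴.p.IsHomLift (a.obj.hom ≫ θ) (cT E a) := by
    intro a
    have e : a.obj.hom ≫ θ = mθ E a.obj.hom a.property :=
      hθ (𝒳.p.map a.obj.hom ≫ eqToHom hx) a.obj.hom a.property (liftSieve_lift x hx a.obj.hom)
    apply lift_of_map_eq 𝒴.p (cT E a) (a.obj.hom ≫ θ) (D_obj_eq D a)
    rw [e]
    change 𝒴.p.map (cT E a) = eqToHom _ ≫ eqToHom _ ≫ 𝒴.p.map (cT E a)
    simp
  refine ⟨y₂, fun a => FG.lift h𝒴 θ ξ hξ a.obj.hom rfl (cT E a) (hkey a), hy₂, ?_, ?_⟩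
  · intro a
    exact FG.lift_isHomLift h𝒴 _ _ _ _ _ _ _
  · intro a a' k
    have h1 : 𝒴.p.IsHomLift a'.obj.hom (FG.lift h𝒴 θ ξ hξ a'.obj.hom rfl (cT E a') (hkey a')) :=
      FG.lift_isHomLift h𝒴 _ _ _ _ _ _ _
    have h2 : 𝒴.p.IsHomLift a.obj.hom (FG.lift h𝒴 θ ξ hξ a.obj.hom rfl (cT E a) (hkey a)) :=
      FG.lift_isHomLift h𝒴 _ _ _ _ _ _ _
    have hk : 𝒴.p.IsHomLift k.hom.left (D.map k) := D_map_lift D k
    have h3 : 𝒴.p.IsHomLift a.obj.hom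
        (D.map k ≫ FG.lift h𝒴 θ ξ hξ a'.obj.hom rfl (cT E a') (hkey a')) := by
      have : 𝒴.p.IsHomLift (k.hom.left ≫ a'.obj.hom)
        (D.map k ≫ FG.lift h𝒴 θ ξ hξ a'.obj.hom rfl (cT E a') (hkey a')) := inferInstance
      rwa [Over.w k.hom] at this
    refine FG.cancel h𝒴 θ ξ hξ a.obj.hom h3 h2 ?_
    rw [Category.assoc, FG.lift_fac, FG.lift_fac]
    exact cT_comp E k

end EffMain

section Main

theorem isStack_conv (J : GrothendieckTopology C) (h𝒳 : Stk.IsStack J 𝒳)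
    (h𝒴 : FibCat.IsFibGrpd 𝒴.p) (ht : Stk.IsStack J (tot 𝒴)) :
    Stk.IsStack (𝒳.p.restrictedTopology J) 𝒴 := by
  refine ⟨h𝒴, ?_⟩
  intro x S hS
  rw [Groth.Agent.S12801.result 𝒳.p h𝒳.1 J] at hS
  have hSeq : S = liftSieve (S.functorPushforward 𝒳.p) x rfl := by
    apply le_antisymm
    · intro x' a ha
      change (S.functorPushforward 𝒳.p) (𝒳.p.map a ≫ eqToHom rfl)
      refine ⟨x', a, 𝟙 _, ha, ?_⟩
      simp
    · intro x' a ha
      have ha' : (S.functorPushforward 𝒳.p) (𝒳.p.map a ≫ eqToHom rfl) := ha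
      obtain ⟨z, s, t, hs, hst⟩ := ha'
      have hsl : 𝒳.p.IsHomLift (𝒳.p.map s) s := inferInstance
      have hal : 𝒳.p.IsHomLift (t ≫ 𝒳.p.map s) a := by
        rw [← hst]
        simp only [eqToHom_refl, Category.comp_id]
        infer_instance
      have e : FG.lift h𝒳.1 (𝒳.p.map s) s hsl t rfl a hal ≫ s = a :=
        FG.lift_fac h𝒳.1 _ _ _ _ _ _ _
      rw [← e]
      exact S.downward_closed hs _
  have h1 := (isStackFor_iff _ h𝒳.1).1 (h𝒳.2 _ hS)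
  have h2 := (isStackFor_iff _ ht.1).1 (ht.2 _ hS)
  rw [isStackFor_iff S h𝒴, hSeq]
  exact ⟨uniqMor_conv _ h2.1 x rfl, glueMor_conv _ h𝒴 h1.1 h2.2.1 x rfl,
    effective_conv _ h𝒳.1 h𝒴 h1.2.1 h2.2.2 x rfl⟩

end Main

end Groth.Agent.Lib.Helper27.StackConv
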