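import Groth.Prelude.Def_AlgSt
import Groth.Prelude.Def_FibCat2
import Groth.Agent.Lib.Helper27.DescentKit
import Groth.Agent.Lib.Helper27.StackFp
import Groth.Agent.Lib.Helper27.FpFibered
import Mathlib.CategoryTheory.Sites.Over

/-!
# Descent along a faithful functor with stacky fibres (helper27)
-/

set_option autoImplicit false
set_option backward.isDefEq.respectTransparency false
set_option backward.isDefEq.respectTransparency.types false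

universe v₃ u₃ v₂ u₂ v u

open CategoryTheory Groth.Agent.Lib.Helper27.DescentKit Groth.Agent.Lib.Helper16.FpFibGrpd FibCat

namespace Groth.Agent.Lib.Helper27.StackFaithful

variable {C : Type u} [Category.{v} C]
  {𝒮 : BasedCategory.{v₂, u₂} C} {𝒯 : BasedCategory.{v₃, u₃} C}
  (h𝒮 : FibCat.IsFibGrpd 𝒮.p) (h𝒯 : FibCat.IsFibGrpd 𝒯.p) (F : 𝒮 ⥤ᵇ 𝒯)

section Uniq

variable {U : C} (R : Sieve U)

include h𝒮 h𝒯 in
theorem uniqMor [F.toFunctor.Faithful] (hu : UniqMor R 𝒯) : UniqMor R 𝒮 := by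
  intro x x' φ ψ hφ hψ hloc
  apply F.toFunctor.map_injective
  have hx : 𝒮.p.obj x = U := IsHomLift.domain_eq 𝒮.p (𝟙 U) φ
  have hFφ : 𝒯.p.IsHomLift (𝟙 U) (F.map φ) := inferInstance
  have hFψ : 𝒯.p.IsHomLift (𝟙 U) (F.map ψ) := inferInstance
  refine hu (F.obj x) (F.obj x') _ _ hFφ hFψ (fun V f w b hf hb => ?_)
  let a : pbObj h𝒮 x hx (Over.mk f) ⟶ x := pbHom h𝒮 x hx (Over.mk f)
  have ha : 𝒮.p.IsHomLift f a := pbHom_isHomLift h𝒮 x hx (Over.mk f)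
  have hFa : 𝒯.p.IsHomLift f (F.map a) := inferInstance
  obtain ⟨θ, -, hθ⟩ : ∃ θ : w ⟶ F.obj (pbObj h𝒮 x hx (Over.mk f)),
      𝒯.p.IsHomLift (𝟙 V) θ ∧ θ ≫ F.map a = b :=
    ⟨_, FG.lift_isHomLift h𝒯 f (F.map a) hFa (𝟙 V) (Category.id_comp _).symm b hb,
      FG.lift_fac h𝒯 f (F.map a) hFa (𝟙 V) (Category.id_comp _).symm b hb⟩
  change b ≫ F.map φ = b ≫ F.map ψ
  rw [← hθ, Category.assoc, Category.assoc, ← F.map_comp, ← F.map_comp, hloc f a hf ha]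

include h𝒮 h𝒯 in
/-- The image of a matching family glues in the target. -/
theorem glue_image (hg : GlueMor R 𝒯) {x x' : 𝒮.obj} (hx : 𝒮.p.obj x = U)
    (hx' : 𝒮.p.obj x' = U) (M : MatchFam R 𝒮 x x') :
    ∃ ψ : F.obj x ⟶ F.obj x', 𝒯.p.IsHomLift (𝟙 U) ψ ∧
      ∀ ⦃V : C⦄ (f : V ⟶ U) ⦃s : 𝒮.obj⦄ (a : s ⟶ x) (hf : R f) (ha : 𝒮.p.IsHomLift f a),
        F.map a ≫ ψ = F.map (M.m f a hf ha) := by
  -- chosen pullbacks
  let a₀ : ∀ ⦃V : C⦄ (f : V ⟶ U), pbObj h𝒮 x hx (Over.mk f) ⟶ x :=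
    fun V f => pbHom h𝒮 x hx (Over.mk f)
  have ha₀ : ∀ ⦃V : C⦄ (f : V ⟶ U), 𝒮.p.IsHomLift f (a₀ f) :=
    fun V f => pbHom_isHomLift h𝒮 x hx (Over.mk f)
  have hFa₀ : ∀ ⦃V : C⦄ (f : V ⟶ U), 𝒯.p.IsHomLift f (F.map (a₀ f)) := fun V f => by
    have := ha₀ f
    infer_instance
  let θ : ∀ ⦃V : C⦄ (f : V ⟶ U) ⦃w : 𝒯.obj⦄ (b : w ⟶ F.obj x), 𝒯.p.IsHomLift f b →
      (w ⟶ F.obj (pbObj h𝒮 x hx (Over.mk f))) := fun V f w b hb =>
    FG.lift h𝒯 f (F.map (a₀ f)) (hFa₀ f) (𝟙 V) (Category.id_comp _).symm b hb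
  have θl : ∀ ⦃V : C⦄ (f : V ⟶ U) ⦃w : 𝒯.obj⦄ (b : w ⟶ F.obj x) (hb : 𝒯.p.IsHomLift f b),
      𝒯.p.IsHomLift (𝟙 V) (θ f b hb) := fun V f w b hb => FG.lift_isHomLift h𝒯 _ _ _ _ _ _ _
  have θfac : ∀ ⦃V : C⦄ (f : V ⟶ U) ⦃w : 𝒯.obj⦄ (b : w ⟶ F.obj x) (hb : 𝒯.p.IsHomLift f b),
      θ f b hb ≫ F.map (a₀ f) = b := fun V f w b hb => FG.lift_fac h𝒯 _ _ _ _ _ _ _
  have hFx : 𝒯.p.obj (F.obj x) = U := (F.w_obj x).trans hx
  have hFx' : 𝒯.p.obj (F.obj x') = U := (F.w_obj x').trans hx'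
  let M' : MatchFam R 𝒯 (F.obj x) (F.obj x') :=
    { m := fun V f w b hf hb => θ f b hb ≫ F.map (M.m f (a₀ f) hf (ha₀ f))
      lift := fun V f w b hf hb => by
        have h1 := θl f b hb
        have h2 : 𝒮.p.IsHomLift f (M.m f (a₀ f) hf (ha₀ f)) := M.lift _ _ _ _
        have h3 : 𝒯.p.IsHomLift f (F.map (M.m f (a₀ f) hf (ha₀ f))) := inferInstance
        have : 𝒯.p.IsHomLift (𝟙 V ≫ f) (θ f b hb ≫ F.map (M.m f (a₀ f) hf (ha₀ f))) :=
          inferInstance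
        rwa [Category.id_comp] at this
      compat := fun V W f g w w' b b' hf hb hb' hbb' => by
        -- the transition between chosen pullbacks
        obtain ⟨κ, hκl, hκfac⟩ : ∃ κ : pbObj h𝒮 x hx (Over.mk (g ≫ f)) ⟶
            pbObj h𝒮 x hx (Over.mk f), 𝒮.p.IsHomLift g κ ∧ κ ≫ a₀ f = a₀ (g ≫ f) :=
          ⟨_, FG.lift_isHomLift h𝒮 f (a₀ f) (ha₀ f) g rfl (a₀ (g ≫ f)) (ha₀ (g ≫ f)),
            FG.lift_fac h𝒮 f (a₀ f) (ha₀ f) g rfl (a₀ (g ≫ f)) (ha₀ (g ≫ f))⟩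
        have hκa : 𝒮.p.IsHomLift (g ≫ f) (κ ≫ a₀ f) := by
          have := ha₀ f
          infer_instance
        have e1 : M.m (g ≫ f) (a₀ (g ≫ f)) (R.downward_closed hf g) (ha₀ (g ≫ f)) =
            κ ≫ M.m f (a₀ f) hf (ha₀ f) := by
          rw [← M.compat f g (a₀ f) κ hf (ha₀ f) hκl hκa]
          exact M.m_congr rfl hκfac.symm _ _ _ _
        have hFκ : 𝒯.p.IsHomLift g (F.map κ) := inferInstance
        have e2 : θ (g ≫ f) (b' ≫ b) hbb' ≫ F.map κ = b' ≫ θ f b hb := by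
          have l1 : 𝒯.p.IsHomLift g (θ (g ≫ f) (b' ≫ b) hbb' ≫ F.map κ) := by
            have h1 := θl (g ≫ f) (b' ≫ b) hbb'
            have : 𝒯.p.IsHomLift (𝟙 W ≫ g) (θ (g ≫ f) (b' ≫ b) hbb' ≫ F.map κ) :=
              inferInstance
            rwa [Category.id_comp] at this
          have l2 : 𝒯.p.IsHomLift g (b' ≫ θ f b hb) := by
            have h1 := θl f b hb
            have : 𝒯.p.IsHomLift (g ≫ 𝟙 V) (b' ≫ θ f b hb) := inferInstance
            rwa [Category.comp_id] at this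
          refine FG.cancel h𝒯 f (F.map (a₀ f)) (hFa₀ f) g l1 l2 ?_
          rw [Category.assoc, ← F.map_comp, hκfac, θfac, Category.assoc, θfac]
        change θ (g ≫ f) (b' ≫ b) hbb' ≫ F.map (M.m (g ≫ f) (a₀ (g ≫ f)) _ _) =
          b' ≫ θ f b hb ≫ F.map (M.m f (a₀ f) hf (ha₀ f))
        rw [e1, F.map_comp, ← Category.assoc, e2, Category.assoc] }
  obtain ⟨ψ, hψl, hψ⟩ := hg (F.obj x) (F.obj x') hFx hFx' M'
  refine ⟨ψ, hψl, fun V f s a hf ha => ?_⟩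
  have hFa : 𝒯.p.IsHomLift f (F.map a) := inferInstance
  have e0 := hψ f (F.map a) hf hFa
  change F.map a ≫ ψ = θ f (F.map a) hFa ≫ F.map (M.m f (a₀ f) hf (ha₀ f)) at e0
  rw [e0]
  obtain ⟨κ, hκl, hκfac⟩ : ∃ κ : s ⟶ pbObj h𝒮 x hx (Over.mk f),
      𝒮.p.IsHomLift (𝟙 V) κ ∧ κ ≫ a₀ f = a :=
    ⟨_, FG.lift_isHomLift h𝒮 f (a₀ f) (ha₀ f) (𝟙 V) (Category.id_comp _).symm a ha,
      FG.lift_fac h𝒮 f (a₀ f) (ha₀ f) (𝟙 V) (Category.id_comp _).symm a ha⟩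
  have hFκ : 𝒯.p.IsHomLift (𝟙 V) (F.map κ) := inferInstance
  have e1 : θ f (F.map a) hFa = F.map κ := by
    refine FG.cancel h𝒯 f (F.map (a₀ f)) (hFa₀ f) (𝟙 V) (θl f (F.map a) hFa) hFκ ?_
    rw [θfac, ← F.map_comp, hκfac]
  have hκa : 𝒮.p.IsHomLift (𝟙 V ≫ f) (κ ≫ a₀ f) := by
    have := ha₀ f
    infer_instance
  have e2 : M.m f a hf ha = κ ≫ M.m f (a₀ f) hf (ha₀ f) := by
    rw [← M.compat f (𝟙 V) (a₀ f) κ hf (ha₀ f) hκl hκa]
    exact M.m_congr (Category.id_comp f).symm hκfac.symm _ _ _ _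
  rw [e1, e2, F.map_comp]

end Uniq


section Fibre

variable {U : C} (y : overCat U ⥤ᵇ 𝒯)

/-- The 2-fibre product `(C/U) ×_𝒯 𝒮` as a category over `C/U`. -/
abbrev P' : BasedCategory (Over U) :=
  BasedCategory.ofFunctor ((fpFst y F).toFunctor : (fp y F).obj ⥤ Over U)

theorem lift_transfer {D : Type*} [Category D] {𝒵 : Type*} [Category 𝒵] (p : 𝒵 ⥤ D) {R S : D}
    (f : R ⟶ S) {a b b' : 𝒵} (φ : a ⟶ b) (ψ : a ⟶ b') (hb : p.obj b = p.obj b')
    (h : p.map φ ≫ eqToHom hb = p.map ψ) (hφ : p.IsHomLift f φ) : p.IsHomLift f ψ := by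
  have e := IsHomLift.fac' p f φ
  apply IsHomLift.of_fac' p f ψ (IsHomLift.domain_eq p f φ)
    (hb.symm.trans (IsHomLift.codomain_eq p f φ))
  rw [← h, e]
  simp

variable {F y}

theorem lift_left {t t' : (fp y F).obj} (Φ : t ⟶ t') {d d' : Over U} (k : d ⟶ d')
    (h : (P' F y).p.IsHomLift k Φ) : (fp y F).p.IsHomLift k.left Φ := by
  cases h
  change (fp y F).p.IsHomLift ((fp y F).p.map Φ) Φ
  infer_instance

/-- Objects of the fibre product. -/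
def mkObj (c : Over U) (s : 𝒮.obj) (α : y.obj c ≅ F.obj s)
    (hα : 𝒯.p.IsHomLift (𝟙 c.left) α.hom) : (fp y F).obj :=
  ⟨{ fst := c, snd := s, iso := α }, hα⟩

/-- Morphisms of the fibre product. -/
def mkHom {t t' : (fp y F).obj} (a : t.obj.fst ⟶ t'.obj.fst) (b : t.obj.snd ⟶ t'.obj.snd)
    (w : y.map a ≫ t'.obj.iso.hom = t.obj.iso.hom ≫ F.map b) : t ⟶ t' :=
  ObjectProperty.homMk { fst := a, snd := b, w := w }

@[simp] theorem mkHom_fst {t t' : (fp y F).obj} (a : t.obj.fst ⟶ t'.obj.fst)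
    (b : t.obj.snd ⟶ t'.obj.snd) (w : y.map a ≫ t'.obj.iso.hom = t.obj.iso.hom ≫ F.map b) :
    (mkHom a b w).hom.fst = a := rfl

@[simp] theorem mkHom_snd {t t' : (fp y F).obj} (a : t.obj.fst ⟶ t'.obj.fst)
    (b : t.obj.snd ⟶ t'.obj.snd) (w : y.map a ≫ t'.obj.iso.hom = t.obj.iso.hom ≫ F.map b) :
    (mkHom a b w).hom.snd = b := rfl

theorem comp_snd {t t' t'' : (fp y F).obj} (Φ : t ⟶ t') (Ψ : t' ⟶ t'') :
    (Φ ≫ Ψ).hom.snd = Φ.hom.snd ≫ Ψ.hom.snd := rfl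

theorem comp_fst {t t' t'' : (fp y F).obj} (Φ : t ⟶ t') (Ψ : t' ⟶ t'') :
    (Φ ≫ Ψ).hom.fst = Φ.hom.fst ≫ Ψ.hom.fst := rfl

end Fibre

section Glue

variable {U : C} (R : Sieve U)

include h𝒮 h𝒯 in
theorem glueMor (hg𝒯 : GlueMor R 𝒯)
    (hgP : ∀ y : overCat U ⥤ᵇ 𝒯,
      GlueMor ((Sieve.overEquiv (Over.mk (𝟙 U))).symm R) (P' F y)) :
    GlueMor R 𝒮 := by
  intro x x' hx hx' M
  obtain ⟨ψ, hψl, hψ⟩ := glue_image h𝒮 h𝒯 F R hg𝒯 hx hx' M
  haveI : IsIso ψ := FG.isIso h𝒯 ψ hψl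
  have hFx' : 𝒯.p.obj (F.obj x') = U := (F.w_obj x').trans hx'
  let y : overCat U ⥤ᵇ 𝒯 := cleave h𝒯 (F.obj x') hFx'
  let cU : Over U := Over.mk (𝟙 U)
  let π' : y.obj cU ⟶ F.obj x' := pbHom h𝒯 (F.obj x') hFx' cU
  have hπ' : 𝒯.p.IsHomLift (𝟙 U) π' := pbHom_isHomLift h𝒯 (F.obj x') hFx' cU
  haveI : IsIso π' := FG.isIso h𝒯 π' hπ'
  have hinvψ : 𝒯.p.IsHomLift (𝟙 U) (inv ψ) := inferInstance
  have hπψ : 𝒯.p.IsHomLift (𝟙 U) (π' ≫ inv ψ) := by
    have : 𝒯.p.IsHomLift (𝟙 U ≫ 𝟙 U) (π' ≫ inv ψ) := inferInstance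
    rwa [Category.id_comp] at this
  let P₁ : (fp y F).obj := mkObj cU x' (asIso π') hπ'
  let α₀ : y.obj cU ≅ F.obj x := asIso π' ≪≫ (asIso ψ).symm
  have hα₀ : α₀.hom = π' ≫ inv ψ := by simp [α₀]
  let P₀ : (fp y F).obj := mkObj cU x α₀ (by rw [hα₀]; exact hπψ)
  let Mt : MatchFam ((Sieve.overEquiv cU).symm R) (P' F y) P₀ P₁ :=
    { m := fun d k Q A hk hA =>
        mkHom (t := Q) (t' := P₁) A.hom.fst
          (M.m k.left A.hom.snd hk (StackFp.snd_lift A k.left (lift_left A k hA)))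
          (by
            have hw := A.hom.w
            change y.map A.hom.fst ≫ α₀.hom = Q.obj.iso.hom ≫ F.map A.hom.snd at hw
            change y.map A.hom.fst ≫ π' = Q.obj.iso.hom ≫ F.map (M.m k.left A.hom.snd _ _)
            rw [← hψ k.left A.hom.snd hk (StackFp.snd_lift A k.left (lift_left A k hA)),
              ← Category.assoc, ← hw, hα₀]
            simp)
      lift := fun d k Q A hk hA => by
        refine lift_transfer (P' F y).p k A _ rfl ?_ hA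
        simp only [eqToHom_refl, Category.comp_id]
        rfl
      compat := fun d d' k l Q Q' A B hk hA hB hBA => by
        apply StackFp.hom_ext'
        · rfl
        · change M.m (l ≫ k).left (B ≫ A).hom.snd _ _ = B.hom.snd ≫ M.m k.left A.hom.snd _ _
          have hA' := StackFp.snd_lift A k.left (lift_left A k hA)
          have hB' := StackFp.snd_lift B l.left (lift_left B l hB)
          have hBA' : 𝒮.p.IsHomLift (l.left ≫ k.left) (B.hom.snd ≫ A.hom.snd) := inferInstance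
          rw [← M.compat k.left l.left A.hom.snd B.hom.snd hk hA' hB' hBA']
          rfl }
  obtain ⟨Φ, hΦl, hΦ⟩ := hgP y P₀ P₁ rfl rfl Mt
  have hφl : 𝒮.p.IsHomLift (𝟙 U) Φ.hom.snd :=
    StackFp.snd_lift Φ (𝟙 U) (lift_left Φ (𝟙 cU) hΦl)
  refine ⟨Φ.hom.snd, hφl, fun V f s a hf ha => ?_⟩
  let d : Over U := Over.mk f
  let k : d ⟶ cU := Over.homMk f (Category.comp_id f)
  have hFa : 𝒯.p.IsHomLift f (F.map a) := inferInstance
  have hyk : 𝒯.p.IsHomLift f (y.map k) := by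
    have : (overCat U).p.IsHomLift f k := by
      change (Over.forget U).IsHomLift ((Over.forget U).map k) k
      infer_instance
    infer_instance
  have hγ : 𝒯.p.IsHomLift f (y.map k ≫ π' ≫ inv ψ) := by
    have : 𝒯.p.IsHomLift (f ≫ 𝟙 U) (y.map k ≫ π' ≫ inv ψ) := inferInstance
    rwa [Category.comp_id] at this
  obtain ⟨β₀, hβ₀l, hβ₀fac⟩ : ∃ β₀ : y.obj d ⟶ F.obj s, 𝒯.p.IsHomLift (𝟙 V) β₀ ∧
      β₀ ≫ F.map a = y.map k ≫ π' ≫ inv ψ :=
    ⟨_, FG.lift_isHomLift h𝒯 f (F.map a) hFa (𝟙 V) (Category.id_comp _).symm _ hγ,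
      FG.lift_fac h𝒯 f (F.map a) hFa (𝟙 V) (Category.id_comp _).symm _ hγ⟩
  haveI : IsIso β₀ := FG.isIso h𝒯 β₀ hβ₀l
  let Q : (fp y F).obj := mkObj d s (asIso β₀) hβ₀l
  let A : Q ⟶ P₀ := mkHom (t := Q) (t' := P₀) k a (by
    change y.map k ≫ α₀.hom = β₀ ≫ F.map a
    rw [hα₀, hβ₀fac])
  have hA : (P' F y).p.IsHomLift k A := by
    change (P' F y).p.IsHomLift ((P' F y).p.map A) A
    infer_instance
  have hk : ((Sieve.overEquiv cU).symm R) k := hf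
  have e := congrArg (fun t => t.hom.snd) (hΦ k A hk hA)
  exact e

end Glue


section Eff

variable {U : C} (R : Sieve U)

/-- The sieve on the terminal object of the slice corresponding to `R`. -/
abbrev Rt : Sieve (Over.mk (𝟙 U)) := (Sieve.overEquiv (Over.mk (𝟙 U))).symm R

variable {R}

theorem mem_of_Rt (s : (Stk.sieveCat (Rt R)).obj) : R s.obj.left.hom := by
  have h : R s.obj.hom.left := s.property
  have e : s.obj.hom.left = s.obj.left.hom := by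
    have := Over.w s.obj.hom
    simpa using this
  rwa [e] at h

/-- The object of the sieve category of `R` under an object of the sieve category of `Rt R`. -/
def σ (s : (Stk.sieveCat (Rt R)).obj) : (Stk.sieveCat R).obj := ⟨s.obj.left, mem_of_Rt s⟩

/-- `σ` on morphisms. -/
def σmap {s s' : (Stk.sieveCat (Rt R)).obj} (g : s ⟶ s') : σ s ⟶ σ s' :=
  ObjectProperty.homMk g.hom.left

theorem σmap_id (s : (Stk.sieveCat (Rt R)).obj) : σmap (𝟙 s) = 𝟙 (σ s) := rfl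

theorem σmap_comp {s s' s'' : (Stk.sieveCat (Rt R)).obj} (g : s ⟶ s') (g' : s' ⟶ s'') :
    σmap (g ≫ g') = σmap g ≫ σmap g' := rfl

/-- The object of the sieve category of `Rt R` over an object of the sieve category of `R`. -/
def τo (s : (Stk.sieveCat R).obj) : (Stk.sieveCat (Rt R)).obj :=
  ⟨Over.mk (Over.homMk s.obj.hom (Category.comp_id _) : s.obj ⟶ Over.mk (𝟙 U)), s.property⟩

/-- `τo` on morphisms. -/
def τmap {s s' : (Stk.sieveCat R).obj} (g : s ⟶ s') : τo s ⟶ τo s' :=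
  ObjectProperty.homMk (Over.homMk g.hom (by
    apply Over.OverMorphism.ext
    simp [τo]))

theorem σ_τo (s : (Stk.sieveCat R).obj) : σ (τo s) = s := rfl

theorem σmap_τmap {s s' : (Stk.sieveCat R).obj} (g : s ⟶ s') : σmap (τmap g) = g := rfl

variable (R)

include h𝒯 in
theorem effective (he𝒯 : Effective R 𝒯)
    (heP : ∀ y : overCat U ⥤ᵇ 𝒯, Effective (Rt R) (P' F y)) : Effective R 𝒮 := by
  intro D
  obtain ⟨y₀, c, hy₀, hc, hcomp⟩ := he𝒯 (BasedFunctor.comp D F)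
  let y : overCat U ⥤ᵇ 𝒯 := cleave h𝒯 y₀ hy₀
  -- the comparison isomorphisms
  have hex : ∀ s : (Stk.sieveCat R).obj, ∃ β : y.obj s.obj ⟶ F.obj (D.obj s),
      𝒯.p.IsHomLift (𝟙 s.obj.left) β ∧ β ≫ c s = pbHom h𝒯 y₀ hy₀ s.obj := fun s =>
    ⟨_, FG.lift_isHomLift h𝒯 s.obj.hom (c s) (hc s) (𝟙 _) (Category.id_comp _).symm _
        (pbHom_isHomLift h𝒯 y₀ hy₀ s.obj),
      FG.lift_fac h𝒯 s.obj.hom (c s) (hc s) (𝟙 _) (Category.id_comp _).symm _
        (pbHom_isHomLift h𝒯 y₀ hy₀ s.obj)⟩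
  choose β hβl hβfac using hex
  have hβiso : ∀ s, IsIso (β s) := fun s => FG.isIso h𝒯 (β s) (hβl s)
  let Dobj : (Stk.sieveCat (Rt R)).obj → (fp y F).obj := fun s =>
    haveI := hβiso (σ s)
    mkObj (σ s).obj (D.obj (σ s)) (asIso (β (σ s))) (hβl (σ s))
  have hw : ∀ {s s' : (Stk.sieveCat (Rt R)).obj} (g : s ⟶ s'),
      y.map g.hom.left ≫ β (σ s') = β (σ s) ≫ F.map (D.map (σmap g)) := by
    intro s s' g
    have hyg : 𝒯.p.IsHomLift g.hom.left.left (y.map g.hom.left) :=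
      pbMap_isHomLift h𝒯 y₀ hy₀ g.hom.left
    have h1 : 𝒯.p.IsHomLift (𝟙 s'.obj.left.left) (β (σ s')) := hβl (σ s')
    have h2 : 𝒯.p.IsHomLift (𝟙 s.obj.left.left) (β (σ s)) := hβl (σ s)
    have hDg : 𝒮.p.IsHomLift g.hom.left.left (D.map (σmap g)) := by
      have : (Stk.sieveCat R).p.IsHomLift g.hom.left.left (σmap g) := by
        change (Stk.sieveCat R).p.IsHomLift ((Stk.sieveCat R).p.map (σmap g)) (σmap g)
        infer_instance
      infer_instance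
    have hFDg : 𝒯.p.IsHomLift g.hom.left.left (F.map (D.map (σmap g))) := inferInstance
    have l1 : 𝒯.p.IsHomLift g.hom.left.left (y.map g.hom.left ≫ β (σ s')) := by
      have : 𝒯.p.IsHomLift (g.hom.left.left ≫ 𝟙 _) (y.map g.hom.left ≫ β (σ s')) :=
        inferInstance
      rwa [Category.comp_id] at this
    have l2 : 𝒯.p.IsHomLift g.hom.left.left (β (σ s) ≫ F.map (D.map (σmap g))) := by
      have : 𝒯.p.IsHomLift (𝟙 _ ≫ g.hom.left.left) (β (σ s) ≫ F.map (D.map (σmap g))) :=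
        inferInstance
      rwa [Category.id_comp] at this
    refine FG.cancel h𝒯 (σ s').obj.hom (c (σ s')) (hc (σ s')) g.hom.left.left l1 l2 ?_
    rw [Category.assoc, hβfac, Category.assoc]
    have e1 : F.map (D.map (σmap g)) ≫ c (σ s') = c (σ s) := hcomp (σmap g)
    rw [e1, hβfac]
    exact pbMap_fac h𝒯 y₀ hy₀ g.hom.left
  let Dt : Stk.sieveCat (Rt R) ⥤ᵇ P' F y :=
    { toFunctor :=
        { obj := Dobj
          map := fun {s s'} g =>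
            mkHom (t := Dobj s) (t' := Dobj s') g.hom.left (D.map (σmap g)) (hw g)
          map_id := fun s => by
            apply StackFp.hom_ext'
            · rfl
            · change D.map (σmap (𝟙 s)) = 𝟙 _
              rw [σmap_id, D.map_id]
          map_comp := fun {s s' s''} g g' => by
            apply StackFp.hom_ext'
            · rfl
            · change D.map (σmap (g ≫ g')) = D.map (σmap g) ≫ D.map (σmap g')
              rw [σmap_comp, D.map_comp] }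
      w := rfl }
  obtain ⟨P, Ct, hP, hCtl, hCtc⟩ := heP y Dt
  have hx : 𝒮.p.obj P.obj.snd = U := by
    rw [StackFp.p_snd P]
    exact congrArg (fun t : Over U => t.left) hP
  refine ⟨P.obj.snd, fun s => (Ct (τo s)).hom.snd, hx, fun s => ?_, fun {s s'} g => ?_⟩
  · exact StackFp.snd_lift (Ct (τo s)) s.obj.hom (lift_left (Ct (τo s)) (τo s).obj.hom (hCtl (τo s)))
  · have e := congrArg (fun t => t.hom.snd) (hCtc (τmap g))
    exact e

end Eff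


theorem isStack {C : Type u} [Category.{v} C] (J : GrothendieckTopology C)
    {𝒮 𝒯 : BasedCategory.{v, max u v} C}
    (h𝒮 : FibCat.IsFibGrpd 𝒮.p) (h𝒯 : Stk.IsStack J 𝒯) (F : 𝒮 ⥤ᵇ 𝒯) [F.toFunctor.Faithful]
    (h3 : ∀ (U : C) (y : FibCat.overCat U ⥤ᵇ 𝒯),
      Stk.IsStack (J.over U) (BasedCategory.ofFunctor
        ((FibCat.fpFst y F).toFunctor : (FibCat.fp y F).obj ⥤ Over U))) :
    Stk.IsStack J 𝒮 := by
  refine ⟨h𝒮, fun U R hR => ?_⟩
  rw [isStackFor_iff R h𝒮]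
  have h𝒯st := (isStackFor_iff R h𝒯.1).1 (h𝒯.2 R hR)
  have hRt : Rt R ∈ (J.over U) (Over.mk (𝟙 U)) :=
    GrothendieckTopology.overEquiv_symm_mem_over J (Over.mk (𝟙 U)) R hR
  have hP : ∀ y : FibCat.overCat U ⥤ᵇ 𝒯,
      UniqMor (Rt R) (P' F y) ∧ GlueMor (Rt R) (P' F y) ∧ Effective (Rt R) (P' F y) :=
    fun y => (isStackFor_iff (Rt R) (h3 U y).1).1 ((h3 U y).2 (Rt R) hRt)
  exact ⟨uniqMor h𝒮 h𝒯.1 F R h𝒯st.1,
    glueMor h𝒮 h𝒯.1 F R h𝒯st.2.1 (fun y => (hP y).2.1),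
    effective h𝒯.1 F R h𝒯st.2.2 (fun y => (hP y).2.2)⟩

end Groth.Agent.Lib.Helper27.StackFaithful
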