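import Groth.Agent.Lib.Helper27.AlgStackFp
import Groth.Agent.Lib.Helper27.MonoFF
import Groth.Agent.Lib.Helper27.DiagRep
import Groth.Agent.S12796
import Groth.Agent.S12804
import Groth.Agent.S12809
import Groth.Agent.Lib.Helper16.FpFibGrpd

/-!
# Categories representable over an algebraic stack are algebraic stacks (helper27)
-/

set_option autoImplicit false
set_option backward.isDefEq.respectTransparency false
set_option backward.isDefEq.respectTransparency.types false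

universe u

open CategoryTheory CategoryTheory.Limits AlgebraicGeometry Opposite FibCat
  Groth.Agent.Lib.Helper27.FpKit Groth.Agent.Lib.Helper27.RepWithComp
  Groth.Agent.Lib.Helper27.LocQOver Groth.Agent.Lib.Helper27.FpBaseChange
  Groth.Agent.Lib.Helper27.LocQSpace Groth.Agent.Lib.Helper27.Descent

namespace Groth.Agent.Lib.Helper27.AlgStackRep

section Top

variable {C : Type*} [Category C] (J : GrothendieckTopology C) (U : C)

theorem restrictedTopology_forget_eq : (Over.forget U).restrictedTopology J = J.over U := by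
  apply le_antisymm
  · change Precoverage.toGrothendieck _ ≤ _
    rw [Precoverage.toGrothendieck_le_iff_le_toPrecoverage]
    intro Y R hR
    rw [Precoverage.mem_comap_iff] at hR
    rw [GrothendieckTopology.mem_toPrecoverage_iff, GrothendieckTopology.mem_over_iff,
      Sieve.overEquiv, RelIso.coe_fn_mk, Equiv.coe_fn_mk,
      ← Sieve.generate_map_eq_functorPushforward]
    exact (GrothendieckTopology.mem_toPrecoverage_iff _ _).1 hR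
  · intro Y R hR
    apply Functor.mem_restrictedTopology_of_functorPushforward_mem
    rw [GrothendieckTopology.mem_over_iff] at hR
    exact hR

end Top

variable {S : Scheme.{u}}

theorem isStack_ofSp (F : AlgSp.Sp S) : Stk.IsStack (AlgSp.J S) (AlgSt.ofSp F) := by
  change Stk.IsStack (AlgSp.J S) (Stk.ofPsh F.obj)
  rw [Groth.Agent.S12796.result]
  exact (isSheaf_iff_isSheaf_of_type _ _).1 F.property

section Rep

variable {𝒳 𝒴 𝒵 : AlgSt.Cat S}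

theorem isStack_of_repByAlgSp1 (h𝒳 : FibCat.IsFibGrpd 𝒳.p) (h𝒴 : Stk.IsStack (AlgSp.J S) 𝒴)
    (j : 𝒳 ⥤ᵇ 𝒴) (hj : AlgSt.RepByAlgSp1 j) : Stk.IsStack (AlgSp.J S) 𝒳 := by
  haveI : j.toFunctor.Faithful :=
    Groth.Agent.Lib.Helper27.MonoFF.faithful_of_repByAlgSp1 h𝒳 h𝒴.1 j hj
  apply Groth.Agent.S12809.result (AlgSp.J S) h𝒳 h𝒴 j
  intro U y
  obtain ⟨F, e, he⟩ := hj U y
  have h1 : Stk.IsStack (AlgSp.J S) (fp y j) :=
    (Groth.Agent.Lib.Helper27.EquivOverAux.isStack_iff _ e he).1 (isStack_ofSp F.obj)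
  have h2 := Groth.Agent.S12804.result (AlgSp.J S) h1
    (Groth.Agent.Lib.Helper27.QcStack.isStack_overCat U) (fpFst y j)
    (Groth.Agent.Lib.Helper16.FpFibGrpd.isFibGrpd_fpFst h𝒳 h𝒴.1 y j)
  have h3 : (overCat U).p.restrictedTopology (AlgSp.J S) = (AlgSp.J S).over U :=
    restrictedTopology_forget_eq (AlgSp.J S) U
  rw [h3] at h2
  exact h2

theorem isStack_fp_of_repByAlgSp1 (h𝒳 : FibCat.IsFibGrpd 𝒳.p) (h𝒵 : FibCat.IsFibGrpd 𝒵.p)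
    (h𝒴 : Stk.IsStack (AlgSp.J S) 𝒴) (f : 𝒳 ⥤ᵇ 𝒵) (g : 𝒴 ⥤ᵇ 𝒵) (hf : AlgSt.RepByAlgSp1 f) :
    Stk.IsStack (AlgSp.J S) (fp f g) := by
  apply isStack_of_repByAlgSp1 (Groth.Agent.Lib.Helper27.FpFib.isFibGrpd_fp f g h𝒳 h𝒴.1 h𝒵) h𝒴
    (fpSnd f g)
  exact (Groth.Agent.Lib.Helper27.AlgStackEquiv.repByAlgSp1_iff _).2
    (Groth.Agent.Lib.Helper27.FpSwap.repByAlgSpWith_fpSnd ⊤ g f
      ((Groth.Agent.Lib.Helper27.AlgStackEquiv.repByAlgSp1_iff _).1 hf))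

theorem repByAlgSp1_diag_of_rep (h𝒳 : FibCat.IsFibGrpd 𝒳.p) (h𝒴 : FibCat.IsFibGrpd 𝒴.p)
    (hΔ : AlgSt.RepByAlgSp1 (diag (toSelf 𝒴))) (j : 𝒳 ⥤ᵇ 𝒴) (hj : AlgSt.RepByAlgSp1 j) :
    AlgSt.RepByAlgSp1 (diag (toSelf 𝒳)) := by
  have h1 : AlgSt.RepByAlgSpWith ⊤ (diag j) :=
    (Groth.Agent.Lib.Helper27.AlgStackEquiv.repByAlgSp1_iff _).1
      (Groth.Agent.Lib.Helper27.QcStack.repByAlgSp1_of_isRepresentable1 _
        (Groth.Agent.Lib.Helper27.DiagRep.isRepresentable1_diag j hj))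
  have h2 : AlgSt.RepByAlgSpWith ⊤ (diag (BasedFunctor.comp j (toSelf 𝒴))) :=
    Groth.Agent.Lib.Helper27.DiagComp.repByAlgSpWith_diag_comp j (toSelf 𝒴) ⊤
      compHyp_top h𝒳 h𝒴 h1 ((Groth.Agent.Lib.Helper27.AlgStackEquiv.repByAlgSp1_iff _).1 hΔ)
  rw [Groth.Agent.Lib.Helper27.DiagCancel.comp_toSelf] at h2
  exact (Groth.Agent.Lib.Helper27.AlgStackEquiv.repByAlgSp1_iff _).2 h2

theorem hasAtlas_of_rep (h𝒳 : FibCat.IsFibGrpd 𝒳.p) (h𝒴 : FibCat.IsFibGrpd 𝒴.p)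
    (hy : AlgSt.HasAtlas (AlgSp.LocP @Smooth) 𝒴) (j : 𝒳 ⥤ᵇ 𝒴) (hj : AlgSt.RepByAlgSp1 j) :
    AlgSt.HasAtlas (AlgSp.LocP @Smooth) 𝒳 := by
  obtain ⟨V, y, hy₁, hy₂⟩ := hy
  obtain ⟨F, e, he⟩ := hj V y
  obtain ⟨U', c', hc'₁, hc'₂⟩ := exists_atlas_of_equiv F e he
  have hV := Groth.Agent.Lib.Helper27.ReprAux.isFibGrpd_overCat V
  have hU' := Groth.Agent.Lib.Helper27.ReprAux.isFibGrpd_overCat U'
  have hW := Groth.Agent.Lib.Helper27.FpFib.isFibGrpd_fp y j hV h𝒳 h𝒴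
  exact ⟨U', BasedFunctor.comp c' (fpSnd y j),
    comp_gen _ (compHyp_locP Groth.Agent.Lib.Helper3.isEtLocal_smooth) hU' hW c' (fpSnd y j) hc'₁
      (Groth.Agent.Lib.Helper27.FpSwap.repByAlgSpWith_fpSnd _ j y hy₁),
    comp_gen _ Groth.Agent.Lib.Helper27.DiagLft.compHyp_isSurjectiveMor hU' hW c' (fpSnd y j) hc'₂
      (Groth.Agent.Lib.Helper27.FpSwap.repByAlgSpWith_fpSnd _ j y hy₂)⟩

theorem isAlgStack_of_repByAlgSp1 (h𝒳 : FibCat.IsFibGrpd 𝒳.p)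
    (h𝒴 : AlgSt.IsAlgStack Scheme.fppfPrecoverage 𝒴) (j : 𝒳 ⥤ᵇ 𝒴) (hj : AlgSt.RepByAlgSp1 j) :
    AlgSt.IsAlgStack Scheme.fppfPrecoverage 𝒳 where
  isStack := isStack_of_repByAlgSp1 h𝒳 h𝒴.isStack j hj
  diag := repByAlgSp1_diag_of_rep h𝒳 h𝒴.isStack.1 h𝒴.diag j hj
  atlas := hasAtlas_of_rep h𝒳 h𝒴.isStack.1 h𝒴.atlas j hj

end Rep

section Space

theorem isAlgStack_selfOver : AlgSt.IsAlgStack Scheme.fppfPrecoverage (selfOver (Over S)) :=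
  Groth.Agent.Lib.Helper27.AlgStackEquiv.isAlgStack_of_equiv _ _
    Groth.Agent.Lib.Helper27.DiagLft.isEquivOver_toSelf_terminal
    (Groth.Agent.Lib.Helper27.QcStack.isAlgStack_overCat (Over.mk (𝟙 S)))

theorem isAlgStack_of_repByAlgSp {𝒳 : AlgSt.Cat S} (h𝒳 : FibCat.IsFibGrpd 𝒳.p)
    (hr : AlgSt.RepByAlgSp 𝒳) : AlgSt.IsAlgStack Scheme.fppfPrecoverage 𝒳 :=
  isAlgStack_of_repByAlgSp1 h𝒳 isAlgStack_selfOver (toSelf 𝒳)
    (Groth.Agent.Lib.Helper27.PshRepSp.repByAlgSp1_of_repByAlgSp hr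
      Groth.Agent.Lib.Helper27.DiagLft.repByAlgSp_selfOver (toSelf 𝒳))

theorem etale_of_etale ⦃X Y : AlgSp.Sp S⦄ (f : X ⟶ Y) (hf : AlgSp.RepWith @Etale f) :
    AlgSp.IsEtaleMor f :=
  fun _ φ hφ => MorphismProperty.comp_mem _ _ _ hφ hf

theorem hasAtlas_etale_of_repByAlgSp {𝒳 : AlgSt.Cat S} (hr : AlgSt.RepByAlgSp 𝒳) :
    AlgSt.HasAtlas AlgSp.IsEtaleMor 𝒳 := by
  obtain ⟨C, eC, heC⟩ := hr
  obtain ⟨U, q, hqe, hqs⟩ := C.property.atlas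
  have hA : ∀ (R : MorphismProperty (AlgSp.Sp S)), AlgSt.RepByAlgSpWith R (AlgSt.ofSpMap q) →
      AlgSt.RepByAlgSpWith R (BasedFunctor.comp
        (BasedFunctor.comp (AlgSt.ofOverCat U) (AlgSt.ofSpMap q)) eC) :=
    fun R hR => repByAlgSpWith_comp_equiv R _ eC heC
      (repByAlgSpWith_equiv_comp R (AlgSt.ofOverCat U) (isEquivOver_ofOverCat U) _ hR)
  exact ⟨U, BasedFunctor.comp (BasedFunctor.comp (AlgSt.ofOverCat U) (AlgSt.ofSpMap q)) eC,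
    hA _ (repByAlgSpWith_ofSpMap_of_repWith @Etale _ etale_of_etale
      (AlgSp.IsAlgSpace.yon_obj U) C.property q hqe),
    hA _ (repByAlgSpWith_ofSpMap_of_repWith @Surjective _ surj_of_surj
      (AlgSp.IsAlgSpace.yon_obj U) C.property q hqs)⟩

theorem isDM_of_repByAlgSp {𝒳 : AlgSt.Cat S} (h𝒳 : FibCat.IsFibGrpd 𝒳.p)
    (hr : AlgSt.RepByAlgSp 𝒳) : AlgSt.IsDM Scheme.fppfPrecoverage 𝒳 :=
  ⟨isAlgStack_of_repByAlgSp h𝒳 hr, hasAtlas_etale_of_repByAlgSp hr⟩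

end Space

end Groth.Agent.Lib.Helper27.AlgStackRep
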