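import Groth.Agent.Lib.Helper27.AlgStackFp
import Groth.Agent.Lib.Helper27.AlgStackRep
import Groth.Agent.S10544

/-!
# Fibre products of algebraic / Deligne–Mumford stacks for an arbitrary topology (helper27)
-/

set_option autoImplicit false
set_option backward.isDefEq.respectTransparency false
set_option backward.isDefEq.respectTransparency.types false

universe u

open CategoryTheory CategoryTheory.Limits AlgebraicGeometry Opposite FibCat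
  Groth.Agent.Lib.Helper27.FpKit Groth.Agent.Lib.Helper27.RepWithComp
  Groth.Agent.Lib.Helper27.LocQOver Groth.Agent.Lib.Helper27.FpBaseChange
  Groth.Agent.Lib.Helper27.AlgStackFp

namespace Groth.Agent.Lib.Helper27.AlgStackFp2

variable {S : Scheme.{u}} {𝒳 𝒴 𝒵 𝒯 : AlgSt.Cat S} (f : 𝒳 ⥤ᵇ 𝒵) (g : 𝒴 ⥤ᵇ 𝒵)

theorem compHyp_isEtaleMor : CompHyp (AlgSp.IsEtaleMor (S := S)) :=
  compHyp_of_fppf _ (fun _ _ _ _ _ _ a b ha hb U φ hφ => by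
      rw [← Category.assoc]
      exact hb _ (ha φ hφ))
    (isLocalOnBase_fppf_of_fpqc _ (Groth.Agent.S10544.result S))

theorem hasAtlas_fp_gen (R : MorphismProperty (AlgSp.Sp S)) (HR : CompHyp R)
    (hat : ∀ 𝒲 : AlgSt.Cat S, AlgSt.RepByAlgSp 𝒲 → AlgSt.HasAtlas R 𝒲)
    (h𝒳 : FibCat.IsFibGrpd 𝒳.p) (h𝒴 : FibCat.IsFibGrpd 𝒴.p)
    (h𝒵 : FibCat.IsFibGrpd 𝒵.p) (hΔ𝒵 : AlgSt.RepByAlgSp1 (diag (toSelf 𝒵)))
    (hx : AlgSt.HasAtlas R 𝒳) (hy : AlgSt.HasAtlas R 𝒴) :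
    AlgSt.HasAtlas R (fp f g) := by
  obtain ⟨U, x, hx₁, hx₂⟩ := hx
  obtain ⟨V, y, hy₁, hy₂⟩ := hy
  have hself := Groth.Agent.Lib.Helper27.ReprDiag.isFibGrpd_selfOver (C := Over S)
  have hU := Groth.Agent.Lib.Helper27.ReprAux.isFibGrpd_overCat U
  have hV := Groth.Agent.Lib.Helper27.ReprAux.isFibGrpd_overCat V
  let T := toSelf 𝒵
  let F := BasedFunctor.comp f T
  let G := BasedFunctor.comp g T
  let c := Groth.Agent.Lib.Helper27.CompareDiag.cmp f g T (eT f g T)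
  have hc : AlgSt.RepByAlgSp1 c :=
    (Groth.Agent.Lib.Helper27.AlgStackEquiv.repByAlgSp1_iff _).2
      (Groth.Agent.Lib.Helper27.CompareDiag.repByAlgSpWith_cmp f g T (eT f g T) (heT f g T) ⊤
        ((Groth.Agent.Lib.Helper27.AlgStackEquiv.repByAlgSp1_iff _).1 hΔ𝒵))
  let m₁ := mapFst F G x
  let m₂ := mapSnd (BasedFunctor.comp x F) G y
  let m := BasedFunctor.comp m₂ m₁
  have hFG := Groth.Agent.Lib.Helper27.FpFib.isFibGrpd_fp F G h𝒳 h𝒴 hself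
  have hQ₁ := Groth.Agent.Lib.Helper27.FpFib.isFibGrpd_fp (BasedFunctor.comp x F) G hU h𝒴 hself
  have hQ := Groth.Agent.Lib.Helper27.FpFib.isFibGrpd_fp (BasedFunctor.comp x F)
    (BasedFunctor.comp y G) hU hV hself
  have hP := Groth.Agent.Lib.Helper27.FpFib.isFibGrpd_fp f g h𝒳 h𝒴 h𝒵
  have hm : ∀ (R : MorphismProperty (AlgSp.Sp S)), CompHyp R → AlgSt.RepByAlgSpWith R x →
      AlgSt.RepByAlgSpWith R y → AlgSt.RepByAlgSpWith R m :=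
    fun R H h1 h2 => comp_gen R H hQ hQ₁ m₂ m₁
      (repByAlgSpWith_mapSnd (BasedFunctor.comp x F) G y R h2) (repByAlgSpWith_mapFst F G x R h1)
  have h𝒬 : AlgSt.RepByAlgSp (fp (BasedFunctor.comp x F) (BasedFunctor.comp y G)) :=
    Groth.Agent.Lib.Helper27.DiagLft.repByAlgSp1_to_selfOver V (BasedFunctor.comp y G) U
      (BasedFunctor.comp x F)
  have h𝒲 : AlgSt.RepByAlgSp (fp m c) :=
    Groth.Agent.Lib.Helper27.FpRepSp.repByAlgSp_fp hP hFG hQ c m hc h𝒬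
  obtain ⟨U', c', hc'₁, hc'₂⟩ := hat _ h𝒲
  have hW := Groth.Agent.Lib.Helper27.FpFib.isFibGrpd_fp m c hQ hP hFG
  have hU' := Groth.Agent.Lib.Helper27.ReprAux.isFibGrpd_overCat U'
  exact ⟨U', BasedFunctor.comp c' (fpSnd m c),
    comp_gen _ HR hU' hW c' (fpSnd m c) hc'₁
      (Groth.Agent.Lib.Helper27.FpSwap.repByAlgSpWith_fpSnd _ c m (hm _ HR hx₁ hy₁)),
    comp_gen _ Groth.Agent.Lib.Helper27.DiagLft.compHyp_isSurjectiveMor hU' hW c' (fpSnd m c) hc'₂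
      (Groth.Agent.Lib.Helper27.FpSwap.repByAlgSpWith_fpSnd _ c m
        (hm _ Groth.Agent.Lib.Helper27.DiagLft.compHyp_isSurjectiveMor hx₂ hy₂))⟩

theorem isPrestack_of_isStack' {C : Type*} [Category C] (J : GrothendieckTopology C)
    {𝒜 : BasedCategory C} (h : Stk.IsStack J 𝒜) :
    Stk.IsPrestack J 𝒜 :=
  ⟨h.1, fun _ R hR => by
    have := h.2 R hR
    have h' : (Stk.resSieve R 𝒜).IsEquivalence := this
    exact ⟨inferInstance, inferInstance⟩⟩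

theorem isAlgStack_fp' (K : Precoverage Scheme.{u})
    (h𝒳 : AlgSt.IsAlgStack K 𝒳) (h𝒴 : AlgSt.IsAlgStack K 𝒴) (h𝒵 : AlgSt.IsAlgStack K 𝒵) :
    AlgSt.IsAlgStack K (fp f g) where
  isStack := Groth.Agent.Lib.Helper27.StackFp.isStack_fp _ f g h𝒳.isStack h𝒴.isStack
    (isPrestack_of_isStack' _ h𝒵.isStack)
  diag := repByAlgSp1_diag_fp f g h𝒳.isStack.1 h𝒴.isStack.1 h𝒵.isStack.1 h𝒳.diag h𝒴.diag h𝒵.diag
  atlas := hasAtlas_fp f g h𝒳.isStack.1 h𝒴.isStack.1 h𝒵.isStack.1 h𝒵.diag h𝒳.atlas h𝒴.atlas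

theorem isDM_fp' (K : Precoverage Scheme.{u})
    (h𝒳 : AlgSt.IsDM K 𝒳) (h𝒴 : AlgSt.IsDM K 𝒴) (h𝒵 : AlgSt.IsDM K 𝒵) :
    AlgSt.IsDM K (fp f g) :=
  ⟨isAlgStack_fp' f g K h𝒳.1 h𝒴.1 h𝒵.1,
    hasAtlas_fp_gen f g _ compHyp_isEtaleMor
      (fun _ h => Groth.Agent.Lib.Helper27.AlgStackRep.hasAtlas_etale_of_repByAlgSp h)
      h𝒳.1.isStack.1 h𝒴.1.isStack.1 h𝒵.1.isStack.1 h𝒵.1.diag h𝒳.2 h𝒴.2⟩

end Groth.Agent.Lib.Helper27.AlgStackFp2
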