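import Groth.Agent.Lib.Helper27.DiagLocal
import Groth.Agent.Lib.Helper27.AlgStackFp2

/-!
# A stack whose base changes to schemes over an algebraic stack are algebraic is algebraic (helper27)
-/

set_option autoImplicit false
set_option backward.isDefEq.respectTransparency false
set_option backward.isDefEq.respectTransparency.types false

universe u

open CategoryTheory CategoryTheory.Limits AlgebraicGeometry Opposite FibCat
  Groth.Agent.Lib.Helper27.FpKit Groth.Agent.Lib.Helper27.RepWithComp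

namespace Groth.Agent.Lib.Helper27.AlgStackLocal

variable {S : Scheme.{u}} {𝒳 𝒴 : AlgSt.Cat S} (f : 𝒳 ⥤ᵇ 𝒴)

theorem repByAlgSp1_diag_of_forall (h𝒳 : FibCat.IsFibGrpd 𝒳.p) (h𝒴 : FibCat.IsFibGrpd 𝒴.p)
    (hΔ𝒴 : AlgSt.RepByAlgSp1 (diag (toSelf 𝒴)))
    (hf : ∀ (U : Over S) (g : overCat U ⥤ᵇ 𝒴), AlgSt.RepByAlgSp1 (diag (toSelf (fp g f)))) :
    AlgSt.RepByAlgSp1 (diag (toSelf 𝒳)) := by
  have h1 : AlgSt.RepByAlgSpWith ⊤ (diag f) := by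
    apply Groth.Agent.Lib.Helper27.DiagLocal.repByAlgSpWith_diag_of_forall
    intro U g
    have hU := Groth.Agent.Lib.Helper27.ReprAux.isFibGrpd_overCat U
    exact (Groth.Agent.Lib.Helper27.AlgStackEquiv.repByAlgSp1_iff _).1
      (Groth.Agent.Lib.Helper27.DiagCancel.repByAlgSp1_diag
        (Groth.Agent.Lib.Helper27.FpFib.isFibGrpd_fp g f hU h𝒳 h𝒴) hU (hf U g)
        (Groth.Agent.Lib.Helper27.QcStack.isAlgStack_overCat U).diag (fpFst g f))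
  have h2 : AlgSt.RepByAlgSpWith ⊤ (diag (BasedFunctor.comp f (toSelf 𝒴))) :=
    Groth.Agent.Lib.Helper27.DiagComp.repByAlgSpWith_diag_comp f (toSelf 𝒴) ⊤
      compHyp_top h𝒳 h𝒴 h1
      ((Groth.Agent.Lib.Helper27.AlgStackEquiv.repByAlgSp1_iff _).1 hΔ𝒴)
  rw [Groth.Agent.Lib.Helper27.DiagCancel.comp_toSelf] at h2
  exact (Groth.Agent.Lib.Helper27.AlgStackEquiv.repByAlgSp1_iff _).2 h2

theorem hasAtlas_of_forall (R : MorphismProperty (AlgSp.Sp S)) (HR : CompHyp R)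
    (h𝒳 : FibCat.IsFibGrpd 𝒳.p) (h𝒴 : FibCat.IsFibGrpd 𝒴.p)
    (hy : AlgSt.HasAtlas R 𝒴)
    (hf : ∀ (U : Over S) (g : overCat U ⥤ᵇ 𝒴), AlgSt.HasAtlas R (fp g f)) :
    AlgSt.HasAtlas R 𝒳 := by
  obtain ⟨V, v, hv₁, hv₂⟩ := hy
  obtain ⟨W, w, hw₁, hw₂⟩ := hf V v
  have hV := Groth.Agent.Lib.Helper27.ReprAux.isFibGrpd_overCat V
  have hW := Groth.Agent.Lib.Helper27.ReprAux.isFibGrpd_overCat W
  have hP := Groth.Agent.Lib.Helper27.FpFib.isFibGrpd_fp v f hV h𝒳 h𝒴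
  exact ⟨W, BasedFunctor.comp w (fpSnd v f),
    comp_gen _ HR hW hP w (fpSnd v f) hw₁
      (Groth.Agent.Lib.Helper27.FpSwap.repByAlgSpWith_fpSnd _ f v hv₁),
    comp_gen _ Groth.Agent.Lib.Helper27.DiagLft.compHyp_isSurjectiveMor hW hP w (fpSnd v f) hw₂
      (Groth.Agent.Lib.Helper27.FpSwap.repByAlgSpWith_fpSnd _ f v hv₂)⟩

theorem isAlgStack_of_forall (K : Precoverage Scheme.{u})
    (h𝒳 : Stk.IsStack (QuotSh.J K S) 𝒳) (h𝒴 : AlgSt.IsAlgStack K 𝒴)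
    (hf : ∀ (U : Over S) (g : overCat U ⥤ᵇ 𝒴), AlgSt.IsAlgStack K (fp g f)) :
    AlgSt.IsAlgStack K 𝒳 where
  isStack := h𝒳
  diag := repByAlgSp1_diag_of_forall f h𝒳.1 h𝒴.isStack.1 h𝒴.diag (fun U g => (hf U g).diag)
  atlas := hasAtlas_of_forall f _
    (compHyp_locP Groth.Agent.Lib.Helper3.isEtLocal_smooth) h𝒳.1 h𝒴.isStack.1 h𝒴.atlas
    (fun U g => (hf U g).atlas)

theorem isDM_of_forall (K : Precoverage Scheme.{u})
    (h𝒳 : Stk.IsStack (QuotSh.J K S) 𝒳) (h𝒴 : AlgSt.IsDM K 𝒴)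
    (hf : ∀ (U : Over S) (g : overCat U ⥤ᵇ 𝒴), AlgSt.IsDM K (fp g f)) :
    AlgSt.IsDM K 𝒳 :=
  ⟨isAlgStack_of_forall f K h𝒳 h𝒴.1 (fun U g => (hf U g).1),
    hasAtlas_of_forall f _ Groth.Agent.Lib.Helper27.AlgStackFp2.compHyp_isEtaleMor h𝒳.1
      h𝒴.1.isStack.1 h𝒴.2 (fun U g => (hf U g).2)⟩

end Groth.Agent.Lib.Helper27.AlgStackLocal
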