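import Groth.Agent.Lib.Helper27.RepWithComp

/-!
# Base change of presentations of 2-fibre products (helper27)

If `e : ofSp X' ≃ ofSp Y' ×_𝒴 𝒳` presents the base change of `f : 𝒳 ⟶ 𝒴` along `y' : ofSp Y' ⟶ 𝒴`, with
structure map `c : X' ⟶ Y'`, then for every map of sheaves `a : Z ⟶ Y'` the fibre product `X' ×_{Y'} Z`
presents the base change of `f` along `a ≫ y'`.
-/

set_option autoImplicit false
set_option backward.isDefEq.respectTransparency false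
set_option backward.isDefEq.respectTransparency.types false

universe v₂ u₂ u

open CategoryTheory CategoryTheory.Limits AlgebraicGeometry Opposite FibCat
  Groth.Agent.Lib.Helper27.FpKit Groth.Agent.Lib.Helper27.PshKit Groth.Agent.Lib.Helper27.PshFp
  Groth.Agent.Lib.Helper27.PshRep Groth.Agent.Lib.Helper27.RepWithComp

namespace Groth.Agent.Lib.Helper27.BaseChangePres

variable {S : Scheme.{u}}

open Stk

section LemmaB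

variable {𝒳 𝒴 : AlgSt.Cat S}

/-- The map of cospans used to replace `fpFst y' f` by a map of presheaves. -/
def D₃ {X' Y' : AlgSp.Sp S} (f : 𝒳 ⥤ᵇ 𝒴) (y' : AlgSt.ofSp Y' ⥤ᵇ 𝒴)
    (e : AlgSt.ofSp X' ⥤ᵇ fp y' f) {𝒜 : AlgSt.Cat S} (G : 𝒜 ⥤ᵇ AlgSt.ofSp Y') :
    MapData G (fpFst y' f) G
      (Stk.ofPshMap (pshMapOf (BasedFunctor.comp e (fpFst y' f))))
      (BasedFunctor.id _) e (BasedFunctor.id _) where
  e₁ := fun _ => Iso.refl _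
  n₁ := fun α => (Category.comp_id _).trans (Category.id_comp _).symm
  l₁ := fun _ => Vert.id _
  e₂ := fun x' => τ (BasedFunctor.comp e (fpFst y' f)) x'
  n₂ := fun β => τ_nat (BasedFunctor.comp e (fpFst y' f)) β
  l₂ := fun x' => τ_vert (BasedFunctor.comp e (fpFst y' f)) x'

/-- The presentation of the base change. -/
def Ξ {X' Y' Z W : AlgSp.Sp S} (f : 𝒳 ⥤ᵇ 𝒴) (y' : AlgSt.ofSp Y' ⥤ᵇ 𝒴)
    (e : AlgSt.ofSp X' ⥤ᵇ fp y' f) (a : Z ⟶ Y') {fst : W.obj ⟶ X'.obj} {snd : W.obj ⟶ Z.obj}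
    (sq : IsPullback fst snd (pshMapOf (BasedFunctor.comp e (fpFst y' f))) a.hom) :
    AlgSt.ofSp W ⥤ᵇ fp (BasedFunctor.comp (AlgSt.ofSpMap a) y') f :=
  BasedFunctor.comp (bridge sq) (BasedFunctor.comp (fpMap (D₃ f y' e (AlgSt.ofSpMap a)))
    (pasteL f y' (AlgSt.ofSpMap a)))

theorem isEquivOver_Ξ {X' Y' Z W : AlgSp.Sp S} (f : 𝒳 ⥤ᵇ 𝒴) (y' : AlgSt.ofSp Y' ⥤ᵇ 𝒴)
    (e : AlgSt.ofSp X' ⥤ᵇ fp y' f) (he : IsEquivOver e) (a : Z ⟶ Y') {fst : W.obj ⟶ X'.obj}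
    {snd : W.obj ⟶ Z.obj}
    (sq : IsPullback fst snd (pshMapOf (BasedFunctor.comp e (fpFst y' f))) a.hom) :
    IsEquivOver (Ξ f y' e a sq) :=
  isEquivOver_comp _ _ (isEquivOver_bridge sq)
    (isEquivOver_comp _ _
      (isEquivOver_fpMap (D₃ f y' e (AlgSt.ofSpMap a)) (isEquivOver_id _) he (isEquivOver_id _))
      (isEquivOver_pasteL f y' (AlgSt.ofSpMap a)))

theorem Ξ_fst {X' Y' Z W : AlgSp.Sp S} (f : 𝒳 ⥤ᵇ 𝒴) (y' : AlgSt.ofSp Y' ⥤ᵇ 𝒴)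
    (e : AlgSt.ofSp X' ⥤ᵇ fp y' f) (a : Z ⟶ Y') {fst : W.obj ⟶ X'.obj} {snd : W.obj ⟶ Z.obj}
    (sq : IsPullback fst snd (pshMapOf (BasedFunctor.comp e (fpFst y' f))) a.hom)
    (t : (AlgSt.ofSp W).obj) :
    (fpFst (BasedFunctor.comp (AlgSt.ofSpMap a) y') f).toFunctor.obj
      ((Ξ f y' e a sq).toFunctor.obj t) = (Stk.ofPshMap snd).toFunctor.obj t := rfl

theorem Ξ_snd {X' Y' Z W : AlgSp.Sp S} (f : 𝒳 ⥤ᵇ 𝒴) (y' : AlgSt.ofSp Y' ⥤ᵇ 𝒴)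
    (e : AlgSt.ofSp X' ⥤ᵇ fp y' f) (a : Z ⟶ Y') {fst : W.obj ⟶ X'.obj} {snd : W.obj ⟶ Z.obj}
    (sq : IsPullback fst snd (pshMapOf (BasedFunctor.comp e (fpFst y' f))) a.hom)
    (t : (AlgSt.ofSp W).obj) :
    (fpSnd (BasedFunctor.comp (AlgSt.ofSpMap a) y') f).toFunctor.obj
      ((Ξ f y' e a sq).toFunctor.obj t) =
      (fpSnd y' f).toFunctor.obj (e.toFunctor.obj ((Stk.ofPshMap fst).toFunctor.obj t)) := rfl

theorem pshMapOf_Ξ_fst {X' Y' Z W : AlgSp.Sp S} (f : 𝒳 ⥤ᵇ 𝒴) (y' : AlgSt.ofSp Y' ⥤ᵇ 𝒴)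
    (e : AlgSt.ofSp X' ⥤ᵇ fp y' f) (a : Z ⟶ Y') {fst : W.obj ⟶ X'.obj} {snd : W.obj ⟶ Z.obj}
    (sq : IsPullback fst snd (pshMapOf (BasedFunctor.comp e (fpFst y' f))) a.hom) :
    pshMapOf (BasedFunctor.comp (Ξ f y' e a sq)
      (fpFst (BasedFunctor.comp (AlgSt.ofSpMap a) y') f)) = snd := by
  refine Eq.trans ?_ (pshMapOf_ofPshMap snd)
  apply pshMapOf_congr
  intro t
  exact ⟨𝟙 _, Vert.id _⟩

end LemmaB

end Groth.Agent.Lib.Helper27.BaseChangePres
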