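import Mathlib
import Groth.Prelude.Def_EtBase

/-!
# Elements of a coproduct of abelian groups are finite sums
-/

set_option autoImplicit false
set_option backward.isDefEq.respectTransparency false
set_option backward.isDefEq.respectTransparency.types false

universe w v

namespace Groth.Agent.Lib.Helper27.DivAL1

open CategoryTheory CategoryTheory.Limits

variable {I : Type v} {G : I → AddCommGrpCat.{w}} (c : Cofan G) (hc : IsColimit c)

/-- the property of being a finite sum of elements coming from the summands -/
def IsFinSum (g : c.pt) : Prop :=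
  ∃ (T : Finset I) (τ : ∀ x, G x), g = ∑ x ∈ T, (c.inj x).hom (τ x)

lemma isFinSum_zero : IsFinSum c 0 := ⟨∅, fun _ => 0, by simp⟩

lemma isFinSum_inj (x : I) (g : G x) : IsFinSum c ((c.inj x).hom g) := by
  classical
  refine ⟨{x}, fun y => if h : y = x then h ▸ g else 0, ?_⟩
  simp

lemma isFinSum_add {g g' : c.pt} (h : IsFinSum c g) (h' : IsFinSum c g') : IsFinSum c (g + g') := by
  classical
  obtain ⟨T, τ, rfl⟩ := h
  obtain ⟨T', τ', rfl⟩ := h'
  refine ⟨T ∪ T', fun x => (if x ∈ T then τ x else 0) + (if x ∈ T' then τ' x else 0), ?_⟩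
  simp only [map_add, Finset.sum_add_distrib]
  congr 1
  · rw [← Finset.sum_subset (Finset.subset_union_left (s₁ := T) (s₂ := T'))]
    · exact Finset.sum_congr rfl (fun x hx => by rw [if_pos hx])
    · intro x _ hx
      rw [if_neg hx, map_zero]
  · rw [← Finset.sum_subset (Finset.subset_union_right (s₁ := T) (s₂ := T'))]
    · exact Finset.sum_congr rfl (fun x hx => by rw [if_pos hx])
    · intro x _ hx
      rw [if_neg hx, map_zero]

lemma isFinSum_neg {g : c.pt} (h : IsFinSum c g) : IsFinSum c (-g) := by
  obtain ⟨T, τ, rfl⟩ := h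
  refine ⟨T, fun x => - τ x, ?_⟩
  simp

/-- the subgroup of finite sums -/
def finSumSubgroup : AddSubgroup c.pt where
  carrier := {g | IsFinSum c g}
  zero_mem' := isFinSum_zero c
  add_mem' := isFinSum_add c
  neg_mem' := isFinSum_neg c

include hc in
theorem isFinSum_of_isColimit (g : c.pt) : IsFinSum c g := by
  let N := finSumSubgroup c
  let q : c.pt ⟶ AddCommGrpCat.of (c.pt ⧸ N) := AddCommGrpCat.ofHom (QuotientAddGroup.mk' N)
  have hq : q = 0 := by
    apply Cofan.IsColimit.hom_ext hc
    intro x
    rw [comp_zero]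
    ext a
    change QuotientAddGroup.mk' N ((c.inj x).hom a) = 0
    rw [QuotientAddGroup.mk'_apply, QuotientAddGroup.eq_zero_iff]
    exact isFinSum_inj c x a
  have h1 : QuotientAddGroup.mk' N g = 0 := by
    have := congrArg (fun k => k.hom g) hq
    exact this
  rw [QuotientAddGroup.mk'_apply, QuotientAddGroup.eq_zero_iff] at h1
  exact h1

end Groth.Agent.Lib.Helper27.DivAL1
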