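import Mathlib
import Groth.Prelude.Def_EtBase
import Groth.Agent.Lib.Helper27.EtTransport6
import Groth.Agent.Lib.Helper27.DivAL1

/-!
# Cohomology of a coproduct of sheaves with torsion cohomology is torsion
-/

set_option autoImplicit false
set_option backward.isDefEq.respectTransparency false
set_option backward.isDefEq.respectTransparency.types false

universe u

namespace Groth.Agent.Lib.Helper27.DivTors

open CategoryTheory CategoryTheory.Limits AlgebraicGeometry Opposite
open CategoryTheory.Limits.CoproductsFromFiniteFiltered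

variable {X : Scheme.{u}}

/-- finite case -/
lemma isAddTorsion_H_finite_coprod {β : Type u} [Finite β] (g : β → EtCoh.Ab X) (m : ℕ)
    (h : ∀ b, IsAddTorsion (EtCoh.H X (g b) m)) : IsAddTorsion (EtCoh.H X (∐ g) m) := by
  intro ξ
  haveI : (EtCoh.HF X m).Additive := by unfold EtCoh.HF; infer_instance
  haveI : PreservesColimitsOfShape (Discrete β) (EtCoh.HF X m) := inferInstance
  have hl : IsColimit (Cofan.mk ((EtCoh.HF X m).obj (∐ g))
      (fun b => (EtCoh.HF X m).map (Sigma.ι g b)) : Cofan fun b => (EtCoh.HF X m).obj (g b)) :=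
    isColimitMapCoconeCofanMkEquiv (EtCoh.HF X m) _ _
      (isColimitOfPreserves (EtCoh.HF X m) (coproductIsCoproduct g))
  obtain ⟨T, τ, hτ⟩ := Groth.Agent.Lib.Helper27.DivAL1.isFinSum_of_isColimit _ hl ξ
  have hξ : (ξ : (EtCoh.HF X m).obj (∐ g)) =
      ∑ b ∈ T, ((EtCoh.HF X m).map (Sigma.ι g b)).hom (τ b) := hτ
  change IsOfFinAddOrder (ξ : (EtCoh.HF X m).obj (∐ g))
  rw [hξ]
  refine Finset.sum_induction _ IsOfFinAddOrder (fun a b ha hb => ha.add hb)
    (isOfFinAddOrder_iff_nsmul_eq_zero.2 ⟨1, Nat.one_pos, by simp⟩) ?_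
  intro b _
  exact AddMonoidHom.isOfFinAddOrder _ (h b (τ b))

end Groth.Agent.Lib.Helper27.DivTors

namespace Groth.Agent.Lib.Helper27.DivTors

open CategoryTheory CategoryTheory.Limits AlgebraicGeometry Opposite
open CategoryTheory.Limits.CoproductsFromFiniteFiltered

variable {X : Scheme.{u}} [CompactSpace X] [QuasiSeparatedSpace X]

/-- **cohomology of a coproduct of sheaves with torsion cohomology is torsion** -/
theorem isAddTorsion_H_coprod {α : Type u} (f : α → EtCoh.Ab X) (m : ℕ)
    (h : ∀ a, IsAddTorsion (EtCoh.H X (f a) m)) : IsAddTorsion (EtCoh.H X (∐ f) m) := by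
  intro ξ
  haveI : PreservesColimitsOfShape (Finset (Discrete α)) (EtCoh.HF X m) :=
    Groth.Agent.Lib.Helper27.EtTransport.preservesColimitsOfShape_HF' X m _
  have hl := isColimitOfPreserves (EtCoh.HF X m) (isColimitFiniteSubproductsCocone f)
  haveI : PreservesFilteredColimitsOfSize.{u, u} (forget AddCommGrpCat.{u + 1}) :=
    preservesFilteredColimitsOfSize_shrink.{u, u + 1, u, u + 1} _
  haveI : PreservesColimit (liftToFinsetObj (Discrete.functor f) ⋙ EtCoh.HF X m)
      (forget AddCommGrpCat.{u + 1}) :=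
    (PreservesFilteredColimitsOfSize.preserves_filtered_colimits
      (F := forget AddCommGrpCat.{u + 1}) (Finset (Discrete α))).preservesColimit
  obtain ⟨T, y, hy⟩ := Concrete.isColimit_exists_rep _ hl (ξ : (EtCoh.HF X m).obj (∐ f))
  have hT : IsAddTorsion (EtCoh.H X (∐ fun x : T => f x.1.as) m) :=
    isAddTorsion_H_finite_coprod (fun x : T => f x.1.as) m (fun b => h _)
  change IsOfFinAddOrder (ξ : (EtCoh.HF X m).obj (∐ f))
  rw [← hy]
  exact AddMonoidHom.isOfFinAddOrder _ (hT y)

end Groth.Agent.Lib.Helper27.DivTors
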