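import Groth.Agent.Lib.Helper27.EtQZ1

/-!
# `H^i(Spec k, ℤ) ≃ H^{i-1}(Spec k, ℚ/ℤ)` for `i ≥ 2`
-/

set_option autoImplicit false
set_option backward.isDefEq.respectTransparency false
universe u
open CategoryTheory Limits Opposite AlgebraicGeometry Abelian

namespace Groth.Agent.Lib.Helper27.EtQZ

open Groth.Agent.Lib.Helper27.EtTransport in
theorem isIso_nsmul_Q (n : ℕ) (hn : 0 < n) :
    IsIso (n • 𝟙 (AddCommGrpCat.of (ULift.{u + 1} ℚ))) := by
  rw [ConcreteCategory.isIso_iff_bijective]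
  constructor
  · intro a b hab
    change (n • 𝟙 (AddCommGrpCat.of (ULift.{u + 1} ℚ)) : _ ⟶ _) a =
      (n • 𝟙 (AddCommGrpCat.of (ULift.{u + 1} ℚ)) : _ ⟶ _) b at hab
    rw [nsmul_id_apply', nsmul_id_apply'] at hab
    have h1 : n • a.down = n • b.down := congrArg ULift.down hab
    apply ULift.ext
    have hn' : (n : ℚ) ≠ 0 := Nat.cast_ne_zero.2 hn.ne'
    rw [nsmul_eq_mul, nsmul_eq_mul] at h1
    exact mul_left_cancel₀ hn' h1
  · intro b
    refine ⟨⟨b.down / n⟩, ?_⟩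
    change (n • 𝟙 (AddCommGrpCat.of (ULift.{u + 1} ℚ)) : _ ⟶ _) _ = b
    rw [nsmul_id_apply']
    apply ULift.ext
    change n • (b.down / n) = b.down
    have hn' : (n : ℚ) ≠ 0 := Nat.cast_ne_zero.2 hn.ne'
    rw [nsmul_eq_mul, mul_div_cancel₀ _ hn']

variable (X : Scheme.{u})

theorem isIso_nsmul_constQ (n : ℕ) (hn : 0 < n) : IsIso (n • 𝟙 (EtCoh.const X ℚ)) := by
  have h : n • 𝟙 (EtCoh.const X ℚ) =
      (constantSheaf X.smallEtaleTopology AddCommGrpCat.{u + 1}).map
        (n • 𝟙 (AddCommGrpCat.of (ULift.{u + 1} ℚ))) := by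
    rw [Functor.map_nsmul]
    erw [CategoryTheory.Functor.map_id]
  rw [h]
  have := isIso_nsmul_Q.{u} n hn
  infer_instance

/-- the short exact sequence `0 → ℤ → ℚ → ℚ/ℤ → 0` of constant sheaves -/
theorem constSZQ_shortExact :
    (SZQ.{u}.map (constantSheaf X.smallEtaleTopology AddCommGrpCat.{u + 1})).ShortExact :=
  SZQ_shortExact.map_of_exact _

variable (k : Type u) [Field k]

open Groth.Agent.Lib.Helper27.EtTrace in
theorem nonempty_equiv (i : ℕ) (hi : 2 ≤ i) :
    Nonempty (EtCoh.H (Spec (CommRingCat.of k)) (EtCoh.const (Spec (CommRingCat.of k)) ℤ) i ≃+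
      EtCoh.H (Spec (CommRingCat.of k))
        (EtCoh.const (Spec (CommRingCat.of k)) (ℚ ⧸ AddSubgroup.zmultiples (1 : ℚ))) (i - 1)) := by
  obtain ⟨n, rfl⟩ : ∃ n, i = n + 2 := ⟨i - 2, by omega⟩
  have hS := constSZQ_shortExact (Spec (CommRingCat.of k))
  have hsub : ∀ j : ℕ, 0 < j → Subsingleton (EtCoh.H (Spec (CommRingCat.of k))
      (EtCoh.const (Spec (CommRingCat.of k)) ℚ) j) := fun j hj =>
    subsingleton_of_uniquely_divisible _ (isIso_nsmul_constQ _) j hj
  let δ : EtCoh.H (Spec (CommRingCat.of k))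
        (EtCoh.const (Spec (CommRingCat.of k)) (ℚ ⧸ AddSubgroup.zmultiples (1 : ℚ))) (n + 1) →+
      EtCoh.H (Spec (CommRingCat.of k)) (EtCoh.const (Spec (CommRingCat.of k)) ℤ) (n + 2) :=
    hS.extClass.postcomp _ (rfl : n + 1 + 1 = n + 2)
  have hδ : Function.Bijective δ := by
    constructor
    · rw [injective_iff_map_eq_zero]
      intro x hx
      obtain ⟨y, hy⟩ := Ext.covariant_sequence_exact₃ _ hS x rfl hx
      have : Subsingleton (Ext ((constantSheaf (Spec (CommRingCat.of k)).smallEtaleTopology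
          AddCommGrpCat.{u + 1}).obj (AddCommGrpCat.of (ULift.{u + 1} ℤ)))
          (SZQ.{u}.map (constantSheaf (Spec (CommRingCat.of k)).smallEtaleTopology
            AddCommGrpCat.{u + 1})).X₂ (n + 1)) := hsub (n + 1) (Nat.succ_pos n)
      rw [← hy, Subsingleton.elim y 0, Ext.zero_comp]
    · intro z
      have : Subsingleton (Ext ((constantSheaf (Spec (CommRingCat.of k)).smallEtaleTopology
          AddCommGrpCat.{u + 1}).obj (AddCommGrpCat.of (ULift.{u + 1} ℤ)))
          (SZQ.{u}.map (constantSheaf (Spec (CommRingCat.of k)).smallEtaleTopology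
            AddCommGrpCat.{u + 1})).X₂ (n + 2)) := hsub (n + 2) (Nat.succ_pos _)
      obtain ⟨x, hx⟩ := Ext.covariant_sequence_exact₁ _ hS z (Subsingleton.elim _ _)
        (rfl : n + 1 + 1 = n + 2)
      exact ⟨x, hx⟩
  exact ⟨(AddEquiv.ofBijective δ hδ).symm⟩

end Groth.Agent.Lib.Helper27.EtQZ
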