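import Groth.Agent.Lib.Helper27.EtRat4
import Groth.Agent.Lib.Helper27.EtQZ2
import Groth.Agent.S0626

/-!
# `H^i(X_et, ℚ) = 0` for `i > 0` on an integral normal scheme
-/

set_option autoImplicit false
set_option backward.isDefEq.respectTransparency false
universe u
open CategoryTheory Limits Opposite AlgebraicGeometry Abelian
open Groth.Agent.Lib.Helper27.EtTrace

namespace Groth.Agent.Lib.Helper27.EtRat

theorem subsingleton_H_of_iso {X : Scheme.{u}} {F F' : EtCoh.Ab X} (e : F ≅ F') (i : ℕ)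
    (h : Subsingleton (EtCoh.H X F' i)) : Subsingleton (EtCoh.H X F i) := by
  have key : ∀ x : EtCoh.H X F i, x = 0 := by
    intro x
    have h1 : (x.comp (Ext.mk₀ e.hom) (add_zero i)).comp (Ext.mk₀ e.inv) (add_zero i) = x := by
      rw [Ext.comp_assoc_of_third_deg_zero, Ext.mk₀_comp_mk₀, Iso.hom_inv_id, Ext.comp_mk₀_id]
    rw [← h1, h.elim (x.comp (Ext.mk₀ e.hom) (add_zero i)) 0, Ext.zero_comp]
  exact ⟨fun a b => (key a).trans (key b).symm⟩

theorem subsingleton_H_constQ_of_integral_normal (X : Scheme.{u}) [IsIntegral X]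
    (hN : ∀ x : X, IsIntegrallyClosed (X.presheaf.stalk x)) (i : ℕ) (hi : 0 < i) :
    Subsingleton (EtCoh.H X (EtCoh.const X ℚ) i) := by
  let g : Spec (CommRingCat.of ↑X.functionField) ⟶ X := X.fromSpecStalk (genericPoint X)
  have hiso : IsIso ((EtCoh.pullPushAdj g).unit.app (EtCoh.const X ℚ)) :=
    Groth.Agent.S0626.result X hN ℚ
  let G := (EtCoh.pull g).obj (EtCoh.const X ℚ)
  have hdiv : ∀ n : ℕ, 0 < n → IsIso (n • 𝟙 G) := by
    intro n hn
    haveI := Groth.Agent.Lib.Helper27.EtQZ.isIso_nsmul_constQ X n hn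
    have h : (EtCoh.pull g).map (n • 𝟙 (EtCoh.const X ℚ)) = n • 𝟙 G := by
      rw [Functor.map_nsmul, CategoryTheory.Functor.map_id]
    rw [← h]
    infer_instance
  exact subsingleton_H_of_iso (asIso ((EtCoh.pullPushAdj g).unit.app (EtCoh.const X ℚ))) i
    (subsingleton_H_push_of_uniquely_divisible g G hdiv i hi)

end Groth.Agent.Lib.Helper27.EtRat
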