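import Groth.Agent.Lib.Helper23.ExtAdj

/-!
# The adjunction map on `Ext¹` is injective (low-degree Leray)
-/

set_option autoImplicit false

namespace Groth.Agent.Lib.Helper27.EtSky

open CategoryTheory Limits Abelian
open Groth.Agent.Lib.Helper23.ExtAdj

universe w w' v v' u u'

variable {C : Type u} [Category.{v} C] [Abelian C] {D : Type u'} [Category.{v'} D] [Abelian D]
  {L : C ⥤ D} {R : D ⥤ C} (adj : L ⊣ R) [L.Additive] [PreservesFiniteLimits L]
  [PreservesFiniteColimits L] [HasExt.{w} C] [HasExt.{w'} D] [R.Additive] [EnoughInjectives D]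

set_option backward.isDefEq.respectTransparency false in
theorem extAdj_one_injective (A : C) (F : D) : Function.Injective (extAdj adj A F 1) := by
  rw [injective_iff_map_eq_zero]
  intro x hx
  haveI : PreservesFiniteLimits R := by
    have := adj.rightAdjoint_preservesLimits
    infer_instance
  let I : InjectivePresentation F := Classical.arbitrary _
  let S := ShortComplex.mk _ _ (cokernel.condition I.f)
  have hS : S.ShortExact := { exact := ShortComplex.exact_cokernel I.f }
  haveI : Injective S.X₂ := I.injective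
  haveI := hS.mono_f
  haveI : Mono (R.map S.f) := inferInstance
  have hRS : (S.map R).Exact := hS.exact.map_of_mono_of_preservesKernel R hS.mono_f inferInstance
  let S' := ShortComplex.mk _ _ (cokernel.condition (R.map S.f))
  have hS' : S'.ShortExact := { exact := ShortComplex.exact_cokernel (R.map S.f) }
  let ι : cokernel (R.map S.f) ⟶ R.obj S.X₃ := cokernel.desc (R.map S.f) (R.map S.g) (S.map R).zero
  haveI : Mono ι := hRS.mono_cokernelDesc
  have hπι : cokernel.π (R.map S.f) ≫ ι = R.map S.g := cokernel.π_desc _ _ _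
  haveI : Injective (R.obj S.X₂) := adj.map_injective _ I.injective
  have h0 : x.comp (Ext.mk₀ (R.map S.f)) (add_zero 1) = 0 := Ext.eq_zero_of_injective _
  obtain ⟨y, hy⟩ := Ext.covariant_sequence_exact₁ A hS' x h0 (zero_add 1)
  obtain ⟨φ, rfl⟩ := (Ext.mk₀_bijective _ _).2 y
  let Φ : S'.map L ⟶ S :=
    { τ₁ := adj.counit.app S.X₁
      τ₂ := adj.counit.app S.X₂
      τ₃ := L.map ι ≫ adj.counit.app S.X₃
      comm₁₂ := (adj.counit.naturality S.f).symm
      comm₂₃ := by
        change adj.counit.app S.X₂ ≫ S.g =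
          L.map (cokernel.π (R.map S.f)) ≫ L.map ι ≫ adj.counit.app S.X₃
        rw [← L.map_comp_assoc, hπι]
        exact (adj.counit.naturality S.g).symm }
  have hnat := ShortComplex.ShortExact.extClass_naturality (hS'.map_of_exact L) hS Φ
  have key : extAdj adj A F 1 x =
      (Ext.mk₀ (L.map φ ≫ L.map ι ≫ adj.counit.app S.X₃)).comp hS.extClass (zero_add 1) := by
    rw [← hy, extAdj_apply, Ext.mapExactFunctor_comp, Ext.mapExactFunctor_mk₀,
      Ext.mapExactFunctor_extClass, Ext.comp_assoc_of_third_deg_zero]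
    change (Ext.mk₀ (L.map φ)).comp (((hS'.map_of_exact L).extClass).comp
      (Ext.mk₀ Φ.τ₁) (add_zero 1)) (zero_add 1) = _
    rw [hnat, ← Ext.comp_assoc_of_second_deg_zero, Ext.mk₀_comp_mk₀]
  rw [key] at hx
  obtain ⟨z, hz⟩ := Ext.covariant_sequence_exact₃ (L.obj A) hS _ (zero_add 1) hx
  obtain ⟨χ, rfl⟩ := (Ext.mk₀_bijective _ _).2 z
  rw [Ext.mk₀_comp_mk₀] at hz
  have hχ : χ ≫ S.g = L.map φ ≫ L.map ι ≫ adj.counit.app S.X₃ := (Ext.mk₀_bijective _ _).1 hz
  have h1 : adj.homEquiv _ _ χ ≫ R.map S.g = φ ≫ ι := by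
    rw [← adj.homEquiv_naturality_right, hχ, Equiv.apply_eq_iff_eq_symm_apply,
      adj.homEquiv_counit, L.map_comp, Category.assoc]
  have h2 : adj.homEquiv _ _ χ ≫ cokernel.π (R.map S.f) = φ := by
    rw [← cancel_mono ι, Category.assoc, hπι, h1]
  rw [← hy, ← h2, ← Ext.mk₀_comp_mk₀, Ext.comp_assoc_of_second_deg_zero]
  change (Ext.mk₀ _).comp ((Ext.mk₀ S'.g).comp hS'.extClass (zero_add 1)) (zero_add 1) = 0
  rw [hS'.comp_extClass, Ext.comp_zero]

end Groth.Agent.Lib.Helper27.EtSky
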