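import Groth.Agent.Lib.Helper27.EtH90b
import Groth.Agent.Lib.Helper27.EtRat5
import Groth.Agent.Lib.Helper27.EtSky1
import Groth.Agent.S14451

/-!
# `G_m` restricted along an étale morphism; `H¹(X, i_* G_m) = 0` and injectivity of
`H²(X, i_* G_m) → H²(Spec K, G_m)` for `i : Spec K ⟶ X`
-/

set_option autoImplicit false
set_option backward.isDefEq.respectTransparency false
universe u
open CategoryTheory Limits Opposite AlgebraicGeometry Abelian
open Groth.Agent.Lib.Helper18.GalFibre Groth.Agent.Lib.Helper23.EtGlue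
  Groth.Agent.Lib.Helper27.GabberCrit Groth.Agent.Lib.Helper27.EtTrace
  Groth.Agent.Lib.Helper23.ExtAdj Groth.Agent.Lib.Helper23.ExtRestr
  Groth.Agent.Lib.Helper23.EtRestr

namespace Groth.Agent.Lib.Helper27.EtH90

section Restr

variable {U X : Scheme.{u}} (j : U ⟶ X) [Etale j]

/-- the restriction of `G_m` along an étale morphism is `G_m` -/
noncomputable def restrGmIso : (EtShriek.restrAlong j).obj (EtCoh.Gm X) ≅ EtCoh.Gm U :=
  (fullyFaithfulSheafToPresheaf _ _).preimageIso
    (NatIso.ofComponents (fun V => Iso.refl _) (by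
      intro V W f
      change _ ≫ 𝟙 _ = 𝟙 _ ≫ _
      rw [Category.comp_id, Category.id_comp]
      rfl))

/-- the inverse image of `G_m` along an étale morphism is `G_m` -/
noncomputable def pullGmIso : (EtCoh.pull j).obj (EtCoh.Gm X) ≅ EtCoh.Gm U :=
  (pullIsoRestr j).app _ ≪≫ restrGmIso j

end Restr

variable {K : Type u} [Field K]

theorem ext_one_Zj_Gm_eq_zero (L : Type u) [Field L] [Algebra K L] [FiniteDimensional K L]
    [Algebra.IsSeparable K L]
    (x : Ext (Zj (sK K L)) (EtCoh.Gm (Spec (CommRingCat.of K))) 1) : x = 0 := by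
  obtain ⟨y, rfl⟩ := (extAdj_bijective_of_exact (adjE (sK K L))
    (EtCoh.const (Spec (CommRingCat.of L)) ℤ) (EtCoh.Gm (Spec (CommRingCat.of K))) 1).2 x
  have hsub : Subsingleton (EtCoh.H (Spec (CommRingCat.of L))
      ((EtCoh.pull (sK K L)).obj (EtCoh.Gm (Spec (CommRingCat.of K)))) 1) :=
    Groth.Agent.Lib.Helper27.EtRat.subsingleton_H_of_iso (pullGmIso (sK K L)) 1
      (subsingleton_H_one_Gm L)
  rw [hsub.elim y 0, map_zero]

end Groth.Agent.Lib.Helper27.EtH90
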