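import Groth.Agent.Lib.Helper27.EtLimQ1
import Groth.Prelude.Def_EtLim

/-!
# The limit theorem for the sheaves induced by a sheaf on the big étale site (helper27)
-/

set_option autoImplicit false
set_option backward.isDefEq.respectTransparency false
set_option backward.isDefEq.respectTransparency.types false

universe u

open CategoryTheory CategoryTheory.Limits AlgebraicGeometry Opposite

namespace Groth.Agent.Lib.Helper27.EtLimQ

open Groth.Agent.Lib.Helper27.EtLimA Groth.Agent.Lib.Helper27.EtLimB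
  Groth.Agent.Lib.Helper27.EtLimC Groth.Agent.Lib.Helper27.EtLimD
  Groth.Agent.Lib.Helper27.EtLimG Groth.Agent.Lib.Helper27.EtLimM
  Groth.Agent.Lib.Helper23.FinBC0

variable (P : Scheme.{u}ᵒᵖ ⥤ AddCommGrpCat.{u + 1})
  (hP : Presheaf.IsSheaf Scheme.etaleTopology P)

/-- the sheaf on the small étale site induced by a sheaf on the big étale site -/
noncomputable def 𝒬 (X : Scheme.{u}) : EtCoh.Ab X :=
  ((Scheme.Etale.forget X ⋙ Over.forget X).sheafPushforwardContinuous _ _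
    Scheme.etaleTopology).obj ⟨P, hP⟩

/-- functoriality in the scheme -/
noncomputable def PPush {X Y : Scheme.{u}} (f : X ⟶ Y) :
    𝒬 P hP Y ⟶ (EtCoh.push f).obj (𝒬 P hP X) :=
  ObjectProperty.homMk (Functor.whiskerRight (NatTrans.op (EtLim.bcProj f)) P)

lemma Ga_eq (X : Scheme.{u}) : EtCoh.Ga X = 𝒬 EtCoh.ΓAdd EtCoh.isSheaf_ΓAdd X := rfl

lemma Gm_eq (X : Scheme.{u}) : EtCoh.Gm X = 𝒬 EtCoh.ΓUnits EtCoh.isSheaf_ΓUnits X := rfl

lemma GaPush_eq {X Y : Scheme.{u}} (f : X ⟶ Y) :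
    EtLim.GaPush f = PPush EtCoh.ΓAdd EtCoh.isSheaf_ΓAdd f := rfl

lemma GmPush_eq {X Y : Scheme.{u}} (f : X ⟶ Y) :
    EtLim.GmPush f = PPush EtCoh.ΓUnits EtCoh.isSheaf_ΓUnits f := rfl

lemma PPush_sec {X Y : Scheme.{u}} (f : X ⟶ Y) (V : Y.Etale) :
    secMap f (PPush P hP f) V = P.map (prL f V).op := rfl

lemma 𝒬_map {X : Scheme.{u}} {U V : X.Etale} (g : U ⟶ V) :
    (𝒬 P hP X).obj.map g.op = P.map g.left.op := rfl

lemma PPush_comp {X Y Z : Scheme.{u}} (f : X ⟶ Y) (g : Z ⟶ X) (h : Z ⟶ Y) (w : g ≫ f = h) :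
    relComp f g h w (PPush P hP f) (PPush P hP g) = PPush P hP h := by
  apply rel_ext
  intro W
  rw [relComp_sec, PPush_sec, PPush_sec, PPush_sec, 𝒬_map, ← P.map_comp, ← P.map_comp,
    ← op_comp, ← op_comp, Category.assoc, triIso_inv_prL]

lemma PPush_id {X : Scheme.{u}} (f : X ⟶ X) (hf : f = 𝟙 X) :
    PPush P hP f = relId f hf (𝒬 P hP X) := by
  apply rel_ext
  intro W
  rfl

lemma map_comp_apply' {A B C : Scheme.{u}} (a : A ⟶ B) (b : B ⟶ C) (s : P.obj (op C)) :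
    P.map (a ≫ b).op s = P.map a.op (P.map b.op s) := by
  rw [op_comp, P.map_comp]
  rfl

section System

variable {ι : Type u} [Preorder ι] (Xs : ιᵒᵖ ⥤ Scheme.{u})

/-- the system of induced sheaves on the stages -/
noncomputable def pSys : Sys Xs where
  F j := 𝒬 P hP (Xs.obj (op j))
  τ h := PPush P hP (tr Xs h)
  τ_refl j := PPush_id P hP _ _
  τ_trans h1 h2 := PPush_comp P hP _ _ _ _

variable {Xs} (c : Cone Xs)

/-- the cocone to the induced sheaf on the limit -/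
noncomputable def pCocone : Cocone ((pSys P hP Xs).G c) :=
  coconeOfθ c (pSys P hP Xs) (𝒬 P hP c.pt) (fun j => PPush P hP (pr c j))
    (fun h => PPush_comp P hP _ _ _ _)

lemma pCocone_θ (j : ι) : (pSys P hP Xs).θ c (pCocone P hP c) j = PPush P hP (pr c j) :=
  θ_coconeOfθ c (pSys P hP Xs) (𝒬 P hP c.pt) (fun j => PPush P hP (pr c j))
    (fun h => PPush_comp P hP _ _ _ _) j

lemma pCocone_ι (j : ι) : (pCocone P hP c).ι.app j = toPull (pr c j) (PPush P hP (pr c j)) := rfl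

end System

section Main

variable {ι : Type u} [Preorder ι] [IsDirected ι (· ≤ ·)] [Nonempty ι] {Xs : ιᵒᵖ ⥤ Scheme.{u}}
  (c : Cone Xs) (hc : IsLimit c)
  [∀ (a b : ιᵒᵖ) (h : a ⟶ b), IsAffineHom (Xs.map h)] [∀ a, CompactSpace ↥(Xs.obj a)]
  [∀ a, QuasiSeparatedSpace ↥(Xs.obj a)]

/-- the sections of `P` over base changes to the limit come from finite stages -/
def LimSurj : Prop :=
  ∀ (k : ι) (W : (Xs.obj (op k)).Etale) [CompactSpace W.left] [QuasiSeparatedSpace W.left]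
    (m : P.obj (op ((EtCoh.bc (pr c k)).obj W).left)),
    ∃ (k' : ι) (h : k ≤ k') (s : P.obj (op ((EtCoh.bc (tr Xs h)).obj W).left)),
      P.map (qG (tr Xs h) (pr c k') (pr c k) (pr_tr c h) W).op s = m

/-- the sections of `P` at a finite stage dying on the limit die at a later stage -/
def LimInj : Prop :=
  ∀ (k : ι) (W : (Xs.obj (op k)).Etale) [CompactSpace W.left] [QuasiSeparatedSpace W.left]
    (k' : ι) (h : k ≤ k') (s : P.obj (op ((EtCoh.bc (tr Xs h)).obj W).left)),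
    P.map (qG (tr Xs h) (pr c k') (pr c k) (pr_tr c h) W).op s = 0 →
      ∃ (k'' : ι) (h' : k' ≤ k''),
        P.map (qG (tr Xs h) (tr Xs h') (tr Xs (h.trans h')) (tr_comp Xs h h') W).op s = 0

include hc in
theorem pCocone_isColimit (hS : LimSurj P c) (hI : LimInj P c) :
    Nonempty (IsColimit (pCocone P hP c)) := by
  apply isColimit_of_sections c hc
  · intro k W _ _ m
    obtain ⟨k', h, s, hs⟩ := hS k W m
    refine ⟨k', h, s, ?_⟩
    rw [pCocone_θ, PPush_sec]
    change _ = P.map ((tcan c h).hom.app W).left.op m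
    rw [← hs, ← map_comp_apply']
    congr 3
    unfold qG
    rw [← Category.assoc, ← comp_left', Iso.hom_inv_id_app]
    exact (Category.id_comp _).symm
  · intro k W _ _ s hs
    rw [pCocone_θ, PPush_sec] at hs
    have h1 : P.map (qG (tr Xs (le_refl k)) (pr c k) (pr c k) (pr_tr c (le_refl k)) W).op
        (P.map (prL (tr Xs (le_refl k)) W).op s) = 0 := by
      rw [← map_comp_apply', qG_prL]
      exact hs
    obtain ⟨k'', h', h2⟩ := hI k W k (le_refl k) _ h1
    refine ⟨k'', (le_refl k).trans h', ?_⟩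
    rw [← map_comp_apply', qG_prL] at h2
    exact h2

open Abelian Groth.Agent.Lib.Helper27.EtLimI Groth.Agent.Lib.Helper27.EtLimL in
lemma HofPush_map_eq {X Y : Scheme.{u}} (f : X ⟶ Y) [PreservesFiniteLimits (EtCoh.pull f)]
    {A : EtCoh.Ab Y} {B : EtCoh.Ab X} (γ : A ⟶ (EtCoh.push f).obj B) (n : ℕ)
    (ξ : EtCoh.H Y A n) :
    EtLim.HofPush f B n (((EtCoh.HF Y n).map γ).hom ξ) =
      EtLim.HpullThen f A (toPull f γ) n ξ := by
  have h1 : toPull f γ = (EtCoh.pull f).map γ ≫ (EtCoh.pullPushAdj f).counit.app B := by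
    unfold toPull
    rw [Adjunction.homEquiv_counit]
  rw [h1, HpullThen_pre]
  rfl

open Abelian Groth.Agent.Lib.Helper27.EtLimI Groth.Agent.Lib.Helper27.EtLimL in
include hc in
/-- **the limit theorem for the sheaves induced by a sheaf on the big étale site** -/
theorem limit_P (hS : LimSurj P c) (hI : LimInj P c) (n : ℕ)
    [∀ a, PreservesFiniteLimits (EtCoh.pull (c.π.app a))]
    [∀ ⦃a b : ιᵒᵖ⦄ (h : a ⟶ b), PreservesFiniteLimits (EtCoh.pull (Xs.map h))] :
    (∀ ξ : EtCoh.H c.pt (𝒬 P hP c.pt) n,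
      ∃ (j : ι) (ξj : EtCoh.H (Xs.obj (op j)) (𝒬 P hP (Xs.obj (op j))) n),
        EtLim.HofPush (c.π.app (op j)) (𝒬 P hP c.pt) n
          (((EtCoh.HF (Xs.obj (op j)) n).map (PPush P hP (c.π.app (op j)))).hom ξj) = ξ) ∧
    (∀ (j : ι) (ξj : EtCoh.H (Xs.obj (op j)) (𝒬 P hP (Xs.obj (op j))) n),
      EtLim.HofPush (c.π.app (op j)) (𝒬 P hP c.pt) n
          (((EtCoh.HF (Xs.obj (op j)) n).map (PPush P hP (c.π.app (op j)))).hom ξj) = 0 →
        ∃ (k : ι) (hk : j ≤ k),
          EtLim.HofPush (Xs.map (homOfLE hk).op) (𝒬 P hP (Xs.obj (op k))) n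
            (((EtCoh.HF (Xs.obj (op j)) n).map (PPush P hP (Xs.map (homOfLE hk).op))).hom ξj) =
            0) := by
  obtain ⟨hcc⟩ := pCocone_isColimit P hP c hc hS hI
  obtain ⟨h1, h2⟩ := limThm c hc (pSys P hP Xs) (pCocone P hP c) hcc n
  constructor
  · intro ξ
    obtain ⟨j, x, hx⟩ := h1 ξ
    refine ⟨j, x, ?_⟩
    exact (HofPush_map_eq (c.π.app (op j)) (PPush P hP (c.π.app (op j))) n x).trans hx
  · intro j ξj hξ
    have hξ' := (HofPush_map_eq (c.π.app (op j)) (PPush P hP (c.π.app (op j))) n ξj).symm.trans hξ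
    obtain ⟨k, hk, hk'⟩ := h2 j ξj hξ'
    refine ⟨k, hk, ?_⟩
    exact (HofPush_map_eq (Xs.map (homOfLE hk).op) (PPush P hP (Xs.map (homOfLE hk).op)) n
      ξj).trans hk'

end Main

end Groth.Agent.Lib.Helper27.EtLimQ
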