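import Mathlib
import Groth.Prelude.Def_EtBase
import Groth.Prelude.Def_EtLim
import Groth.Agent.Lib.Helper27.DivTors
import Groth.Agent.Lib.Helper27.EtLimQ2
import Groth.Agent.Lib.Helper27.EtH90d

/-!
# Functoriality of `HGmPull`, and cohomology of coproducts of sheaves with vanishing cohomology
-/

set_option autoImplicit false
set_option backward.isDefEq.respectTransparency false
set_option backward.isDefEq.respectTransparency.types false

universe u

namespace Groth.Agent.Lib.Helper27.BrInj1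

open CategoryTheory CategoryTheory.Limits AlgebraicGeometry Opposite Abelian
open CategoryTheory.Limits.CoproductsFromFiniteFiltered
open Groth.Agent.Lib.Helper27.EtLimA Groth.Agent.Lib.Helper27.EtLimB
  Groth.Agent.Lib.Helper27.EtLimC Groth.Agent.Lib.Helper27.EtLimQ
  Groth.Agent.Lib.Helper23.FinBC0 Groth.Agent.Lib.Helper23.EtRestr

section Coprod

variable {X : Scheme.{u}}

lemma subsingleton_H_finite_coprod {β : Type u} [Finite β] (g : β → EtCoh.Ab X) (m : ℕ)
    (h : ∀ b, Subsingleton (EtCoh.H X (g b) m)) : Subsingleton (EtCoh.H X (∐ g) m) := by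
  haveI : (EtCoh.HF X m).Additive := by unfold EtCoh.HF; infer_instance
  haveI : PreservesColimitsOfShape (Discrete β) (EtCoh.HF X m) := inferInstance
  have hl : IsColimit (Cofan.mk ((EtCoh.HF X m).obj (∐ g))
      (fun b => (EtCoh.HF X m).map (Sigma.ι g b)) : Cofan fun b => (EtCoh.HF X m).obj (g b)) :=
    isColimitMapCoconeCofanMkEquiv (EtCoh.HF X m) _ _
      (isColimitOfPreserves (EtCoh.HF X m) (coproductIsCoproduct g))
  have key : ∀ ξ : EtCoh.H X (∐ g) m, ξ = 0 := by
    intro ξ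
    obtain ⟨T, τ, hτ⟩ := Groth.Agent.Lib.Helper27.DivAL1.isFinSum_of_isColimit _ hl ξ
    have hξ : (ξ : (EtCoh.HF X m).obj (∐ g)) =
        ∑ b ∈ T, ((EtCoh.HF X m).map (Sigma.ι g b)).hom (τ b) := hτ
    change (ξ : (EtCoh.HF X m).obj (∐ g)) = 0
    rw [hξ]
    apply Finset.sum_eq_zero
    intro b _
    have : τ b = 0 := (h b).elim _ _
    rw [this, map_zero]
  exact ⟨fun a b => (key a).trans (key b).symm⟩

variable [CompactSpace X] [QuasiSeparatedSpace X]

theorem subsingleton_H_coprod {α : Type u} (f : α → EtCoh.Ab X) (m : ℕ)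
    (h : ∀ a, Subsingleton (EtCoh.H X (f a) m)) : Subsingleton (EtCoh.H X (∐ f) m) := by
  haveI : PreservesColimitsOfShape (Finset (Discrete α)) (EtCoh.HF X m) :=
    Groth.Agent.Lib.Helper27.EtTransport.preservesColimitsOfShape_HF' X m _
  have hl := isColimitOfPreserves (EtCoh.HF X m) (isColimitFiniteSubproductsCocone f)
  haveI : PreservesFilteredColimitsOfSize.{u, u} (forget AddCommGrpCat.{u + 1}) :=
    preservesFilteredColimitsOfSize_shrink.{u, u + 1, u, u + 1} _
  haveI : PreservesColimit (liftToFinsetObj (Discrete.functor f) ⋙ EtCoh.HF X m)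
      (forget AddCommGrpCat.{u + 1}) :=
    (PreservesFilteredColimitsOfSize.preserves_filtered_colimits
      (F := forget AddCommGrpCat.{u + 1}) (Finset (Discrete α))).preservesColimit
  have key : ∀ ξ : EtCoh.H X (∐ f) m, ξ = 0 := by
    intro ξ
    obtain ⟨T, y, hy⟩ := Concrete.isColimit_exists_rep _ hl (ξ : (EtCoh.HF X m).obj (∐ f))
    have hT : Subsingleton (EtCoh.H X (∐ fun x : T => f x.1.as) m) :=
      subsingleton_H_finite_coprod (fun x : T => f x.1.as) m (fun b => h _)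
    change (ξ : (EtCoh.HF X m).obj (∐ f)) = 0
    rw [← hy]
    have : y = 0 := hT.elim _ _
    rw [this]
    exact map_zero _
  exact ⟨fun a b => (key a).trans (key b).symm⟩

end Coprod

section Functoriality

variable {X Y Z : Scheme.{u}}

lemma HGmPull_eq_Hrel (f : X ⟶ Y) [PreservesFiniteLimits (EtCoh.pull f)] (n : ℕ)
    (ξ : EtCoh.H Y (EtCoh.Gm Y) n) :
    EtLim.HGmPull f n ξ = Hrel f (EtLim.GmPush f) n ξ :=
  HofPush_map_eq f (EtLim.GmPush f) n ξ

theorem HGmPull_comp (f : X ⟶ Y) (g : Z ⟶ X) (h : Z ⟶ Y) (w : g ≫ f = h)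
    [PreservesFiniteLimits (EtCoh.pull f)] [PreservesFiniteLimits (EtCoh.pull g)]
    [PreservesFiniteLimits (EtCoh.pull h)] (n : ℕ) (ξ : EtCoh.H Y (EtCoh.Gm Y) n) :
    EtLim.HGmPull h n ξ = EtLim.HGmPull g n (EtLim.HGmPull f n ξ) := by
  rw [HGmPull_eq_Hrel, HGmPull_eq_Hrel, HGmPull_eq_Hrel, GmPush_eq, GmPush_eq, GmPush_eq,
    ← PPush_comp EtCoh.ΓUnits EtCoh.isSheaf_ΓUnits f g h w, Hrel_relComp]
  rfl

end Functoriality

section Etale

variable {U X : Scheme.{u}} (j : U ⟶ X) [Etale j]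

lemma toPull_eq_restr {A : EtCoh.Ab X} {B : EtCoh.Ab U} (γ : A ⟶ (EtCoh.push j).obj B) :
    toPull j γ = (pullIsoRestr j).hom.app A ≫ ((restrPushAdj j).homEquiv A B).symm γ := by
  unfold toPull pullIsoRestr
  rw [Adjunction.homEquiv_counit, Adjunction.homEquiv_counit,
    ← Adjunction.leftAdjointUniq_hom_app_counit (EtCoh.pullPushAdj j) (restrPushAdj j) B,
    ← Category.assoc, ← Category.assoc]
  congr 1
  exact ((EtCoh.pullPushAdj j).leftAdjointUniq (restrPushAdj j)).hom.naturality γ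

end Etale

end Groth.Agent.Lib.Helper27.BrInj1

namespace Groth.Agent.Lib.Helper27.BrInj1

open CategoryTheory CategoryTheory.Limits AlgebraicGeometry Opposite Abelian
open Groth.Agent.Lib.Helper27.EtLimA Groth.Agent.Lib.Helper27.EtLimB
  Groth.Agent.Lib.Helper27.EtLimC Groth.Agent.Lib.Helper27.EtLimQ
  Groth.Agent.Lib.Helper23.FinBC0 Groth.Agent.Lib.Helper23.EtRestr

section Etale2

variable {U X : Scheme.{u}} (j : U ⟶ X) [Etale j]

lemma unit_left_prL (W : U.Etale) :
    ((adjSite j).unit.app W).left ≫ prL j ((EtShriek.compEtale j).obj W) = 𝟙 _ := by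
  unfold adjSite
  simp [prL]

lemma restr_symm_GmPush :
    ((restrPushAdj j).homEquiv _ _).symm (EtLim.GmPush j) =
      (Groth.Agent.Lib.Helper27.EtH90.restrGmIso j).hom := by
  rw [Adjunction.homEquiv_counit]
  apply ObjectProperty.hom_ext
  ext W : 2
  change (EtLim.GmPush j).hom.app (op ((EtShriek.compEtale j).obj W.unop)) ≫
    (EtCoh.Gm U).obj.map ((adjSite j).unit.app W.unop).op = 𝟙 _
  change EtCoh.ΓUnits.map (prL j ((EtShriek.compEtale j).obj W.unop)).op ≫
    EtCoh.ΓUnits.map ((adjSite j).unit.app W.unop).left.op = 𝟙 _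
  rw [← Functor.map_comp, ← op_comp, unit_left_prL]
  simp

theorem toPull_GmPush_eq : toPull j (EtLim.GmPush j) =
    (Groth.Agent.Lib.Helper27.EtH90.pullGmIso j).hom := by
  rw [toPull_eq_restr, restr_symm_GmPush]
  rfl

instance isIso_toPull_GmPush : IsIso (toPull j (EtLim.GmPush j)) := by
  rw [toPull_GmPush_eq]; infer_instance

/-- for étale `j`, a class killed by `HGmPull j` is killed by `Hpull j` -/
theorem Hpull_eq_zero_of_HGmPull_eq_zero [PreservesFiniteLimits (EtCoh.pull j)] (n : ℕ)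
    (ξ : EtCoh.H X (EtCoh.Gm X) n) (h : EtLim.HGmPull j n ξ = 0) :
    EtCore.Hpull j (EtCoh.Gm X) n ξ = 0 := by
  rw [HGmPull_eq_Hrel, Hrel_apply] at h
  have h3 := congrArg (fun e => e.comp (Ext.mk₀ (inv (toPull j (EtLim.GmPush j)))) (add_zero n)) h
  simp only [Ext.zero_comp] at h3
  rw [Ext.comp_assoc_of_third_deg_zero, Ext.mk₀_comp_mk₀, IsIso.hom_inv_id, Ext.comp_mk₀_id] at h3
  exact h3

end Etale2

end Groth.Agent.Lib.Helper27.BrInj1
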