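import Mathlib
import Groth.Prelude.Def_EtBase
import Groth.Agent.Lib.Helper27.DivAL1
import Groth.Agent.Lib.Helper23.EtGlue2

/-!
# Sections of a coproduct of abelian étale sheaves are locally finite sums
-/

set_option autoImplicit false
set_option backward.isDefEq.respectTransparency false
set_option backward.isDefEq.respectTransparency.types false

universe u

namespace Groth.Agent.Lib.Helper27.DivAL2

open CategoryTheory CategoryTheory.Limits AlgebraicGeometry Opposite
open Groth.Agent.Lib.Helper23

variable {X : Scheme.{u}} {I : Type u} (F : I → EtCoh.Ab X)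

/-- the presheaf coproduct -/
noncomputable abbrev preCoprod : X.Etaleᵒᵖ ⥤ AddCommGrpCat.{u + 1} := ∐ fun x => (F x).obj

/-- the sheafified coproduct -/
noncomputable abbrev shCoprod : EtCoh.Ab X :=
  (presheafToSheaf X.smallEtaleTopology AddCommGrpCat.{u + 1}).obj (preCoprod F)

/-- the model cofan -/
noncomputable def modelCofan : Cofan F :=
  Cofan.mk (shCoprod F) (fun x =>
    ⟨Sigma.ι (fun x => (F x).obj) x ≫ toSheafify X.smallEtaleTopology (preCoprod F)⟩)

noncomputable def modelIsColimit : IsColimit (modelCofan F) :=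
  mkCofanColimit _
    (fun s => ⟨sheafifyLift X.smallEtaleTopology (Sigma.desc (fun x => (s.inj x).hom)) s.pt.property⟩)
    (fun s x => by
      apply Sheaf.hom_ext
      change (Sigma.ι (fun x => (F x).obj) x ≫ toSheafify X.smallEtaleTopology (preCoprod F)) ≫
        sheafifyLift X.smallEtaleTopology (Sigma.desc (fun x => (s.inj x).hom)) s.pt.property = _
      rw [Category.assoc, toSheafify_sheafifyLift, Sigma.ι_desc])
    (fun s m hm => by
      apply Sheaf.hom_ext
      apply sheafifyLift_unique
      apply Sigma.hom_ext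
      intro x
      rw [Sigma.ι_desc, ← hm x, ← Category.assoc]
      rfl)

end Groth.Agent.Lib.Helper27.DivAL2

namespace Groth.Agent.Lib.Helper27.DivAL2

open CategoryTheory CategoryTheory.Limits AlgebraicGeometry Opposite
open Groth.Agent.Lib.Helper23

variable {X : Scheme.{u}} {I : Type u} (F : I → EtCoh.Ab X)

/-- sections of the presheaf coproduct are finite sums -/
lemma preCoprod_finSum (V : X.Etale) (p : (preCoprod F).obj (op V)) :
    ∃ (T : Finset I) (τ : ∀ x, (F x).obj.obj (op V)),
      p = ∑ x ∈ T, ((Sigma.ι (fun x => (F x).obj) x).app (op V)).hom (τ x) := by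
  let ev := (evaluation X.Etaleᵒᵖ AddCommGrpCat.{u + 1}).obj (op V)
  have h1 : IsColimit (Cofan.mk ((preCoprod F).obj (op V))
      (fun x => (Sigma.ι (fun x => (F x).obj) x).app (op V)) :
        Cofan fun x => (F x).obj.obj (op V)) :=
    isColimitMapCoconeCofanMkEquiv ev _ _
      (isColimitOfPreserves ev (coproductIsCoproduct (fun x => (F x).obj)))
  exact DivAL1.isFinSum_of_isColimit _ h1 p

variable {F}

/-- **Sections of a coproduct of sheaves are locally finite sums.** -/
theorem locally_finSum (c : Cofan F) (hc : IsColimit c) (U : X.Etale)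
    (t : c.pt.obj.obj (op U)) (u : U.left) :
    ∃ (V : X.Etale) (g : V ⟶ U), u ∈ Set.range g.left ∧
      ∃ (T : Finset I) (τ : ∀ x, (F x).obj.obj (op V)),
        c.pt.obj.map g.op t = ∑ x ∈ T, ((c.inj x).hom.app (op V)).hom (τ x) := by
  let e : c.pt ≅ shCoprod F := hc.coconePointUniqueUpToIso (modelIsColimit F)
  have he : ∀ x, (modelCofan F).inj x ≫ e.inv = c.inj x := fun x =>
    IsColimit.comp_coconePointUniqueUpToIso_inv hc (modelIsColimit F) ⟨x⟩
  let t' : (shCoprod F).obj.obj (op U) := (e.hom.hom.app (op U)).hom t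
  have hmem := Presheaf.imageSieve_mem X.smallEtaleTopology
    (toSheafify X.smallEtaleTopology (preCoprod F)) t'
  obtain ⟨V, g, ⟨p, hp⟩, hu⟩ := EtGlue.exists_arrow_of_mem _ hmem u
  refine ⟨V, g, hu, ?_⟩
  obtain ⟨T, τ, hτ⟩ := preCoprod_finSum F V p
  refine ⟨T, τ, ?_⟩
  -- apply e.inv
  have h2 : c.pt.obj.map g.op t = (e.inv.hom.app (op V)).hom ((shCoprod F).obj.map g.op t') := by
    have hn := congrArg (fun k => k.hom t) (e.hom.hom.naturality g.op)
    simp only [AddCommGrpCat.hom_comp, AddMonoidHom.coe_comp, Function.comp_apply] at hn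
    change _ = (e.inv.hom.app (op V)).hom ((shCoprod F).obj.map g.op ((e.hom.hom.app (op U)).hom t))
    rw [← hn]
    have hi : e.hom.hom.app (op V) ≫ e.inv.hom.app (op V) = 𝟙 _ := by
      have := congrArg (fun k => k.hom.app (op V)) e.hom_inv_id
      exact this
    have := congrArg (fun k => k.hom (c.pt.obj.map g.op t)) hi
    exact this.symm
  rw [h2, ← hp, hτ, map_sum, map_sum]
  refine Finset.sum_congr rfl (fun x _ => ?_)
  have h3 := congrArg (fun k => (k.hom.app (op V)).hom (τ x)) (he x)
  exact h3

end Groth.Agent.Lib.Helper27.DivAL2
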