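import Mathlib
import Groth.Prelude.Def_EtBase
import Groth.Agent.Lib.Helper27.DivAL2
import Groth.Agent.Lib.Helper23.GenConst
import Groth.Agent.Lib.Helper23.LCSheaf

/-!
# An abstract criterion: the cokernel of `a : A ⟶ B` is a coproduct `∐ C x`
-/

set_option autoImplicit false
set_option backward.isDefEq.respectTransparency false
set_option backward.isDefEq.respectTransparency.types false

universe u

namespace Groth.Agent.Lib.Helper27.DivAL3

open CategoryTheory CategoryTheory.Limits AlgebraicGeometry Opposite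
open Groth.Agent.Lib.Helper23

variable {X : Scheme.{u}}

lemma comp_apply' {P₁ P₂ P₃ : EtCoh.Ab X} (f : P₁ ⟶ P₂) (g : P₂ ⟶ P₃)
    (W : X.Etale) (x : P₁.obj.obj (op W)) :
    (f ≫ g).hom.app (op W) x = g.hom.app (op W) (f.hom.app (op W) x) := rfl

lemma zero_apply' {P₁ P₂ : EtCoh.Ab X} (W : X.Etale) (x : P₁.obj.obj (op W)) :
    (0 : P₁ ⟶ P₂).hom.app (op W) x = 0 := rfl

lemma id_apply' {P₁ : EtCoh.Ab X} (W : X.Etale) (x : P₁.obj.obj (op W)) :
    (𝟙 P₁ : P₁ ⟶ P₁).hom.app (op W) x = x := rfl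

lemma nat_apply {P Q : EtCoh.Ab X} (φ : P ⟶ Q) {V W : X.Etale} (g : W ⟶ V)
    (s : P.obj.obj (op V)) :
    φ.hom.app (op W) (P.obj.map g.op s) = Q.obj.map g.op (φ.hom.app (op V) s) := by
  have h := congrArg (fun k => k s) (φ.hom.naturality g.op)
  exact h

lemma map_comp_apply (P : EtCoh.Ab X) {V W W' : X.Etale} (g : W ⟶ V) (h : W' ⟶ W)
    (s : P.obj.obj (op V)) :
    P.obj.map (h ≫ g).op s = P.obj.map h.op (P.obj.map g.op s) := by
  rw [op_comp, P.obj.map_comp]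
  rfl

/-- a morphism of abelian sheaves which is injective on sections is a monomorphism -/
lemma mono_of_injective {F G : EtCoh.Ab X} (f : F ⟶ G)
    (h : ∀ (U : X.Etale) (s : F.obj.obj (op U)), f.hom.app (op U) s = 0 → s = 0) : Mono f := by
  apply Preadditive.mono_of_cancel_zero
  intro P g hg
  apply Sheaf.hom_ext
  ext V p
  obtain ⟨V⟩ := V
  apply h
  rw [← comp_apply', hg]
  rfl

/-- epimorphisms are locally surjective -/
lemma exists_local_preimage {F G : EtCoh.Ab X} (e : F ⟶ G) [Epi e] (U : X.Etale)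
    (q : G.obj.obj (op U)) (u : U.left) :
    ∃ (V : X.Etale) (g : V ⟶ U), u ∈ Set.range g.left ∧
      ∃ s : F.obj.obj (op V), e.hom.app (op V) s = G.obj.map g.op q := by
  haveI : Sheaf.IsLocallySurjective e :=
    (Sheaf.isLocallySurjective_iff_epi' AddCommGrpCat.{u+1} e).2 inferInstance
  have hmem := Presheaf.imageSieve_mem X.smallEtaleTopology e.hom q
  obtain ⟨V, g, ⟨s, hs⟩, hu⟩ := EtGlue.exists_arrow_of_mem _ hmem u
  exact ⟨V, g, hu, s, hs⟩

/-- sections of a product of sheaves are determined by their components -/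
lemma pi_ext {I : Type u} (C : I → EtCoh.Ab X) (W : X.Etale) (s t : (∏ᶜ C).obj.obj (op W))
    (h : ∀ y, (Pi.π C y).hom.app (op W) s = (Pi.π C y).hom.app (op W) t) : s = t := by
  let Γ := (sheafSections X.smallEtaleTopology AddCommGrpCat.{u+1}).obj (op W)
  haveI : PreservesLimitsOfShape (Discrete I) Γ :=
    inferInstanceAs (PreservesLimitsOfShape (Discrete I)
      (sheafToPresheaf X.smallEtaleTopology AddCommGrpCat.{u+1} ⋙
        (evaluation X.Etaleᵒᵖ AddCommGrpCat.{u+1}).obj (op W)))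
  have hl := isLimitOfPreserves Γ (limit.isLimit (Discrete.functor C))
  exact Concrete.isLimit_ext _ hl s t (fun ⟨y⟩ => h y)

end Groth.Agent.Lib.Helper27.DivAL3

namespace Groth.Agent.Lib.Helper27.DivAL3

open CategoryTheory CategoryTheory.Limits AlgebraicGeometry Opposite
open Groth.Agent.Lib.Helper23

variable {X : Scheme.{u}} {I : Type u} {A B : EtCoh.Ab X} (a : A ⟶ B) {C : I → EtCoh.Ab X}
  (d : ∀ x, B ⟶ C x) (c : Cofan C) (hc : IsColimit c)

attribute [local instance] Classical.propDecidable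

/-- the comparison `c.pt ⟶ ∏ C` -/
noncomputable def iota₂ : c.pt ⟶ ∏ᶜ C := Cofan.IsColimit.desc hc (fun x => Pi.ι C x)

lemma inj_iota₂ (x : I) : c.inj x ≫ iota₂ c hc = Pi.ι C x :=
  Cofan.IsColimit.fac hc _ x

lemma iota₂_π_inj (x y : I) (W : X.Etale) (τ : (C x).obj.obj (op W)) (h : x ≠ y) :
    (Pi.π C y).hom.app (op W) ((iota₂ c hc).hom.app (op W) ((c.inj x).hom.app (op W) τ)) = 0 := by
  rw [← comp_apply', ← comp_apply', ← Category.assoc, inj_iota₂, Pi.ι_π_of_ne C h]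
  rfl

lemma iota₂_π_inj_self (x : I) (W : X.Etale) (τ : (C x).obj.obj (op W)) :
    (Pi.π C x).hom.app (op W) ((iota₂ c hc).hom.app (op W) ((c.inj x).hom.app (op W) τ)) = τ := by
  rw [← comp_apply', ← comp_apply', ← Category.assoc, inj_iota₂, Pi.ι_π_eq_id C x]
  rfl

lemma iota₂_π_sum (y : I) (W : X.Etale) (T : Finset I) (τ : ∀ x, (C x).obj.obj (op W)) :
    (Pi.π C y).hom.app (op W) ((iota₂ c hc).hom.app (op W)
      (∑ x ∈ T, (c.inj x).hom.app (op W) (τ x))) = if y ∈ T then τ y else 0 := by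
  rw [map_sum, map_sum]
  by_cases hy : y ∈ T
  · rw [if_pos hy, Finset.sum_eq_single_of_mem y hy]
    · exact iota₂_π_inj_self c hc y W (τ y)
    · intro x _ hxy
      exact iota₂_π_inj c hc x y W (τ x) hxy
  · rw [if_neg hy]
    apply Finset.sum_eq_zero
    intro x hx
    exact iota₂_π_inj c hc x y W (τ x) (fun h => hy (h ▸ hx))

include hc in
theorem mono_iota₂ : Mono (iota₂ c hc) := by
  apply mono_of_injective
  intro U t ht
  apply EtSupp.eq_of_cover c.pt U t 0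
  intro u
  obtain ⟨V, g, hu, T, τ, hτ⟩ := DivAL2.locally_finSum c hc U t u
  refine ⟨V, g, hu, ?_⟩
  rw [map_zero]
  have hτ' : c.pt.obj.map g.op t = ∑ x ∈ T, (c.inj x).hom.app (op V) (τ x) := hτ
  rw [hτ']
  apply Finset.sum_eq_zero
  intro x hx
  have h1 := iota₂_π_sum c hc x V T τ
  rw [if_pos hx, ← hτ', nat_apply, ht, map_zero, map_zero] at h1
  rw [← h1, map_zero]

end Groth.Agent.Lib.Helper27.DivAL3

namespace Groth.Agent.Lib.Helper27.DivAL3

open CategoryTheory CategoryTheory.Limits AlgebraicGeometry Opposite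
open Groth.Agent.Lib.Helper23

variable {X : Scheme.{u}} {I : Type u} {A B : EtCoh.Ab X} (a : A ⟶ B) {C : I → EtCoh.Ab X}
  (d : ∀ x, B ⟶ C x) (c : Cofan C) (hc : IsColimit c)

attribute [local instance] Classical.propDecidable

section

variable (Hi : ∀ x, a ≫ d x = 0)

/-- the comparison `cokernel a ⟶ ∏ C` -/
noncomputable def dbar : cokernel a ⟶ ∏ᶜ C :=
  cokernel.desc a (Pi.lift d) (by
    apply Pi.hom_ext
    intro y
    rw [Category.assoc, Pi.lift_π, Hi y, zero_comp])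

lemma π_dbar : cokernel.π a ≫ dbar a d Hi = Pi.lift d := cokernel.π_desc _ _ _

lemma dbar_π_apply (y : I) (W : X.Etale) (s : B.obj.obj (op W)) :
    (Pi.π C y).hom.app (op W) ((dbar a d Hi).hom.app (op W) ((cokernel.π a).hom.app (op W) s)) =
      (d y).hom.app (op W) s := by
  rw [← comp_apply', ← comp_apply', ← Category.assoc, π_dbar, Pi.lift_π]

variable (Hiii : ∀ (U : X.Etale) (s : B.obj.obj (op U)), (∀ x, (d x).hom.app (op U) s = 0) →
    ∀ u : U.left, ∃ (V : X.Etale) (g : V ⟶ U), u ∈ Set.range g.left ∧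
      ∃ t : A.obj.obj (op V), a.hom.app (op V) t = B.obj.map g.op s)

include Hiii in
theorem mono_dbar : Mono (dbar a d Hi) := by
  apply mono_of_injective
  intro U q hq
  apply EtSupp.eq_of_cover (cokernel a) U q 0
  intro u
  obtain ⟨V, g, hu, s, hs⟩ := exists_local_preimage (cokernel.π a) U q u
  obtain ⟨u₁, rfl⟩ := hu
  have hs0 : ∀ x, (d x).hom.app (op V) s = 0 := by
    intro x
    rw [← dbar_π_apply a d Hi x V s, hs, nat_apply, hq, map_zero, map_zero]
  obtain ⟨V₂, g₂, ⟨u₂, rfl⟩, t, ht⟩ := Hiii V s hs0 u₁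
  refine ⟨V₂, g₂ ≫ g, ⟨u₂, rfl⟩, ?_⟩
  rw [map_zero, map_comp_apply, ← hs, ← nat_apply, ← ht, ← comp_apply', cokernel.condition]
  rfl

end

end Groth.Agent.Lib.Helper27.DivAL3

namespace Groth.Agent.Lib.Helper27.DivAL3

open CategoryTheory CategoryTheory.Limits AlgebraicGeometry Opposite
open Groth.Agent.Lib.Helper23

variable {X : Scheme.{u}} {I : Type u} {A B : EtCoh.Ab X} (a : A ⟶ B) {C : I → EtCoh.Ab X}
  (d : ∀ x, B ⟶ C x) (c : Cofan C) (hc : IsColimit c)

attribute [local instance] Classical.propDecidable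

section

variable (Hi : ∀ x, a ≫ d x = 0)

/-- the sections of `c.pt` whose image in the product is locally in the image of `dbar` -/
def LocIm (W : X.Etale) (r : c.pt.obj.obj (op W)) : Prop :=
  ∀ w : W.left, ∃ (W' : X.Etale) (g : W' ⟶ W), w ∈ Set.range g.left ∧
    ∃ q : (cokernel a).obj.obj (op W'),
      (dbar a d Hi).hom.app (op W') q = (iota₂ c hc).hom.app (op W') (c.pt.obj.map g.op r)

lemma locIm_zero (W : X.Etale) : LocIm a d c hc Hi W 0 := by
  intro w
  refine ⟨W, 𝟙 W, ⟨w, rfl⟩, 0, ?_⟩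
  rw [map_zero, map_zero, map_zero]

lemma locIm_add (W : X.Etale) (r r' : c.pt.obj.obj (op W)) (h : LocIm a d c hc Hi W r)
    (h' : LocIm a d c hc Hi W r') : LocIm a d c hc Hi W (r + r') := by
  intro w
  obtain ⟨W₁, g₁, ⟨w₁, hw₁⟩, q₁, hq₁⟩ := h w
  obtain ⟨W₂, g₂, ⟨w₂, hw₂⟩, q₂, hq₂⟩ := h' w
  obtain ⟨Z, p₁, p₂, z, hcomm, hz₁, hz₂⟩ :=
    LCSheaf.exists_fiberProd g₁ g₂ w₁ w₂ (hw₁.trans hw₂.symm)
  refine ⟨Z, p₁ ≫ g₁, ⟨z, ?_⟩, (cokernel a).obj.map p₁.op q₁ + (cokernel a).obj.map p₂.op q₂, ?_⟩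
  · change g₁.left (p₁.left z) = w
    rw [hz₁, hw₁]
  · rw [map_add, map_add, map_add, nat_apply, nat_apply, hq₁, hq₂, ← nat_apply, ← nat_apply,
      ← map_comp_apply, ← map_comp_apply, hcomm]

include Hi in
lemma locIm_inj
    (Hiv : ∀ (x : I) (U : X.Etale) (t : (C x).obj.obj (op U)) (u : U.left),
      ∃ (V : X.Etale) (g : V ⟶ U), u ∈ Set.range g.left ∧ ∃ s : B.obj.obj (op V),
        (d x).hom.app (op V) s = (C x).obj.map g.op t ∧ ∀ y, y ≠ x → (d y).hom.app (op V) s = 0)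
    (W : X.Etale) (x : I) (τ : (C x).obj.obj (op W)) :
    LocIm a d c hc Hi W ((c.inj x).hom.app (op W) τ) := by
  intro w
  obtain ⟨V, g, hw, s, hs, hs'⟩ := Hiv x W τ w
  refine ⟨V, g, hw, (cokernel.π a).hom.app (op V) s, ?_⟩
  apply pi_ext
  intro y
  rw [dbar_π_apply, ← nat_apply]
  by_cases hy : y = x
  · subst hy
    rw [iota₂_π_inj_self, hs]
  · rw [iota₂_π_inj c hc x y V _ (fun h => hy h.symm), hs' y hy]

end

include hc in
/-- **The abstract criterion.** -/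
theorem cokernel_iso_coprod
    (H0 : ∀ (U : X.Etale) (s : A.obj.obj (op U)), a.hom.app (op U) s = 0 → s = 0)
    (Hi : ∀ x, a ≫ d x = 0)
    (Hii : ∀ (U : X.Etale) (s : B.obj.obj (op U)) (u : U.left),
      ∃ (V : X.Etale) (g : V ⟶ U), u ∈ Set.range g.left ∧
        {x | (d x).hom.app (op V) (B.obj.map g.op s) ≠ 0}.Finite)
    (Hiii : ∀ (U : X.Etale) (s : B.obj.obj (op U)), (∀ x, (d x).hom.app (op U) s = 0) →
      ∀ u : U.left, ∃ (V : X.Etale) (g : V ⟶ U), u ∈ Set.range g.left ∧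
        ∃ t : A.obj.obj (op V), a.hom.app (op V) t = B.obj.map g.op s)
    (Hiv : ∀ (x : I) (U : X.Etale) (t : (C x).obj.obj (op U)) (u : U.left),
      ∃ (V : X.Etale) (g : V ⟶ U), u ∈ Set.range g.left ∧ ∃ s : B.obj.obj (op V),
        (d x).hom.app (op V) s = (C x).obj.map g.op t ∧ ∀ y, y ≠ x → (d y).hom.app (op V) s = 0) :
    Mono a ∧ Nonempty (cokernel a ≅ c.pt) := by
  refine ⟨mono_of_injective a H0, ?_⟩
  haveI := mono_dbar a d Hi Hiii
  haveI := mono_iota₂ c hc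
  refine GenConst.nonempty_iso_of_local (dbar a d Hi) (iota₂ c hc) ?_ ?_
  · -- every section of the cokernel is locally a finite sum
    intro V q v
    obtain ⟨V₁, g₁, ⟨v₁, rfl⟩, s, hs⟩ := exists_local_preimage (cokernel.π a) V q v
    obtain ⟨V₂, g₂, ⟨v₂, rfl⟩, hfin⟩ := Hii V₁ s v₁
    refine ⟨V₂, g₂ ≫ g₁, ⟨v₂, rfl⟩,
      ∑ x ∈ hfin.toFinset, (c.inj x).hom.app (op V₂) ((d x).hom.app (op V₂) (B.obj.map g₂.op s)), ?_⟩
    apply pi_ext
    intro y
    rw [iota₂_π_sum, ← nat_apply, map_comp_apply, ← hs, ← nat_apply, dbar_π_apply]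
    by_cases hy : y ∈ hfin.toFinset
    · rw [if_pos hy]
    · rw [if_neg hy]
      rw [Set.Finite.mem_toFinset] at hy
      exact (not_not.1 hy).symm
  · -- every section of the coproduct is locally in the image
    intro V t v
    obtain ⟨V₁, g₁, ⟨v₁, rfl⟩, T, τ, hτ⟩ := DivAL2.locally_finSum c hc V t v
    have hτ' : c.pt.obj.map g₁.op t = ∑ x ∈ T, (c.inj x).hom.app (op V₁) (τ x) := hτ
    have hloc : LocIm a d c hc Hi V₁ (c.pt.obj.map g₁.op t) := by
      rw [hτ']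
      refine Finset.sum_induction _ (LocIm a d c hc Hi V₁) (locIm_add a d c hc Hi V₁)
        (locIm_zero a d c hc Hi V₁) (fun x _ => locIm_inj a d c hc Hi Hiv V₁ x (τ x))
    obtain ⟨V₂, g₂, ⟨v₂, rfl⟩, q, hq⟩ := hloc v₁
    refine ⟨V₂, g₂ ≫ g₁, ⟨v₂, rfl⟩, q, ?_⟩
    rw [hq, ← nat_apply, map_comp_apply]

end Groth.Agent.Lib.Helper27.DivAL3
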