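import Mathlib
import Groth.Prelude.Def_EtBase
import Groth.Agent.Lib.Helper3.EtaleDim

/-!
# Étale morphisms between integral schemes: generic points and function fields
-/

set_option autoImplicit false
set_option backward.isDefEq.respectTransparency false
set_option backward.isDefEq.respectTransparency.types false

universe u

namespace Groth.Agent.Lib.Helper27.DivGeo1

open CategoryTheory CategoryTheory.Limits AlgebraicGeometry Opposite

variable {Y Z : Scheme.{u}}

/-- étale morphisms preserve the codimension of points -/
lemma coheight_eq_of_etale (f : Y ⟶ Z) [Etale f] (y : Y) :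
    Order.coheight (f y) = Order.coheight y := by
  have h := Groth.Agent.Lib.Helper3.ringKrullDim_stalk_eq_of_etale f y
  rw [ringKrullDim_stalk_eq_coheight, ringKrullDim_stalk_eq_coheight] at h
  exact (WithBot.coe_injective h).symm

section Integral

variable [IsIntegral Y] [IsIntegral Z] (f : Y ⟶ Z) [Etale f]

/-- an étale morphism of integral schemes maps the generic point to the generic point -/
lemma map_genericPoint : f (genericPoint Y) = genericPoint Z := by
  have hopen : IsOpenMap f := Scheme.Hom.isOpenMap f
  have h1 : IsOpen (Set.range f) := hopen.isOpen_range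
  have h2 : (Set.range f).Nonempty := ⟨f (genericPoint Y), ⟨_, rfl⟩⟩
  -- closure of the image of the generic point contains the range
  have h3 : Set.range f ⊆ closure {f (genericPoint Y)} := by
    rintro _ ⟨y, rfl⟩
    have : genericPoint Y ⤳ y := (genericPoint_spec Y).specializes trivial
    exact (this.map f.continuous).mem_closed isClosed_closure (subset_closure rfl)
  have h4 : Dense (Set.range f) := h1.dense h2
  have h5 : IsGenericPoint (f (genericPoint Y)) (⊤ : Set Z) := by
    rw [IsGenericPoint, Set.top_eq_univ, ← Set.univ_subset_iff, ← h4.closure_eq]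
    exact closure_minimal h3 isClosed_closure
  exact (h5.eq (genericPoint_spec Z))

/-- a point over the generic point is the generic point -/
lemma eq_genericPoint_of_map_eq (y : Y) (hy : f y = genericPoint Z) : y = genericPoint Y := by
  have h0 : Order.coheight (genericPoint Z) = 0 := by
    rw [Order.coheight_eq_zero]
    intro z hz
    exact ((genericPoint_spec Z).specializes trivial : genericPoint Z ⤳ z)
  have h1 : Order.coheight y = 0 := by
    rw [← coheight_eq_of_etale f y, hy, h0]
  rw [Order.coheight_eq_zero] at h1
  have h2 : genericPoint Y ⤳ y := (genericPoint_spec Y).specializes trivial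
  have h3 : y ⤳ genericPoint Y := h1 h2
  exact (h3.antisymm h2).eq

end Integral

end Groth.Agent.Lib.Helper27.DivGeo1

namespace Groth.Agent.Lib.Helper27.DivGeo1

open CategoryTheory CategoryTheory.Limits AlgebraicGeometry Opposite

variable {Y Z : Scheme.{u}} [IsIntegral Y] [IsIntegral Z] (f : Y ⟶ Z) [Etale f]

/-- the map of function fields induced by an étale morphism of integral schemes -/
noncomputable def ffMap : Z.functionField ⟶ Y.functionField :=
  Z.presheaf.stalkSpecializes (specializes_of_eq (map_genericPoint f)) ≫
    f.stalkMap (genericPoint Y)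

lemma SpecMap_ffMap_fromSpecStalk :
    Spec.map (ffMap f) ≫ Z.fromSpecStalk (genericPoint Z) =
      Y.fromSpecStalk (genericPoint Y) ≫ f := by
  rw [ffMap, Spec.map_comp, Category.assoc, Scheme.SpecMap_stalkSpecializes_fromSpecStalk,
    Scheme.SpecMap_stalkMap_fromSpecStalk]

variable {T : Scheme.{u}} [IsIntegral T] (g : T ⟶ Y) [Etale g]

lemma ffMap_comp : ffMap (g ≫ f) = ffMap f ≫ ffMap g := by
  apply Spec.map_injective
  rw [← cancel_mono (Z.fromSpecStalk (genericPoint Z)), SpecMap_ffMap_fromSpecStalk,
    Spec.map_comp, Category.assoc, SpecMap_ffMap_fromSpecStalk, ← Category.assoc,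
    ← Category.assoc, SpecMap_ffMap_fromSpecStalk]

end Groth.Agent.Lib.Helper27.DivGeo1
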