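import Mathlib
import Groth.Prelude.Def_EtBase
import Groth.Agent.Lib.Helper27.DivGeo1

/-!
# The generic fibre of an integral étale scheme over an integral scheme is the spectrum of its
function field
-/

set_option autoImplicit false
set_option backward.isDefEq.respectTransparency false
set_option backward.isDefEq.respectTransparency.types false

universe u

namespace Groth.Agent.Lib.Helper27.DivGeo2

open CategoryTheory CategoryTheory.Limits AlgebraicGeometry Opposite
open Groth.Agent.Lib.Helper27.DivGeo1

/-- the generic point as a morphism -/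
noncomputable abbrev jX (X : Scheme.{u}) [IsIntegral X] : Spec X.functionField ⟶ X :=
  X.fromSpecStalk (genericPoint X)

variable {X W : Scheme.{u}} [IsIntegral X] [IsIntegral W] (π : W ⟶ X) [Etale π]

/-- the canonical point of the generic fibre -/
noncomputable def sigma : Spec W.functionField ⟶ pullback π (jX X) :=
  pullback.lift (jX W) (Spec.map (ffMap π)) (SpecMap_ffMap_fromSpecStalk π).symm

@[reassoc (attr := simp)]
lemma sigma_fst : sigma π ≫ pullback.fst π (jX X) = jX W := pullback.lift_fst _ _ _

@[reassoc (attr := simp)]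
lemma sigma_snd : sigma π ≫ pullback.snd π (jX X) = Spec.map (ffMap π) := pullback.lift_snd _ _ _

lemma jX_apply (q : ↥(Spec X.functionField)) : (jX X) q = genericPoint X := by
  have h2 : (jX X) q ∈ Set.range (jX X) := ⟨_, rfl⟩
  rw [Scheme.range_fromSpecStalk] at h2
  exact (Specializes.antisymm h2 ((genericPoint_spec X).specializes trivial)).eq

lemma fst_apply_eq (p : ↥(pullback π (jX X))) :
    (pullback.fst π (jX X)) p = genericPoint W := by
  apply eq_genericPoint_of_map_eq π
  have h1 : π ((pullback.fst π (jX X)) p) = (jX X) ((pullback.snd π (jX X)) p) := by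
    rw [← Scheme.Hom.comp_apply, ← Scheme.Hom.comp_apply, pullback.condition]
  rw [h1, jX_apply]

instance : Subsingleton ↥(pullback π (jX X)) := by
  refine ⟨fun p q => ?_⟩
  apply (pullback.fst π (jX X)).injective
  rw [fst_apply_eq, fst_apply_eq]

instance : Nonempty ↥(pullback π (jX X)) :=
  ⟨(sigma π) (Classical.arbitrary _)⟩

end Groth.Agent.Lib.Helper27.DivGeo2

namespace Groth.Agent.Lib.Helper27.DivGeo2

open CategoryTheory CategoryTheory.Limits AlgebraicGeometry Opposite
open Groth.Agent.Lib.Helper27.DivGeo1

variable {X W : Scheme.{u}} [IsIntegral X] [IsIntegral W] (π : W ⟶ X) [Etale π]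

/-- **The generic fibre is the spectrum of the function field.** -/
theorem isIso_sigma : IsIso (sigma π) := by
  let P := pullback π (jX X)
  haveI : Finite ↥P := Finite.of_subsingleton
  haveI : DiscreteTopology ↥P := inferInstance
  haveI : IsAffine P := inferInstance
  let R : CommRingCat := Γ(P, ⊤)
  let e : P ≅ Spec R := P.isoSpec
  haveI : Subsingleton (PrimeSpectrum R) := e.inv.homeomorph.injective.subsingleton
  haveI : Nonempty (PrimeSpectrum R) := ⟨e.hom (Classical.arbitrary _)⟩
  haveI : Nontrivial R := (PrimeSpectrum.nonempty_iff_nontrivial).1 inferInstance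
  haveI : Subsingleton (MaximalSpectrum R) :=
    MaximalSpectrum.toPrimeSpectrum_injective.subsingleton
  haveI : IsLocalRing R := .of_singleton_maximalSpectrum
  let f' : Spec R ⟶ W := e.inv ≫ pullback.fst π (jX X)
  have hpt : f' (IsLocalRing.closedPoint R) = genericPoint W := fst_apply_eq π _
  obtain ⟨ρ, hρ⟩ : ∃ ρ : Spec R ⟶ Spec W.functionField, ρ ≫ jX W = f' := by
    have key : ∀ (w : W) (_ : w = genericPoint W) (ρ' : Spec R ⟶ Spec (W.presheaf.stalk w))
        (_ : ρ' ≫ W.fromSpecStalk w = f'),
        ∃ ρ : Spec R ⟶ Spec W.functionField, ρ ≫ jX W = f' := by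
      intro w hw
      subst hw
      intro ρ' h
      exact ⟨ρ', h⟩
    exact key _ hpt _ (Scheme.Spec_stalkClosedPointTo_fromSpecStalk f')
  refine ⟨e.hom ≫ ρ, ?_, ?_⟩
  · rw [← cancel_mono (jX W), Category.assoc, Category.assoc, hρ, Category.id_comp]
    change sigma π ≫ e.hom ≫ e.inv ≫ pullback.fst π (jX X) = _
    rw [Iso.hom_inv_id_assoc, sigma_fst]
  · rw [← cancel_mono (pullback.fst π (jX X)), Category.assoc, Category.assoc, sigma_fst, hρ,
      Category.id_comp]
    change e.hom ≫ e.inv ≫ pullback.fst π (jX X) = _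
    rw [Iso.hom_inv_id_assoc]

end Groth.Agent.Lib.Helper27.DivGeo2
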