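import Mathlib
import Groth.Prelude.Def_EtBase
import Groth.Prelude.Def_EtGm
import Groth.Prelude.Def_EtLim

/-!
# Sections of `G_m` as units
-/

set_option autoImplicit false
set_option backward.isDefEq.respectTransparency false
set_option backward.isDefEq.respectTransparency.types false

universe u

namespace Groth.Agent.Lib.Helper27.DivGm

open CategoryTheory CategoryTheory.Limits AlgebraicGeometry Opposite

variable {Y : Scheme.{u}}

/-- sections of `G_m` as units -/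
noncomputable def gmU (V : Y.Etale) (s : (EtCoh.Gm Y).obj.obj (op V)) : (Γ(V.left, ⊤))ˣ :=
  Additive.toMul (show ULift.{u + 1} (Additive (Γ(V.left, ⊤))ˣ) from s).down

/-- units as sections of `G_m` -/
noncomputable def gmMk (V : Y.Etale) (v : (Γ(V.left, ⊤))ˣ) : (EtCoh.Gm Y).obj.obj (op V) :=
  (ULift.up (Additive.ofMul v) : ULift.{u + 1} (Additive (Γ(V.left, ⊤))ˣ))

@[simp] lemma gmU_gmMk (V : Y.Etale) (v : (Γ(V.left, ⊤))ˣ) : gmU V (gmMk V v) = v := rfl

@[simp] lemma gmMk_gmU (V : Y.Etale) (s : (EtCoh.Gm Y).obj.obj (op V)) : gmMk V (gmU V s) = s := rfl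

lemma gmU_injective (V : Y.Etale) : Function.Injective (gmU (Y := Y) V) := by
  intro s t h
  rw [← gmMk_gmU V s, ← gmMk_gmU V t, h]

lemma gmU_add (V : Y.Etale) (s t : (EtCoh.Gm Y).obj.obj (op V)) :
    gmU V (s + t) = gmU V s * gmU V t := rfl

@[simp] lemma gmU_zero (V : Y.Etale) : gmU V (0 : (EtCoh.Gm Y).obj.obj (op V)) = 1 := rfl

lemma gmU_neg (V : Y.Etale) (s : (EtCoh.Gm Y).obj.obj (op V)) :
    gmU V (-s) = (gmU V s)⁻¹ := rfl

lemma gmU_eq_one_iff (V : Y.Etale) (s : (EtCoh.Gm Y).obj.obj (op V)) : gmU V s = 1 ↔ s = 0 := by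
  constructor
  · intro h
    apply gmU_injective V
    rw [h, gmU_zero]
  · rintro rfl
    rfl

lemma gmU_map {V V' : Y.Etale} (g : V' ⟶ V) (s : (EtCoh.Gm Y).obj.obj (op V)) :
    gmU V' ((EtCoh.Gm Y).obj.map g.op s) = Units.map (g.left.appTop.hom : _ →* _) (gmU V s) := rfl

/-- the projection `V ×_Y X' ⟶ V` -/
noncomputable def bcFst {X' : Scheme.{u}} (u : X' ⟶ Y) (V : Y.Etale) :
    ((EtCoh.bc u).obj V).left ⟶ V.left := pullback.fst V.hom u

/-- the projection `V ×_Y X' ⟶ X'` -/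
noncomputable def bcSnd {X' : Scheme.{u}} (u : X' ⟶ Y) (V : Y.Etale) :
    ((EtCoh.bc u).obj V).left ⟶ X' := pullback.snd V.hom u

lemma bcFst_map {X' : Scheme.{u}} (u : X' ⟶ Y) {V V' : Y.Etale} (g : V' ⟶ V) :
    ((EtCoh.bc u).map g).left ≫ bcFst u V = bcFst u V' ≫ g.left :=
  (EtLim.bcProj u).naturality g

lemma gmU_GmPush {X' : Scheme.{u}} (u : X' ⟶ Y) (V : Y.Etale) (s : (EtCoh.Gm Y).obj.obj (op V)) :
    gmU ((EtCoh.bc u).obj V) ((EtLim.GmPush u).hom.app (op V) s) =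
      Units.map ((bcFst u V).appTop.hom : _ →* _) (gmU V s) := rfl

/-- sections of the pushforward of `G_m` -/
lemma push_obj {X' : Scheme.{u}} (u : X' ⟶ Y) (V : Y.Etale) :
    ((EtCoh.push u).obj (EtCoh.Gm X')).obj.obj (op V) =
      (EtCoh.Gm X').obj.obj (op ((EtCoh.bc u).obj V)) := rfl

lemma push_map {X' : Scheme.{u}} (u : X' ⟶ Y) {V V' : Y.Etale} (g : V' ⟶ V)
    (s : ((EtCoh.push u).obj (EtCoh.Gm X')).obj.obj (op V)) :
    ((EtCoh.push u).obj (EtCoh.Gm X')).obj.map g.op s =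
      (EtCoh.Gm X').obj.map ((EtCoh.bc u).map g).op s := rfl

lemma bc_left {X' : Scheme.{u}} (u : X' ⟶ Y) (V : Y.Etale) :
    ((EtCoh.bc u).obj V).left = pullback V.hom u := rfl

end Groth.Agent.Lib.Helper27.DivGm
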