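import Mathlib
import Groth.Prelude.Def_EtBase
import Groth.Agent.Lib.Helper27.DivGeo2
import Groth.Agent.Lib.Helper27.DivGm

/-!
# Sections of `j_* G_m` over an integral étale scheme are the nonzero rational functions
-/

set_option autoImplicit false
set_option backward.isDefEq.respectTransparency false
set_option backward.isDefEq.respectTransparency.types false

universe u

namespace Groth.Agent.Lib.Helper27.DivGeo3

open CategoryTheory CategoryTheory.Limits AlgebraicGeometry Opposite
open Groth.Agent.Lib.Helper27.DivGeo1 Groth.Agent.Lib.Helper27.DivGeo2 Groth.Agent.Lib.Helper27.DivGm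

variable {X : Scheme.{u}} [IsIntegral X]

/-- the sheaf `j_* G_m` for the generic point `j` -/
noncomputable abbrev BX (X : Scheme.{u}) [IsIntegral X] : EtCoh.Ab X :=
  (EtCoh.push (jX X)).obj (EtCoh.Gm (Spec X.functionField))

/-- the structure morphism, with simplified types -/
abbrev homX (W : X.Etale) : W.left ⟶ X := W.hom

instance (W : X.Etale) : Etale (homX W) := W.prop

section

variable (W : X.Etale) [IsIntegral W.left]

/-- the generic fibre of `W` -/
noncomputable abbrev WK : (Spec X.functionField).Etale := (EtCoh.bc (jX X)).obj W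

/-- the canonical point of the generic fibre, with the site-theoretic source -/
noncomputable def sig : Spec W.left.functionField ⟶ (WK W).left := sigma (homX W)

instance : IsIso (sig W) := isIso_sigma (homX W)

lemma sig_bcFst : sig W ≫ bcFst (jX X) W = jX W.left := sigma_fst (homX W)

lemma sig_bcSnd : sig W ≫ bcSnd (jX X) W = Spec.map (ffMap (homX W)) := sigma_snd (homX W)

/-- the ring isomorphism `Γ(W_K) ≅ K(W)` -/
noncomputable def kapRing : Γ((WK W).left, ⊤) →+* W.left.functionField :=
  ((sig W).appTop ≫ (Scheme.ΓSpecIso W.left.functionField).hom).hom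

lemma kapRing_bijective : Function.Bijective (kapRing W) :=
  ConcreteCategory.bijective_of_isIso ((sig W).appTop ≫ (Scheme.ΓSpecIso W.left.functionField).hom)

/-- sections of `j_* G_m` over `W` as nonzero rational functions -/
noncomputable def kap (s : (BX X).obj.obj (op W)) : (W.left.functionField)ˣ :=
  Units.map (kapRing W : _ →* _) (gmU (WK W) s)

lemma kap_add (s t : (BX X).obj.obj (op W)) : kap W (s + t) = kap W s * kap W t := by
  change Units.map _ (gmU (WK W) s * gmU (WK W) t) = _
  rw [map_mul]
  rfl

lemma kap_zero : kap W (0 : (BX X).obj.obj (op W)) = 1 := by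
  change Units.map _ (1 : (Γ((WK W).left, ⊤))ˣ) = _
  rw [map_one]

lemma kap_injective : Function.Injective (kap W) := by
  intro s t h
  apply gmU_injective (WK W)
  apply Units.ext
  apply (kapRing_bijective W).1
  exact congrArg Units.val h

lemma kap_surjective : Function.Surjective (kap W) := by
  intro v
  obtain ⟨a, ha⟩ := (kapRing_bijective W).2 (v : W.left.functionField)
  obtain ⟨b, hb⟩ := (kapRing_bijective W).2 ((v⁻¹ : (W.left.functionField)ˣ) : W.left.functionField)
  have hab : a * b = 1 := by
    apply (kapRing_bijective W).1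
    rw [map_mul, ha, hb, map_one, Units.mul_inv]
  refine ⟨gmMk (WK W) ⟨a, b, hab, by rw [mul_comm]; exact hab⟩, ?_⟩
  apply Units.ext
  exact ha

end

end Groth.Agent.Lib.Helper27.DivGeo3

namespace Groth.Agent.Lib.Helper27.DivGeo3

open CategoryTheory CategoryTheory.Limits AlgebraicGeometry Opposite
open Groth.Agent.Lib.Helper27.DivGeo1 Groth.Agent.Lib.Helper27.DivGeo2 Groth.Agent.Lib.Helper27.DivGm

variable {X : Scheme.{u}} [IsIntegral X]

section Nat

variable {V W : X.Etale} [IsIntegral V.left] [IsIntegral W.left] (h : V ⟶ W)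

lemma bcSnd_map : ((EtCoh.bc (jX X)).map h).left ≫ bcSnd (jX X) W = bcSnd (jX X) V :=
  Over.w ((EtCoh.bc (jX X)).map h).hom

lemma homX_comp : h.left ≫ homX W = homX V := Over.w h.hom

lemma sig_map : sig V ≫ ((EtCoh.bc (jX X)).map h).left = Spec.map (ffMap h.left) ≫ sig W := by
  apply pullback.hom_ext
  · change (sig V ≫ ((EtCoh.bc (jX X)).map h).left) ≫ bcFst (jX X) W =
      (Spec.map (ffMap h.left) ≫ sig W) ≫ bcFst (jX X) W
    rw [Category.assoc, Category.assoc, bcFst_map, ← Category.assoc, sig_bcFst, sig_bcFst,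
      SpecMap_ffMap_fromSpecStalk]
  · change (sig V ≫ ((EtCoh.bc (jX X)).map h).left) ≫ bcSnd (jX X) W =
      (Spec.map (ffMap h.left) ≫ sig W) ≫ bcSnd (jX X) W
    rw [Category.assoc, Category.assoc, bcSnd_map, sig_bcSnd, sig_bcSnd, ← Spec.map_comp,
      ← ffMap_comp]
    congr 2
    exact (homX_comp h).symm

lemma kapRing_map (a : Γ((WK W).left, ⊤)) :
    kapRing V (((EtCoh.bc (jX X)).map h).left.appTop.hom a) = (ffMap h.left).hom (kapRing W a) := by
  have h1 : ((EtCoh.bc (jX X)).map h).left.appTop ≫ (sig V).appTop ≫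
      (Scheme.ΓSpecIso V.left.functionField).hom =
      ((sig W).appTop ≫ (Scheme.ΓSpecIso W.left.functionField).hom) ≫ ffMap h.left := by
    rw [← Category.assoc, ← Scheme.Hom.comp_appTop, sig_map, Scheme.Hom.comp_appTop,
      Category.assoc, Category.assoc, Scheme.ΓSpecIso_naturality]
  exact congrArg (fun k => k.hom a) h1

lemma kap_map (s : (BX X).obj.obj (op W)) :
    kap V ((BX X).obj.map h.op s) = Units.map ((ffMap h.left).hom : _ →* _) (kap W s) := by
  apply Units.ext
  exact kapRing_map h _

end Nat

section Unit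

variable (W : X.Etale) [IsIntegral W.left]

lemma kapRing_bcFst (a : Γ(W.left, ⊤)) :
    kapRing W ((bcFst (jX X) W).appTop.hom a) =
      (W.left.presheaf.germ ⊤ (genericPoint W.left) trivial).hom a := by
  have h1 : (bcFst (jX X) W).appTop ≫ (sig W).appTop ≫
      (Scheme.ΓSpecIso W.left.functionField).hom =
      W.left.presheaf.germ ⊤ (genericPoint W.left) trivial := by
    rw [← Category.assoc, ← Scheme.Hom.comp_appTop, sig_bcFst, Scheme.fromSpecStalk_appTop]
    simp
  exact congrArg (fun k => k.hom a) h1

lemma kap_GmPush (t : (EtCoh.Gm X).obj.obj (op W)) :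
    kap W ((EtLim.GmPush (jX X)).hom.app (op W) t) =
      Units.map ((W.left.presheaf.germ ⊤ (genericPoint W.left) trivial).hom : _ →* _)
        (gmU W t) := by
  apply Units.ext
  exact kapRing_bcFst W _

end Unit

end Groth.Agent.Lib.Helper27.DivGeo3
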