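import Mathlib
import Groth.Prelude.Def_EtBase
import Groth.Agent.Lib.Helper27.DivGeo1
import Groth.Agent.Lib.Helper13.CDivFact

/-!
# Orders of vanishing are preserved by étale morphisms
-/

set_option autoImplicit false
set_option backward.isDefEq.respectTransparency false
set_option backward.isDefEq.respectTransparency.types false

universe u

namespace Groth.Agent.Lib.Helper27.DivOrd

open CategoryTheory CategoryTheory.Limits AlgebraicGeometry Opposite IsLocalRing

section Alg

variable {R S : Type*} [CommRing R] [CommRing S] [IsDomain R] [IsDomain S]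
  [IsDiscreteValuationRing R] [IsDiscreteValuationRing S] (φ : R →+* S)
  (hφ : (maximalIdeal R).map φ = maximalIdeal S)

include hφ in
lemma addVal_map (a : R) (ha : a ≠ 0) :
    IsDiscreteValuationRing.addVal S (φ a) = IsDiscreteValuationRing.addVal R a := by
  obtain ⟨ϖ, hϖ⟩ := IsDiscreteValuationRing.exists_irreducible R
  obtain ⟨n, w, rfl⟩ := IsDiscreteValuationRing.eq_unit_mul_pow_irreducible ha hϖ
  have hϖ' : Irreducible (φ ϖ) := by
    rw [IsDiscreteValuationRing.irreducible_iff_uniformizer, ← hφ, hϖ.maximalIdeal_eq,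
      Ideal.map_span, Set.image_singleton]
  rw [IsDiscreteValuationRing.addVal_def' w hϖ n, map_mul, map_pow]
  exact IsDiscreteValuationRing.addVal_def' (Units.map (φ : R →* S) w) hϖ' n

variable {K L : Type*} [Field K] [Field L] [Algebra R K] [Algebra S L] [IsFractionRing R K]
  [IsFractionRing S L] (ψ : K →+* L)
  (hψ : ∀ a : R, ψ (algebraMap R K a) = algebraMap S L (φ a))

include hφ hψ in
theorem ordFrac_map (f : K) : Ring.ordFrac S (ψ f) = Ring.ordFrac R f := by
  have hinj : ∀ a : R, a ≠ 0 → φ a ≠ 0 := by
    intro a ha h0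
    have h1 : ψ (algebraMap R K a) = 0 := by rw [hψ, h0, map_zero]
    rw [map_eq_zero, map_eq_zero_iff _ (IsFractionRing.injective R K)] at h1
    exact ha h1
  have key : ∀ a : R, a ≠ 0 →
      Ring.ordFrac S (ψ (algebraMap R K a)) = Ring.ordFrac R (algebraMap R K a) := by
    intro a ha
    rw [hψ, Ring.ordFrac_eq_ord S (hinj a ha), Ring.ordFrac_eq_ord R ha,
      Ring.ordMonoidWithZeroHom_eq_ord (mem_nonZeroDivisors_iff_ne_zero.mpr (hinj a ha)),
      Ring.ordMonoidWithZeroHom_eq_ord (mem_nonZeroDivisors_iff_ne_zero.mpr ha),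
      Ring.ord_eq_addVal, Ring.ord_eq_addVal, addVal_map φ hφ a ha]
  obtain ⟨a, b, hb, rfl⟩ := IsFractionRing.div_surjective (A := R) f
  have hb0 : b ≠ 0 := nonZeroDivisors.ne_zero hb
  by_cases ha : a = 0
  · subst ha
    simp
  · rw [map_div₀, map_div₀, map_div₀, key a ha, key b hb0]

end Alg

end Groth.Agent.Lib.Helper27.DivOrd

namespace Groth.Agent.Lib.Helper27.DivOrd

open CategoryTheory CategoryTheory.Limits AlgebraicGeometry Opposite IsLocalRing
open Groth.Agent.Lib.Helper27.DivGeo1

variable {V W : Scheme.{u}} [IsIntegral V] [IsIntegral W] [IsLocallyNoetherian V]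
  [IsLocallyNoetherian W] (h : V ⟶ W) [Etale h]

lemma ffMap_algebraMap (v : V) (a : W.presheaf.stalk (h v)) :
    (ffMap h).hom (algebraMap (W.presheaf.stalk (h v)) W.functionField a) =
      algebraMap (V.presheaf.stalk v) V.functionField ((h.stalkMap v).hom a) := by
  have hs : genericPoint V ⤳ v := (genericPoint_spec V).specializes trivial
  have h1 := Scheme.Hom.stalkSpecializes_stalkMap_apply h (genericPoint V) v hs a
  change (h.stalkMap (genericPoint V)).hom ((W.presheaf.stalkSpecializes _).hom
    ((W.presheaf.stalkSpecializes _).hom a)) = (V.presheaf.stalkSpecializes hs).hom _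
  rw [← h1]
  congr 1
  have h2 := TopCat.Presheaf.stalkSpecializes_comp W.presheaf
    (specializes_of_eq (map_genericPoint h))
    ((genericPoint_spec W).specializes trivial : genericPoint W ⤳ h v)
  exact congrArg (fun k => k.hom a) h2

lemma map_maximalIdeal_stalkMap (v : V) :
    (maximalIdeal (W.presheaf.stalk (h v))).map (h.stalkMap v).hom =
      maximalIdeal (V.presheaf.stalk v) := by
  algebraize [(h.stalkMap v).hom]
  have : IsLocalHom (algebraMap (W.presheaf.stalk (h v)) (V.presheaf.stalk v)) :=
    inferInstanceAs <| IsLocalHom (h.stalkMap v).hom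
  have : Algebra.EssFiniteType (W.presheaf.stalk (h v)) (V.presheaf.stalk v) := by
    rw [← RingHom.essFiniteType_algebraMap, RingHom.algebraMap_toAlgebra]
    exact LocallyOfFiniteType.stalkMap h v
  have : Algebra.FormallyUnramified (W.presheaf.stalk (h v)) (V.presheaf.stalk v) := by
    rw [← RingHom.formallyUnramified_algebraMap, RingHom.algebraMap_toAlgebra]
    exact FormallyUnramified.stalkMap h v
  exact Algebra.FormallyUnramified.map_maximalIdeal

/-- **étale morphisms preserve orders of vanishing** -/
theorem ord_ffMap (v : V) (hnV : IsIntegrallyClosed (V.presheaf.stalk v))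
    (hnW : IsIntegrallyClosed (W.presheaf.stalk (h v))) (f : W.functionField) :
    Scheme.ord ((ffMap h).hom f) v = Scheme.ord f (h v) := by
  by_cases hv : Order.coheight v = 1
  · have hw : Order.coheight (h v) = 1 := by rw [coheight_eq_of_etale]; exact hv
    haveI := Groth.Agent.Lib.Helper13.CDivLib.isDiscreteValuationRing_of_coheight_eq_one v hnV hv
    haveI := Groth.Agent.Lib.Helper13.CDivLib.isDiscreteValuationRing_of_coheight_eq_one (h v) hnW hw
    rw [Scheme.ord_eq_ordHom_of_coheight_eq_one hv, Scheme.ord_eq_ordHom_of_coheight_eq_one hw]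
    congr 2
    haveI : Ring.KrullDimLE 1 (V.presheaf.stalk v) := krullDimLE_of_coheight_le hv.le
    haveI : Ring.KrullDimLE 1 (W.presheaf.stalk (h v)) := krullDimLE_of_coheight_le hw.le
    exact ordFrac_map (h.stalkMap v).hom (map_maximalIdeal_stalkMap h v) (ffMap h).hom
      (ffMap_algebraMap h v) f
  · have hw : Order.coheight (h v) ≠ 1 := by rw [coheight_eq_of_etale]; exact hv
    rw [Scheme.ord_eq_zero_of_coheight_neq_one hv, Scheme.ord_eq_zero_of_coheight_neq_one hw]

end Groth.Agent.Lib.Helper27.DivOrd
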