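import Mathlib
import Groth.Prelude.Def_EtBase
import Groth.Agent.Lib.Helper27.DivGeo3
import Groth.Agent.Lib.Helper27.DivOrd
import Groth.Agent.Lib.Helper12.CplEtaleB
import Groth.Agent.Lib.Helper13.IntegralNhd
import Groth.Agent.Lib.Helper23.LCSheaf

/-!
# The order maps `j_* G_m ⟶ i_{x*} ℤ`
-/

set_option autoImplicit false
set_option backward.isDefEq.respectTransparency false
set_option backward.isDefEq.respectTransparency.types false

universe u

namespace Groth.Agent.Lib.Helper27.DivGeo4

open CategoryTheory CategoryTheory.Limits AlgebraicGeometry Opposite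
open Groth.Agent.Lib.Helper27.DivGeo1 Groth.Agent.Lib.Helper27.DivGeo2 Groth.Agent.Lib.Helper27.DivGm
  Groth.Agent.Lib.Helper27.DivGeo3 Groth.Agent.Lib.Helper23

variable {X : Scheme.{u}}

/-- the point `x` as a morphism -/
noncomputable abbrev iX (x : X) : Spec (X.residueField x) ⟶ X := X.fromSpecResidueField x

/-- the sheaf `i_{x*} ℤ`, in the model of locally constant functions -/
noncomputable abbrev CL (x : X) : EtCoh.Ab X :=
  (EtCoh.push (iX x)).obj (LCSheaf.LC (Spec (X.residueField x)) ℤ)

/-- the fibre of `W` over `x` -/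
noncomputable abbrev Wx (x : X) (W : X.Etale) : (Spec (X.residueField x)).Etale :=
  (EtCoh.bc (iX x)).obj W

instance (x : X) (W : X.Etale) : Etale (bcSnd (iX x) W) :=
  inferInstanceAs (Etale (pullback.snd (homX W) (iX x)))

instance (x : X) (W : X.Etale) : DiscreteTopology (Wx x W).left :=
  Groth.Agent.Lib.Helper12.CplEtale.discreteTopology_of_etale_subsingleton (bcSnd (iX x) W)

lemma CL_obj (x : X) (W : X.Etale) :
    (CL x).obj.obj (op W) = AddCommGrpCat.of (ULift.{u + 1} (LocallyConstant (Wx x W).left ℤ)) := rfl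

lemma CL_map_apply (x : X) {V W : X.Etale} (h : V ⟶ W)
    (s : ULift.{u + 1} (LocallyConstant (Wx x W).left ℤ)) (q : (Wx x V).left) :
    (((CL x).obj.map h.op) s : ULift.{u + 1} (LocallyConstant (Wx x V).left ℤ)).down q =
      s.down (((EtCoh.bc (iX x)).map h).left q) := rfl

end Groth.Agent.Lib.Helper27.DivGeo4

namespace Groth.Agent.Lib.Helper27.DivGeo4

open CategoryTheory CategoryTheory.Limits AlgebraicGeometry Opposite
open Groth.Agent.Lib.Helper27.DivGeo1 Groth.Agent.Lib.Helper27.DivGeo2 Groth.Agent.Lib.Helper27.DivGm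
  Groth.Agent.Lib.Helper27.DivGeo3 Groth.Agent.Lib.Helper23

variable {X : Scheme.{u}} [IsIntegral X] [IsLocallyNoetherian X]

instance (W : X.Etale) : IsLocallyNoetherian W.left :=
  LocallyOfFiniteType.isLocallyNoetherian (homX W)

section

variable (x : X) (W : X.Etale) [IsIntegral W.left]

/-- the orders of a rational function at the points of the fibre over `x` -/
noncomputable def ordFun (f : W.left.functionField) : LocallyConstant (Wx x W).left ℤ :=
  ⟨fun p => Scheme.ord f (bcFst (iX x) W p), IsLocallyConstant.of_discrete _⟩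

lemma ordFun_apply (f : W.left.functionField) (p : (Wx x W).left) :
    ordFun x W f p = Scheme.ord f (bcFst (iX x) W p) := rfl

lemma ordFun_mul (f g : W.left.functionField) (hf : f ≠ 0) (hg : g ≠ 0) :
    ordFun x W (f * g) = ordFun x W f + ordFun x W g := by
  ext p
  exact Scheme.ord_mul hf hg

/-- the order map on sections over an integral étale scheme -/
noncomputable def alphaApp :
    (BX X).obj.obj (op W) →+ ULift.{u + 1} (LocallyConstant (Wx x W).left ℤ) :=
  AddMonoidHom.mk' (fun s => ULift.up (ordFun x W (kap W s : W.left.functionField))) (by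
    intro s t
    rw [kap_add, Units.val_mul, ordFun_mul x W _ _ (Units.ne_zero _) (Units.ne_zero _)]
    rfl)

lemma alphaApp_apply (s : (BX X).obj.obj (op W)) (p : (Wx x W).left) :
    (alphaApp x W s).down p = Scheme.ord (kap W s : W.left.functionField) (bcFst (iX x) W p) := rfl

end

/-- integral étale schemes -/
def IntObj (X : Scheme.{u}) : ObjectProperty X.Etale := fun W => IsIntegral W.left

/-- the category of integral étale `X`-schemes -/
abbrev IntEt (X : Scheme.{u}) := (IntObj X).FullSubcategory

/-- the inclusion -/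
abbrev inc (X : Scheme.{u}) : IntEt X ⥤ X.Etale := (IntObj X).ι

instance (W : IntEt X) : IsIntegral W.obj.left := W.property

variable (hn : ∀ (U : X.Etale) (u : U.left), IsIntegrallyClosed (U.left.presheaf.stalk u))

include hn in
lemma alphaApp_naturality (x : X) {V W : X.Etale} [IsIntegral V.left] [IsIntegral W.left]
    (h : V ⟶ W) (s : (BX X).obj.obj (op W)) :
    alphaApp x V ((BX X).obj.map h.op s) = (CL x).obj.map h.op (alphaApp x W s) := by
  apply ULift.ext
  apply LocallyConstant.ext
  intro q
  rw [alphaApp_apply, kap_map, Units.coe_map]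
  change Scheme.ord ((ffMap h.left).hom _) _ = _
  rw [DivOrd.ord_ffMap h.left _ (hn V _) (hn W _)]
  change _ = Scheme.ord (kap W s : W.left.functionField)
    (bcFst (iX x) W (((EtCoh.bc (iX x)).map h).left q))
  congr 1
  have := congrArg (fun k => k q) (congrArg (fun k => k.base) (bcFst_map (iX x) h))
  exact this.symm

/-- the order maps, as a natural transformation on integral étale schemes -/
noncomputable def alphaNat (x : X) :
    (inc X).op ⋙ (BX X).obj ⟶ (inc X).op ⋙ (CL x).obj where
  app W := AddCommGrpCat.ofHom (alphaApp x W.unop.obj)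
  naturality W V h := by
    ext s
    exact alphaApp_naturality hn x h.unop.hom s

end Groth.Agent.Lib.Helper27.DivGeo4

namespace Groth.Agent.Lib.Helper27.DivGeo4

open CategoryTheory CategoryTheory.Limits AlgebraicGeometry Opposite
open Groth.Agent.Lib.Helper27.DivGeo1 Groth.Agent.Lib.Helper27.DivGeo2 Groth.Agent.Lib.Helper27.DivGm
  Groth.Agent.Lib.Helper27.DivGeo3 Groth.Agent.Lib.Helper23

variable {X : Scheme.{u}} [IsIntegral X] [IsLocallyNoetherian X]

/-- integral open neighbourhoods, as objects of the small étale site -/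
lemma exists_integral_nhd (hd : ∀ (U : X.Etale) (u : U.left), IsDomain (U.left.presheaf.stalk u))
    (U : X.Etale) (u : U.left) :
    ∃ O : U.left.Opens, u ∈ O ∧ IsIntegral (EtGlue.opn U O).left := by
  haveI := hd U u
  obtain ⟨O, hu, hO⟩ := Groth.Agent.Lib.Helper13.IntegralNhd.exists_isIntegral_of_isLocallyNoetherian u
  exact ⟨O, hu, hO⟩

lemma isCoverDense_inc (hd : ∀ (U : X.Etale) (u : U.left), IsDomain (U.left.presheaf.stalk u)) :
    (inc X).IsCoverDense X.smallEtaleTopology := by
  constructor
  intro U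
  apply EtGlue.sieve_mem_of_forall_point
  intro u
  obtain ⟨O, hu, hO⟩ := exists_integral_nhd hd U u
  refine ⟨EtGlue.opn U O, EtGlue.opnι U O, ?_, ⟨⟨u, hu⟩, rfl⟩⟩
  exact Presieve.in_coverByImage (inc X) (Y := ⟨EtGlue.opn U O, hO⟩) (EtGlue.opnι U O)

end Groth.Agent.Lib.Helper27.DivGeo4

namespace Groth.Agent.Lib.Helper27.DivGeo4

open CategoryTheory CategoryTheory.Limits AlgebraicGeometry Opposite
open Groth.Agent.Lib.Helper27.DivGeo1 Groth.Agent.Lib.Helper27.DivGeo2 Groth.Agent.Lib.Helper27.DivGm
  Groth.Agent.Lib.Helper27.DivGeo3 Groth.Agent.Lib.Helper23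

variable {X : Scheme.{u}} [IsIntegral X] [IsLocallyNoetherian X]
  (hd : ∀ (U : X.Etale) (u : U.left), IsDomain (U.left.presheaf.stalk u))
  (hn : ∀ (U : X.Etale) (u : U.left), IsIntegrallyClosed (U.left.presheaf.stalk u))

/-- **the order map** `j_* G_m ⟶ i_{x*} ℤ` -/
noncomputable def dX (x : X) : BX X ⟶ CL x :=
  haveI := isCoverDense_inc hd
  ⟨Functor.IsCoverDense.sheafHom (G := inc X) (ℱ := (BX X).obj) (ℱ' := CL x) (alphaNat hn x)⟩

lemma dX_app (x : X) (W : X.Etale) [hW : IsIntegral W.left] (s : (BX X).obj.obj (op W)) :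
    (dX hd hn x).hom.app (op W) s = alphaApp x W s := by
  haveI := isCoverDense_inc hd
  have h := Functor.IsCoverDense.sheafHom_restrict_eq (G := inc X) (ℱ := (BX X).obj)
    (ℱ' := CL x) (alphaNat hn x)
  have h2 := congrArg (fun k => (k.app (op (⟨W, hW⟩ : IntEt X))) s) h
  exact h2

lemma dX_app_apply (x : X) (W : X.Etale) [IsIntegral W.left] (s : (BX X).obj.obj (op W))
    (p : (Wx x W).left) :
    ((dX hd hn x).hom.app (op W) s : ULift.{u + 1} (LocallyConstant (Wx x W).left ℤ)).down p =
      Scheme.ord (kap W s : W.left.functionField) (bcFst (iX x) W p) := by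
  rw [dX_app]
  rfl

end Groth.Agent.Lib.Helper27.DivGeo4
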