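import Mathlib
import Groth.Prelude.Def_EtBase
import Groth.Agent.Lib.Helper27.DivGeo4
import Groth.Agent.Lib.Helper27.DivAL3
import Groth.Agent.Lib.Helper13.CDivFin
import Groth.Agent.Lib.Helper13.NormalSections

/-!
# The divisor sequence: units, local finiteness and the kernel
-/

set_option autoImplicit false
set_option backward.isDefEq.respectTransparency false
set_option backward.isDefEq.respectTransparency.types false

universe u

namespace Groth.Agent.Lib.Helper27.DivGeo5

open CategoryTheory CategoryTheory.Limits AlgebraicGeometry Opposite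
open Groth.Agent.Lib.Helper27.DivGeo1 Groth.Agent.Lib.Helper27.DivGeo2 Groth.Agent.Lib.Helper27.DivGm
  Groth.Agent.Lib.Helper27.DivGeo3 Groth.Agent.Lib.Helper27.DivGeo4 Groth.Agent.Lib.Helper23

variable {X : Scheme.{u}} [IsIntegral X] [IsLocallyNoetherian X]

/-- the unit map `G_m ⟶ j_* G_m` -/
noncomputable abbrev aX (X : Scheme.{u}) [IsIntegral X] : EtCoh.Gm X ⟶ BX X := EtLim.GmPush (jX X)

section Tools

variable (hd : ∀ (U : X.Etale) (u : U.left), IsDomain (U.left.presheaf.stalk u))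

include hd in
/-- integral affine open neighbourhoods -/
lemma exists_integral_affine_nhd (U : X.Etale) (u : U.left) :
    ∃ O : U.left.Opens, u ∈ O ∧ IsAffineOpen O ∧ IsIntegral (EtGlue.opn U O).left := by
  obtain ⟨O₀, hu₀, hO₀⟩ := exists_integral_nhd hd U u
  obtain ⟨_, ⟨O, hO, rfl⟩, hu, hle⟩ :=
    U.left.isBasis_affineOpens.exists_subset_of_mem_open hu₀ O₀.isOpen
  refine ⟨O, hu, hO, ?_⟩
  have hle' : O ≤ O₀ := hle
  haveI : IsIntegral (O₀ : Scheme) := hO₀
  haveI : Nonempty (O : Scheme) := ⟨⟨u, hu⟩⟩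
  exact @isIntegral_of_isOpenImmersion _ _ (U.left.homOfLE hle') _ hO₀ ⟨⟨u, hu⟩⟩

lemma map_kap_GmPush_eq_one_iff (W : X.Etale) [IsIntegral W.left]
    (t : (EtCoh.Gm X).obj.obj (op W)) : (aX X).hom.app (op W) t = 0 ↔ t = 0 := by
  constructor
  · intro h
    have h1 : kap W ((aX X).hom.app (op W) t) = 1 := by rw [h, kap_zero]
    rw [kap_GmPush] at h1
    rw [← gmU_eq_one_iff]
    apply Units.ext
    have h2 := congrArg Units.val h1
    rw [Units.coe_map, Units.val_one] at h2
    have hinj := germ_injective_of_isIntegral (X := W.left) (U := ⊤) (genericPoint W.left) trivial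
    apply hinj
    exact h2.trans (map_one _).symm
  · rintro rfl
    rw [map_zero]

include hd in
/-- `G_m ⟶ j_* G_m` is injective on sections -/
theorem aX_injective (U : X.Etale) (t : (EtCoh.Gm X).obj.obj (op U))
    (h : (aX X).hom.app (op U) t = 0) : t = 0 := by
  apply EtSupp.eq_of_cover (EtCoh.Gm X) U t 0
  intro u
  obtain ⟨O, hu, -, hO⟩ := exists_integral_affine_nhd hd U u
  refine ⟨EtGlue.opn U O, EtGlue.opnι U O, ⟨⟨u, hu⟩, rfl⟩, ?_⟩
  rw [map_zero]
  haveI := hO
  rw [← map_kap_GmPush_eq_one_iff, DivAL3.nat_apply, h, map_zero]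

end Tools

end Groth.Agent.Lib.Helper27.DivGeo5

namespace Groth.Agent.Lib.Helper27.DivGeo5

open CategoryTheory CategoryTheory.Limits AlgebraicGeometry Opposite
open Groth.Agent.Lib.Helper27.DivGeo1 Groth.Agent.Lib.Helper27.DivGeo2 Groth.Agent.Lib.Helper27.DivGm
  Groth.Agent.Lib.Helper27.DivGeo3 Groth.Agent.Lib.Helper27.DivGeo4 Groth.Agent.Lib.Helper23

variable {X : Scheme.{u}}

section Points

variable (x : X) (W : X.Etale)

lemma homX_bcFst (p : (Wx x W).left) : (homX W) (bcFst (iX x) W p) = x := by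
  have h1 : bcFst (iX x) W ≫ homX W = bcSnd (iX x) W ≫ iX x := pullback.condition
  have h2 := congrArg (fun k => k p) (congrArg (fun k => k.base) h1)
  change (bcFst (iX x) W ≫ homX W) p = (bcSnd (iX x) W ≫ iX x) p at h2
  rw [Scheme.Hom.comp_apply, Scheme.Hom.comp_apply, Scheme.fromSpecResidueField_apply] at h2
  exact h2

lemma exists_point_over (z : W.left) (hz : (homX W) z = x) :
    ∃ p : (Wx x W).left, bcFst (iX x) W p = z := by
  obtain ⟨p, hp, -⟩ := Scheme.Pullback.exists_preimage_pullback (f := homX W) (g := iX x)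
    z default (by rw [hz, Scheme.fromSpecResidueField_apply])
  exact ⟨p, hp⟩

lemma bcFst_injective : Function.Injective (bcFst (iX x) W) := by
  haveI : Mono (bcFst (iX x) W) := inferInstanceAs (Mono (pullback.fst (homX W) (iX x)))
  exact (bcFst (iX x) W).injective

end Points

end Groth.Agent.Lib.Helper27.DivGeo5

namespace Groth.Agent.Lib.Helper27.DivGeo5

open CategoryTheory CategoryTheory.Limits AlgebraicGeometry Opposite
open Groth.Agent.Lib.Helper27.DivGeo1 Groth.Agent.Lib.Helper27.DivGeo2 Groth.Agent.Lib.Helper27.DivGm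
  Groth.Agent.Lib.Helper27.DivGeo3 Groth.Agent.Lib.Helper27.DivGeo4 Groth.Agent.Lib.Helper23

variable {X : Scheme.{u}} [IsIntegral X] [IsLocallyNoetherian X]
  (hd : ∀ (U : X.Etale) (u : U.left), IsDomain (U.left.presheaf.stalk u))
  (hn : ∀ (U : X.Etale) (u : U.left), IsIntegrallyClosed (U.left.presheaf.stalk u))

lemma down_zero (x : X) (W : X.Etale) (p : (Wx x W).left) :
    ((0 : (CL x).obj.obj (op W)) : ULift.{u + 1} (LocallyConstant (Wx x W).left ℤ)).down p = 0 :=
  rfl

omit [IsIntegral X] [IsLocallyNoetherian X] in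
lemma ord_germ_unit (W : Scheme.{u}) [IsIntegral W] [IsLocallyNoetherian W] (v : (Γ(W, ⊤))ˣ)
    (z : W) : Scheme.ord ((W.presheaf.germ ⊤ (genericPoint W) trivial).hom (v : Γ(W, ⊤))) z = 0 := by
  exact @Scheme.ord_of_isUnit W _ _ ⊤ ⟨⟨genericPoint W, trivial⟩⟩ _ v.isUnit z trivial

/-- units have order zero -/
theorem aX_dX (x : X) : aX X ≫ dX hd hn x = 0 := by
  apply Sheaf.hom_ext
  ext U t
  obtain ⟨U⟩ := U
  change (dX hd hn x).hom.app (op U) ((aX X).hom.app (op U) t) = 0
  apply EtSupp.eq_of_cover (CL x) U _ 0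
  intro u
  obtain ⟨O, hu, -, hO⟩ := exists_integral_affine_nhd hd U u
  refine ⟨EtGlue.opn U O, EtGlue.opnι U O, ⟨⟨u, hu⟩, rfl⟩, ?_⟩
  rw [map_zero, ← DivAL3.nat_apply, ← DivAL3.nat_apply]
  haveI := hO
  apply ULift.ext
  apply LocallyConstant.ext
  intro p
  rw [dX_app_apply, kap_GmPush, down_zero]
  exact ord_germ_unit _ _ _

end Groth.Agent.Lib.Helper27.DivGeo5

namespace Groth.Agent.Lib.Helper27.DivGeo5

open CategoryTheory CategoryTheory.Limits AlgebraicGeometry Opposite
open Groth.Agent.Lib.Helper27.DivGeo1 Groth.Agent.Lib.Helper27.DivGeo2 Groth.Agent.Lib.Helper27.DivGm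
  Groth.Agent.Lib.Helper27.DivGeo3 Groth.Agent.Lib.Helper27.DivGeo4 Groth.Agent.Lib.Helper23

variable {X : Scheme.{u}} [IsIntegral X] [IsLocallyNoetherian X]
  (hd : ∀ (U : X.Etale) (u : U.left), IsDomain (U.left.presheaf.stalk u))
  (hn : ∀ (U : X.Etale) (u : U.left), IsIntegrallyClosed (U.left.presheaf.stalk u))

/-- the points of codimension one -/
abbrev Idx (X : Scheme.{u}) := {x : X // ringKrullDim (X.presheaf.stalk x) = 1}

omit [IsIntegral X] [IsLocallyNoetherian X] in
/-- a rational function on a quasi-compact integral scheme has finitely many zeros and poles -/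
lemma finite_ord_ne_zero (W : Scheme.{u}) [IsIntegral W] [IsLocallyNoetherian W] [CompactSpace W]
    (f : W.functionField) (hf : f ≠ 0) :
    {ξ : W | Order.coheight ξ = 1 ∧ Scheme.ord f ξ ≠ 0}.Finite := by
  have h1 := Groth.Agent.Lib.Helper13.CDivLib.locallyFinite_ord_ne_zero f hf
  have h2 := h1.finite_nonempty_of_compact
  have h3 : {i : {ξ : W // Order.coheight ξ = 1 ∧ Scheme.ord f ξ ≠ 0} |
      (closure ({i.1} : Set W)).Nonempty} = Set.univ := by
    ext i
    simp only [Set.mem_ofPred_eq, Set.mem_univ, iff_true]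
    exact ⟨i.1, subset_closure rfl⟩
  rw [h3, Set.finite_univ_iff] at h2
  exact Set.finite_coe_iff.mp h2

lemma exists_down_ne_zero (x : X) (W : X.Etale) (r : (CL x).obj.obj (op W)) (hr : r ≠ 0) :
    ∃ p : (Wx x W).left, (r : ULift.{u + 1} (LocallyConstant (Wx x W).left ℤ)).down p ≠ 0 := by
  by_contra hcon
  simp only [not_exists, not_not] at hcon
  apply hr
  apply ULift.ext
  apply LocallyConstant.ext
  intro p
  exact hcon p

/-- **local finiteness of the divisor** -/
theorem locally_finite (U : X.Etale) (s : (BX X).obj.obj (op U)) (u : U.left) :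
    ∃ (V : X.Etale) (g : V ⟶ U), u ∈ Set.range g.left ∧
      {x : Idx X | (dX hd hn x.1).hom.app (op V) ((BX X).obj.map g.op s) ≠ 0}.Finite := by
  obtain ⟨O, hu, hOaff, hO⟩ := exists_integral_affine_nhd hd U u
  refine ⟨EtGlue.opn U O, EtGlue.opnι U O, ⟨⟨u, hu⟩, rfl⟩, ?_⟩
  haveI := hO
  haveI : IsAffine (EtGlue.opn U O).left := hOaff
  set W := EtGlue.opn U O
  set s' := (BX X).obj.map (EtGlue.opnι U O).op s
  have hfin := finite_ord_ne_zero W.left (kap W s' : W.left.functionField) (Units.ne_zero _)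
  refine ((hfin.image (homX W)).preimage (Subtype.val_injective.injOn)).subset ?_
  intro x hx
  obtain ⟨p, hp⟩ := exists_down_ne_zero x.1 W _ hx
  rw [dX_app_apply] at hp
  refine ⟨bcFst (iX x.1) W p, ⟨?_, hp⟩, homX_bcFst x.1 W p⟩
  by_contra hco
  exact hp (Scheme.ord_eq_zero_of_coheight_neq_one hco _)

end Groth.Agent.Lib.Helper27.DivGeo5

namespace Groth.Agent.Lib.Helper27.DivGeo5

open CategoryTheory CategoryTheory.Limits AlgebraicGeometry Opposite
open Groth.Agent.Lib.Helper27.DivGeo1 Groth.Agent.Lib.Helper27.DivGeo2 Groth.Agent.Lib.Helper27.DivGm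
  Groth.Agent.Lib.Helper27.DivGeo3 Groth.Agent.Lib.Helper27.DivGeo4 Groth.Agent.Lib.Helper23

variable {X : Scheme.{u}} [IsIntegral X] [IsLocallyNoetherian X]
  (hd : ∀ (U : X.Etale) (u : U.left), IsDomain (U.left.presheaf.stalk u))
  (hn : ∀ (U : X.Etale) (u : U.left), IsIntegrallyClosed (U.left.presheaf.stalk u))

omit [IsIntegral X] [IsLocallyNoetherian X] in
lemma ringKrullDim_eq_one_iff {Y : Scheme.{u}} (y : Y) :
    ringKrullDim (Y.presheaf.stalk y) = 1 ↔ Order.coheight y = 1 := by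
  rw [ringKrullDim_stalk_eq_coheight]
  constructor
  · intro h
    have h2 : ((Order.coheight y : ℕ∞) : WithBot ℕ∞) = ((1 : ℕ∞) : WithBot ℕ∞) := h
    exact WithBot.coe_injective h2
  · intro h
    rw [h]
    rfl

omit [IsIntegral X] [IsLocallyNoetherian X] in
/-- a rational function on a normal integral scheme without zeros or poles is a global unit -/
lemma exists_unit_of_forall_ord_eq_zero (W : Scheme.{u}) [IsIntegral W] [IsLocallyNoetherian W]
    (hW : Pi1.IsNormalScheme W) (f : (W.functionField)ˣ)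
    (H : ∀ z : W, Order.coheight z = 1 → Scheme.ord (f : W.functionField) z = 0) :
    ∃ v : (Γ(W, ⊤))ˣ,
      (W.presheaf.germ ⊤ (genericPoint W) trivial).hom (v : Γ(W, ⊤)) = (f : W.functionField) := by
  have hmem : ∀ w : W, f ∈ CDiv.stalkUnits W w := fun w =>
    Groth.Agent.Lib.Helper13.CDivLib.mem_stalkUnits_of_forall_ord_eq_zero hW w f
      (fun z _ hz => H z hz)
  have hne : Nonempty ↥(⊤ : W.Opens) := ⟨⟨genericPoint W, trivial⟩⟩
  obtain ⟨a, ha⟩ := @Groth.Agent.Lib.Helper13.NormalSections.exists_section_of_forall_mem_stalk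
    W _ ⊤ hne (f : W.functionField) (fun p _ =>
      ((Groth.Agent.Lib.Helper13.CDivLib.mem_stalkUnits_iff p f).1 (hmem p)).1)
  obtain ⟨b, hb⟩ := @Groth.Agent.Lib.Helper13.NormalSections.exists_section_of_forall_mem_stalk
    W _ ⊤ hne ((f⁻¹ : (W.functionField)ˣ) : W.functionField) (fun p _ =>
      ((Groth.Agent.Lib.Helper13.CDivLib.mem_stalkUnits_iff p f).1 (hmem p)).2)
  have hab : a * b = 1 := by
    apply @Scheme.germToFunctionField_injective W _ ⊤ hne
    rw [map_mul, ha, hb, map_one, ← Units.val_mul, mul_inv_cancel, Units.val_one]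
  exact ⟨⟨a, b, hab, by rw [mul_comm]; exact hab⟩, ha⟩

/-- **the kernel of the divisor map consists locally of units** -/
theorem kernel_local (U : X.Etale) (s : (BX X).obj.obj (op U))
    (h0 : ∀ x : Idx X, (dX hd hn x.1).hom.app (op U) s = 0) (u : U.left) :
    ∃ (V : X.Etale) (g : V ⟶ U), u ∈ Set.range g.left ∧
      ∃ t : (EtCoh.Gm X).obj.obj (op V), (aX X).hom.app (op V) t = (BX X).obj.map g.op s := by
  obtain ⟨O, hu, -, hO⟩ := exists_integral_affine_nhd hd U u
  refine ⟨EtGlue.opn U O, EtGlue.opnι U O, ⟨⟨u, hu⟩, rfl⟩, ?_⟩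
  haveI := hO
  set W := EtGlue.opn U O
  set s' := (BX X).obj.map (EtGlue.opnι U O).op s
  have hW : Pi1.IsNormalScheme W.left := fun w => ⟨hd W w, hn W w⟩
  have H : ∀ z : W.left, Order.coheight z = 1 →
      Scheme.ord (kap W s' : W.left.functionField) z = 0 := by
    intro z hz
    have hx : ringKrullDim (X.presheaf.stalk ((homX W) z)) = 1 := by
      rw [ringKrullDim_eq_one_iff, coheight_eq_of_etale]
      exact hz
    obtain ⟨p, hp⟩ := exists_point_over ((homX W) z) W z rfl
    have h1 := dX_app_apply hd hn ((homX W) z) W s' p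
    rw [hp] at h1
    rw [← h1, DivAL3.nat_apply, h0 ⟨(homX W) z, hx⟩, map_zero]
    rfl
  obtain ⟨v, hv⟩ := exists_unit_of_forall_ord_eq_zero W.left hW (kap W s') H
  refine ⟨gmMk W v, ?_⟩
  apply kap_injective W
  rw [kap_GmPush]
  apply Units.ext
  exact hv

end Groth.Agent.Lib.Helper27.DivGeo5
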