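import Mathlib
import Groth.Prelude.Def_EtBase
import Groth.Agent.Lib.Helper27.DivGeo5
import Groth.Agent.Lib.Helper13.CDivFact5

/-!
# The divisor sequence: surjectivity
-/

set_option autoImplicit false
set_option backward.isDefEq.respectTransparency false
set_option backward.isDefEq.respectTransparency.types false

universe u

namespace Groth.Agent.Lib.Helper27.DivGeo6

open CategoryTheory CategoryTheory.Limits AlgebraicGeometry Opposite
open Groth.Agent.Lib.Helper27.DivGeo1 Groth.Agent.Lib.Helper27.DivGeo2 Groth.Agent.Lib.Helper27.DivGm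
  Groth.Agent.Lib.Helper27.DivGeo3 Groth.Agent.Lib.Helper27.DivGeo4 Groth.Agent.Lib.Helper27.DivGeo5
  Groth.Agent.Lib.Helper23

attribute [local instance] Classical.propDecidable

section OrdHom

variable (W : Scheme.{u}) [IsIntegral W] [IsLocallyNoetherian W]

/-- the order at `z` as an additive homomorphism -/
noncomputable def ordA (z : W) : Additive (W.functionField)ˣ →+ ℤ where
  toFun f := Scheme.ord ((Additive.toMul f : (W.functionField)ˣ) : W.functionField) z
  map_zero' := Groth.Agent.Lib.Helper13.CDivLib.ord_one z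
  map_add' f g := Groth.Agent.Lib.Helper13.CDivLib.ord_units_mul z _ _

lemma ordA_apply (z : W) (f : (W.functionField)ˣ) :
    ordA W z (Additive.ofMul f) = Scheme.ord (f : W.functionField) z := rfl

/-- a finite product of prime cycle equations has the prescribed orders -/
lemma ord_combination {P : Type*} [Fintype P] (zp : P → W) (f : P → (W.functionField)ˣ)
    (n : P → ℤ) (z : W)
    (hz : ∀ p, Scheme.ord (f p : W.functionField) z = if z = zp p then 1 else 0) :
    ordA W z (∑ p, n p • Additive.ofMul (f p)) = ∑ p, if z = zp p then n p else 0 := by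
  rw [map_sum]
  refine Finset.sum_congr rfl (fun p _ => ?_)
  rw [map_zsmul, ordA_apply, hz p]
  split_ifs <;> simp

end OrdHom

end Groth.Agent.Lib.Helper27.DivGeo6

namespace Groth.Agent.Lib.Helper27.DivGeo6

open CategoryTheory CategoryTheory.Limits AlgebraicGeometry Opposite
open Groth.Agent.Lib.Helper13.CDivLib

attribute [local instance] Classical.propDecidable

/-- On a locally factorial integral scheme, finitely many prime divisors with multiplicities are
locally the divisor of a rational function. -/
theorem exists_local_equation (W : Scheme.{u}) [IsIntegral W] [IsLocallyNoetherian W]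
    (hW : Pi1.IsNormalScheme W)
    (hufm : ∀ w : W, UniqueFactorizationMonoid (W.presheaf.stalk w))
    {P : Type*} [Fintype P] (zp : P → W) (hzp : ∀ p, Order.coheight (zp p) = 1) (n : P → ℤ)
    (u : W) :
    ∃ (N : W.Opens) (F : (W.functionField)ˣ), u ∈ N ∧
      ∀ z ∈ N, Order.coheight z = 1 →
        Scheme.ord (F : W.functionField) z = ∑ p, if z = zp p then n p else 0 := by
  have h1 : ∀ p, ∃ f : CDiv.KUnits W, IsCycleEquation (zp p) u f := fun p =>
    exists_isCycleEquation hW hufm (hzp p) u
  choose f hf using h1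
  have h2 : ∀ p, ∃ U : W.Opens, u ∈ U ∧ ∀ y ∈ U, IsCycleEquation (zp p) y (f p) := fun p =>
    (hf p).exists_nhd
  choose Np hNu hN using h2
  let N : W.Opens := ⟨⋂ p, (Np p : Set W), isOpen_iInter_of_finite (fun p => (Np p).isOpen)⟩
  refine ⟨N, Additive.toMul (∑ p, n p • Additive.ofMul (f p)), ?_, ?_⟩
  · exact Set.mem_iInter.2 hNu
  · intro z hzN hz
    have hz' : ∀ p, z ∈ Np p := fun p => Set.mem_iInter.1 hzN p
    have key := ord_combination W zp f n z (fun p => by
      by_cases hzz : z = zp p
      · rw [if_pos hzz]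
        have := (hN p z (hz' p)).1 (by rw [hzz])
        rw [hzz]
        exact this
      · rw [if_neg hzz]
        exact (hN p z (hz' p)).2 z specializes_rfl hz hzz)
    exact key

end Groth.Agent.Lib.Helper27.DivGeo6

namespace Groth.Agent.Lib.Helper27.DivGeo6

open CategoryTheory CategoryTheory.Limits AlgebraicGeometry Opposite
open Groth.Agent.Lib.Helper27.DivGeo1 Groth.Agent.Lib.Helper27.DivGeo2 Groth.Agent.Lib.Helper27.DivGm
  Groth.Agent.Lib.Helper27.DivGeo3 Groth.Agent.Lib.Helper27.DivGeo4 Groth.Agent.Lib.Helper27.DivGeo5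
  Groth.Agent.Lib.Helper23

attribute [local instance] Classical.propDecidable

variable {X : Scheme.{u}}

instance compactSpace_Wx (x : X) (W : X.Etale) [CompactSpace W.left] :
    CompactSpace (Wx x W).left := by
  haveI : QuasiCompact (iX x) := quasiCompact_of_noetherianSpace_source _
  haveI : QuasiCompact (bcFst (iX x) W) :=
    inferInstanceAs (QuasiCompact (pullback.fst (homX W) (iX x)))
  exact QuasiCompact.compactSpace_of_compactSpace (bcFst (iX x) W)

variable [IsIntegral X] [IsLocallyNoetherian X]
  (hd : ∀ (U : X.Etale) (u : U.left), IsDomain (U.left.presheaf.stalk u))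
  (hn : ∀ (U : X.Etale) (u : U.left), IsIntegrallyClosed (U.left.presheaf.stalk u))
  (hufd : ∀ (U : X.Etale) (u : U.left), UniqueFactorizationMonoid (U.left.presheaf.stalk u))

include hufd in
/-- **local surjectivity of the divisor map** -/
theorem surj_local (x : Idx X) (U : X.Etale) (t : (CL x.1).obj.obj (op U)) (u : U.left) :
    ∃ (V : X.Etale) (g : V ⟶ U), u ∈ Set.range g.left ∧ ∃ s : (BX X).obj.obj (op V),
      (dX hd hn x.1).hom.app (op V) s = (CL x.1).obj.map g.op t ∧
      ∀ y : Idx X, y ≠ x → (dX hd hn y.1).hom.app (op V) s = 0 := by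
  obtain ⟨O, hu, hOaff, hO⟩ := exists_integral_affine_nhd hd U u
  haveI := hO
  haveI : IsAffine (EtGlue.opn U O).left := hOaff
  set W := EtGlue.opn U O with hWdef
  let t' : ULift.{u + 1} (LocallyConstant (Wx x.1 W).left ℤ) :=
    (CL x.1).obj.map (EtGlue.opnι U O).op t
  haveI : Finite (Wx x.1 W).left := finite_of_compact_of_discrete
  haveI := Fintype.ofFinite (Wx x.1 W).left
  have hW : Pi1.IsNormalScheme W.left := fun w => ⟨hd W w, hn W w⟩
  let zp : (Wx x.1 W).left → W.left := fun p => bcFst (iX x.1) W p
  have hzp : ∀ p, Order.coheight (zp p) = 1 := fun p => by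
    rw [← coheight_eq_of_etale (homX W), homX_bcFst, ← ringKrullDim_eq_one_iff]
    exact x.2
  obtain ⟨N, F, huN, hF⟩ := exists_local_equation W.left hW (hufd W) zp hzp
    (fun p => t'.down p) ⟨u, hu⟩
  let V := EtGlue.opn W N
  haveI : IsIntegral V.left :=
    @isIntegral_of_isOpenImmersion _ _ N.ι _ hO ⟨⟨⟨u, hu⟩, huN⟩⟩
  let ι : V ⟶ W := EtGlue.opnι W N
  obtain ⟨s, hs⟩ := kap_surjective V (Units.map ((ffMap ι.left).hom : _ →* _) F)
  have hpt : ∀ (y : X) (q : (Wx y V).left),
      bcFst (iX y) W (((EtCoh.bc (iX y)).map ι).left q) = ι.left (bcFst (iX y) V q) := by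
    intro y q
    have := congrArg (fun k => k q) (congrArg (fun k => k.base) (bcFst_map (iX y) ι))
    exact this
  have key : ∀ (y : X) (q : (Wx y V).left),
      ((dX hd hn y).hom.app (op V) s : ULift.{u + 1} (LocallyConstant (Wx y V).left ℤ)).down q =
        Scheme.ord (F : W.left.functionField)
          (bcFst (iX y) W (((EtCoh.bc (iX y)).map ι).left q)) := by
    intro y q
    rw [dX_app_apply, hs, Units.coe_map, hpt]
    change Scheme.ord ((ffMap ι.left).hom _) _ = _
    rw [DivOrd.ord_ffMap ι.left _ (hn V _) (hn W _)]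
  have hmemN : ∀ (y : X) (q : (Wx y V).left),
      bcFst (iX y) W (((EtCoh.bc (iX y)).map ι).left q) ∈ N := by
    intro y q
    rw [hpt]
    exact (bcFst (iX y) V q).2
  have hco : ∀ (y : Idx X) (q : (Wx y.1 V).left),
      Order.coheight (bcFst (iX y.1) W (((EtCoh.bc (iX y.1)).map ι).left q)) = 1 := by
    intro y q
    rw [← coheight_eq_of_etale (homX W), homX_bcFst, ← ringKrullDim_eq_one_iff]
    exact y.2
  refine ⟨V, ι ≫ EtGlue.opnι U O, ⟨⟨⟨u, hu⟩, huN⟩, rfl⟩, s, ?_, ?_⟩
  · apply ULift.ext
    apply LocallyConstant.ext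
    intro q
    rw [key, hF _ (hmemN _ _) (hco x q)]
    rw [Finset.sum_eq_single (((EtCoh.bc (iX x.1)).map ι).left q)]
    · rw [if_pos rfl, DivAL3.map_comp_apply]
      rfl
    · intro p _ hp
      rw [if_neg]
      intro h
      exact hp (bcFst_injective x.1 W h).symm
    · intro h
      exact absurd (Finset.mem_univ _) h
  · intro y hy
    apply ULift.ext
    apply LocallyConstant.ext
    intro q
    rw [key, hF _ (hmemN _ _) (hco y q), down_zero]
    apply Finset.sum_eq_zero
    intro p _
    rw [if_neg]
    intro h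
    apply hy
    apply Subtype.ext
    have h1 := homX_bcFst y.1 W (((EtCoh.bc (iX y.1)).map ι).left q)
    have h2 := homX_bcFst x.1 W p
    rw [h] at h1
    exact h1.symm.trans h2

end Groth.Agent.Lib.Helper27.DivGeo6
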