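import Mathlib
import Groth.Prelude.Def_EtBase
import Groth.Agent.Lib.Helper27.DivGeo6

/-!
# The divisor exact sequence on the small étale site of a locally factorial integral scheme
-/

set_option autoImplicit false
set_option backward.isDefEq.respectTransparency false
set_option backward.isDefEq.respectTransparency.types false

universe u

namespace Groth.Agent.Lib.Helper27.DivMain

open CategoryTheory CategoryTheory.Limits AlgebraicGeometry Opposite
open Groth.Agent.Lib.Helper27.DivGeo1 Groth.Agent.Lib.Helper27.DivGeo2 Groth.Agent.Lib.Helper27.DivGm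
  Groth.Agent.Lib.Helper27.DivGeo3 Groth.Agent.Lib.Helper27.DivGeo4 Groth.Agent.Lib.Helper27.DivGeo5
  Groth.Agent.Lib.Helper27.DivGeo6 Groth.Agent.Lib.Helper23

variable {X : Scheme.{u}} [IsIntegral X] [IsLocallyNoetherian X]
  (hd : ∀ (U : X.Etale) (u : U.left), IsDomain (U.left.presheaf.stalk u))
  (hn : ∀ (U : X.Etale) (u : U.left), IsIntegrallyClosed (U.left.presheaf.stalk u))
  (hufd : ∀ (U : X.Etale) (u : U.left), UniqueFactorizationMonoid (U.left.presheaf.stalk u))

include hd hn hufd in
/-- **The divisor sequence** (locally constant functions model). -/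
theorem divisor_sequence_LC (c : Cofan (fun x : Idx X => CL x.1)) (hc : IsColimit c) :
    Mono (aX X) ∧ Nonempty (cokernel (aX X) ≅ c.pt) :=
  DivAL3.cokernel_iso_coprod (aX X) (fun x : Idx X => dX hd hn x.1) c hc
    (aX_injective hd) (fun x => aX_dX hd hn x.1) (locally_finite hd hn) (kernel_local hd hn)
    (surj_local hd hn hufd)

/-- the sheaf `i_{x*} ℤ` -/
noncomputable abbrev CZ (x : X) : EtCoh.Ab X :=
  (EtCoh.push (iX x)).obj (EtCoh.const (Spec (X.residueField x)) ℤ)

/-- the two models of `i_{x*} ℤ` -/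
noncomputable def CZIso (x : X) : CZ x ≅ CL x :=
  (EtCoh.push (iX x)).mapIso (LCSheaf.constIso (Spec (X.residueField x)) ℤ)

include hd hn hufd in
/-- **The divisor sequence.** -/
theorem divisor_sequence (c : Cofan (fun x : Idx X => CZ x.1)) (hc : IsColimit c) :
    Mono (aX X) ∧ Nonempty (cokernel (aX X) ≅ c.pt) := by
  let c' : Cofan (fun x : Idx X => CL x.1) :=
    Cofan.mk c.pt (fun x => (CZIso x.1).inv ≫ c.inj x)
  have hc' : IsColimit c' := by
    refine mkCofanColimit _ (fun s => Cofan.IsColimit.desc hc (fun x => (CZIso x.1).hom ≫ s.inj x))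
      (fun s x => ?_) (fun s m hm => ?_)
    · change ((CZIso x.1).inv ≫ c.inj x) ≫ _ = _
      rw [Category.assoc, Cofan.IsColimit.fac, Iso.inv_hom_id_assoc]
    · apply Cofan.IsColimit.hom_ext hc
      intro x
      rw [Cofan.IsColimit.fac, ← hm x]
      change _ = (CZIso x.1).hom ≫ ((CZIso x.1).inv ≫ c.inj x) ≫ m
      rw [Category.assoc, Iso.hom_inv_id_assoc]
  exact divisor_sequence_LC hd hn hufd c' hc'

end Groth.Agent.Lib.Helper27.DivMain
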