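import Groth.Agent.Lib.Helper27.EtH90d
import Groth.Prelude.Def_EtLim

/-!
# `H¹(X, i_* G_m) = 0` and injectivity of `H²(X, i_* G_m) → H²(Spec K, G_m)` for `i : Spec K ⟶ X`
-/

set_option autoImplicit false
set_option backward.isDefEq.respectTransparency false
universe u
open CategoryTheory Limits Opposite AlgebraicGeometry Abelian
open Groth.Agent.Lib.Helper18.GalFibre Groth.Agent.Lib.Helper23.EtGlue
  Groth.Agent.Lib.Helper27.GabberCrit Groth.Agent.Lib.Helper27.EtTrace
  Groth.Agent.Lib.Helper23.ExtAdj Groth.Agent.Lib.Helper23.ExtRestr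
  Groth.Agent.Lib.Helper27.EtRat

namespace Groth.Agent.Lib.Helper27.EtH90

section Abstract

universe w w' v v' u₁ u₂

variable {C : Type u₁} [Category.{v} C] [Abelian C] {D : Type u₂} [Category.{v'} D] [Abelian D]
  {L : C ⥤ D} {R : D ⥤ C} (adj : L ⊣ R) [L.Additive] [PreservesFiniteLimits L]
  [PreservesFiniteColimits L] [HasExt.{w} C] [HasExt.{w'} D] [R.Additive]

/-- injectivity of the adjunction map on `Ext` propagates along cosyzygies -/
theorem extAdj_succ_injective {S : ShortComplex D} (hS : S.ShortExact) (hI : Injective S.X₂)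
    (hRS : (S.map R).ShortExact) (A : C) (n : ℕ)
    (hn : Function.Injective (extAdj adj A S.X₃ (n + 1))) :
    Function.Injective (extAdj adj A S.X₁ (n + 2)) := by
  rw [injective_iff_map_eq_zero]
  intro x hx
  haveI : Injective (S.map R).X₂ := adj.map_injective _ hI
  obtain ⟨y, rfl⟩ := Ext.covariant_sequence_exact₁ _ hRS x (Ext.eq_zero_of_injective _)
    (rfl : n + 1 + 1 = n + 2)
  rw [extAdj_extClass adj A hS hRS (n + 1) y] at hx
  obtain ⟨z, hz⟩ := Ext.covariant_sequence_exact₃ _ hS _ rfl hx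
  have hz0 : z = 0 := Ext.eq_zero_of_injective z
  rw [hz0, Ext.zero_comp] at hz
  have hy : y = 0 := by
    apply hn
    rw [map_zero]
    exact hz.symm
  rw [hy, Ext.zero_comp]

end Abstract

variable {K : Type u} [Field K]

attribute [local instance] ptAlgebra ptFinite ptSeparable in
theorem exists_lift_sections' {S : ShortComplex (EtCoh.Ab (Spec (CommRingCat.of K)))}
    (hS : S.ShortExact)
    (h1 : ∀ (L : Type u) [Field L] [Algebra K L] [FiniteDimensional K L] [Algebra.IsSeparable K L]
      (x : Ext (Zj (sK K L)) S.X₁ 1), x = 0)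
    (T : (Spec (CommRingCat.of K)).Etale)
    (c : S.X₃.obj.obj (op T)) : ∃ b : S.X₂.obj.obj (op T), S.g.hom.app _ b = c := by
  have hpt : ∀ t : T.left, ∃ b : S.X₂.obj.obj (op (ptY T t)),
      S.g.hom.app _ b = S.X₃.obj.map (ptι T t).op c := by
    intro t
    exact exists_lift_YM hS (T.left.residueField t) (fun x => h1 _ x) _
  choose b hb using hpt
  obtain ⟨s, hs⟩ := exists_glue_points T S.X₂ b
  refine ⟨s, ?_⟩
  rw [← sub_eq_zero]
  apply Groth.Agent.Lib.Helper27.EtTransport.eq_zero_of_locally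
  intro t
  refine ⟨ptY T t, ptι T t, ?_, ?_⟩
  · rw [range_ptι]; rfl
  · rw [map_sub, sub_eq_zero]
    have nat := ConcreteCategory.congr_hom (S.g.hom.naturality (ptι T t).op) s
    simp only [ConcreteCategory.comp_apply] at nat
    rw [← nat, hs, hb]

variable {X : Scheme.{u}} (i : Spec (CommRingCat.of K) ⟶ X)

theorem shortExact_map_push' {S : ShortComplex (EtCoh.Ab (Spec (CommRingCat.of K)))}
    (hS : S.ShortExact)
    (h1 : ∀ (L : Type u) [Field L] [Algebra K L] [FiniteDimensional K L] [Algebra.IsSeparable K L]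
      (x : Ext (Zj (sK K L)) S.X₁ 1), x = 0) : (S.map (EtCoh.push i)).ShortExact := by
  haveI : PreservesFiniteLimits (EtCoh.push i) := by
    have := (EtCoh.pullPushAdj i).rightAdjoint_preservesLimits
    infer_instance
  haveI := hS.mono_f
  exact
    { exact := hS.exact.map_of_mono_of_preservesKernel (EtCoh.push i) hS.mono_f inferInstance
      mono_f := inferInstanceAs (Mono ((EtCoh.push i).map S.f))
      epi_g := by
        change Epi ((EtCoh.push i).map S.g)
        have : Sheaf.IsLocallySurjective ((EtCoh.push i).map S.g) := by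
          apply Presheaf.isLocallySurjective_of_surjective
          intro U c
          exact exists_lift_sections' hS h1 ((EtCoh.bc i).obj U.unop) c
        infer_instance }

/-- `H¹(X, i_* G) ↪ H¹(Spec K, G)` -/
theorem subsingleton_H_one_push (G : EtCoh.Ab (Spec (CommRingCat.of K)))
    (hsub : Subsingleton (EtCoh.H (Spec (CommRingCat.of K)) G 1)) :
    Subsingleton (EtCoh.H X ((EtCoh.push i).obj G) 1) := by
  haveI : PreservesFiniteLimits (EtCoh.pull i) := Groth.Agent.S0101.result i
  have hinj := Groth.Agent.Lib.Helper27.EtSky.extAdj_one_injective (EtCoh.pullPushAdj i)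
    (EtCoh.const X ℤ) G
  refine ⟨fun a b => hinj ?_⟩
  have key : ∀ y : Ext ((EtCoh.pull i).obj (EtCoh.const X ℤ)) G 1, y = 0 := by
    intro y
    have h1 : (Ext.mk₀ (EtCore.pullConst i ℤ).hom).comp
        ((Ext.mk₀ (EtCore.pullConst i ℤ).inv).comp y (zero_add 1)) (zero_add 1) = y := by
      rw [← Ext.comp_assoc_of_second_deg_zero, Ext.mk₀_comp_mk₀, Iso.hom_inv_id, Ext.mk₀_id_comp]
    rw [← h1, hsub.elim ((Ext.mk₀ (EtCore.pullConst i ℤ).inv).comp y (zero_add 1)) 0,
      Ext.comp_zero]
  rw [key (extAdj (EtCoh.pullPushAdj i) (EtCoh.const X ℤ) G 1 a),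
    key (extAdj (EtCoh.pullPushAdj i) (EtCoh.const X ℤ) G 1 b)]

/-- `H²(X, i_* G) ↪ H²(Spec K, G)` as soon as `H¹(Spec L, G) = 0` for all finite separable `L` -/
theorem HofPush_two_injective (G : EtCoh.Ab (Spec (CommRingCat.of K)))
    (h1 : ∀ (L : Type u) [Field L] [Algebra K L] [FiniteDimensional K L] [Algebra.IsSeparable K L]
      (x : Ext (Zj (sK K L)) G 1), x = 0)
    [PreservesFiniteLimits (EtCoh.pull i)] :
    Function.Injective (EtLim.HofPush i G 2) := by
  let I : InjectivePresentation G := Classical.arbitrary _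
  let S := ShortComplex.mk _ _ (cokernel.condition I.f)
  have hS : S.ShortExact := { exact := ShortComplex.exact_cokernel I.f }
  have hRS := shortExact_map_push' i hS h1
  have hinj : Function.Injective (extAdj (EtCoh.pullPushAdj i) (EtCoh.const X ℤ) G 2) :=
    extAdj_succ_injective (EtCoh.pullPushAdj i) hS I.injective hRS (EtCoh.const X ℤ) 0
      (Groth.Agent.Lib.Helper27.EtSky.extAdj_one_injective (EtCoh.pullPushAdj i)
        (EtCoh.const X ℤ) S.X₃)
  have h2 := Groth.Agent.S14451.precomp_iso_bijective (EtCore.pullConst i ℤ).symm G 2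
  have : (EtLim.HofPush i G 2 : _ → _) =
      (fun x => (Ext.mk₀ (EtCore.pullConst i ℤ).symm.hom).comp x (zero_add 2)) ∘
        (extAdj (EtCoh.pullPushAdj i) (EtCoh.const X ℤ) G 2) := by
    funext e
    exact Groth.Agent.S14451.HofPush_eq i G 2 e
  rw [this]
  exact h2.1.comp hinj

end Groth.Agent.Lib.Helper27.EtH90
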