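import Groth.Agent.Lib.Helper27.EtSky2

/-!
# `H¹(Spec k, M) = 0` for a torsion-free constant sheaf `M`
-/

set_option autoImplicit false
set_option backward.isDefEq.respectTransparency false
universe u
open CategoryTheory Limits Opposite AlgebraicGeometry Abelian
open Groth.Agent.Lib.Helper23.EtGlue Groth.Agent.Lib.Helper27.EtTransport
  Groth.Agent.Lib.Helper27.GabberCrit Groth.Agent.Lib.Helper27.EtTrace

namespace Groth.Agent.Lib.Helper27.EtSky

variable (K : Type u) [Field K]

/-- morphisms from `ℤ` to a constant sheaf on `Spec K` lift along surjections of the value group -/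
theorem exists_lift_const {G G' : AddCommGrpCat.{u + 1}} (q : G ⟶ G')
    (hq : Function.Surjective q) (s : cS K MZ.{u} ⟶ cS K G') :
    ∃ s' : cS K MZ.{u} ⟶ cS K G,
      s' ≫ (constantSheaf (Spec (CommRingCat.of K)).smallEtaleTopology
        AddCommGrpCat.{u + 1}).map q = s := by
  let adj := EtCore.constAdj (Spec (CommRingCat.of K))
  obtain ⟨p', hp'⟩ := exists_eq_tS K G' (ev1 _ (adj.homEquiv MZ.{u} _ s))
  obtain ⟨p, rfl⟩ := hq p'
  refine ⟨(adj.homEquiv MZ.{u} _).symm ((ev1 _).symm (tS K G (EtCoh.top _) p)), ?_⟩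
  apply (adj.homEquiv MZ.{u} _).injective
  rw [Adjunction.homEquiv_naturality_right, Equiv.apply_symm_apply]
  apply (ev1 _).injective
  rw [ev1_comp, AddEquiv.apply_symm_apply]
  refine Eq.trans ?_ hp'.symm
  have nat := ConcreteCategory.congr_hom (congrArg (fun η => η.app (op (EtCoh.top _)))
    (toSheafify_naturality (Spec (CommRingCat.of K)).smallEtaleTopology
      ((Functor.const (Spec (CommRingCat.of K)).Etaleᵒᵖ).map q))) p
  simp only [NatTrans.comp_app, ConcreteCategory.comp_apply] at nat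
  exact nat.symm

variable (M : Type) [AddCommGroup M] [IsAddTorsionFree M]

theorem subsingleton_H_one_const_of_torsionFree :
    Subsingleton (EtCoh.H (Spec (CommRingCat.of K)) (EtCoh.const (Spec (CommRingCat.of K)) M) 1) := by
  refine ⟨fun a b => ?_⟩
  suffices key : ∀ ξ : EtCoh.H (Spec (CommRingCat.of K))
      (EtCoh.const (Spec (CommRingCat.of K)) M) 1, ξ = 0 by rw [key a, key b]
  intro ξ
  obtain ⟨d, hd, hdξ⟩ := exists_pos_nsmul_eq_zero (EtCoh.const (Spec (CommRingCat.of K)) M) 0 ξ
  let A : AddCommGrpCat.{u + 1} := AddCommGrpCat.of (ULift.{u + 1} M)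
  let f : A ⟶ A := d • 𝟙 A
  have : Mono f := by
    rw [AddCommGrpCat.mono_iff_injective]
    intro a b hab
    change (d • 𝟙 A : A ⟶ A) a = (d • 𝟙 A : A ⟶ A) b at hab
    rw [nsmul_id_apply', nsmul_id_apply'] at hab
    have h1 : d • a.down = d • b.down := congrArg ULift.down hab
    exact ULift.ext _ _ (nsmul_right_injective hd.ne' h1)
  let S := ShortComplex.mk f (cokernel.π f) (cokernel.condition f)
  have hS : S.ShortExact := { exact := ShortComplex.exact_cokernel f }
  let F := constantSheaf (Spec (CommRingCat.of K)).smallEtaleTopology AddCommGrpCat.{u + 1}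
  have hSF : (S.map F).ShortExact := hS.map_of_exact F
  have hf : (S.map F).f = d • 𝟙 (EtCoh.const (Spec (CommRingCat.of K)) M) := by
    change F.map (d • 𝟙 A) = _
    rw [Functor.map_nsmul]
    erw [CategoryTheory.Functor.map_id]
  have h0 : ξ.comp (Ext.mk₀ (S.map F).f) (add_zero 1) = 0 := by
    rw [hf, mk₀_nsmul, comp_nsmul, Ext.comp_mk₀_id, hdξ]
  obtain ⟨x₃, hx₃⟩ := Ext.covariant_sequence_exact₁ _ hSF ξ h0 (zero_add 1)
  obtain ⟨s, rfl⟩ := (Ext.mk₀_bijective _ _).2 x₃
  have hq : Function.Surjective (cokernel.π f) :=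
    (AddCommGrpCat.epi_iff_surjective _).1 inferInstance
  obtain ⟨s', hs'⟩ := exists_lift_const K (cokernel.π f) hq s
  rw [← hx₃, ← hs', ← Ext.mk₀_comp_mk₀, Ext.comp_assoc_of_second_deg_zero]
  change (Ext.mk₀ s').comp ((Ext.mk₀ (S.map F).g).comp hSF.extClass (zero_add 1)) (zero_add 1) = 0
  rw [hSF.comp_extClass, Ext.comp_zero]

end Groth.Agent.Lib.Helper27.EtSky
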