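import Groth.Agent.Lib.Helper27.EtSky1
import Groth.Agent.Lib.Helper27.EtSky3
import Groth.Agent.S0101
import Groth.Prelude.Def_Dix

/-!
# `H¹(X, i_{x*} M) = 0` for a torsion-free constant sheaf `M` on a point
-/

set_option autoImplicit false
set_option backward.isDefEq.respectTransparency false
universe u
open CategoryTheory Limits Opposite AlgebraicGeometry Abelian
open Groth.Agent.Lib.Helper23.ExtAdj

namespace Groth.Agent.Lib.Helper27.EtSky

theorem subsingleton_H_one_skyPush (X : Scheme.{u}) (x : X) (M : Type) [AddCommGroup M]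
    [IsAddTorsionFree M] :
    Subsingleton (EtCoh.H X ((Dix.skyPush X x).obj
      (EtCoh.const (Spec (X.residueField x)) M)) 1) := by
  let i := X.fromSpecResidueField x
  haveI : PreservesFiniteLimits (EtCoh.pull i) := Groth.Agent.S0101.result i
  have hsub : Subsingleton (EtCoh.H (Spec (X.residueField x))
      (EtCoh.const (Spec (X.residueField x)) M) 1) :=
    subsingleton_H_one_const_of_torsionFree (X.residueField x) M
  let F := EtCoh.const (Spec (X.residueField x)) M
  have hinj := extAdj_one_injective (EtCoh.pullPushAdj i) (EtCoh.const X ℤ) F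
  refine ⟨fun a b => hinj ?_⟩
  have key : ∀ y : Ext ((EtCoh.pull i).obj (EtCoh.const X ℤ)) F 1, y = 0 := by
    intro y
    have h1 : (Ext.mk₀ (EtCore.pullConst i ℤ).hom).comp
        ((Ext.mk₀ (EtCore.pullConst i ℤ).inv).comp y (zero_add 1)) (zero_add 1) = y := by
      rw [← Ext.comp_assoc_of_second_deg_zero, Ext.mk₀_comp_mk₀, Iso.hom_inv_id, Ext.mk₀_id_comp]
    rw [← h1, hsub.elim ((Ext.mk₀ (EtCore.pullConst i ℤ).inv).comp y (zero_add 1)) 0, Ext.comp_zero]
  rw [key (extAdj (EtCoh.pullPushAdj i) (EtCoh.const X ℤ) F 1 a),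
    key (extAdj (EtCoh.pullPushAdj i) (EtCoh.const X ℤ) F 1 b)]

end Groth.Agent.Lib.Helper27.EtSky
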