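import Mathlib
import Groth.Prelude.Def_EtBase
import Groth.Prelude.Def_EtLim
import Groth.Agent.Lib.Helper27.BrInj1
import Groth.Agent.Lib.Helper27.DivMain
import Groth.Agent.Lib.Helper27.EtH90e
import Groth.Agent.Lib.Helper27.EtSky4

/-!
# Injectivity of `H²(X, G_m) → H²(K(X), G_m)` for an integral noetherian locally factorial scheme
-/

set_option autoImplicit false
set_option backward.isDefEq.respectTransparency false
set_option backward.isDefEq.respectTransparency.types false

universe u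

namespace Groth.Agent.Lib.Helper27.BrInj2

open CategoryTheory CategoryTheory.Limits AlgebraicGeometry Opposite Abelian
open Groth.Agent.Lib.Helper27.DivGeo2 Groth.Agent.Lib.Helper27.DivGeo3
  Groth.Agent.Lib.Helper27.DivGeo4 Groth.Agent.Lib.Helper27.DivGeo5
  Groth.Agent.Lib.Helper27.DivMain

variable {X : Scheme.{u}} [IsIntegral X] [IsNoetherian X]
  (hd : ∀ (U : X.Etale) (u : U.left), IsDomain (U.left.presheaf.stalk u))
  (hn : ∀ (U : X.Etale) (u : U.left), IsIntegrallyClosed (U.left.presheaf.stalk u))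
  (hufd : ∀ (U : X.Etale) (u : U.left), UniqueFactorizationMonoid (U.left.presheaf.stalk u))

include hd hn hufd in
theorem eq_zero_of_comp_aX (ξ : EtCoh.H X (EtCoh.Gm X) 2)
    (h : ξ.comp (Ext.mk₀ (aX X)) (add_zero 2) = 0) : ξ = 0 := by
  obtain ⟨hmono, ⟨e⟩⟩ := divisor_sequence hd hn hufd
    (Cofan.mk (∐ fun x : Idx X => CZ x.1) (Sigma.ι _)) (coproductIsCoproduct _)
  haveI := hmono
  let S := ShortComplex.mk (aX X) (cokernel.π (aX X)) (cokernel.condition _)
  have hS : S.ShortExact := { exact := ShortComplex.exact_cokernel _ }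
  obtain ⟨y, hy⟩ := Ext.covariant_sequence_exact₁ _ hS ξ h (rfl : 1 + 1 = 2)
  have h3 : Subsingleton (EtCoh.H X (∐ fun x : Idx X => CZ x.1) 1) :=
    Groth.Agent.Lib.Helper27.BrInj1.subsingleton_H_coprod _ 1 (fun x =>
      Groth.Agent.Lib.Helper27.EtSky.subsingleton_H_one_skyPush X x.1 ℤ)
  have h4 : Subsingleton (EtCoh.H X (cokernel (aX X)) 1) :=
    Groth.Agent.Lib.Helper27.EtRat.subsingleton_H_of_iso e 1 h3
  rw [← hy, h4.elim y 0, Ext.zero_comp]

include hd hn hufd in
theorem eq_zero_of_HGmPull_jX [PreservesFiniteLimits (EtCoh.pull (jX X))]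
    (ξ : EtCoh.H X (EtCoh.Gm X) 2) (h : EtLim.HGmPull (jX X) 2 ξ = 0) : ξ = 0 := by
  apply eq_zero_of_comp_aX hd hn hufd
  have hinj := Groth.Agent.Lib.Helper27.EtH90.HofPush_two_injective (jX X)
    (EtCoh.Gm (Spec X.functionField))
    (fun L _ _ _ _ x => Groth.Agent.Lib.Helper27.EtH90.ext_one_Zj_Gm_eq_zero L x)
  apply hinj
  rw [map_zero]
  exact h

end Groth.Agent.Lib.Helper27.BrInj2
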