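import Mathlib
import Groth.Agent.Lib.Helper13.IntegralNhd

/-!
# Decomposition of a noetherian scheme with integral local rings into integral clopen pieces
-/

set_option autoImplicit false
set_option backward.isDefEq.respectTransparency false
set_option backward.isDefEq.respectTransparency.types false

universe u

namespace Groth.Agent.Lib.Helper27.DivDecomp

open CategoryTheory CategoryTheory.Limits AlgebraicGeometry Opposite TopologicalSpace

/-- in a noetherian space where every point lies on a unique irreducible component, the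
irreducible components are open -/
theorem isOpen_of_mem_irreducibleComponents {T : Type*} [TopologicalSpace T] [NoetherianSpace T]
    (huniq : ∀ (x : T) (Z Z' : Set T), Z ∈ irreducibleComponents T → Z' ∈ irreducibleComponents T →
      x ∈ Z → x ∈ Z' → Z = Z')
    {C : Set T} (hC : C ∈ irreducibleComponents T) : IsOpen C := by
  have hfin : {D ∈ irreducibleComponents T | D ≠ C}.Finite :=
    NoetherianSpace.finite_irreducibleComponents.subset (fun D hD => hD.1)
  have hcl : IsClosed (⋃₀ {D ∈ irreducibleComponents T | D ≠ C}) := by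
    rw [Set.sUnion_eq_biUnion]
    exact hfin.isClosed_biUnion (fun D hD => isClosed_of_mem_irreducibleComponents D hD.1)
  have : C = (⋃₀ {D ∈ irreducibleComponents T | D ≠ C})ᶜ := by
    ext x
    constructor
    · rintro hx ⟨D, ⟨hD, hne⟩, hxD⟩
      exact hne (huniq x D C hD hC hxD hx)
    · intro hx
      by_contra hxC
      apply hx
      refine ⟨irreducibleComponent x, ⟨irreducibleComponent_mem_irreducibleComponents x, ?_⟩,
        mem_irreducibleComponent⟩
      intro h
      exact hxC (h ▸ mem_irreducibleComponent)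
  rw [this]
  exact hcl.isOpen_compl

variable (P : Scheme.{u} → Prop)

theorem decomp_induction
    (h_empty : ∀ Y : Scheme.{u}, IsEmpty Y → P Y)
    (h_mv : ∀ (Y : Scheme.{u}) (V₁ V₂ : Y.Opens), V₁ ⊔ V₂ = ⊤ → V₁ ⊓ V₂ = ⊥ →
      P V₁ → P V₂ → P Y)
    (X : Scheme.{u}) [IsNoetherian X] (hdom : ∀ x : X, IsDomain (X.presheaf.stalk x))
    (h_int : ∀ (Y : Scheme.{u}) (j : Y ⟶ X) [IsOpenImmersion j] [IsIntegral Y], P Y) : P X := by
  have key : ∀ Z : Closeds X, IsOpen (Z : Set X) →
      ∀ (Y : Scheme.{u}) (j : Y ⟶ X) [IsOpenImmersion j], Set.range j = (Z : Set X) → P Y := by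
    intro Z
    induction Z using WellFoundedLT.induction with
    | ind Z ih =>
    intro hZo Y j _ hj
    by_cases hY : IsEmpty Y
    · exact h_empty Y hY
    rw [not_isEmpty_iff] at hY
    obtain ⟨y₀⟩ := hY
    -- Y is noetherian
    haveI : IsLocallyNoetherian Y := isLocallyNoetherian_of_isOpenImmersion j
    haveI : CompactSpace Y := by
      have hc : IsCompact (Set.range j) := by
        rw [hj]; exact Z.isClosed.isCompact
      exact j.isOpenEmbedding.isEmbedding.isInducing.isCompact_iff.mpr
        (by rwa [Set.image_univ]) |> isCompact_univ_iff.mp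
    haveI : IsNoetherian Y := ⟨⟩
    have hdomY : ∀ y : Y, IsDomain (Y.presheaf.stalk y) := fun y => by
      haveI := hdom (j y)
      exact (asIso (j.stalkMap y)).symm.commRingCatIsoToRingEquiv.toMulEquiv.isDomain _
    haveI : IsReduced Y := by
      haveI : ∀ y : Y, _root_.IsReduced (Y.presheaf.stalk y) := fun y => by
        haveI := hdomY y; infer_instance
      exact isReduced_of_isReduced_stalk _
    have huniq : ∀ (x : Y) (W W' : Set Y), W ∈ irreducibleComponents Y →
        W' ∈ irreducibleComponents Y → x ∈ W → x ∈ W' → W = W' := fun x W W' hW hW' hx hx' => by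
      haveI := hdomY x
      exact Groth.Agent.Lib.Helper13.IntegralNhd.irreducibleComponent_unique x hW hW' hx hx'
    let C : Set Y := irreducibleComponent y₀
    have hCm : C ∈ irreducibleComponents Y := irreducibleComponent_mem_irreducibleComponents y₀
    have hCo : IsOpen C := isOpen_of_mem_irreducibleComponents huniq hCm
    have hCc : IsClosed C := isClosed_of_mem_irreducibleComponents C hCm
    let V₁ : Y.Opens := ⟨C, hCo⟩
    let V₂ : Y.Opens := ⟨Cᶜ, hCc.isOpen_compl⟩
    have h12 : V₁ ⊔ V₂ = ⊤ := by
      ext x
      simp only [Opens.coe_sup, Opens.coe_top, Set.mem_univ, iff_true]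
      by_cases hx : x ∈ C
      · exact Or.inl hx
      · exact Or.inr hx
    have h12' : V₁ ⊓ V₂ = ⊥ := by
      ext x
      simp only [Opens.coe_inf, Opens.coe_bot, Set.mem_empty_iff_false, iff_false]
      rintro ⟨h1, h2⟩
      exact h2 h1
    refine h_mv Y V₁ V₂ h12 h12' ?_ ?_
    · haveI : IrreducibleSpace V₁.toScheme := Subtype.irreducibleSpace hCm.1
      haveI : IsIntegral V₁.toScheme := isIntegral_of_irreducibleSpace_of_isReduced _
      exact h_int V₁.toScheme (V₁.ι ≫ j)
    · have hcemb : Topology.IsClosedEmbedding j :=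
        ⟨j.isOpenEmbedding.isEmbedding, by rw [hj]; exact Z.isClosed⟩
      let Z' : Closeds X := ⟨j '' Cᶜ, hcemb.isClosedMap _ hCo.isClosed_compl⟩
      have hZ'o : IsOpen (Z' : Set X) := j.isOpenEmbedding.isOpenMap _ hCc.isOpen_compl
      have hlt : Z' < Z := by
        refine lt_of_le_of_ne ?_ ?_
        · intro x hx
          obtain ⟨y, -, rfl⟩ := hx
          show j y ∈ (Z : Set X)
          rw [← hj]; exact ⟨y, rfl⟩
        · intro h
          have h1 : j y₀ ∈ (Z : Set X) := by rw [← hj]; exact ⟨y₀, rfl⟩
          rw [← h] at h1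
          obtain ⟨y, hy, hyy⟩ := h1
          have := j.isOpenEmbedding.injective hyy
          subst this
          exact hy mem_irreducibleComponent
      refine ih Z' hlt hZ'o V₂.toScheme (V₂.ι ≫ j) ?_
      rw [Scheme.Hom.comp_base, TopCat.coe_comp, Set.range_comp, Scheme.Opens.range_ι]
      rfl
  exact key ⊤ isOpen_univ X (𝟙 X) (by simp)

end Groth.Agent.Lib.Helper27.DivDecomp
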