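import Groth.Agent.Lib.Helper27.EtRat8
import Groth.Agent.Lib.Helper27.EtTrace11
import Groth.Agent.Lib.Helper27.EtTorsion3
import Groth.Agent.Lib.Helper27.EtSky1
import Groth.Agent.Lib.Helper6.RDShift
import Groth.Agent.S0101

/-!
# Higher direct images from a point are torsion sheaves; cohomology of a push-forward from a
point is torsion in positive degrees
-/

set_option autoImplicit false
set_option backward.isDefEq.respectTransparency false
universe u
open CategoryTheory Limits Opposite AlgebraicGeometry Abelian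
open Groth.Agent.Lib.Helper18.GalFibre Groth.Agent.Lib.Helper23.EtGlue
  Groth.Agent.Lib.Helper27.GabberCrit Groth.Agent.Lib.Helper27.EtTrace
  Groth.Agent.Lib.Helper27.EtTransport Groth.Agent.Lib.Helper23.ExtAdj
  Groth.Agent.Lib.Helper6.RDShift Groth.Agent.Lib.Helper6.DeltaCompare

namespace Groth.Agent.Lib.Helper27.EtRat

variable {K : Type u} [Field K] {X : Scheme.{u}} (i : Spec (CommRingCat.of K) ⟶ X)

instance push_pfl : PreservesFiniteLimits (EtCoh.push i) := by
  have := (EtCoh.pullPushAdj i).rightAdjoint_preservesLimits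
  infer_instance

theorem isTorsion_Rpush [QuasiSeparatedSpace X] :
    ∀ (q : ℕ) (F : EtCoh.Ab (Spec (CommRingCat.of K))),
      EtCoh.IsTorsion ((EtCoh.Rpush i (q + 1)).obj F) := by
  intro q
  induction q with
  | zero =>
    intro F
    let I : InjectivePresentation F := Classical.arbitrary _
    let S := ShortComplex.mk _ _ (cokernel.condition I.f)
    have hS : S.ShortExact := { exact := ShortComplex.exact_cokernel I.f }
    haveI : Injective S.X₂ := I.injective
    obtain ⟨δ, w₀, w₁, w₂, e₀, e₁, e₂⟩ := rightDerived_les (EtCoh.push i) hS 0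
    have hz : IsZero (((EtCoh.push i).rightDerived 1).obj S.X₂) :=
      Functor.isZero_rightDerived_obj_injective_succ (EtCoh.push i) 0 S.X₂
    haveI : Epi δ := e₂.epi_f (hz.eq_of_tgt _ _)
    let e := (EtCoh.push i).rightDerivedZeroIsoSelf
    refine isTorsion_of_epi_from_push i hS (e.inv.app S.X₃ ≫ δ) ?_
    have hnat : (EtCoh.push i).map S.g ≫ e.inv.app S.X₃ =
        e.inv.app S.X₂ ≫ ((EtCoh.push i).rightDerived 0).map S.g := e.inv.naturality S.g
    rw [← Category.assoc, hnat, Category.assoc, w₁, comp_zero]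
  | succ q ih =>
    intro F
    let I : InjectivePresentation F := Classical.arbitrary _
    let S := ShortComplex.mk _ _ (cokernel.condition I.f)
    have hS : S.ShortExact := { exact := ShortComplex.exact_cokernel I.f }
    haveI : Injective S.X₂ := I.injective
    have hsh := hasShift_rightDerived (EtCoh.push i) S hS
      (fun m => Functor.isZero_rightDerived_obj_injective_succ (EtCoh.push i) m S.X₂)
    obtain ⟨e⟩ := hsh.nonempty_iso_succ q
    exact isTorsion_of_iso e (ih S.X₃)

theorem isAddTorsion_H_push [CompactSpace X] [QuasiSeparatedSpace X] :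
    ∀ (q : ℕ) (F : EtCoh.Ab (Spec (CommRingCat.of K))),
      IsAddTorsion (EtCoh.H X ((EtCoh.push i).obj F) (q + 1)) := by
  haveI : PreservesFiniteLimits (EtCoh.pull i) := Groth.Agent.S0101.result i
  intro q
  induction q with
  | zero =>
    intro F x
    have hinj := Groth.Agent.Lib.Helper27.EtSky.extAdj_one_injective (EtCoh.pullPushAdj i)
      (EtCoh.const X ℤ) F
    let y := extAdj (EtCoh.pullPushAdj i) (EtCoh.const X ℤ) F 1 x
    obtain ⟨d, hd, hdz⟩ := isOfFinAddOrder_iff_nsmul_eq_zero.1
      (isOfFinAddOrder_of_pos F 1 Nat.one_pos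
        ((Ext.mk₀ (EtCore.pullConst i ℤ).inv).comp y (zero_add 1)))
    refine isOfFinAddOrder_iff_nsmul_eq_zero.2 ⟨d, hd, hinj ?_⟩
    rw [map_nsmul, map_zero]
    have h1 : (Ext.mk₀ (EtCore.pullConst i ℤ).hom).comp
        ((Ext.mk₀ (EtCore.pullConst i ℤ).inv).comp y (zero_add 1)) (zero_add 1) = y := by
      rw [← Ext.comp_assoc_of_second_deg_zero, Ext.mk₀_comp_mk₀, Iso.hom_inv_id, Ext.mk₀_id_comp]
    change d • y = 0
    rw [← h1, ← comp_nsmul, hdz, Ext.comp_zero]
  | succ q ih =>
    intro F x
    let I : InjectivePresentation F := Classical.arbitrary _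
    let S := ShortComplex.mk _ _ (cokernel.condition I.f)
    have hS : S.ShortExact := { exact := ShortComplex.exact_cokernel I.f }
    haveI : Injective S.X₂ := I.injective
    haveI := hS.mono_f
    haveI : Mono ((EtCoh.push i).map S.f) := inferInstance
    let S₁ := ShortComplex.mk ((EtCoh.push i).map S.f) (cokernel.π ((EtCoh.push i).map S.f))
      (cokernel.condition _)
    have hS₁ : S₁.ShortExact := { exact := ShortComplex.exact_cokernel _ }
    have w : (EtCoh.push i).map S.f ≫ (EtCoh.push i).map S.g = 0 := by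
      rw [← Functor.map_comp, S.zero, Functor.map_zero]
    let m : cokernel ((EtCoh.push i).map S.f) ⟶ (EtCoh.push i).obj S.X₃ :=
      cokernel.desc ((EtCoh.push i).map S.f) ((EtCoh.push i).map S.g) w
    have hex : (ShortComplex.mk ((EtCoh.push i).map S.f) ((EtCoh.push i).map S.g) w).Exact :=
      hS.exact.map_of_mono_of_preservesKernel (EtCoh.push i) hS.mono_f inferInstance
    haveI : Mono m := hex.mono_cokernelDesc
    let S₂ := ShortComplex.mk m (cokernel.π m) (cokernel.condition _)
    have hS₂ : S₂.ShortExact := { exact := ShortComplex.exact_cokernel _ }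
    have htors : EtCoh.IsTorsion S₂.X₃ := by
      refine isTorsion_of_epi_from_push i hS (cokernel.π m) ?_
      have hm : (EtCoh.push i).map S.g = cokernel.π ((EtCoh.push i).map S.f) ≫ m :=
        (cokernel.π_desc _ _ _).symm
      rw [hm, Category.assoc, cokernel.condition, comp_zero]
    haveI : Injective S₁.X₂ := (EtCoh.pullPushAdj i).map_injective _ I.injective
    obtain ⟨y, hy⟩ := Ext.covariant_sequence_exact₁ _ hS₁ x (Ext.eq_zero_of_injective _)
      (rfl : q + 1 + 1 = q + 1 + 1)
    obtain ⟨d₁, hd₁, h1⟩ := isOfFinAddOrder_iff_nsmul_eq_zero.1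
      (ih S.X₃ (y.comp (Ext.mk₀ m) (add_zero _)))
    have h1' : (d₁ • y).comp (Ext.mk₀ S₂.f) (add_zero _) = 0 := by
      rw [nsmul_comp]; exact h1
    obtain ⟨z, hz⟩ := Ext.covariant_sequence_exact₁ _ hS₂ (d₁ • y) h1' (rfl : q + 1 = q + 1)
    obtain ⟨d₂, hd₂, h2⟩ := isOfFinAddOrder_iff_nsmul_eq_zero.1
      (isAddTorsion_H S₂.X₃ htors q z)
    refine isOfFinAddOrder_iff_nsmul_eq_zero.2 ⟨d₂ * d₁, Nat.mul_pos hd₂ hd₁, ?_⟩
    rw [← hy, ← nsmul_comp, mul_nsmul', ← hz, ← nsmul_comp, h2, Ext.zero_comp, Ext.zero_comp]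

end Groth.Agent.Lib.Helper27.EtRat
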