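import Groth.Agent.Lib.Helper27.EtTrace1
import Groth.Agent.Lib.Helper23.HpullHp

/-!
# Restriction–corestriction: a norm `ℤ_X → j_! ℤ_U` kills the kernel of the pullback map
-/

set_option autoImplicit false
set_option backward.isDefEq.respectTransparency false
universe w v u
open CategoryTheory Limits Opposite AlgebraicGeometry Abelian
open Groth.Agent.Lib.Helper23.EtRestr Groth.Agent.Lib.Helper23.ExtRestr
  Groth.Agent.Lib.Helper23.ExtAdj Groth.Agent.Lib.Helper27.GabberCrit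
  Groth.Agent.Lib.Helper23.HpullHp

namespace Groth.Agent.Lib.Helper27.EtTrace

section Abstract

variable {C : Type u} [Category.{v} C] [Abelian C] [HasExt.{w} C]

theorem mk₀_nsmul {A B : C} (d : ℕ) (f : A ⟶ B) : Ext.mk₀ (d • f) = d • Ext.mk₀ f :=
  map_nsmul (Ext.addEquiv₀ (X := A) (Y := B)).symm d f

theorem nsmul_comp {A B F : C} {a b c : ℕ} (d : ℕ) (α : Ext A B a) (β : Ext B F b)
    (h : a + b = c) : (d • α).comp β h = d • α.comp β h :=
  map_nsmul (β.postcomp A h) d α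

theorem comp_nsmul {A B F : C} {a b c : ℕ} (d : ℕ) (α : Ext A B a) (β : Ext B F b)
    (h : a + b = c) : α.comp (d • β) h = d • α.comp β h :=
  map_nsmul (α.precomp F h) d β

/-- if `N ≫ ε = d` then `d` kills every class killed by `ε` -/
theorem nsmul_eq_zero_of_comp_eq_nsmul {A Z F : C} (ε : Z ⟶ A) (N : A ⟶ Z) (d : ℕ)
    (hN : N ≫ ε = d • 𝟙 A) (n : ℕ) (x : Ext A F n)
    (hx : (Ext.mk₀ ε).comp x (zero_add n) = 0) : d • x = 0 := by
  have h1 : (Ext.mk₀ (N ≫ ε)).comp x (zero_add n) = 0 := by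
    rw [← Ext.mk₀_comp_mk₀, Ext.comp_assoc_of_second_deg_zero, hx, Ext.comp_zero]
  rw [hN, mk₀_nsmul, nsmul_comp, Ext.mk₀_id_comp] at h1
  exact h1

end Abstract

variable {U X : Scheme.{u}} (j : U ⟶ X) [Etale j]

/-- the pullback map corresponds to precomposition with `ε` -/
theorem extAdj_Hpull (F : EtCoh.Ab X) (n : ℕ) (x : EtCoh.H X F n) :
    extAdj (adjE j) (EtCoh.const U ℤ) F n (EtCore.Hpull j F n x) =
      (Ext.mk₀ (εj j)).comp x (zero_add n) := by
  rw [Hpull_eq_hp]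
  exact extAdj_hp (adjE j) (EtCore.pullConst j ℤ) F n x

theorem comp_eq_zero_of_Hpull_eq_zero (F : EtCoh.Ab X)
    (n : ℕ) (x : EtCoh.H X F n) (hx : EtCore.Hpull j F n x = 0) :
    (Ext.mk₀ (εj j)).comp x (zero_add n) = 0 := by
  rw [← extAdj_Hpull, hx, map_zero]

theorem Hpull_eq_zero_of_comp_eq_zero (F : EtCoh.Ab X)
    (n : ℕ) (x : EtCoh.H X F n) (hx : (Ext.mk₀ (εj j)).comp x (zero_add n) = 0) :
    EtCore.Hpull j F n x = 0 := by
  apply (extAdj_bijective_of_exact (adjE j) (EtCoh.const U ℤ) F n).1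
  rw [extAdj_Hpull, hx, map_zero]

/-- a norm `N` with `N ≫ ε = d` shows that `d` kills every class dying on `U` -/
theorem nsmul_eq_zero_of_norm (d : ℕ) (N : EtCoh.const X ℤ ⟶ Zj j)
    (hN : N ≫ εj j = d • 𝟙 _) (F : EtCoh.Ab X) (n : ℕ) (x : EtCoh.H X F n)
    (hx : EtCore.Hpull j F n x = 0) : d • x = 0 :=
  nsmul_eq_zero_of_comp_eq_nsmul (εj j) N d hN n x (comp_eq_zero_of_Hpull_eq_zero j F n x hx)

end Groth.Agent.Lib.Helper27.EtTrace
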