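import Mathlib
import Groth.Prelude.Def_EtBase
import Groth.Agent.Lib.Helper27.DivTors
import Groth.Agent.Lib.Helper27.DivMain
import Groth.Agent.Lib.Helper27.EtRat9
import Groth.Agent.Lib.Helper27.EtTrace2

/-!
# `H^q(X_et, G_m)` is torsion for `q ≥ 2` on a locally factorial integral noetherian scheme
-/

set_option autoImplicit false
set_option backward.isDefEq.respectTransparency false
set_option backward.isDefEq.respectTransparency.types false

universe u

namespace Groth.Agent.Lib.Helper27.DivTors2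

open CategoryTheory CategoryTheory.Limits AlgebraicGeometry Opposite Abelian
open Groth.Agent.Lib.Helper27.DivGeo2 Groth.Agent.Lib.Helper27.DivGeo3
  Groth.Agent.Lib.Helper27.DivGeo4 Groth.Agent.Lib.Helper27.DivGeo5
  Groth.Agent.Lib.Helper27.DivMain

variable {X : Scheme.{u}} [IsIntegral X] [IsNoetherian X]
  (hd : ∀ (U : X.Etale) (u : U.left), IsDomain (U.left.presheaf.stalk u))
  (hn : ∀ (U : X.Etale) (u : U.left), IsIntegrallyClosed (U.left.presheaf.stalk u))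
  (hufd : ∀ (U : X.Etale) (u : U.left), UniqueFactorizationMonoid (U.left.presheaf.stalk u))

include hd hn hufd in
theorem isAddTorsion_H_Gm_integral (n : ℕ) : IsAddTorsion (EtCoh.H X (EtCoh.Gm X) (n + 2)) := by
  intro ξ
  obtain ⟨hmono, ⟨e⟩⟩ := divisor_sequence hd hn hufd
    (Cofan.mk (∐ fun x : Idx X => CZ x.1) (Sigma.ι _)) (coproductIsCoproduct _)
  haveI := hmono
  let S := ShortComplex.mk (aX X) (cokernel.π (aX X)) (cokernel.condition _)
  have hS : S.ShortExact := { exact := ShortComplex.exact_cokernel _ }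
  -- step 1
  have h1 : IsAddTorsion (EtCoh.H X (BX X) (n + 1 + 1)) :=
    Groth.Agent.Lib.Helper27.EtRat.isAddTorsion_H_push (jX X) (n + 1)
      (EtCoh.Gm (Spec X.functionField))
  obtain ⟨d₁, hd₁, hz₁⟩ := isOfFinAddOrder_iff_nsmul_eq_zero.1
    (h1 (ξ.comp (Ext.mk₀ S.f) (add_zero _)))
  have hz₁' : (d₁ • ξ).comp (Ext.mk₀ S.f) (add_zero _) = 0 := by
    rw [Groth.Agent.Lib.Helper27.EtTrace.nsmul_comp]; exact hz₁
  obtain ⟨y, hy⟩ := Ext.covariant_sequence_exact₁ _ hS (d₁ • ξ) hz₁' (rfl : n + 1 + 1 = n + 2)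
  -- step 3
  have h3 : IsAddTorsion (EtCoh.H X (∐ fun x : Idx X => CZ x.1) (n + 1)) :=
    Groth.Agent.Lib.Helper27.DivTors.isAddTorsion_H_coprod _ (n + 1) (fun x =>
      Groth.Agent.Lib.Helper27.EtRat.isAddTorsion_H_push (iX x.1) n
        (EtCoh.const (Spec (X.residueField x.1)) ℤ))
  obtain ⟨d₂, hd₂, hz₂⟩ := isOfFinAddOrder_iff_nsmul_eq_zero.1
    (h3 (y.comp (Ext.mk₀ e.hom) (add_zero _)))
  have hy0 : d₂ • y = 0 := by
    have : y = (y.comp (Ext.mk₀ e.hom) (add_zero _)).comp (Ext.mk₀ e.inv) (add_zero _) := by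
      rw [Ext.comp_assoc_of_third_deg_zero, Ext.mk₀_comp_mk₀, Iso.hom_inv_id, Ext.comp_mk₀_id]
    rw [this, ← Groth.Agent.Lib.Helper27.EtTrace.nsmul_comp, hz₂, Ext.zero_comp]
  refine isOfFinAddOrder_iff_nsmul_eq_zero.2 ⟨d₂ * d₁, Nat.mul_pos hd₂ hd₁, ?_⟩
  rw [mul_nsmul', ← hy, ← Groth.Agent.Lib.Helper27.EtTrace.nsmul_comp, hy0, Ext.zero_comp]

end Groth.Agent.Lib.Helper27.DivTors2
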