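import Mathlib
import Groth.Prelude.Def_EtBase
import Groth.Agent.Lib.Helper27.DivTors2
import Groth.Agent.Lib.Helper27.DivDecomp
import Groth.Agent.Lib.Helper23.MVOpen2
import Groth.Agent.Lib.Helper27.EtH90d
import Groth.Agent.S0101

/-!
# `H^q(X_et, G_m)` is torsion for `q ≥ 2` on a noetherian scheme all of whose étale local rings
are factorial
-/

set_option autoImplicit false
set_option backward.isDefEq.respectTransparency false
set_option backward.isDefEq.respectTransparency.types false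

universe u

namespace Groth.Agent.Lib.Helper27.DivTors3

open CategoryTheory CategoryTheory.Limits AlgebraicGeometry Opposite Abelian

/-- abelian sheaves on the empty scheme are zero -/
theorem isZero_of_isEmpty {Z : Scheme.{u}} [IsEmpty Z] (G : EtCoh.Ab Z) : IsZero G := by
  rw [IsZero.iff_id_eq_zero]
  apply ObjectProperty.hom_ext
  ext T x
  haveI : IsEmpty T.unop.left :=
    ⟨fun t => IsEmpty.false (Groth.Agent.Lib.Helper27.DivGeo3.homX T.unop t)⟩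
  have hterm := Sheaf.isTerminalOfBotCover G T.unop
    (Groth.Agent.Lib.Helper23.EtGlue.bot_mem_of_isEmpty T.unop)
  have h : Subsingleton (G.obj.obj T) := by
    refine ⟨fun a b => ?_⟩
    let fa : AddCommGrpCat.of (ULift.{u+1} ℤ) ⟶ G.obj.obj (op T.unop) :=
      AddCommGrpCat.ofHom ((zmultiplesHom _ a).comp (AddEquiv.ulift.toAddMonoidHom))
    let fb : AddCommGrpCat.of (ULift.{u+1} ℤ) ⟶ G.obj.obj (op T.unop) :=
      AddCommGrpCat.ofHom ((zmultiplesHom _ b).comp (AddEquiv.ulift.toAddMonoidHom))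
    have := hterm.hom_ext fa fb
    have h2 := ConcreteCategory.congr_hom this ⟨1⟩
    have e1 : (AddEquiv.ulift : ULift.{u+1} ℤ ≃+ ℤ) ⟨1⟩ = 1 := rfl
    simpa [fa, fb, e1] using h2
  exact h.elim _ _

theorem subsingleton_H_of_isEmpty {Z : Scheme.{u}} [IsEmpty Z] (G : EtCoh.Ab Z) (n : ℕ) :
    Subsingleton (EtCoh.H Z G n) := by
  refine ⟨fun a b => ?_⟩
  have key : ∀ x : EtCoh.H Z G n, x = 0 := by
    intro x
    have : x = x.comp (Ext.mk₀ (𝟙 G)) (add_zero n) := (Ext.comp_mk₀_id x).symm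
    rw [this, (isZero_of_isEmpty G).eq_of_src (𝟙 G) 0, Ext.mk₀_zero, Ext.comp_zero]
  rw [key a, key b]

theorem isAddTorsion_H_of_iso {X : Scheme.{u}} {F F' : EtCoh.Ab X} (e : F ≅ F') (i : ℕ)
    (h : IsAddTorsion (EtCoh.H X F' i)) : IsAddTorsion (EtCoh.H X F i) := by
  intro x
  have h1 : (x.comp (Ext.mk₀ e.hom) (add_zero i)).comp (Ext.mk₀ e.inv) (add_zero i) = x := by
    rw [Ext.comp_assoc_of_third_deg_zero, Ext.mk₀_comp_mk₀, Iso.hom_inv_id, Ext.comp_mk₀_id]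
  obtain ⟨d, hd, hz⟩ := isOfFinAddOrder_iff_nsmul_eq_zero.1 (h (x.comp (Ext.mk₀ e.hom) (add_zero i)))
  refine isOfFinAddOrder_iff_nsmul_eq_zero.2 ⟨d, hd, ?_⟩
  rw [← h1, ← Groth.Agent.Lib.Helper27.EtTrace.nsmul_comp, hz, Ext.zero_comp]

/-- Mayer–Vietoris step: torsion-ness of `H^{n+1}(-, G_m)` glues along a clopen decomposition -/
theorem torsion_mv (n : ℕ) (Y : Scheme.{u}) (V₁ V₂ : Y.Opens) (h12 : V₁ ⊔ V₂ = ⊤)
    (h12' : V₁ ⊓ V₂ = ⊥)
    (h1 : IsAddTorsion (EtCoh.H ↑V₁ (EtCoh.Gm ↑V₁) (n + 1)))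
    (h2 : IsAddTorsion (EtCoh.H ↑V₂ (EtCoh.Gm ↑V₂) (n + 1))) :
    IsAddTorsion (EtCoh.H Y (EtCoh.Gm Y) (n + 1)) := by
  haveI : ∀ {A B : Scheme.{u}} (f : A ⟶ B), PreservesFiniteLimits (EtCoh.pull f) :=
    fun f => Groth.Agent.S0101.result f
  obtain ⟨δ, -, hker, -, -⟩ := Groth.Agent.Lib.Helper23.MVOpen.mv V₁ V₂ h12 (EtCoh.Gm Y)
  haveI : IsEmpty ↥(↑(V₁ ⊓ V₂) : Scheme.{u}) := by
    rw [h12']
    exact ⟨fun x => x.2⟩
  have hsub := subsingleton_H_of_isEmpty ((EtCoh.pull (V₁ ⊓ V₂).ι).obj (EtCoh.Gm Y)) n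
  have hinj : ∀ ξ : EtCoh.H Y (EtCoh.Gm Y) (n + 1),
      EtCore.Hpull V₁.ι (EtCoh.Gm Y) (n + 1) ξ = 0 →
      EtCore.Hpull V₂.ι (EtCoh.Gm Y) (n + 1) ξ = 0 → ξ = 0 := by
    intro ξ e1 e2
    have hm : ξ ∈ (AddMonoidHom.prod (EtCore.Hpull V₁.ι (EtCoh.Gm Y) (n + 1))
        (EtCore.Hpull V₂.ι (EtCoh.Gm Y) (n + 1))).ker := by
      rw [AddMonoidHom.mem_ker, AddMonoidHom.prod_apply, e1, e2]; rfl
    rw [hker n] at hm
    obtain ⟨y, rfl⟩ := hm
    rw [hsub.elim y 0, map_zero]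
  have t1 := isAddTorsion_H_of_iso (Groth.Agent.Lib.Helper27.EtH90.pullGmIso V₁.ι) (n + 1) h1
  have t2 := isAddTorsion_H_of_iso (Groth.Agent.Lib.Helper27.EtH90.pullGmIso V₂.ι) (n + 1) h2
  intro ξ
  obtain ⟨d₁, hd₁, hz₁⟩ := isOfFinAddOrder_iff_nsmul_eq_zero.1
    (t1 (EtCore.Hpull V₁.ι (EtCoh.Gm Y) (n + 1) ξ))
  obtain ⟨d₂, hd₂, hz₂⟩ := isOfFinAddOrder_iff_nsmul_eq_zero.1
    (t2 (EtCore.Hpull V₂.ι (EtCoh.Gm Y) (n + 1) ξ))
  refine isOfFinAddOrder_iff_nsmul_eq_zero.2 ⟨d₁ * d₂, Nat.mul_pos hd₁ hd₂, ?_⟩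
  apply hinj
  · rw [map_nsmul, mul_nsmul, hz₁, nsmul_zero]
  · rw [map_nsmul, mul_nsmul', hz₂, nsmul_zero]

theorem isAddTorsion_H_Gm (X : Scheme.{u}) [IsNoetherian X]
    (hfact : ∀ (U : X.Etale) (u : U.left), IsDomain (U.left.presheaf.stalk u) ∧
      UniqueFactorizationMonoid (U.left.presheaf.stalk u)) (n : ℕ) :
    IsAddTorsion (EtCoh.H X (EtCoh.Gm X) (n + 2)) := by
  refine Groth.Agent.Lib.Helper27.DivDecomp.decomp_induction
    (fun Y => IsAddTorsion (EtCoh.H Y (EtCoh.Gm Y) (n + 2))) ?_ ?_ X ?_ ?_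
  · intro Y hY ξ
    have := subsingleton_H_of_isEmpty (EtCoh.Gm Y) (n + 2)
    rw [this.elim ξ 0]
    exact isOfFinAddOrder_iff_nsmul_eq_zero.2 ⟨1, one_pos, by simp⟩
  · intro Y V₁ V₂ h12 h12' h1 h2
    exact torsion_mv (n + 1) Y V₁ V₂ h12 h12' h1 h2
  · intro x
    have := (hfact (Scheme.Etale.mk (𝟙 X)) x).1
    exact this
  · intro Y j _ _
    haveI : IsLocallyNoetherian Y := isLocallyNoetherian_of_isOpenImmersion j
    haveI : CompactSpace Y := by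
      have hc : IsCompact (Set.range j) :=
        (TopologicalSpace.NoetherianSpace.isCompact (Set.range j))
      exact j.isOpenEmbedding.isEmbedding.isInducing.isCompact_iff.mpr
        (by rwa [Set.image_univ]) |> isCompact_univ_iff.mp
    haveI : IsNoetherian Y := ⟨⟩
    have hf : ∀ (U : Y.Etale) (u : U.left), IsDomain (U.left.presheaf.stalk u) ∧
        UniqueFactorizationMonoid (U.left.presheaf.stalk u) := fun U u =>
      hfact (Scheme.Etale.mk (Groth.Agent.Lib.Helper27.DivGeo3.homX U ≫ j)) u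
    refine Groth.Agent.Lib.Helper27.DivTors2.isAddTorsion_H_Gm_integral
      (fun U u => (hf U u).1) (fun U u => ?_) (fun U u => (hf U u).2) n
    haveI := (hf U u).1
    haveI := (hf U u).2
    infer_instance

end Groth.Agent.Lib.Helper27.DivTors3
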