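import Mathlib
import Groth.Prelude.Def_EtBase
import Groth.Prelude.Def_EtLim
import Groth.Agent.Lib.Helper27.BrInj2
import Groth.Agent.Lib.Helper27.DivTors3

/-!
# Injectivity of `H²(X, G_m) → ∏ H²(O_{X,η}, G_m)` over the maximal points, for a noetherian scheme
all of whose étale local rings are factorial
-/

set_option autoImplicit false
set_option backward.isDefEq.respectTransparency false
set_option backward.isDefEq.respectTransparency.types false

universe u

namespace Groth.Agent.Lib.Helper27.BrInj3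

open CategoryTheory CategoryTheory.Limits AlgebraicGeometry Opposite Abelian
open Groth.Agent.Lib.Helper27.DivGeo2 Groth.Agent.Lib.Helper27.DivGeo3

/-- exactness of inverse images, as a local instance -/
local instance pfl {A B : Scheme.{u}} (f : A ⟶ B) : PreservesFiniteLimits (EtCoh.pull f) :=
  Groth.Agent.S0101.result f

/-- Mayer–Vietoris injectivity for a clopen decomposition -/
theorem mv_injective (n : ℕ) (Y : Scheme.{u}) (V₁ V₂ : Y.Opens) (h12 : V₁ ⊔ V₂ = ⊤)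
    (h12' : V₁ ⊓ V₂ = ⊥) (F : EtCoh.Ab Y) (ξ : EtCoh.H Y F (n + 1))
    (e1 : EtCore.Hpull V₁.ι F (n + 1) ξ = 0) (e2 : EtCore.Hpull V₂.ι F (n + 1) ξ = 0) :
    ξ = 0 := by
  obtain ⟨δ, -, hker, -, -⟩ := Groth.Agent.Lib.Helper23.MVOpen.mv V₁ V₂ h12 F
  haveI : IsEmpty ↥(↑(V₁ ⊓ V₂) : Scheme.{u}) := by
    rw [h12']
    exact ⟨fun x => x.2⟩
  have hsub := Groth.Agent.Lib.Helper27.DivTors3.subsingleton_H_of_isEmpty
    ((EtCoh.pull (V₁ ⊓ V₂).ι).obj F) n
  have hm : ξ ∈ (AddMonoidHom.prod (EtCore.Hpull V₁.ι F (n + 1))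
      (EtCore.Hpull V₂.ι F (n + 1))).ker := by
    rw [AddMonoidHom.mem_ker, AddMonoidHom.prod_apply, e1, e2]; rfl
  rw [hker n] at hm
  obtain ⟨y, rfl⟩ := hm
  rw [hsub.elim y 0, map_zero]

/-- the property propagated by the decomposition -/
def P (Y : Scheme.{u}) : Prop :=
  ∀ ξ : EtCoh.H Y (EtCoh.Gm Y) 2,
    (∀ y : Y, (∀ y' : Y, y' ⤳ y → y' = y) → EtLim.HGmPull (Y.fromSpecStalk y) 2 ξ = 0) → ξ = 0

lemma P_empty (Y : Scheme.{u}) (hY : IsEmpty Y) : P Y := by
  intro ξ _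
  exact (Groth.Agent.Lib.Helper27.DivTors3.subsingleton_H_of_isEmpty (EtCoh.Gm Y) 2).elim _ _

lemma hyp_restrict (Y : Scheme.{u}) (V : Y.Opens) (ξ : EtCoh.H Y (EtCoh.Gm Y) 2)
    (hξ : ∀ y : Y, (∀ y' : Y, y' ⤳ y → y' = y) → EtLim.HGmPull (Y.fromSpecStalk y) 2 ξ = 0)
    (v : V.toScheme) (hv : ∀ v' : V.toScheme, v' ⤳ v → v' = v) :
    EtLim.HGmPull (V.toScheme.fromSpecStalk v) 2 (EtLim.HGmPull V.ι 2 ξ) = 0 := by
  rw [← Groth.Agent.Lib.Helper27.BrInj1.HGmPull_comp V.ι (V.toScheme.fromSpecStalk v) _ rfl]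
  have hmax : ∀ y' : Y, y' ⤳ V.ι v → y' = V.ι v := by
    intro y' hy'
    have hmem : y' ∈ V := hy'.mem_open V.2 v.2
    have h1 : (⟨y', hmem⟩ : V.toScheme) ⤳ v := by
      rw [← V.ι.isOpenEmbedding.isInducing.specializes_iff]
      exact hy'
    have h2 := hv _ h1
    rw [← h2]
    rfl
  have h0 := hξ (V.ι v) hmax
  rw [Groth.Agent.Lib.Helper27.BrInj1.HGmPull_comp (Y.fromSpecStalk (V.ι v))
    (Spec.map (V.ι.stalkMap v)) (V.toScheme.fromSpecStalk v ≫ V.ι)
    (Scheme.SpecMap_stalkMap_fromSpecStalk V.ι), h0, map_zero]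

lemma P_mv (Y : Scheme.{u}) (V₁ V₂ : Y.Opens) (h12 : V₁ ⊔ V₂ = ⊤) (h12' : V₁ ⊓ V₂ = ⊥)
    (h1 : P V₁) (h2 : P V₂) : P Y := by
  intro ξ hξ
  apply mv_injective 1 Y V₁ V₂ h12 h12'
  · apply Groth.Agent.Lib.Helper27.BrInj1.Hpull_eq_zero_of_HGmPull_eq_zero
    exact h1 _ (fun v hv => hyp_restrict Y V₁ ξ hξ v hv)
  · apply Groth.Agent.Lib.Helper27.BrInj1.Hpull_eq_zero_of_HGmPull_eq_zero
    exact h2 _ (fun v hv => hyp_restrict Y V₂ ξ hξ v hv)

theorem main (X : Scheme.{u}) [IsNoetherian X]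
    (hfact : ∀ (U : X.Etale) (u : U.left), IsDomain (U.left.presheaf.stalk u) ∧
      UniqueFactorizationMonoid (U.left.presheaf.stalk u)) : P X := by
  refine Groth.Agent.Lib.Helper27.DivDecomp.decomp_induction P P_empty P_mv X ?_ ?_
  · intro x
    have := (hfact (Scheme.Etale.mk (𝟙 X)) x).1
    exact this
  · intro Y j _ _
    haveI : IsLocallyNoetherian Y := isLocallyNoetherian_of_isOpenImmersion j
    haveI : CompactSpace Y := by
      have hc : IsCompact (Set.range j) :=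
        (TopologicalSpace.NoetherianSpace.isCompact (Set.range j))
      exact j.isOpenEmbedding.isEmbedding.isInducing.isCompact_iff.mpr
        (by rwa [Set.image_univ]) |> isCompact_univ_iff.mp
    haveI : IsNoetherian Y := ⟨⟩
    have hf : ∀ (U : Y.Etale) (u : U.left), IsDomain (U.left.presheaf.stalk u) ∧
        UniqueFactorizationMonoid (U.left.presheaf.stalk u) := fun U u =>
      hfact (Scheme.Etale.mk (Groth.Agent.Lib.Helper27.DivGeo3.homX U ≫ j)) u
    intro ξ hξ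
    refine Groth.Agent.Lib.Helper27.BrInj2.eq_zero_of_HGmPull_jX
      (fun U u => (hf U u).1) (fun U u => ?_) (fun U u => (hf U u).2) ξ ?_
    · haveI := (hf U u).1
      haveI := (hf U u).2
      infer_instance
    · apply hξ (genericPoint Y)
      intro y' hy'
      exact hy'.antisymm (genericPoint_specializes y') |>.eq

end Groth.Agent.Lib.Helper27.BrInj3
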