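import Groth.Agent.Lib.Helper9.AlgSpGlue

/-!
# Gluing maps out of an algebraic space from étale-local data determined by a relation (helper27)

Let `M` be an algebraic space, `N` a sheaf, and `Rel` a restriction-stable relation between
sections of `M` and of `N`.  If for every affine scheme `V` étale over `M` there is exactly one
map `V ⟶ N` compatible with the relation, then there is exactly one map `M ⟶ N` compatible with
the relation.  (Adapted from helper9's `AlgSpGlue`.)
-/

set_option autoImplicit false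
set_option backward.isDefEq.respectTransparency.types false

universe u

open CategoryTheory CategoryTheory.Limits AlgebraicGeometry Opposite
open AlgSp
open Groth.Agent.Lib.Helper3

namespace Groth.Agent.Lib.Helper27.CatMod

variable {S : Scheme.{u}} {M N : Sp S}
  (Rel : ∀ W : Over S, ((yon S).obj W ⟶ M) → ((yon S).obj W ⟶ N) → Prop)

/-- `l` is compatible with the relation along `t`. -/
def Good {V : Over S} (t : (yon S).obj V ⟶ M) (l : (yon S).obj V ⟶ N) : Prop :=
  ∀ (W' : Over S) (v : W' ⟶ V) (n : (yon S).obj W' ⟶ N),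
    Rel W' ((yon S).map v ≫ t) n → (yon S).map v ≫ l = n

variable {Rel}

theorem Good.restrict {V V' : Over S} {t : (yon S).obj V ⟶ M} {l : (yon S).obj V ⟶ N}
    (h : Good Rel t l) (g : V' ⟶ V) : Good Rel ((yon S).map g ≫ t) ((yon S).map g ≫ l) := by
  intro W' v n hn
  rw [← Category.assoc, ← Functor.map_comp] at hn ⊢
  exact h W' (v ≫ g) n hn

section

variable (hRel : ∀ {W W' : Over S} (h : W' ⟶ W) {m : (yon S).obj W ⟶ M} {n : (yon S).obj W ⟶ N},
    Rel W m n → Rel W' ((yon S).map h ≫ m) ((yon S).map h ≫ n))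
  (H : ∀ (V : Over S), IsAffine V.left → ∀ t : (yon S).obj V ⟶ M, RepWith @Etale t →
    ∃! l : (yon S).obj V ⟶ N, Good Rel t l)

include H in
theorem good_unique {V : Over S} (t : (yon S).obj V ⟶ M) (ht : RepWith @Etale t)
    (l l' : (yon S).obj V ⟶ N) (hl : Good Rel t l) (hl' : Good Rel t l') : l = l' := by
  apply Groth.Agent.Lib.Helper9.AlgSpFU.hom_ext_of_openCover V.left.affineCover
  intro i
  let ι : Over.mk (V.left.affineCover.f i ≫ V.hom) ⟶ V := Over.homMk (V.left.affineCover.f i) rfl
  have hιe : RepWith @Etale ((yon S).map ι) :=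
    (repWith_yon_map_iff @Etale ι).2 (inferInstanceAs (Etale (V.left.affineCover.f i)))
  have hte : RepWith @Etale ((yon S).map ι ≫ t) := (RepWith @Etale.{u}).comp_mem _ _ hιe ht
  have haff : IsAffine (Over.mk (V.left.affineCover.f i ≫ V.hom)).left :=
    inferInstanceAs (IsAffine (V.left.affineCover.X i))
  exact (H _ haff _ hte).unique (hl.restrict ι) (hl'.restrict ι)

include hRel H in
theorem exists_good {V : Over S} (t : (yon S).obj V ⟶ M) (ht : RepWith @Etale t) :
    ∃ l : (yon S).obj V ⟶ N, Good Rel t l := by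
  let 𝒰 := V.left.affineCover
  let ι : ∀ i, Over.mk (𝒰.f i ≫ V.hom) ⟶ V := fun i => Over.homMk (𝒰.f i) rfl
  have hιe : ∀ i, RepWith @Etale ((yon S).map (ι i)) := fun i =>
    (repWith_yon_map_iff @Etale (ι i)).2 (inferInstanceAs (Etale (𝒰.f i)))
  have hte : ∀ i, RepWith @Etale ((yon S).map (ι i) ≫ t) := fun i =>
    (RepWith @Etale.{u}).comp_mem _ _ (hιe i) ht
  have haff : ∀ i, IsAffine (Over.mk (𝒰.f i ≫ V.hom)).left := fun i =>
    inferInstanceAs (IsAffine (𝒰.X i))
  choose li hli _ using fun i => H _ (haff i) _ (hte i)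
  have hcompat : ∀ i j' (Z : Over S) (gi : Z ⟶ Over.mk (𝒰.f i ≫ V.hom))
      (gj : Z ⟶ Over.mk (𝒰.f j' ≫ V.hom)), gi ≫ ι i = gj ≫ ι j' →
      (yon S).map gi ≫ li i = (yon S).map gj ≫ li j' := by
    intro i j' Z gi gj hg
    have hsqP := IsPullback.of_hasPullback (ι i) (ι j')
    have hsqP' := hsqP.map (Over.forget S)
    have hopen : IsOpenImmersion (pullback.fst (ι i) (ι j')).left :=
      MorphismProperty.of_isPullback (P := @IsOpenImmersion) hsqP'.flip
        (inferInstanceAs (IsOpenImmersion (𝒰.f j')))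
    have hopen2 : IsOpenImmersion (pullback.fst (ι i) (ι j') ≫ ι i).left := by
      rw [Over.comp_left]
      have : IsOpenImmersion (ι i).left := inferInstanceAs (IsOpenImmersion (𝒰.f i))
      infer_instance
    have htP : RepWith @Etale ((yon S).map (pullback.fst (ι i) (ι j') ≫ ι i) ≫ t) :=
      (RepWith @Etale.{u}).comp_mem _ _
        ((repWith_yon_map_iff @Etale _).2 (by
          infer_instance)) ht
    have h1 : Good Rel ((yon S).map (pullback.fst (ι i) (ι j') ≫ ι i) ≫ t)
        ((yon S).map (pullback.fst (ι i) (ι j')) ≫ li i) := by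
      have := (hli i).restrict (pullback.fst (ι i) (ι j'))
      rwa [← Category.assoc, ← Functor.map_comp] at this
    have h2 : Good Rel ((yon S).map (pullback.fst (ι i) (ι j') ≫ ι i) ≫ t)
        ((yon S).map (pullback.snd (ι i) (ι j')) ≫ li j') := by
      have := (hli j').restrict (pullback.snd (ι i) (ι j'))
      rwa [← Category.assoc, ← Functor.map_comp, ← pullback.condition] at this
    have hP := good_unique H _ htP _ _ h1 h2
    have e1 : gi = pullback.lift gi gj hg ≫ pullback.fst (ι i) (ι j') := (pullback.lift_fst _ _ _).symm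
    have e2 : gj = pullback.lift gi gj hg ≫ pullback.snd (ι i) (ι j') := (pullback.lift_snd _ _ _).symm
    rw [e1, Functor.map_comp, Category.assoc, hP, ← Category.assoc, ← Functor.map_comp, ← e2]
  obtain ⟨l, hl⟩ := Groth.Agent.Lib.Helper9.AlgSpGlue.exists_glue_of_openCover 𝒰 li hcompat
  refine ⟨l, ?_⟩
  intro W' v n hn
  let 𝒰' : W'.left.OpenCover := 𝒰.pullback₁ v.left
  apply Groth.Agent.Lib.Helper9.AlgSpFU.hom_ext_of_openCover 𝒰'
  intro i
  let ι' : Over.mk (𝒰'.f i ≫ W'.hom) ⟶ W' := Over.homMk (𝒰'.f i) rfl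
  have hvi : pullback.snd v.left (𝒰.f i) ≫ (𝒰.f i ≫ V.hom) = 𝒰'.f i ≫ W'.hom := by
    rw [← Category.assoc, ← pullback.condition, Category.assoc, Over.w v]
    rfl
  let vi : Over.mk (𝒰'.f i ≫ W'.hom) ⟶ Over.mk (𝒰.f i ≫ V.hom) :=
    Over.homMk (pullback.snd v.left (𝒰.f i)) hvi
  have hcomm : ι' ≫ v = vi ≫ ι i := by
    ext
    exact pullback.condition
  change (yon S).map ι' ≫ (yon S).map v ≫ l = (yon S).map ι' ≫ n
  rw [← Category.assoc, ← Functor.map_comp, hcomm, Functor.map_comp, Category.assoc, hl i]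
  apply hli i
  have h3 := hRel ι' hn
  rw [← Category.assoc, ← Functor.map_comp, hcomm, Functor.map_comp, Category.assoc] at h3
  exact h3

include hRel H in
/-- The gluing statement. -/
theorem existsUnique_of_affine_etale (hM : IsAlgSpace M) :
    ∃! g : M ⟶ N, ∀ (W : Over S) (m : (yon S).obj W ⟶ M) (n : (yon S).obj W ⟶ N),
      Rel W m n → m ≫ g = n := by
  obtain ⟨V, p, hpe, hps⟩ := hM.atlas
  have hp : Sheaf.IsLocallySurjective p :=
    Groth.Agent.S9883.isLocallySurjective_of_etale_surjective p hpe hps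
  have hpepi : Epi p := inferInstance
  obtain ⟨lV, hlV⟩ := exists_good hRel H p hpe
  -- the kernel pair condition
  have hker : ∀ {Z : Sp S} (g₁ g₂ : Z ⟶ (yon S).obj V), g₁ ≫ p = g₂ ≫ p → g₁ ≫ lV = g₂ ≫ lV := by
    intro Z g₁ g₂ hg
    have sqR := hpe.rep.isPullback p
    obtain ⟨r₁, hr₁⟩ := (yon S).map_surjective (hpe.rep.fst p)
    have hr₂e : RepWith @Etale ((yon S).map (hpe.rep.snd p)) :=
      (repWith_yon_map_iff @Etale _).2 (hpe.property_snd p)
    have htR : RepWith @Etale ((yon S).map (hpe.rep.snd p) ≫ p) :=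
      (RepWith @Etale.{u}).comp_mem _ _ hr₂e hpe
    have h2 := hlV.restrict (hpe.rep.snd p)
    have h1 := hlV.restrict r₁
    rw [hr₁, sqR.w] at h1
    have hR := good_unique H _ htR _ _ h1 h2
    have e1 : g₁ = sqR.lift g₁ g₂ hg ≫ hpe.rep.fst p := (sqR.lift_fst _ _ _).symm
    have e2 : g₂ = sqR.lift g₁ g₂ hg ≫ (yon S).map (hpe.rep.snd p) := (sqR.lift_snd _ _ _).symm
    rw [e1, Category.assoc, hR, ← Category.assoc, ← e2]
  have hreg : RegularEpi p := regularEpiOfEpi p
  obtain ⟨g, hg⟩ := RegularEpi.desc' hreg lV (hker _ _ hreg.w)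
  refine ⟨g, ?_, ?_⟩
  · intro W m n hmn
    -- pull the atlas back along `m`
    have sq := hpe.rep.isPullback m
    obtain ⟨r₁, hr₁⟩ := (yon S).map_surjective (hpe.rep.fst m)
    have hfe : RepWith @Etale ((yon S).map (hpe.rep.snd m)) :=
      MorphismProperty.of_isPullback sq hpe
    have hfs : RepWith @Surjective ((yon S).map (hpe.rep.snd m)) :=
      MorphismProperty.of_isPullback sq hps
    have : Sheaf.IsLocallySurjective ((yon S).map (hpe.rep.snd m)) :=
      Groth.Agent.S9883.isLocallySurjective_of_etale_surjective _ hfe hfs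
    have : Epi ((yon S).map (hpe.rep.snd m)) := inferInstance
    rw [← cancel_epi ((yon S).map (hpe.rep.snd m)), ← Category.assoc, ← sq.w, Category.assoc, hg,
      ← hr₁]
    apply hlV
    have h3 := hRel (hpe.rep.snd m) hmn
    rw [← sq.w, ← hr₁] at h3
    exact h3
  · intro g' hg'
    have hl' : Good Rel p (p ≫ g') := by
      intro W' v n hn
      rw [← Category.assoc]
      exact hg' W' _ n hn
    have := good_unique H p hpe _ _ hl' hlV
    rw [← cancel_epi p, this, hg]

end

end Groth.Agent.Lib.Helper27.CatMod
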