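import Groth.Prelude.Def_StGerb2
import Groth.Agent.Lib.Helper27.GerbAux

/-!
# The presheaf of isomorphism classes of a gerbe over a presheaf of sets (helper27)
-/

set_option autoImplicit false
set_option backward.isDefEq.respectTransparency false
set_option backward.isDefEq.respectTransparency.types false

universe v₂ u₂ v u

open CategoryTheory Opposite

namespace Groth.Agent.Lib.Helper27.GerbIsoCl

variable {C : Type u} [Category.{v} C] (J : GrothendieckTopology C)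
  {𝒳 : BasedCategory.{v₂, u₂} C} {P : Cᵒᵖ ⥤ Type u₂} (π : 𝒳 ⥤ᵇ Stk.ofPsh P)

/-- The section attached to an object over `V`. -/
def sec (a : 𝒳.obj) {V : C} (h : 𝒳.p.obj a = V) : P.obj (op V) :=
  P.map (eqToHom ((π.w_obj a).trans h).symm).op (π.obj a).sec

theorem sec_of_hom {a b : 𝒳.obj} (ψ : a ⟶ b) {V U : C} (f : V ⟶ U) (hψ : 𝒳.p.IsHomLift f ψ)
    (ha : 𝒳.p.obj a = V) (hb : 𝒳.p.obj b = U) : sec π a ha = P.map f.op (sec π b hb) := by
  subst ha hb
  haveI := hψ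
  have h1 : (Stk.ofPsh P).p.IsHomLift f (π.map ψ) := BasedFunctor.preserves_isHomLift π f ψ
  have h2 := IsHomLift.fac' (Stk.ofPsh P).p f (π.map ψ)
  have h3 := (π.map ψ).map_sec
  unfold sec
  rw [← h3]
  have h4 : eqToHom ((π.w_obj a).trans rfl).symm ≫ (π.map ψ).hom = f ≫ eqToHom ((π.w_obj b).trans rfl).symm := by
    change _ ≫ (Stk.ofPsh P).p.map (π.map ψ) = _
    rw [h2]
    simp
  have h5 := congrArg (fun g => P.map g.op (π.obj b).sec) h4
  simp only [op_comp, Functor.map_comp] at h5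
  exact h5

variable [FibCat.IsFibGrpd 𝒳.p]

/-- The map on classes over `U`. -/
def cApp (U : C) : Gerb.IsoCl 𝒳 U → P.obj (op U) :=
  Quot.lift (fun a : 𝒳.p.Fiber U => sec π a.1 a.2) (by
    rintro a b ⟨φ⟩
    have := sec_of_hom π φ.1 (𝟙 U) φ.2 a.2 b.2
    simpa using this)

theorem cApp_mk (U : C) (a : 𝒳.p.Fiber U) : cApp π U (Quot.mk _ a) = sec π a.1 a.2 := rfl

theorem sec_pullFib {U V : C} (f : V ⟶ U) (a : 𝒳.p.Fiber U) :
    sec π (Gerb.pullFib 𝒳 f a).1 (Gerb.pullFib 𝒳 f a).2 = P.map f.op (sec π a.1 a.2) := by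
  obtain ⟨xa, ha⟩ := a
  subst ha
  have := sec_of_hom π (Gerb.pullHom 𝒳 xa (f ≫ eqToHom rfl)) (f ≫ eqToHom rfl)
    (Gerb.pullHom_isHomLift 𝒳 xa _) (Gerb.pull_over 𝒳 xa _) rfl
  refine this.trans ?_
  simp

/-- The map of presheaves from isomorphism classes to `P`. -/
noncomputable def c : Gerb.isoClPsh 𝒳 ⟶ P where
  app U := ↾(cApp π U.unop)
  naturality U V f := by
    ext a
    obtain ⟨a⟩ := a
    exact sec_pullFib π f.unop a

theorem c_fib (x : 𝒳.obj) : (c π).app (op (𝒳.p.obj x)) (Quot.mk _ (Gerb.fib x)) =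
    P.map (eqToHom (π.w_obj x).symm).op (π.obj x).sec := rfl

omit [FibCat.IsFibGrpd 𝒳.p] in
theorem isHomLift_comp_eqToHom {x₀ x : 𝒳.obj} {V U : C} (f : V ⟶ U) (ψ : x₀ ⟶ x)
    (h : 𝒳.p.IsHomLift f ψ) (hx : 𝒳.p.obj x = U) : 𝒳.p.IsHomLift (f ≫ eqToHom hx.symm) ψ := by
  subst hx
  simpa using h

/-- The class of the source of any lift of `f` at `a` is the class of the chosen lift. -/
theorem mk_eq_pullFib {U V : C} (f : V ⟶ U) (a : 𝒳.p.Fiber U) {x₀ : 𝒳.obj} (φ : x₀ ⟶ a.1)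
    (hφ : 𝒳.p.IsHomLift f φ) (h₀ : 𝒳.p.obj x₀ = V) :
    Quot.mk (Gerb.IsoRel 𝒳 V) ⟨x₀, h₀⟩ = Quot.mk (Gerb.IsoRel 𝒳 V) (Gerb.pullFib 𝒳 f a) := by
  obtain ⟨χ, hχ, -⟩ := Gerb.exists_hom_pull 𝒳 a.1 (f ≫ eqToHom a.2.symm) φ
    (isHomLift_comp_eqToHom f φ hφ a.2)
  exact Quot.sound ⟨⟨χ, hχ⟩⟩

theorem isLocallySurjective_c (hπ : Gerb.LocSurjObj J π) :
    Presheaf.IsLocallySurjective J (c π) where
  imageSieve_mem {U} s := by
    obtain ⟨R, hR, h⟩ := hπ (⟨U, s⟩ : Stk.EltObj P)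
    refine J.superset_covering ?_ hR
    intro V f hf
    obtain ⟨x, g, hg⟩ := h f hf
    have hx : 𝒳.p.obj x = V := by
      rw [← π.w_obj]; exact IsHomLift.domain_eq (Stk.ofPsh P).p f g
    refine ⟨Quot.mk _ ⟨x, hx⟩, ?_⟩
    change sec π x hx = P.map f.op s
    have h2 := IsHomLift.fac' (Stk.ofPsh P).p f g
    have h3 := g.map_sec
    unfold sec
    rw [← h3]
    have h4 : eqToHom ((π.w_obj x).trans hx).symm ≫ g.hom = f := by
      change _ ≫ (Stk.ofPsh P).p.map g = _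
      rw [h2]
      simp
    have h5 := congrArg (fun k => P.map k.op s) h4
    simp only [op_comp, Functor.map_comp] at h5
    exact h5

theorem isLocallyInjective_c (hπ : Gerb.LocSurjHom J π) :
    Presheaf.IsLocallyInjective J (c π) where
  equalizerSieve_mem {X} x y h := by
    obtain ⟨a⟩ := x
    obtain ⟨b⟩ := y
    have h' : sec π a.1 a.2 = sec π b.1 b.2 := h
    -- the comparison morphism of the images
    have hbase : (π.obj a.1).base = (π.obj b.1).base :=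
      ((π.w_obj a.1).trans a.2).trans ((π.w_obj b.1).trans b.2).symm
    have hsec : P.map (eqToHom hbase).op (π.obj b.1).sec = (π.obj a.1).sec := by
      unfold sec at h'
      have h1 := congrArg (P.map (eqToHom ((π.w_obj a.1).trans a.2)).op) h'
      simp only [← FunctorToTypes.map_comp_apply, ← op_comp, eqToHom_trans] at h1
      simpa using h1.symm
    let β : π.obj a.1 ⟶ π.obj b.1 := ⟨eqToHom hbase, hsec⟩
    have hβ : (Stk.ofPsh P).p.IsHomLift (𝟙 X.unop) β :=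
      IsHomLift.of_fac' (Stk.ofPsh P).p _ _ ((π.w_obj a.1).trans a.2) ((π.w_obj b.1).trans b.2)
        (by change eqToHom hbase = _; simp)
    obtain ⟨R, hR, hh⟩ := GerbAux.LocSurjHom.exists' J hπ a.1 b.1 β a.2 hβ
    refine J.superset_covering ?_ hR
    intro V f hf
    obtain ⟨x₀, φ, ψ, hφ, hψ, -⟩ := hh f hf
    have h₀ : 𝒳.p.obj x₀ = V := IsHomLift.domain_eq 𝒳.p f φ
    change Quot.mk _ (Gerb.pullFib 𝒳 f a) = Quot.mk _ (Gerb.pullFib 𝒳 f b)
    rw [← mk_eq_pullFib f a φ hφ h₀, ← mk_eq_pullFib f b ψ hψ h₀]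

/-- **Main theorem.** A gerbe over (the category attached to) a presheaf of sets `P`: the presheaf of
isomorphism classes maps to `P` by a locally bijective map. -/
theorem exists_c (hπ : Gerb.IsGerbeOver J π) :
    ∃ c : Gerb.isoClPsh 𝒳 ⟶ P,
      (∀ x : 𝒳.obj, c.app (op (𝒳.p.obj x)) (Quot.mk _ (Gerb.fib x)) =
          P.map (eqToHom (π.w_obj x).symm).op (π.obj x).sec) ∧
      Presheaf.IsLocallySurjective J c ∧ Presheaf.IsLocallyInjective J c :=
  ⟨c π, c_fib π, isLocallySurjective_c J π hπ.1, isLocallyInjective_c J π hπ.2⟩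

end Groth.Agent.Lib.Helper27.GerbIsoCl
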