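import Groth.Prelude.Def_AlgSt
import Groth.Agent.Lib.Helper27.FpKit

/-!
# Functors between categories of elements of presheaves (helper27)

Every functor over `C` between `Stk.ofPsh P` and `Stk.ofPsh Q` is, up to a unique vertical
isomorphism, induced by a map of presheaves.
-/

set_option autoImplicit false
set_option backward.isDefEq.respectTransparency false
set_option backward.isDefEq.respectTransparency.types false

universe w v u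

open CategoryTheory Opposite FibCat Groth.Agent.Lib.Helper27.FpKit

namespace Groth.Agent.Lib.Helper27.PshKit

variable {C : Type u} [Category.{v} C] {P Q R : Cᵒᵖ ⥤ Type w}

open Stk

theorem base_eq (Ψ : ofPsh P ⥤ᵇ ofPsh Q) (a : (ofPsh P).obj) : (Ψ.obj a).base = a.base :=
  Ψ.w_obj a

theorem map_hom (Ψ : ofPsh P ⥤ᵇ ofPsh Q) {a' a : (ofPsh P).obj} (f : a' ⟶ a) :
    (Ψ.map f).hom = eqToHom (base_eq Ψ a') ≫ f.hom ≫ eqToHom (base_eq Ψ a).symm := by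
  have h1 : (ofPsh P).p.IsHomLift ((ofPsh P).p.map f) f := IsHomLift.map _ f
  have h2 : (ofPsh Q).p.IsHomLift ((ofPsh P).p.map f) (Ψ.map f) :=
    BasedFunctor.preserves_isHomLift Ψ ((ofPsh P).p.map f) f
  exact IsHomLift.fac' (ofPsh Q).p ((ofPsh P).p.map f) (Ψ.map f)

theorem map_eqToHom_self (Q : Cᵒᵖ ⥤ Type w) {T : C} (h : T = T) (x : Q.obj (op T)) :
    Q.map (eqToHom h).op x = x := by
  rw [eqToHom_refl, op_id, Q.map_id]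
  rfl

/-- The section of the image, transported to the base of the source. -/
def secOf (Ψ : ofPsh P ⥤ᵇ ofPsh Q) (a : (ofPsh P).obj) : Q.obj (op a.base) :=
  Q.map (eqToHom (base_eq Ψ a).symm).op (Ψ.obj a).sec

theorem secOf_map (Ψ : ofPsh P ⥤ᵇ ofPsh Q) {a' a : (ofPsh P).obj} (f : a' ⟶ a) :
    Q.map f.hom.op (secOf Ψ a) = secOf Ψ a' := by
  unfold secOf
  rw [← (Ψ.map f).map_sec, ← Functor.map_comp_apply, ← Functor.map_comp_apply, ← op_comp, ← op_comp,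
    map_hom]
  simp

/-- The map of presheaves underlying a functor over `C`. -/
def pshMapOf (Ψ : ofPsh P ⥤ᵇ ofPsh Q) : P ⟶ Q where
  app T := ↾fun s => secOf Ψ ⟨T.unop, s⟩
  naturality T T' g := by
    ext s
    exact (secOf_map Ψ (⟨g.unop, rfl⟩ : (⟨T'.unop, P.map g s⟩ : EltObj P) ⟶ ⟨T.unop, s⟩)).symm

theorem pshMapOf_app (Ψ : ofPsh P ⥤ᵇ ofPsh Q) (T : C) (s : P.obj (op T)) :
    (pshMapOf Ψ).app (op T) s = secOf Ψ ⟨T, s⟩ := rfl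

theorem pshMapOf_ofPshMap (φ : P ⟶ Q) : pshMapOf (ofPshMap φ) = φ := by
  ext T s
  obtain ⟨T⟩ := T
  change secOf (ofPshMap φ) ⟨T, s⟩ = φ.app (op T) s
  exact map_eqToHom_self Q (T := T) _ (φ.app (op T) s)

/-- The comparison morphism. -/
def τhom (Ψ : ofPsh P ⥤ᵇ ofPsh Q) (a : (ofPsh P).obj) :
    (ofPshMap (pshMapOf Ψ)).obj a ⟶ Ψ.obj a :=
  ⟨eqToHom (base_eq Ψ a).symm, rfl⟩

def τinv (Ψ : ofPsh P ⥤ᵇ ofPsh Q) (a : (ofPsh P).obj) :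
    Ψ.obj a ⟶ (ofPshMap (pshMapOf Ψ)).obj a :=
  ⟨eqToHom (base_eq Ψ a), by
    change Q.map (eqToHom (base_eq Ψ a)).op (secOf Ψ a) = (Ψ.obj a).sec
    unfold secOf
    rw [← Functor.map_comp_apply, ← op_comp]
    simp⟩

/-- The comparison isomorphism. -/
def τ (Ψ : ofPsh P ⥤ᵇ ofPsh Q) (a : (ofPsh P).obj) :
    (ofPshMap (pshMapOf Ψ)).obj a ≅ Ψ.obj a where
  hom := τhom Ψ a
  inv := τinv Ψ a
  hom_inv_id := by
    apply EltObj.hom_ext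
    simp [τhom, τinv]
  inv_hom_id := by
    apply EltObj.hom_ext
    simp [τhom, τinv]

theorem τ_nat (Ψ : ofPsh P ⥤ᵇ ofPsh Q) {a' a : (ofPsh P).obj} (f : a' ⟶ a) :
    (ofPshMap (pshMapOf Ψ)).map f ≫ (τ Ψ a).hom = (τ Ψ a').hom ≫ Ψ.map f := by
  apply EltObj.hom_ext
  change f.hom ≫ eqToHom (base_eq Ψ a).symm = eqToHom (base_eq Ψ a').symm ≫ (Ψ.map f).hom
  rw [map_hom]
  simp

theorem τ_vert (Ψ : ofPsh P ⥤ᵇ ofPsh Q) (a : (ofPsh P).obj) : Vert (𝒳 := ofPsh Q) (τ Ψ a).hom := by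
  apply Vert.of_lift (U := a.base)
  apply IsHomLift.of_fac (ofPsh Q).p (𝟙 a.base) (τ Ψ a).hom rfl (base_eq Ψ a)
  change 𝟙 a.base = eqToHom rfl ≫ eqToHom (base_eq Ψ a).symm ≫ eqToHom (base_eq Ψ a)
  simp

/-- Every functor over `C` between categories of elements is isomorphic to one induced by a map of
presheaves. -/
def τIso (Ψ : ofPsh P ⥤ᵇ ofPsh Q) : ofPshMap (pshMapOf Ψ) ≅ Ψ :=
  BasedNatIso.mkNatIso (NatIso.ofComponents (fun a => τ Ψ a) (fun f => τ_nat Ψ f))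
    (fun a => (τ_vert Ψ a).lift rfl)

/-- Vertical morphisms of `ofPsh Q` have an `eqToHom` as underlying morphism. -/
theorem vert_hom {x y : (ofPsh Q).obj} (m : x ⟶ y) (hm : Vert (𝒳 := ofPsh Q) m) :
    ∃ h : x.base = y.base, m.hom = eqToHom h := by
  have hl : (ofPsh Q).p.IsHomLift (𝟙 x.base) m := hm
  have h1 := IsHomLift.fac' (ofPsh Q).p (𝟙 x.base) m
  refine ⟨(IsHomLift.codomain_eq (ofPsh Q).p (𝟙 x.base) m).symm, ?_⟩
  change m.hom = _ at h1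
  rw [h1]
  simp

theorem secOf_congr (Ψ Ψ' : ofPsh P ⥤ᵇ ofPsh Q) (a : (ofPsh P).obj) (m : Ψ.obj a ⟶ Ψ'.obj a)
    (hm : Vert (𝒳 := ofPsh Q) m) : secOf Ψ a = secOf Ψ' a := by
  obtain ⟨h, hh⟩ := vert_hom m hm
  unfold secOf
  rw [← m.map_sec, ← Functor.map_comp_apply, ← op_comp, hh]
  simp

theorem pshMapOf_congr (Ψ Ψ' : ofPsh P ⥤ᵇ ofPsh Q)
    (h : ∀ a : (ofPsh P).obj, ∃ m : Ψ.obj a ⟶ Ψ'.obj a, Vert (𝒳 := ofPsh Q) m) :
    pshMapOf Ψ = pshMapOf Ψ' := by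
  ext T s
  obtain ⟨T⟩ := T
  obtain ⟨m, hm⟩ := h ⟨T, s⟩
  exact secOf_congr Ψ Ψ' _ m hm

theorem pshMapOf_id : pshMapOf (BasedFunctor.id (ofPsh P)) = 𝟙 P := by
  ext T s
  obtain ⟨T⟩ := T
  change secOf (BasedFunctor.id (ofPsh P)) ⟨T, s⟩ = s
  exact map_eqToHom_self P (T := T) _ s

theorem pshMapOf_comp (Ψ : ofPsh P ⥤ᵇ ofPsh Q) (Ψ' : ofPsh Q ⥤ᵇ ofPsh R) :
    pshMapOf (BasedFunctor.comp Ψ Ψ') = pshMapOf Ψ ≫ pshMapOf Ψ' := by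
  ext T s
  obtain ⟨T⟩ := T
  change secOf (BasedFunctor.comp Ψ Ψ') ⟨T, s⟩ = secOf Ψ' ⟨T, secOf Ψ ⟨T, s⟩⟩
  have h1 := secOf_map Ψ' (τ Ψ ⟨T, s⟩).hom
  have h2 : secOf Ψ' ⟨T, secOf Ψ ⟨T, s⟩⟩ =
      R.map (τ Ψ ⟨T, s⟩).hom.hom.op (secOf Ψ' (Ψ.obj ⟨T, s⟩)) := h1.symm
  rw [h2]
  unfold secOf
  rw [← Functor.map_comp_apply, ← op_comp]
  have h3 : (τ Ψ ⟨T, s⟩).hom.hom ≫ eqToHom (base_eq Ψ' (Ψ.obj ⟨T, s⟩)).symm =
      eqToHom (base_eq (BasedFunctor.comp Ψ Ψ') ⟨T, s⟩).symm := by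
    have h4 : (τ Ψ ⟨T, s⟩).hom.hom = eqToHom (base_eq Ψ ⟨T, s⟩).symm := rfl
    rw [h4, eqToHom_trans]
  rw [h3]
  rfl

theorem isIso_pshMapOf (Ψ : ofPsh P ⥤ᵇ ofPsh Q) (h : IsEquivOver Ψ) : IsIso (pshMapOf Ψ) := by
  obtain ⟨Ψ', ⟨e1⟩, ⟨e2⟩⟩ := h
  refine ⟨pshMapOf Ψ', ?_, ?_⟩
  · rw [← pshMapOf_comp, ← pshMapOf_id]
    apply pshMapOf_congr
    intro a
    exact ⟨((BasedNatTrans.forgetful _ _).mapIso e1).hom.app a, Vert.app e1.hom a⟩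
  · rw [← pshMapOf_comp, ← pshMapOf_id]
    apply pshMapOf_congr
    intro a
    exact ⟨((BasedNatTrans.forgetful _ _).mapIso e2).hom.app a, Vert.app e2.hom a⟩

end Groth.Agent.Lib.Helper27.PshKit
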