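import Groth.Agent.Lib.Helper27.Descent2
import Groth.Agent.Lib.Helper27.RepWithKit
import Groth.Agent.Lib.Helper3.AlgSpOpenSubsp
import Groth.Agent.Lib.Helper3.AlgSpLocP4

/-!
# Descent of properties of representable functors along families of fppf maps of schemes (helper27)
-/

set_option autoImplicit false
set_option backward.isDefEq.respectTransparency false
set_option backward.isDefEq.respectTransparency.types false

universe u

open CategoryTheory CategoryTheory.Limits AlgebraicGeometry Opposite FibCat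
  Groth.Agent.Lib.Helper27.FpKit Groth.Agent.Lib.Helper27.PshKit Groth.Agent.Lib.Helper27.PshFp
  Groth.Agent.Lib.Helper27.PshRep Groth.Agent.Lib.Helper27.RepWithComp
  Groth.Agent.Lib.Helper27.BaseChangePres Groth.Agent.Lib.Helper27.Descent

namespace Groth.Agent.Lib.Helper27.DescentFam

variable {S : Scheme.{u}}

open Stk

variable {𝒳 𝒴 : AlgSt.Cat S}

/-- Descent along an fppf covering family, for base changes to sheaves. -/
theorem descent_sp_family (P : MorphismProperty (AlgSp.Sp S))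
    (hP : AlgSp.IsLocalOnBase AlgSp.IsFppfCover P) (f : 𝒳 ⥤ᵇ 𝒴) {X' Y' : AlgSp.Sp S}
    {ι : Type u} {G X'' : ι → AlgSp.Sp S}
    (hX' : AlgSp.IsAlgSpace X') (hY' : AlgSp.IsAlgSpace Y') (hG : ∀ i, AlgSp.IsAlgSpace (G i))
    (hX'' : ∀ i, AlgSp.IsAlgSpace (X'' i)) (y' : AlgSt.ofSp Y' ⥤ᵇ 𝒴)
    (e : AlgSt.ofSp X' ⥤ᵇ fp y' f) (he : IsEquivOver e) (c : ∀ i, G i ⟶ Y')
    (hc : AlgSp.IsFppfCover G c)
    (e'' : ∀ i, AlgSt.ofSp (X'' i) ⥤ᵇ fp (BasedFunctor.comp (AlgSt.ofSpMap (c i)) y') f)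
    (he'' : ∀ i, IsEquivOver (e'' i))
    (hP'' : ∀ i, P (ObjectProperty.homMk (pshMapOf (BasedFunctor.comp (e'' i)
      (fpFst (BasedFunctor.comp (AlgSt.ofSpMap (c i)) y') f))) : X'' i ⟶ G i)) :
    P (ObjectProperty.homMk (pshMapOf (BasedFunctor.comp e (fpFst y' f))) : X' ⟶ Y') := by
  obtain ⟨π, hπ⟩ : ∃ π : X' ⟶ Y',
    π = ObjectProperty.homMk (pshMapOf (BasedFunctor.comp e (fpFst y' f))) := ⟨_, rfl⟩
  rw [← hπ]
  have sqS : ∀ i, IsPullback (pullback.fst π (c i)) (pullback.snd π (c i)) π (c i) :=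
    fun i => IsPullback.of_hasPullback π (c i)
  have hW : ∀ i, AlgSp.IsAlgSpace (pullback π (c i)) := fun i =>
    Groth.Agent.S9874.result S Y' hY'.diag ⟨X', hX'⟩ ⟨G i, hG i⟩ π (c i) _ _ _ (sqS i)
  have sqP : ∀ i, IsPullback (pullback.fst π (c i)).hom (pullback.snd π (c i)).hom
      (pshMapOf (BasedFunctor.comp e (fpFst y' f))) (c i).hom := by
    intro i
    have := (sqS i).map (sheafToPresheaf (AlgSp.J S) (Type (u + 1)))
    rw [hπ] at this
    rw [hπ]
    exact this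
  have h1 : ∀ i, P (pullback.snd π (c i)) := by
    intro i
    have h1 := indep_sp P (fun _ _ _ i _ f hX hX' hY h => precomp_iso P hP i f hX hX' hY h)
      (hW i) (hX'' i) (hG i) (Ξ f y' e (c i) (sqP i)) (e'' i)
      (isEquivOver_Ξ f y' e he (c i) (sqP i)) (he'' i)
      (fpFst (BasedFunctor.comp (AlgSt.ofSpMap (c i)) y') f) (hP'' i)
    have h2 : (ObjectProperty.homMk (pshMapOf (BasedFunctor.comp (Ξ f y' e (c i) (sqP i))
        (fpFst (BasedFunctor.comp (AlgSt.ofSpMap (c i)) y') f))) : pullback π (c i) ⟶ G i) =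
        pullback.snd π (c i) := by
      apply ObjectProperty.hom_ext
      exact pshMapOf_Ξ_fst f y' e (c i) (sqP i)
    rw [h2] at h1
    exact h1
  have key := hP G c hY' hG hc π hX'
    (fun i => pullback π (c i)) (fun i => pullback.snd π (c i)) (fun i => pullback.fst π (c i))
    hW sqS
  exact key.2 h1

/-- Descent along an fppf covering family of the test scheme. -/
theorem descent_over_family (P : MorphismProperty (AlgSp.Sp S))
    (hP : AlgSp.IsLocalOnBase AlgSp.IsFppfCover P) (f : 𝒳 ⥤ᵇ 𝒴) {U : Over S}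
    (y : overCat U ⥤ᵇ 𝒴) (F : AlgSp.Space S) (e : AlgSt.ofSp F.obj ⥤ᵇ fp y f)
    (he : IsEquivOver e) {ι : Type u} (G : ι → AlgSp.Space S)
    (c : ∀ i, (G i).obj ⟶ (AlgSp.yon S).obj U)
    (hc : AlgSp.IsFppfCover (fun i => (G i).obj) c)
    (y'' : ∀ i, AlgSt.ofSp (G i).obj ⥤ᵇ 𝒴)
    (κ : ∀ i, y'' i ≅ BasedFunctor.comp (AlgSt.ofSpMap (c i))
      (BasedFunctor.comp (AlgSt.toOverCat U) y))
    (X'' : ι → AlgSp.Space S) (e'' : ∀ i, AlgSt.ofSp (X'' i).obj ⥤ᵇ fp (y'' i) f)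
    (he'' : ∀ i, IsEquivOver (e'' i))
    (hP'' : ∀ i, P (ObjectProperty.homMk (pshMapOf (BasedFunctor.comp (e'' i)
      (fpFst (y'' i) f))) : (X'' i).obj ⟶ (G i).obj)) :
    P (AlgSt.spMapOfOver (BasedFunctor.comp e (fpFst y f))) := by
  have h := descent_sp_family P hP f F.property (AlgSp.IsAlgSpace.yon_obj U)
    (fun i => (G i).property) (fun i => (X'' i).property)
    (BasedFunctor.comp (AlgSt.toOverCat U) y) (BasedFunctor.comp e (toSp f y))
    (isEquivOver_comp _ _ he (isEquivOver_toSp f y)) c hc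
    (fun i => BasedFunctor.comp (e'' i) (isoMap f _ (y'' i) (κ i)))
    (fun i => isEquivOver_comp _ _ (he'' i) (isEquivOver_isoMap f _ (y'' i) (κ i))) (by
      intro i
      have h0 : pshMapOf (BasedFunctor.comp (BasedFunctor.comp (e'' i) (isoMap f _ (y'' i) (κ i)))
          (fpFst (BasedFunctor.comp (AlgSt.ofSpMap (c i))
            (BasedFunctor.comp (AlgSt.toOverCat U) y)) f)) =
          pshMapOf (BasedFunctor.comp (e'' i) (fpFst (y'' i) f)) := by
        apply pshMapOf_congr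
        intro a
        exact ⟨𝟙 _, Vert.id _⟩
      rw [h0]
      exact hP'' i)
  have h3 : (ObjectProperty.homMk (pshMapOf (BasedFunctor.comp (BasedFunctor.comp e (toSp f y))
      (fpFst (BasedFunctor.comp (AlgSt.toOverCat U) y) f))) : F.obj ⟶ (AlgSp.yon S).obj U) =
      AlgSt.spMapOfOver (BasedFunctor.comp e (fpFst y f)) := by
    apply ObjectProperty.hom_ext
    exact pshMapOf_toSp f y e
  rw [h3] at h
  exact h

theorem isFppfCover_schemes {U : Over S} {ι : Type u} (V : ι → Over S) (h : ∀ i, V i ⟶ U)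
    (hfl : ∀ i, Flat (h i).left) (hfp : ∀ i, LocallyOfFinitePresentation (h i).left)
    (hsurj : ∀ u : ↥U.left, ∃ i, u ∈ Set.range (h i).left) :
    AlgSp.IsFppfCover (fun i => (AlgSp.yon S).obj (V i)) (fun i => (AlgSp.yon S).map (h i)) := by
  refine ⟨fun i => ⟨?_, ?_⟩, fun x => ?_⟩
  · exact Groth.Agent.Lib.Helper3.locP_of_repWith Groth.Agent.Lib.Helper3.isEtLocal_flat _
      ((AlgSp.repWith_yon_map_iff @Flat (h i)).2 (hfl i))
  · exact Groth.Agent.Lib.Helper3.locP_of_repWith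
      Groth.Agent.Lib.Helper3.isEtLocal_locallyOfFinitePresentation _
      ((AlgSp.repWith_yon_map_iff @LocallyOfFinitePresentation (h i)).2 (hfp i))
  · obtain ⟨u, rfl⟩ := (AlgSp.Points.schemeHomeo U).surjective x
    obtain ⟨i, v, hv⟩ := hsurj u
    exact ⟨i, AlgSp.Points.schemeHomeo (V i) v, by
      rw [AlgSp.Points.map_yon_map_apply, hv]⟩

/-- Descent along a jointly surjective family of flat, locally finitely presented maps of schemes. -/
theorem descent_over_schemes (P : MorphismProperty (AlgSp.Sp S))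
    (hP : AlgSp.IsLocalOnBase AlgSp.IsFppfCover P) (f : 𝒳 ⥤ᵇ 𝒴) {U : Over S}
    (y : overCat U ⥤ᵇ 𝒴) (F : AlgSp.Space S) (e : AlgSt.ofSp F.obj ⥤ᵇ fp y f)
    (he : IsEquivOver e) {ι : Type u} (V : ι → Over S) (h : ∀ i, V i ⟶ U)
    (hfl : ∀ i, Flat (h i).left) (hfp : ∀ i, LocallyOfFinitePresentation (h i).left)
    (hsurj : ∀ u : ↥U.left, ∃ i, u ∈ Set.range (h i).left)
    (y'' : ∀ i, overCat (V i) ⥤ᵇ 𝒴)
    (κ : ∀ i, y'' i ≅ BasedFunctor.comp (AlgSt.overMap (h i)) y)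
    (H : ∀ i, ∃ (X'' : AlgSp.Space S) (e'' : AlgSt.ofSp X''.obj ⥤ᵇ fp (y'' i) f),
      IsEquivOver e'' ∧ P (AlgSt.spMapOfOver (BasedFunctor.comp e'' (fpFst (y'' i) f)))) :
    P (AlgSt.spMapOfOver (BasedFunctor.comp e (fpFst y f))) := by
  choose X'' e'' he'' hP'' using H
  have heq : ∀ i, BasedFunctor.comp (AlgSt.toOverCat (V i))
      (BasedFunctor.comp (AlgSt.overMap (h i)) y) =
      BasedFunctor.comp (AlgSt.ofSpMap ((AlgSp.yon S).map (h i)))
        (BasedFunctor.comp (AlgSt.toOverCat U) y) := fun i => rfl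
  refine descent_over_family P hP f y F e he
    (fun i => ⟨(AlgSp.yon S).obj (V i), AlgSp.IsAlgSpace.yon_obj (V i)⟩)
    (fun i => (AlgSp.yon S).map (h i)) (isFppfCover_schemes V h hfl hfp hsurj)
    (fun i => BasedFunctor.comp (AlgSt.toOverCat (V i)) (y'' i))
    (fun i => whiskerLeftIso (AlgSt.toOverCat (V i)) (κ i) ≪≫ eqToIso (heq i))
    X'' (fun i => BasedFunctor.comp (e'' i) (toSp f (y'' i)))
    (fun i => isEquivOver_comp _ _ (he'' i) (isEquivOver_toSp f (y'' i))) ?_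
  intro i
  have h3 : (ObjectProperty.homMk (pshMapOf (BasedFunctor.comp
      (BasedFunctor.comp (e'' i) (toSp f (y'' i)))
      (fpFst (BasedFunctor.comp (AlgSt.toOverCat (V i)) (y'' i)) f))) :
        (X'' i).obj ⟶ (AlgSp.yon S).obj (V i)) =
      AlgSt.spMapOfOver (BasedFunctor.comp (e'' i) (fpFst (y'' i) f)) := by
    apply ObjectProperty.hom_ext
    exact pshMapOf_toSp f (y'' i) (e'' i)
  rw [h3]
  exact hP'' i

/-- Covering sieves of the big fppf site contain jointly surjective families of flat, locally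
finitely presented maps. -/
theorem exists_fppf_mem_sieve {T : Over S} (R : Sieve T) (hR : R ∈ AlgSp.J S T) (t : ↥T.left) :
    ∃ (T' : Over S) (g : T' ⟶ T), R g ∧ Flat g.left ∧ LocallyOfFinitePresentation g.left ∧
      t ∈ Set.range g.left := by
  change R ∈ (Scheme.fppfTopology.over S) T at hR
  have : Scheme.fppfPrecoverage.{u}.HasIsos :=
    ⟨fun f _ => f.singleton_mem_fppfPrecoverage⟩
  have : Scheme.fppfPrecoverage.{u}.HasPullbacks := by
    unfold Scheme.fppfPrecoverage; infer_instance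
  rw [GrothendieckTopology.mem_over_iff,
    Precoverage.mem_toGrothendieck_iff_of_isStableUnderComposition] at hR
  obtain ⟨R₀, hR₀, hle⟩ := hR
  have hjs : R₀ ∈ Scheme.jointlySurjectivePrecoverage T.left := hR₀.1
  have hprop := hR₀.2
  rw [Presieve.mem_comap_jointlySurjectivePrecoverage_iff] at hjs
  obtain ⟨Y, g₀, hg₀, t', ht'⟩ := hjs t
  have h1 := hle _ _ hg₀
  rw [Sieve.overEquiv_iff] at h1
  have h2 : (@Flat ⊓ @LocallyOfFinitePresentation : MorphismProperty Scheme.{u}) g₀ := hprop hg₀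
  exact ⟨_, _, h1, h2.1, h2.2, t', ht'⟩

variable {𝒵 : AlgSt.Cat S}

theorem repByAlgSpWith_of_locally_essSurj (P : MorphismProperty (AlgSp.Sp S))
    (hP : AlgSp.IsLocalOnBase AlgSp.IsFppfCover P) (f : 𝒳 ⥤ᵇ 𝒴) (hf : AlgSt.RepByAlgSp1 f)
    (g : 𝒵 ⥤ᵇ 𝒴)
    (hg : ∀ (U : Over S) (y : overCat U ⥤ᵇ 𝒴), ∃ R ∈ (QuotSh.J Scheme.fppfPrecoverage S) U,
      ∀ ⦃V : Over S⦄ (h : V ⟶ U), R.arrows h →
        ∃ z : overCat V ⥤ᵇ 𝒵,
          Nonempty (BasedFunctor.comp z g ≅ BasedFunctor.comp (AlgSt.overMap h) y))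
    (h' : AlgSt.RepByAlgSpWith P (fpFst g f)) : AlgSt.RepByAlgSpWith P f := by
  intro U y
  obtain ⟨F, e, he⟩ := hf U y
  refine ⟨F, e, he, ?_⟩
  obtain ⟨R, hR, H⟩ := hg U y
  have hex : ∀ u : ↥U.left, ∃ (V : Over S) (h : V ⟶ U), R h ∧ Flat h.left ∧
      LocallyOfFinitePresentation h.left ∧ u ∈ Set.range h.left :=
    exists_fppf_mem_sieve R hR
  choose V h hRh hfl hfp hu using hex
  have hz : ∀ u, ∃ z : overCat (V u) ⥤ᵇ 𝒵,
      Nonempty (BasedFunctor.comp z g ≅ BasedFunctor.comp (AlgSt.overMap (h u)) y) :=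
    fun u => H (h u) (hRh u)
  choose z hκ using hz
  refine descent_over_schemes P hP f y F e he V h hfl hfp (fun u => ⟨u, hu u⟩)
    (fun u => BasedFunctor.comp (z u) g) (fun u => (hκ u).some) ?_
  intro u
  exact Groth.Agent.Lib.Helper27.RepWithKit.transport P (pasteL f g (z u))
    (isEquivOver_pasteL f g (z u)) (fpFst (z u) (fpFst g f))
    (fpFst (BasedFunctor.comp (z u) g) f) (fun t => ⟨Iso.refl _, Vert.id _⟩) (h' (V u) (z u))

end Groth.Agent.Lib.Helper27.DescentFam
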