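import Groth.Agent.Lib.Helper27.RepWithComp
import Groth.Agent.Lib.Helper27.GraphDiag
import Groth.Agent.Lib.Helper27.FpSwap
import Groth.Agent.Lib.Helper27.FpFib
import Groth.Agent.Lib.Helper27.RepWithGeneral

/-!
# The product of two functors over a third has every property of both (helper27)

For `f : 𝒳 ⟶ 𝒴`, `G : 𝒜 ⟶ 𝒴` and `g : 𝒴 ⟶ 𝒵` the functor `𝒜 ×_𝒵 𝒳 ⟶ 𝒴 ×_𝒵 𝒴` is the composite of a base
change of `G` and a base change of `f`.
-/

set_option autoImplicit false
set_option backward.isDefEq.respectTransparency false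
set_option backward.isDefEq.respectTransparency.types false

universe u

open CategoryTheory CategoryTheory.Limits AlgebraicGeometry Opposite FibCat
  Groth.Agent.Lib.Helper27.FpKit Groth.Agent.Lib.Helper27.RepWithComp
  Groth.Agent.Lib.Helper27.GraphDiag

namespace Groth.Agent.Lib.Helper27.ProdFunctor

variable {S : Scheme.{u}} {𝒳 𝒴 𝒵 𝒜 : AlgSt.Cat S} (f : 𝒳 ⥤ᵇ 𝒴) (g : 𝒴 ⥤ᵇ 𝒵) (G : 𝒜 ⥤ᵇ 𝒴)

/-- The cospan morphism of the first factor. -/
def DA : MapData g (BasedFunctor.comp f g) (BasedFunctor.comp G g) (BasedFunctor.comp f g) G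
    (BasedFunctor.id 𝒳) (BasedFunctor.id 𝒵) where
  e₁ := fun _ => Iso.refl _
  n₁ := fun _ => (Category.comp_id _).trans (Category.id_comp _).symm
  l₁ := fun _ => Vert.id _
  e₂ := fun _ => Iso.refl _
  n₂ := fun _ => (Category.comp_id _).trans (Category.id_comp _).symm
  l₂ := fun _ => Vert.id _

/-- The cospan morphism of the second factor. -/
def DB : MapData g g g (BasedFunctor.comp f g) (BasedFunctor.id 𝒴) f (BasedFunctor.id 𝒵) where
  e₁ := fun _ => Iso.refl _
  n₁ := fun _ => (Category.comp_id _).trans (Category.id_comp _).symm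
  l₁ := fun _ => Vert.id _
  e₂ := fun _ => Iso.refl _
  n₂ := fun _ => (Category.comp_id _).trans (Category.id_comp _).symm
  l₂ := fun _ => Vert.id _

/-- `(s, x, ψ) ↦ (G s, x, ψ)`. -/
abbrev A : fp (BasedFunctor.comp G g) (BasedFunctor.comp f g) ⥤ᵇ fp g (BasedFunctor.comp f g) :=
  fpMap (DA f g G)

/-- `(y, x, ψ) ↦ (y, f x, ψ)`. -/
abbrev B : fp g (BasedFunctor.comp f g) ⥤ᵇ fp g g := fpMap (DB f g)

theorem A_iso_hom (t : (fp (BasedFunctor.comp G g) (BasedFunctor.comp f g)).obj) :
    ((A f g G).toFunctor.obj t).obj.iso.hom = t.obj.iso.hom := by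
  change (Iso.refl _).inv ≫ t.obj.iso.hom ≫ (Iso.refl _).hom = _
  simp

theorem B_iso_hom (t : (fp g (BasedFunctor.comp f g)).obj) :
    ((B f g).toFunctor.obj t).obj.iso.hom = t.obj.iso.hom := by
  change (Iso.refl _).inv ≫ t.obj.iso.hom ≫ (Iso.refl _).hom = _
  simp

theorem isoA_w (t : (fp G (fpFst g (BasedFunctor.comp f g))).obj) :
    g.toFunctor.map t.obj.iso.inv ≫
      ((A f g G).toFunctor.obj
        ((pasteL (BasedFunctor.comp f g) g G).toFunctor.obj t)).obj.iso.hom =
      t.obj.snd.obj.iso.hom ≫ (BasedFunctor.comp f g).toFunctor.map (𝟙 t.obj.snd.obj.snd) := by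
  rw [A_iso_hom]
  have h : ((pasteL (BasedFunctor.comp f g) g G).toFunctor.obj t).obj.iso.hom =
      g.toFunctor.map t.obj.iso.hom ≫ t.obj.snd.obj.iso.hom := rfl
  rw [h, ← Category.assoc, ← g.toFunctor.map_comp, Iso.inv_hom_id,
    CategoryTheory.Functor.map_id, CategoryTheory.Functor.map_id, Category.id_comp,
    Category.comp_id]

/-- The comparison for `A`, objectwise. -/
def isoAObj (t : (fp G (fpFst g (BasedFunctor.comp f g))).obj) :
    (fpSnd G (fpFst g (BasedFunctor.comp f g))).toFunctor.obj t ≅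
      (A f g G).toFunctor.obj ((pasteL (BasedFunctor.comp f g) g G).toFunctor.obj t) :=
  mkIso (t := t.obj.snd)
    (t' := (A f g G).toFunctor.obj ((pasteL (BasedFunctor.comp f g) g G).toFunctor.obj t))
    t.obj.iso.symm (Iso.refl _) (isoA_w f g G t)

theorem isoAObj_vert (t : (fp G (fpFst g (BasedFunctor.comp f g))).obj) :
    Vert (isoAObj f g G t).hom := by
  rw [vert_hom_iff]
  exact Vert.inv (vert_iso t)

/-- `A` is a base change of `G`. -/
def isoA : BasedFunctor.comp (fpSnd G (fpFst g (BasedFunctor.comp f g))) (BasedFunctor.id _) ≅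
    BasedFunctor.comp (pasteL (BasedFunctor.comp f g) g G) (A f g G) :=
  BasedNatIso.mkNatIso
    (NatIso.ofComponents (fun t => isoAObj f g G t)
      (fun {t t'} m => by
        apply Groth.Agent.Lib.Helper27.StackFp.hom_ext'
        · have h := hom_w m
          change G.toFunctor.map m.hom.fst ≫ t'.obj.iso.hom =
            t.obj.iso.hom ≫ m.hom.snd.hom.fst at h
          change m.hom.snd.hom.fst ≫ t'.obj.iso.inv = t.obj.iso.inv ≫ G.toFunctor.map m.hom.fst
          rw [Iso.comp_inv_eq, Category.assoc, h, Iso.inv_hom_id_assoc]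
        · exact (Category.comp_id _).trans (Category.id_comp _).symm))
    (fun t => (isoAObj_vert f g G t).lift
      ((BasedFunctor.comp (fpSnd G (fpFst g (BasedFunctor.comp f g)))
        (BasedFunctor.id _)).w_obj t))

theorem repByAlgSpWith_A (Q : MorphismProperty (AlgSp.Sp S)) (hG : AlgSt.RepByAlgSpWith Q G) :
    AlgSt.RepByAlgSpWith Q (A f g G) :=
  Groth.Agent.Lib.Helper27.RepWithGeneral.repByAlgSpWith_of_equiv' Q (A f g G)
    (fpSnd G (fpFst g (BasedFunctor.comp f g))) (pasteL (BasedFunctor.comp f g) g G)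
    (BasedFunctor.id _) (isEquivOver_pasteL _ g G) (isEquivOver_id _) (isoA f g G)
    (Groth.Agent.Lib.Helper27.FpSwap.repByAlgSpWith_fpSnd Q (fpFst g (BasedFunctor.comp f g)) G hG)

theorem isoB_w (t : (fp (fpSnd g g) f).obj) :
    g.toFunctor.map (𝟙 t.obj.fst.obj.fst) ≫
      ((B f g).toFunctor.obj ((pasteR f g g).toFunctor.obj t)).obj.iso.hom =
      t.obj.fst.obj.iso.hom ≫ g.toFunctor.map t.obj.iso.hom := by
  rw [B_iso_hom]
  have h : ((pasteR f g g).toFunctor.obj t).obj.iso.hom =
      t.obj.fst.obj.iso.hom ≫ g.toFunctor.map t.obj.iso.hom := rfl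
  rw [h, CategoryTheory.Functor.map_id, Category.id_comp]

/-- The comparison for `B`, objectwise. -/
def isoBObj (t : (fp (fpSnd g g) f).obj) :
    (fpFst (fpSnd g g) f).toFunctor.obj t ≅
      (B f g).toFunctor.obj ((pasteR f g g).toFunctor.obj t) :=
  mkIso (t := t.obj.fst) (t' := (B f g).toFunctor.obj ((pasteR f g g).toFunctor.obj t))
    (Iso.refl _) t.obj.iso (isoB_w f g t)

theorem isoBObj_vert (t : (fp (fpSnd g g) f).obj) : Vert (isoBObj f g t).hom := by
  rw [vert_hom_iff]
  exact Vert.id _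

/-- `B` is a base change of `f`. -/
def isoB : BasedFunctor.comp (fpFst (fpSnd g g) f) (BasedFunctor.id _) ≅
    BasedFunctor.comp (pasteR f g g) (B f g) :=
  BasedNatIso.mkNatIso
    (NatIso.ofComponents (fun t => isoBObj f g t)
      (fun {t t'} m => by
        apply Groth.Agent.Lib.Helper27.StackFp.hom_ext'
        · exact (Category.comp_id _).trans (Category.id_comp _).symm
        · have h := hom_w m
          change m.hom.fst.hom.snd ≫ t'.obj.iso.hom =
            t.obj.iso.hom ≫ f.toFunctor.map m.hom.snd at h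
          exact h))
    (fun t => (isoBObj_vert f g t).lift
      ((BasedFunctor.comp (fpFst (fpSnd g g) f) (BasedFunctor.id _)).w_obj t))

theorem repByAlgSpWith_B (Q : MorphismProperty (AlgSp.Sp S)) (hf : AlgSt.RepByAlgSpWith Q f) :
    AlgSt.RepByAlgSpWith Q (B f g) :=
  Groth.Agent.Lib.Helper27.RepWithGeneral.repByAlgSpWith_of_equiv' Q (B f g)
    (fpFst (fpSnd g g) f) (pasteR f g g) (BasedFunctor.id _) (isEquivOver_pasteR f g g)
    (isEquivOver_id _) (isoB f g)
    (Groth.Agent.Lib.Helper27.RepWithGeneral.repByAlgSpWith_fpFst Q f (fpSnd g g) hf)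

/-- The comparison of the product functor with the composite, objectwise. -/
def isoPObj (t : (fp (BasedFunctor.comp G g) (BasedFunctor.comp f g)).obj) :
    (P f g G).toFunctor.obj t ≅ (B f g).toFunctor.obj ((A f g G).toFunctor.obj t) :=
  mkIso (t := (P f g G).toFunctor.obj t)
    (t' := (B f g).toFunctor.obj ((A f g G).toFunctor.obj t)) (Iso.refl _) (Iso.refl _) (by
      rw [B_iso_hom, A_iso_hom, P_iso_hom]
      have h1 : ∀ {X Y : 𝒵.obj} (a : X ⟶ Y) (i : X ⟶ X) (j : Y ⟶ Y), i = 𝟙 _ → j = 𝟙 _ →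
          i ≫ a = a ≫ j := by
        intro X Y a i j hi hj
        rw [hi, hj, Category.id_comp, Category.comp_id]
      exact h1 _ _ _ (CategoryTheory.Functor.map_id _ _) (CategoryTheory.Functor.map_id _ _))

theorem isoPObj_vert (t : (fp (BasedFunctor.comp G g) (BasedFunctor.comp f g)).obj) :
    Vert (isoPObj f g G t).hom := by
  rw [vert_hom_iff]
  exact Vert.id _

/-- The product functor is the composite of the two factors. -/
def isoP : BasedFunctor.comp (P f g G) (BasedFunctor.id _) ≅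
    BasedFunctor.comp (BasedFunctor.id _) (BasedFunctor.comp (A f g G) (B f g)) :=
  BasedNatIso.mkNatIso
    (NatIso.ofComponents (fun t => isoPObj f g G t)
      (fun {t t'} m => by
        apply Groth.Agent.Lib.Helper27.StackFp.hom_ext'
        · exact (Category.comp_id _).trans (Category.id_comp _).symm
        · exact (Category.comp_id _).trans (Category.id_comp _).symm))
    (fun t => (isoPObj_vert f g G t).lift
      ((BasedFunctor.comp (P f g G) (BasedFunctor.id _)).w_obj t))

/-- The product functor has every property of both factors which satisfies the composition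
hypotheses. -/
theorem repByAlgSpWith_P (Q : MorphismProperty (AlgSp.Sp S)) (H : CompHyp Q)
    (h𝒳 : FibCat.IsFibGrpd 𝒳.p) (h𝒴 : FibCat.IsFibGrpd 𝒴.p) (h𝒵 : FibCat.IsFibGrpd 𝒵.p)
    (h𝒜 : FibCat.IsFibGrpd 𝒜.p) (hf : AlgSt.RepByAlgSpWith Q f)
    (hG : AlgSt.RepByAlgSpWith Q G) : AlgSt.RepByAlgSpWith Q (P f g G) :=
  Groth.Agent.Lib.Helper27.RepWithGeneral.repByAlgSpWith_of_equiv Q
    (BasedFunctor.comp (A f g G) (B f g)) (P f g G) (BasedFunctor.id _) (BasedFunctor.id _)
    (isEquivOver_id _) (isEquivOver_id _) (isoP f g G)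
    (comp_gen Q H
      (Groth.Agent.Lib.Helper27.FpFib.isFibGrpd_fp (BasedFunctor.comp G g) (BasedFunctor.comp f g)
        h𝒜 h𝒳 h𝒵)
      (Groth.Agent.Lib.Helper27.FpFib.isFibGrpd_fp g (BasedFunctor.comp f g) h𝒴 h𝒳 h𝒵)
      (A f g G) (B f g) (repByAlgSpWith_A f g G Q hG) (repByAlgSpWith_B f g Q hf))

end Groth.Agent.Lib.Helper27.ProdFunctor
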