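import Groth.Agent.Lib.Helper27.DiagRep
import Groth.Agent.Lib.Helper3.AlgSpLocP5
import Groth.Agent.Lib.Helper3.AlgSpProper
import Groth.Agent.S9902
import Groth.Agent.S9900
import Groth.Agent.S9937

/-!
# Properties of the diagonal of a functor representable by algebraic spaces (helper27)
-/

set_option autoImplicit false
set_option backward.isDefEq.respectTransparency false
set_option backward.isDefEq.respectTransparency.types false

universe u

open CategoryTheory CategoryTheory.Limits AlgebraicGeometry Opposite FibCat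

namespace Groth.Agent.Lib.Helper27.DiagRep

variable {S : Scheme.{u}}

section Sections

variable {F : AlgSp.Sp S} {T : AlgSp.Sp S} (π : F ⟶ T) (τ₁ τ₂ : T ⟶ F)

theorem mono_snd (h2 : τ₂ ≫ π = 𝟙 _) : Mono (pullback.snd τ₂ τ₁) := by
  have : Mono τ₂ := mono_of_mono_fac h2
  infer_instance

theorem repWith_lft_mono_snd (hF : AlgSp.IsAlgSpace F) (h2 : τ₂ ≫ π = 𝟙 _) :
    AlgSp.RepWith (@LocallyOfFiniteType ⊓ MorphismProperty.monomorphisms Scheme.{u})
      (pullback.snd τ₂ τ₁) := by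
  have : MorphismProperty.IsStableUnderBaseChange
      ((@LocallyOfFiniteType : MorphismProperty Scheme.{u}) ⊓
        MorphismProperty.monomorphisms Scheme.{u}) :=
    inferInstance
  have h := Groth.Agent.S9902.repWith_section _ π τ₂ h2
    (Groth.Agent.S9900.repWith_diagonal_lft_mono hF π)
  exact MorphismProperty.of_isPullback (IsPullback.of_hasPullback τ₂ τ₁) h

theorem locP_unramified_snd (hF : AlgSp.IsAlgSpace F) (h2 : τ₂ ≫ π = 𝟙 _) :
    AlgSp.LocP (@LocallyOfFiniteType ⊓ @FormallyUnramified) (pullback.snd τ₂ τ₁) := by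
  refine Groth.Agent.Lib.Helper3.locP_of_repWith Groth.Agent.Lib.Helper3.isEtLocal_unramified _
    (Groth.Agent.Lib.Helper3.repWith_mono ?_ (repWith_lft_mono_snd π τ₁ τ₂ hF h2))
  intro A B k hk
  have : Mono k := hk.2
  have : IsIso (pullback.diagonal k) := inferInstance
  exact ⟨hk.1, inferInstance⟩

theorem isIso_snd_of_mono [Mono π] (h2 : τ₂ ≫ π = 𝟙 _) : IsIso (pullback.snd τ₂ τ₁) := by
  have h3 : π ≫ τ₂ = 𝟙 _ := by
    apply (cancel_mono π).1
    rw [Category.assoc, h2, Category.comp_id, Category.id_comp]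
  have : IsIso τ₂ := ⟨π, h2, h3⟩
  infer_instance

theorem isProperMor_of_isIso {X Y : AlgSp.Sp S} (i : X ⟶ Y) [IsIso i] : AlgSp.IsProperMor i :=
  Groth.Agent.Lib.Helper3.isProperMor_of_repWith_isClosedImmersion i
    (Groth.Agent.S9937.repWith_of_isIso @IsClosedImmersion (fun g _ => inferInstance) i)

end Sections

section Main

variable {𝒳 𝒴 : AlgSt.Cat S} (f : 𝒳 ⥤ᵇ 𝒴)

theorem isMono_diag (hf : AlgSt.RepByAlgSp1 f) : AlgSt.IsMono (diag f) :=
  repByAlgSpWith_diag f ⊤ _ ((Groth.Agent.Lib.Helper27.AlgStackEquiv.repByAlgSp1_iff f).1 hf)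
    (fun _ _ π τ₁ τ₂ _ _ h2 => mono_snd π τ₁ τ₂ h2)

theorem isSeparatedMor_diag (hf : AlgSt.RepByAlgSp1 f) :
    AlgSt.RepByAlgSpWith AlgSp.IsSeparatedMor (diag f) :=
  repByAlgSpWith_diag f ⊤ _ ((Groth.Agent.Lib.Helper27.AlgStackEquiv.repByAlgSp1_iff f).1 hf)
    (fun _ _ π τ₁ τ₂ _ _ h2 => by
      have := mono_snd π τ₁ τ₂ h2
      exact Groth.Agent.S9937.isSeparatedMor_of_mono _)

theorem isDMMor_of_repByAlgSp1 (hf : AlgSt.RepByAlgSp1 f) : AlgSt.IsDMMor f :=
  repByAlgSpWith_diag f ⊤ _ ((Groth.Agent.Lib.Helper27.AlgStackEquiv.repByAlgSp1_iff f).1 hf)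
    (fun F _ π τ₁ τ₂ _ _ h2 => locP_unramified_snd π τ₁ τ₂ F.property h2)

theorem isSeparatedMor_of_isMono (hf : AlgSt.IsMono f) : AlgSt.IsSeparatedMor f :=
  repByAlgSpWith_diag f (MorphismProperty.monomorphisms _) _ hf
    (fun _ _ π τ₁ τ₂ hπ _ h2 => by
      have : Mono π := hπ
      have := isIso_snd_of_mono π τ₁ τ₂ h2
      exact isProperMor_of_isIso _)

theorem repByAlgSp1_of_with {Q : MorphismProperty (AlgSp.Sp S)} (hf : AlgSt.RepByAlgSpWith Q f) :
    AlgSt.RepByAlgSp1 f := fun U y => by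
  obtain ⟨F, e, he, -⟩ := hf U y
  exact ⟨F, e, he⟩

end Main

end Groth.Agent.Lib.Helper27.DiagRep
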