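import Groth.Agent.Lib.Helper27.RepWithComp
import Groth.Agent.Lib.Helper3.AlgSpEtMono
import Groth.Agent.S10505

/-!
# Instances of the composition hypotheses `CompHyp` (helper27)
-/

set_option autoImplicit false
set_option backward.isDefEq.respectTransparency false
set_option backward.isDefEq.respectTransparency.types false

universe u

open CategoryTheory CategoryTheory.Limits AlgebraicGeometry Opposite FibCat

namespace Groth.Agent.Lib.Helper27.RepWithComp

variable {S : Scheme.{u}}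

/-- Covering notions for which every representable etale surjective map is a one-member
covering. -/
def HasAtlasCovers (τ : AlgSp.CovNotion S) : Prop :=
  ∀ ⦃X Y : AlgSp.Sp S⦄ (a : X ⟶ Y), AlgSp.RepWith @Etale a → AlgSp.RepWith @Surjective a →
    τ (fun _ : PUnit.{u + 1} => X) (fun _ => a)

theorem hasAtlasCovers_fppf : HasAtlasCovers (AlgSp.IsFppfCover (S := S)) :=
  fun _ _ a hae has => isFppfCover_single a hae has

theorem hasAtlasCovers_et : HasAtlasCovers (AlgSp.IsEtCover (S := S)) :=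
  fun _ _ a hae has => ⟨fun _ => fun _ φ hφ => (AlgSp.RepWith @Etale).comp_mem φ a hφ hae,
    fun x => ⟨PUnit.unit, Groth.Agent.Lib.Helper3.surjective_map_of_repWith has x⟩⟩

/-- Properties local on the base for a covering notion containing the etale atlases satisfy the
composition hypotheses, once they are stable under composition. -/
theorem compHyp_of_local (τ : AlgSp.CovNotion S) (hτ : HasAtlasCovers τ)
    (P : MorphismProperty (AlgSp.Sp S))
    (hPc : ∀ ⦃X Y Z : AlgSp.Sp S⦄, AlgSp.IsAlgSpace X → AlgSp.IsAlgSpace Y → AlgSp.IsAlgSpace Z →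
      ∀ (a : X ⟶ Y) (b : Y ⟶ Z), P a → P b → P (a ≫ b))
    (hP : AlgSp.IsLocalOnBase τ P) : CompHyp P where
  iso := fun X X' Y i _ f hX hX' hY h => by
    have key := hP (fun _ : PUnit.{u + 1} => Y) (fun _ => 𝟙 Y) hY (fun _ => hY)
      (hτ (𝟙 Y) ((AlgSp.RepWith @Etale).id_mem Y) ((AlgSp.RepWith @Surjective).id_mem Y))
      f hX (fun _ => X') (fun _ => i ≫ f) (fun _ => i) (fun _ => hX')
      (fun _ => IsPullback.of_horiz_isIso ⟨by simp⟩)
    exact key.1 h PUnit.unit
  loc := fun X' Y' c hX' hY' h => by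
    obtain ⟨V, a, hae, has⟩ := hY'.atlas
    have sqS : IsPullback (pullback.fst c a) (pullback.snd c a) c a :=
      IsPullback.of_hasPullback c a
    have hW : AlgSp.IsAlgSpace (pullback c a) :=
      Groth.Agent.S9874.result S Y' hY'.diag ⟨X', hX'⟩
        ⟨(AlgSp.yon S).obj V, AlgSp.IsAlgSpace.yon_obj V⟩ c a _ _ _ sqS
    have key := hP (fun _ : PUnit.{u + 1} => (AlgSp.yon S).obj V) (fun _ => a) hY'
      (fun _ => AlgSp.IsAlgSpace.yon_obj V) (hτ a hae has) c hX'
      (fun _ => pullback c a) (fun _ => pullback.snd c a) (fun _ => pullback.fst c a)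
      (fun _ => hW) (fun _ => sqS)
    exact key.2 (fun _ => h V a)
  comp := hPc

/-- Locality on the base for fpqc coverings implies locality for fppf coverings. -/
theorem isLocalOnBase_fppf_of_fpqc (P : MorphismProperty (AlgSp.Sp S))
    (h : AlgSp.IsLocalOnBase (AlgSp.IsFpqcCover (S := S)) P) :
    AlgSp.IsLocalOnBase (AlgSp.IsFppfCover (S := S)) P := by
  intro ι Y Yi g hY hYi hcov X f hX Xi p q hXi sq
  exact h Yi g hY hYi
    (Groth.Agent.S10505.result (⟨Y, hY⟩ : AlgSp.Space S) (fun i => ⟨Yi i, hYi i⟩)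
      (fun i => ObjectProperty.homMk (g i)) hcov) f hX Xi p q hXi sq

/-- Representable morphisms with a property of morphisms of schemes. -/
theorem compHyp_repWith (Q : MorphismProperty Scheme.{u}) [Q.IsStableUnderBaseChange]
    [Q.IsMultiplicative] : CompHyp (AlgSp.RepWith (S := S) Q) where
  iso := fun X X' Y i _ f _ _ _ h =>
    (AlgSp.RepWith (S := S) Q).comp_mem i f
      (MorphismProperty.of_isIso (AlgSp.RepWith (S := S) Q) i) h
  loc := fun X' Y' c _ _ h => by
    have : Q.RespectsIso := MorphismProperty.IsStableUnderBaseChange.respectsIso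
    apply Groth.Agent.Lib.Helper3.repWith_of_forall Q c
    intro T k
    have h1 := h T k
    have sq1 := h1.rep.isPullback (𝟙 ((AlgSp.yon S).obj T))
    have sqS : IsPullback (pullback.fst c k) (pullback.snd c k) c k :=
      IsPullback.of_hasPullback c k
    refine ⟨_, h1.rep.fst (𝟙 _) ≫ pullback.fst c k, h1.rep.snd (𝟙 _), ?_,
      h1.property_snd (𝟙 _)⟩
    have := sq1.paste_horiz sqS
    rwa [Category.id_comp] at this
  comp := fun _ _ _ _ _ _ a b ha hb => (AlgSp.RepWith (S := S) Q).comp_mem a b ha hb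

section AffP

/-- The common form of affine, integral and finite morphisms. -/
def AffP (R : ∀ ⦃W Z : Over S⦄, (W ⟶ Z) → Prop) : MorphismProperty (AlgSp.Sp S) := fun F G f =>
  ∀ ⦃Z : Over S⦄, IsAffine Z.left → ∀ (g : (AlgSp.yon S).obj Z ⟶ G),
    ∃ (W : Over S) (i : W ⟶ Z) (fst : (AlgSp.yon S).obj W ⟶ F),
      IsPullback fst ((AlgSp.yon S).map i) f g ∧ R i

theorem compHyp_affP (R : ∀ ⦃W Z : Over S⦄, (W ⟶ Z) → Prop)
    (hRaff : ∀ ⦃W Z : Over S⦄ (i : W ⟶ Z), R i → IsAffine W.left)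
    (hRcomp : ∀ ⦃W₂ W₁ Z : Over S⦄ (i₂ : W₂ ⟶ W₁) (i₁ : W₁ ⟶ Z), R i₂ → R i₁ → R (i₂ ≫ i₁)) :
    CompHyp (AffP R) where
  iso := fun X X' Y i _ f _ _ _ h Z hZ g => by
    obtain ⟨W, ι, fst, sq, hR⟩ := h hZ g
    refine ⟨W, ι, fst ≫ inv i, ?_, hR⟩
    exact IsPullback.of_iso sq (Iso.refl _) (asIso i).symm (Iso.refl _) (Iso.refl _)
      (by simp) (by simp) (by simp) (by simp)
  loc := fun X' Y' c _ _ h Z hZ g => by
    obtain ⟨W, ι, fst, sq, hR⟩ := h Z g hZ (𝟙 _)
    have sqS : IsPullback (pullback.fst c g) (pullback.snd c g) c g :=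
      IsPullback.of_hasPullback c g
    refine ⟨W, ι, fst ≫ pullback.fst c g, ?_, hR⟩
    have := sq.paste_horiz sqS
    rwa [Category.id_comp] at this
  comp := fun X Y Z' _ _ _ a b ha hb Z hZ g => by
    obtain ⟨W₁, ι₁, fst₁, sq₁, hR₁⟩ := hb hZ g
    obtain ⟨W₂, ι₂, fst₂, sq₂, hR₂⟩ := ha (hRaff ι₁ hR₁) fst₁
    refine ⟨W₂, ι₂ ≫ ι₁, fst₂, ?_, hRcomp ι₂ ι₁ hR₂ hR₁⟩
    rw [Functor.map_comp]
    exact sq₂.paste_vert sq₁

theorem compHyp_isAffineMor : CompHyp (AlgSp.IsAffineMor (S := S)) :=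
  compHyp_affP (fun W _ _ => IsAffine W.left) (fun _ _ _ h => h) (fun _ _ _ _ _ h _ => h)

theorem compHyp_isIntegralMor : CompHyp (AlgSp.IsIntegralMor (S := S)) :=
  compHyp_affP (fun W _ i => IsAffine W.left ∧ IsIntegralHom i.left) (fun _ _ _ h => h.1)
    (fun _ _ _ i₂ i₁ h₂ h₁ => ⟨h₂.1, by
      have := h₂.2
      have := h₁.2
      rw [Over.comp_left]
      infer_instance⟩)

theorem compHyp_isFiniteMor : CompHyp (AlgSp.IsFiniteMor (S := S)) :=
  compHyp_affP (fun W _ i => IsAffine W.left ∧ IsFinite i.left) (fun _ _ _ h => h.1)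
    (fun _ _ _ i₂ i₁ h₂ h₁ => ⟨h₂.1, by
      have := h₂.2
      have := h₁.2
      rw [Over.comp_left]
      infer_instance⟩)

end AffP

/-- Properties of the form `LocP Q` with `Q` etale local. -/
theorem compHyp_locP {Q : MorphismProperty Scheme.{u}} (hQ : Groth.Agent.Lib.Helper3.IsEtLocal Q) :
    CompHyp (AlgSp.LocP (S := S) Q) where
  iso := fun X X' Y i _ f _ _ _ hf => by
    intro U V a b h ha hb w
    refine hf (a ≫ i) b h ((AlgSp.RepWith (S := S) @Etale).comp_mem a i ha
      (MorphismProperty.of_isIso (AlgSp.RepWith (S := S) @Etale) i)) hb ?_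
    rw [Category.assoc]
    exact w
  loc := fun X' Y' c hX' hY' h => by
    obtain ⟨V, a, hae, has⟩ := hY'.atlas
    exact Groth.Agent.Lib.Helper3.locP_of_target_cover hQ hX' hY' c a hae has
      (pullback.fst c a) (pullback.snd c a) (IsPullback.of_hasPullback c a) (h V a)
  comp := fun _ _ _ hX hY hZ a b ha hb =>
    Groth.Agent.Lib.Helper3.locP_comp hQ hX hY hZ a b ha hb

theorem compHyp_top : CompHyp (⊤ : MorphismProperty (AlgSp.Sp S)) where
  iso := fun _ _ _ _ _ _ _ _ _ _ => trivial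
  loc := fun _ _ _ _ _ _ => trivial
  comp := fun _ _ _ _ _ _ _ _ _ _ => trivial

end Groth.Agent.Lib.Helper27.RepWithComp
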