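import Groth.Agent.Lib.Helper27.DiagPres
import Groth.Agent.Lib.Helper27.DiagRep2
import Groth.Agent.Lib.Helper27.RepWithComp2
import Groth.Agent.S10521
import Groth.Agent.S10280
import Groth.Agent.S9912
import Groth.Agent.S10519
import Groth.Agent.S10520
import Groth.Agent.S10526

/-!
# Separation of functors representable by algebraic spaces via the diagonal (helper27)
-/

set_option autoImplicit false
set_option backward.isDefEq.respectTransparency false
set_option backward.isDefEq.respectTransparency.types false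

universe u

open CategoryTheory CategoryTheory.Limits AlgebraicGeometry Opposite FibCat
  Groth.Agent.Lib.Helper27.FpKit Groth.Agent.Lib.Helper27.RepWithComp
  Groth.Agent.Lib.Helper27.DiagRep Groth.Agent.Lib.Helper27.DiagPres

namespace Groth.Agent.Lib.Helper27.SepDiag

variable {S : Scheme.{u}} {𝒳 𝒴 : AlgSt.Cat S} (f : 𝒳 ⥤ᵇ 𝒴)

theorem repByAlgSpWith_mono {P P' : MorphismProperty (AlgSp.Sp S)}
    (h : ∀ ⦃X Y : AlgSp.Sp S⦄ (g : X ⟶ Y), P g → P' g) (hf : AlgSt.RepByAlgSpWith P f) :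
    AlgSt.RepByAlgSpWith P' f := fun U y => by
  obtain ⟨F, e, he, hP⟩ := hf U y
  exact ⟨F, e, he, h _ hP⟩

theorem repByAlgSpWith_inf (P Q : MorphismProperty (AlgSp.Sp S))
    (hQ : AlgSp.IsLocalOnBase AlgSp.IsFppfCover Q) (h : AlgSt.RepByAlgSpWith P f)
    (h' : AlgSt.RepByAlgSpWith Q f) : AlgSt.RepByAlgSpWith (P ⊓ Q) f := fun U y => by
  obtain ⟨F, e, he, hP⟩ := h U y
  obtain ⟨F', e', he', hQ'⟩ := h' U y
  exact ⟨F, e, he, hP, indep' Q hQ F.property F'.property e e' he he' (fpFst y f) hQ'⟩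

theorem isClosedImm_diag (h : AlgSt.RepByAlgSpWith AlgSp.IsSeparatedMor f) :
    AlgSt.IsClosedImm (diag f) :=
  repByAlgSpWith_diag f _ _ h (fun F U π τ₁ τ₂ hπ _ h2 => by
    have h3 : AlgSp.RepWith @IsClosedImmersion τ₂ :=
      Groth.Agent.S9902.repWith_section _ π τ₂ h2 hπ
    exact MorphismProperty.of_isPullback (IsPullback.of_hasPullback τ₂ τ₁) h3)

theorem isSeparatedMor_of_isClosedImm_diag (h : AlgSt.IsClosedImm (diag f)) :
    AlgSt.IsSeparatedMor f :=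
  repByAlgSpWith_mono (diag f)
    (fun _ _ g hg => Groth.Agent.Lib.Helper3.isProperMor_of_repWith_isClosedImmersion g hg) h

theorem univClosed_diag_of_isSeparatedMor (h : AlgSt.IsSeparatedMor f) :
    AlgSt.RepByAlgSpWith AlgSp.IsUnivClosedMor (diag f) :=
  repByAlgSpWith_mono (diag f) (fun _ _ g hg => hg.2.2) h

theorem sep_of_univClosed_diag (hf : AlgSt.RepByAlgSp1 f)
    (h : AlgSt.RepByAlgSpWith AlgSp.IsUnivClosedMor (diag f)) :
    AlgSt.RepByAlgSpWith AlgSp.IsSeparatedMor f := by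
  intro U y
  obtain ⟨F, e, he⟩ := hf U y
  refine ⟨F, e, he, ?_⟩
  have h1 := prop_diagonal AlgSp.IsUnivClosedMor
    (isLocalOnBase_fppf_of_fpqc _ (Groth.Agent.S10521.result S)) f h y F e he
  exact ((Groth.Agent.S10280.result (X := F)
    (Y := ⟨(AlgSp.yon S).obj U, AlgSp.IsAlgSpace.yon_obj U⟩)
    (ObjectProperty.homMk (AlgSt.spMapOfOver (BasedFunctor.comp e (fpFst y f))))).1).2 h1

theorem qc_diag_of_qs (h : AlgSt.RepByAlgSpWith AlgSp.IsQuasiSeparatedMor f) :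
    AlgSt.RepByAlgSpWith AlgSp.IsQuasiCompactMor (diag f) :=
  repByAlgSpWith_diag f _ _ h (fun F U π τ₁ τ₂ hπ _ h2 => by
    have h3 : AlgSp.RepWith @QuasiCompact τ₂ :=
      Groth.Agent.S9902.repWith_section _ π τ₂ h2 hπ
    have h4 : AlgSp.RepWith @QuasiCompact (pullback.snd τ₂ τ₁) :=
      MorphismProperty.of_isPullback (IsPullback.of_hasPullback τ₂ τ₁) h3
    have hW : AlgSp.IsAlgSpace (pullback τ₂ τ₁) :=
      Groth.Agent.S9874.result S F.obj F.property.diag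
        ⟨(AlgSp.yon S).obj U, AlgSp.IsAlgSpace.yon_obj U⟩
        ⟨(AlgSp.yon S).obj U, AlgSp.IsAlgSpace.yon_obj U⟩ τ₂ τ₁ _ _ _
        (IsPullback.of_hasPullback τ₂ τ₁)
    exact (Groth.Agent.S9912.result (X := ⟨pullback τ₂ τ₁, hW⟩)
      (Y := ⟨(AlgSp.yon S).obj U, AlgSp.IsAlgSpace.yon_obj U⟩)
      (ObjectProperty.homMk (pullback.snd τ₂ τ₁)) h4.rep).1 h4)

theorem qs_of_qc_diag (hf : AlgSt.RepByAlgSp1 f)
    (h : AlgSt.RepByAlgSpWith AlgSp.IsQuasiCompactMor (diag f)) :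
    AlgSt.RepByAlgSpWith AlgSp.IsQuasiSeparatedMor f := by
  intro U y
  obtain ⟨F, e, he⟩ := hf U y
  refine ⟨F, e, he, ?_⟩
  have h1 := prop_diagonal AlgSp.IsQuasiCompactMor
    (isLocalOnBase_fppf_of_fpqc _ (Groth.Agent.S10519.result S)) f h y F e he
  obtain ⟨π, hπ⟩ : ∃ π : F.obj ⟶ (AlgSp.yon S).obj U,
    π = AlgSt.spMapOfOver (BasedFunctor.comp e (fpFst y f)) := ⟨_, rfl⟩
  have hPb : AlgSp.IsAlgSpace (pullback π π) :=
    Groth.Agent.S9874.result S _ (AlgSp.IsAlgSpace.yon_obj U).diag F F π π _ _ _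
      (IsPullback.of_hasPullback π π)
  have h2 := (Groth.Agent.S9900.result (X := F)
    (Y := ⟨(AlgSp.yon S).obj U, AlgSp.IsAlgSpace.yon_obj U⟩) (ObjectProperty.homMk π)).1
  have h3 := (Groth.Agent.S9912.result (X := F) (Y := ⟨pullback π π, hPb⟩)
    (ObjectProperty.homMk (pullback.diagonal π)) h2).2
  subst hπ
  exact h3 h1

theorem lft_diag (hf : AlgSt.RepByAlgSp1 f) :
    AlgSt.RepByAlgSpWith (AlgSp.LocP @LocallyOfFiniteType) (diag f) :=
  repByAlgSpWith_mono (diag f)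
    (fun _ _ g hg => Groth.Agent.Lib.Helper3.locP_mono (fun _ _ k hk => hk.1) hg)
    (isDMMor_of_repByAlgSp1 f hf)

theorem ft_diag_of_qc_diag (hf : AlgSt.RepByAlgSp1 f)
    (h : AlgSt.RepByAlgSpWith AlgSp.IsQuasiCompactMor (diag f)) :
    AlgSt.RepByAlgSpWith AlgSp.IsFiniteTypeMor (diag f) :=
  repByAlgSpWith_mono (diag f) (fun _ _ g hg => ⟨hg.2, hg.1⟩)
    (repByAlgSpWith_inf (diag f) _ _
      (isLocalOnBase_fppf_of_fpqc _ (Groth.Agent.S10526.result S)) h (lft_diag f hf))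

theorem qs_diag (hf : AlgSt.RepByAlgSp1 f) :
    AlgSt.RepByAlgSpWith AlgSp.IsQuasiSeparatedMor (diag f) :=
  repByAlgSpWith_mono (diag f)
    (fun _ _ g hg => Groth.Agent.Lib.Helper3.repWith_mono
      (fun _ _ k hk => by have : IsClosedImmersion k := hk; infer_instance) hg)
    (isSeparatedMor_diag f hf)

theorem isQuasiSeparatedMor_of_qc_diag (hf : AlgSt.RepByAlgSp1 f)
    (h : AlgSt.RepByAlgSpWith AlgSp.IsQuasiCompactMor (diag f)) : AlgSt.IsQuasiSeparatedMor f :=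
  repByAlgSpWith_inf (diag f) _ _
    (isLocalOnBase_fppf_of_fpqc _ (Groth.Agent.S10520.result S)) h (qs_diag f hf)

end Groth.Agent.Lib.Helper27.SepDiag
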