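import Groth.Agent.Lib.Helper27.Descent3
import Groth.Agent.Lib.Helper27.ProdFunctor
import Groth.Agent.Lib.Helper27.SepDiag
import Groth.Agent.Lib.Helper27.DiagCancel
import Groth.Agent.Lib.Helper27.FpRepSp2

/-!
# The diagonal of an algebraic stack is locally of finite type (helper27)
-/

set_option autoImplicit false
set_option backward.isDefEq.respectTransparency false
set_option backward.isDefEq.respectTransparency.types false

universe u

open CategoryTheory CategoryTheory.Limits AlgebraicGeometry Opposite FibCat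
  Groth.Agent.Lib.Helper27.FpKit Groth.Agent.Lib.Helper27.PshKit Groth.Agent.Lib.Helper27.PshFp
  Groth.Agent.Lib.Helper27.PshRep Groth.Agent.Lib.Helper27.RepWithComp
  Groth.Agent.Lib.Helper27.GraphDiag Groth.Agent.Lib.Helper27.CompareDiag
  Groth.Agent.Lib.Helper27.Descent Groth.Agent.Lib.Helper27.SepDiag
  Groth.Agent.Lib.Helper27.DiagComp

namespace Groth.Agent.Lib.Helper27.DiagLft

variable {S : Scheme.{u}}

theorem compHyp_isSurjectiveMor : CompHyp (AlgSp.IsSurjectiveMor (S := S)) where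
  iso := isSurjectiveMor_precomp_iso
  loc := fun X' Y' c _ hY' h => by
    obtain ⟨V, a, hae, has⟩ := hY'.atlas
    intro y
    obtain ⟨v, hv⟩ := Groth.Agent.Lib.Helper3.surjective_map_of_repWith has y
    obtain ⟨w, hw⟩ := h V a v
    refine ⟨AlgSp.Points.map (pullback.fst c a) w, ?_⟩
    rw [← AlgSp.Points.map_comp, pullback.condition, AlgSp.Points.map_comp, hw, hv]
  comp := fun _ _ _ _ _ _ _ _ ha hb => Groth.Agent.Lib.Helper3.isSurjectiveMor_comp ha hb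

section SelfOver

theorem isEquivOver_toSelf_terminal :
    IsEquivOver (toSelf (overCat (Over.mk (𝟙 S)))) := by
  apply isEquivOver_of_ess
  · constructor
    intro a b m
    exact ⟨Over.homMk m (Over.mkIdTerminal.hom_ext _ _), rfl⟩
  · constructor
    intro a b f g h
    apply Over.OverMorphism.ext
    exact h
  · intro b
    exact ⟨Over.mk (Over.mkIdTerminal.from b), Iso.refl _, Vert.id _⟩

theorem repByAlgSp_selfOver : AlgSt.RepByAlgSp (selfOver (Over S)) :=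
  Groth.Agent.Lib.Helper27.FpRepSp2.repByAlgSp_of_equiv _ isEquivOver_toSelf_terminal
    (Groth.Agent.Lib.Helper27.FpRepSp2.repByAlgSp_overCat (Over.mk (𝟙 S)))

theorem repByAlgSp1_to_selfOver (U : Over S) (q : overCat U ⥤ᵇ selfOver (Over S)) :
    AlgSt.RepByAlgSp1 q :=
  Groth.Agent.Lib.Helper27.PshRepSp.repByAlgSp1_of_repByAlgSp
    (Groth.Agent.Lib.Helper27.FpRepSp2.repByAlgSp_overCat U) repByAlgSp_selfOver q

end SelfOver

section Cover

variable {𝒳 𝒴 𝒵 : AlgSt.Cat S}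

/-- A property which is fppf local on the base descends along a flat, locally finitely presented,
surjective functor. -/
theorem repByAlgSpWith_of_fpFst_cover (P : MorphismProperty (AlgSp.Sp S))
    (hP : AlgSp.IsLocalOnBase AlgSp.IsFppfCover P)
    (h𝒳 : FibCat.IsFibGrpd 𝒳.p) (h𝒴 : FibCat.IsFibGrpd 𝒴.p) (h𝒵 : FibCat.IsFibGrpd 𝒵.p)
    (f : 𝒳 ⥤ᵇ 𝒴) (hf : AlgSt.RepByAlgSp1 f) (z : 𝒵 ⥤ᵇ 𝒴)
    (hz₁ : AlgSt.RepByAlgSpWith (AlgSp.LocP @Flat) z)
    (hz₂ : AlgSt.RepByAlgSpWith (AlgSp.LocP @LocallyOfFinitePresentation) z)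
    (hz₃ : AlgSt.RepByAlgSpWith AlgSp.IsSurjectiveMor z)
    (h : AlgSt.RepByAlgSpWith P (fpFst z f)) : AlgSt.RepByAlgSpWith P f := by
  refine descent_cover P hP f hf z hz₁ hz₂ hz₃ (fun G g => ?_)
  obtain ⟨X'', e₀, he₀, hP₀⟩ := from_space P hP
    (Groth.Agent.Lib.Helper27.FpFib.isFibGrpd_fp z f h𝒵 h𝒳 h𝒴) h𝒵 (fpFst z f) h G g
  refine ⟨X'', BasedFunctor.comp e₀ (pasteL f z g),
    isEquivOver_comp _ _ he₀ (isEquivOver_pasteL f z g), ?_⟩
  have h0 : pshMapOf (BasedFunctor.comp (BasedFunctor.comp e₀ (pasteL f z g))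
      (fpFst (BasedFunctor.comp g z) f)) =
      pshMapOf (BasedFunctor.comp e₀ (fpFst g (fpFst z f))) := by
    apply pshMapOf_congr
    intro t
    exact ⟨𝟙 _, Vert.id _⟩
  rw [h0]
  exact hP₀

end Cover

section Cmp

variable {𝒳 𝒴 𝒵 𝒯 : AlgSt.Cat S} (f : 𝒳 ⥤ᵇ 𝒵) (g : 𝒴 ⥤ᵇ 𝒵) (t : 𝒵 ⥤ᵇ 𝒯)
  (e : BasedFunctor.comp (FibCat.fpFst f g) (BasedFunctor.comp f t) ≅
    BasedFunctor.comp (FibCat.fpSnd f g) (BasedFunctor.comp g t))
  (he : ∀ x, e.hom.toNatTrans.app x = t.map x.obj.iso.hom)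

include he in
/-- The base change of the diagonal along the product functor has every property of the
comparison functor. -/
theorem repByAlgSpWith_fpFst_P_of_cmp (Q : MorphismProperty (AlgSp.Sp S))
    (h : AlgSt.RepByAlgSpWith Q (cmp f g t e)) :
    AlgSt.RepByAlgSpWith Q (fpFst (P g t f) (diag t)) := by
  refine Groth.Agent.Lib.Helper27.RepWithGeneral.repByAlgSpWith_of_equiv Q (cmp f g t e)
    (fpFst (P g t f) (diag t)) (K g t f) (BasedFunctor.id _) (isEquivOver_K g t f)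
    (isEquivOver_id _) ?_ h
  refine BasedNatIso.mkNatIso (NatIso.ofComponents (fun w => compIso f g t e he w) ?_) ?_
  · intro w w' m
    apply Groth.Agent.Lib.Helper27.StackFp.hom_ext'
    · exact (Category.comp_id _).trans (Category.id_comp _).symm
    · exact (Category.comp_id _).trans (Category.id_comp _).symm
  · intro w
    have hv : Vert (compIso f g t e he w).hom := by
      rw [vert_hom_iff]
      exact Vert.id _
    exact hv.lift rfl

end Cmp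

section Main

variable {𝒳 : AlgSt.Cat S}

theorem lft_of_smooth {𝒜 ℬ : AlgSt.Cat S} (x : 𝒜 ⥤ᵇ ℬ)
    (hx : AlgSt.RepByAlgSpWith (AlgSp.LocP @Smooth) x) :
    AlgSt.RepByAlgSpWith (AlgSp.LocP @LocallyOfFiniteType) x :=
  repByAlgSpWith_mono x (fun _ _ k hk => Groth.Agent.Lib.Helper3.locP_mono
    (fun _ _ m hm => by have : Smooth m := hm; infer_instance) hk) hx

theorem flat_of_smooth {𝒜 ℬ : AlgSt.Cat S} (x : 𝒜 ⥤ᵇ ℬ)
    (hx : AlgSt.RepByAlgSpWith (AlgSp.LocP @Smooth) x) :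
    AlgSt.RepByAlgSpWith (AlgSp.LocP @Flat) x :=
  repByAlgSpWith_mono x (fun _ _ k hk => Groth.Agent.Lib.Helper3.locP_mono
    (fun _ _ m hm => by have : Smooth m := hm; infer_instance) hk) hx

theorem lfp_of_smooth {𝒜 ℬ : AlgSt.Cat S} (x : 𝒜 ⥤ᵇ ℬ)
    (hx : AlgSt.RepByAlgSpWith (AlgSp.LocP @Smooth) x) :
    AlgSt.RepByAlgSpWith (AlgSp.LocP @LocallyOfFinitePresentation) x :=
  repByAlgSpWith_mono x (fun _ _ k hk => Groth.Agent.Lib.Helper3.locP_mono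
    (fun _ _ m hm => by have : Smooth m := hm; infer_instance) hk) hx

/-- The diagonal of a category fibred in groupoids with representable diagonal and a smooth
surjective atlas is locally of finite type. -/
theorem lft_diag_toSelf (h𝒳 : FibCat.IsFibGrpd 𝒳.p)
    (hΔ : AlgSt.RepByAlgSp1 (diag (toSelf 𝒳))) {U : Over S} (x : overCat U ⥤ᵇ 𝒳)
    (hx₁ : AlgSt.RepByAlgSpWith (AlgSp.LocP @Smooth) x)
    (hx₂ : AlgSt.RepByAlgSpWith AlgSp.IsSurjectiveMor x) :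
    AlgSt.RepByAlgSpWith (AlgSp.LocP @LocallyOfFiniteType) (diag (toSelf 𝒳)) := by
  have hU : FibCat.IsFibGrpd (overCat U).p := Groth.Agent.Lib.Helper27.ReprAux.isFibGrpd_overCat U
  have hself : FibCat.IsFibGrpd (selfOver (Over S)).p :=
    Groth.Agent.Lib.Helper27.ReprDiag.isFibGrpd_selfOver
  have hz₁ : AlgSt.RepByAlgSpWith (AlgSp.LocP @Flat) (P x (toSelf 𝒳) x) :=
    Groth.Agent.Lib.Helper27.ProdFunctor.repByAlgSpWith_P x (toSelf 𝒳) x _
      (compHyp_locP Groth.Agent.Lib.Helper3.isEtLocal_flat) hU h𝒳 hself hU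
      (flat_of_smooth x hx₁) (flat_of_smooth x hx₁)
  have hz₂ : AlgSt.RepByAlgSpWith (AlgSp.LocP @LocallyOfFinitePresentation)
      (P x (toSelf 𝒳) x) :=
    Groth.Agent.Lib.Helper27.ProdFunctor.repByAlgSpWith_P x (toSelf 𝒳) x _
      (compHyp_locP Groth.Agent.Lib.Helper3.isEtLocal_locallyOfFinitePresentation) hU h𝒳 hself hU
      (lfp_of_smooth x hx₁) (lfp_of_smooth x hx₁)
  have hz₃ : AlgSt.RepByAlgSpWith AlgSp.IsSurjectiveMor (P x (toSelf 𝒳) x) :=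
    Groth.Agent.Lib.Helper27.ProdFunctor.repByAlgSpWith_P x (toSelf 𝒳) x _
      compHyp_isSurjectiveMor hU h𝒳 hself hU hx₂ hx₂
  have h1 : AlgSt.RepByAlgSp1 (BasedFunctor.comp x (toSelf 𝒳)) := repByAlgSp1_to_selfOver U _
  have hΔg : AlgSt.RepByAlgSpWith (AlgSp.LocP @LocallyOfFiniteType)
      (diag (fpFst (BasedFunctor.comp x (toSelf 𝒳)) (BasedFunctor.comp x (toSelf 𝒳)))) :=
    Groth.Agent.Lib.Helper27.DiagRepWith.repByAlgSpWith_diag_fpFst _ _ _
      (lft_diag (BasedFunctor.comp x (toSelf 𝒳)) h1)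
  have hgf : AlgSt.RepByAlgSpWith (AlgSp.LocP @LocallyOfFiniteType)
      (BasedFunctor.comp (cmp x x (toSelf 𝒳) (e₀ x (toSelf 𝒳)))
        (fpFst (BasedFunctor.comp x (toSelf 𝒳)) (BasedFunctor.comp x (toSelf 𝒳)))) :=
    Groth.Agent.Lib.Helper27.RepWithGeneral.repByAlgSpWith_fpFst _ x x (lft_of_smooth x hx₁)
  have hcmp : AlgSt.RepByAlgSpWith (AlgSp.LocP @LocallyOfFiniteType)
      (cmp x x (toSelf 𝒳) (e₀ x (toSelf 𝒳))) :=
    Groth.Agent.Lib.Helper27.DiagCancel.repByAlgSpWith_of_comp _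
      (compHyp_locP Groth.Agent.Lib.Helper3.isEtLocal_locallyOfFiniteType)
      (Groth.Agent.Lib.Helper27.FpFib.isFibGrpd_fp x x hU hU h𝒳)
      (Groth.Agent.Lib.Helper27.FpFib.isFibGrpd_fp _ _ hU hU hself) hU
      (cmp x x (toSelf 𝒳) (e₀ x (toSelf 𝒳)))
      (fpFst (BasedFunctor.comp x (toSelf 𝒳)) (BasedFunctor.comp x (toSelf 𝒳))) hgf hΔg
  have h2 : AlgSt.RepByAlgSpWith (AlgSp.LocP @LocallyOfFiniteType)
      (fpFst (P x (toSelf 𝒳) x) (diag (toSelf 𝒳))) :=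
    repByAlgSpWith_fpFst_P_of_cmp x x (toSelf 𝒳) (e₀ x (toSelf 𝒳)) (he₀ x (toSelf 𝒳)) _ hcmp
  exact repByAlgSpWith_of_fpFst_cover _
    (isLocalOnBase_fppf_of_fpqc _ (Groth.Agent.S10526.result S)) h𝒳
    (Groth.Agent.Lib.Helper27.FpFib.isFibGrpd_fp _ _ h𝒳 h𝒳 hself)
    (Groth.Agent.Lib.Helper27.FpFib.isFibGrpd_fp _ _ hU hU hself)
    (diag (toSelf 𝒳)) hΔ (P x (toSelf 𝒳) x) hz₁ hz₂ hz₃ h2

end Main

end Groth.Agent.Lib.Helper27.DiagLft

namespace Groth.Agent.Lib.Helper27.DiagLft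

open CategoryTheory CategoryTheory.Limits AlgebraicGeometry Opposite FibCat
  Groth.Agent.Lib.Helper27.FpKit Groth.Agent.Lib.Helper27.RepWithComp
  Groth.Agent.Lib.Helper27.GraphDiag Groth.Agent.Lib.Helper27.CompareDiag
  Groth.Agent.Lib.Helper27.Descent Groth.Agent.Lib.Helper27.SepDiag
  Groth.Agent.Lib.Helper27.DiagComp Groth.Agent.Lib.Helper27.DiagRep

universe u₁

variable {S : Scheme.{u₁}} {𝒳 𝒴 : AlgSt.Cat S}

/-- The diagonal of a functor between algebraic stacks is locally of finite type. -/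
theorem lft_diag_of_algStack (h𝒳 : AlgSt.IsAlgStack Scheme.fppfPrecoverage 𝒳)
    (h𝒴f : FibCat.IsFibGrpd 𝒴.p) (h𝒴Δ : AlgSt.RepByAlgSp1 (diag (toSelf 𝒴))) (f : 𝒳 ⥤ᵇ 𝒴) :
    AlgSt.RepByAlgSpWith (AlgSp.LocP @LocallyOfFiniteType) (diag f) := by
  obtain ⟨U, x, hx₁, hx₂⟩ := h𝒳.atlas
  have h0 : AlgSt.RepByAlgSpWith (AlgSp.LocP @LocallyOfFiniteType)
      (diag (BasedFunctor.comp f (toSelf 𝒴))) := by
    rw [Groth.Agent.Lib.Helper27.DiagCancel.comp_toSelf]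
    exact lft_diag_toSelf h𝒳.isStack.1 h𝒳.diag x hx₁ hx₂
  have hb : AlgSt.RepByAlgSpWith ⊤ (cmp f f (toSelf 𝒴) (e₀ f (toSelf 𝒴))) :=
    repByAlgSpWith_cmp f f (toSelf 𝒴) (e₀ f (toSelf 𝒴)) (he₀ f (toSelf 𝒴)) ⊤
      ((Groth.Agent.Lib.Helper27.AlgStackEquiv.repByAlgSp1_iff _).1 h𝒴Δ)
  have hΔb : AlgSt.RepByAlgSpWith (AlgSp.LocP @LocallyOfFiniteType)
      (diag (cmp f f (toSelf 𝒴) (e₀ f (toSelf 𝒴)))) :=
    lft_diag _ (repByAlgSp1_of_with _ hb)
  exact Groth.Agent.Lib.Helper27.DiagCancel.repByAlgSpWith_diag_of_comp f (toSelf 𝒴) _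
    (compHyp_locP Groth.Agent.Lib.Helper3.isEtLocal_locallyOfFiniteType) h𝒳.isStack.1 h𝒴f
    Groth.Agent.Lib.Helper27.ReprDiag.isFibGrpd_selfOver h0 hΔb

end Groth.Agent.Lib.Helper27.DiagLft
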