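import Groth.Agent.Lib.Helper27.LocQAll

set_option autoImplicit false
set_option backward.isDefEq.respectTransparency false
set_option backward.isDefEq.respectTransparency.types false

universe u

open CategoryTheory CategoryTheory.Limits AlgebraicGeometry Opposite FibCat
  Groth.Agent.Lib.Helper27.FpKit Groth.Agent.Lib.Helper27.PshKit Groth.Agent.Lib.Helper27.PshFp
  Groth.Agent.Lib.Helper27.PshRep Groth.Agent.Lib.Helper27.RepWithComp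
  Groth.Agent.Lib.Helper27.Descent Groth.Agent.Lib.Helper27.LocQChart
  Groth.Agent.Lib.Helper27.LocQSpace Groth.Agent.Lib.Helper27.LocQOver
  Groth.Agent.Lib.Helper27.LocQComp Groth.Agent.Lib.Helper27.FpBaseChange


namespace Groth.Agent.Lib.Helper27.LocQTriple

variable {S : Scheme.{u}}

open Stk

local infixr:80 " ⊚ " => BasedFunctor.comp

section HomOf

variable {U V W : Over S}

theorem homOf_congr {Φ Ψ : overCat U ⥤ᵇ overCat V} (e : Φ ≅ Ψ) : homOf Φ = homOf Ψ := by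
  obtain ⟨θ, hθ⟩ : ∃ θ : Φ.obj (Over.mk (𝟙 U)) ⟶ Ψ.obj (Over.mk (𝟙 U)),
      θ = e.hom.toNatTrans.app (Over.mk (𝟙 U)) := ⟨_, rfl⟩
  have hlift : (overCat V).p.IsHomLift (𝟙 U) θ := by
    rw [hθ]
    exact (inferInstance : (overCat V).p.IsHomLift (𝟙 ((overCat U).p.obj (Over.mk (𝟙 U))))
      (e.hom.toNatTrans.app (Over.mk (𝟙 U))))
  have h1 : θ.left = eqToHom (Φ.w_obj (Over.mk (𝟙 U))) ≫ 𝟙 U ≫
      eqToHom (Ψ.w_obj (Over.mk (𝟙 U))).symm :=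
    IsHomLift.fac' (overCat V).p (𝟙 U) θ
  have h2 : θ.left ≫ (Ψ.obj (Over.mk (𝟙 U))).hom = (Φ.obj (Over.mk (𝟙 U))).hom := Over.w θ
  unfold homOf
  rw [← h2, h1]
  simp only [Category.assoc, eqToHom_trans_assoc, eqToHom_refl, Category.id_comp]
  exact Category.id_comp _

theorem homOf_overMap (l : U ⟶ V) : homOf (AlgSt.overMap l) = l := by
  unfold homOf
  change eqToHom _ ≫ (𝟙 U ≫ l) = l
  simp

theorem homOf_comp_overMap (Φ : overCat U ⥤ᵇ overCat V) (k : V ⟶ W) :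
    homOf (Φ ⊚ AlgSt.overMap k) = homOf Φ ≫ k := by
  unfold homOf
  change eqToHom _ ≫ ((Φ.obj (Over.mk (𝟙 U))).hom ≫ k) = _
  rw [Category.assoc]

/-- The morphism of schemes underlying a functor between slices which is representable with a
property has this property. -/
theorem prop_yon_homOf (R : MorphismProperty (AlgSp.Sp S)) (H : CompHyp R)
    (a : overCat U ⥤ᵇ overCat V) (ha : AlgSt.RepByAlgSpWith R a) :
    R ((AlgSp.yon S).map (homOf a)) := by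
  have h1 : AlgSt.RepByAlgSpWith R (AlgSt.overMap (homOf a)) :=
    repByAlgSpWith_of_iso R (isoOverMap a) ha
  have h2 : AlgSt.RepByAlgSpWith R (AlgSt.toOverCat U ⊚ AlgSt.overMap (homOf a)) :=
    repByAlgSpWith_equiv_comp R (AlgSt.toOverCat U) (isEquivOver_toOverCat U) _ h1
  have e1 : AlgSt.toOverCat U ⊚ AlgSt.overMap (homOf a) =
      AlgSt.ofSpMap ((AlgSp.yon S).map (homOf a)) ⊚ AlgSt.toOverCat V := rfl
  rw [e1] at h2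
  have h3 : AlgSt.RepByAlgSpWith R (AlgSt.ofSpMap ((AlgSp.yon S).map (homOf a))) :=
    Groth.Agent.Lib.Helper27.RepWithGeneral.repByAlgSpWith_of_equiv R _ _ (BasedFunctor.id _)
      (AlgSt.toOverCat V) (isEquivOver_id _) (isEquivOver_toOverCat V) (Iso.refl _) h2
  exact prop_of_repByAlgSpWith R H (AlgSp.IsAlgSpace.yon_obj U) (AlgSp.IsAlgSpace.yon_obj V) _ h3

end HomOf

section Good

variable {𝒳 𝒴 : AlgSt.Cat S}

/-- A good chart whose canonical lift is moreover surjective. -/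
theorem exists_good_chart_surj (h𝒳 : FibCat.IsFibGrpd 𝒳.p) (h𝒴 : FibCat.IsFibGrpd 𝒴.p)
    (f : 𝒳 ⥤ᵇ 𝒴) {U₀ V : Over S} (x₀ : overCat U₀ ⥤ᵇ 𝒳)
    (hx₀₁ : AlgSt.RepByAlgSpWith (AlgSp.LocP @Smooth) x₀)
    (hx₀₂ : AlgSt.RepByAlgSpWith AlgSp.IsSurjectiveMor x₀) (y : overCat V ⥤ᵇ 𝒴)
    (hy₁ : AlgSt.RepByAlgSpWith (AlgSp.LocP @Smooth) y)
    (hy₂ : AlgSt.RepByAlgSpWith AlgSp.IsSurjectiveMor y) :
    ∃ (U : Over S) (x : overCat U ⥤ᵇ 𝒳) (h : U ⟶ V)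
      (α : x ⊚ f ≅ AlgSt.overMap h ⊚ y),
      AlgSt.RepByAlgSpWith (AlgSp.LocP @Smooth) x ∧ AlgSt.RepByAlgSpWith AlgSp.IsSurjectiveMor x ∧
      AlgSt.RepByAlgSpWith (AlgSp.LocP @Smooth) (fpLift x (AlgSt.overMap h) α) ∧
      AlgSt.RepByAlgSpWith AlgSp.IsSurjectiveMor (fpLift x (AlgSt.overMap h) α) := by
  obtain ⟨U, c, hc₁, hc₂, hx₁, hx₂⟩ := exists_chart_over h𝒳 h𝒴 f x₀ hx₀₁ hx₀₂ y hy₁ hy₂
  refine ⟨U, _, _, chartIso f x₀ y c, hx₁, hx₂, ?_, ?_⟩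
  all_goals
    have hfU : FibCat.IsFibGrpd (overCat U).p :=
      Groth.Agent.Lib.Helper27.ReprAux.isFibGrpd_overCat U
    have hfU₀ : FibCat.IsFibGrpd (overCat U₀).p :=
      Groth.Agent.Lib.Helper27.ReprAux.isFibGrpd_overCat U₀
    have hfV : FibCat.IsFibGrpd (overCat V).p :=
      Groth.Agent.Lib.Helper27.ReprAux.isFibGrpd_overCat V
    have hfp : FibCat.IsFibGrpd (fp (x₀ ⊚ f) y).p :=
      Groth.Agent.Lib.Helper27.FpFib.isFibGrpd_fp _ _ hfU₀ hfV h𝒴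
  · exact repByAlgSpWith_of_iso _ (Groth.Agent.Lib.Helper27.LocQAll.liftIso f x₀ y c)
      (comp_gen _ (compHyp_locP Groth.Agent.Lib.Helper3.isEtLocal_smooth) hfU hfp c
        (mapFst f y x₀) hc₁ (repByAlgSpWith_mapFst f y x₀ _ hx₀₁))
  · exact repByAlgSpWith_of_iso _ (Groth.Agent.Lib.Helper27.LocQAll.liftIso f x₀ y c)
      (comp_gen _ Groth.Agent.Lib.Helper27.DiagLft.compHyp_isSurjectiveMor hfU hfp c
        (mapFst f y x₀) hc₂ (repByAlgSpWith_mapFst f y x₀ _ hx₀₂))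

end Good

section Triple

variable {𝒳 𝒴 𝒵 : AlgSt.Cat S}

/-- Compatible charts of two composable morphisms of algebraic stacks, adapted to a property of
the composite. -/
theorem exists_triple_chart (P : MorphismProperty (AlgSp.Sp S)) (hP : AlgSp.IsSmoothLocalST P)
    (h𝒳 : AlgSt.IsAlgStack Scheme.fppfPrecoverage 𝒳)
    (h𝒴 : AlgSt.IsAlgStack Scheme.fppfPrecoverage 𝒴)
    (h𝒵 : AlgSt.IsAlgStack Scheme.fppfPrecoverage 𝒵)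
    (f : 𝒳 ⥤ᵇ 𝒴) (g : 𝒴 ⥤ᵇ 𝒵) (Hfg : AlgSt.LocQ P (f ⊚ g)) :
    ∃ (U V W : Over S) (x : overCat U ⥤ᵇ 𝒳) (y : overCat V ⥤ᵇ 𝒴) (z : overCat W ⥤ᵇ 𝒵)
      (h : U ⟶ V) (k : V ⟶ W) (_ : x ⊚ f ≅ AlgSt.overMap h ⊚ y)
      (β : y ⊚ g ≅ AlgSt.overMap k ⊚ z),
      AlgSt.RepByAlgSpWith (AlgSp.LocP @Smooth) x ∧ AlgSt.RepByAlgSpWith AlgSp.IsSurjectiveMor x ∧
      AlgSt.RepByAlgSpWith (AlgSp.LocP @Smooth) y ∧ AlgSt.RepByAlgSpWith AlgSp.IsSurjectiveMor y ∧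
      AlgSt.RepByAlgSpWith (AlgSp.LocP @Smooth) z ∧
      AlgSt.RepByAlgSpWith (AlgSp.LocP @Smooth) (fpLift y (AlgSt.overMap k) β) ∧
      P ((AlgSp.yon S).map (h ≫ k)) := by
  obtain ⟨W, z, hz₁, hz₂⟩ := h𝒵.atlas
  obtain ⟨V₀, y₀, hy₀₁, hy₀₂⟩ := h𝒴.atlas
  obtain ⟨U₀, x₀, hx₀₁, hx₀₂⟩ := h𝒳.atlas
  have hf𝒳 := h𝒳.isStack.1
  have hf𝒴 := h𝒴.isStack.1
  have hf𝒵 := h𝒵.isStack.1
  obtain ⟨U₁, x₁, l, γ₁, hx₁₁, hx₁₂, hc₃⟩ :=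
    Groth.Agent.Lib.Helper27.LocQAll.exists_good_chart hf𝒳 hf𝒵 (f ⊚ g) x₀ hx₀₁ hx₀₂ z hz₁ hz₂
  have hPl : P ((AlgSp.yon S).map l) :=
    Groth.Agent.Lib.Helper27.LocQAll.prop_of_locQ P hP hf𝒳 hf𝒵 (f ⊚ g) Hfg x₁ z l γ₁ hz₁ hc₃
  obtain ⟨V₁, y₁, k₁, β₁, hy₁₁, hy₁₂, hc₂₁, hc₂₂⟩ :=
    exists_good_chart_surj hf𝒴 hf𝒵 g y₀ hy₀₁ hy₀₂ z hz₁ hz₂
  obtain ⟨c₂, hc₂def⟩ : ∃ c₂ : overCat V₁ ⥤ᵇ fp g z, c₂ = fpLift y₁ (AlgSt.overMap k₁) β₁ :=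
    ⟨_, rfl⟩
  rw [← hc₂def] at hc₂₁ hc₂₂
  obtain ⟨d, hddef⟩ : ∃ d : overCat U₁ ⥤ᵇ fp g z, d = fpLift (x₁ ⊚ f) (AlgSt.overMap l) γ₁ :=
    ⟨_, rfl⟩
  obtain ⟨C, eC, heC, -⟩ := hc₂₁ U₁ d
  obtain ⟨U, c, hc₁, hc₂⟩ := exists_atlas_of_equiv C eC heC
  have hfU : FibCat.IsFibGrpd (overCat U).p := Groth.Agent.Lib.Helper27.ReprAux.isFibGrpd_overCat U
  have hfU₁ : FibCat.IsFibGrpd (overCat U₁).p :=
    Groth.Agent.Lib.Helper27.ReprAux.isFibGrpd_overCat U₁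
  have hfV₁ : FibCat.IsFibGrpd (overCat V₁).p :=
    Groth.Agent.Lib.Helper27.ReprAux.isFibGrpd_overCat V₁
  have hfW : FibCat.IsFibGrpd (overCat W).p := Groth.Agent.Lib.Helper27.ReprAux.isFibGrpd_overCat W
  have hfgz : FibCat.IsFibGrpd (fp g z).p :=
    Groth.Agent.Lib.Helper27.FpFib.isFibGrpd_fp _ _ hf𝒴 hfW hf𝒵
  have hfp : FibCat.IsFibGrpd (fp d c₂).p :=
    Groth.Agent.Lib.Helper27.FpFib.isFibGrpd_fp _ _ hfU₁ hfV₁ hfgz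
  obtain ⟨a, hadef⟩ : ∃ a : overCat U ⥤ᵇ overCat U₁, a = c ⊚ fpFst d c₂ := ⟨_, rfl⟩
  obtain ⟨b, hbdef⟩ : ∃ b : overCat U ⥤ᵇ overCat V₁, b = c ⊚ fpSnd d c₂ := ⟨_, rfl⟩
  have ha₁ : AlgSt.RepByAlgSpWith (AlgSp.LocP @Smooth) a := by
    rw [hadef]
    exact comp_gen _ (compHyp_locP Groth.Agent.Lib.Helper3.isEtLocal_smooth) hfU hfp c _ hc₁
      (Groth.Agent.Lib.Helper27.RepWithGeneral.repByAlgSpWith_fpFst _ c₂ d hc₂₁)
  have ha₂ : AlgSt.RepByAlgSpWith AlgSp.IsSurjectiveMor a := by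
    rw [hadef]
    exact comp_gen _ Groth.Agent.Lib.Helper27.DiagLft.compHyp_isSurjectiveMor hfU hfp c _ hc₂
      (Groth.Agent.Lib.Helper27.RepWithGeneral.repByAlgSpWith_fpFst _ c₂ d hc₂₂)
  have ι : a ⊚ d ≅ b ⊚ c₂ := by
    rw [hadef, hbdef]
    exact whiskerLeftIso c (fpIso d c₂)
  have e1 : (a ⊚ x₁) ⊚ f ≅ b ⊚ y₁ := by
    have := whiskerRightIso ι (fpFst g z)
    rw [hddef, hc₂def] at this
    exact this
  have e2 : a ⊚ AlgSt.overMap l ≅ b ⊚ AlgSt.overMap k₁ := by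
    have := whiskerRightIso ι (fpSnd g z)
    rw [hddef, hc₂def] at this
    exact this
  have heq : homOf b ≫ k₁ = homOf a ≫ l := by
    have h1 := homOf_congr e2
    rw [homOf_comp_overMap, homOf_comp_overMap] at h1
    exact h1.symm
  refine ⟨U, V₁, W, a ⊚ x₁, y₁, z, homOf b, k₁, e1 ≪≫ whiskerRightIso (isoOverMap b) y₁, β₁,
    ?_, ?_, hy₁₁, hy₁₂, hz₁, ?_, ?_⟩
  · exact comp_gen _ (compHyp_locP Groth.Agent.Lib.Helper3.isEtLocal_smooth) hfU hfU₁ a x₁ ha₁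
      hx₁₁
  · exact comp_gen _ Groth.Agent.Lib.Helper27.DiagLft.compHyp_isSurjectiveMor hfU hfU₁ a x₁ ha₂
      hx₁₂
  · rw [← hc₂def]; exact hc₂₁
  · rw [heq, Functor.map_comp]
    exact hP.precomp (AlgSp.IsAlgSpace.yon_obj U) (AlgSp.IsAlgSpace.yon_obj U₁)
      (AlgSp.IsAlgSpace.yon_obj W) _ _
      (prop_yon_homOf _ (compHyp_locP Groth.Agent.Lib.Helper3.isEtLocal_smooth) a ha₁) hPl

end Triple

end Groth.Agent.Lib.Helper27.LocQTriple
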