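import Groth.Agent.Lib.Helper27.SmSrcLocal
import Groth.Agent.Lib.Helper3.AlgSpLocSrc2
import Groth.Agent.Lib.Helper3.AlgSpLocBase
import Groth.Agent.Lib.Helper3.AlgSpFppfFpqc
import Groth.Agent.Lib.Helper3.AlgSpSmLocal2
import Groth.Agent.Lib.Helper3.FppfLocal2
import Groth.Agent.Lib.Helper3.AlgSpLocP5

/-!
# `LocP P` is smooth local on the source-and-target, for `P` flat, locally of finite type, locally
of finite presentation
-/

set_option autoImplicit false
set_option backward.isDefEq.respectTransparency false
set_option backward.isDefEq.respectTransparency.types false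
universe u
open CategoryTheory CategoryTheory.Limits AlgebraicGeometry Opposite MorphismProperty

namespace Groth.Agent.Lib.Helper27.SmLocP

open AlgSp Groth.Agent.Lib.Helper3

variable {S : Scheme.{u}}

/-- A scheme property which can be checked after precomposition with one smooth surjective
morphism can be checked after precomposition with a jointly surjective smooth family. -/
theorem of_family_comp (P : MorphismProperty Scheme.{u}) [IsZariskiLocalAtSource P]
    (hP : ∀ {U' U V : Scheme.{u}} (π : U' ⟶ U) (g : U ⟶ V), Smooth π → Surjective π →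
      P (π ≫ g) → P g)
    {ι : Type u} {U V : Scheme.{u}} (T : ι → Scheme.{u})
    (p : ∀ i, T i ⟶ U) (hpf : ∀ i, Smooth (p i)) (hps : ∀ x : U, ∃ i, x ∈ Set.range (p i))
    (h : U ⟶ V) (hh : ∀ i, P (p i ≫ h)) : P h := by
  have : IsZariskiLocalAtSource @Smooth.{u} := HasRingHomProperty.instIsZariskiLocalAtSource
  have h1 : Smooth (Sigma.desc p) := IsZariskiLocalAtSource.sigmaDesc (P := @Smooth) hpf
  have h2 : Surjective (Sigma.desc p) := by
    refine ⟨fun x => ?_⟩
    obtain ⟨i, t, rfl⟩ := hps x
    refine ⟨(Sigma.ι T i) t, ?_⟩
    rw [← Scheme.Hom.comp_apply, Sigma.ι_desc]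
  refine hP (Sigma.desc p) h h1 h2 ?_
  have : Sigma.desc p ≫ h = Sigma.desc (fun i => p i ≫ h) := by
    apply Sigma.hom_ext
    intro i
    rw [Sigma.ι_desc, ← Category.assoc, Sigma.ι_desc]
  rw [this]
  exact IsZariskiLocalAtSource.sigmaDesc hh

/-- The hypotheses on a property of morphisms of schemes under which `LocP P` is smooth local on
the source-and-target. -/
structure IsSmLocal (P : MorphismProperty Scheme.{u}) : Prop where
  etLocal : IsEtLocal P
  smooth_le : @Smooth ≤ P
  of_comp : ∀ {U' U V : Scheme.{u}} (π : U' ⟶ U) (g : U ⟶ V), Smooth π → Surjective π →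
      P (π ≫ g) → P g
  localAtSource : IsZariskiLocalAtSource P
  localAtTarget : IsZariskiLocalAtTarget P
  descends : P.DescendsAlong (@Surjective ⊓ @Flat ⊓ @QuasiCompact)

theorem smooth_le_flat : (@Smooth : MorphismProperty Scheme.{u}) ≤ @Flat := by
  intro X Y f hf
  have : Smooth f := hf
  infer_instance

theorem smooth_le_lfp : (@Smooth : MorphismProperty Scheme.{u}) ≤ @LocallyOfFinitePresentation := by
  intro X Y f hf
  have : Smooth f := hf
  infer_instance

theorem smooth_le_lft : (@Smooth : MorphismProperty Scheme.{u}) ≤ @LocallyOfFiniteType := by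
  intro X Y f hf
  have : Smooth f := hf
  infer_instance

theorem isSmLocal_flat : IsSmLocal @Flat.{u} where
  etLocal := isEtLocal_flat
  smooth_le := smooth_le_flat
  of_comp π g h1 h2 h := by
    have : Smooth π := h1
    have : Surjective π := h2
    exact flat_of_flat_surjective_comp π g h
  localAtSource := inferInstance
  localAtTarget := inferInstance
  descends := inferInstance

theorem isSmLocal_lft : IsSmLocal @LocallyOfFiniteType.{u} where
  etLocal := isEtLocal_locallyOfFiniteType
  smooth_le := smooth_le_lft
  of_comp π g h1 h2 h := by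
    have : Smooth π := h1
    have : Surjective π := h2
    exact SmSrcLocal.locallyOfFiniteType_of_smooth_surjective_comp π g h
  localAtSource := inferInstance
  localAtTarget := inferInstance
  descends := inferInstance

theorem isSmLocal_lfp : IsSmLocal @LocallyOfFinitePresentation.{u} where
  etLocal := isEtLocal_locallyOfFinitePresentation
  smooth_le := smooth_le_lfp
  of_comp π g h1 h2 h := by
    have : Smooth π := h1
    have : Surjective π := h2
    exact SmSrcLocal.locallyOfFinitePresentation_of_smooth_surjective_comp π g h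
  localAtSource := inferInstance
  localAtTarget := inferInstance
  descends := inferInstance

section

variable {P : MorphismProperty Scheme.{u}} (hP : IsSmLocal P)

include hP

theorem isLocalOnSource_smooth_locP : IsLocalOnSource (IsSmCover (S := S)) (LocP P) := by
  intro ι X Xi g hX hXi hcov Y f hY
  have := hP.localAtSource
  constructor
  · intro hf i
    exact locP_comp hP.etLocal (hXi i) hX hY (g i) f (locP_mono hP.smooth_le (hcov.1 i)) hf
  · intro hf
    exact locP_of_cover_comp hP.etLocal
      (fun T p hp hs h hh => of_family_comp P hP.of_comp T p hp hs h hh) Xi g hX hXi hcov.1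
      hcov.2 f hY hf

theorem isLocalOnBase_smooth_locP : IsLocalOnBase (IsSmCover (S := S)) (LocP P) := by
  intro ι Y Yi g hY hYi hcov X f hX Xi p q hXi sq
  have := hP.localAtTarget
  have := hP.descends
  constructor
  · intro hf i
    exact locP_of_isPullback hP.etLocal hX hY (hYi i) (hXi i) f (g i) (q i) (p i) (sq i) hf
  · intro hp
    have hfppf : IsFppfCover Yi g :=
      ⟨fun i => ⟨locP_mono smooth_le_flat (hcov.1 i), locP_mono smooth_le_lfp (hcov.1 i)⟩, hcov.2⟩
    exact locP_of_stdRefinement hP.etLocal hX hY hYi hXi
      (hasStdRefinement_of_isFppfCover hY Yi g hYi hfppf) sq hp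

theorem isLocalOnBase_fppf_locP : IsLocalOnBase (IsFppfCover (S := S)) (LocP P) := by
  intro ι Y Yi g hY hYi hcov X f hX Xi p q hXi sq
  have := hP.localAtTarget
  have := hP.descends
  constructor
  · intro hf i
    exact locP_of_isPullback hP.etLocal hX hY (hYi i) (hXi i) f (g i) (q i) (p i) (sq i) hf
  · intro hp
    exact locP_of_stdRefinement hP.etLocal hX hY hYi hXi
      (hasStdRefinement_of_isFppfCover hY Yi g hYi hcov) sq hp

/-- `LocP P` is smooth local on the source-and-target. -/
theorem isSmoothLocalST_locP : IsSmoothLocalST (LocP (S := S) P) :=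
  isSmoothLocalST_of_local (isLocalOnSource_smooth_locP hP) (isLocalOnBase_smooth_locP hP)
    (fun _ _ _ hX hY hZ f g hf hg =>
      locP_comp hP.etLocal hX hY hZ f g hf (locP_mono hP.smooth_le hg))

end

theorem isSmoothLocalST_locP_flat : IsSmoothLocalST (LocP (S := S) @Flat) :=
  isSmoothLocalST_locP isSmLocal_flat

theorem isSmoothLocalST_locP_lft : IsSmoothLocalST (LocP (S := S) @LocallyOfFiniteType) :=
  isSmoothLocalST_locP isSmLocal_lft

theorem isSmoothLocalST_locP_lfp : IsSmoothLocalST (LocP (S := S) @LocallyOfFinitePresentation) :=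
  isSmoothLocalST_locP isSmLocal_lfp

end Groth.Agent.Lib.Helper27.SmLocP
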