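import Groth.Agent.Lib.Helper27.FieldPt
import Groth.Agent.Lib.Helper27.SchemeField
import Groth.Agent.Lib.Helper27.SmLocP
import Groth.Agent.Lib.Helper27.SepDiag
import Groth.Agent.Lib.Helper27.LocQTriple
import Groth.Agent.Lib.Helper27.FpSwap
import Groth.Agent.Lib.Helper27.NoethLfp

/-!
# Reduced algebraic stacks with one point and field-valued points (helper27)
-/

set_option autoImplicit false
set_option backward.isDefEq.respectTransparency false
set_option backward.isDefEq.respectTransparency.types false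

universe u

open CategoryTheory CategoryTheory.Limits AlgebraicGeometry Opposite FibCat
  Groth.Agent.Lib.Helper27.FpKit Groth.Agent.Lib.Helper27.LocQChart
  Groth.Agent.Lib.Helper27.LocQOver Groth.Agent.Lib.Helper27.LocQSmoothOpen
  Groth.Agent.Lib.Helper27.StPoints Groth.Agent.Lib.Helper27.SmLocP
  Groth.Agent.Lib.Helper27.FieldPt Groth.Agent.Lib.Helper27.SchemeField
  Groth.Agent.Lib.Helper27.RepWithComp

namespace Groth.Agent.Lib.Helper27.FieldPt

variable {S : Scheme.{u}}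

local infixr:80 " ⊚ " => BasedFunctor.comp

section Comp

variable {Q : MorphismProperty Scheme.{u}} (hQ : IsSmLocal Q)

include hQ

theorem locP_baseChange : ∀ ⦃X₁ Y₁ X₂ Y₂ : AlgSp.Sp S⦄, AlgSp.IsAlgSpace X₁ → AlgSp.IsAlgSpace Y₁ →
    AlgSp.IsAlgSpace X₂ → AlgSp.IsAlgSpace Y₂ → ∀ (a : X₁ ⟶ Y₁) (b : Y₂ ⟶ Y₁) (a' : X₂ ⟶ Y₂)
    (b' : X₂ ⟶ X₁), IsPullback b' a' a b → AlgSp.LocP Q a → AlgSp.LocP Q a' :=
  fun _ _ _ _ h1 h2 h3 h4 a b a' b' sq ha =>
    Groth.Agent.Lib.Helper3.locP_of_isPullback hQ.etLocal h1 h2 h4 h3 a b b' a' sq ha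

theorem locP_compose : ∀ ⦃X Y Z : AlgSp.Sp S⦄, AlgSp.IsAlgSpace X → AlgSp.IsAlgSpace Y →
    AlgSp.IsAlgSpace Z → ∀ (a : X ⟶ Y) (b : Y ⟶ Z), AlgSp.LocP Q a → AlgSp.LocP Q b →
    AlgSp.LocP Q (a ≫ b) :=
  fun _ _ _ h1 h2 h3 a b ha hb =>
    Groth.Agent.Lib.Helper3.locP_comp hQ.etLocal h1 h2 h3 a b ha hb

/-- Composition of functors representable with a smooth-local property. -/
theorem repByAlgSpWith_locP_comp {𝒳 𝒴 𝒵 : AlgSt.Cat S} (h𝒳 : FibCat.IsFibGrpd 𝒳.p)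
    (h𝒴 : FibCat.IsFibGrpd 𝒴.p) (f : 𝒳 ⥤ᵇ 𝒴) (g : 𝒴 ⥤ᵇ 𝒵)
    (hf : AlgSt.RepByAlgSpWith (AlgSp.LocP Q) f) (hg : AlgSt.RepByAlgSpWith (AlgSp.LocP Q) g) :
    AlgSt.RepByAlgSpWith (AlgSp.LocP Q) (f ⊚ g) :=
  repByAlgSpWith_comp _ (locP_compose hQ) (isLocalOnBase_fppf_locP hQ) h𝒳 h𝒴 f g hf hg

theorem repByAlgSpWith_of_smooth {𝒜 ℬ : AlgSt.Cat S} (x : 𝒜 ⥤ᵇ ℬ)
    (hx : AlgSt.RepByAlgSpWith (AlgSp.LocP @Smooth) x) :
    AlgSt.RepByAlgSpWith (AlgSp.LocP Q) x :=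
  Groth.Agent.Lib.Helper27.SepDiag.repByAlgSpWith_mono x
    (fun _ _ _ hk => Groth.Agent.Lib.Helper3.locP_mono hQ.smooth_le hk) hx

/-- A chart of a stack precomposed with a morphism of schemes having a smooth-local property. -/
theorem repByAlgSpWith_chart_comp {𝒵 : AlgSt.Cat S} {V' W : Over S} (j : V' ⟶ W) (hj : Q j.left)
    (w : overCat W ⥤ᵇ 𝒵) (hw : AlgSt.RepByAlgSpWith (AlgSp.LocP @Smooth) w) :
    AlgSt.RepByAlgSpWith (AlgSp.LocP Q) (AlgSt.overMap j ⊚ w) :=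
  have := hQ.etLocal.stableBC
  repByAlgSpWith_locP_comp hQ (Groth.Agent.Lib.Helper27.ReprAux.isFibGrpd_overCat V')
    (Groth.Agent.Lib.Helper27.ReprAux.isFibGrpd_overCat W) _ _
    (repByAlgSpWith_overMap _ (locP_baseChange hQ) j
      (Groth.Agent.Lib.Helper3.locP_of_repWith hQ.etLocal _
        ((AlgSp.repWith_yon_map_iff Q j).2 hj)))
    (repByAlgSpWith_of_smooth hQ w hw)

end Comp

section Exists

variable {𝒵 : AlgSt.Cat S}

theorem nonempty_atlas_of_points (h𝒵 : AlgSt.IsAlgStack Scheme.fppfPrecoverage 𝒵)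
    (hne : Nonempty (AlgSt.Points 𝒵)) {W : Over S} (w : overCat W ⥤ᵇ 𝒵)
    (hw₂ : AlgSt.RepByAlgSpWith AlgSp.IsSurjectiveMor w) : Nonempty W.left := by
  obtain ⟨p⟩ := hne
  obtain ⟨q, -⟩ := isSurjective_of_rep (Groth.Agent.Lib.Helper27.ReprAux.isFibGrpd_overCat W)
    h𝒵.isStack.1 w hw₂ p
  obtain ⟨t, -⟩ := (ptOf_bijective W).2 q
  exact ⟨t⟩

/-- Any functor from a nonempty scheme to an algebraic stack with at most one point is
surjective. -/
theorem repByAlgSpWith_surjective_of_subsingleton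
    (h𝒵 : AlgSt.IsAlgStack Scheme.fppfPrecoverage 𝒵) (hsub : Subsingleton (AlgSt.Points 𝒵))
    (V : Over S) [Nonempty V.left] (z : overCat V ⥤ᵇ 𝒵) :
    AlgSt.RepByAlgSpWith AlgSp.IsSurjectiveMor z := by
  refine rep_of_isSurjective (Groth.Agent.Lib.Helper27.ReprAux.isFibGrpd_overCat V)
    h𝒵.isStack.1 z (Groth.Agent.Lib.Helper27.DiagIff.chart_of_diag h𝒵.isStack.1 h𝒵.diag V z)
    (fun p => ?_)
  obtain ⟨t⟩ := (inferInstance : Nonempty V.left)
  exact ⟨ptOf V t, Subsingleton.elim _ _⟩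

/-- A reduced algebraic stack with exactly one point receives a flat surjective morphism from the
spectrum of a field. -/
theorem exists_flat_fieldPt (h𝒵 : AlgSt.IsAlgStack Scheme.fppfPrecoverage 𝒵)
    (hred : AlgSt.SmoothLocally (fun T => IsReduced T) 𝒵)
    (hne : Nonempty (AlgSt.Points 𝒵)) (hsub : Subsingleton (AlgSt.Points 𝒵)) :
    ∃ (k : Type u) (_ : Field k) (a : Spec (CommRingCat.of k) ⟶ S)
      (z : overCat (Over.mk a) ⥤ᵇ 𝒵), AlgSt.RepByAlgSpWith AlgSp.IsSurjectiveMor z ∧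
        AlgSt.RepByAlgSpWith (AlgSp.LocP @Flat) z := by
  obtain ⟨W, w, hw₁, hw₂⟩ := h𝒵.atlas
  have hWred : IsReduced W.left := hred W w hw₁
  have hWne : Nonempty W.left := nonempty_atlas_of_points h𝒵 hne w hw₂
  obtain ⟨η, hη⟩ := exists_isField_stalk (W := W.left)
  let j : Over.mk (W.left.fromSpecResidueField η ≫ W.hom) ⟶ W :=
    Over.homMk (W.left.fromSpecResidueField η) rfl
  have hne' : Nonempty ↥(Over.mk (W.left.fromSpecResidueField η ≫ W.hom)).left :=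
    inferInstanceAs (Nonempty ↥(Spec (W.left.residueField η)))
  refine ⟨↥(W.left.residueField η), inferInstance, W.left.fromSpecResidueField η ≫ W.hom,
    AlgSt.overMap j ⊚ w, repByAlgSpWith_surjective_of_subsingleton h𝒵 hsub _ _, ?_⟩
  exact repByAlgSpWith_chart_comp isSmLocal_flat j
    (flat_fromSpecResidueField_of_isField η hη) w hw₁

end Exists

section Closed

variable {𝒵 : AlgSt.Cat S}

theorem nonempty_points_of_chart {V : Over S} [Nonempty V.left] (z : overCat V ⥤ᵇ 𝒵) :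
    Nonempty (AlgSt.Points 𝒵) := by
  obtain ⟨t⟩ := (inferInstance : Nonempty V.left)
  exact ⟨AlgSt.Points.map z (ptOf V t)⟩

/-- If an algebraic stack receives a flat surjective morphism from the spectrum of a field, it
receives one which is moreover locally of finite type (and locally of finite presentation when
the stack is locally Noetherian). -/
theorem exists_lft_fieldPt (h𝒵 : AlgSt.IsAlgStack Scheme.fppfPrecoverage 𝒵)
    (V : Over S) [Subsingleton V.left] [IsIntegral V.left] (z₁ : overCat V ⥤ᵇ 𝒵)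
    (hzs : AlgSt.RepByAlgSpWith AlgSp.IsSurjectiveMor z₁)
    (hzf : AlgSt.RepByAlgSpWith (AlgSp.LocP @Flat) z₁) :
    ∃ (k : Type u) (_ : Field k) (a : Spec (CommRingCat.of k) ⟶ S)
      (z : overCat (Over.mk a) ⥤ᵇ 𝒵),
      AlgSt.RepByAlgSpWith (AlgSp.LocP @LocallyOfFiniteType) z ∧
      (AlgSt.SmoothLocally (fun T => IsLocallyNoetherian T) 𝒵 →
        AlgSt.RepByAlgSpWith (AlgSp.LocP @LocallyOfFinitePresentation) z) ∧
      AlgSt.RepByAlgSpWith AlgSp.IsSurjectiveMor z ∧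
      AlgSt.RepByAlgSpWith (AlgSp.LocP @Flat) z := by
  obtain ⟨W, w, hw₁, hw₂⟩ := h𝒵.atlas
  have hWne : Nonempty W.left :=
    nonempty_atlas_of_points h𝒵 (nonempty_points_of_chart z₁) w hw₂
  obtain ⟨k, hk, j₀, hj₀⟩ := exists_closedPoint_lft (W := W.left)
  let j : Over.mk (j₀ ≫ W.hom) ⟶ W := Over.homMk j₀ rfl
  have hne' : Nonempty ↥(Over.mk (j₀ ≫ W.hom)).left :=
    inferInstanceAs (Nonempty (PrimeSpectrum k))
  obtain ⟨h1, h2⟩ := surjective_flat_of_fieldPt h𝒵 V z₁ hzs hzf (Over.mk (j₀ ≫ W.hom))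
    (AlgSt.overMap j ⊚ w)
  refine ⟨k, hk, j₀ ≫ W.hom, AlgSt.overMap j ⊚ w,
    repByAlgSpWith_chart_comp isSmLocal_lft j hj₀ w hw₁, fun hnoeth => ?_, h1, h2⟩
  have hWn : IsLocallyNoetherian W.left := hnoeth W w hw₁
  have hj₁ : LocallyOfFinitePresentation j₀ :=
    Groth.Agent.Lib.Helper27.NoethLfp.locallyOfFinitePresentation_of_isLocallyNoetherian j₀
  exact repByAlgSpWith_chart_comp isSmLocal_lfp j hj₁ w hw₁

end Closed

section Descend

variable {𝒵 : AlgSt.Cat S}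

/-- The two legs of a smooth chart of the 2-fibre product of a field-valued point and a smooth
chart. -/
theorem exists_legs (h𝒵 : AlgSt.IsAlgStack Scheme.fppfPrecoverage 𝒵) (V : Over S)
    (z₁ : overCat V ⥤ᵇ 𝒵)
    (hzs : AlgSt.RepByAlgSpWith AlgSp.IsSurjectiveMor z₁)
    (hzf : AlgSt.RepByAlgSpWith (AlgSp.LocP @Flat) z₁)
    (U : Over S) (x : overCat U ⥤ᵇ 𝒵)
    (hx : AlgSt.RepByAlgSpWith (AlgSp.LocP @Smooth) x) :
    ∃ (T' : Over S) (g₁ : T' ⟶ V) (g₂ : T' ⟶ U), Smooth g₁.left ∧ Flat g₂.left ∧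
      Function.Surjective g₂.left ∧
      (AlgSt.RepByAlgSpWith (AlgSp.LocP @LocallyOfFinitePresentation) z₁ →
        LocallyOfFinitePresentation g₂.left) := by
  have hV := Groth.Agent.Lib.Helper27.QcStack.isAlgStack_overCat V
  have hU := Groth.Agent.Lib.Helper27.QcStack.isAlgStack_overCat U
  have h𝒯 : AlgSt.IsAlgStack Scheme.fppfPrecoverage (fp z₁ x) :=
    Groth.Agent.Lib.Helper27.AlgStackFp.isAlgStack_fp z₁ x h𝒵.isStack h𝒵.diag hV hU
  obtain ⟨T', t, ht₁, ht₂⟩ := h𝒯.atlas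
  have hT' := Groth.Agent.Lib.Helper27.ReprAux.isFibGrpd_overCat T'
  have hsm : AlgSt.RepByAlgSpWith (AlgSp.LocP @Smooth) (t ⊚ fpFst z₁ x) :=
    comp_gen _ (Groth.Agent.Lib.Helper27.RepWithComp.compHyp_locP
      Groth.Agent.Lib.Helper3.isEtLocal_smooth) hT' h𝒯.isStack.1 t (fpFst z₁ x) ht₁
      (Groth.Agent.Lib.Helper27.RepWithGeneral.repByAlgSpWith_fpFst _ x z₁ hx)
  have hfl : AlgSt.RepByAlgSpWith (AlgSp.LocP @Flat) (t ⊚ fpSnd z₁ x) :=
    repByAlgSpWith_locP_comp isSmLocal_flat hT' h𝒯.isStack.1 t (fpSnd z₁ x)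
      (repByAlgSpWith_of_smooth isSmLocal_flat t ht₁)
      (Groth.Agent.Lib.Helper27.FpSwap.repByAlgSpWith_fpSnd _ x z₁ hzf)
  have hsurj : AlgSt.IsSurjective (t ⊚ fpSnd z₁ x) := by
    intro p
    obtain ⟨q, rfl⟩ := isSurjective_of_rep h𝒯.isStack.1 hU.isStack.1 (fpSnd z₁ x)
      (Groth.Agent.Lib.Helper27.FpSwap.repByAlgSpWith_fpSnd _ x z₁ hzs) p
    obtain ⟨r, rfl⟩ := isSurjective_of_rep hT' h𝒯.isStack.1 t ht₂ q
    exact ⟨r, Groth.Agent.Lib.Helper27.PointsKit.map_comp _ _ _⟩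
  refine ⟨T', homOf (t ⊚ fpFst z₁ x), homOf (t ⊚ fpSnd z₁ x), ?_, ?_, ?_, fun hzp => ?_⟩
  · exact AlgSp.locP_yon_map (Groth.Agent.Lib.Helper27.LocQTriple.prop_yon_homOf _
      (Groth.Agent.Lib.Helper27.RepWithComp.compHyp_locP
        Groth.Agent.Lib.Helper3.isEtLocal_smooth) _ hsm)
  · exact AlgSp.locP_yon_map (Groth.Agent.Lib.Helper27.LocQTriple.prop_yon_homOf _
      (Groth.Agent.Lib.Helper27.RepWithComp.compHyp_locP
        Groth.Agent.Lib.Helper3.isEtLocal_flat) _ hfl)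
  · exact Groth.Agent.Lib.Helper27.LocQFlatCancel.surjective_homOf_of_isSurjective _ hsurj
  · have hfp : AlgSt.RepByAlgSpWith (AlgSp.LocP @LocallyOfFinitePresentation)
        (t ⊚ fpSnd z₁ x) :=
      repByAlgSpWith_locP_comp isSmLocal_lfp hT' h𝒯.isStack.1 t (fpSnd z₁ x)
        (repByAlgSpWith_of_smooth isSmLocal_lfp t ht₁)
        (Groth.Agent.Lib.Helper27.FpSwap.repByAlgSpWith_fpSnd _ x z₁ hzp)
    exact AlgSp.locP_yon_map (Groth.Agent.Lib.Helper27.LocQTriple.prop_yon_homOf _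
      (Groth.Agent.Lib.Helper27.RepWithComp.compHyp_locP
        Groth.Agent.Lib.Helper3.isEtLocal_locallyOfFinitePresentation) _ hfp)

/-- Smooth charts of an algebraic stack receiving a flat surjective morphism from the spectrum
of a field are reduced. -/
theorem isReduced_chart_of_fieldPt (h𝒵 : AlgSt.IsAlgStack Scheme.fppfPrecoverage 𝒵)
    {k : Type u} [Field k] (a : Spec (CommRingCat.of k) ⟶ S)
    (z₁ : overCat (Over.mk a) ⥤ᵇ 𝒵)
    (hzs : AlgSt.RepByAlgSpWith AlgSp.IsSurjectiveMor z₁)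
    (hzf : AlgSt.RepByAlgSpWith (AlgSp.LocP @Flat) z₁) :
    AlgSt.SmoothLocally (fun T => IsReduced T) 𝒵 := by
  intro U x hx
  obtain ⟨T', g₁, g₂, h1, h2, h3, -⟩ := exists_legs h𝒵 (Over.mk a) z₁ hzs hzf U x hx
  have hs : Smooth g₁.left := h1
  have hf : Flat g₂.left := h2
  have hsj : Surjective g₂.left := ⟨h3⟩
  have hred : IsReduced T'.left :=
    isReduced_of_smooth_to_field (k := k) (X := T'.left) g₁.left
  exact isReduced_of_flat_surjective g₂.left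

/-- Smooth charts of an algebraic stack receiving a flat, locally finitely presented, surjective
morphism from the spectrum of a field are locally Noetherian. -/
theorem isLocallyNoetherian_chart_of_fieldPt (h𝒵 : AlgSt.IsAlgStack Scheme.fppfPrecoverage 𝒵)
    {k : Type u} [Field k] (a : Spec (CommRingCat.of k) ⟶ S)
    (z₁ : overCat (Over.mk a) ⥤ᵇ 𝒵)
    (hzp : AlgSt.RepByAlgSpWith (AlgSp.LocP @LocallyOfFinitePresentation) z₁)
    (hzs : AlgSt.RepByAlgSpWith AlgSp.IsSurjectiveMor z₁)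
    (hzf : AlgSt.RepByAlgSpWith (AlgSp.LocP @Flat) z₁) :
    AlgSt.SmoothLocally (fun T => IsLocallyNoetherian T) 𝒵 := by
  intro U x hx
  obtain ⟨T', g₁, g₂, h1, h2, h3, h4⟩ := exists_legs h𝒵 (Over.mk a) z₁ hzs hzf U x hx
  have hs : Smooth g₁.left := h1
  have hf : Flat g₂.left := h2
  have hsj : Surjective g₂.left := ⟨h3⟩
  have hp : LocallyOfFinitePresentation g₂.left := h4 hzp
  have hN : IsLocallyNoetherian (Spec (CommRingCat.of k)) := inferInstance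
  have hT : IsLocallyNoetherian T'.left :=
    LocallyOfFiniteType.isLocallyNoetherian (X := T'.left) (Y := Spec (CommRingCat.of k)) g₁.left
  exact isLocallyNoetherian_of_fppf g₂.left

end Descend

end Groth.Agent.Lib.Helper27.FieldPt
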