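import Groth.Agent.Lib.Helper27.Descent2
import Groth.Agent.Lib.Helper27.FpFib

/-!
# Testing properties of functors representable by algebraic spaces on algebraic spaces (helper27)
-/

set_option autoImplicit false
set_option backward.isDefEq.respectTransparency false
set_option backward.isDefEq.respectTransparency.types false

universe u

open CategoryTheory CategoryTheory.Limits AlgebraicGeometry Opposite FibCat
  Groth.Agent.Lib.Helper27.FpKit Groth.Agent.Lib.Helper27.PshKit Groth.Agent.Lib.Helper27.PshFp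
  Groth.Agent.Lib.Helper27.PshRep Groth.Agent.Lib.Helper27.RepWithComp
  Groth.Agent.Lib.Helper27.BaseChangePres Groth.Agent.Lib.Helper27.Descent
  Groth.Agent.Lib.Helper27.DiagTransport

namespace Groth.Agent.Lib.Helper27.Descent

variable {S : Scheme.{u}}

open Stk

theorem spMapOfOver_ofSpMap {F : AlgSp.Sp S} {U : Over S} (a : F ⟶ (AlgSp.yon S).obj U) :
    AlgSt.spMapOfOver (BasedFunctor.comp (AlgSt.ofSpMap a) (AlgSt.toOverCat U)) = a := by
  apply ObjectProperty.hom_ext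
  apply NatTrans.ext
  funext T
  ext z
  obtain ⟨T⟩ := T
  change (⟨AlgSt.secHom _ ⟨T, z⟩⟩ : ULift _) = a.hom.app (op T) z
  apply ULift.ext
  unfold AlgSt.secHom
  rw [eqToHom_refl, Category.id_comp]
  rfl

section Main

variable {𝒳 𝒴 : AlgSt.Cat S}

/-- The morphism of cospans replacing the category of the representable sheaf by the slice. -/
def Dov (f : 𝒳 ⥤ᵇ 𝒴) {U : Over S} (y : overCat U ⥤ᵇ 𝒴) :
    MapData y f (BasedFunctor.comp (AlgSt.toOverCat U) y) f (AlgSt.toOverCat U)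
      (BasedFunctor.id 𝒳) (BasedFunctor.id 𝒴) where
  e₁ := fun _ => Iso.refl _
  n₁ := fun α => (Category.comp_id _).trans (Category.id_comp _).symm
  l₁ := fun _ => Vert.id _
  e₂ := fun _ => Iso.refl _
  n₂ := fun β => (Category.comp_id _).trans (Category.id_comp _).symm
  l₂ := fun _ => Vert.id _

/-- A property holding for the base changes to all algebraic spaces holds for the functor. -/
theorem repByAlgSpWith_of_forall_space (P : MorphismProperty (AlgSp.Sp S)) (f : 𝒳 ⥤ᵇ 𝒴)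
    (H : ∀ (Z : AlgSp.Space S) (z : AlgSt.ofSp Z.obj ⥤ᵇ 𝒴),
      ∃ (V : AlgSp.Space S) (a : V ⟶ Z) (e : AlgSt.ofSp V.obj ⥤ᵇ fp z f),
        IsEquivOver e ∧ Nonempty (BasedFunctor.comp e (fpFst z f) ≅ AlgSt.ofSpMap a.hom) ∧
          P a.hom) : AlgSt.RepByAlgSpWith P f := by
  intro U y
  obtain ⟨V, a, e, he, ⟨κ⟩, hPa⟩ := H ⟨(AlgSp.yon S).obj U, AlgSp.IsAlgSpace.yon_obj U⟩
    (BasedFunctor.comp (AlgSt.toOverCat U) y)
  refine ⟨V, BasedFunctor.comp e (fpMap (Dov f y)), isEquivOver_comp _ _ he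
    (isEquivOver_fpMap (Dov f y) (isEquivOver_toOverCat U) (isEquivOver_id _) (isEquivOver_id _)),
    ?_⟩
  have h1 : AlgSt.spMapOfOver (BasedFunctor.comp (BasedFunctor.comp e (fpMap (Dov f y)))
      (fpFst y f)) =
      AlgSt.spMapOfOver (BasedFunctor.comp (AlgSt.ofSpMap a.hom) (AlgSt.toOverCat U)) := by
    apply Groth.Agent.Lib.Helper27.RepWithKit.spMapOfOver_congr
    intro t
    exact ⟨(AlgSt.toOverCat U).toFunctor.map (κ.hom.toNatTrans.app t),
      (Vert.app κ.hom t).map (AlgSt.toOverCat U)⟩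
  rw [h1, spMapOfOver_ofSpMap]
  exact hPa

/-- A functor with a property which is fppf local on the base has this property after base
change to every algebraic space. -/
theorem forall_space_of_repByAlgSpWith (P : MorphismProperty (AlgSp.Sp S))
    (hP : AlgSp.IsLocalOnBase AlgSp.IsFppfCover P)
    (h𝒳 : FibCat.IsFibGrpd 𝒳.p) (h𝒴 : FibCat.IsFibGrpd 𝒴.p) (f : 𝒳 ⥤ᵇ 𝒴)
    (hf : AlgSt.RepByAlgSpWith P f) (Z : AlgSp.Space S) (z : AlgSt.ofSp Z.obj ⥤ᵇ 𝒴) :
    ∃ (V : AlgSp.Space S) (a : V ⟶ Z) (e : AlgSt.ofSp V.obj ⥤ᵇ fp z f),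
      IsEquivOver e ∧ Nonempty (BasedFunctor.comp e (fpFst z f) ≅ AlgSt.ofSpMap a.hom) ∧
        P a.hom := by
  obtain ⟨V, e, he, hPe⟩ := from_space P hP h𝒳 h𝒴 f hf Z z
  exact ⟨V, ObjectProperty.homMk (ObjectProperty.homMk
    (pshMapOf (BasedFunctor.comp e (fpFst z f)))), e, he,
    ⟨(τIso (BasedFunctor.comp e (fpFst z f))).symm⟩, hPe⟩

/-- The hypothesis of `descent_cover` from a presentation of the base change to the cover. -/
theorem cover_hyp (P : MorphismProperty (AlgSp.Sp S))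
    (hPb : ∀ ⦃X₁ Y₁ X₂ Y₂ : AlgSp.Sp S⦄, AlgSp.IsAlgSpace X₁ → AlgSp.IsAlgSpace Y₁ →
      AlgSp.IsAlgSpace X₂ → AlgSp.IsAlgSpace Y₂ → ∀ (a : X₁ ⟶ Y₁) (b : Y₂ ⟶ Y₁) (a' : X₂ ⟶ Y₂)
      (b' : X₂ ⟶ X₁), IsPullback b' a' a b → P a → P a')
    (f : 𝒳 ⥤ᵇ 𝒴) (W : AlgSp.Space S) (w : AlgSt.ofSp W.obj ⥤ᵇ 𝒴) (V : AlgSp.Space S)
    (a : V ⟶ W) (e : AlgSt.ofSp V.obj ⥤ᵇ fp w f) (he : IsEquivOver e)
    (κ : BasedFunctor.comp e (fpFst w f) ≅ AlgSt.ofSpMap a.hom) (hPa : P a.hom)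
    (G : AlgSp.Space S) (g : AlgSt.ofSp G.obj ⥤ᵇ AlgSt.ofSp W.obj) :
    ∃ (X'' : AlgSp.Space S) (e'' : AlgSt.ofSp X''.obj ⥤ᵇ fp (BasedFunctor.comp g w) f),
      IsEquivOver e'' ∧ P (ObjectProperty.homMk (pshMapOf (BasedFunctor.comp e''
        (fpFst (BasedFunctor.comp g w) f))) : X''.obj ⟶ G.obj) := by
  obtain ⟨b, hb⟩ : ∃ b : G.obj ⟶ W.obj, b = ObjectProperty.homMk (pshMapOf g) := ⟨_, rfl⟩
  have sqS : IsPullback (pullback.fst a.hom b) (pullback.snd a.hom b) a.hom b :=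
    IsPullback.of_hasPullback a.hom b
  have hX'' : AlgSp.IsAlgSpace (pullback a.hom b) :=
    Groth.Agent.S9874.result S W.obj W.property.diag V G a.hom b _ _ _ sqS
  have ha : pshMapOf (BasedFunctor.comp e (fpFst w f)) = a.hom.hom := by
    refine Eq.trans ?_ (pshMapOf_ofPshMap a.hom.hom)
    apply pshMapOf_congr
    intro t
    exact ⟨κ.hom.toNatTrans.app t, Vert.app κ.hom t⟩
  have sqP : IsPullback (pullback.fst a.hom b).hom (pullback.snd a.hom b).hom
      (pshMapOf (BasedFunctor.comp e (fpFst w f))) b.hom := by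
    rw [ha]
    exact sqS.map (sheafToPresheaf (AlgSp.J S) (Type (u + 1)))
  have κ' : BasedFunctor.comp (AlgSt.ofSpMap b) w ≅ BasedFunctor.comp g w := by
    rw [hb]
    exact whiskerRightIso (τIso g) w
  refine ⟨⟨pullback a.hom b, hX''⟩,
    BasedFunctor.comp (Ξ f w e b sqP) (isoMap f (BasedFunctor.comp g w) _ κ'),
    isEquivOver_comp _ _ (isEquivOver_Ξ f w e he b sqP) (isEquivOver_isoMap f _ _ κ'), ?_⟩
  have h0 : pshMapOf (BasedFunctor.comp
      (BasedFunctor.comp (Ξ f w e b sqP) (isoMap f (BasedFunctor.comp g w) _ κ'))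
      (fpFst (BasedFunctor.comp g w) f)) = (pullback.snd a.hom b).hom := by
    refine Eq.trans ?_ (pshMapOf_Ξ_fst f w e b sqP)
    apply pshMapOf_congr
    intro t
    exact ⟨𝟙 _, Vert.id _⟩
  have h1 : (ObjectProperty.homMk (pshMapOf (BasedFunctor.comp
      (BasedFunctor.comp (Ξ f w e b sqP) (isoMap f (BasedFunctor.comp g w) _ κ'))
      (fpFst (BasedFunctor.comp g w) f))) : pullback a.hom b ⟶ G.obj) = pullback.snd a.hom b := by
    apply ObjectProperty.hom_ext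
    exact h0
  rw [h1]
  exact hPb V.property W.property hX'' G.property a.hom b _ _ sqS hPa

end Main

end Groth.Agent.Lib.Helper27.Descent
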