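import Groth.Agent.Lib.Helper27.FpBaseChange
import Groth.Agent.Lib.Helper27.BaseChangePres
import Groth.Agent.Lib.Helper27.Descent3

/-!
# Base change of a presentation along a morphism of schemes in the second variable (helper27)

If `eB : ofSp B ≃ 𝒵 ×_𝒴 (Sch/V)` and `h : U ⟶ V`, then `B ×_{h_V} h_U` presents `𝒵 ×_𝒴 (Sch/U)`.
-/

set_option autoImplicit false
set_option backward.isDefEq.respectTransparency false
set_option backward.isDefEq.respectTransparency.types false

universe u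

open CategoryTheory CategoryTheory.Limits AlgebraicGeometry Opposite FibCat
  Groth.Agent.Lib.Helper27.FpKit Groth.Agent.Lib.Helper27.PshKit Groth.Agent.Lib.Helper27.PshFp
  Groth.Agent.Lib.Helper27.PshRep Groth.Agent.Lib.Helper27.RepWithComp
  Groth.Agent.Lib.Helper27.BaseChangePres Groth.Agent.Lib.Helper27.Descent
  Groth.Agent.Lib.Helper27.FpSwap

namespace Groth.Agent.Lib.Helper27.FpBaseChange

variable {S : Scheme.{u}}

open Stk

section L1

variable {𝒵 𝒴 : AlgSt.Cat S} (g : 𝒵 ⥤ᵇ 𝒴) {U V : Over S} (y : overCat V ⥤ᵇ 𝒴) (h : U ⟶ V)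
  {B W : AlgSp.Sp S} (eB : AlgSt.ofSp B ⥤ᵇ fp g y)

/-- The structure map of `B` to `h_V`. -/
abbrev strV : B ⟶ (AlgSp.yon S).obj V :=
  ObjectProperty.homMk
    (pshMapOf (BasedFunctor.comp (BasedFunctor.comp eB (fpSnd g y)) (AlgSt.ofOverCat V)))

/-- The presentation with the variables exchanged and the slice replaced by `h_V`. -/
abbrev eB' : AlgSt.ofSp B ⥤ᵇ fp (BasedFunctor.comp (AlgSt.toOverCat V) y) g :=
  BasedFunctor.comp eB (BasedFunctor.comp (swap g y) (toSp g y))

theorem isEquivOver_eB' (heB : IsEquivOver eB) : IsEquivOver (eB' g y eB) :=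
  isEquivOver_comp _ _ heB (isEquivOver_comp _ _ (isEquivOver_swap g y) (isEquivOver_toSp g y))

theorem pshMapOf_eB' :
    pshMapOf (BasedFunctor.comp (eB' g y eB) (fpFst (BasedFunctor.comp (AlgSt.toOverCat V) y) g)) =
      (strV g y eB).hom := by
  apply pshMapOf_congr
  intro t
  exact ⟨𝟙 _, Vert.id _⟩

variable {fst : W ⟶ (AlgSp.yon S).obj U} {snd : W ⟶ B}
  (sq : IsPullback fst snd ((AlgSp.yon S).map h) (strV g y eB))

include sq in
theorem sq' : IsPullback snd.hom fst.hom
    (pshMapOf (BasedFunctor.comp (eB' g y eB)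
      (fpFst (BasedFunctor.comp (AlgSt.toOverCat V) y) g))) ((AlgSp.yon S).map h).hom := by
  rw [pshMapOf_eB']
  exact sq.flip.map (sheafToPresheaf (AlgSp.J S) (Type (u + 1)))

/-- The presentation of the base change. -/
def E : AlgSt.ofSp W ⥤ᵇ fp g (BasedFunctor.comp (AlgSt.overMap h) y) :=
  BasedFunctor.comp
    (Ξ g (BasedFunctor.comp (AlgSt.toOverCat V) y) (eB' g y eB) ((AlgSp.yon S).map h)
      (sq' g y h eB sq))
    (BasedFunctor.comp (fpMap (Dov g (BasedFunctor.comp (AlgSt.overMap h) y)))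
      (swap (BasedFunctor.comp (AlgSt.overMap h) y) g))

theorem isEquivOver_E (heB : IsEquivOver eB) : IsEquivOver (E g y h eB sq) :=
  isEquivOver_comp _ _
    (isEquivOver_Ξ g _ (eB' g y eB) (isEquivOver_eB' g y eB heB) ((AlgSp.yon S).map h)
      (sq' g y h eB sq))
    (isEquivOver_comp _ _
      (isEquivOver_fpMap (Dov g (BasedFunctor.comp (AlgSt.overMap h) y))
        (isEquivOver_toOverCat U) (isEquivOver_id _) (isEquivOver_id _))
      (isEquivOver_swap _ g))

theorem E_fst_obj (t : (AlgSt.ofSp W).obj) :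
    (fpFst g (BasedFunctor.comp (AlgSt.overMap h) y)).toFunctor.obj
      ((E g y h eB sq).toFunctor.obj t) =
    (fpFst g y).toFunctor.obj (eB.toFunctor.obj ((Stk.ofPshMap snd.hom).toFunctor.obj t)) := rfl

theorem E_snd_obj (t : (AlgSt.ofSp W).obj) :
    (fpSnd g (BasedFunctor.comp (AlgSt.overMap h) y)).toFunctor.obj
      ((E g y h eB sq).toFunctor.obj t) =
    (AlgSt.toOverCat U).toFunctor.obj ((Stk.ofPshMap fst.hom).toFunctor.obj t) := rfl

theorem E_fst_map {t t' : (AlgSt.ofSp W).obj} (m : t ⟶ t') :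
    (fpFst g (BasedFunctor.comp (AlgSt.overMap h) y)).toFunctor.map
      ((E g y h eB sq).toFunctor.map m) =
    (fpFst g y).toFunctor.map (eB.toFunctor.map ((Stk.ofPshMap snd.hom).toFunctor.map m)) := rfl

theorem E_snd_map {t t' : (AlgSt.ofSp W).obj} (m : t ⟶ t') :
    (fpSnd g (BasedFunctor.comp (AlgSt.overMap h) y)).toFunctor.map
      ((E g y h eB sq).toFunctor.map m) =
    (AlgSt.toOverCat U).toFunctor.map ((Stk.ofPshMap fst.hom).toFunctor.map m) := rfl

end L1

end Groth.Agent.Lib.Helper27.FpBaseChange
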