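import Groth.Agent.Lib.Helper27.Descent3
import Groth.Agent.Lib.Helper27.FpSwap
import Groth.Agent.Lib.Helper27.FpFib
import Groth.Agent.Lib.Helper27.ReprAux
import Groth.Prelude.Def_AlgSt3

/-!
# Chart squares for `AlgSt.LocQ` (helper27)

* `homOf Φ`, `isoOverMap Φ`: every functor over the base between slices is isomorphic to the
  composition functor of a morphism of schemes;
* `locQ_of_chart`: a chart of the base change of `f` to a smooth chart of the target gives a
  chart square for `f`;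
* `locQ_of_repWith`: functors representable by schemes with a property of morphisms of schemes.
-/

set_option autoImplicit false
set_option backward.isDefEq.respectTransparency false
set_option backward.isDefEq.respectTransparency.types false

universe v₄ u₄ v₃ u₃ v₂ u₂ u

open CategoryTheory CategoryTheory.Limits AlgebraicGeometry Opposite FibCat
  Groth.Agent.Lib.Helper27.FpKit Groth.Agent.Lib.Helper27.PshKit Groth.Agent.Lib.Helper27.PshFp
  Groth.Agent.Lib.Helper27.PshRep Groth.Agent.Lib.Helper27.RepWithComp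
  Groth.Agent.Lib.Helper27.Descent

namespace Groth.Agent.Lib.Helper27.LocQChart

variable {S : Scheme.{u}}

open Stk

section OverYoneda

variable {U V : Over S} (Φ : overCat U ⥤ᵇ overCat V)

/-- The morphism of schemes underlying a functor over the base between slices. -/
def homOf : U ⟶ V :=
  eqToHom (Φ.w_obj (Over.mk (𝟙 U))).symm ≫ (Φ.obj (Over.mk (𝟙 U))).hom

theorem map_left {g g' : (overCat U).obj} (φ : g ⟶ g') :
    (Φ.map φ).left = eqToHom (Φ.w_obj g) ≫ φ.left ≫ eqToHom (Φ.w_obj g').symm :=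
  IsHomLift.fac' (overCat V).p ((overCat U).p.map φ) (Φ.map φ)

theorem obj_hom (g : (overCat U).obj) :
    (Φ.obj g).hom = eqToHom (Φ.w_obj g) ≫ g.hom ≫ homOf Φ := by
  let m : g ⟶ Over.mk (𝟙 U) := Over.homMk g.hom (by simp)
  have h1 : (Φ.map m).left ≫ (Φ.obj (Over.mk (𝟙 U))).hom = (Φ.obj g).hom := Over.w (Φ.map m)
  rw [← h1, map_left Φ m]
  simp only [homOf, Category.assoc]
  rfl

/-- Every functor over the base between slices is the composition functor of a morphism. -/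
def isoOverMap : Φ ≅ AlgSt.overMap (homOf Φ) :=
  BasedNatIso.mkNatIso
    (NatIso.ofComponents
      (fun g => Over.isoMk (eqToIso (Φ.w_obj g)) (by
        change eqToHom (Φ.w_obj g) ≫ (g.hom ≫ homOf Φ) = (Φ.obj g).hom
        rw [obj_hom Φ g]))
      (fun {g g'} φ => by
        apply Over.OverMorphism.ext
        change (Φ.map φ).left ≫ eqToHom (Φ.w_obj g') = eqToHom (Φ.w_obj g) ≫ φ.left
        rw [map_left Φ φ]
        simp))
    (fun g => by
      apply IsHomLift.of_fac' (overCat V).p (𝟙 ((overCat U).p.obj g)) _ (Φ.w_obj g) rfl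
      change eqToHom (Φ.w_obj g) = eqToHom (Φ.w_obj g) ≫ 𝟙 _ ≫ eqToHom rfl
      simp)

end OverYoneda

section SpMap

variable {U V : Over S}

/-- The morphism of schemes of a functor from the category of `h_U` to a slice. -/
theorem yon_map_homOf (Ψ : AlgSt.ofSch U ⥤ᵇ overCat V) :
    (AlgSp.yon S).map (homOf (BasedFunctor.comp (AlgSt.ofOverCat U) Ψ)) = AlgSt.spMapOfOver Ψ := by
  apply ObjectProperty.hom_ext
  apply NatTrans.ext
  funext T
  ext z
  obtain ⟨T⟩ := T
  change (⟨z.down ≫ homOf (BasedFunctor.comp (AlgSt.ofOverCat U) Ψ)⟩ : ULift _) =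
    ⟨AlgSt.secHom Ψ ⟨T, z⟩⟩
  apply ULift.ext
  let ψ : (⟨T, z⟩ : (AlgSt.ofSch U).obj) ⟶ ⟨U, ⟨𝟙 U⟩⟩ :=
    ⟨z.down, by
      apply ULift.ext
      change z.down ≫ 𝟙 U = z.down
      exact Category.comp_id _⟩
  exact AlgSt.secHom_comp Ψ ψ

end SpMap

section IsoEquiv

variable {P Q : (Over S)ᵒᵖ ⥤ Type (u + 1)}

/-- The functor of an isomorphism of presheaves is an equivalence. -/
theorem isEquivOver_ofPshMap_of_isIso (φ : P ⟶ Q) [IsIso φ] : IsEquivOver (Stk.ofPshMap φ) := by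
  apply isEquivOver_of_ess
  · constructor
    intro a b m
    refine ⟨⟨m.hom, ?_⟩, rfl⟩
    have h1 : Q.map m.hom.op (φ.app _ b.sec) = φ.app _ a.sec := m.map_sec
    have h2 : φ.app _ (P.map m.hom.op b.sec) = φ.app _ a.sec := by
      rw [← h1]
      exact NatTrans.naturality_apply φ m.hom.op b.sec
    have h3 := congrArg ((inv φ).app _) h2
    have h4 : ∀ (T : (Over S)ᵒᵖ) (s : P.obj T), (inv φ).app T (φ.app T s) = s := by
      intro T s
      exact congrArg (fun (k : P ⟶ P) => k.app T s) (IsIso.hom_inv_id φ)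
    rw [h4] at h3
    exact h3.trans (h4 _ _)
  · constructor
    intro a b f g h
    apply EltObj.hom_ext
    exact congrArg (fun k => k.hom) h
  · intro y
    have h4 : φ.app _ ((inv φ).app _ y.sec) = y.sec :=
      congrArg (fun (k : Q ⟶ Q) => k.app (op y.base) y.sec) (IsIso.inv_hom_id φ)
    exact ⟨⟨y.base, (inv φ).app _ y.sec⟩, isoOfEq h4, isoOfEq_vert h4⟩

end IsoEquiv

section Chart

variable {𝒳 𝒴 : AlgSt.Cat S}

/-- A chart of the base change of `f` to a smooth chart of the target gives a chart square. -/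
theorem locQ_of_chart (P : MorphismProperty (AlgSp.Sp S)) (f : 𝒳 ⥤ᵇ 𝒴) {U V : Over S}
    (y : overCat V ⥤ᵇ 𝒴) (hy₁ : AlgSt.RepByAlgSpWith (AlgSp.LocP @Smooth) y)
    (c : overCat U ⥤ᵇ fp y f)
    (hx₁ : AlgSt.RepByAlgSpWith (AlgSp.LocP @Smooth) (BasedFunctor.comp c (fpSnd y f)))
    (hx₂ : AlgSt.RepByAlgSpWith AlgSp.IsSurjectiveMor (BasedFunctor.comp c (fpSnd y f)))
    (hP : P ((AlgSp.yon S).map (homOf (BasedFunctor.comp c (fpFst y f))))) : AlgSt.LocQ P f := by
  refine ⟨U, V, BasedFunctor.comp c (fpSnd y f), y, homOf (BasedFunctor.comp c (fpFst y f)), ?_,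
    hx₁, hx₂, hy₁, hP⟩
  exact (whiskerLeftIso c (fpIso y f).symm) ≪≫
    (whiskerRightIso (isoOverMap (BasedFunctor.comp c (fpFst y f))) y)

/-- A functor which is representable by schemes with a property `Q` of morphisms of schemes has
the property `P` on a chart square as soon as `P` holds for morphisms of schemes with `Q`. -/
theorem locQ_of_repWith (Q : MorphismProperty Scheme.{u}) (P : MorphismProperty (AlgSp.Sp S))
    (hQP : ∀ ⦃U V : Over S⦄ (h : U ⟶ V), Q h.left → P ((AlgSp.yon S).map h))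
    (f : 𝒳 ⥤ᵇ 𝒴) {V : Over S} (y : overCat V ⥤ᵇ 𝒴)
    (hy₁ : AlgSt.RepByAlgSpWith (AlgSp.LocP @Smooth) y)
    (hy₂ : AlgSt.RepByAlgSpWith AlgSp.IsSurjectiveMor y)
    (hf : AlgSt.RepByAlgSpWith (AlgSp.RepWith Q) f) : AlgSt.LocQ P f := by
  obtain ⟨F, e, he, hπ⟩ := hf V y
  obtain ⟨π, hπdef⟩ : ∃ π : F.obj ⟶ (AlgSp.yon S).obj V,
      π = AlgSt.spMapOfOver (BasedFunctor.comp e (fpFst y f)) := ⟨_, rfl⟩
  rw [← hπdef] at hπ
  have hrep := hπ.rep
  have sq := hrep.isPullback (𝟙 ((AlgSp.yon S).obj V))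
  have hiso : IsIso (hrep.fst (𝟙 ((AlgSp.yon S).obj V))) := sq.isIso_fst_of_isIso
  have hQ : Q (hrep.snd (𝟙 ((AlgSp.yon S).obj V))).left := hπ.property _ _ _ sq
  obtain ⟨U, hU⟩ : ∃ U : Over S, U = hrep.pullback (𝟙 ((AlgSp.yon S).obj V)) := ⟨_, rfl⟩
  obtain ⟨c₀, hc₀⟩ : ∃ c₀ : (AlgSp.yon S).obj (hrep.pullback (𝟙 ((AlgSp.yon S).obj V))) ⟶ F.obj,
      c₀ = hrep.fst (𝟙 ((AlgSp.yon S).obj V)) := ⟨_, rfl⟩
  rw [← hc₀] at hiso sq
  have hiso' : IsIso c₀.hom :=
    (inferInstance : IsIso ((sheafToPresheaf (AlgSp.J S) (Type (u + 1))).map c₀))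
  have hE : IsEquivOver (AlgSt.ofSpMap c₀) := isEquivOver_ofPshMap_of_isIso c₀.hom
  let c : overCat (hrep.pullback (𝟙 ((AlgSp.yon S).obj V))) ⥤ᵇ fp y f :=
    BasedFunctor.comp (AlgSt.ofOverCat _) (BasedFunctor.comp (AlgSt.ofSpMap c₀) e)
  have hc : IsEquivOver c :=
    isEquivOver_comp _ _ (isEquivOver_ofOverCat _) (isEquivOver_comp _ _ hE he)
  have hx : ∀ R : MorphismProperty (AlgSp.Sp S), AlgSt.RepByAlgSpWith R y →
      AlgSt.RepByAlgSpWith R (BasedFunctor.comp c (fpSnd y f)) := by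
    intro R hR
    refine Groth.Agent.Lib.Helper27.RepWithGeneral.repByAlgSpWith_of_equiv R (fpSnd y f)
      (BasedFunctor.comp c (fpSnd y f)) c (BasedFunctor.id 𝒳) hc (isEquivOver_id _) ?_
      (Groth.Agent.Lib.Helper27.FpSwap.repByAlgSpWith_fpSnd R f y hR)
    exact Iso.refl _
  refine locQ_of_chart P f y hy₁ c (hx _ hy₁) (hx _ hy₂) ?_
  have h1 : (AlgSp.yon S).map (homOf (BasedFunctor.comp c (fpFst y f))) =
      AlgSt.spMapOfOver (BasedFunctor.comp (BasedFunctor.comp (AlgSt.ofSpMap c₀) e)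
        (fpFst y f)) :=
    yon_map_homOf (BasedFunctor.comp (BasedFunctor.comp (AlgSt.ofSpMap c₀) e) (fpFst y f))
  have h2 : AlgSt.spMapOfOver (BasedFunctor.comp (BasedFunctor.comp (AlgSt.ofSpMap c₀) e)
      (fpFst y f)) = c₀ ≫ π := by
    have h2' : AlgSt.spMapOfOver (BasedFunctor.comp (BasedFunctor.comp (AlgSt.ofSpMap c₀) e)
        (fpFst y f)) = c₀ ≫ AlgSt.spMapOfOver (BasedFunctor.comp e (fpFst y f)) := by
      have := spMapOfOver_comp (AlgSt.ofSpMap c₀) (BasedFunctor.comp e (fpFst y f))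
      rw [pshMapOf_ofPshMap] at this
      exact this
    exact h2'.trans (congrArg (fun k => c₀ ≫ k) hπdef.symm)
  have h3 : c₀ ≫ π = (AlgSp.yon S).map (hrep.snd (𝟙 ((AlgSp.yon S).obj V))) := by
    rw [sq.w, Category.comp_id]
  have h4 : homOf (BasedFunctor.comp c (fpFst y f)) = hrep.snd (𝟙 ((AlgSp.yon S).obj V)) :=
    (AlgSp.yon S).map_injective (h1.trans (h2.trans h3))
  rw [h4]
  exact hQP _ hQ

end Chart

end Groth.Agent.Lib.Helper27.LocQChart
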