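import Groth.Prelude.Def_AlgSt
import Groth.Prelude.Def_FibCat2
import Groth.Agent.Lib.Helper27.StackPsh
import Groth.Agent.Lib.Helper27.EquivOverAux

/-!
# The slice category as the category of elements of a representable presheaf (helper27)
-/

set_option autoImplicit false
set_option backward.isDefEq.respectTransparency false
set_option backward.isDefEq.respectTransparency.types false

universe v u

open CategoryTheory Opposite

namespace Groth.Agent.Lib.Helper27.StackOver

variable {C : Type u} [Category.{v} C] (U : C)

open Stk

/-- The functor from the slice to the category of elements of the representable presheaf. -/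
def toElt : FibCat.overCat U ⥤ᵇ ofPsh (yoneda.obj U) where
  toFunctor :=
    { obj := fun f => (⟨f.left, f.hom⟩ : EltObj (yoneda.obj U))
      map := fun {f f'} g => (⟨g.left, by
        change g.left ≫ f'.hom = f.hom
        exact Over.w g⟩ : (⟨f.left, f.hom⟩ : EltObj (yoneda.obj U)) ⟶ ⟨f'.left, f'.hom⟩)
      map_id := fun f => by apply EltObj.hom_ext; rfl
      map_comp := fun g g' => by apply EltObj.hom_ext; rfl }
  w := rfl

/-- The functor from the category of elements of the representable presheaf to the slice. -/
def ofElt : ofPsh (yoneda.obj U) ⥤ᵇ FibCat.overCat U where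
  toFunctor :=
    { obj := fun a => Over.mk (show a.base ⟶ U from a.sec)
      map := fun {a b} ψ => Over.homMk ψ.hom (by
        have := ψ.map_sec
        exact this)
      map_id := fun a => by apply Over.OverMorphism.ext; rfl
      map_comp := fun g g' => by apply Over.OverMorphism.ext; rfl }
  w := rfl

theorem isEquivOver_toElt : FibCat.IsEquivOver (toElt U) := by
  refine ⟨ofElt U, ⟨?_⟩, ⟨?_⟩⟩
  · exact BasedNatIso.mkNatIso (NatIso.ofComponents (fun f => Iso.refl _)
      (by intro f f' g; apply Over.OverMorphism.ext; simp; rfl))
      (fun f => IsHomLift.id rfl)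
  · exact BasedNatIso.mkNatIso (NatIso.ofComponents (fun a => Iso.refl _)
      (by intro a b ψ; apply EltObj.hom_ext; simp; rfl))
      (fun a => IsHomLift.id rfl)

theorem isStack_overCat_iff (J : GrothendieckTopology C) :
    Stk.IsStack J (FibCat.overCat U) ↔ Presieve.IsSheaf J (yoneda.obj U) := by
  rw [Groth.Agent.Lib.Helper27.EquivOverAux.isStack_iff J (toElt U) (isEquivOver_toElt U)]
  exact Groth.Agent.Lib.Helper27.StackPsh.isStack_iff_isSheaf J

end Groth.Agent.Lib.Helper27.StackOver
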