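import Groth.Agent.Lib.Helper27.LocQOver
import Groth.Agent.Lib.Helper27.LocQChart
import Groth.Agent.Lib.Helper27.FpBaseChange2
import Groth.Agent.Lib.Helper27.ReprDiag
import Groth.Agent.Lib.Helper27.DiagLft
import Groth.Agent.Lib.Helper3.AlgSpQC4
import Groth.Agent.S12797
import Groth.Agent.S12783

/-!
# Quasi-compact stacks and slices as algebraic stacks (helper27)
-/

set_option autoImplicit false
set_option backward.isDefEq.respectTransparency false
set_option backward.isDefEq.respectTransparency.types false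

universe u

open CategoryTheory CategoryTheory.Limits AlgebraicGeometry Opposite FibCat
  Groth.Agent.Lib.Helper27.FpKit Groth.Agent.Lib.Helper27.PshKit
  Groth.Agent.Lib.Helper27.PshRep Groth.Agent.Lib.Helper27.RepWithComp
  Groth.Agent.Lib.Helper27.Descent Groth.Agent.Lib.Helper27.LocQOver
  Groth.Agent.Lib.Helper27.LocQSpace

namespace Groth.Agent.Lib.Helper27.QcStack

variable {S : Scheme.{u}}

section Core

variable {𝒳 : AlgSt.Cat S}

/-- A category with a smooth surjective chart from a quasi-compact algebraic space is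
quasi-compact. -/
theorem isQuasiCompact_of_space (F : AlgSp.Space S) (hF : AlgSp.IsQuasiCompactSp F.obj)
    (c : AlgSt.ofSp F.obj ⥤ᵇ 𝒳) (hc₁ : AlgSt.RepByAlgSpWith (AlgSp.LocP @Smooth) c)
    (hc₂ : AlgSt.RepByAlgSpWith AlgSp.IsSurjectiveMor c) : AlgSt.IsQuasiCompact 𝒳 := by
  obtain ⟨W, p, hpe, hps, hW⟩ := Groth.Agent.Lib.Helper3.exists_affine_chart_of_isQuasiCompactSp hF
  have h1 : AlgSt.RepByAlgSpWith (AlgSp.LocP @Smooth) (AlgSt.ofSpMap p) :=
    repByAlgSpWith_ofSpMap_of_repWith @Etale _ smooth_of_etale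
      (AlgSp.IsAlgSpace.yon_obj W) F.property p hpe
  have h2 : AlgSt.RepByAlgSpWith AlgSp.IsSurjectiveMor (AlgSt.ofSpMap p) :=
    repByAlgSpWith_ofSpMap_of_repWith @Surjective _ surj_of_surj
      (AlgSp.IsAlgSpace.yon_obj W) F.property p hps
  have hA : ∀ (R : MorphismProperty (AlgSp.Sp S)), CompHyp R →
      AlgSt.RepByAlgSpWith R (AlgSt.ofSpMap p) → AlgSt.RepByAlgSpWith R c →
      AlgSt.RepByAlgSpWith R (BasedFunctor.comp (AlgSt.ofOverCat W)
        (BasedFunctor.comp (AlgSt.ofSpMap p) c)) :=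
    fun R H hR hc => repByAlgSpWith_equiv_comp R (AlgSt.ofOverCat W) (isEquivOver_ofOverCat W) _
      (comp_gen R H (Stk.isFibGrpd_ofPsh (P := ((AlgSp.yon S).obj W).obj))
        (Stk.isFibGrpd_ofPsh (P := F.obj.obj)) (AlgSt.ofSpMap p) c hR hc)
  exact ⟨W, BasedFunctor.comp (AlgSt.ofOverCat W) (BasedFunctor.comp (AlgSt.ofSpMap p) c), hW,
    hA _ (compHyp_locP Groth.Agent.Lib.Helper3.isEtLocal_smooth) h1 hc₁,
    hA _ Groth.Agent.Lib.Helper27.DiagLft.compHyp_isSurjectiveMor h2 hc₂⟩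

/-- An algebraic space presenting a quasi-compact category is quasi-compact. -/
theorem isQuasiCompactSp_of_equiv (F : AlgSp.Space S) (e : AlgSt.ofSp F.obj ⥤ᵇ 𝒳)
    (he : IsEquivOver e) (h : AlgSt.IsQuasiCompact 𝒳) : AlgSp.IsQuasiCompactSp F.obj := by
  obtain ⟨U, x, hU, -, hx₂⟩ := h
  obtain ⟨e', he', -, -⟩ := exists_inverse e he
  let x' : AlgSt.ofSp ((AlgSp.yon S).obj U) ⥤ᵇ AlgSt.ofSp F.obj :=
    BasedFunctor.comp (AlgSt.toOverCat U) (BasedFunctor.comp x e')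
  have h1 : AlgSt.RepByAlgSpWith AlgSp.IsSurjectiveMor x' :=
    repByAlgSpWith_equiv_comp _ (AlgSt.toOverCat U) (isEquivOver_toOverCat U) _
      (repByAlgSpWith_comp_equiv _ x e' he' hx₂)
  let p : (AlgSp.yon S).obj U ⟶ F.obj := ObjectProperty.homMk (pshMapOf x')
  have h2 : AlgSt.RepByAlgSpWith AlgSp.IsSurjectiveMor (AlgSt.ofSpMap p) :=
    repByAlgSpWith_of_iso _ (τIso x').symm h1
  have h3 : AlgSp.IsSurjectiveMor p :=
    prop_of_repByAlgSpWith _ Groth.Agent.Lib.Helper27.DiagLft.compHyp_isSurjectiveMor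
      (AlgSp.IsAlgSpace.yon_obj U) F.property p h2
  have hc : CompactSpace ↥U.left := by
    have : IsAffine U.left := hU
    infer_instance
  exact Groth.Agent.Lib.Helper3.isQuasiCompactSp_of_isSurjectiveMor p h3
    (Groth.Agent.Lib.Helper3.isQuasiCompactSp_yon hc) F.property

end Core

section Slice

variable (Z : Over S)

theorem isStack_overCat : Stk.IsStack (AlgSp.J S) (overCat Z) := by
  rw [Groth.Agent.S12797.result]
  exact GrothendieckTopology.Subcanonical.isSheaf_of_isRepresentable (yoneda.obj Z)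

theorem isRepresentable1_of_slices {U : Over S} (Φ : overCat U ⥤ᵇ overCat Z) :
    FibCat.IsRepresentable1 Φ := by
  intro U' H
  have h1 : FibCat.IsRepresentable (fp H (AlgSt.overMap (Groth.Agent.Lib.Helper27.LocQChart.homOf Φ))) :=
    Groth.Agent.S12783.result (Groth.Agent.Lib.Helper27.LocQChart.homOf Φ) U' H
  exact isRepresentable_of_equiv _
    (Groth.Agent.Lib.Helper27.FpBaseChange.isEquivOver_isoMapSnd H _ Φ
      (Groth.Agent.Lib.Helper27.LocQChart.isoOverMap Φ)) h1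

theorem repByAlgSp1_of_isRepresentable1 {𝒜 ℬ : AlgSt.Cat S} (f : 𝒜 ⥤ᵇ ℬ)
    (hf : FibCat.IsRepresentable1 f) : AlgSt.RepByAlgSp1 f := by
  intro U y
  obtain ⟨W, Φ, hΦ⟩ := hf U y
  obtain ⟨Φ', hΦ', -, -⟩ := exists_inverse Φ hΦ
  exact ⟨⟨(AlgSp.yon S).obj W, AlgSp.IsAlgSpace.yon_obj W⟩,
    BasedFunctor.comp (AlgSt.toOverCat W) Φ',
    isEquivOver_comp _ _ (isEquivOver_toOverCat W) hΦ'⟩

theorem isAlgStack_overCat : AlgSt.IsAlgStack Scheme.fppfPrecoverage (overCat Z) where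
  isStack := isStack_overCat Z
  diag := by
    apply repByAlgSp1_of_isRepresentable1
    rw [Groth.Agent.Lib.Helper27.ReprDiag.isRepresentable1_diag_iff (Groth.Agent.Lib.Helper27.ReprAux.isFibGrpd_overCat Z)]
    intro U G
    exact isRepresentable1_of_slices Z G
  atlas := exists_atlas_of_equiv ⟨(AlgSp.yon S).obj Z, AlgSp.IsAlgSpace.yon_obj Z⟩
    (AlgSt.toOverCat Z) (isEquivOver_toOverCat Z)

theorem isQuasiCompact_overCat (hZ : IsAffine Z.left) : AlgSt.IsQuasiCompact (overCat Z) := by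
  have hc : CompactSpace ↥Z.left := inferInstance
  have h1 : AlgSt.RepByAlgSpWith (AlgSp.LocP @Smooth)
      (AlgSt.ofSpMap (𝟙 ((AlgSp.yon S).obj Z))) :=
    repByAlgSpWith_ofSpMap_of_repWith @Etale _ smooth_of_etale
      (AlgSp.IsAlgSpace.yon_obj Z) (AlgSp.IsAlgSpace.yon_obj Z) _ (AlgSp.repWith_id @Etale Z)
  have h2 : AlgSt.RepByAlgSpWith AlgSp.IsSurjectiveMor
      (AlgSt.ofSpMap (𝟙 ((AlgSp.yon S).obj Z))) :=
    repByAlgSpWith_ofSpMap_of_repWith @Surjective _ surj_of_surj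
      (AlgSp.IsAlgSpace.yon_obj Z) (AlgSp.IsAlgSpace.yon_obj Z) _ (AlgSp.repWith_id @Surjective Z)
  exact isQuasiCompact_of_space ⟨(AlgSp.yon S).obj Z, AlgSp.IsAlgSpace.yon_obj Z⟩
    (Groth.Agent.Lib.Helper3.isQuasiCompactSp_yon hc)
    (BasedFunctor.comp (AlgSt.ofSpMap (𝟙 ((AlgSp.yon S).obj Z))) (AlgSt.toOverCat Z))
    (repByAlgSpWith_comp_equiv _ _ _ (isEquivOver_toOverCat Z) h1)
    (repByAlgSpWith_comp_equiv _ _ _ (isEquivOver_toOverCat Z) h2)

end Slice

section Mor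

variable {𝒳 𝒴 : AlgSt.Cat S} (f : 𝒳 ⥤ᵇ 𝒴)

open Groth.Agent.Lib.Helper27.FpBaseChange Groth.Agent.Lib.Helper27.FpSwap

theorem isQuasiCompactMor_of_repByAlgSpWith
    (hf : AlgSt.RepByAlgSpWith AlgSp.IsQuasiCompactMor f) :
    AlgSt.IsQuasiCompactMor Scheme.fppfPrecoverage f := by
  intro 𝒵 _ hq g
  obtain ⟨U, z, hU, hz₁, hz₂⟩ := hq
  obtain ⟨F, e, he, hπ⟩ := hf U (BasedFunctor.comp z g)
  have hc : CompactSpace ↥U.left := by
    have : IsAffine U.left := hU
    infer_instance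
  have hF : AlgSp.IsQuasiCompactSp F.obj :=
    hπ (AlgSp.IsAlgSpace.yon_obj U) (Groth.Agent.Lib.Helper3.isQuasiCompactSp_yon hc) (𝟙 _) (𝟙 _)
      (AlgSt.spMapOfOver (BasedFunctor.comp e (fpFst (BasedFunctor.comp z g) f)))
      (IsPullback.of_horiz_isIso ⟨by simp⟩)
  exact isQuasiCompact_of_space F hF (BasedFunctor.comp e (mapFst g f z))
    (repByAlgSpWith_equiv_comp _ e he _ (repByAlgSpWith_mapFst g f z _ hz₁))
    (repByAlgSpWith_equiv_comp _ e he _ (repByAlgSpWith_mapFst g f z _ hz₂))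

theorem repByAlgSpWith_of_isQuasiCompactMor (hf : AlgSt.RepByAlgSp1 f)
    (h : AlgSt.IsQuasiCompactMor Scheme.fppfPrecoverage f) :
    AlgSt.RepByAlgSpWith AlgSp.IsQuasiCompactMor f := by
  intro U y
  obtain ⟨F, e, he⟩ := hf U y
  refine ⟨F, e, he, ?_⟩
  apply Groth.Agent.Lib.Helper3.isQuasiCompactMor_of_forall_affine F.property
    (AlgSp.IsAlgSpace.yon_obj U).diag
  intro Z hZ g P fst snd sq
  obtain ⟨h', rfl⟩ := (AlgSp.yon S).map_surjective g
  let eB : AlgSt.ofSp F.obj ⥤ᵇ fp f y := BasedFunctor.comp e (swap y f)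
  have heB : IsEquivOver eB := isEquivOver_comp _ _ he (isEquivOver_swap y f)
  have hstr : strV f y eB = AlgSt.spMapOfOver (BasedFunctor.comp e (fpFst y f)) := by
    apply ObjectProperty.hom_ext
    rw [spMapOfOver_eq]
    apply pshMapOf_congr
    intro t
    exact ⟨𝟙 _, Vert.id _⟩
  have sq' : IsPullback snd fst ((AlgSp.yon S).map h') (strV f y eB) := by
    rw [hstr]
    exact sq.flip
  have hP : AlgSp.IsAlgSpace P :=
    Groth.Agent.Lib.Helper3.isAlgSpace_of_isPullback' (AlgSp.IsAlgSpace.yon_obj U) F.property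
      (AlgSp.IsAlgSpace.yon_obj Z) sq
  have hq := h (overCat Z) (isAlgStack_overCat Z) (isQuasiCompact_overCat Z hZ)
    (BasedFunctor.comp (AlgSt.overMap h') y)
  exact isQuasiCompactSp_of_equiv ⟨P, hP⟩
    (BasedFunctor.comp (E f y h' eB sq') (swap f (BasedFunctor.comp (AlgSt.overMap h') y)))
    (isEquivOver_comp _ _ (isEquivOver_E f y h' eB sq' heB) (isEquivOver_swap _ _)) hq

end Mor

end Groth.Agent.Lib.Helper27.QcStack
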