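/-
Helper27: surjectivity of the diagonal of a morphism of algebraic stacks on points, in terms of
lifting 2-arrows between points with values in algebraically closed fields.
-/
import Groth.Agent.Lib.Helper27.FieldPt2
import Groth.Agent.Lib.Helper27.AlgStackFp2
import Groth.Agent.Lib.Helper27.DiagLft
import Groth.Agent.Lib.Helper27.MonoFF
import Groth.Agent.Lib.Helper27.QcStack
import Mathlib.AlgebraicGeometry.AlgClosed.Basic

set_option autoImplicit false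
set_option backward.isDefEq.respectTransparency false
set_option backward.isDefEq.respectTransparency.types false

universe u

open CategoryTheory CategoryTheory.Limits AlgebraicGeometry Opposite FibCat
  Groth.Agent.Lib.Helper27.FpKit Groth.Agent.Lib.Helper27.LocQChart
  Groth.Agent.Lib.Helper27.StPoints Groth.Agent.Lib.Helper27.SmLocP
  Groth.Agent.Lib.Helper27.FieldPt Groth.Agent.Lib.Helper27.RepWithComp
  Groth.Agent.Lib.Helper16.FpFibGrpd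

namespace Groth.Agent.Lib.Helper27.DiagSurj

variable {S : Scheme.{u}}

local infixr:80 " ⊚ " => BasedFunctor.comp

section Sect

/-- A nonempty scheme locally of finite type over an algebraically closed field has a rational
point. -/
theorem exists_section_of_algClosed {k : Type u} [Field k] [IsAlgClosed k] {X : Scheme.{u}}
    [Nonempty X] (g : X ⟶ Spec (CommRingCat.of k)) [LocallyOfFiniteType g] :
    ∃ σ : Spec (CommRingCat.of k) ⟶ X, σ ≫ g = 𝟙 _ := by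
  have : JacobsonSpace ↥X := LocallyOfFiniteType.jacobsonSpace g
  have hd : Dense (closedPoints X) := by
    rw [dense_iff_closure_eq]
    exact closure_closedPoints
  obtain ⟨x, hx⟩ := hd.nonempty
  exact ⟨pointOfClosedPoint g x hx, pointOfClosedPoint_comp g x hx⟩

end Sect

section Lift

variable {𝒳 𝒴 : AlgSt.Cat S}

/-- The chart of the diagonal at a point of the fibre product: a rational point of the space of
isomorphisms. -/
theorem exists_iso_diag_of_surjective (h𝒳 : AlgSt.IsAlgStack Scheme.fppfPrecoverage 𝒳)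
    (h𝒴 : AlgSt.IsAlgStack Scheme.fppfPrecoverage 𝒴) (f : 𝒳 ⥤ᵇ 𝒴)
    (hΔ : AlgSt.IsSurjective (FibCat.diag f))
    (k : Type u) [Field k] [IsAlgClosed k] (s : Spec (CommRingCat.of k) ⟶ S)
    (b : (fp f f).obj) (hb : (fp f f).p.obj b = Over.mk s) :
    ∃ (x : 𝒳.obj) (θ : b ≅ (FibCat.diag f).toFunctor.obj x), Vert θ.hom := by
  have h𝒫 : AlgSt.IsAlgStack Scheme.fppfPrecoverage (fp f f) :=
    Groth.Agent.Lib.Helper27.AlgStackFp2.isAlgStack_fp' f f _ h𝒳 h𝒳 h𝒴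
  obtain ⟨yb, ι, hι⟩ := Groth.Agent.Lib.Helper27.MonoFF.exists_yoneda h𝒫.isStack.1 b hb
  have hO := Groth.Agent.Lib.Helper27.QcStack.isAlgStack_overCat (Over.mk s)
  have h𝒯 : AlgSt.IsAlgStack Scheme.fppfPrecoverage (fp yb (FibCat.diag f)) :=
    Groth.Agent.Lib.Helper27.AlgStackFp2.isAlgStack_fp' yb (FibCat.diag f) _ hO h𝒳 h𝒫
  -- the point of the chart
  obtain ⟨p₀, hp₀⟩ : ∃ p₀ : AlgSt.FPt (overCat (Over.mk s)),
      p₀ = ⟨k, s, Over.mk (𝟙 (Over.mk s)), rfl⟩ := ⟨_, rfl⟩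
  obtain ⟨q, hq⟩ := hΔ (AlgSt.Points.mk ⟨k, s, b, hb⟩)
  have h1 : AlgSt.Points.map yb (AlgSt.Points.mk p₀) =
      AlgSt.Points.map (FibCat.diag f) q := by
    rw [hq, AlgSt.Points.map_mk]
    apply AlgSt.Points.sound
    rw [hp₀]
    exact rel_of_hom (p := (⟨k, s, Over.mk (𝟙 (Over.mk s)), rfl⟩ :
      AlgSt.FPt (overCat (Over.mk s))).map yb) (q := ⟨k, s, b, hb⟩) ι.hom
  obtain ⟨w, -, -⟩ := exists_points_fp h𝒳.isStack.1 h𝒫.isStack.1 hO.isStack.1 (FibCat.diag f) yb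
    (AlgSt.Points.mk p₀) q h1
  -- an atlas of the space of isomorphisms
  obtain ⟨T', t, ht₁, ht₂⟩ := h𝒯.atlas
  have hT'ne : Nonempty T'.left := nonempty_atlas_of_points h𝒯 ⟨w⟩ t ht₂
  have hT' := Groth.Agent.Lib.Helper27.ReprAux.isFibGrpd_overCat T'
  have hlft : AlgSt.RepByAlgSpWith (AlgSp.LocP @LocallyOfFiniteType)
      (t ⊚ fpFst yb (FibCat.diag f)) :=
    repByAlgSpWith_locP_comp isSmLocal_lft hT' h𝒯.isStack.1 t (fpFst yb (FibCat.diag f))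
      (repByAlgSpWith_of_smooth isSmLocal_lft t ht₁)
      (Groth.Agent.Lib.Helper27.RepWithGeneral.repByAlgSpWith_fpFst _ (FibCat.diag f) yb
        (Groth.Agent.Lib.Helper27.DiagLft.lft_diag_of_algStack h𝒳 h𝒴.isStack.1 h𝒴.diag f))
  obtain ⟨g, hg⟩ : ∃ g : T' ⟶ Over.mk s, g = homOf (t ⊚ fpFst yb (FibCat.diag f)) := ⟨_, rfl⟩
  have hglft : LocallyOfFiniteType g.left := by
    rw [hg]
    exact AlgSp.locP_yon_map (Groth.Agent.Lib.Helper27.LocQTriple.prop_yon_homOf _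
      (Groth.Agent.Lib.Helper27.RepWithComp.compHyp_locP
        Groth.Agent.Lib.Helper3.isEtLocal_locallyOfFiniteType) _ hlft)
  obtain ⟨σ, hσ⟩ := exists_section_of_algClosed (k := k) (X := T'.left) g.left
  have hσs : σ ≫ T'.hom = s := by
    have h2 : g.left ≫ s = T'.hom := Over.w g
    rw [← h2, ← Category.assoc, hσ, Category.id_comp]
  obtain ⟨σ', hσ'def⟩ : ∃ σ' : Over.mk s ⟶ T', σ' = Over.homMk σ hσs := ⟨_, rfl⟩
  have hσ' : σ' ≫ g = 𝟙 (Over.mk s) := by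
    apply Over.OverMorphism.ext
    rw [hσ'def]
    exact hσ
  obtain ⟨G, hG⟩ : ∃ G : (overCat T').obj, G = Over.mk σ' := ⟨_, rfl⟩
  obtain ⟨Φ, hΦ⟩ : ∃ Φ : overCat T' ⥤ᵇ overCat (Over.mk s), Φ = t ⊚ fpFst yb (FibCat.diag f) :=
    ⟨_, rfl⟩
  rw [← hΦ] at hg
  have hw : (Φ.toFunctor.obj G).left = Over.mk s := by
    have := Φ.w_obj G
    rw [hG] at this ⊢
    exact this
  have hhom : (Φ.toFunctor.obj G).hom = eqToHom hw := by
    have h3 := obj_hom Φ G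
    rw [h3]
    subst hG
    change eqToHom _ ≫ σ' ≫ homOf Φ = _
    rw [← hg, hσ', Category.comp_id]
  obtain ⟨γ, hγdef⟩ : ∃ γ : Φ.toFunctor.obj G ≅ Over.mk (𝟙 (Over.mk s)),
      γ = Over.isoMk (eqToIso hw) (by rw [hhom]; simp) := ⟨_, rfl⟩
  have hγ : Vert (𝒳 := overCat (Over.mk s)) γ.hom := by
    apply Vert.of_lift (U := (Φ.toFunctor.obj G).left)
    apply IsHomLift.of_fac (overCat (Over.mk s)).p (𝟙 _) γ.hom rfl hw.symm
    rw [hγdef]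
    change 𝟙 _ = eqToHom rfl ≫ eqToHom hw ≫ eqToHom _
    simp
  obtain ⟨τ, hτ⟩ : ∃ τ : (fp yb (FibCat.diag f)).obj, τ = t.toFunctor.obj G := ⟨_, rfl⟩
  have hτfst : τ.obj.fst = Φ.toFunctor.obj G := by rw [hτ, hΦ]; rfl
  obtain ⟨γ', hγ'⟩ : ∃ γ' : τ.obj.fst ≅ Over.mk (𝟙 (Over.mk s)), Vert (𝒳 := overCat (Over.mk s)) γ'.hom := by
    rw [hτfst]
    exact ⟨γ, hγ⟩
  refine ⟨τ.obj.snd, ι.symm ≪≫ yb.toFunctor.mapIso γ'.symm ≪≫ τ.obj.iso, ?_⟩
  exact (Vert.inv hι).comp (((Vert.inv hγ').map yb).comp (vert_iso τ))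

end Lift

section Main

variable {𝒳 𝒴 : AlgSt.Cat S}

theorem diag_obj_iso_hom (f : 𝒳 ⥤ᵇ 𝒴) (x : 𝒳.obj) :
    ((FibCat.diag f).toFunctor.obj x).obj.iso.hom = 𝟙 (f.toFunctor.obj x) := rfl

/-- The diagonal is surjective on points exactly when 2-arrows between points with values in
algebraically closed fields lift. -/
theorem isSurjective_diag_iff (h𝒳 : AlgSt.IsAlgStack Scheme.fppfPrecoverage 𝒳)
    (h𝒴 : AlgSt.IsAlgStack Scheme.fppfPrecoverage 𝒴) (f : 𝒳 ⥤ᵇ 𝒴) :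
    AlgSt.IsSurjective (FibCat.diag f) ↔
      ∀ (k : Type u) [Field k] [IsAlgClosed k] (s : Spec (CommRingCat.of k) ⟶ S) (a₁ a₂ : 𝒳.obj)
        (_ : 𝒳.p.obj a₁ = Over.mk s) (_ : 𝒳.p.obj a₂ = Over.mk s)
        (β : f.toFunctor.obj a₁ ⟶ f.toFunctor.obj a₂),
        𝒴.p.IsHomLift (𝟙 (Over.mk s)) β →
          ∃ α : a₁ ⟶ a₂, 𝒳.p.IsHomLift (𝟙 (Over.mk s)) α ∧ f.toFunctor.map α = β := by
  constructor
  · intro hΔ k _ _ s a₁ a₂ h₁ h₂ β hβ
    have hiso : IsIso β := FibGrpd.isIso_of_base_isIso 𝒴.p h𝒴.isStack.1 (𝟙 (Over.mk s)) β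
    obtain ⟨x, θ, hθ⟩ := exists_iso_diag_of_surjective h𝒳 h𝒴 f hΔ k s
      (mkObj (F := f) (G := f) a₁ a₂ (asIso β) (Vert.of_lift hβ)) h₁
    have hθ' : Vert θ.inv := Vert.inv hθ
    obtain ⟨φ₁, hφ₁⟩ : ∃ φ₁ : a₁ ⟶ x, φ₁ = θ.hom.hom.fst := ⟨_, rfl⟩
    obtain ⟨φ₂, hφ₂⟩ : ∃ φ₂ : a₂ ⟶ x, φ₂ = θ.hom.hom.snd := ⟨_, rfl⟩
    obtain ⟨ψ₂, hψ₂⟩ : ∃ ψ₂ : x ⟶ a₂, ψ₂ = θ.inv.hom.snd := ⟨_, rfl⟩
    have hw : f.toFunctor.map φ₁ = β ≫ f.toFunctor.map φ₂ := by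
      have := hom_w θ.hom
      rw [hφ₁, hφ₂]
      exact (Category.comp_id _).symm.trans this
    have hcomp : φ₂ ≫ ψ₂ = 𝟙 a₂ := by
      have := congrArg (fun (m : mkObj (F := f) (G := f) a₁ a₂ (asIso β) (Vert.of_lift hβ) ⟶
        mkObj (F := f) (G := f) a₁ a₂ (asIso β) (Vert.of_lift hβ)) => m.hom.snd) θ.hom_inv_id
      rw [hφ₂, hψ₂]
      exact this
    have hv₁ : 𝒳.p.IsHomLift (𝟙 (Over.mk s)) φ₁ := by
      rw [hφ₁]
      exact ((vert_hom_iff θ.hom).1 hθ).lift h₁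
    have hv₂ : 𝒳.p.IsHomLift (𝟙 (Over.mk s)) ψ₂ := by
      rw [hψ₂]
      have h3 : (fp f f).p.IsHomLift (𝟙 (Over.mk s)) θ.inv :=
        hθ'.lift' (h₁ : (fp f f).p.obj (mkObj (F := f) (G := f) a₁ a₂ (asIso β)
          (Vert.of_lift hβ)) = Over.mk s)
      exact Groth.Agent.Lib.Helper27.StackFp.snd_lift θ.inv (𝟙 (Over.mk s)) h3
    refine ⟨φ₁ ≫ ψ₂, ?_, ?_⟩
    · have : 𝒳.p.IsHomLift (𝟙 (Over.mk s) ≫ 𝟙 (Over.mk s)) (φ₁ ≫ ψ₂) := inferInstance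
      rwa [Category.comp_id] at this
    · rw [f.toFunctor.map_comp, hw, Category.assoc, ← f.toFunctor.map_comp, hcomp,
        f.toFunctor.map_id, Category.comp_id]
  · intro H P
    obtain ⟨p, rfl⟩ := AlgSt.Points.mk_surjective P
    obtain ⟨j, -⟩ : ∃ j : Spec (CommRingCat.of (AlgebraicClosure p.K)) ⟶ Spec (CommRingCat.of p.K),
        j = Spec.map (CommRingCat.ofHom (algebraMap p.K (AlgebraicClosure p.K))) := ⟨_, rfl⟩
    obtain ⟨s, hs⟩ : ∃ s : Spec (CommRingCat.of (AlgebraicClosure p.K)) ⟶ S, s = j ≫ p.str :=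
      ⟨_, rfl⟩
    obtain ⟨d, -⟩ : ∃ d : Over.mk s ⟶ Over.mk p.str, d = Over.homMk j hs.symm := ⟨_, rfl⟩
    have h𝒫 : AlgSt.IsAlgStack Scheme.fppfPrecoverage (fp f f) :=
      Groth.Agent.Lib.Helper27.AlgStackFp2.isAlgStack_fp' f f _ h𝒳 h𝒳 h𝒴
    obtain ⟨b', m, hm⟩ := FibGrpd.exists_lift' (fp f f).p h𝒫.isStack.1 p.lies d
    have hb' : (fp f f).p.obj b' = Over.mk s := IsHomLift.domain_eq (fp f f).p d m
    have h₁ : 𝒳.p.obj b'.obj.fst = Over.mk s := hb'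
    have h₂ : 𝒳.p.obj b'.obj.snd = Over.mk s :=
      (Groth.Agent.Lib.Helper27.StackFp.p_snd b').trans h₁
    have hβ : 𝒴.p.IsHomLift (𝟙 (Over.mk s)) b'.obj.iso.hom :=
      (vert_iso b').lift ((f.w_obj _).trans h₁)
    obtain ⟨α, hα, hfα⟩ := H (AlgebraicClosure p.K) s b'.obj.fst b'.obj.snd h₁ h₂ b'.obj.iso.hom hβ
    refine ⟨AlgSt.Points.mk ⟨AlgebraicClosure p.K, s, b'.obj.fst, h₁⟩, ?_⟩
    rw [AlgSt.Points.map_mk]
    apply AlgSt.Points.sound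
    obtain ⟨n, -⟩ : ∃ n : (FibCat.diag f).toFunctor.obj b'.obj.fst ⟶ b',
        n = mkHom (t := (FibCat.diag f).toFunctor.obj b'.obj.fst) (t' := b') (𝟙 _) α (by
          rw [hfα]
          exact ((congrArg (· ≫ b'.obj.iso.hom) (f.toFunctor.map_id b'.obj.fst)).trans
            (Category.id_comp _)).trans (Category.id_comp _).symm) := ⟨_, rfl⟩
    exact rel_of_hom (p := (⟨AlgebraicClosure p.K, s, b'.obj.fst, h₁⟩ : AlgSt.FPt 𝒳).map
      (FibCat.diag f)) (q := p) (n ≫ m)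

end Main

end Groth.Agent.Lib.Helper27.DiagSurj
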