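import Groth.Agent.Lib.Helper27.QcFppf
import Groth.Agent.Lib.Helper27.DescentFam
import Groth.Agent.Lib.Helper3.AlgSpFpqcMono

/-!
# Lifting charts fppf locally along surjective flat locally finitely presented functors
(helper27)
-/

set_option autoImplicit false
set_option backward.isDefEq.respectTransparency false
set_option backward.isDefEq.respectTransparency.types false

universe u

open CategoryTheory CategoryTheory.Limits FibCat AlgebraicGeometry Opposite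
  Groth.Agent.Lib.Helper27.FpKit Groth.Agent.Lib.Helper27.PointsKit
  Groth.Agent.Lib.Helper27.StPoints Groth.Agent.Lib.Helper27.RepWithComp
  Groth.Agent.Lib.Helper27.PshKit

namespace Groth.Agent.Lib.Helper27.FppfLift

variable {S : Scheme.{u}}

/-- Along a representable, flat, locally finitely presented, surjective functor from an algebraic
space every chart lifts after a flat, locally finitely presented, surjective base change. -/
theorem exists_fppf_lift_space {𝒴 : AlgSt.Cat S} (R₀ : AlgSp.Space S)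
    (w : AlgSt.ofSp R₀.obj ⥤ᵇ 𝒴)
    (hw₁ : AlgSt.RepByAlgSpWith (AlgSp.LocP @Flat) w)
    (hw₂ : AlgSt.RepByAlgSpWith (AlgSp.LocP @LocallyOfFinitePresentation) w)
    (hw₃ : AlgSt.RepByAlgSpWith AlgSp.IsSurjectiveMor w) {U : Over S} (y : overCat U ⥤ᵇ 𝒴) :
    ∃ (A : Over S) (h : A ⟶ U) (l : overCat A ⥤ᵇ AlgSt.ofSp R₀.obj), Flat h.left ∧
      LocallyOfFinitePresentation h.left ∧ Function.Surjective h.left ∧
      Nonempty (BasedFunctor.comp l w ≅ BasedFunctor.comp (AlgSt.overMap h) y) := by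
  have hfl : AlgSp.IsLocalOnBase AlgSp.IsFppfCover
      (AlgSp.LocP @Flat : MorphismProperty (AlgSp.Sp S)) :=
    isLocalOnBase_fppf_of_fpqc _ (Groth.Agent.S10530.result S)
  have hfp : AlgSp.IsLocalOnBase AlgSp.IsFppfCover
      (AlgSp.LocP @LocallyOfFinitePresentation : MorphismProperty (AlgSp.Sp S)) :=
    isLocalOnBase_fppf_of_fpqc _ (Groth.Agent.S10527.result S)
  have hw : AlgSt.RepByAlgSpWith (AlgSp.IsSurjectiveMor ⊓
      (AlgSp.LocP @Flat ⊓ AlgSp.LocP @LocallyOfFinitePresentation)) w :=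
    Groth.Agent.Lib.Helper27.SepDiag.repByAlgSpWith_inf w _ _
      (Groth.Agent.Lib.Helper27.SourceCancel.isLocalOnBase_inf _ _ _ hfl hfp) hw₃
      (Groth.Agent.Lib.Helper27.SepDiag.repByAlgSpWith_inf w _ _ hfp hw₁ hw₂)
  obtain ⟨G, eG, heG, hπ⟩ := hw U y
  obtain ⟨π, hπdef⟩ : ∃ π : G.obj ⟶ (AlgSp.yon S).obj U,
    π = AlgSt.spMapOfOver (BasedFunctor.comp eG (fpFst y w)) := ⟨_, rfl⟩
  rw [← hπdef] at hπ
  obtain ⟨A, a, hae, has⟩ := G.property.atlas
  obtain ⟨h, hh⟩ : ∃ h : A ⟶ U, (AlgSp.yon S).map h = a ≫ π :=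
    ⟨(AlgSp.yon S).preimage (a ≫ π), (AlgSp.yon S).map_preimage _⟩
  have hcomm : a ≫ π = (AlgSp.yon S).map h ≫ 𝟙 _ := by rw [Category.comp_id, hh]
  have h1 : Flat h.left := hπ.2.1 a (𝟙 _) h hae (AlgSp.repWith_id @Etale U) hcomm
  have h2 : LocallyOfFinitePresentation h.left :=
    hπ.2.2 a (𝟙 _) h hae (AlgSp.repWith_id @Etale U) hcomm
  have h3 : Function.Surjective h.left := by
    apply Groth.Agent.Lib.Helper3.surjective_of_isSurjectiveMor_yon_map
    rw [hh]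
    exact Groth.Agent.Lib.Helper3.isSurjectiveMor_comp
      (Groth.Agent.Lib.Helper3.isSurjectiveMor_of_repWith has) hπ.1
  refine ⟨A, h, BasedFunctor.comp (AlgSt.ofOverCat A) (BasedFunctor.comp (AlgSt.ofSpMap a)
    (BasedFunctor.comp eG (fpSnd y w))), h1, h2, h3, ⟨?_⟩⟩
  -- the 2-isomorphism
  have i1 : BasedFunctor.comp (BasedFunctor.comp eG (fpSnd y w)) w ≅
      BasedFunctor.comp (BasedFunctor.comp eG (fpFst y w)) y :=
    Groth.Agent.Lib.Helper27.RepCancel.whiskerLeftIso eG (fpIso y w).symm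
  have i2 : BasedFunctor.comp (BasedFunctor.comp eG (fpFst y w)) y ≅
      BasedFunctor.comp (BasedFunctor.comp (AlgSt.ofSpMap π) (AlgSt.toOverCat U)) y := by
    rw [hπdef]
    exact Groth.Agent.Lib.Helper27.RepCancel.whiskerRightIso
      (Groth.Agent.Lib.Helper27.RepChart.structIso _).symm y
  have e3 : BasedFunctor.comp (AlgSt.ofSpMap a)
      (BasedFunctor.comp (BasedFunctor.comp (AlgSt.ofSpMap π) (AlgSt.toOverCat U)) y) =
      BasedFunctor.comp (AlgSt.ofSpMap (a ≫ π)) (BasedFunctor.comp (AlgSt.toOverCat U) y) := rfl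
  have e4 : BasedFunctor.comp (AlgSt.ofSpMap ((AlgSp.yon S).map h))
      (BasedFunctor.comp (AlgSt.toOverCat U) y) =
      BasedFunctor.comp (AlgSt.toOverCat A) (BasedFunctor.comp (AlgSt.overMap h) y) := rfl
  have e34 : BasedFunctor.comp (AlgSt.ofSpMap (a ≫ π))
      (BasedFunctor.comp (AlgSt.toOverCat U) y) =
      BasedFunctor.comp (AlgSt.ofSpMap ((AlgSp.yon S).map h))
        (BasedFunctor.comp (AlgSt.toOverCat U) y) := by rw [hh]
  have i5 : BasedFunctor.comp (AlgSt.ofSpMap a)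
      (BasedFunctor.comp (BasedFunctor.comp eG (fpSnd y w)) w) ≅
      BasedFunctor.comp (AlgSt.toOverCat A) (BasedFunctor.comp (AlgSt.overMap h) y) :=
    Groth.Agent.Lib.Helper27.RepCancel.whiskerLeftIso (AlgSt.ofSpMap a) (i1 ≪≫ i2) ≪≫
      eqToIso (e3.trans (e34.trans e4))
  exact Groth.Agent.Lib.Helper27.RepCancel.whiskerLeftIso (AlgSt.ofOverCat A) i5 ≪≫
    Groth.Agent.Lib.Helper27.RepCancel.whiskerRightIso
      (Groth.Agent.Lib.Helper27.RepChart.ofToIso A) (BasedFunctor.comp (AlgSt.overMap h) y)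

/-- Along a surjective functor with flat and locally finitely presented chart squares every chart
lifts after a flat, locally finitely presented, surjective base change. -/
theorem exists_fppf_lift {𝒵 𝒴 : AlgSt.Cat S} (h𝒵 : FibCat.IsFibGrpd 𝒵.p)
    (h𝒴 : FibCat.IsFibGrpd 𝒴.p) (z : 𝒵 ⥤ᵇ 𝒴)
    (hz₁ : AlgSt.LocQ (AlgSp.LocP @Flat) z)
    (hz₂ : AlgSt.LocQ (AlgSp.LocP @LocallyOfFinitePresentation) z)
    (hz₃ : AlgSt.IsSurjective z) {U : Over S} (y : overCat U ⥤ᵇ 𝒴) :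
    ∃ (A : Over S) (h : A ⟶ U) (l : overCat A ⥤ᵇ 𝒵), Flat h.left ∧
      LocallyOfFinitePresentation h.left ∧ Function.Surjective h.left ∧
      Nonempty (BasedFunctor.comp l z ≅ BasedFunctor.comp (AlgSt.overMap h) y) := by
  obtain ⟨R, x'', hx'', hfl, hfp⟩ :=
    Groth.Agent.Lib.Helper27.QcImage.exists_fppf_space_chart h𝒵 z hz₁ hz₂
  have hfR : FibCat.IsFibGrpd (AlgSt.ofSp R.obj).p := Stk.isFibGrpd_ofPsh (P := R.obj.obj)
  have hs1 : AlgSt.IsSurjective x'' := isSurjective_of_rep hfR h𝒵 x'' hx''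
  have hs2 : AlgSt.IsSurjective (BasedFunctor.comp x'' z) := fun t => by
    obtain ⟨t', rfl⟩ := hz₃ t
    obtain ⟨w, rfl⟩ := hs1 t'
    exact ⟨w, map_comp x'' z w⟩
  have hrep : AlgSt.RepByAlgSp1 (BasedFunctor.comp x'' z) := fun U t => by
    obtain ⟨G, eG, heG, -⟩ := hfl U t
    exact ⟨G, eG, heG⟩
  have hsurj := rep_of_isSurjective hfR h𝒴 _ hrep hs2
  obtain ⟨A, h, l, h1, h2, h3, ⟨κ⟩⟩ := exists_fppf_lift_space R _ hfl hfp hsurj y
  exact ⟨A, h, BasedFunctor.comp l x'', h1, h2, h3, ⟨κ⟩⟩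

variable {𝒳 𝒴 𝒵 : AlgSt.Cat S}

/-- Descent of a property of representable functors along a functor along which charts lift
fppf locally. -/
theorem repByAlgSpWith_of_fppf_lifts (P : MorphismProperty (AlgSp.Sp S))
    (hP : AlgSp.IsLocalOnBase AlgSp.IsFppfCover P) (f : 𝒳 ⥤ᵇ 𝒴) (hf : AlgSt.RepByAlgSp1 f)
    (g : 𝒵 ⥤ᵇ 𝒴)
    (hg : ∀ (U : Over S) (y : overCat U ⥤ᵇ 𝒴), ∃ (A : Over S) (h : A ⟶ U)
      (l : overCat A ⥤ᵇ 𝒵), Flat h.left ∧ LocallyOfFinitePresentation h.left ∧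
      Function.Surjective h.left ∧
      Nonempty (BasedFunctor.comp l g ≅ BasedFunctor.comp (AlgSt.overMap h) y))
    (h' : AlgSt.RepByAlgSpWith P (fpFst g f)) : AlgSt.RepByAlgSpWith P f := by
  intro U y
  obtain ⟨F, e, he⟩ := hf U y
  refine ⟨F, e, he, ?_⟩
  obtain ⟨A, h, l, h1, h2, h3, ⟨κ⟩⟩ := hg U y
  refine Groth.Agent.Lib.Helper27.DescentFam.descent_over_schemes P hP f y F e he
    (fun _ : PUnit.{u + 1} => A) (fun _ => h) (fun _ => h1) (fun _ => h2)
    (fun u => ⟨PUnit.unit, h3 u⟩) (fun _ => BasedFunctor.comp l g) (fun _ => κ) ?_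
  intro _
  exact Groth.Agent.Lib.Helper27.RepWithKit.transport P (pasteL f g l)
    (isEquivOver_pasteL f g l) (fpFst l (fpFst g f))
    (fpFst (BasedFunctor.comp l g) f) (fun t => ⟨Iso.refl _, Vert.id _⟩) (h' A l)

end Groth.Agent.Lib.Helper27.FppfLift
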