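import Groth.Agent.Lib.Helper27.MonoFF

/-!
# Monomorphisms of categories over schemes are full (helper27)
-/

set_option autoImplicit false
set_option backward.isDefEq.respectTransparency false
set_option backward.isDefEq.respectTransparency.types false

universe v₄ u₄ v₃ u₃ v₂ u₂ u

open CategoryTheory CategoryTheory.Limits FibCat AlgebraicGeometry Opposite
  Groth.Agent.Lib.Helper27.FpKit

namespace Groth.Agent.Lib.Helper27.MonoFull

variable {S : Scheme.{u}}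

theorem injective_of_mono {F G : AlgSp.Sp S} (a : F ⟶ G) [Mono a] (T : (Over S)ᵒᵖ) :
    Function.Injective (a.hom.app T) := by
  intro x x' h
  obtain ⟨p, rfl⟩ := (GrothendieckTopology.uliftYonedaEquiv.{u + 1} (AlgSp.J S)
    (X := T.unop) (F := F)).surjective x
  obtain ⟨p', rfl⟩ := (GrothendieckTopology.uliftYonedaEquiv.{u + 1} (AlgSp.J S)
    (X := T.unop) (F := F)).surjective x'
  have h1 : p ≫ a = p' ≫ a := by
    apply (GrothendieckTopology.uliftYonedaEquiv.{u + 1} (AlgSp.J S)).injective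
    rw [GrothendieckTopology.uliftYonedaEquiv_comp, GrothendieckTopology.uliftYonedaEquiv_comp]
    exact h
  rw [(cancel_mono a).1 h1]

theorem exists_vert_of_mono {𝒲 : BasedCategory.{v₂, u₂} (Over S)} {U : Over S} {F : AlgSp.Sp S}
    (e : AlgSt.ofSp F ⥤ᵇ 𝒲) (he : IsEquivOver e) (q : 𝒲 ⥤ᵇ overCat U)
    (hm : Mono (AlgSt.spMapOfOver (BasedFunctor.comp e q))) (t t' : 𝒲.obj)
    (m : q.toFunctor.obj t ⟶ q.toFunctor.obj t') (hmv : Vert (𝒳 := overCat U) m) :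
    ∃ Θ : t ⟶ t', Vert Θ := by
  obtain ⟨σ, θ, hθ⟩ := ess_of_equiv e he t
  obtain ⟨σ', θ', hθ'⟩ := ess_of_equiv e he t'
  let μ : (BasedFunctor.comp e q).toFunctor.obj σ ⟶ (BasedFunctor.comp e q).toFunctor.obj σ' :=
    q.toFunctor.map θ.hom ≫ m ≫ q.toFunctor.map θ'.inv
  have hμ : Vert (𝒳 := overCat U) μ :=
    (hθ.map q).comp (hmv.comp ((Vert.inv hθ').map q))
  obtain ⟨h, hμl⟩ := Groth.Agent.Lib.Helper27.SliceYoneda.left_of_vert μ hμ
  have hw := Over.w μ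
  have h₀ : σ.base = σ'.base :=
    ((BasedFunctor.comp e q).w_obj σ).symm.trans (h.trans ((BasedFunctor.comp e q).w_obj σ'))
  have hsec : AlgSt.secHom (BasedFunctor.comp e q) σ =
      eqToHom h₀ ≫ AlgSt.secHom (BasedFunctor.comp e q) σ' := by
    unfold AlgSt.secHom
    rw [← hw, hμl]
    simp
  let c : (⟨σ.base, F.obj.map (eqToHom h₀).op σ'.sec⟩ : (AlgSt.ofSp F).obj) ⟶ σ' :=
    ⟨eqToHom h₀, rfl⟩
  have hc := AlgSt.secHom_comp (BasedFunctor.comp e q) c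
  have hinj := injective_of_mono (AlgSt.spMapOfOver (BasedFunctor.comp e q)) (op σ.base)
  have heq : σ.sec = F.obj.map (eqToHom h₀).op σ'.sec := by
    apply hinj
    rw [AlgSt.spMapOfOver_app, AlgSt.spMapOfOver_app]
    apply ULift.ext
    change AlgSt.secHom (BasedFunctor.comp e q) σ = _
    rw [hsec]
    exact hc
  let c' : σ ⟶ σ' := ⟨eqToHom h₀, heq.symm⟩
  have hc' : Vert c' := by
    apply Vert.of_lift (U := σ.base)
    apply IsHomLift.of_fac (AlgSt.ofSp F).p (𝟙 σ.base) c' rfl h₀.symm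
    change 𝟙 σ.base = eqToHom rfl ≫ eqToHom h₀ ≫ eqToHom h₀.symm
    simp
  exact ⟨θ.inv ≫ e.toFunctor.map c' ≫ θ'.hom, (Vert.inv hθ).comp ((hc'.map e).comp hθ')⟩

section Full

variable {𝒳 : BasedCategory.{v₂, u₂} (Over S)} {𝒴 : BasedCategory.{v₃, u₃} (Over S)}

theorem full_of_isMono (h𝒳 : FibCat.IsFibGrpd 𝒳.p) (h𝒴 : FibCat.IsFibGrpd 𝒴.p)
    (j : 𝒳 ⥤ᵇ 𝒴) (hj : AlgSt.IsMono j) : j.toFunctor.Full := by
  apply Groth.Agent.Lib.Helper27.GerbEquiv.full_of_vert h𝒳 h𝒴 j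
  intro a b hab ψ hψ
  have hb : 𝒴.p.obj (j.toFunctor.obj b) = 𝒳.p.obj a := (j.w_obj b).trans hab
  obtain ⟨y, ι, hι⟩ := Groth.Agent.Lib.Helper27.MonoFF.exists_yoneda h𝒴 (j.toFunctor.obj b) hb
  have : IsIso ψ := Groth.Agent.Lib.Helper27.DescentKit.FG.isIso h𝒴 _ hψ
  have hψv : Vert ψ := Vert.of_lift hψ
  have hinv : Vert (inv ψ) := by
    have : Vert (asIso ψ).inv := Vert.inv (e := asIso ψ) hψv
    exact this
  let t_b : (fp y j).obj := mkObj (F := y) (G := j) (Over.mk (𝟙 (𝒳.p.obj a))) b ι hι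
  let t_a : (fp y j).obj := mkObj (F := y) (G := j) (Over.mk (𝟙 (𝒳.p.obj a))) a
    (ι ≪≫ (asIso ψ).symm) (hι.comp hinv)
  obtain ⟨F, e, he, hm⟩ := hj _ y
  obtain ⟨Θ, hΘ⟩ := exists_vert_of_mono e he (fpFst y j) hm t_a t_b (𝟙 _) (Vert.id _)
  have h1 : Θ.hom.fst = 𝟙 _ := by
    apply Over.OverMorphism.ext
    have := Over.w Θ.hom.fst
    change Θ.hom.fst.left ≫ 𝟙 _ = 𝟙 _ at this
    rw [Category.comp_id] at this
    exact this
  have hw := hom_w Θ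
  rw [h1] at hw
  change y.toFunctor.map (𝟙 _) ≫ ι.hom = (ι.hom ≫ inv ψ) ≫ j.toFunctor.map Θ.hom.snd at hw
  rw [y.toFunctor.map_id, Category.id_comp, Category.assoc] at hw
  refine ⟨Θ.hom.snd, ?_⟩
  have h2 : inv ψ ≫ j.toFunctor.map Θ.hom.snd = 𝟙 _ := by
    apply (cancel_epi ι.hom).1
    rw [← hw, Category.comp_id]
  calc j.toFunctor.map Θ.hom.snd = ψ ≫ inv ψ ≫ j.toFunctor.map Θ.hom.snd := by
        rw [IsIso.hom_inv_id_assoc]
    _ = ψ := by rw [h2, Category.comp_id]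

theorem isMono_repByAlgSp1 (j : 𝒳 ⥤ᵇ 𝒴) (hj : AlgSt.IsMono j) : AlgSt.RepByAlgSp1 j := by
  intro U y
  obtain ⟨F, e, he, -⟩ := hj U y
  exact ⟨F, e, he⟩

theorem full_faithful_of_isMono (h𝒳 : FibCat.IsFibGrpd 𝒳.p) (h𝒴 : FibCat.IsFibGrpd 𝒴.p)
    (j : 𝒳 ⥤ᵇ 𝒴) (hj : AlgSt.IsMono j) : j.toFunctor.Full ∧ j.toFunctor.Faithful :=
  ⟨full_of_isMono h𝒳 h𝒴 j hj,
    Groth.Agent.Lib.Helper27.MonoFF.faithful_of_repByAlgSp1 h𝒳 h𝒴 j (isMono_repByAlgSp1 j hj)⟩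

end Full

end Groth.Agent.Lib.Helper27.MonoFull
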