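import Groth.Agent.Lib.Helper27.PshFp
import Groth.Agent.Lib.Helper27.RepWithKit
import Groth.Prelude.Def_AlgSpRep

/-!
# Representability by algebraic spaces: presheaf maps versus functors of categories of elements
(helper27)
-/

set_option autoImplicit false
set_option backward.isDefEq.respectTransparency false
set_option backward.isDefEq.respectTransparency.types false

universe v₂ u₂ u

open CategoryTheory CategoryTheory.Limits AlgebraicGeometry Opposite FibCat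
  Groth.Agent.Lib.Helper27.FpKit Groth.Agent.Lib.Helper27.PshKit Groth.Agent.Lib.Helper27.PshFp

namespace Groth.Agent.Lib.Helper27.PshRep

variable {S : Scheme.{u}}

open Stk

theorem isEquivOver_toOverCat (U : Over S) : IsEquivOver (AlgSt.toOverCat U) := by
  apply isEquivOver_of_ess
  · constructor
    intro a b m
    refine ⟨⟨m.left, ULift.ext _ _ (Over.w m)⟩, ?_⟩
    apply Over.OverMorphism.ext
    rfl
  · constructor
    intro a b f g h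
    apply EltObj.hom_ext
    exact congrArg (fun k => k.left) h
  · intro y
    exact ⟨⟨y.left, ⟨y.hom⟩⟩, Iso.refl _, Vert.id _⟩

section SpMap

theorem spMapOfOver_eq {F : AlgSp.Sp S} {U : Over S} (Φ : AlgSt.ofSp F ⥤ᵇ overCat U) :
    (AlgSt.spMapOfOver Φ).hom = pshMapOf (BasedFunctor.comp Φ (AlgSt.ofOverCat U)) := by
  ext T s
  obtain ⟨T⟩ := T
  change (⟨AlgSt.secHom Φ ⟨T, s⟩⟩ : ULift _) = secOf (BasedFunctor.comp Φ (AlgSt.ofOverCat U)) ⟨T, s⟩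
  rfl

theorem spMapOfOver_comp {F₁ F₂ : AlgSp.Sp S} {U : Over S} (Ψ : AlgSt.ofSp F₁ ⥤ᵇ AlgSt.ofSp F₂)
    (Φ : AlgSt.ofSp F₂ ⥤ᵇ overCat U) :
    AlgSt.spMapOfOver (BasedFunctor.comp Ψ Φ) =
      (ObjectProperty.homMk (pshMapOf Ψ) : F₁ ⟶ F₂) ≫ AlgSt.spMapOfOver Φ := by
  apply ObjectProperty.hom_ext
  change (AlgSt.spMapOfOver (BasedFunctor.comp Ψ Φ)).hom = pshMapOf Ψ ≫ (AlgSt.spMapOfOver Φ).hom
  rw [spMapOfOver_eq, spMapOfOver_eq, ← pshMapOf_comp]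
  rfl

end SpMap

section Indep

variable {𝒲 : BasedCategory.{v₂, u₂} (Over S)} {U : Over S}

theorem isIso_homMk {F₁ F₂ : AlgSp.Sp S} (φ : F₁.obj ⟶ F₂.obj) (h : IsIso φ) :
    IsIso (ObjectProperty.homMk φ : F₁ ⟶ F₂) := by
  have : IsIso ((sheafToPresheaf (AlgSp.J S) (Type (u + 1))).map
      (ObjectProperty.homMk φ : F₁ ⟶ F₂)) := h
  exact isIso_of_fully_faithful (sheafToPresheaf (AlgSp.J S) (Type (u + 1))) _

/-- The property of the structure map does not depend on the presentation. -/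
theorem indep (P : MorphismProperty (AlgSp.Sp S)) [P.RespectsIso] {F₁ F₂ : AlgSp.Sp S}
    (e₁ : AlgSt.ofSp F₁ ⥤ᵇ 𝒲) (e₂ : AlgSt.ofSp F₂ ⥤ᵇ 𝒲) (h₁ : IsEquivOver e₁) (h₂ : IsEquivOver e₂)
    (q : 𝒲 ⥤ᵇ overCat U) (hP : P (AlgSt.spMapOfOver (BasedFunctor.comp e₂ q))) :
    P (AlgSt.spMapOfOver (BasedFunctor.comp e₁ q)) := by
  obtain ⟨e₂', he₂', -, ⟨ε⟩⟩ := exists_inverse e₂ h₂
  let Ψ : AlgSt.ofSp F₁ ⥤ᵇ AlgSt.ofSp F₂ := BasedFunctor.comp e₁ e₂'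
  have hΨ : IsEquivOver Ψ := isEquivOver_comp e₁ e₂' h₁ he₂'
  have hiso : IsIso (pshMapOf Ψ) := isIso_pshMapOf Ψ hΨ
  have h1 : AlgSt.spMapOfOver (BasedFunctor.comp e₁ q) =
      AlgSt.spMapOfOver (BasedFunctor.comp Ψ (BasedFunctor.comp e₂ q)) := by
    apply Groth.Agent.Lib.Helper27.RepWithKit.spMapOfOver_congr
    intro a
    exact ⟨q.toFunctor.map (ε.inv.toNatTrans.app (e₁.toFunctor.obj a)),
      (Vert.app ε.inv (e₁.toFunctor.obj a)).map q⟩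
  rw [h1, spMapOfOver_comp]
  have := isIso_homMk (F₁ := F₁) (F₂ := F₂) (pshMapOf Ψ) hiso
  exact (P.cancel_left_of_respectsIso _ _).2 hP

end Indep

section Main

variable {F G F' : AlgSp.PSp S} {a : F ⟶ G} {U : Over S} (y : overCat U ⥤ᵇ Stk.ofPsh G)
  (ξ : (AlgSp.pyon S).obj U ⟶ G)
  (κ : ∀ x' : (AlgSt.ofSch U).obj,
    (Stk.ofPshMap ξ).toFunctor.obj x' ≅ y.toFunctor.obj ((AlgSt.toOverCat U).toFunctor.obj x'))
  (κnat : ∀ {x' x'' : (AlgSt.ofSch U).obj} (α : x' ⟶ x''),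
    (Stk.ofPshMap ξ).toFunctor.map α ≫ (κ x'').hom =
      (κ x').hom ≫ y.toFunctor.map ((AlgSt.toOverCat U).toFunctor.map α))
  (κvert : ∀ x' : (AlgSt.ofSch U).obj, Vert (𝒳 := Stk.ofPsh G) (κ x').hom)
  {fst : F' ⟶ F} {snd : F' ⟶ (AlgSp.pyon S).obj U} (sq : IsPullback fst snd a ξ)

/-- The morphism of cospans. -/
def D : MapData y (Stk.ofPshMap a) (Stk.ofPshMap ξ) (Stk.ofPshMap a) (AlgSt.toOverCat U)
    (BasedFunctor.id _) (BasedFunctor.id _) where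
  e₁ := κ
  n₁ := κnat
  l₁ := κvert
  e₂ := fun _ => Iso.refl _
  n₂ := fun β => (Category.comp_id _).trans (Category.id_comp _).symm
  l₂ := fun _ => Vert.id _

/-- The presentation of the 2-fibre product by the fibre product presheaf. -/
def pres : Stk.ofPsh F' ⥤ᵇ fp y (Stk.ofPshMap a) :=
  BasedFunctor.comp (bridge sq) (fpMap (D y ξ κ κnat κvert))

theorem isEquivOver_pres : IsEquivOver (pres y ξ κ κnat κvert sq) := by
  apply isEquivOver_comp _ _ (isEquivOver_bridge sq)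
  exact isEquivOver_fpMap (D y ξ κ κnat κvert) (isEquivOver_toOverCat U)
    (isEquivOver_id _) (isEquivOver_id _)

theorem spMapOfOver_pres (hF' : Presheaf.IsSheaf (AlgSp.J S) F') :
    AlgSt.spMapOfOver (F := ⟨F', hF'⟩)
      (BasedFunctor.comp (pres y ξ κ κnat κvert sq) (fpFst y (Stk.ofPshMap a))) =
      (ObjectProperty.homMk snd : (⟨F', hF'⟩ : AlgSp.Sp S) ⟶ (AlgSp.yon S).obj U) := by
  apply ObjectProperty.hom_ext
  apply NatTrans.ext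
  funext T
  ext z
  obtain ⟨T⟩ := T
  change (⟨AlgSt.secHom _ ⟨T, z⟩⟩ : ULift _) = snd.app (op T) z
  apply ULift.ext
  unfold AlgSt.secHom
  rw [eqToHom_refl, Category.id_comp]
  rfl

end Main

section Iff

variable {F G : AlgSp.PSp S} (a : F ⟶ G)

/-- The canonical functor attached to a map from a representable presheaf. -/
abbrev yOf {U : Over S} (ξ : (AlgSp.pyon S).obj U ⟶ G) : overCat U ⥤ᵇ Stk.ofPsh G :=
  BasedFunctor.comp (AlgSt.ofOverCat U) (Stk.ofPshMap ξ)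

theorem κnat_yOf {U : Over S} (ξ : (AlgSp.pyon S).obj U ⟶ G) {x' x'' : (AlgSt.ofSch U).obj}
    (α : x' ⟶ x'') :
    (Stk.ofPshMap ξ).toFunctor.map α ≫ 𝟙 _ =
      𝟙 _ ≫ (yOf ξ).toFunctor.map ((AlgSt.toOverCat U).toFunctor.map α) := by
  rw [Category.comp_id, Category.id_comp]
  apply EltObj.hom_ext
  rfl

theorem repByAlgSp1_of_repBySp (h : AlgSp.RepBySp a) : AlgSt.RepByAlgSp1 (Stk.ofPshMap a) := by
  intro U y
  let Ψ : AlgSt.ofSch U ⥤ᵇ Stk.ofPsh G := BasedFunctor.comp (AlgSt.toOverCat U) y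
  let ξ : (AlgSp.pyon S).obj U ⟶ G := pshMapOf Ψ
  have sq : IsPullback (pullback.fst a ξ) (pullback.snd a ξ) a ξ := IsPullback.of_hasPullback a ξ
  obtain ⟨hsh, halg⟩ := h ξ _ _ sq
  exact ⟨⟨⟨pullback a ξ, hsh⟩, halg⟩, pres y ξ (τ Ψ) (τ_nat Ψ) (τ_vert Ψ) sq,
    isEquivOver_pres y ξ (τ Ψ) (τ_nat Ψ) (τ_vert Ψ) sq⟩

theorem repBySp_of_repByAlgSp1 (h : AlgSt.RepByAlgSp1 (Stk.ofPshMap a)) : AlgSp.RepBySp a := by
  intro U ξ F' fst snd sq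
  obtain ⟨F₀, e₀, he₀⟩ := h U (yOf ξ)
  obtain ⟨e₀', he₀', -, -⟩ := exists_inverse e₀ he₀
  let pr := pres (yOf ξ) ξ (fun _ => Iso.refl _) (fun α => κnat_yOf ξ α) (fun _ => Vert.id _) sq
  have hpr : IsEquivOver pr :=
    isEquivOver_pres (yOf ξ) ξ (fun _ => Iso.refl _) (fun α => κnat_yOf ξ α) (fun _ => Vert.id _) sq
  let Ψ : Stk.ofPsh F' ⥤ᵇ Stk.ofPsh F₀.obj.obj := BasedFunctor.comp pr e₀'
  have hΨ : IsEquivOver Ψ := isEquivOver_comp pr e₀' hpr he₀'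
  have hiso : IsIso (pshMapOf Ψ) := isIso_pshMapOf Ψ hΨ
  exact ((AlgSp.isAlgSpaceP_obj_iff F₀.obj).2 F₀.property).of_iso (asIso (pshMapOf Ψ)).symm

theorem repByAlgSpWith_of_repBySpWith (Q : MorphismProperty (AlgSp.Sp S))
    (h : AlgSp.RepBySpWith Q a) : AlgSt.RepByAlgSpWith Q (Stk.ofPshMap a) := by
  intro U y
  let Ψ : AlgSt.ofSch U ⥤ᵇ Stk.ofPsh G := BasedFunctor.comp (AlgSt.toOverCat U) y
  let ξ : (AlgSp.pyon S).obj U ⟶ G := pshMapOf Ψ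
  have sq : IsPullback (pullback.fst a ξ) (pullback.snd a ξ) a ξ := IsPullback.of_hasPullback a ξ
  obtain ⟨hsh, halg, hQ⟩ := h ξ _ _ sq
  refine ⟨⟨⟨pullback a ξ, hsh⟩, halg⟩, pres y ξ (τ Ψ) (τ_nat Ψ) (τ_vert Ψ) sq,
    isEquivOver_pres y ξ (τ Ψ) (τ_nat Ψ) (τ_vert Ψ) sq, ?_⟩
  rw [spMapOfOver_pres y ξ (τ Ψ) (τ_nat Ψ) (τ_vert Ψ) sq hsh]
  exact hQ

theorem repBySpWith_of_repByAlgSpWith (Q : MorphismProperty (AlgSp.Sp S)) [Q.RespectsIso]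
    (ha : AlgSp.RepBySp a) (h : AlgSt.RepByAlgSpWith Q (Stk.ofPshMap a)) :
    AlgSp.RepBySpWith Q a := by
  intro U ξ F' fst snd sq
  obtain ⟨hsh, halg⟩ := ha ξ fst snd sq
  refine ⟨hsh, halg, ?_⟩
  obtain ⟨F₀, e₀, he₀, hQ⟩ := h U (yOf ξ)
  have h1 := indep Q (F₁ := ⟨F', hsh⟩)
    (pres (yOf ξ) ξ (fun _ => Iso.refl _) (fun α => κnat_yOf ξ α) (fun _ => Vert.id _) sq) e₀
    (isEquivOver_pres (yOf ξ) ξ (fun _ => Iso.refl _) (fun α => κnat_yOf ξ α) (fun _ => Vert.id _) sq)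
    he₀ (fpFst (yOf ξ) (Stk.ofPshMap a)) hQ
  rw [spMapOfOver_pres (yOf ξ) ξ (fun _ => Iso.refl _) (fun α => κnat_yOf ξ α) (fun _ => Vert.id _)
    sq hsh] at h1
  exact h1

end Iff

end Groth.Agent.Lib.Helper27.PshRep
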