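import Groth.Agent.Lib.Helper27.DiagRepWith
import Groth.Agent.Lib.Helper27.RepWithGeneral
import Groth.Agent.Lib.Helper27.PshRep

/-!
# Transporting the diagonal along equivalences; the diagonal of a presentation (helper27)

For `f : 𝒳 ⟶ 𝒴` whose diagonal is representable by algebraic spaces with a property `P`, and a
presentation `e : ofSp F ≃ (Sch/U) ×_𝒴 𝒳` with structure map `π : F ⟶ h_U`, the functor attached to
the diagonal `F ⟶ F ×_{h_U} F` of `π` is representable by algebraic spaces with the property `P`.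
-/

set_option autoImplicit false
set_option backward.isDefEq.respectTransparency false
set_option backward.isDefEq.respectTransparency.types false

universe v₅ u₅ v₄ u₄ v₃ u₃ v₂ u₂ u

open CategoryTheory CategoryTheory.Limits AlgebraicGeometry Opposite FibCat
  Groth.Agent.Lib.Helper27.FpKit Groth.Agent.Lib.Helper27.PshKit Groth.Agent.Lib.Helper27.PshFp
  Groth.Agent.Lib.Helper27.PshRep

namespace Groth.Agent.Lib.Helper27.DiagTransport

variable {S : Scheme.{u}}

open Stk

section General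

variable {𝒳 : BasedCategory.{v₂, u₂} (Over S)} {𝒴 : BasedCategory.{v₃, u₃} (Over S)}
  {𝒳' : BasedCategory.{v₄, u₄} (Over S)} {𝒴' : BasedCategory.{v₅, u₅} (Over S)}
  (q : 𝒳 ⥤ᵇ 𝒴) (p : 𝒳' ⥤ᵇ 𝒴') (a : 𝒳' ⥤ᵇ 𝒳) (c : 𝒴' ⥤ᵇ 𝒴)
  (κ : BasedFunctor.comp p c ≅ BasedFunctor.comp a q)

/-- The morphism of cospans attached to a 2-commutative square. -/
def DD : MapData q q p p a a c where
  e₁ := fun x' => ((BasedNatTrans.forgetful _ _).mapIso κ).app x'
  n₁ := fun α => κ.hom.toNatTrans.naturality α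
  l₁ := fun x' => Vert.app κ.hom x'
  e₂ := fun x' => ((BasedNatTrans.forgetful _ _).mapIso κ).app x'
  n₂ := fun α => κ.hom.toNatTrans.naturality α
  l₂ := fun x' => Vert.app κ.hom x'

theorem diag_iso_hom' {𝒜 : BasedCategory.{v₂, u₂} (Over S)} {ℬ : BasedCategory.{v₃, u₃} (Over S)}
    (g : 𝒜 ⥤ᵇ ℬ) (x : 𝒜.obj) : ((diag g).toFunctor.obj x).obj.iso.hom = 𝟙 _ := rfl

/-- The comparison, objectwise. -/
def ι (x : 𝒳'.obj) : (fpMap (DD q p a c κ)).toFunctor.obj ((diag p).toFunctor.obj x) ≅
    (diag q).toFunctor.obj (a.toFunctor.obj x) :=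
  mkIso (t := (fpMap (DD q p a c κ)).toFunctor.obj ((diag p).toFunctor.obj x))
    (t' := (diag q).toFunctor.obj (a.toFunctor.obj x)) (Iso.refl _) (Iso.refl _) (by
      have h0 : ((fpMap (DD q p a c κ)).toFunctor.obj ((diag p).toFunctor.obj x)).obj.iso.hom =
          ((DD q p a c κ).e₁ x).inv ≫ c.toFunctor.map (𝟙 _) ≫ ((DD q p a c κ).e₂ x).hom := rfl
      have h1 : ((fpMap (DD q p a c κ)).toFunctor.obj ((diag p).toFunctor.obj x)).obj.iso.hom =
          𝟙 _ := by
        rw [h0, CategoryTheory.Functor.map_id, Category.id_comp]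
        exact Iso.inv_hom_id _
      have h2 : ((diag q).toFunctor.obj (a.toFunctor.obj x)).obj.iso.hom = 𝟙 _ := rfl
      rw [h1, h2]
      exact (Category.comp_id _).trans (Category.id_comp _).symm)

theorem ι_vert (x : 𝒳'.obj) : Vert (ι q p a c κ x).hom := by
  rw [vert_hom_iff]
  exact Vert.id _

/-- The square of diagonals 2-commutes. -/
def diagSq : BasedFunctor.comp (diag p) (fpMap (DD q p a c κ)) ≅ BasedFunctor.comp a (diag q) :=
  BasedNatIso.mkNatIso
    (NatIso.ofComponents (fun x => ι q p a c κ x) (fun {x x'} m => by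
      apply Groth.Agent.Lib.Helper27.StackFp.hom_ext'
      · exact (Category.comp_id _).trans (Category.id_comp _).symm
      · exact (Category.comp_id _).trans (Category.id_comp _).symm))
    (fun x => (ι_vert q p a c κ x).lift
      ((BasedFunctor.comp (diag p) (fpMap (DD q p a c κ))).w_obj x))

include κ in
/-- Properties of the diagonal are transported along equivalences. -/
theorem repByAlgSpWith_diag_of_equiv (P : MorphismProperty (AlgSp.Sp S)) (ha : IsEquivOver a)
    (hc : IsEquivOver c) (h : AlgSt.RepByAlgSpWith P (diag q)) :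
    AlgSt.RepByAlgSpWith P (diag p) :=
  Groth.Agent.Lib.Helper27.RepWithGeneral.repByAlgSpWith_of_equiv P (diag q) (diag p) a
    (fpMap (DD q p a c κ)) ha (isEquivOver_fpMap (DD q p a c κ) ha ha hc) (diagSq q p a c κ) h

end General

section Kappa

variable {F : AlgSp.Sp S} {U : Over S} (Φ : AlgSt.ofSp F ⥤ᵇ overCat U)

/-- The functor of the structure map of `Φ`, followed by the identification of the category of
`h_U` with the slice, is `Φ`. -/
def κΦ : BasedFunctor.comp
    (Stk.ofPshMap (pshMapOf (BasedFunctor.comp Φ (AlgSt.ofOverCat U)))) (AlgSt.toOverCat U) ≅ Φ :=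
  BasedNatIso.mkNatIso
    (NatIso.ofComponents
      (fun x => (AlgSt.toOverCat U).toFunctor.mapIso (τ (BasedFunctor.comp Φ (AlgSt.ofOverCat U)) x))
      (fun {x x'} m => by
        have h := congrArg (fun k => (AlgSt.toOverCat U).toFunctor.map k)
          (τ_nat (BasedFunctor.comp Φ (AlgSt.ofOverCat U)) m)
        simp only [CategoryTheory.Functor.map_comp] at h
        exact h))
    (fun x => ((τ_vert (BasedFunctor.comp Φ (AlgSt.ofOverCat U)) x).map (AlgSt.toOverCat U)).lift
      ((BasedFunctor.comp (Stk.ofPshMap (pshMapOf (BasedFunctor.comp Φ (AlgSt.ofOverCat U))))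
        (AlgSt.toOverCat U)).w_obj x))

end Kappa

section DiagPsh

variable {F G F'' : AlgSp.PSp S} (ϖ : F ⟶ G) {fst snd : F'' ⟶ F} (sq : IsPullback fst snd ϖ ϖ)
  (δ : F ⟶ F'') (h1 : δ ≫ fst = 𝟙 _) (h2 : δ ≫ snd = 𝟙 _)

include h1 in
theorem app_fst (x : (Stk.ofPsh F).obj) :
    fst.app (op x.base) (δ.app (op x.base) x.sec) = x.sec :=
  congrArg (fun (m : F ⟶ F) => m.app (op x.base) x.sec) h1

include h2 in
theorem app_snd (x : (Stk.ofPsh F).obj) :
    snd.app (op x.base) (δ.app (op x.base) x.sec) = x.sec :=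
  congrArg (fun (m : F ⟶ F) => m.app (op x.base) x.sec) h2

/-- The comparison, objectwise. -/
def ιδ (x : (Stk.ofPsh F).obj) :
    (bridge sq).toFunctor.obj ((Stk.ofPshMap δ).toFunctor.obj x) ≅
      (diag (Stk.ofPshMap ϖ)).toFunctor.obj x :=
  mkIso (t := (bridge sq).toFunctor.obj ((Stk.ofPshMap δ).toFunctor.obj x))
    (t' := (diag (Stk.ofPshMap ϖ)).toFunctor.obj x)
    (isoOfEq (app_snd δ h2 x)) (isoOfEq (app_fst δ h1 x)) (by
      apply EltObj.hom_ext
      change 𝟙 x.base ≫ 𝟙 x.base = 𝟙 x.base ≫ 𝟙 x.base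
      rfl)

theorem ιδ_vert (x : (Stk.ofPsh F).obj) : Vert (ιδ ϖ sq δ h1 h2 x).hom := by
  rw [vert_hom_iff]
  exact isoOfEq_vert (app_snd δ h2 x)

/-- The functor of the diagonal map, followed by the bridge, is the diagonal functor. -/
def diagPshIso : BasedFunctor.comp (Stk.ofPshMap δ) (bridge sq) ≅
    BasedFunctor.comp (BasedFunctor.id _) (diag (Stk.ofPshMap ϖ)) :=
  BasedNatIso.mkNatIso
    (NatIso.ofComponents (fun x => ιδ ϖ sq δ h1 h2 x) (fun {x x'} m => by
      apply Groth.Agent.Lib.Helper27.StackFp.hom_ext'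
      · apply EltObj.hom_ext
        change m.hom ≫ 𝟙 _ = 𝟙 _ ≫ m.hom
        rw [Category.comp_id, Category.id_comp]
      · apply EltObj.hom_ext
        change m.hom ≫ 𝟙 _ = 𝟙 _ ≫ m.hom
        rw [Category.comp_id, Category.id_comp]))
    (fun x => (ιδ_vert ϖ sq δ h1 h2 x).lift
      ((BasedFunctor.comp (Stk.ofPshMap δ) (bridge sq)).w_obj x))

include sq h1 h2 in
/-- The functor of the diagonal map of presheaves has every property of the diagonal functor. -/
theorem repByAlgSpWith_ofPshMap_diag (P : MorphismProperty (AlgSp.Sp S))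
    (h : AlgSt.RepByAlgSpWith P (diag (Stk.ofPshMap ϖ))) :
    AlgSt.RepByAlgSpWith P (Stk.ofPshMap δ) :=
  Groth.Agent.Lib.Helper27.RepWithGeneral.repByAlgSpWith_of_equiv P (diag (Stk.ofPshMap ϖ))
    (Stk.ofPshMap δ) (BasedFunctor.id _) (bridge sq) (isEquivOver_id _) (isEquivOver_bridge sq)
    (diagPshIso ϖ sq δ h1 h2) h

end DiagPsh

end Groth.Agent.Lib.Helper27.DiagTransport
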