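import Groth.Agent.Lib.Helper27.Descent
import Groth.Agent.Lib.Helper27.DiagTransport
import Groth.Agent.Lib.Helper27.RepWithComp2
import Groth.Agent.Lib.Helper3.AlgSpQC4
import Groth.Agent.S10527
import Groth.Agent.S10530
import Groth.Agent.S9937

/-!
# Descent of properties along flat covers of the target (helper27)
-/

set_option autoImplicit false
set_option backward.isDefEq.respectTransparency false
set_option backward.isDefEq.respectTransparency.types false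

universe v₄ u₄ v₃ u₃ v₂ u₂ u

open CategoryTheory CategoryTheory.Limits AlgebraicGeometry Opposite FibCat
  Groth.Agent.Lib.Helper27.FpKit Groth.Agent.Lib.Helper27.PshKit Groth.Agent.Lib.Helper27.PshFp
  Groth.Agent.Lib.Helper27.PshRep Groth.Agent.Lib.Helper27.RepWithComp
  Groth.Agent.Lib.Helper27.BaseChangePres Groth.Agent.Lib.Helper27.Descent
  Groth.Agent.Lib.Helper27.DiagTransport

namespace Groth.Agent.Lib.Helper27.Descent

variable {S : Scheme.{u}}

open Stk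

section Whisker

variable {𝒜 : BasedCategory.{v₂, u₂} (Over S)} {ℬ : BasedCategory.{v₃, u₃} (Over S)}
  {𝒞 : BasedCategory.{v₄, u₄} (Over S)}

/-- Right whiskering of an isomorphism of functors over the base. -/
def whiskerRightIso {F G : 𝒜 ⥤ᵇ ℬ} (α : F ≅ G) (H : ℬ ⥤ᵇ 𝒞) :
    BasedFunctor.comp F H ≅ BasedFunctor.comp G H :=
  BasedNatIso.mkNatIso
    (Functor.isoWhiskerRight ((BasedNatTrans.forgetful _ _).mapIso α) H.toFunctor)
    (fun a => ((Vert.app α.hom a).map H).lift ((BasedFunctor.comp F H).w_obj a))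

/-- Left whiskering of an isomorphism of functors over the base. -/
def whiskerLeftIso (E : 𝒜 ⥤ᵇ ℬ) {F G : ℬ ⥤ᵇ 𝒞} (α : F ≅ G) :
    BasedFunctor.comp E F ≅ BasedFunctor.comp E G :=
  BasedNatIso.mkNatIso
    (Functor.isoWhiskerLeft E.toFunctor ((BasedNatTrans.forgetful _ _).mapIso α))
    (fun a => (Vert.app α.hom (E.toFunctor.obj a)).lift ((BasedFunctor.comp E F).w_obj a))

end Whisker

section Cover

variable {𝒲 𝒴 : AlgSt.Cat S}

theorem isSurjectiveMor_precomp_iso ⦃X X' Y : AlgSp.Sp S⦄ (i : X' ⟶ X) [IsIso i] (f : X ⟶ Y)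
    (_ : AlgSp.IsAlgSpace X) (_ : AlgSp.IsAlgSpace X') (_ : AlgSp.IsAlgSpace Y)
    (h : AlgSp.IsSurjectiveMor f) : AlgSp.IsSurjectiveMor (i ≫ f) :=
  Groth.Agent.Lib.Helper3.isSurjectiveMor_comp
    (Groth.Agent.Lib.Helper3.isSurjectiveMor_of_repWith
      (Groth.Agent.S9937.repWith_of_isIso @Surjective (fun g _ => inferInstance) i)) h

/-- A flat, locally finitely presented, surjective functor has, over every test scheme, a
presentation whose structure map is a one-member fppf cover. -/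
theorem exists_fppf_pres (w : 𝒲 ⥤ᵇ 𝒴)
    (hw₁ : AlgSt.RepByAlgSpWith (AlgSp.LocP @Flat) w)
    (hw₂ : AlgSt.RepByAlgSpWith (AlgSp.LocP @LocallyOfFinitePresentation) w)
    (hw₃ : AlgSt.RepByAlgSpWith AlgSp.IsSurjectiveMor w) {U : Over S} (y : overCat U ⥤ᵇ 𝒴) :
    ∃ (G : AlgSp.Space S) (eG : AlgSt.ofSp G.obj ⥤ᵇ fp y w), IsEquivOver eG ∧
      AlgSp.IsFppfCover (fun _ : PUnit.{u + 1} => G.obj)
        (fun _ => AlgSt.spMapOfOver (BasedFunctor.comp eG (fpFst y w))) := by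
  obtain ⟨G, eG, heG, h1⟩ := hw₁ U y
  obtain ⟨G₂, e₂, he₂, h2⟩ := hw₂ U y
  obtain ⟨G₃, e₃, he₃, h3⟩ := hw₃ U y
  refine ⟨G, eG, heG, fun _ => ⟨h1, ?_⟩, fun x => ⟨PUnit.unit, ?_⟩⟩
  · exact indep' _ (isLocalOnBase_fppf_of_fpqc _ (Groth.Agent.S10527.result S)) G.property
      G₂.property eG e₂ heG he₂ (fpFst y w) h2
  · exact indep_gen _ isSurjectiveMor_precomp_iso G.property G₃.property eG e₃ heG he₃
      (fpFst y w) h3 x

end Cover

end Groth.Agent.Lib.Helper27.Descent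

namespace Groth.Agent.Lib.Helper27.Descent

variable {S : Scheme.{u}}

open Stk

section Main

variable {𝒳 𝒴 𝒲 : AlgSt.Cat S}

/-- Descent along a flat, locally finitely presented, surjective functor: a property which is
fppf local on the base holds for `f` as soon as it holds for the base changes of `f` along all
composites `ofSp G ⟶ 𝒲 ⟶ 𝒴` with `G` an algebraic space. -/
theorem descent_cover (P : MorphismProperty (AlgSp.Sp S))
    (hP : AlgSp.IsLocalOnBase AlgSp.IsFppfCover P) (f : 𝒳 ⥤ᵇ 𝒴) (hf : AlgSt.RepByAlgSp1 f)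
    (w : 𝒲 ⥤ᵇ 𝒴) (hw₁ : AlgSt.RepByAlgSpWith (AlgSp.LocP @Flat) w)
    (hw₂ : AlgSt.RepByAlgSpWith (AlgSp.LocP @LocallyOfFinitePresentation) w)
    (hw₃ : AlgSt.RepByAlgSpWith AlgSp.IsSurjectiveMor w)
    (H : ∀ (G : AlgSp.Space S) (g : AlgSt.ofSp G.obj ⥤ᵇ 𝒲),
      ∃ (X'' : AlgSp.Space S) (e'' : AlgSt.ofSp X''.obj ⥤ᵇ fp (BasedFunctor.comp g w) f),
        IsEquivOver e'' ∧ P (ObjectProperty.homMk (pshMapOf (BasedFunctor.comp e''
          (fpFst (BasedFunctor.comp g w) f))) : X''.obj ⟶ G.obj)) :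
    AlgSt.RepByAlgSpWith P f := by
  intro U y
  obtain ⟨F, e, he⟩ := hf U y
  refine ⟨F, e, he, ?_⟩
  obtain ⟨G, eG, heG, hcov⟩ := exists_fppf_pres w hw₁ hw₂ hw₃ y
  obtain ⟨Φ, hΦ⟩ : ∃ Φ : AlgSt.ofSp G.obj ⥤ᵇ overCat U, Φ = BasedFunctor.comp eG (fpFst y w) :=
    ⟨_, rfl⟩
  obtain ⟨c, hc⟩ : ∃ c : G.obj ⟶ (AlgSp.yon S).obj U,
    c = ObjectProperty.homMk (pshMapOf (BasedFunctor.comp Φ (AlgSt.ofOverCat U))) := ⟨_, rfl⟩
  have hc' : AlgSt.spMapOfOver Φ = c := by
    rw [hc]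
    apply ObjectProperty.hom_ext
    exact spMapOfOver_eq Φ
  rw [← hΦ, hc'] at hcov
  obtain ⟨X'', e'', he'', hP''⟩ := H G (BasedFunctor.comp eG (fpSnd y w))
  have κ : BasedFunctor.comp (BasedFunctor.comp eG (fpSnd y w)) w ≅
      BasedFunctor.comp (AlgSt.ofSpMap c) (BasedFunctor.comp (AlgSt.toOverCat U) y) := by
    have k1 : BasedFunctor.comp (BasedFunctor.comp eG (fpSnd y w)) w ≅
        BasedFunctor.comp (BasedFunctor.comp eG (fpFst y w)) y :=
      whiskerLeftIso eG (fpIso y w).symm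
    have k2 : BasedFunctor.comp Φ y ≅
        BasedFunctor.comp (BasedFunctor.comp
          (Stk.ofPshMap (pshMapOf (BasedFunctor.comp Φ (AlgSt.ofOverCat U))))
          (AlgSt.toOverCat U)) y :=
      whiskerRightIso (κΦ Φ).symm y
    rw [hΦ] at k2
    rw [hc, hΦ]
    exact k1 ≪≫ k2
  exact descent_over P hP f y F e he G c hcov _ κ X'' e'' he'' hP''

end Main

end Groth.Agent.Lib.Helper27.Descent
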