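import Groth.Agent.Lib.Helper27.LocQComp
import Groth.Agent.Lib.Helper27.Descent2
import Groth.Agent.Lib.Helper27.Descent3

/-!
# Functors to a slice with one good presentation (helper27)
-/

set_option autoImplicit false
set_option backward.isDefEq.respectTransparency false
set_option backward.isDefEq.respectTransparency.types false

universe u

open CategoryTheory CategoryTheory.Limits AlgebraicGeometry Opposite FibCat
  Groth.Agent.Lib.Helper27.FpKit Groth.Agent.Lib.Helper27.PshKit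
  Groth.Agent.Lib.Helper27.PshRep Groth.Agent.Lib.Helper27.RepWithComp
  Groth.Agent.Lib.Helper27.Descent

namespace Groth.Agent.Lib.Helper27.RepChart

variable {S : Scheme.{u}}

/-- The composite `(Sch/V) ⟶ ofSp h_V ⟶ (Sch/V)` is the identity up to isomorphism. -/
def ofToIso (V : Over S) :
    BasedFunctor.comp (AlgSt.ofOverCat V) (AlgSt.toOverCat V) ≅ BasedFunctor.id (overCat V) :=
  BasedNatIso.mkNatIso
    (NatIso.ofComponents (fun _ => Iso.refl _)
      (fun _ => (Category.comp_id _).trans (Category.id_comp _).symm))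
    (fun t => (Vert.id _).lift (BasedFunctor.w_obj _ t))

/-- Every functor from the category of an algebraic space to a slice is the functor of its
structure map. -/
def structIso {F : AlgSp.Sp S} {V : Over S} (Ψ : AlgSt.ofSp F ⥤ᵇ overCat V) :
    BasedFunctor.comp (AlgSt.ofSpMap (AlgSt.spMapOfOver Ψ)) (AlgSt.toOverCat V) ≅ Ψ :=
  eqToIso (by
    change BasedFunctor.comp (Stk.ofPshMap (AlgSt.spMapOfOver Ψ).hom) (AlgSt.toOverCat V) = _
    rw [spMapOfOver_eq]) ≪≫
  whiskerRightIso (τIso (BasedFunctor.comp Ψ (AlgSt.ofOverCat V))) (AlgSt.toOverCat V) ≪≫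
  whiskerLeftIso Ψ (ofToIso V)

/-- A functor to a slice with one presentation having a base change stable property has that
property. -/
theorem repByAlgSpWith_of_struct (R : MorphismProperty (AlgSp.Sp S))
    (hRb : ∀ ⦃X₁ Y₁ X₂ Y₂ : AlgSp.Sp S⦄, AlgSp.IsAlgSpace X₁ → AlgSp.IsAlgSpace Y₁ →
      AlgSp.IsAlgSpace X₂ → AlgSp.IsAlgSpace Y₂ → ∀ (a : X₁ ⟶ Y₁) (b : Y₂ ⟶ Y₁) (a' : X₂ ⟶ Y₂)
      (b' : X₂ ⟶ X₁), IsPullback b' a' a b → R a → R a')
    {𝒲 : AlgSt.Cat S} {V : Over S} (Φ : 𝒲 ⥤ᵇ overCat V) (F : AlgSp.Space S)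
    (e : AlgSt.ofSp F.obj ⥤ᵇ 𝒲) (he : IsEquivOver e)
    (h : R (AlgSt.spMapOfOver (BasedFunctor.comp e Φ))) : AlgSt.RepByAlgSpWith R Φ :=
  Groth.Agent.Lib.Helper27.RepWithGeneral.repByAlgSpWith_of_equiv' R Φ
    (AlgSt.ofSpMap (AlgSt.spMapOfOver (BasedFunctor.comp e Φ))) e (AlgSt.toOverCat V) he
    (isEquivOver_toOverCat V) (structIso (BasedFunctor.comp e Φ))
    (Groth.Agent.Lib.Helper27.LocQComp.repByAlgSpWith_ofSpMap_of_stable R hRb F.property
      (AlgSp.IsAlgSpace.yon_obj V) _ h)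

end Groth.Agent.Lib.Helper27.RepChart
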