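/-
# Local essential surjectivity from fppf covers; monomorphisms to stacks with a field point (helper27)
-/
import Groth.Agent.Lib.Helper27.FieldPt2
import Groth.Agent.Lib.Helper27.FppfLift
import Groth.Agent.Lib.Helper27.MonoFF
import Groth.Agent.Lib.Helper27.MonoFull
import Groth.Agent.Lib.Helper27.GerbAux
import Groth.Agent.Lib.Helper27.StackEquiv
import Groth.Agent.Lib.Helper27.RepChart
import Groth.Agent.Lib.Helper27.SectionDiag
import Groth.Agent.Lib.Helper27.LocQRep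
import Groth.Agent.Lib.Helper3.AlgSpMonoField

set_option autoImplicit false
set_option backward.isDefEq.respectTransparency false
set_option backward.isDefEq.respectTransparency.types false

universe v₂ u₂ v₃ u₃ v₄ u₄ v u

open CategoryTheory CategoryTheory.Limits AlgebraicGeometry Opposite FibCat
  Groth.Agent.Lib.Helper27.FpKit

namespace Groth.Agent.Lib.Helper27.GerbLoc

section Site

variable {C : Type u} [Category.{v} C] (J : GrothendieckTopology C)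
  {𝒳 : BasedCategory.{v₂, u₂} C} {𝒴 : BasedCategory.{v₃, u₃} C} {𝒵 : BasedCategory.{v₄, u₄} C}

theorem isHomLift_vert_comp {a b c : 𝒴.obj} {φ : a ⟶ b} (hφ : Vert φ) {V U : C} (f : V ⟶ U)
    (g : b ⟶ c) (hg : 𝒴.p.IsHomLift f g) : 𝒴.p.IsHomLift f (φ ≫ g) := by
  have hV : 𝒴.p.obj b = V := IsHomLift.domain_eq 𝒴.p f g
  subst hV
  have h1 : 𝒴.p.IsHomLift (𝟙 (𝒴.p.obj b)) φ := hφ.lift' rfl
  have h2 : 𝒴.p.IsHomLift (𝟙 (𝒴.p.obj b) ≫ f) (φ ≫ g) := IsHomLift.comp 𝒴.p _ f φ g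
  rwa [Category.id_comp] at h2

theorem locSurjObj_of_iso {F G : 𝒳 ⥤ᵇ 𝒴} (e : F ≅ G) (hF : Gerb.LocSurjObj J F) :
    Gerb.LocSurjObj J G := by
  intro y
  obtain ⟨R, hR, h⟩ := hF y
  refine ⟨R, hR, fun V f hf => ?_⟩
  obtain ⟨x, g, hg⟩ := h f hf
  exact ⟨x, e.inv.toNatTrans.app x ≫ g, isHomLift_vert_comp (Vert.app e.inv x) f g hg⟩

theorem locSurjObj_of_comp (F : 𝒳 ⥤ᵇ 𝒴) (G : 𝒴 ⥤ᵇ 𝒵)
    (h : Gerb.LocSurjObj J (BasedFunctor.comp F G)) : Gerb.LocSurjObj J G := by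
  intro y
  obtain ⟨R, hR, h⟩ := h y
  refine ⟨R, hR, fun V f hf => ?_⟩
  obtain ⟨x, g, hg⟩ := h f hf
  exact ⟨F.obj x, g, hg⟩

/-- If `z' ⋙ f ≅ z` and `z` is locally essentially surjective then so is `f`. -/
theorem locSurjObj_of_factor (f : 𝒴 ⥤ᵇ 𝒵) (z : 𝒳 ⥤ᵇ 𝒵) (z' : 𝒳 ⥤ᵇ 𝒴)
    (e : BasedFunctor.comp z' f ≅ z) (hz : Gerb.LocSurjObj J z) : Gerb.LocSurjObj J f :=
  locSurjObj_of_comp J z' f (locSurjObj_of_iso J e.symm hz)

end Site

variable {S : Scheme.{u}}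

theorem generate_singleton_mem_J {A T : Over S} (h : A ⟶ T) (h1 : Flat h.left)
    (h2 : LocallyOfFinitePresentation h.left) (h3 : Function.Surjective h.left) :
    Sieve.generate (Presieve.singleton h) ∈ AlgSp.J S T := by
  rw [GrothendieckTopology.mem_over_iff]
  have hmem : Sieve.generate (Presieve.singleton h.left) ∈ Scheme.fppfTopology T.left := by
    apply Precoverage.generate_mem_toGrothendieck
    rw [Scheme.fppfPrecoverage, Scheme.singleton_mem_precoverage_iff]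
    exact ⟨h3, h1, h2⟩
  refine GrothendieckTopology.superset_covering _ ?_ hmem
  rintro Y g ⟨Z, g', _, ⟨⟩, rfl⟩
  rw [Sieve.overEquiv_iff]
  exact ⟨A, Over.homMk g' (by simp), h, Presieve.singleton.mk, by ext; simp⟩

/-- A flat, locally finitely presented, surjective functor between categories fibred in groupoids
is locally essentially surjective for the fppf topology. -/
theorem locSurjObj_of_fppf {𝒵 𝒴 : AlgSt.Cat S} (h𝒵 : FibCat.IsFibGrpd 𝒵.p)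
    (h𝒴 : FibCat.IsFibGrpd 𝒴.p) (z : 𝒵 ⥤ᵇ 𝒴)
    (hz₁ : AlgSt.LocQ (AlgSp.LocP @Flat) z)
    (hz₂ : AlgSt.LocQ (AlgSp.LocP @LocallyOfFinitePresentation) z)
    (hz₃ : AlgSt.IsSurjective z) : Gerb.LocSurjObj (AlgSp.J S) z := by
  intro η
  obtain ⟨y, ι, hι⟩ := Groth.Agent.Lib.Helper27.MonoFF.exists_yoneda h𝒴 η rfl
  obtain ⟨A, h, l, h1, h2, h3, ⟨κ⟩⟩ :=
    Groth.Agent.Lib.Helper27.FppfLift.exists_fppf_lift h𝒵 h𝒴 z hz₁ hz₂ hz₃ y
  refine ⟨Sieve.generate (Presieve.singleton h), generate_singleton_mem_J h h1 h2 h3, ?_⟩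
  rintro V f ⟨W, g, h', ⟨⟩, rfl⟩
  let t : Over.mk (g ≫ h) ⟶ Over.mk (𝟙 (𝒴.p.obj η)) := Over.homMk (g ≫ h)
  have ht0 : (overCat (𝒴.p.obj η)).p.IsHomLift (g ≫ h) t := by
    have := IsHomLift.map (overCat (𝒴.p.obj η)).p t
    exact this
  have ht : 𝒴.p.IsHomLift (g ≫ h) (y.toFunctor.map t) :=
    BasedFunctor.preserves_isHomLift y (g ≫ h) t
  refine ⟨l.obj (Over.mk g), κ.hom.toNatTrans.app (Over.mk g) ≫ y.toFunctor.map t ≫ ι.hom, ?_⟩
  apply isHomLift_vert_comp (Vert.app κ.hom _)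
  have h6 : 𝒴.p.IsHomLift (𝟙 (𝒴.p.obj η)) ι.hom := hι.lift' rfl
  have h5 : 𝒴.p.IsHomLift ((g ≫ h) ≫ 𝟙 _) (y.toFunctor.map t ≫ ι.hom) :=
    IsHomLift.comp 𝒴.p (g ≫ h) (𝟙 _) _ _
  rwa [Category.comp_id] at h5

section TwoOfThree

variable {C : Type u} [Category.{v} C]
  {𝒳 : BasedCategory.{v₂, u₂} C} {𝒴 : BasedCategory.{v₃, u₃} C} {𝒵 : BasedCategory.{v₄, u₄} C}

def whiskerRightIso {F G : 𝒳 ⥤ᵇ 𝒴} (α : F ≅ G) (H : 𝒴 ⥤ᵇ 𝒵) :
    BasedFunctor.comp F H ≅ BasedFunctor.comp G H :=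
  BasedNatIso.mkNatIso (Functor.isoWhiskerRight ((BasedNatTrans.forgetful _ _).mapIso α) H.toFunctor)
    (fun t => ((Vert.app α.hom t).map H).lift (BasedFunctor.w_obj (BasedFunctor.comp F H) t))

def whiskerLeftIso (L : 𝒳 ⥤ᵇ 𝒴) {F G : 𝒴 ⥤ᵇ 𝒵} (α : F ≅ G) :
    BasedFunctor.comp L F ≅ BasedFunctor.comp L G :=
  BasedNatIso.mkNatIso (Functor.isoWhiskerLeft L.toFunctor ((BasedNatTrans.forgetful _ _).mapIso α))
    (fun t => (Vert.app α.hom (L.toFunctor.obj t)).lift (BasedFunctor.w_obj (BasedFunctor.comp L F) t))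

theorem isEquivOver_of_comp_left (E₁ : 𝒳 ⥤ᵇ 𝒴) (E₂ : 𝒴 ⥤ᵇ 𝒵) (h₁ : IsEquivOver E₁)
    (h₁₂ : IsEquivOver (BasedFunctor.comp E₁ E₂)) : IsEquivOver E₂ := by
  obtain ⟨G, hG, ⟨i1⟩, ⟨i2⟩⟩ := exists_inverse E₁ h₁
  have i3 : BasedFunctor.comp G (BasedFunctor.comp E₁ E₂) ≅ E₂ :=
    whiskerRightIso i2 E₂
  exact Groth.Agent.Lib.Helper27.SectionDiag.isEquivOver_of_iso i3.symm
    (isEquivOver_comp G _ hG h₁₂)

/-- If the base change of `f` along `z` is an equivalence then `z` lifts through `f`. -/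
theorem exists_lift_of_isEquivOver_fpFst (z : 𝒳 ⥤ᵇ 𝒵) (f : 𝒴 ⥤ᵇ 𝒵)
    (h : IsEquivOver (fpFst z f)) : ∃ z' : 𝒳 ⥤ᵇ 𝒴, Nonempty (BasedFunctor.comp z' f ≅ z) := by
  obtain ⟨E, ⟨e1⟩, ⟨e2⟩⟩ := h
  refine ⟨BasedFunctor.comp E (fpSnd z f), ⟨?_⟩⟩
  have i1 : BasedFunctor.comp E (BasedFunctor.comp (fpSnd z f) f) ≅
      BasedFunctor.comp E (BasedFunctor.comp (fpFst z f) z) :=
    whiskerLeftIso E (fpIso z f).symm
  have i2 : BasedFunctor.comp (BasedFunctor.comp E (fpFst z f)) z ≅ z :=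
    whiskerRightIso e2 z
  exact i1 ≪≫ i2

end TwoOfThree

theorem isEquivOver_of_isIso_spMapOfOver {F : AlgSp.Sp S} {U : Over S}
    (Φ : AlgSt.ofSp F ⥤ᵇ overCat U) (h : IsIso (AlgSt.spMapOfOver Φ)) : IsEquivOver Φ := by
  have h1 : IsIso (AlgSt.spMapOfOver Φ).hom :=
    (inferInstance : IsIso ((sheafToPresheaf (AlgSp.J S) (Type (u + 1))).map (AlgSt.spMapOfOver Φ)))
  have h2 : IsEquivOver (AlgSt.ofSpMap (AlgSt.spMapOfOver Φ)) :=
    Groth.Agent.Lib.Helper27.LocQChart.isEquivOver_ofPshMap_of_isIso (AlgSt.spMapOfOver Φ).hom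
  exact Groth.Agent.Lib.Helper27.SectionDiag.isEquivOver_of_iso
    (Groth.Agent.Lib.Helper27.RepChart.structIso Φ).symm
    (isEquivOver_comp _ _ h2 (Groth.Agent.Lib.Helper27.PshRep.isEquivOver_toOverCat U))

open Groth.Agent.Lib.Helper27.StPoints in
/-- A monomorphism of algebraic stacks from a nonempty stack to a stack with a flat, locally finitely
presented, surjective field point is an equivalence. -/
theorem isEquivOver_of_isMono_of_fieldPt {𝒵' 𝒵 : AlgSt.Cat S}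
    (h𝒵' : AlgSt.IsAlgStack Scheme.fppfPrecoverage 𝒵')
    (h𝒵 : AlgSt.IsAlgStack Scheme.fppfPrecoverage 𝒵) (f : 𝒵' ⥤ᵇ 𝒵) (hf : AlgSt.IsMono f)
    (k : Type u) [Field k] (a : Spec (CommRingCat.of k) ⟶ S)
    (z : FibCat.overCat (Over.mk a) ⥤ᵇ 𝒵)
    (hzp : AlgSt.RepByAlgSpWith (AlgSp.LocP @LocallyOfFinitePresentation) z)
    (hzs : AlgSt.RepByAlgSpWith AlgSp.IsSurjectiveMor z)
    (hzf : AlgSt.RepByAlgSpWith (AlgSp.LocP @Flat) z) (hne : Nonempty (AlgSt.Points 𝒵')) :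
    FibCat.IsEquivOver f := by
  have hgV : FibCat.IsFibGrpd (overCat (Over.mk a)).p :=
    Groth.Agent.Lib.Helper27.ReprAux.isFibGrpd_overCat _
  have : Subsingleton (Over.mk a).left := inferInstanceAs (Subsingleton (PrimeSpectrum k))
  have : Nonempty (Over.mk a).left := inferInstanceAs (Nonempty (PrimeSpectrum k))
  have hsub : Subsingleton (AlgSt.Points 𝒵) :=
    Groth.Agent.Lib.Helper27.FieldPt.subsingleton_points_of_fieldPt h𝒵 (Over.mk a) z hzs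
  obtain ⟨F, e, he, hm⟩ := hf (Over.mk a) z
  obtain ⟨ζ⟩ := hne
  obtain ⟨pt⟩ : Nonempty (Over.mk a).left := inferInstance
  obtain ⟨w, -, -⟩ := exists_points_fp h𝒵'.isStack.1 h𝒵.isStack.1 hgV f z
    (ptOf (Over.mk a) pt) ζ (Subsingleton.elim _ _)
  obtain ⟨w', -⟩ := map_surjective_of_equiv e he w
  obtain ⟨w'', -⟩ := toSt_surjective F.obj w'
  have hmono : Mono (AlgSt.spMapOfOver (BasedFunctor.comp e (fpFst z f))) := hm
  have hiso := Groth.Agent.Lib.Helper3.isIso_of_mono_to_field F.property a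
    (AlgSt.spMapOfOver (BasedFunctor.comp e (fpFst z f))) ⟨w''⟩
  have hE : IsEquivOver (BasedFunctor.comp e (fpFst z f)) :=
    isEquivOver_of_isIso_spMapOfOver _ hiso
  have hE' : IsEquivOver (fpFst z f) := isEquivOver_of_comp_left e _ he hE
  obtain ⟨z', ⟨κ⟩⟩ := exists_lift_of_isEquivOver_fpFst z f hE'
  obtain ⟨W, y, hy₁, hy₂⟩ := h𝒵.atlas
  have hzL₁ : AlgSt.LocQ (AlgSp.LocP @Flat) z :=
    Groth.Agent.Lib.Helper27.LocQRep.locQ_of_repByAlgSpWith _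
      Groth.Agent.Lib.Helper27.SmLocP.isSmoothLocalST_locP_flat z y hy₁ hy₂ hzf
  have hzL₂ : AlgSt.LocQ (AlgSp.LocP @LocallyOfFinitePresentation) z :=
    Groth.Agent.Lib.Helper27.LocQRep.locQ_of_repByAlgSpWith _
      Groth.Agent.Lib.Helper27.SmLocP.isSmoothLocalST_locP_lfp z y hy₁ hy₂ hzp
  have hzS : AlgSt.IsSurjective z := isSurjective_of_rep hgV h𝒵.isStack.1 z hzs
  have hz : Gerb.LocSurjObj (AlgSp.J S) z :=
    locSurjObj_of_fppf hgV h𝒵.isStack.1 z hzL₁ hzL₂ hzS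
  have hloc : Gerb.LocSurjObj (AlgSp.J S) f := locSurjObj_of_factor _ f z z' κ hz
  obtain ⟨hfull, hfaith⟩ :=
    Groth.Agent.Lib.Helper27.MonoFull.full_faithful_of_isMono h𝒵'.isStack.1 h𝒵.isStack.1 f hf
  exact (Groth.Agent.Lib.Helper27.StackEquiv.isEquivOver_iff_locSurjObj (AlgSp.J S)
    h𝒵'.isStack h𝒵.isStack f).2 hloc

end Groth.Agent.Lib.Helper27.GerbLoc
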