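import Groth.Agent.Lib.Helper27.CtrNerve
import Groth.Prelude.Def_AlgSt
import Groth.Prelude.Def_FibCat2
import Groth.Agent.Lib.Helper16.FpFibGrpd
import Mathlib.CategoryTheory.Comma.StructuredArrow.Basic

/-!
# Sections of a category fibred in groupoids over a diagram: cones (helper27)
-/

set_option autoImplicit false
set_option backward.isDefEq.respectTransparency false
set_option backward.isDefEq.respectTransparency.types false

universe w v₁ u₁ v₂ u₂ v₃ u₃

open CategoryTheory Functor Groth.Agent.Lib.Helper16.FpFibGrpd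

namespace Groth.Agent.Lib.Helper27.SecRestr

variable {C : Type u₁} [Category.{v₁} C] {D : Type u₂} [Category.{v₂} D]
  {F : Type u₃} [Category.{v₃} F] (φ : C ⥤ D) (p : F ⥤ D)

section Basic

variable {p} (hp : FibCat.IsFibGrpd p)

include hp in
theorem existsUnique_lift {a' a b : F} {R' R S : D} (g : R' ⟶ R) (f : R ⟶ S) (ψ : a ⟶ b)
    (hψ : p.IsHomLift f ψ) (ψ' : a' ⟶ b) (hψ' : p.IsHomLift (g ≫ f) ψ') :
    ∃! χ : a' ⟶ a, p.IsHomLift g χ ∧ χ ≫ ψ = ψ' := by
  have := FibGrpd.isStronglyCartesian p hp f ψ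
  exact IsStronglyCartesian.universal_property p f ψ g (g ≫ f) rfl ψ'

include hp in
theorem cancel_lift {a' a b : F} {R' R S : D} (g : R' ⟶ R) (f : R ⟶ S) (ψ : a ⟶ b)
    (hψ : p.IsHomLift f ψ) (χ χ' : a' ⟶ a) (hχ : p.IsHomLift g χ) (hχ' : p.IsHomLift g χ')
    (h : χ ≫ ψ = χ' ≫ ψ) : χ = χ' := by
  have := FibGrpd.isStronglyCartesian p hp f ψ
  exact IsStronglyCartesian.ext p f ψ g h

/-- The fibres of a category fibred in groupoids are groupoids. -/
@[instance_reducible]
noncomputable def fiberGroupoid (Y : D) : Groupoid (p.Fiber Y) :=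
  Groupoid.ofIsIso (fun {a b} f => by
    have h1 : p.IsHomLift (𝟙 Y) f.1 := f.2
    have h : IsIso f.1 := FibGrpd.isIso_of_base_isIso p hp (𝟙 Y) f.1
    have h2 : p.IsHomLift (𝟙 Y) (inv f.1) := inferInstance
    refine ⟨⟨⟨inv f.1, h2⟩, ?_, ?_⟩⟩
    · apply Functor.Fiber.hom_ext
      exact IsIso.hom_inv_id f.1
    · apply Functor.Fiber.hom_ext
      exact IsIso.inv_hom_id f.1)

end Basic

end Groth.Agent.Lib.Helper27.SecRestr
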