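import Groth.Prelude.Def_StCoarse
import Groth.Prelude.Def_StGerb
import Groth.Agent.Lib.Helper27.GerbIsoCl
import Groth.Agent.Lib.Helper27.GerbLoc
import Groth.Agent.Lib.Helper27.DiagSurj
import Groth.Agent.Lib.Helper27.DescentFam
import Groth.Agent.Lib.Helper27.SecRestrA

/-!
# Coarse moduli spaces and gerbes (helper27)
-/

set_option autoImplicit false
set_option backward.isDefEq.respectTransparency false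
set_option backward.isDefEq.respectTransparency.types false

universe u

open CategoryTheory CategoryTheory.Limits AlgebraicGeometry Opposite FibCat
  Groth.Agent.Lib.Helper27.FpKit Groth.Agent.Lib.Helper16.FpFibGrpd

namespace Groth.Agent.Lib.Helper27.GerbCoarse

variable {S : Scheme.{u}}

local infixr:80 " ⊚ " => BasedFunctor.comp

/-- Every fppf covering sieve of the spectrum of an algebraically closed field is the maximal sieve. -/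
theorem id_mem_of_algClosed (Ω : Type u) [Field Ω] [IsAlgClosed Ω]
    (t : Spec (CommRingCat.of Ω) ⟶ S) (R : Sieve (Over.mk t))
    (hR : R ∈ QuotSh.J Scheme.fppfPrecoverage S (Over.mk t)) : R (𝟙 (Over.mk t)) := by
  have hne : Nonempty ↥(Spec (CommRingCat.of Ω)) := inferInstance
  obtain ⟨pt⟩ := hne
  obtain ⟨T', g, hRg, -, hlfp, ⟨t', -⟩⟩ :=
    Groth.Agent.Lib.Helper27.DescentFam.exists_fppf_mem_sieve R hR pt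
  have : Nonempty ↥T'.left := ⟨t'⟩
  have hg : LocallyOfFiniteType g.left := inferInstance
  obtain ⟨σ, hσ⟩ := Groth.Agent.Lib.Helper27.DiagSurj.exists_section_of_algClosed (k := Ω) g.left
  have hσs : σ ≫ T'.hom = t := by
    have h2 : g.left ≫ t = T'.hom := Over.w g
    rw [← h2, ← Category.assoc, hσ, Category.id_comp]
  let σ' : Over.mk t ⟶ T' := Over.homMk σ hσs
  have hσ' : σ' ≫ g = 𝟙 (Over.mk t) := by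
    apply Over.OverMorphism.ext
    exact hσ
  rw [← hσ']
  exact R.downward_closed hRg σ'

section Fib

variable {𝒳 𝒴 : AlgSt.Cat S} {M : AlgSp.Sp S}

theorem fibSec_eq (π : 𝒳 ⥤ᵇ AlgSt.ofSp M) {T : Over S} (x : 𝒳.p.Fiber T) :
    AlgSt.fibSec π x = GerbIsoCl.sec π x.1 x.2 := rfl

/-- Objects connected by a morphism over the identity have the same section. -/
theorem fibSec_eq_of_hom (π : 𝒳 ⥤ᵇ AlgSt.ofSp M) {T : Over S} (x y : 𝒳.p.Fiber T)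
    (ψ : x.1 ⟶ y.1) (hψ : 𝒳.p.IsHomLift (𝟙 T) ψ) : AlgSt.fibSec π x = AlgSt.fibSec π y := by
  have := GerbIsoCl.sec_of_hom π ψ (𝟙 T) hψ x.2 y.2
  rw [fibSec_eq, fibSec_eq, this]
  simp

/-- The image of an object of the fibre. -/
def mapFib (F : 𝒳 ⥤ᵇ 𝒴) {T : Over S} (x : 𝒳.p.Fiber T) : 𝒴.p.Fiber T :=
  ⟨F.obj x.1, (F.w_obj x.1).trans x.2⟩

theorem fibSec_comp (F : 𝒳 ⥤ᵇ 𝒴) (π : 𝒴 ⥤ᵇ AlgSt.ofSp M) {T : Over S} (x : 𝒳.p.Fiber T) :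
    AlgSt.fibSec (F ⊚ π) x = AlgSt.fibSec π (mapFib F x) := rfl

/-- Isomorphic functors to a sheaf give the same sections. -/
theorem fibSec_eq_of_iso {φ φ' : 𝒳 ⥤ᵇ AlgSt.ofSp M} (α : φ ≅ φ') {T : Over S} (x : 𝒳.p.Fiber T) :
    AlgSt.fibSec φ x = AlgSt.fibSec φ' x := by
  obtain ⟨x, hx⟩ := x
  subst hx
  have h1 : (AlgSt.ofSp M).p.IsHomLift (𝟙 (𝒳.p.obj x)) (α.hom.app x) := α.hom.isHomLift' x
  have h2 := IsHomLift.fac' (AlgSt.ofSp M).p (𝟙 (𝒳.p.obj x)) (α.hom.app x)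
  have h3 := (α.hom.app x).map_sec
  unfold AlgSt.fibSec
  rw [← h3]
  have h4 : eqToHom ((φ.w_obj x).trans rfl).symm ≫ (α.hom.app x).hom =
      eqToHom ((φ'.w_obj x).trans rfl).symm := by
    change _ ≫ (AlgSt.ofSp M).p.map (α.hom.app x) = _
    rw [h2]
    simp
  have h5 := congrArg (fun g => M.obj.map g.op (φ'.obj x).sec) h4
  simp only [op_comp, Functor.map_comp] at h5
  exact h5

end Fib

section Gerbe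

variable {𝒳 𝒴 : AlgSt.Cat S} (F : 𝒳 ⥤ᵇ 𝒴) (Ω : Type u) [Field Ω] [IsAlgClosed Ω]
  (t : Spec (CommRingCat.of Ω) ⟶ S)

theorem exists_lift_obj (hF : Gerb.LocSurjObj (QuotSh.J Scheme.fppfPrecoverage S) F)
    (y : 𝒴.p.Fiber (Over.mk t)) :
    ∃ (x : 𝒳.p.Fiber (Over.mk t)) (g : F.obj x.1 ⟶ y.1), 𝒴.p.IsHomLift (𝟙 (Over.mk t)) g := by
  obtain ⟨R, hR, h⟩ := GerbAux.LocSurjObj.exists' _ hF y.1 y.2
  obtain ⟨x, g, hg⟩ := h (𝟙 _) (id_mem_of_algClosed Ω t R hR)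
  have hx : 𝒳.p.obj x = Over.mk t := by
    rw [← F.w_obj]; exact IsHomLift.domain_eq 𝒴.p (𝟙 _) g
  exact ⟨⟨x, hx⟩, g, hg⟩

theorem nonempty_iso_of_hom (h𝒳 : FibCat.IsFibGrpd 𝒳.p)
    (hF : Gerb.LocSurjHom (QuotSh.J Scheme.fppfPrecoverage S) F)
    (x x' : 𝒳.p.Fiber (Over.mk t)) (b : F.obj x.1 ⟶ F.obj x'.1)
    (hb : 𝒴.p.IsHomLift (𝟙 (Over.mk t)) b) : Nonempty (x ≅ x') := by
  obtain ⟨R, hR, h⟩ := GerbAux.LocSurjHom.exists' _ hF x.1 x'.1 b x.2 hb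
  obtain ⟨x₀, φ, ψ, hφ, hψ, -⟩ := h (𝟙 _) (id_mem_of_algClosed Ω t R hR)
  have h₀ : 𝒳.p.obj x₀ = Over.mk t := IsHomLift.domain_eq 𝒳.p (𝟙 _) φ
  letI := Groth.Agent.Lib.Helper27.SecRestr.fiberGroupoid h𝒳 (Over.mk t)
  let z₀ : 𝒳.p.Fiber (Over.mk t) := ⟨x₀, h₀⟩
  let φ' : z₀ ⟶ x := ⟨φ, hφ⟩
  let ψ' : z₀ ⟶ x' := ⟨ψ, hψ⟩
  exact ⟨(Groupoid.isoEquivHom _ _).symm (Groupoid.inv φ' ≫ ψ')⟩

end Gerbe

section Main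

open Groth.Agent.Lib.Helper27.GerbLoc

variable {𝒳 𝒴 : AlgSt.Cat S} (F : 𝒳 ⥤ᵇ 𝒴)

/-- The universal factorisation hypothesis. -/
def Univ (F : 𝒳 ⥤ᵇ 𝒴) : Prop :=
  ∀ (N : AlgSp.Sp S), AlgSp.IsAlgSpace N → ∀ φ : 𝒳 ⥤ᵇ AlgSt.ofSp N,
      ∃ ψ : 𝒴 ⥤ᵇ AlgSt.ofSp N, Nonempty (BasedFunctor.comp F ψ ≅ φ) ∧
        ∀ ψ' : 𝒴 ⥤ᵇ AlgSt.ofSp N, Nonempty (BasedFunctor.comp F ψ' ≅ φ) → Nonempty (ψ' ≅ ψ)

theorem isCoarseModuli_comp (h𝒳 : FibCat.IsFibGrpd 𝒳.p)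
    (hF : Gerb.IsGerbeOver (QuotSh.J Scheme.fppfPrecoverage S) F) (huniv : Univ F)
    (M : AlgSp.Sp S) (π : 𝒴 ⥤ᵇ AlgSt.ofSp M) (hπ : AlgSt.IsCoarseModuli π) :
    AlgSt.IsCoarseModuli (BasedFunctor.comp F π) := by
  refine ⟨⟨hπ.1.1, fun N hN φ => ?_⟩, fun Ω _ _ t => ⟨fun m => ?_, fun x x' h => ?_⟩⟩
  · obtain ⟨ψ, ⟨i⟩, hu⟩ := huniv N hN φ
    obtain ⟨g, ⟨j⟩, hg⟩ := hπ.1.2 N hN ψ
    refine ⟨g, ⟨whiskerLeftIso F j ≪≫ i⟩, fun g' hj' => hg g' ?_⟩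
    exact hu (π ⊚ AlgSt.ofSpMap g') hj'
  · obtain ⟨y, hy⟩ := (hπ.2 Ω t).1 m
    obtain ⟨x, g, hg⟩ := exists_lift_obj F Ω t hF.1 y
    refine ⟨x, ?_⟩
    rw [fibSec_comp, ← hy]
    exact fibSec_eq_of_hom π (mapFib F x) y g hg
  · rw [fibSec_comp, fibSec_comp] at h
    obtain ⟨e⟩ := (hπ.2 Ω t).2 _ _ h
    exact nonempty_iso_of_hom F Ω t h𝒳 hF.2 x x' e.hom.1 e.hom.2

theorem exists_isCoarseModuli_of_comp (h𝒴 : FibCat.IsFibGrpd 𝒴.p)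
    (hF : Gerb.IsGerbeOver (QuotSh.J Scheme.fppfPrecoverage S) F) (huniv : Univ F)
    (M : AlgSp.Sp S) (π' : 𝒳 ⥤ᵇ AlgSt.ofSp M) (hπ' : AlgSt.IsCoarseModuli π') :
    ∃ ψ : 𝒴 ⥤ᵇ AlgSt.ofSp M, AlgSt.IsCoarseModuli ψ := by
  obtain ⟨ψ, ⟨i⟩, hu⟩ := huniv M hπ'.1.1 π'
  refine ⟨ψ, ⟨hπ'.1.1, fun N hN φ => ?_⟩, fun Ω _ _ t => ⟨fun m => ?_, fun y y' h => ?_⟩⟩
  · obtain ⟨g, ⟨j⟩, hg⟩ := hπ'.1.2 N hN (F ⊚ φ)
    obtain ⟨ψ₀, ⟨i₀⟩, hu₀⟩ := huniv N hN (F ⊚ φ)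
    obtain ⟨k1⟩ : Nonempty (φ ≅ ψ₀) := hu₀ φ ⟨Iso.refl _⟩
    obtain ⟨k2⟩ : Nonempty (ψ ⊚ AlgSt.ofSpMap g ≅ ψ₀) :=
      hu₀ _ ⟨(whiskerRightIso i (AlgSt.ofSpMap g)) ≪≫ j⟩
    refine ⟨g, ⟨k2 ≪≫ k1.symm⟩, fun g' hj' => hg g' ?_⟩
    obtain ⟨j'⟩ := hj'
    exact ⟨(whiskerRightIso i.symm (AlgSt.ofSpMap g')) ≪≫ whiskerLeftIso F j'⟩
  · obtain ⟨x, hx⟩ := (hπ'.2 Ω t).1 m
    refine ⟨mapFib F x, ?_⟩
    rw [← fibSec_comp, fibSec_eq_of_iso i, hx]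
  · obtain ⟨x, g, hg⟩ := exists_lift_obj F Ω t hF.1 y
    obtain ⟨x', g', hg'⟩ := exists_lift_obj F Ω t hF.1 y'
    have h1 : AlgSt.fibSec π' x = AlgSt.fibSec π' x' := by
      rw [← fibSec_eq_of_iso i, ← fibSec_eq_of_iso i, fibSec_comp, fibSec_comp,
        fibSec_eq_of_hom ψ (mapFib F x) y g hg, fibSec_eq_of_hom ψ (mapFib F x') y' g' hg', h]
    obtain ⟨e⟩ := (hπ'.2 Ω t).2 x x' h1
    letI := Groth.Agent.Lib.Helper27.SecRestr.fiberGroupoid h𝒴 (Over.mk t)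
    let G : mapFib F x ⟶ y := ⟨g, hg⟩
    let G' : mapFib F x' ⟶ y' := ⟨g', hg'⟩
    have he : 𝒳.p.IsHomLift (𝟙 (Over.mk t)) e.hom.1 := e.hom.2
    let E : mapFib F x ⟶ mapFib F x' :=
      ⟨F.map e.hom.1, BasedFunctor.preserves_isHomLift F (𝟙 (Over.mk t)) e.hom.1⟩
    exact ⟨(Groupoid.isoEquivHom _ _).symm (Groupoid.inv G ≫ E ≫ G')⟩

theorem main (h𝒳 : FibCat.IsFibGrpd 𝒳.p) (h𝒴 : FibCat.IsFibGrpd 𝒴.p)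
    (hF : Gerb.IsGerbeOver (QuotSh.J Scheme.fppfPrecoverage S) F) (huniv : Univ F) :
    ((∃ (M : AlgSp.Sp S) (π : 𝒴 ⥤ᵇ AlgSt.ofSp M), AlgSt.IsCoarseModuli π) ↔
        ∃ (M : AlgSp.Sp S) (π : 𝒳 ⥤ᵇ AlgSt.ofSp M), AlgSt.IsCoarseModuli π) ∧
      ∀ (M : AlgSp.Sp S) (π : 𝒴 ⥤ᵇ AlgSt.ofSp M), AlgSt.IsCoarseModuli π →
        AlgSt.IsCoarseModuli (BasedFunctor.comp F π) := by
  refine ⟨⟨?_, ?_⟩, isCoarseModuli_comp F h𝒳 hF huniv⟩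
  · rintro ⟨M, π, hπ⟩
    exact ⟨M, _, isCoarseModuli_comp F h𝒳 hF huniv M π hπ⟩
  · rintro ⟨M, π', hπ'⟩
    obtain ⟨ψ, hψ⟩ := exists_isCoarseModuli_of_comp F h𝒴 hF huniv M π' hπ'
    exact ⟨M, ψ, hψ⟩

end Main

end Groth.Agent.Lib.Helper27.GerbCoarse
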