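import Groth.Agent.Lib.Helper27.QuotDesc
import Groth.Agent.Lib.Helper27.GerbCoarse
import Groth.Prelude.Def_StCoarse
import Groth.Prelude.Def_W4bk4git07Quot

/-!
# Functors from the quotient stack `[X/G]` to a sheaf are invariant maps (helper27)
-/

set_option autoImplicit false
set_option backward.isDefEq.respectTransparency false
set_option backward.isDefEq.respectTransparency.types false

universe u

open CategoryTheory CategoryTheory.Limits MonoidalCategory CartesianMonoidalCategory AlgebraicGeometry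
  Opposite MonObj GrpObj

namespace Groth.Agent.Lib.Helper27.QuotCat

open Groth.Agent.Lib.Helper27.QuotDesc

variable {S : Scheme.{u}}

section MapOf

variable {A M N : AlgSp.Sp S}

/-- The map of sheaves underlying a functor over `(Sch/S)` between categories of sections. -/
def mapOf (F : AlgSt.ofSp A ⥤ᵇ AlgSt.ofSp M) : A ⟶ M :=
  ⟨{ app := fun Z => ↾fun s => (secOf F ⟨Z.unop, s⟩ : M.obj.obj (op Z.unop))
     naturality := by
       intro Z Z' h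
       ext s
       let g : (⟨Z'.unop, A.obj.map h s⟩ : Stk.EltObj A.obj) ⟶ ⟨Z.unop, s⟩ := ⟨h.unop, rfl⟩
       exact (secOf_map F g).symm }⟩

theorem ofSpMap_mapOf (F : AlgSt.ofSp A ⥤ᵇ AlgSt.ofSp M) : AlgSt.ofSpMap (mapOf F) = F := by
  apply basedFunctor_ext_ofPsh
  intro a
  obtain ⟨T, s⟩ := a
  exact (obj_eq_secOf F ⟨T, s⟩).symm

theorem ofSpMap_injective {a b : A ⟶ M} (h : AlgSt.ofSpMap a = AlgSt.ofSpMap b) : a = b := by
  ext Z s
  have h1 := congrArg (fun F : AlgSt.ofSp A ⥤ᵇ AlgSt.ofSp M => (F.obj ⟨Z.unop, s⟩)) h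
  have h2 : (⟨Z.unop, a.hom.app Z s⟩ : Stk.EltObj M.obj) = ⟨Z.unop, b.hom.app Z s⟩ := h1
  exact eq_of_heq (Stk.EltObj.mk.inj h2).2

theorem mapOf_ofSpMap (a : A ⟶ M) : mapOf (AlgSt.ofSpMap a) = a :=
  ofSpMap_injective (ofSpMap_mapOf _)

theorem ofSpMap_comp (a : A ⟶ M) (b : M ⟶ N) :
    AlgSt.ofSpMap (a ≫ b) = BasedFunctor.comp (AlgSt.ofSpMap a) (AlgSt.ofSpMap b) := by
  apply basedFunctor_ext_ofPsh
  intro x
  rfl

end MapOf

section Iso

variable {𝒳 : AlgSt.Cat S} {M : AlgSp.Sp S}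

/-- Isomorphic functors to the category of a sheaf are equal. -/
theorem eq_of_iso {φ φ' : 𝒳 ⥤ᵇ AlgSt.ofSp M} (α : φ ≅ φ') : φ = φ' := by
  apply basedFunctor_ext_ofPsh
  intro a
  rw [obj_eq_secOf φ a, obj_eq_secOf φ' a]
  congr 1
  exact GerbCoarse.fibSec_eq_of_iso α (⟨a, rfl⟩ : 𝒳.p.Fiber (𝒳.p.obj a))

end Iso

variable {G : Over S} [GrpObj G] {X : Over S} {aX : AlgGrp.Action G X} {M N : AlgSp.Sp S}

/-- The invariant map attached to a functor `[X/G] ⟶ M`. -/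
noncomputable def restr (φ : AlgSt.QuotSt Scheme.fppfPrecoverage G aX ⥤ᵇ AlgSt.ofSp M) :
    (AlgSp.yon S).obj X ⟶ M :=
  mapOf (BasedFunctor.comp (AlgSt.quotMap Scheme.fppfPrecoverage G aX) φ)

theorem ofSpMap_restr (φ : AlgSt.QuotSt Scheme.fppfPrecoverage G aX ⥤ᵇ AlgSt.ofSp M) :
    AlgSt.ofSpMap (restr φ) = BasedFunctor.comp (AlgSt.quotMap Scheme.fppfPrecoverage G aX) φ :=
  ofSpMap_mapOf _

theorem fv_restr (φ : AlgSt.QuotSt Scheme.fppfPrecoverage G aX ⥤ᵇ AlgSt.ofSp M) {Z : Over S}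
    (x : Z ⟶ X) :
    fv (restr φ) x = secOf φ ((AlgSt.quotMap Scheme.fppfPrecoverage G aX).obj ⟨Z, ⟨x⟩⟩) := by
  unfold fv restr mapOf
  rfl

theorem isDesc_secOf (φ : AlgSt.QuotSt Scheme.fppfPrecoverage G aX ⥤ᵇ AlgSt.ofSp M)
    (A : AlgSt.QuotObj Scheme.fppfPrecoverage G aX) : IsDesc (restr φ) A (secOf φ A) := by
  intro Z p
  rw [fv_restr]
  exact secOf_map φ (ptHom A p)

theorem map_of_eq_id {P : (Over S)ᵒᵖ ⥤ Type (u + 1)} {T : Over S} (k : T ⟶ T) (hk : k = 𝟙 T)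
    (σ : P.obj (op T)) : P.map k.op σ = σ := by
  subst hk
  simp

theorem restr_inv (φ : AlgSt.QuotSt Scheme.fppfPrecoverage G aX ⥤ᵇ AlgSt.ofSp M) :
    (AlgSp.yon S).map aX.act ≫ restr φ = (AlgSp.yon S).map (snd G X) ≫ restr φ := by
  ext Z ⟨q⟩
  change fv (restr φ) (q ≫ aX.act) = fv (restr φ) (q ≫ snd G X)
  let A : AlgSt.QuotObj Scheme.fppfPrecoverage G aX :=
    (AlgSt.quotMap Scheme.fppfPrecoverage G aX).obj ⟨Z.unop, ⟨q ≫ snd G X⟩⟩
  let p : Z.unop ⟶ A.P := lift (q ≫ fst G X) (𝟙 Z.unop)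
  have h1 := isDesc_secOf φ A p
  have h2 : p ≫ A.π = 𝟙 _ := lift_snd _ _
  have h3 : p ≫ A.φ = q ≫ aX.act := by
    change lift (q ≫ fst G X) (𝟙 Z.unop) ≫ (G ◁ (q ≫ snd G X)) ≫ aX.act = _
    rw [← Category.assoc]
    congr 1
    apply CartesianMonoidalCategory.hom_ext <;> simp
  have h5 := map_of_eq_id (P := M.obj) (p ≫ A.π) h2 (secOf φ A)
  rw [h3] at h1
  exact h1.symm.trans (h5.trans (fv_restr φ (q ≫ snd G X)).symm)

theorem eq_descFun (φ : AlgSt.QuotSt Scheme.fppfPrecoverage G aX ⥤ᵇ AlgSt.ofSp M) :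
    φ = descFun (restr φ) (restr_inv φ) :=
  descFun_unique (restr φ) (restr_inv φ) φ (ofSpMap_restr φ).symm

theorem restr_injective {φ φ' : AlgSt.QuotSt Scheme.fppfPrecoverage G aX ⥤ᵇ AlgSt.ofSp M}
    (h : restr φ = restr φ') : φ = φ' := by
  rw [eq_descFun φ']
  exact descFun_unique (restr φ') (restr_inv φ') φ (by rw [← h, ofSpMap_restr])

theorem restr_descFun (f : (AlgSp.yon S).obj X ⟶ M)
    (hf : (AlgSp.yon S).map aX.act ≫ f = (AlgSp.yon S).map (snd G X) ≫ f) :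
    restr (descFun f hf) = f := by
  apply ofSpMap_injective
  rw [ofSpMap_restr, quotMap_descFun]

theorem restr_comp (π : AlgSt.QuotSt Scheme.fppfPrecoverage G aX ⥤ᵇ AlgSt.ofSp M) (g : M ⟶ N) :
    restr (BasedFunctor.comp π (AlgSt.ofSpMap g)) = restr π ≫ g := by
  apply ofSpMap_injective
  rw [ofSpMap_restr, ofSpMap_comp, ofSpMap_restr]
  rfl

theorem nonempty_iso_iff (π : AlgSt.QuotSt Scheme.fppfPrecoverage G aX ⥤ᵇ AlgSt.ofSp M)
    (g : M ⟶ N) (φ : AlgSt.QuotSt Scheme.fppfPrecoverage G aX ⥤ᵇ AlgSt.ofSp N) :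
    Nonempty (BasedFunctor.comp π (AlgSt.ofSpMap g) ≅ φ) ↔ restr π ≫ g = restr φ := by
  constructor
  · rintro ⟨α⟩
    rw [← restr_comp, eq_of_iso α]
  · intro h
    rw [← restr_comp] at h
    rw [restr_injective h]
    exact ⟨Iso.refl _⟩

theorem restr_eq_of_iso {Y : Over S} (f : X ⟶ Y)
    (π : AlgSt.QuotSt Scheme.fppfPrecoverage G aX ⥤ᵇ AlgSt.ofSch Y)
    (hπ : Nonempty (BasedFunctor.comp (AlgSt.quotMap Scheme.fppfPrecoverage G aX) π ≅
      AlgSt.ofSpMap ((AlgSp.yon S).map f))) : restr π = (AlgSp.yon S).map f := by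
  obtain ⟨α⟩ := hπ
  apply ofSpMap_injective
  rw [ofSpMap_restr]
  exact eq_of_iso α

end Groth.Agent.Lib.Helper27.QuotCat
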