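import Groth.Agent.Lib.Helper27.CatMod1
import Groth.Agent.Lib.Helper27.QuotCat
import Groth.Agent.Lib.Helper27.GerbIsoCl
import Groth.Agent.Lib.Helper27.PshKit

/-!
# The relation attached to a pair of functors to sheaves, and categorical moduli spaces (helper27)
-/

set_option autoImplicit false
set_option backward.isDefEq.respectTransparency false
set_option backward.isDefEq.respectTransparency.types false

universe u

open CategoryTheory CategoryTheory.Limits AlgebraicGeometry Opposite FibCat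
open Groth.Agent.Lib.Helper27.FpKit Groth.Agent.Lib.Helper27.QuotDesc
  Groth.Agent.Lib.Helper27.GerbIsoCl

namespace Groth.Agent.Lib.Helper27.CatMod

variable {S : Scheme.{u}} {𝒲 : AlgSt.Cat S} {M N : AlgSp.Sp S}

local infixr:80 " ⊚ " => BasedFunctor.comp

/-- The map from a representable sheaf attached to a section. -/
noncomputable abbrev yOf {F : AlgSp.Sp S} {W : Over S} (s : F.obj.obj (op W)) :
    (AlgSp.yon S).obj W ⟶ F :=
  (AlgSp.J S).uliftYonedaEquiv.{u+1}.symm s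

theorem yon_map_eq {W V : Over S} (v : W ⟶ V) :
    (AlgSp.yon S).map v = yOf (F := (AlgSp.yon S).obj V) ⟨v⟩ := by
  apply (AlgSp.J S).uliftYonedaEquiv.{u+1}.injective
  rw [Equiv.apply_symm_apply]
  exact (AlgSp.J S).uliftYonedaEquiv_uliftYoneda_map v

theorem yon_map_comp_eq {F : AlgSp.Sp S} {W V : Over S} (v : W ⟶ V) (t : (AlgSp.yon S).obj V ⟶ F) :
    (AlgSp.yon S).map v ≫ t = yOf (t.hom.app (op W) ⟨v⟩) := by
  rw [yon_map_eq, GrothendieckTopology.uliftYonedaEquiv_symm_naturality_right]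

theorem vert_eqToHom {𝒜 : AlgSt.Cat S} {a b : 𝒜.obj} (h : a = b) : Vert (eqToHom h) := by
  subst h
  exact Vert.id a

variable (π : 𝒲 ⥤ᵇ AlgSt.ofSp M) (φ : 𝒲 ⥤ᵇ AlgSt.ofSp N)

/-- The relation between sections of `M` and `N` given by the objects of `𝒲`. -/
def RelOf (W : Over S) (m : (AlgSp.yon S).obj W ⟶ M) (n : (AlgSp.yon S).obj W ⟶ N) : Prop :=
  ∃ (w : 𝒲.obj) (h : 𝒲.p.obj w = W), m = yOf (sec π w h) ∧ n = yOf (sec φ w h)

theorem relOf_restrict (h𝒲 : FibCat.IsFibGrpd 𝒲.p) {W W' : Over S} (h : W' ⟶ W)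
    {m : (AlgSp.yon S).obj W ⟶ M} {n : (AlgSp.yon S).obj W ⟶ N} (hr : RelOf π φ W m n) :
    RelOf π φ W' ((AlgSp.yon S).map h ≫ m) ((AlgSp.yon S).map h ≫ n) := by
  obtain ⟨w, hw, rfl, rfl⟩ := hr
  haveI := h𝒲
  let a : 𝒲.p.Fiber W := ⟨w, hw⟩
  refine ⟨(Gerb.pullFib 𝒲 h a).1, (Gerb.pullFib 𝒲 h a).2, ?_, ?_⟩
  · rw [sec_pullFib π h a]
    exact GrothendieckTopology.uliftYonedaEquiv_symm_naturality_left _ h M _
  · rw [sec_pullFib φ h a]
    exact GrothendieckTopology.uliftYonedaEquiv_symm_naturality_left _ h N _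

theorem sec_comp_ofSpMap (g : M ⟶ N) (w : 𝒲.obj) {W : Over S} (h : 𝒲.p.obj w = W) :
    sec (π ⊚ AlgSt.ofSpMap g) w h = g.hom.app (op W) (sec π w h) := by
  subst h
  unfold sec
  exact (FunctorToTypes.naturality g.hom _ _).symm

theorem secOf_eq_sec {P : AlgSp.Sp S} (F : 𝒲 ⥤ᵇ AlgSt.ofSp P) (w : 𝒲.obj) :
    secOf F w = sec F w rfl := rfl

/-- Compatibility with the relation is equality of the composite functors. -/
theorem forall_rel_iff (g : M ⟶ N) :
    (∀ (W : Over S) (m : (AlgSp.yon S).obj W ⟶ M) (n : (AlgSp.yon S).obj W ⟶ N),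
      RelOf π φ W m n → m ≫ g = n) ↔ π ⊚ AlgSt.ofSpMap g = φ := by
  constructor
  · intro H
    apply basedFunctor_ext_ofPsh
    intro a
    rw [obj_eq_secOf (π ⊚ AlgSt.ofSpMap g) a, obj_eq_secOf φ a]
    congr 1
    have h1 := H (𝒲.p.obj a) _ _ ⟨a, rfl, rfl, rfl⟩
    rw [GrothendieckTopology.uliftYonedaEquiv_symm_naturality_right] at h1
    have h2 := (AlgSp.J S).uliftYonedaEquiv.{u+1}.symm.injective h1
    rw [secOf_eq_sec, secOf_eq_sec, sec_comp_ofSpMap]
    exact h2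
  · intro E W m n hr
    obtain ⟨w, h, rfl, rfl⟩ := hr
    rw [GrothendieckTopology.uliftYonedaEquiv_symm_naturality_right]
    congr 1
    rw [← E, sec_comp_ofSpMap]

/-- Compatibility along `t` is equality of the two composite functors on the base change. -/
theorem good_iff {V : Over S} (t : (AlgSp.yon S).obj V ⟶ M) (l : (AlgSp.yon S).obj V ⟶ N) :
    Good (RelOf π φ) t l ↔
      fpFst (AlgSt.ofSpMap t) π ⊚ AlgSt.ofSpMap l = fpSnd (AlgSt.ofSpMap t) π ⊚ φ := by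
  constructor
  · intro H
    apply basedFunctor_ext_ofPsh
    intro z
    obtain ⟨hbase, hhom⟩ := Groth.Agent.Lib.Helper27.PshKit.vert_hom z.obj.iso.hom (vert_iso z)
    have hb : 𝒲.p.obj z.obj.snd = z.obj.fst.base := ((π.w_obj z.obj.snd).symm.trans hbase.symm)
    have hsec : sec π z.obj.snd hb = t.hom.app _ z.obj.fst.sec := by
      have h1 := z.obj.iso.hom.map_sec
      rw [hhom] at h1
      exact h1
    have h2 := H z.obj.fst.base z.obj.fst.sec.down (yOf (sec φ z.obj.snd hb))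
      ⟨z.obj.snd, hb, by rw [yon_map_comp_eq, hsec]; rfl, rfl⟩
    rw [yon_map_comp_eq] at h2
    have h3 := (AlgSp.J S).uliftYonedaEquiv.{u+1}.symm.injective h2
    refine eltObj_ext ((φ.w_obj z.obj.snd).trans hb).symm ?_
    exact h3.symm
  · intro E W' v n hr
    obtain ⟨w, hw, hm, rfl⟩ := hr
    subst hw
    rw [yon_map_comp_eq] at hm ⊢
    have hm' := (AlgSp.J S).uliftYonedaEquiv.{u+1}.symm.injective hm
    congr 1
    let x : (AlgSt.ofSp ((AlgSp.yon S).obj V)).obj := ⟨𝒲.p.obj w, ⟨v⟩⟩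
    have hx : (AlgSt.ofSpMap t).obj x = π.obj w := by
      rw [obj_eq_secOf π w, secOf_eq_sec, ← hm']
      rfl
    let z : (fp (AlgSt.ofSpMap t) π).obj :=
      mkObj (F := AlgSt.ofSpMap t) (G := π) x w (eqToIso hx) (vert_eqToHom hx)
    have h1 := congrArg (fun F : fp (AlgSt.ofSpMap t) π ⥤ᵇ AlgSt.ofSp N => F.obj z) E
    have h2 : (AlgSt.ofSpMap l).obj x = φ.obj w := h1
    rw [obj_eq_secOf φ w] at h2
    have h3 : (⟨𝒲.p.obj w, l.hom.app _ ⟨v⟩⟩ : Stk.EltObj N.obj) = ⟨𝒲.p.obj w, secOf φ w⟩ := h2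
    exact eq_of_heq (Stk.EltObj.mk.inj h3).2

end Groth.Agent.Lib.Helper27.CatMod
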