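import Groth.Agent.Lib.Helper27.IsomQc2

/-!
# Points of base changes of fibre products (helper27)
-/

set_option autoImplicit false
set_option backward.isDefEq.respectTransparency false
set_option backward.isDefEq.respectTransparency.types false

universe u

open CategoryTheory CategoryTheory.Limits FibCat AlgebraicGeometry Opposite
  Groth.Agent.Lib.Helper27.FpKit Groth.Agent.Lib.Helper27.PointsKit
  Groth.Agent.Lib.Helper27.StPoints Groth.Agent.Lib.Helper27.ReprDiag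
  Groth.Agent.Lib.Helper27.FpBaseChange

namespace Groth.Agent.Lib.Helper27.IsomQc

variable {S : Scheme.{u}}

local infixr:80 " ⊚ " => BasedFunctor.comp

section Cover

variable {𝒜 ℬ 𝒵 𝒜' : AlgSt.Cat S} (F : 𝒜 ⥤ᵇ 𝒵) (K : ℬ ⥤ᵇ 𝒵) (a : 𝒜' ⥤ᵇ 𝒜)

theorem mapFst_fst : mapFst F K a ⊚ fpFst F K = fpFst (a ⊚ F) K ⊚ a := rfl

theorem pasteL_fst : pasteL K F a ⊚ fpFst (a ⊚ F) K = fpFst a (fpFst F K) := rfl

/-- Points of a base change of a fibre product: lifting. -/
theorem exists_point_mapFst (h𝒜 : FibCat.IsFibGrpd 𝒜.p) (h𝒜' : FibCat.IsFibGrpd 𝒜'.p)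
    (hfp : FibCat.IsFibGrpd (fp F K).p)
    (q : AlgSt.Points (fp F K)) (p' : AlgSt.Points 𝒜')
    (h : AlgSt.Points.map (fpFst F K) q = AlgSt.Points.map a p') :
    ∃ q' : AlgSt.Points (fp (a ⊚ F) K), AlgSt.Points.map (mapFst F K a) q' = q ∧
      AlgSt.Points.map (fpFst (a ⊚ F) K) q' = p' := by
  obtain ⟨w, hw₁, hw₂⟩ := exists_points_fp hfp h𝒜 h𝒜' (fpFst F K) a p' q h.symm
  refine ⟨AlgSt.Points.map (pasteL K F a) w, ?_, ?_⟩
  · rw [← map_comp, ← map_iso (isoFst F K a)]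
    exact hw₂
  · rw [← map_comp, pasteL_fst]
    exact hw₁

theorem map_mapFst_fst (q' : AlgSt.Points (fp (a ⊚ F) K)) :
    AlgSt.Points.map (fpFst F K) (AlgSt.Points.map (mapFst F K a) q') =
      AlgSt.Points.map a (AlgSt.Points.map (fpFst (a ⊚ F) K) q') := by
  rw [← map_comp, ← map_comp, mapFst_fst]

end Cover

end Groth.Agent.Lib.Helper27.IsomQc
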