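import Groth.Agent.Lib.Helper27.CatMod2
import Groth.Agent.Lib.Helper27.IsomQc3
import Groth.Agent.Lib.Helper27.FpFib

/-!
# Categorical moduli spaces can be tested étale locally on the target (helper27)
-/

set_option autoImplicit false
set_option backward.isDefEq.respectTransparency false
set_option backward.isDefEq.respectTransparency.types false

universe u

open CategoryTheory CategoryTheory.Limits AlgebraicGeometry Opposite FibCat
open Groth.Agent.Lib.Helper27.FpKit Groth.Agent.Lib.Helper27.QuotDesc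
  Groth.Agent.Lib.Helper27.RepCancel

namespace Groth.Agent.Lib.Helper27.CatMod

variable {S : Scheme.{u}} {𝒲 𝒲' : AlgSt.Cat S} {M : AlgSp.Sp S}

local infixr:80 " ⊚ " => BasedFunctor.comp

/-- A functor to an algebraic space is a categorical moduli space as soon as its base changes to
affine schemes étale over the target are. -/
theorem isCatModuli_of_affine_etale (h𝒲 : FibCat.IsFibGrpd 𝒲.p) (hM : AlgSp.IsAlgSpace M)
    (π : 𝒲 ⥤ᵇ AlgSt.ofSp M)
    (H : ∀ (V : Over S), IsAffine V.left → ∀ t : (AlgSp.yon S).obj V ⟶ M, AlgSp.RepWith @Etale t →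
      AlgSt.IsCatModuli (fpFst (AlgSt.ofSpMap t) π)) :
    AlgSt.IsCatModuli π := by
  refine ⟨hM, fun N hN φ => ?_⟩
  have key := existsUnique_of_affine_etale (Rel := RelOf π φ)
    (fun h _ _ hr => relOf_restrict π φ h𝒲 h hr) (fun V hV t ht => ?_) hM
  · obtain ⟨g, hg, hu⟩ := key
    refine ⟨g, ⟨eqToIso ((forall_rel_iff π φ g).1 hg)⟩, ?_⟩
    rintro g' ⟨α⟩
    exact hu g' ((forall_rel_iff π φ g').2 (Groth.Agent.Lib.Helper27.QuotCat.eq_of_iso α))
  · obtain ⟨l, ⟨α⟩, hu⟩ := (H V hV t ht).2 N hN (fpSnd (AlgSt.ofSpMap t) π ⊚ φ)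
    refine ⟨l, (good_iff π φ t l).2 (Groth.Agent.Lib.Helper27.QuotCat.eq_of_iso α), ?_⟩
    intro l' hl'
    exact hu l' ⟨eqToIso ((good_iff π φ t l').1 hl')⟩

/-- Categorical moduli spaces are invariant under equivalences of the source. -/
theorem isCatModuli_equiv_comp (E : 𝒲' ⥤ᵇ 𝒲) (hE : IsEquivOver E) (π : 𝒲 ⥤ᵇ AlgSt.ofSp M)
    (h : AlgSt.IsCatModuli π) : AlgSt.IsCatModuli (E ⊚ π) := by
  obtain ⟨E', ⟨e1⟩, ⟨e2⟩⟩ := hE
  refine ⟨h.1, fun N hN φ => ?_⟩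
  obtain ⟨g, ⟨α⟩, hu⟩ := h.2 N hN (E' ⊚ φ)
  refine ⟨g, ⟨whiskerLeftIso E α ≪≫ whiskerRightIso e1 φ⟩, ?_⟩
  rintro g' ⟨β⟩
  exact hu g' ⟨(whiskerRightIso e2 (π ⊚ AlgSt.ofSpMap g')).symm ≪≫ whiskerLeftIso E' β⟩

end Groth.Agent.Lib.Helper27.CatMod
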