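import Groth.Agent.Lib.Helper27.CatMod3
import Groth.Agent.Lib.Helper3.AlgSpLocP5

/-!
# Uniform categorical moduli spaces from affine flat base changes (helper27)
-/

set_option autoImplicit false
set_option backward.isDefEq.respectTransparency false
set_option backward.isDefEq.respectTransparency.types false

universe u

open CategoryTheory CategoryTheory.Limits AlgebraicGeometry Opposite FibCat
open Groth.Agent.Lib.Helper27.FpKit Groth.Agent.Lib.Helper27.QuotDesc
  Groth.Agent.Lib.Helper27.RepCancel Groth.Agent.Lib.Helper3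

namespace Groth.Agent.Lib.Helper27.CatMod

variable {S : Scheme.{u}} {𝒳 : AlgSt.Cat S}

local infixr:80 " ⊚ " => BasedFunctor.comp

theorem locP_flat_of_etale {A B : AlgSp.Sp S} (t : A ⟶ B) (ht : AlgSp.RepWith @Etale t) :
    AlgSp.LocP @Flat t :=
  locP_mono (fun _ _ _ h => by have : Etale _ := h; infer_instance)
    (locP_of_repWith isEtLocal_etale t ht)

theorem isUnifCatModuli_of_affine_flat (h𝒳 : FibCat.IsFibGrpd 𝒳.p) (Y : AlgSp.Sp S)
    (hY : AlgSp.IsAlgSpace Y) (f : 𝒳 ⥤ᵇ AlgSt.ofSp Y)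
    (hf : ∀ (Y' : Over S), IsAffine Y'.left → ∀ (g : (AlgSp.yon S).obj Y' ⟶ Y),
      AlgSp.LocP @Flat g → AlgSt.IsCatModuli (FibCat.fpFst (AlgSt.ofSpMap g) f)) :
    AlgSt.IsUnifCatModuli f := by
  refine ⟨isCatModuli_of_affine_etale h𝒳 hY f
    (fun V hV t ht => hf V hV t (locP_flat_of_etale t ht)), ?_⟩
  intro M' hM' g₀ hg₀
  have hfib : FibCat.IsFibGrpd (fp (AlgSt.ofSpMap g₀) f).p :=
    Groth.Agent.Lib.Helper27.FpFib.isFibGrpd_fp _ _ inferInstance h𝒳 inferInstance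
  refine isCatModuli_of_affine_etale hfib hM' _ (fun V hV t ht => ?_)
  have h1 := hf V hV (t ≫ g₀) (locP_comp isEtLocal_flat (AlgSp.IsAlgSpace.yon_obj V) hM' hY t g₀
    (locP_flat_of_etale t ht) hg₀)
  rw [Groth.Agent.Lib.Helper27.QuotCat.ofSpMap_comp] at h1
  exact isCatModuli_equiv_comp (pasteL f (AlgSt.ofSpMap g₀) (AlgSt.ofSpMap t))
    (isEquivOver_pasteL f (AlgSt.ofSpMap g₀) (AlgSt.ofSpMap t)) _ h1

end Groth.Agent.Lib.Helper27.CatMod
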