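import Groth.Prelude.Def_FibCat2
import Groth.Agent.Lib.Helper27.FpFibered

/-!
# The first projection of `C ×_D 𝒮` is fibred (helper27)
-/

set_option autoImplicit false
set_option backward.isDefEq.respectTransparency false
set_option backward.isDefEq.respectTransparency.types false

universe v₅ u₅ v₄ u₄ v₃ u₃ v₂ u₂ v u

open CategoryTheory CategoryTheory.Limits

namespace Groth.Agent.Lib.Helper27.CatPbFib

variable {C : Type u} [Category.{v} C] {D : Type u₂} [Category.{v₂} D] (u : C ⥤ D)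
  {S : Type u₃} [Category.{v₃} S] (p : S ⥤ D)

theorem pi1_lift {t t' : CategoricalPullback u p} (Φ : t' ⟶ t) :
    (CategoricalPullback.π₁ u p).IsHomLift Φ.fst Φ :=
  inferInstanceAs ((CategoricalPullback.π₁ u p).IsHomLift ((CategoricalPullback.π₁ u p).map Φ) Φ)

theorem fst_eq_of_lift {t t' : CategoricalPullback u p} (Φ : t' ⟶ t) (f : t'.fst ⟶ t.fst)
    (h : (CategoricalPullback.π₁ u p).IsHomLift f Φ) : Φ.fst = f :=
  (IsHomLift.eq_of_isHomLift (CategoricalPullback.π₁ u p) f Φ).symm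

theorem isFibered_pi1 [p.IsFibered] : (CategoricalPullback.π₁ u p).IsFibered := by
  apply Functor.IsFibered.of_exists_isStronglyCartesian
  intro t R f
  let f' : R ⟶ t.fst := f
  obtain ⟨s', χ, hχ⟩ := Groth.Agent.Lib.Helper27.FpFibered.exists_sc_lift p
    (u.map f' ≫ t.iso.hom) t.snd rfl
  have hs' : p.obj s' = u.obj R := IsHomLift.domain_eq p (u.map f' ≫ t.iso.hom) χ
  have hχmap : p.map χ = eqToHom hs' ≫ u.map f' ≫ t.iso.hom := by
    have := IsHomLift.fac' p (u.map f' ≫ t.iso.hom) χ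
    simpa using this
  let t' : CategoricalPullback u p := ⟨R, s', eqToIso hs'.symm⟩
  let Φ : t' ⟶ t := ⟨f', χ, by
    change u.map f' ≫ t.iso.hom = eqToHom hs'.symm ≫ p.map χ
    rw [hχmap]; simp⟩
  refine ⟨t', Φ, ?_⟩
  refine { toIsHomLift := pi1_lift u p Φ, universal_property' := ?_ }
  intro t'' g Φ'' hΦ''
  let g' : t''.fst ⟶ R := g
  have hfst : Φ''.fst = g' ≫ f' := fst_eq_of_lift u p Φ'' (g' ≫ f') hΦ''
  have hw := Φ''.w
  have hf' : p.map Φ''.snd = (t''.iso.inv ≫ u.map g') ≫ u.map f' ≫ t.iso.hom := by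
    have : p.map Φ''.snd = t''.iso.inv ≫ u.map Φ''.fst ≫ t.iso.hom := by
      rw [hw]; simp
    rw [this, hfst, u.map_comp]
    simp
  let β : t''.snd ⟶ s' :=
    Functor.IsStronglyCartesian.map p (u.map f' ≫ t.iso.hom) χ hf' Φ''.snd
  have hβl : p.IsHomLift (t''.iso.inv ≫ u.map g') β :=
    Functor.IsStronglyCartesian.map_isHomLift p (u.map f' ≫ t.iso.hom) χ hf' Φ''.snd
  have hβ : β ≫ χ = Φ''.snd :=
    Functor.IsStronglyCartesian.fac p (u.map f' ≫ t.iso.hom) χ hf' Φ''.snd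
  have hβmap : p.map β = t''.iso.inv ≫ u.map g' ≫ eqToHom hs'.symm := by
    have := IsHomLift.fac' p (t''.iso.inv ≫ u.map g') β
    simpa using this
  let χ' : t'' ⟶ t' := ⟨g', β, by
    change u.map g' ≫ eqToHom hs'.symm = t''.iso.hom ≫ p.map β
    rw [hβmap]; simp⟩
  refine ⟨χ', ⟨pi1_lift u p χ', ?_⟩, ?_⟩
  · apply CategoricalPullback.hom_ext
    · exact hfst.symm
    · exact hβ
  · rintro χ₂ ⟨hχ₂l, hχ₂⟩
    have k1 : χ₂.fst = g' := fst_eq_of_lift u p χ₂ g' hχ₂l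
    have k2 : χ₂.snd ≫ χ = Φ''.snd := by rw [← hχ₂]; rfl
    have hw₂ : u.map χ₂.fst ≫ eqToHom hs'.symm = t''.iso.hom ≫ p.map χ₂.snd := χ₂.w
    have k3 : p.IsHomLift (t''.iso.inv ≫ u.map g') χ₂.snd := by
      apply IsHomLift.of_fac' p (t''.iso.inv ≫ u.map g') χ₂.snd rfl hs'
      have : p.map χ₂.snd = t''.iso.inv ≫ u.map χ₂.fst ≫ eqToHom hs'.symm := by
        rw [hw₂]; simp
      rw [this, k1]
      simp
    apply CategoricalPullback.hom_ext
    · exact k1
    · exact Functor.IsStronglyCartesian.map_uniq p (u.map f' ≫ t.iso.hom) χ hf' Φ''.snd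
        χ₂.snd k2

end Groth.Agent.Lib.Helper27.CatPbFib
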