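import Groth.Prelude.Def_FibCat2
import Groth.Agent.Lib.Helper27.DescentKit

/-!
# Categories fibred in sets: unique lifts (helper27)
-/

set_option autoImplicit false
set_option backward.isDefEq.respectTransparency false
set_option backward.isDefEq.respectTransparency.types false

universe v₄ u₄ v₃ u₃ v₂ u₂ v u

open CategoryTheory Groth.Agent.Lib.Helper27.DescentKit
  Groth.Agent.Lib.Helper16.FpFibGrpd

namespace Groth.Agent.Lib.Helper27.FibSetAux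

variable {C : Type u} [Category.{v} C] {𝒳 : Type u₂} [Category.{v₂} 𝒳] (p : 𝒳 ⥤ C)

open FibCat

/-- The unique lift property. -/
def UL : Prop :=
  ∀ (η : 𝒳) (U : C) (f : U ⟶ p.obj η), ∃! φ : (Σ ξ : 𝒳, (ξ ⟶ η)), p.IsHomLift f φ.2

variable {p}

theorem ul_of_isFibSet (h : FibCat.IsFibSet p) : UL p := by
  obtain ⟨hp, hd⟩ := h
  intro η U f
  obtain ⟨ξ, φ, hφ⟩ := hp.exists_lift (x := η) f
  refine ⟨⟨ξ, φ⟩, hφ, ?_⟩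
  rintro ⟨ξ', φ'⟩ hφ'
  have hφ'' : p.IsHomLift f φ' := hφ'
  have hχl : p.IsHomLift (𝟙 U) (FG.lift hp f φ hφ (𝟙 U) (Category.id_comp _).symm φ' hφ'') :=
    FG.lift_isHomLift hp _ _ _ _ _ _ _
  have hχ : FG.lift hp f φ hφ (𝟙 U) (Category.id_comp _).symm φ' hφ'' ≫ φ = φ' :=
    FG.lift_fac hp _ _ _ _ _ _ _
  have hξ : p.obj ξ = U := IsHomLift.domain_eq p f φ
  have hξ' : p.obj ξ' = U := IsHomLift.domain_eq p f φ'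
  haveI := hd U
  let a : p.Fiber U := ⟨ξ', hξ'⟩
  let b : p.Fiber U := ⟨ξ, hξ⟩
  let k : a ⟶ b := ⟨FG.lift hp f φ hφ (𝟙 U) (Category.id_comp _).symm φ' hφ'', hχl⟩
  have hab : a = b := IsDiscrete.eq_of_hom k
  have e : ξ' = ξ := congrArg Subtype.val hab
  subst e
  have hk : k = 𝟙 a := Subsingleton.elim _ _
  have hk' : FG.lift hp f φ hφ (𝟙 U) (Category.id_comp _).symm φ' hφ'' = 𝟙 ξ' :=
    congrArg Subtype.val hk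
  rw [hk', Category.id_comp] at hχ
  rw [hχ]

theorem sigma_eq_elim {η : 𝒳} {ξ ξ' : 𝒳} {φ : ξ ⟶ η} {φ' : ξ' ⟶ η}
    (h : (⟨ξ, φ⟩ : Σ ξ : 𝒳, (ξ ⟶ η)) = ⟨ξ', φ'⟩) :
    ∃ e : ξ = ξ', φ = eqToHom e ≫ φ' := by
  cases h
  exact ⟨rfl, by simp⟩

theorem isFibGrpd_of_ul (h : UL p) : FibCat.IsFibGrpd p := by
  constructor
  · intro x V f
    obtain ⟨⟨y, φ⟩, hφ, -⟩ := h x V f
    exact ⟨y, φ, hφ⟩
  · intro y x φ
    refine @Functor.IsStronglyCartesian.mk _ _ _ _ _ _ _ _ _ _ _ inferInstance ?_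
    intro z g ψ hψ
    obtain ⟨⟨w, χ⟩, hχ, huniq⟩ := h y (p.obj z) g
    have hχ' : p.IsHomLift g χ := hχ
    obtain ⟨⟨w', ψ'⟩, -, huniq'⟩ := h x (p.obj z) (g ≫ p.map φ)
    have h1 : p.IsHomLift (g ≫ p.map φ) (χ ≫ φ) := inferInstance
    have e1 : (⟨w, χ ≫ φ⟩ : Σ ξ : 𝒳, (ξ ⟶ x)) = ⟨w', ψ'⟩ := huniq' ⟨w, χ ≫ φ⟩ h1
    have e2 : (⟨z, ψ⟩ : Σ ξ : 𝒳, (ξ ⟶ x)) = ⟨w', ψ'⟩ := huniq' ⟨z, ψ⟩ hψ
    obtain ⟨e, he⟩ := sigma_eq_elim (e2.trans e1.symm)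
    subst e
    rw [eqToHom_refl, Category.id_comp] at he
    refine ⟨χ, ⟨hχ', he.symm⟩, ?_⟩
    rintro χ' ⟨hχ'l, -⟩
    have e3 : (⟨z, χ'⟩ : Σ ξ : 𝒳, (ξ ⟶ y)) = ⟨z, χ⟩ := huniq ⟨z, χ'⟩ hχ'l
    obtain ⟨e, he'⟩ := sigma_eq_elim e3
    rw [eqToHom_refl, Category.id_comp] at he'
    exact he'

theorem isDiscrete_of_ul (h : UL p) (U : C) : IsDiscrete (p.Fiber U) := by
  have key : ∀ {a b : p.Fiber U} (f : a ⟶ b), ∃ e : a.1 = b.1, f.1 = eqToHom e := by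
    intro a b f
    have hf : p.IsHomLift (𝟙 U) f.1 := f.2
    obtain ⟨⟨w, χ⟩, -, huniq⟩ := h b.1 U (eqToHom b.2.symm)
    have h1 : p.IsHomLift (eqToHom b.2.symm) f.1 := by
      have : p.IsHomLift (𝟙 U ≫ eqToHom b.2.symm) f.1 := inferInstance
      simpa using this
    have h2 : p.IsHomLift (eqToHom b.2.symm) (𝟙 b.1) := by
      have : p.IsHomLift (eqToHom b.2.symm ≫ 𝟙 (p.obj b.1)) (𝟙 b.1) := by
        have h3 : p.IsHomLift (𝟙 (p.obj b.1)) (𝟙 b.1) := inferInstance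
        exact IsHomLift.lift_eqToHom_comp _ (𝟙 (p.obj b.1)) (𝟙 b.1) b.2.symm
      simpa using this
    have e1 : (⟨a.1, f.1⟩ : Σ ξ : 𝒳, (ξ ⟶ b.1)) = ⟨w, χ⟩ := huniq ⟨a.1, f.1⟩ h1
    have e2 : (⟨b.1, 𝟙 b.1⟩ : Σ ξ : 𝒳, (ξ ⟶ b.1)) = ⟨w, χ⟩ := huniq ⟨b.1, 𝟙 b.1⟩ h2
    obtain ⟨e, he⟩ := sigma_eq_elim (e1.trans e2.symm)
    exact ⟨e, by rw [he, Category.comp_id]⟩
  refine { subsingleton := fun a b => ⟨fun f g => ?_⟩, eq_of_hom := fun {a b} f => ?_ }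
  · apply Subtype.ext
    obtain ⟨e, he⟩ := key f
    obtain ⟨e', he'⟩ := key g
    rw [he, he']
  · obtain ⟨e, -⟩ := key f
    exact Subtype.ext e

theorem isFibSet_iff_ul : FibCat.IsFibSet p ↔ UL p :=
  ⟨ul_of_isFibSet, fun h => ⟨isFibGrpd_of_ul h, isDiscrete_of_ul h⟩⟩

end Groth.Agent.Lib.Helper27.FibSetAux
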