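import Groth.Prelude.Def_FibCat2
import Groth.Agent.Lib.Helper27.FibSetAux
import Groth.Agent.S6415
import Groth.Agent.S6416
import Groth.Agent.S6393

/-!
# Fibrations over a category fibred in sets (helper27)
-/

set_option autoImplicit false
set_option backward.isDefEq.respectTransparency false
set_option backward.isDefEq.respectTransparency.types false

universe v₄ u₄ v₃ u₃ v₂ u₂ v u

open CategoryTheory Groth.Agent.Lib.Helper27.DescentKit
  Groth.Agent.Lib.Helper16.FpFibGrpd Groth.Agent.Lib.Helper27.FibSetAux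

namespace Groth.Agent.Lib.Helper27.OverFibSet

variable {C : Type u} [Category.{v} C] {𝒢 : Type u₂} [Category.{v₂} 𝒢]
  {ℱ : Type u₃} [Category.{v₃} ℱ] (G : 𝒢 ⥤ C) (F : ℱ ⥤ 𝒢)

open FibCat

theorem comp_isHomLift_iff {R S : C} (g : R ⟶ S) {a b : ℱ} (φ : a ⟶ b) :
    (F ⋙ G).IsHomLift g φ ↔ G.IsHomLift g (F.map φ) := by
  constructor
  · intro h
    have h1 : (F ⋙ G).obj a = R := IsHomLift.domain_eq (F ⋙ G) g φ
    have h2 : (F ⋙ G).obj b = S := IsHomLift.codomain_eq (F ⋙ G) g φ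
    subst h1 h2
    have h3 : g = (F ⋙ G).map φ := IsHomLift.eq_of_isHomLift (F ⋙ G) g φ
    subst h3
    exact IsHomLift.map G (F.map φ)
  · intro h
    have h1 : G.obj (F.obj a) = R := IsHomLift.domain_eq G g (F.map φ)
    have h2 : G.obj (F.obj b) = S := IsHomLift.codomain_eq G g (F.map φ)
    subst h1 h2
    have h3 : g = G.map (F.map φ) := IsHomLift.eq_of_isHomLift G g (F.map φ)
    subst h3
    exact IsHomLift.map (F ⋙ G) φ

/-- (L1) -/
theorem comp_isHomLift_of {V W : 𝒢} (f : V ⟶ W) {a b : ℱ} (φ : a ⟶ b) (h : F.IsHomLift f φ) :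
    (F ⋙ G).IsHomLift (G.map f) φ := by
  have h1 : F.obj a = V := IsHomLift.domain_eq F f φ
  have h2 : F.obj b = W := IsHomLift.codomain_eq F f φ
  subst h1 h2
  have h3 : f = F.map φ := IsHomLift.eq_of_isHomLift F f φ
  subst h3
  exact IsHomLift.map (F ⋙ G) φ

variable {G}

/-- (L2) -/
theorem isHomLift_of_comp (hG : UL G) {V : 𝒢} {b : ℱ} (f : V ⟶ F.obj b) {a : ℱ} (φ : a ⟶ b)
    (h : (F ⋙ G).IsHomLift (G.map f) φ) : F.IsHomLift f φ := by
  have h1 : G.IsHomLift (G.map f) (F.map φ) := (comp_isHomLift_iff G F _ φ).1 h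
  have h2 : G.IsHomLift (G.map f) f := inferInstance
  obtain ⟨⟨w, χ⟩, -, huniq⟩ := hG (F.obj b) (G.obj V) (G.map f)
  have e1 : (⟨F.obj a, F.map φ⟩ : Σ ξ : 𝒢, (ξ ⟶ F.obj b)) = ⟨w, χ⟩ := huniq ⟨_, F.map φ⟩ h1
  have e2 : (⟨V, f⟩ : Σ ξ : 𝒢, (ξ ⟶ F.obj b)) = ⟨w, χ⟩ := huniq ⟨V, f⟩ h2
  obtain ⟨e, he⟩ := sigma_eq_elim (e1.trans e2.symm)
  subst e
  rw [eqToHom_refl, Category.id_comp] at he
  rw [← he]
  exact IsHomLift.map F φ

theorem isHomLift_of_comp' (hG : UL G) {V W : 𝒢} (f : V ⟶ W) {a b : ℱ} (φ : a ⟶ b)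
    (hb : F.obj b = W) (h : (F ⋙ G).IsHomLift (G.map f) φ) : F.IsHomLift f φ := by
  subst hb
  exact isHomLift_of_comp F hG f φ h

/-- (L3) -/
theorem isStronglyCartesian_of_comp (hG : UL G) {V : 𝒢} {b : ℱ} (f : V ⟶ F.obj b) {a : ℱ}
    (φ : a ⟶ b) (h : (F ⋙ G).IsStronglyCartesian (G.map f) φ) : F.IsStronglyCartesian f φ := by
  have hφ : F.IsHomLift f φ := isHomLift_of_comp F hG f φ h.toIsHomLift
  refine @Functor.IsStronglyCartesian.mk _ _ _ _ _ _ _ _ _ _ _ hφ ?_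
  intro a' g φ' hφ'
  have h1 : (F ⋙ G).IsHomLift (G.map (g ≫ f)) φ' := comp_isHomLift_of G F (g ≫ f) φ' hφ'
  rw [G.map_comp] at h1
  have hg : (G.map g : (F ⋙ G).obj a' ⟶ G.obj V) = G.map g := rfl
  obtain ⟨χ, ⟨hχl, hχ⟩, huniq⟩ := h.universal_property' (a' := a') (G.map g) φ'
  have hVa : F.obj a = V := IsHomLift.domain_eq F f φ
  refine ⟨χ, ⟨isHomLift_of_comp' F hG g χ hVa hχl, hχ⟩, ?_⟩
  · rintro χ' ⟨hχ'l, hχ'⟩
    exact huniq χ' ⟨comp_isHomLift_of G F g χ' hχ'l, hχ'⟩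

section Main

variable (G)

theorem isFibGrpd_iff_comp (hG : FibCat.IsFibSet G) :
    FibCat.IsFibGrpd F ↔ FibCat.IsFibGrpd (F ⋙ G) := by
  have hul : UL G := ul_of_isFibSet hG
  constructor
  · intro hF
    exact Groth.Agent.S6416.result F G hF hG.1
  · intro h
    constructor
    · intro x V f
      obtain ⟨y, φ, hφ⟩ := h.exists_lift (x := x) (G.map f)
      exact ⟨y, φ, isHomLift_of_comp F hul f φ hφ⟩
    · intro y x φ
      exact isStronglyCartesian_of_comp F hul (F.map φ) φ (h.isStronglyCartesian φ)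

theorem isFibered_iff_comp (hG : FibCat.IsFibSet G) :
    F.IsFibered ↔ (F ⋙ G).IsFibered := by
  have hul : UL G := ul_of_isFibSet hG
  constructor
  · intro hF
    haveI : G.IsFibered := ((Groth.Agent.S6393.result G).1 hG.1).1
    exact Groth.Agent.S6415.result F G
  · intro h
    apply Functor.IsFibered.of_exists_isStronglyCartesian
    intro a R f
    obtain ⟨b, φ, hφ⟩ := Functor.IsPreFibered.exists_isCartesian' (p := F ⋙ G) (a := a) (G.map f)
    have hφ' : (F ⋙ G).IsStronglyCartesian (G.map f) φ := inferInstance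
    exact ⟨b, φ, isStronglyCartesian_of_comp F hul f φ hφ'⟩

theorem ul_iff_comp (hul : UL G) : UL F ↔ UL (F ⋙ G) := by
  constructor
  · intro hF η U f
    obtain ⟨⟨V, f'⟩, hf', huniq'⟩ := hul (F.obj η) U f
    have hf'' : G.IsHomLift f f' := hf'
    obtain ⟨⟨ξ, φ⟩, hφ, huniq⟩ := hF η V f'
    have hφ' : F.IsHomLift f' φ := hφ
    have hV : G.obj V = U := IsHomLift.domain_eq G f f'
    subst hV
    have hf3 : f = G.map f' := IsHomLift.eq_of_isHomLift G f f'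
    refine ⟨⟨ξ, φ⟩, ?_, ?_⟩
    · change (F ⋙ G).IsHomLift f φ
      rw [hf3]
      exact comp_isHomLift_of G F f' φ hφ'
    · rintro ⟨ξ', φ'⟩ hφ''
      have h1 : G.IsHomLift f (F.map φ') := (comp_isHomLift_iff G F f φ').1 hφ''
      have e1 : (⟨F.obj ξ', F.map φ'⟩ : Σ ξ : 𝒢, (ξ ⟶ F.obj η)) = ⟨V, f'⟩ :=
        huniq' ⟨_, F.map φ'⟩ h1
      obtain ⟨e, he⟩ := sigma_eq_elim e1
      subst e
      rw [eqToHom_refl, Category.id_comp] at he
      apply huniq ⟨ξ', φ'⟩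
      change F.IsHomLift f' φ'
      rw [← he]
      exact IsHomLift.map F φ'
  · intro h η V f'
    obtain ⟨⟨ξ, φ⟩, hφ, huniq⟩ := h η (G.obj V) (G.map f')
    have hφ' : (F ⋙ G).IsHomLift (G.map f') φ := hφ
    refine ⟨⟨ξ, φ⟩, isHomLift_of_comp F hul f' φ hφ', ?_⟩
    rintro ⟨ξ', φ'⟩ hφ''
    exact huniq ⟨ξ', φ'⟩ (comp_isHomLift_of G F f' φ' hφ'')

theorem isFibSet_iff_comp (hG : FibCat.IsFibSet G) :
    FibCat.IsFibSet F ↔ FibCat.IsFibSet (F ⋙ G) := by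
  rw [isFibSet_iff_ul, isFibSet_iff_ul]
  exact ul_iff_comp G F (ul_of_isFibSet hG)

end Main

end Groth.Agent.Lib.Helper27.OverFibSet
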