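import Groth.Prelude.Def_FibCat2
import Groth.Agent.Lib.Helper27.DescentKit
import Groth.Agent.Lib.Helper27.OverFibSet
import Groth.Agent.S6416

/-!
# The categorical pullback of `F` and the identity is fibred in groupoids over the target (helper27)
-/

set_option autoImplicit false
set_option backward.isDefEq.respectTransparency false
set_option backward.isDefEq.respectTransparency.types false

universe v₅ u₅ v₄ u₄ v₃ u₃ v₂ u₂ v u

open CategoryTheory CategoryTheory.Limits Groth.Agent.Lib.Helper27.DescentKit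
  Groth.Agent.Lib.Helper16.FpFibGrpd

namespace Groth.Agent.Lib.Helper27.CatPbId

variable {S : Type u} [Category.{v} S] {X : Type u₂} [Category.{v₂} X]
  {Y : Type u₃} [Category.{v₃} Y] (πX : X ⥤ S) (F : Y ⥤ X)

theorem pi2_lift {t t' : CategoricalPullback F (𝟭 X)} (Φ : t' ⟶ t) :
    (CategoricalPullback.π₂ F (𝟭 X)).IsHomLift Φ.snd Φ :=
  inferInstanceAs ((CategoricalPullback.π₂ F (𝟭 X)).IsHomLift
    ((CategoricalPullback.π₂ F (𝟭 X)).map Φ) Φ)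

theorem snd_eq_of_lift {t t' : CategoricalPullback F (𝟭 X)} (Φ : t' ⟶ t) (f : t'.snd ⟶ t.snd)
    (h : (CategoricalPullback.π₂ F (𝟭 X)).IsHomLift f Φ) : Φ.snd = f :=
  (IsHomLift.eq_of_isHomLift (CategoricalPullback.π₂ F (𝟭 X)) f Φ).symm

theorem comp_lift {a b : Y} (η : a ⟶ b) {R R' : S} (f : R ⟶ R')
    (h : (F ⋙ πX).IsHomLift f η) : πX.IsHomLift f (F.map η) :=
  (Groth.Agent.Lib.Helper27.OverFibSet.comp_isHomLift_iff πX F f η).1 h

theorem isFibGrpd_pi2 (hX : FibCat.IsFibGrpd πX) (hY : FibCat.IsFibGrpd (F ⋙ πX)) :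
    FibCat.IsFibGrpd (CategoricalPullback.π₂ F (𝟭 X)) := by
  constructor
  · intro t x' f
    let f' : x' ⟶ t.snd := f
    obtain ⟨y', η, hη⟩ := hY.exists_lift (x := t.fst) (πX.map (f' ≫ t.iso.inv))
    have hFη : πX.IsHomLift (πX.map (f' ≫ t.iso.inv)) (F.map η) := comp_lift πX F η _ hη
    have hh : πX.IsHomLift (πX.map (f' ≫ t.iso.inv)) (f' ≫ t.iso.inv) := inferInstance
    obtain ⟨φ₀, hφ₀l, hφ₀⟩ : ∃ φ₀ : x' ⟶ F.obj y', πX.IsHomLift (𝟙 (πX.obj x')) φ₀ ∧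
        φ₀ ≫ F.map η = f' ≫ t.iso.inv :=
      ⟨_, FG.lift_isHomLift hX _ (F.map η) hFη (𝟙 (πX.obj x')) (Category.id_comp _).symm
        (f' ≫ t.iso.inv) hh, FG.lift_fac hX _ _ _ _ _ _ _⟩
    have : IsIso φ₀ := FG.isIso hX φ₀ hφ₀l
    let t' : CategoricalPullback F (𝟭 X) := ⟨y', x', (asIso φ₀).symm⟩
    let Φ : t' ⟶ t := ⟨η, f', by
      change F.map η ≫ t.iso.hom = inv φ₀ ≫ f'
      rw [IsIso.eq_inv_comp, ← Category.assoc, hφ₀]
      simp⟩
    exact ⟨t', Φ, pi2_lift F Φ⟩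
  · intro t' t Φ
    refine { toIsHomLift := inferInstance, universal_property' := ?_ }
    intro t'' g Φ'' hΦ''
    let g' : t''.snd ⟶ t'.snd := g
    have hsnd : Φ''.snd = g' ≫ Φ.snd := snd_eq_of_lift F Φ'' (g' ≫ Φ.snd) hΦ''
    have hw : F.map Φ.fst ≫ t.iso.hom = t'.iso.hom ≫ Φ.snd := Φ.w
    have hw'' : F.map Φ''.fst ≫ t.iso.hom = t''.iso.hom ≫ Φ''.snd := Φ''.w
    have hk : (t''.iso.hom ≫ g' ≫ t'.iso.inv) ≫ F.map Φ.fst = F.map Φ''.fst := by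
      have e1 : t'.iso.inv ≫ F.map Φ.fst = Φ.snd ≫ t.iso.inv := by
        rw [Iso.inv_comp_eq, ← Category.assoc, ← hw, Category.assoc, Iso.hom_inv_id,
          Category.comp_id]
      have e2 : F.map Φ''.fst = t''.iso.hom ≫ Φ''.snd ≫ t.iso.inv := by
        rw [← Category.assoc, ← hw'', Category.assoc, Iso.hom_inv_id, Category.comp_id]
      rw [e2, hsnd]
      simp only [Category.assoc]
      rw [e1]
    have hΦl : (F ⋙ πX).IsHomLift ((F ⋙ πX).map Φ.fst) Φ.fst := inferInstance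
    have hf' : (F ⋙ πX).map Φ''.fst =
        πX.map (t''.iso.hom ≫ g' ≫ t'.iso.inv) ≫ (F ⋙ πX).map Φ.fst := by
      change πX.map (F.map Φ''.fst) = _ ≫ πX.map (F.map Φ.fst)
      rw [← πX.map_comp, hk]
    have hΦ''l : (F ⋙ πX).IsHomLift ((F ⋙ πX).map Φ''.fst) Φ''.fst := inferInstance
    obtain ⟨α, hαl, hα⟩ : ∃ α : t''.fst ⟶ t'.fst,
        (F ⋙ πX).IsHomLift (πX.map (t''.iso.hom ≫ g' ≫ t'.iso.inv)) α ∧ α ≫ Φ.fst = Φ''.fst :=
      ⟨_, FG.lift_isHomLift hY _ Φ.fst hΦl _ hf' Φ''.fst hΦ''l, FG.lift_fac hY _ _ _ _ _ _ _⟩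
    have hFα : F.map α = t''.iso.hom ≫ g' ≫ t'.iso.inv := by
      have h1 : πX.IsHomLift (πX.map (t''.iso.hom ≫ g' ≫ t'.iso.inv)) (F.map α) :=
        comp_lift πX F α _ hαl
      have h2 : πX.IsHomLift (πX.map (t''.iso.hom ≫ g' ≫ t'.iso.inv))
        (t''.iso.hom ≫ g' ≫ t'.iso.inv) := inferInstance
      have h3 : πX.IsHomLift (πX.map (F.map Φ.fst)) (F.map Φ.fst) := inferInstance
      refine FG.cancel hX (πX.map (F.map Φ.fst)) (F.map Φ.fst) h3 _ h1 h2 ?_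
      rw [← F.map_comp, hα, hk]
    let χ : t'' ⟶ t' := ⟨α, g', by
      change F.map α ≫ t'.iso.hom = t''.iso.hom ≫ g'
      rw [hFα]; simp⟩
    refine ⟨χ, ⟨pi2_lift F χ, ?_⟩, ?_⟩
    · apply CategoricalPullback.hom_ext
      · exact hα
      · exact hsnd.symm
    · rintro χ₂ ⟨hχ₂l, hχ₂⟩
      have k1 : χ₂.snd = g' := snd_eq_of_lift F χ₂ g' hχ₂l
      have k2 : χ₂.fst ≫ Φ.fst = Φ''.fst := by rw [← hχ₂]; rfl
      have hw₂ : F.map χ₂.fst ≫ t'.iso.hom = t''.iso.hom ≫ χ₂.snd := χ₂.w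
      have k3 : F.map χ₂.fst = t''.iso.hom ≫ g' ≫ t'.iso.inv := by
        rw [← k1, ← Category.assoc, ← hw₂, Category.assoc, Iso.hom_inv_id, Category.comp_id]
      have k4 : (F ⋙ πX).IsHomLift (πX.map (t''.iso.hom ≫ g' ≫ t'.iso.inv)) χ₂.fst := by
        rw [← k3]
        exact inferInstanceAs ((F ⋙ πX).IsHomLift ((F ⋙ πX).map χ₂.fst) χ₂.fst)
      have k5 : χ₂.fst = α := by
        refine FG.cancel hY _ Φ.fst hΦl _ k4 hαl ?_
        rw [k2, hα]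
      apply CategoricalPullback.hom_ext
      · exact k5
      · exact k1

theorem isFibGrpd_both {πY : Y ⥤ S} (hX : FibCat.IsFibGrpd πX) (hY : FibCat.IsFibGrpd πY)
    (hF : F ⋙ πX = πY) :
    FibCat.IsFibGrpd (CategoricalPullback.π₂ F (𝟭 X)) ∧
      FibCat.IsFibGrpd (CategoricalPullback.π₂ F (𝟭 X) ⋙ πX) := by
  subst hF
  have h1 := isFibGrpd_pi2 πX F hX hY
  exact ⟨h1, Groth.Agent.S6416.result _ _ h1 hX⟩

end Groth.Agent.Lib.Helper27.CatPbId
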