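import Groth.Prelude.Def_AlgSt
import Groth.Prelude.Def_FibCat2
import Groth.Agent.Lib.Helper27.DescentKit
import Groth.Agent.Lib.Helper27.StackFp

/-!
# Local arguments in stacks: automorphisms that are locally trivial (helper27)
-/

set_option autoImplicit false
set_option backward.isDefEq.respectTransparency false
set_option backward.isDefEq.respectTransparency.types false

universe v₄ u₄ v₃ u₃ v₂ u₂ v u

open CategoryTheory Groth.Agent.Lib.Helper27.DescentKit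
  Groth.Agent.Lib.Helper16.FpFibGrpd Groth.Agent.Lib.Helper27.StackFp

namespace Groth.Agent.Lib.Helper27.StackLocal

variable {C : Type u} [Category.{v} C]

open FibCat

section Aut

variable {𝒯 : BasedCategory.{v₂, u₂} C} (hp : FibCat.IsFibGrpd 𝒯.p) {U : C} (R : Sieve U)

include hp in
/-- An endomorphism over the identity which is locally trivial is trivial. -/
theorem aut_eq_id (hu : UniqMor R 𝒯) {t : 𝒯.obj} (α : t ⟶ t) (hα : 𝒯.p.IsHomLift (𝟙 U) α)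
    (hloc : ∀ ⦃V : C⦄ (f : V ⟶ U), R f → ∃ (t' : 𝒯.obj) (c : t' ⟶ t),
      𝒯.p.IsHomLift f c ∧ c ≫ α = c) : α = 𝟙 t := by
  have ht : 𝒯.p.obj t = U := IsHomLift.domain_eq 𝒯.p (𝟙 U) α
  apply hu _ _ _ _ hα (IsHomLift.id ht)
  intro V f t'' a hf ha
  obtain ⟨t', c, hc, hcα⟩ := hloc f hf
  have e : FG.lift hp f c hc (𝟙 V) (Category.id_comp _).symm a ha ≫ c = a :=
    FG.lift_fac hp _ _ _ _ _ _ _
  rw [← e, Category.assoc, hcα, Category.comp_id]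

include hp in
/-- Reduction of faithfulness to automorphisms over identities. -/
theorem faithful_of_aut {𝒮 : BasedCategory.{v₃, u₃} C} (h𝒮 : FibCat.IsFibGrpd 𝒮.p)
    (G : 𝒯 ⥤ᵇ 𝒮)
    (h : ∀ (t : 𝒯.obj) (α : t ⟶ t), 𝒯.p.IsHomLift (𝟙 (𝒯.p.obj t)) α → G.map α = 𝟙 _ → α = 𝟙 t) :
    G.toFunctor.Faithful := by
  constructor
  intro t t' a b hab
  have hab' : G.map a = G.map b := hab
  -- bases agree
  have ha : 𝒯.p.IsHomLift (𝒯.p.map a) a := inferInstance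
  have hGa : 𝒮.p.IsHomLift (𝒯.p.map a) (G.map a) := inferInstance
  have hGb : 𝒮.p.IsHomLift (𝒯.p.map a) (G.map b) := by rw [← hab']; exact hGa
  have hb : 𝒯.p.IsHomLift (𝒯.p.map a) b := (BasedFunctor.isHomLift_iff G _ b).1 hGb
  -- factor `a` through `b`
  have hχl : 𝒯.p.IsHomLift (𝟙 (𝒯.p.obj t)) (FG.lift hp _ b hb (𝟙 _) (Category.id_comp _).symm a ha) :=
    FG.lift_isHomLift hp _ _ _ _ _ _ _
  have hχ : FG.lift hp _ b hb (𝟙 _) (Category.id_comp _).symm a ha ≫ b = a :=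
    FG.lift_fac hp _ _ _ _ _ _ _
  have hGχ : G.map (FG.lift hp _ b hb (𝟙 _) (Category.id_comp _).symm a ha) = 𝟙 _ := by
    have h1 : 𝒮.p.IsHomLift (𝟙 (𝒯.p.obj t))
        (G.map (FG.lift hp _ b hb (𝟙 _) (Category.id_comp _).symm a ha)) := inferInstance
    have h2 : 𝒮.p.IsHomLift (𝟙 (𝒯.p.obj t)) (𝟙 (G.obj t)) := IsHomLift.id (G.w_obj t)
    refine FG.cancel h𝒮 _ (G.map b) hGb (𝟙 _) h1 h2 ?_
    rw [← G.map_comp, hχ, Category.id_comp, hab']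
  have := h t _ hχl hGχ
  rw [this, Category.id_comp] at hχ
  exact hχ.symm

end Aut

section FpLocal

variable {𝒮₁ : BasedCategory.{v₂, u₂} C} {𝒮₂ : BasedCategory.{v₃, u₃} C}
  {𝒯₁ : BasedCategory.{v₄, u₄} C} (F : 𝒮₂ ⥤ᵇ 𝒮₁) (G : 𝒯₁ ⥤ᵇ 𝒮₁)
  (h₁ : FibCat.IsFibGrpd 𝒮₁.p) (h₃ : FibCat.IsFibGrpd 𝒯₁.p)

include h₁ h₃ in
/-- The local situation: an object of the fibre product over a chosen pullback, and the
restriction of an automorphism. -/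
theorem local_aut {U V : C} (f : V ⟶ U) {t : 𝒯₁.obj} (ht : 𝒯₁.p.obj t = U) (α : t ⟶ t)
    (hα : 𝒯₁.p.IsHomLift (𝟙 U) α) (x : 𝒮₂.obj) (φ : F.obj x ⟶ G.obj t)
    (hφ : 𝒮₁.p.IsHomLift f φ) :
    ∃ (P : (fp F G).obj) (c : P.obj.snd ⟶ t) (α' : P.obj.snd ⟶ P.obj.snd),
      (fp F G).p.obj P = V ∧ 𝒯₁.p.IsHomLift f c ∧ 𝒯₁.p.IsHomLift (𝟙 V) α' ∧ α' ≫ c = c ≫ α ∧
        P.obj.fst = x := by
  have hc : 𝒯₁.p.IsHomLift f (pbHom h₃ t ht (Over.mk f)) := pbHom_isHomLift h₃ t ht (Over.mk f)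
  have hGc : 𝒮₁.p.IsHomLift f (G.map (pbHom h₃ t ht (Over.mk f))) := inferInstance
  have hθl : 𝒮₁.p.IsHomLift (𝟙 V) (FG.lift h₁ f (G.map (pbHom h₃ t ht (Over.mk f))) hGc (𝟙 V)
      (Category.id_comp _).symm φ hφ) := FG.lift_isHomLift h₁ _ _ _ _ _ _ _
  haveI : IsIso (FG.lift h₁ f (G.map (pbHom h₃ t ht (Over.mk f))) hGc (𝟙 V)
      (Category.id_comp _).symm φ hφ) := FG.isIso h₁ _ hθl
  have hxV : 𝒮₂.p.obj x = V := (F.w_obj x).symm.trans (IsHomLift.domain_eq 𝒮₁.p f φ)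
  have hθl' : 𝒮₁.p.IsHomLift (𝟙 (𝒮₂.p.obj x)) (FG.lift h₁ f (G.map (pbHom h₃ t ht (Over.mk f)))
      hGc (𝟙 V) (Category.id_comp _).symm φ hφ) := isHomLift_id_of_eq 𝒮₁.p hxV.symm _
  have hcα : 𝒯₁.p.IsHomLift f (pbHom h₃ t ht (Over.mk f) ≫ α) := inferInstance
  refine ⟨⟨⟨x, pbObj h₃ t ht (Over.mk f), asIso (FG.lift h₁ f (G.map (pbHom h₃ t ht (Over.mk f)))
      hGc (𝟙 V) (Category.id_comp _).symm φ hφ)⟩, hθl'⟩, pbHom h₃ t ht (Over.mk f),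
    FG.lift h₃ f (pbHom h₃ t ht (Over.mk f)) hc (𝟙 V) (Category.id_comp _).symm
      (pbHom h₃ t ht (Over.mk f) ≫ α) hcα, hxV, hc, FG.lift_isHomLift h₃ _ _ _ _ _ _ _,
    FG.lift_fac h₃ _ _ _ _ _ _ _, rfl⟩

include h₁ h₃ in
theorem map_eq_id_of_local {U V : C} (f : V ⟶ U) {t t' : 𝒯₁.obj} (α : t ⟶ t) (c : t' ⟶ t)
    (α' : t' ⟶ t') (hc : 𝒯₁.p.IsHomLift f c) (hα' : 𝒯₁.p.IsHomLift (𝟙 V) α')
    (hfac : α' ≫ c = c ≫ α) (hGα : G.map α = 𝟙 _) : G.map α' = 𝟙 _ := by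
  have hGc : 𝒮₁.p.IsHomLift f (G.map c) := inferInstance
  have h1 : 𝒮₁.p.IsHomLift (𝟙 V) (G.map α') := inferInstance
  have h2 : 𝒮₁.p.IsHomLift (𝟙 V) (𝟙 (G.obj t')) :=
    IsHomLift.id ((G.w_obj t').trans (IsHomLift.domain_eq 𝒯₁.p f c))
  refine FG.cancel h₁ f (G.map c) hGc (𝟙 V) h1 h2 ?_
  rw [← G.map_comp, hfac, G.map_comp, hGα, Category.comp_id, Category.id_comp]

end FpLocal

section S12798

variable (J : GrothendieckTopology C) {𝒮₁ 𝒮₂ 𝒯₁ : BasedCategory.{v, max u v} C}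

theorem faithful_of_faithful_fpFst (h₁ : Stk.IsStack J 𝒮₁) (h₃ : Stk.IsStack J 𝒯₁)
    (F : 𝒮₂ ⥤ᵇ 𝒮₁) (G : 𝒯₁ ⥤ᵇ 𝒮₁)
    (hF : ∀ y : 𝒮₁.obj, ∃ R ∈ J (𝒮₁.p.obj y), ∀ ⦃V : C⦄ (f : V ⟶ 𝒮₁.p.obj y), R f →
      ∃ (x : 𝒮₂.obj) (φ : F.obj x ⟶ y), 𝒮₁.p.IsHomLift f φ)
    (hG' : (FibCat.fpFst F G).toFunctor.Faithful) : G.toFunctor.Faithful := by
  apply faithful_of_aut h₃.1 h₁.1 G
  intro t α hα hGα
  obtain ⟨R, hR, hloc⟩ := hF (G.obj t)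
  have ht : 𝒯₁.p.obj t = 𝒮₁.p.obj (G.obj t) := (G.w_obj t).symm
  have hα' : 𝒯₁.p.IsHomLift (𝟙 (𝒮₁.p.obj (G.obj t))) α := isHomLift_id_of_eq 𝒯₁.p ht α
  have hst : (Stk.resSieve R 𝒯₁).IsEquivalence := h₃.2 R hR
  have hu : UniqMor R 𝒯₁ := uniqMor_of_faithful h₃.1 hst.faithful
  apply aut_eq_id h₃.1 R hu α hα'
  intro V f hf
  obtain ⟨x, φ, hφ⟩ := hloc f hf
  obtain ⟨P, c, α', hPV, hc, hα'l, hfac, hPx⟩ := local_aut F G h₁.1 h₃.1 f ht α hα' x φ hφ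
  have hGα' : G.map α' = 𝟙 _ := map_eq_id_of_local G h₁.1 h₃.1 f α c α' hc hα'l hfac hGα
  refine ⟨P.obj.snd, c, hc, ?_⟩
  have hw : F.map (𝟙 P.obj.fst) ≫ P.obj.iso.hom = P.obj.iso.hom ≫ G.map α' := by
    rw [hGα', F.map_id, Category.id_comp, Category.comp_id]
  let Ξ : P ⟶ P := ObjectProperty.homMk { fst := 𝟙 P.obj.fst, snd := α', w := hw }
  have hΞ : Ξ = 𝟙 P := by
    apply hG'.map_injective
    rfl
  have : α' = 𝟙 _ := congrArg (fun Θ => Θ.hom.snd) hΞ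
  rw [← hfac, this, Category.id_comp]

end S12798

section S12799

variable (J : GrothendieckTopology C) {𝒮₁ 𝒮₂ 𝒯₁ : BasedCategory.{v, max u v} C}

theorem isFibSetoid_of_isFibSetoid_fp (h₁ : Stk.IsStack J 𝒮₁) (h₃ : Stk.IsStack J 𝒯₁)
    (F : 𝒮₂ ⥤ᵇ 𝒮₁) [F.toFunctor.Full] [F.toFunctor.Faithful]
    (hF : ∀ y : 𝒮₁.obj, ∃ R ∈ J (𝒮₁.p.obj y), ∀ ⦃V : C⦄ (f : V ⟶ 𝒮₁.p.obj y), R f →
      ∃ (x : 𝒮₂.obj) (φ : F.obj x ⟶ y), 𝒮₁.p.IsHomLift f φ)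
    (G : 𝒯₁ ⥤ᵇ 𝒮₁) (h : FibCat.IsFibSetoid (FibCat.fp F G).p) : FibCat.IsFibSetoid 𝒯₁.p := by
  refine ⟨h₃.1, fun U => ?_⟩
  rw [thin_iff]
  intro t z φ ψ hφ hψ
  haveI : IsIso ψ := FG.isIso h₃.1 ψ hψ
  have hinv : 𝒯₁.p.IsHomLift (𝟙 U) (inv ψ) := inferInstance
  have hα : 𝒯₁.p.IsHomLift (𝟙 U) (φ ≫ inv ψ) := inferInstance
  suffices hid : φ ≫ inv ψ = 𝟙 t by
    calc φ = (φ ≫ inv ψ) ≫ ψ := by simp
      _ = ψ := by rw [hid, Category.id_comp]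
  obtain ⟨R, hR, hloc⟩ := hF (G.obj t)
  have htU : 𝒯₁.p.obj t = U := IsHomLift.domain_eq 𝒯₁.p (𝟙 U) φ
  have ht : 𝒯₁.p.obj t = 𝒮₁.p.obj (G.obj t) := (G.w_obj t).symm
  have hα' : 𝒯₁.p.IsHomLift (𝟙 (𝒮₁.p.obj (G.obj t))) (φ ≫ inv ψ) :=
    isHomLift_id_of_eq 𝒯₁.p (htU.symm.trans ht) _
  have hst : (Stk.resSieve R 𝒯₁).IsEquivalence := h₃.2 R hR
  have hu : UniqMor R 𝒯₁ := uniqMor_of_faithful h₃.1 hst.faithful
  apply aut_eq_id h₃.1 R hu _ hα'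
  intro V f hf
  obtain ⟨x, φ', hφ'⟩ := hloc f hf
  obtain ⟨P, c, α', hPV, hc, hα'l, hfac, hPx⟩ :=
    local_aut F G h₁.1 h₃.1 f ht (φ ≫ inv ψ) hα' x φ' hφ'
  refine ⟨P.obj.snd, c, hc, ?_⟩
  have hθ : 𝒮₁.p.IsHomLift (𝟙 V) P.obj.iso.hom := by
    have h0 : 𝒮₁.p.IsHomLift (𝟙 ((fp F G).p.obj P)) P.obj.iso.hom := iso_lift P
    exact isHomLift_id_of_eq 𝒮₁.p hPV _
  have hθi : 𝒮₁.p.IsHomLift (𝟙 V) P.obj.iso.inv := inferInstance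
  have hGα' : 𝒮₁.p.IsHomLift (𝟙 V) (G.map α') := inferInstance
  have h2 : 𝒮₁.p.IsHomLift (𝟙 V) (G.map α' ≫ P.obj.iso.inv) := inferInstance
  have h3 : 𝒮₁.p.IsHomLift (𝟙 V) (P.obj.iso.hom ≫ G.map α' ≫ P.obj.iso.inv) := inferInstance
  have hβ : F.map (F.toFunctor.preimage (P.obj.iso.hom ≫ G.map α' ≫ P.obj.iso.inv)) =
      P.obj.iso.hom ≫ G.map α' ≫ P.obj.iso.inv := F.toFunctor.map_preimage _
  have hβl : 𝒮₂.p.IsHomLift (𝟙 V)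
      (F.toFunctor.preimage (P.obj.iso.hom ≫ G.map α' ≫ P.obj.iso.inv)) := by
    apply (BasedFunctor.isHomLift_iff F _ _).1
    rw [hβ]
    exact h3
  have hw : F.map (F.toFunctor.preimage (P.obj.iso.hom ≫ G.map α' ≫ P.obj.iso.inv)) ≫
      P.obj.iso.hom = P.obj.iso.hom ≫ G.map α' := by
    rw [hβ]; simp
  let Ξ : P ⟶ P := ObjectProperty.homMk
    { fst := F.toFunctor.preimage (P.obj.iso.hom ≫ G.map α' ≫ P.obj.iso.inv), snd := α', w := hw }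
  have hΞl : (fp F G).p.IsHomLift (𝟙 V) Ξ := lift_of_fst Ξ _ hβl
  have hΞ : Ξ = 𝟙 P :=
    (thin_iff (fp F G).p V).1 (h.2 V) _ _ _ _ hΞl (IsHomLift.id hPV)
  have : α' = 𝟙 _ := congrArg (fun Θ => Θ.hom.snd) hΞ
  rw [← hfac, this, Category.id_comp]

end S12799

end Groth.Agent.Lib.Helper27.StackLocal
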