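import Groth.Prelude.Def_AlgSt
import Groth.Prelude.Def_FibCat2
import Mathlib.CategoryTheory.Sites.CoverPreserving
import Groth.Agent.Lib.Helper27.DescentKit
import Groth.Agent.Lib.Helper27.StackLocal

/-!
# `C ×_D 𝒮 ⟶ C` is a stack when `𝒮` is (helper27)

Part 1: map-equation API for categories fibred in groupoids, and `π₁` is fibred in groupoids.
-/

set_option autoImplicit false
set_option backward.isDefEq.respectTransparency false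
set_option backward.isDefEq.respectTransparency.types false

universe v₄ u₄ v₃ u₃ v₂ u₂ v u

open CategoryTheory CategoryTheory.Limits Groth.Agent.Lib.Helper16.FpFibGrpd
  Groth.Agent.Lib.Helper27.DescentKit

namespace Groth.Agent.Lib.Helper27.CatPbStack

section FGmap

variable {D : Type u₂} [Category.{v₂} D] {𝒳 : Type u₃} [Category.{v₃} 𝒳] {p : 𝒳 ⥤ D}
  (hp : FibCat.IsFibGrpd p)

include hp in
theorem exists_liftM {a b a' : 𝒳} (φ : a ⟶ b) (φ' : a' ⟶ b) (g : p.obj a' ⟶ p.obj a)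
    (h : p.map φ' = g ≫ p.map φ) : ∃ ψ : a' ⟶ a, p.map ψ = g ∧ ψ ≫ φ = φ' := by
  haveI := hp.isStronglyCartesian φ
  refine ⟨Functor.IsStronglyCartesian.map p (p.map φ) φ h φ', ?_,
    Functor.IsStronglyCartesian.fac p (p.map φ) φ h φ'⟩
  haveI := Functor.IsStronglyCartesian.map_isHomLift p (p.map φ) φ h φ'
  exact (IsHomLift.eq_of_isHomLift p g _).symm

/-- The lift of `φ'` through `φ` over `g`. -/
noncomputable def liftM {a b a' : 𝒳} (φ : a ⟶ b) (φ' : a' ⟶ b) (g : p.obj a' ⟶ p.obj a)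
    (h : p.map φ' = g ≫ p.map φ) : a' ⟶ a :=
  (exists_liftM hp φ φ' g h).choose

@[simp] theorem map_liftM {a b a' : 𝒳} (φ : a ⟶ b) (φ' : a' ⟶ b) (g : p.obj a' ⟶ p.obj a)
    (h : p.map φ' = g ≫ p.map φ) : p.map (liftM hp φ φ' g h) = g :=
  (exists_liftM hp φ φ' g h).choose_spec.1

@[simp] theorem liftM_fac {a b a' : 𝒳} (φ : a ⟶ b) (φ' : a' ⟶ b) (g : p.obj a' ⟶ p.obj a)
    (h : p.map φ' = g ≫ p.map φ) : liftM hp φ φ' g h ≫ φ = φ' :=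
  (exists_liftM hp φ φ' g h).choose_spec.2

include hp in
theorem cancelM {a b a' : 𝒳} (φ : a ⟶ b) {ψ ψ' : a' ⟶ a} (h1 : p.map ψ = p.map ψ')
    (h2 : ψ ≫ φ = ψ' ≫ φ) : ψ = ψ' := by
  haveI := hp.isStronglyCartesian φ
  haveI : p.IsHomLift (p.map ψ) ψ' := by rw [h1]; infer_instance
  exact Functor.IsStronglyCartesian.ext p (p.map φ) φ (p.map ψ) h2

theorem liftM_uniq {a b a' : 𝒳} (φ : a ⟶ b) (φ' : a' ⟶ b) (g : p.obj a' ⟶ p.obj a)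
    (h : p.map φ' = g ≫ p.map φ) (ψ : a' ⟶ a) (h1 : p.map ψ = g) (h2 : ψ ≫ φ = φ') :
    ψ = liftM hp φ φ' g h :=
  cancelM hp φ (by rw [h1, map_liftM]) (by rw [h2, liftM_fac])

include hp in
theorem exists_pull (b : 𝒳) {W : D} (g : W ⟶ p.obj b) :
    ∃ (a : 𝒳) (i : W ≅ p.obj a) (φ : a ⟶ b), p.map φ = i.inv ≫ g := by
  obtain ⟨a, φ, hφ⟩ := hp.exists_lift g
  have ha : p.obj a = W := IsHomLift.domain_eq p g φ
  refine ⟨a, eqToIso ha.symm, φ, ?_⟩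
  have := IsHomLift.fac' p g φ
  simpa using this

include hp in
theorem exists_pull' (b : 𝒳) {W : D} (g : W ⟶ p.obj b) :
    ∃ (a : 𝒳) (ha : p.obj a = W) (φ : a ⟶ b), p.map φ = eqToHom ha ≫ g := by
  obtain ⟨a, φ, hφ⟩ := hp.exists_lift g
  have ha : p.obj a = W := IsHomLift.domain_eq p g φ
  refine ⟨a, ha, φ, ?_⟩
  have := IsHomLift.fac' p g φ
  simpa using this

theorem isHomLift_of_map {a b : 𝒳} {Z : D} (g : Z ⟶ p.obj b) (φ : a ⟶ b) (ha : p.obj a = Z)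
    (h : p.map φ = eqToHom ha ≫ g) : p.IsHomLift g φ :=
  IsHomLift.of_fac' p g φ ha rfl (by simpa using h)

theorem map_of_isHomLift {a b : 𝒳} {Z : D} (g : Z ⟶ p.obj b) (φ : a ⟶ b)
    (h : p.IsHomLift g φ) : p.map φ = eqToHom (IsHomLift.domain_eq p g φ) ≫ g := by
  have := IsHomLift.fac' p g φ
  simpa using this

include hp in
theorem isIso_of_isIso_map {a b : 𝒳} (φ : a ⟶ b) [IsIso (p.map φ)] : IsIso φ :=
  FibGrpd.isIso_of_base_isIso p hp (p.map φ) φ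

end FGmap

section Pi1

variable {C : Type u} [Category.{v} C] {D : Type u₂} [Category.{v₂} D] (u : C ⥤ D)
  {S : Type u₃} [Category.{v₃} S] (p : S ⥤ D)

theorem map_snd_eq {t t' : CategoricalPullback u p} (Φ : t' ⟶ t) :
    p.map Φ.snd = t'.iso.inv ≫ u.map Φ.fst ≫ t.iso.hom := by
  rw [Φ.w]; simp

theorem pi1_isHomLift {t t' : CategoricalPullback u p} (Φ : t' ⟶ t) :
    (CategoricalPullback.π₁ u p).IsHomLift Φ.fst Φ :=
  inferInstanceAs ((CategoricalPullback.π₁ u p).IsHomLift ((CategoricalPullback.π₁ u p).map Φ) Φ)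

theorem fst_eq_of_isHomLift {t t' : CategoricalPullback u p} (Φ : t' ⟶ t) (f : t'.fst ⟶ t.fst)
    (h : (CategoricalPullback.π₁ u p).IsHomLift f Φ) : Φ.fst = f :=
  (IsHomLift.eq_of_isHomLift (CategoricalPullback.π₁ u p) f Φ).symm

variable {p} in
theorem isFibGrpd_pi1 (hp : FibCat.IsFibGrpd p) :
    FibCat.IsFibGrpd (CategoricalPullback.π₁ u p) where
  exists_lift := by
    intro t V f
    let f' : V ⟶ t.fst := f
    obtain ⟨s', i, χ, hχ⟩ := exists_pull hp t.snd (u.map f' ≫ t.iso.hom)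
    let t' : CategoricalPullback u p := ⟨V, s', i⟩
    let Φ : t' ⟶ t := ⟨f', χ, by rw [hχ]; simp [t']⟩
    exact ⟨t', Φ, pi1_isHomLift u p Φ⟩
  isStronglyCartesian := by
    intro t' t Φ
    refine { toIsHomLift := inferInstance, universal_property' := ?_ }
    intro t'' g Φ'' hΦ''
    let g' : t''.fst ⟶ t'.fst := g
    have hfst : Φ''.fst = g' ≫ Φ.fst := fst_eq_of_isHomLift u p Φ'' (g' ≫ Φ.fst) hΦ''
    have hsnd : p.map Φ''.snd = (t''.iso.inv ≫ u.map g' ≫ t'.iso.hom) ≫ p.map Φ.snd := by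
      rw [map_snd_eq u p Φ'', map_snd_eq u p Φ, hfst, u.map_comp]
      simp
    let χ' : t'' ⟶ t' := ⟨g', liftM hp Φ.snd Φ''.snd _ hsnd, by rw [map_liftM]; simp⟩
    refine ⟨χ', ⟨pi1_isHomLift u p χ', ?_⟩, ?_⟩
    · exact CategoricalPullback.hom_ext hfst.symm (liftM_fac hp _ _ _ hsnd)
    · rintro χ₂ ⟨hχ₂l, hχ₂⟩
      have k1 : χ₂.fst = g' := fst_eq_of_isHomLift u p χ₂ g' hχ₂l
      refine CategoricalPullback.hom_ext k1 ?_
      refine liftM_uniq hp _ _ _ hsnd χ₂.snd ?_ ?_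
      · rw [map_snd_eq u p χ₂, k1]
      · rw [← hχ₂]; rfl

end Pi1

section Main

variable {C : Type u} [Category.{v} C] {D : Type u₂} [Category.{v₂} D] [HasPullbacks C]
  (u : C ⥤ D) [PreservesLimitsOfShape WalkingCospan u] (𝒮 : BasedCategory.{v₃, u₃} D)

/-- The based category `C ×_D 𝒮` over `C`. -/
abbrev P : BasedCategory.{max v v₃, max u u₃ v₂} C :=
  BasedCategory.ofFunctor (CategoricalPullback.π₁ u 𝒮.p)

variable {u} in
/-- Amalgamation of two factorizations through the image of the pullback. -/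
theorem exists_amalg {U V₁ V₂ : C} (f₁ : V₁ ⟶ U) (f₂ : V₂ ⟶ U) {Z : D} (k₁ : Z ⟶ u.obj V₁)
    (k₂ : Z ⟶ u.obj V₂) (h : k₁ ≫ u.map f₁ = k₂ ≫ u.map f₂) :
    ∃ κ : Z ⟶ u.obj (pullback f₁ f₂), κ ≫ u.map (pullback.fst f₁ f₂) = k₁ ∧
      κ ≫ u.map (pullback.snd f₁ f₂) = k₂ :=
  let sq := (IsPullback.of_hasPullback f₁ f₂).map u
  ⟨sq.lift k₁ k₂ h, sq.lift_fst _ _ _, sq.lift_snd _ _ _⟩

variable {u} in
theorem amalg_ext {U V₁ V₂ : C} (f₁ : V₁ ⟶ U) (f₂ : V₂ ⟶ U) {Z : D}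
    {κ κ' : Z ⟶ u.obj (pullback f₁ f₂)}
    (h1 : κ ≫ u.map (pullback.fst f₁ f₂) = κ' ≫ u.map (pullback.fst f₁ f₂))
    (h2 : κ ≫ u.map (pullback.snd f₁ f₂) = κ' ≫ u.map (pullback.snd f₁ f₂)) : κ = κ' :=
  ((IsPullback.of_hasPullback f₁ f₂).map u).hom_ext h1 h2

variable {u 𝒮} (h𝒮 : FibCat.IsFibGrpd 𝒮.p) {J : GrothendieckTopology C}
  {K : GrothendieckTopology D} (hcp : CoverPreserving J K u)

include h𝒮 hcp in
theorem uniqMor_P (hu : ∀ ⦃W : D⦄ (T : Sieve W), T ∈ K W → UniqMor T 𝒮) {U : C} (R : Sieve U)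
    (hR : R ∈ J U) : UniqMor R (P u 𝒮) := by
  intro t₁ t₂ Φ Ψ hΦ hΨ hloc
  have e1 : t₁.fst = U := IsHomLift.domain_eq (P u 𝒮).p (𝟙 U) Φ
  obtain ⟨c₁, s₁, i₁⟩ := t₁
  dsimp at e1
  subst e1
  have hfst : Φ.fst = Ψ.fst := by
    have h1 := IsHomLift.fac' (P u 𝒮).p (𝟙 c₁) Φ
    have h2 := IsHomLift.fac' (P u 𝒮).p (𝟙 c₁) Ψ
    exact h1.trans h2.symm
  refine CategoricalPullback.hom_ext hfst ?_
  let T : Sieve (𝒮.p.obj s₁) := (R.functorPushforward u).pullback i₁.inv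
  have hT : T ∈ K _ := K.pullback_stable _ (hcp.cover_preserve hR)
  have hΨΦ : 𝒮.p.map Ψ.snd = 𝟙 _ ≫ 𝒮.p.map Φ.snd := by
    rw [map_snd_eq, map_snd_eq, hfst]; simp
  have hχ : liftM h𝒮 Φ.snd Ψ.snd (𝟙 _) hΨΦ = 𝟙 _ := by
    refine Groth.Agent.Lib.Helper27.StackLocal.aut_eq_id h𝒮 T (hu T hT) _
      (isHomLift_of_map _ _ rfl (by simp)) ?_
    intro Z b hb
    obtain ⟨V, f, k, hf, hk⟩ := hb
    obtain ⟨t', A, hA⟩ := (isFibGrpd_pi1 u h𝒮).exists_lift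
      (x := (⟨c₁, s₁, i₁⟩ : CategoricalPullback u 𝒮.p)) f
    haveI : (P u 𝒮).p.IsHomLift f A := hA
    have et' : t'.fst = V := IsHomLift.domain_eq (P u 𝒮).p f A
    obtain ⟨c', s', i'⟩ := t'
    dsimp at et'
    subst et'
    have hAf : A.fst = f := fst_eq_of_isHomLift u 𝒮.p A f hA
    obtain ⟨x', hx', c₀, hc₀⟩ := exists_pull' h𝒮 s' (k ≫ i'.hom)
    have hAs : 𝒮.p.map A.snd = i'.inv ≫ u.map f ≫ i₁.hom := by
      rw [map_snd_eq, hAf]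
    have hb' : b = k ≫ u.map f ≫ i₁.hom := by
      rw [← Category.assoc, ← hk]; simp
    refine ⟨x', c₀ ≫ A.snd, isHomLift_of_map _ _ hx' ?_, ?_⟩
    · rw [𝒮.p.map_comp, hc₀, hAs, hb']; simp
    · have h1 := hloc f (x' := (⟨c', s', i'⟩ : CategoricalPullback u 𝒮.p)) A hf hA
      have h2 : A.snd ≫ Φ.snd = A.snd ≫ Ψ.snd := congrArg CategoricalPullback.Hom.snd h1
      apply cancelM h𝒮 Φ.snd
      · simp
      · rw [Category.assoc, Category.assoc, liftM_fac, ← h2, Category.assoc]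
  have := liftM_fac h𝒮 Φ.snd Ψ.snd (𝟙 _) hΨΦ
  rw [hχ, Category.id_comp] at this
  exact this

section Glue

variable {U : C} (R : Sieve U) {s₁ s₂ : 𝒮.obj} (i₁ : u.obj U ≅ 𝒮.p.obj s₁)
  (i₂ : u.obj U ≅ 𝒮.p.obj s₂)
  (M : MatchFam R (P u 𝒮) (⟨U, s₁, i₁⟩ : CategoricalPullback u 𝒮.p)
    (⟨U, s₂, i₂⟩ : CategoricalPullback u 𝒮.p))

theorem isHomLift_of_fst {V : C} (f : V ⟶ U) {s' s : 𝒮.obj} {i' : u.obj V ≅ 𝒮.p.obj s'}
    {i : u.obj U ≅ 𝒮.p.obj s}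
    (A : (⟨V, s', i'⟩ : CategoricalPullback u 𝒮.p) ⟶ (⟨U, s, i⟩ : CategoricalPullback u 𝒮.p))
    (hAf : A.fst = f) : (P u 𝒮).p.IsHomLift f A := by
  subst hAf
  exact pi1_isHomLift u 𝒮.p A

include h𝒮 in
/-- Independence of the factorization. -/
theorem mu_indep {V V' : C} (f : V ⟶ U) (f' : V' ⟶ U) (hf : R f) (hf' : R f')
    {s' s'' : 𝒮.obj} (i' : u.obj V ≅ 𝒮.p.obj s') (i'' : u.obj V' ≅ 𝒮.p.obj s'')
    (A : (⟨V, s', i'⟩ : CategoricalPullback u 𝒮.p) ⟶ (⟨U, s₁, i₁⟩ : CategoricalPullback u 𝒮.p))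
    (A' : (⟨V', s'', i''⟩ : CategoricalPullback u 𝒮.p) ⟶
      (⟨U, s₁, i₁⟩ : CategoricalPullback u 𝒮.p))
    (hAf : A.fst = f) (hAf' : A'.fst = f') {x' : 𝒮.obj} (a' : x' ⟶ s') (a'' : x' ⟶ s'')
    (haa : a' ≫ A.snd = a'' ≫ A'.snd) :
    a' ≫ (M.m f A hf (isHomLift_of_fst f A hAf)).snd =
      a'' ≫ (M.m f' A' hf' (isHomLift_of_fst f' A' hAf')).snd := by
  have hA := isHomLift_of_fst f A hAf
  have hA' := isHomLift_of_fst f' A' hAf'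
  have hAs : 𝒮.p.map A.snd = i'.inv ≫ u.map f ≫ i₁.hom := by rw [map_snd_eq, hAf]
  have hAs' : 𝒮.p.map A'.snd = i''.inv ≫ u.map f' ≫ i₁.hom := by rw [map_snd_eq, hAf']
  -- the two factorizations
  have hk : (𝒮.p.map a' ≫ i'.inv) ≫ u.map f = (𝒮.p.map a'' ≫ i''.inv) ≫ u.map f' := by
    have h1 := congrArg (fun z => 𝒮.p.map z ≫ i₁.inv) haa
    simp only [Functor.map_comp, hAs, hAs', Category.assoc, Iso.hom_inv_id, Category.comp_id]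
      at h1
    simpa using h1
  obtain ⟨κ, hκ₁, hκ₂⟩ := exists_amalg f f' _ _ hk
  have hf₀ : R (pullback.fst f f' ≫ f) := R.downward_closed hf _
  obtain ⟨t₀, A₀, hA₀⟩ := (isFibGrpd_pi1 u h𝒮).exists_lift
    (x := (⟨U, s₁, i₁⟩ : CategoricalPullback u 𝒮.p)) (pullback.fst f f' ≫ f)
  haveI : (P u 𝒮).p.IsHomLift (pullback.fst f f' ≫ f) A₀ := hA₀
  have et₀ : t₀.fst = pullback f f' :=
    IsHomLift.domain_eq (P u 𝒮).p (pullback.fst f f' ≫ f) A₀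
  obtain ⟨c₀, s₀, i₀⟩ := t₀
  dsimp at et₀
  subst et₀
  have hA₀f : A₀.fst = pullback.fst f f' ≫ f := fst_eq_of_isHomLift u 𝒮.p A₀ _ hA₀
  have hA₀s : 𝒮.p.map A₀.snd = i₀.inv ≫ u.map (pullback.fst f f' ≫ f) ≫ i₁.hom := by
    rw [map_snd_eq, hA₀f]
  have hP := isFibGrpd_pi1 u h𝒮
  -- the comparison maps
  let G₁ := FG.lift hP f A hA (pullback.fst f f') rfl A₀ hA₀
  have hG₁l : (P u 𝒮).p.IsHomLift (pullback.fst f f') G₁ := FG.lift_isHomLift hP _ _ _ _ _ _ _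
  have hG₁ : G₁ ≫ A = A₀ := FG.lift_fac hP _ _ _ _ _ _ _
  have hG₁f : G₁.fst = pullback.fst f f' := fst_eq_of_isHomLift u 𝒮.p G₁ _ hG₁l
  let G₂ := FG.lift hP f' A' hA' (pullback.snd f f') pullback.condition A₀ hA₀
  have hG₂l : (P u 𝒮).p.IsHomLift (pullback.snd f f') G₂ := FG.lift_isHomLift hP _ _ _ _ _ _ _
  have hG₂ : G₂ ≫ A' = A₀ := FG.lift_fac hP _ _ _ _ _ _ _
  have hG₂f : G₂.fst = pullback.snd f f' := fst_eq_of_isHomLift u 𝒮.p G₂ _ hG₂l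
  have hG₁s : 𝒮.p.map G₁.snd = i₀.inv ≫ u.map (pullback.fst f f') ≫ i'.hom := by
    rw [map_snd_eq, hG₁f]
  have hG₂s : 𝒮.p.map G₂.snd = i₀.inv ≫ u.map (pullback.snd f f') ≫ i''.hom := by
    rw [map_snd_eq, hG₂f]
  -- lift of a through A₀
  have hcond : 𝒮.p.map (a' ≫ A.snd) = (κ ≫ i₀.hom) ≫ 𝒮.p.map A₀.snd := by
    rw [hA₀s, Functor.map_comp, hAs, u.map_comp]
    simp only [Category.assoc, Iso.hom_inv_id_assoc]
    rw [reassoc_of% hκ₁]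
  let a₀ := liftM h𝒮 A₀.snd (a' ≫ A.snd) (κ ≫ i₀.hom) hcond
  have ha₀ : a₀ ≫ A₀.snd = a' ≫ A.snd := liftM_fac h𝒮 _ _ _ hcond
  have ha₀m : 𝒮.p.map a₀ = κ ≫ i₀.hom := map_liftM h𝒮 _ _ _ hcond
  have e1 : a₀ ≫ G₁.snd = a' := by
    apply cancelM h𝒮 A.snd
    · rw [Functor.map_comp, ha₀m, hG₁s]
      simp only [Category.assoc, Iso.hom_inv_id_assoc]
      rw [reassoc_of% hκ₁]
      simp
    · rw [Category.assoc, ← ha₀]
      congr 1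
      exact congrArg CategoricalPullback.Hom.snd hG₁
  have e2 : a₀ ≫ G₂.snd = a'' := by
    apply cancelM h𝒮 A'.snd
    · rw [Functor.map_comp, ha₀m, hG₂s]
      simp only [Category.assoc, Iso.hom_inv_id_assoc]
      rw [reassoc_of% hκ₂]
      simp
    · rw [Category.assoc, ← haa, ← ha₀]
      congr 1
      exact congrArg CategoricalPullback.Hom.snd hG₂
  -- compatibility of M
  have c1 : M.m (pullback.fst f f' ≫ f) A₀ hf₀ hA₀ = G₁ ≫ M.m f A hf hA := by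
    have hba : (P u 𝒮).p.IsHomLift (pullback.fst f f' ≫ f) (G₁ ≫ A) := by rw [hG₁]; exact hA₀
    rw [← M.compat f (pullback.fst f f') A G₁ hf hA hG₁l hba]
    exact M.m_congr rfl hG₁.symm _ _ _ _
  have c2 : M.m (pullback.fst f f' ≫ f) A₀ hf₀ hA₀ = G₂ ≫ M.m f' A' hf' hA' := by
    have hba : (P u 𝒮).p.IsHomLift (pullback.snd f f' ≫ f') (G₂ ≫ A') := by
      rw [hG₂, ← pullback.condition]; exact hA₀
    rw [← M.compat f' (pullback.snd f f') A' G₂ hf' hA' hG₂l hba]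
    exact M.m_congr pullback.condition hG₂.symm _ _ _ _
  have c1' := congrArg CategoricalPullback.Hom.snd c1
  have c2' := congrArg CategoricalPullback.Hom.snd c2
  rw [← e1, ← e2, Category.assoc, Category.assoc]
  congr 1
  exact c1'.symm.trans c2'

/-- `ν` is a candidate value of the glued morphism at `a`. -/
def IsMu {x' : 𝒮.obj} (a : x' ⟶ s₁) (ν : x' ⟶ s₂) : Prop :=
  ∃ (V : C) (f : V ⟶ U) (hf : R f) (s' : 𝒮.obj) (i' : u.obj V ≅ 𝒮.p.obj s')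
    (A : (⟨V, s', i'⟩ : CategoricalPullback u 𝒮.p) ⟶
      (⟨U, s₁, i₁⟩ : CategoricalPullback u 𝒮.p)) (hAf : A.fst = f) (a' : x' ⟶ s'),
    a' ≫ A.snd = a ∧ ν = a' ≫ (M.m f A hf (isHomLift_of_fst f A hAf)).snd

variable {R i₁ i₂ M}

include h𝒮 in
theorem IsMu.unique {x' : 𝒮.obj} {a : x' ⟶ s₁} {ν ν' : x' ⟶ s₂} (h : IsMu R i₁ i₂ M a ν)
    (h' : IsMu R i₁ i₂ M a ν') : ν = ν' := by
  obtain ⟨V, f, hf, s', i', A, hAf, a', ha', rfl⟩ := h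
  obtain ⟨V', f', hf', s'', i'', A', hAf', a'', ha'', rfl⟩ := h'
  exact mu_indep h𝒮 R i₁ i₂ M f f' hf hf' i' i'' A A' hAf hAf' a' a'' (ha'.trans ha''.symm)

theorem IsMu.map {x' : 𝒮.obj} {a : x' ⟶ s₁} {ν : x' ⟶ s₂} (h : IsMu R i₁ i₂ M a ν) :
    𝒮.p.map ν = 𝒮.p.map a ≫ i₁.inv ≫ i₂.hom := by
  obtain ⟨V, f, hf, s', i', A, hAf, a', rfl, rfl⟩ := h
  have hl := M.lift f A hf (isHomLift_of_fst f A hAf)
  have hmf : (M.m f A hf (isHomLift_of_fst f A hAf)).fst = f :=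
    fst_eq_of_isHomLift u 𝒮.p (t' := (⟨V, s', i'⟩ : CategoricalPullback u 𝒮.p))
      (t := (⟨U, s₂, i₂⟩ : CategoricalPullback u 𝒮.p)) (M.m f A hf (isHomLift_of_fst f A hAf)) f hl
  rw [Functor.map_comp, Functor.map_comp, map_snd_eq, map_snd_eq, hmf, hAf]
  simp

theorem IsMu.precomp {x' x'' : 𝒮.obj} {a : x' ⟶ s₁} {ν : x' ⟶ s₂} (h : IsMu R i₁ i₂ M a ν)
    (a₂ : x'' ⟶ x') : IsMu R i₁ i₂ M (a₂ ≫ a) (a₂ ≫ ν) := by
  obtain ⟨V, f, hf, s', i', A, hAf, a', rfl, rfl⟩ := h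
  exact ⟨V, f, hf, s', i', A, hAf, a₂ ≫ a', by simp, by simp⟩

theorem isMu_of_lift {V : C} (f : V ⟶ U) (hf : R f) {s' : 𝒮.obj} (i' : u.obj V ≅ 𝒮.p.obj s')
    (A : (⟨V, s', i'⟩ : CategoricalPullback u 𝒮.p) ⟶
      (⟨U, s₁, i₁⟩ : CategoricalPullback u 𝒮.p)) (hAf : A.fst = f) :
    IsMu R i₁ i₂ M A.snd (M.m f A hf (isHomLift_of_fst f A hAf)).snd :=
  ⟨V, f, hf, s', i', A, hAf, 𝟙 _, by simp, by simp⟩

include h𝒮 in
theorem exists_isMu {x' : 𝒮.obj} (a : x' ⟶ s₁)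
    (hT : ((R.functorPushforward u).pullback i₁.inv) (𝒮.p.map a)) :
    ∃ ν, IsMu R i₁ i₂ M a ν := by
  obtain ⟨V, f, k, hf, hk⟩ := hT
  obtain ⟨t', A, hA⟩ := (isFibGrpd_pi1 u h𝒮).exists_lift
    (x := (⟨U, s₁, i₁⟩ : CategoricalPullback u 𝒮.p)) f
  haveI : (P u 𝒮).p.IsHomLift f A := hA
  have et' : t'.fst = V := IsHomLift.domain_eq (P u 𝒮).p f A
  obtain ⟨c', s', i'⟩ := t'
  dsimp at et'
  subst et'
  have hAf : A.fst = f := fst_eq_of_isHomLift u 𝒮.p A f hA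
  have hcond : 𝒮.p.map a = (k ≫ i'.hom) ≫ 𝒮.p.map A.snd := by
    rw [map_snd_eq, hAf]
    simp only [Category.assoc, Iso.hom_inv_id_assoc]
    rw [← reassoc_of% hk]
    simp
  exact ⟨_, c', f, hf, s', i', A, hAf, liftM h𝒮 A.snd a (k ≫ i'.hom) hcond,
    liftM_fac h𝒮 _ _ _ hcond, rfl⟩

end Glue

include h𝒮 hcp in
theorem glueMor_P (hg : ∀ ⦃W : D⦄ (T : Sieve W), T ∈ K W → GlueMor T 𝒮) {U : C} (R : Sieve U)
    (hR : R ∈ J U) : GlueMor R (P u 𝒮) := by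
  intro t₁ t₂ e1 e2 M
  obtain ⟨c₁, s₁, i₁⟩ := t₁
  obtain ⟨c₂, s₂, i₂⟩ := t₂
  change c₁ = U at e1
  change c₂ = U at e2
  subst e1
  subst e2
  let T : Sieve (𝒮.p.obj s₁) := (R.functorPushforward u).pullback i₁.inv
  have hT : T ∈ K _ := K.pullback_stable _ (hcp.cover_preserve hR)
  obtain ⟨y, hy, c, hc⟩ := exists_pull' h𝒮 s₂ (i₁.inv ≫ i₂.hom)
  have hTa : ∀ {Z : D} (b : Z ⟶ 𝒮.p.obj s₁) {x' : 𝒮.obj} (a : x' ⟶ s₁), T b →
      𝒮.p.IsHomLift b a → T (𝒮.p.map a) := by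
    intro Z b x' a hb ha
    rw [map_of_isHomLift b a ha]
    exact T.downward_closed hb _
  have hex : ∀ {Z : D} (b : Z ⟶ 𝒮.p.obj s₁) {x' : 𝒮.obj} (a : x' ⟶ s₁), T b →
      𝒮.p.IsHomLift b a → ∃ ν, IsMu R i₁ i₂ M a ν := by
    intro Z b x' a hb ha
    exact exists_isMu h𝒮 a (hTa b a hb ha)
  have hcond : ∀ {Z : D} (b : Z ⟶ 𝒮.p.obj s₁) {x' : 𝒮.obj} (a : x' ⟶ s₁) (hb : T b)
      (ha : 𝒮.p.IsHomLift b a),
      𝒮.p.map (hex b a hb ha).choose = (𝒮.p.map a ≫ eqToHom hy.symm) ≫ 𝒮.p.map c := by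
    intro Z b x' a hb ha
    rw [(hex b a hb ha).choose_spec.map, hc]
    simp
  let M' : MatchFam T 𝒮 s₁ y :=
    { m := fun Z b x' a hb ha =>
        liftM h𝒮 c (hex b a hb ha).choose (𝒮.p.map a ≫ eqToHom hy.symm) (hcond b a hb ha)
      lift := fun Z b x' a hb ha =>
        IsHomLift.of_fac' 𝒮.p b _ (IsHomLift.domain_eq 𝒮.p b a) hy (by
          rw [map_liftM, map_of_isHomLift b a ha, Category.assoc])
      compat := fun Z Z' b g x' x'' a a₂ hb ha ha₂ hba => by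
        apply cancelM h𝒮 c
        · simp [map_liftM]
        · rw [liftM_fac, Category.assoc, liftM_fac]
          exact (hex (g ≫ b) (a₂ ≫ a) (T.downward_closed hb g) hba).choose_spec.unique h𝒮
            ((hex b a hb ha).choose_spec.precomp a₂) }
  obtain ⟨φ', hφ'l, hφ'⟩ := hg T hT s₁ y rfl hy M'
  have hφ'm : 𝒮.p.map φ' = eqToHom hy.symm := by
    have := IsHomLift.fac' 𝒮.p (𝟙 (𝒮.p.obj s₁)) φ'
    simpa using this
  let Φ : (⟨c₂, s₁, i₁⟩ : CategoricalPullback u 𝒮.p) ⟶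
      (⟨c₂, s₂, i₂⟩ : CategoricalPullback u 𝒮.p) :=
    ⟨𝟙 _, φ' ≫ c, by rw [Functor.map_comp, hφ'm, hc]; simp⟩
  refine ⟨Φ, pi1_isHomLift u 𝒮.p Φ, ?_⟩
  intro V f t' A hf hA
  haveI : (P u 𝒮).p.IsHomLift f A := hA
  have et' : t'.fst = V := IsHomLift.domain_eq (P u 𝒮).p f A
  obtain ⟨c', s', i'⟩ := t'
  dsimp at et'
  subst et'
  have hAf : A.fst = f := fst_eq_of_isHomLift u 𝒮.p A f hA
  have hml := M.lift f A hf hA
  have hmf : (M.m f A hf hA).fst = f :=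
    fst_eq_of_isHomLift u 𝒮.p (t' := (⟨c', s', i'⟩ : CategoricalPullback u 𝒮.p))
      (t := (⟨c₂, s₂, i₂⟩ : CategoricalPullback u 𝒮.p)) (M.m f A hf hA) f hml
  refine CategoricalPullback.hom_ext ?_ ?_
  · change A.fst ≫ 𝟙 _ = _
    rw [Category.comp_id, hAf, hmf]
  · change A.snd ≫ φ' ≫ c = _
    have hb : T (𝒮.p.map A.snd) := ⟨c', f, i'.inv, hf, by
      change 𝒮.p.map A.snd ≫ i₁.inv = _
      rw [map_snd_eq, hAf]; simp⟩
    have h1 := hφ' (𝒮.p.map A.snd) A.snd hb inferInstance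
    have h2 : M'.m (𝒮.p.map A.snd) A.snd hb inferInstance ≫ c =
        (hex (𝒮.p.map A.snd) A.snd hb inferInstance).choose :=
      liftM_fac h𝒮 c _ _ (hcond (𝒮.p.map A.snd) A.snd hb inferInstance)
    rw [← Category.assoc, h1, h2]
    exact (hex _ _ hb inferInstance).choose_spec.unique h𝒮 (isMu_of_lift f hf i' A hAf)

end Main

end Groth.Agent.Lib.Helper27.CatPbStack
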