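import Groth.Agent.Lib.Helper27.CatPbStack

/-!
# `C ×_D 𝒮 ⟶ C` is a stack when `𝒮` is, part 2: raw descent data and compatible families
(helper27)
-/

set_option autoImplicit false
set_option backward.isDefEq.respectTransparency false
set_option backward.isDefEq.respectTransparency.types false

universe v₄ u₄ v₃ u₃ v₂ u₂ v u

open CategoryTheory CategoryTheory.Limits Groth.Agent.Lib.Helper16.FpFibGrpd
  Groth.Agent.Lib.Helper27.DescentKit Groth.Agent.Lib.Helper27.CatPbStack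

namespace Groth.Agent.Lib.Helper27.CatPbStack

section Raw

variable {C : Type u} [Category.{v} C] {D : Type u₂} [Category.{v₂} D] [HasPullbacks C]
  (u : C ⥤ D) [PreservesLimitsOfShape WalkingCospan u] (𝒮 : BasedCategory.{v₃, u₃} D)
  {U : C} (R : Sieve U)

/-- A `u`-descent datum in `𝒮` along the sieve `R`. -/
structure RawDD where
  d : ∀ ⦃V : C⦄ (f : V ⟶ U), R f → 𝒮.obj
  ι : ∀ ⦃V : C⦄ (f : V ⟶ U) (hf : R f), u.obj V ≅ 𝒮.p.obj (d f hf)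
  m : ∀ ⦃V₁ V₂ : C⦄ (h : V₁ ⟶ V₂) (f₁ : V₁ ⟶ U) (f₂ : V₂ ⟶ U) (hf₁ : R f₁) (hf₂ : R f₂),
    h ≫ f₂ = f₁ → (d f₁ hf₁ ⟶ d f₂ hf₂)
  hm : ∀ ⦃V₁ V₂ : C⦄ (h : V₁ ⟶ V₂) (f₁ : V₁ ⟶ U) (f₂ : V₂ ⟶ U) (hf₁ : R f₁) (hf₂ : R f₂)
    (e : h ≫ f₂ = f₁),
    𝒮.p.map (m h f₁ f₂ hf₁ hf₂ e) = (ι f₁ hf₁).inv ≫ u.map h ≫ (ι f₂ hf₂).hom
  m_id : ∀ ⦃V : C⦄ (f : V ⟶ U) (hf : R f), m (𝟙 V) f f hf hf (Category.id_comp f) = 𝟙 _
  m_comp : ∀ ⦃V₁ V₂ V₃ : C⦄ (h : V₁ ⟶ V₂) (h' : V₂ ⟶ V₃) (f₁ : V₁ ⟶ U) (f₂ : V₂ ⟶ U)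
    (f₃ : V₃ ⟶ U) (hf₁ : R f₁) (hf₂ : R f₂) (hf₃ : R f₃) (e : h ≫ f₂ = f₁) (e' : h' ≫ f₃ = f₂),
    m (h ≫ h') f₁ f₃ hf₁ hf₃ (by rw [Category.assoc, e', e]) =
      m h f₁ f₂ hf₁ hf₂ e ≫ m h' f₂ f₃ hf₂ hf₃ e'

variable {u 𝒮 R}

theorem RawDD.m_congr (E : RawDD u 𝒮 R) {V₁ V₂ : C} {h h' : V₁ ⟶ V₂} (hh : h = h')
    (f₁ : V₁ ⟶ U) (f₂ : V₂ ⟶ U) (hf₁ : R f₁) (hf₂ : R f₂) (e : h ≫ f₂ = f₁)
    (e' : h' ≫ f₂ = f₁) : E.m h f₁ f₂ hf₁ hf₂ e = E.m h' f₁ f₂ hf₁ hf₂ e' := by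
  subst hh
  rfl

/-- A compatible family of morphisms from `z` to the members of the descent datum, indexed by the
factorizations of `b`. -/
structure CompatFam (E : RawDD u 𝒮 R) (z : 𝒮.obj) {Z : D} (pre : 𝒮.p.obj z ⟶ Z)
    (b : Z ⟶ u.obj U) where
  γ : ∀ ⦃V : C⦄ (f : V ⟶ U) (hf : R f) (k : Z ⟶ u.obj V), k ≫ u.map f = b → (z ⟶ E.d f hf)
  hγ : ∀ ⦃V : C⦄ (f : V ⟶ U) (hf : R f) (k : Z ⟶ u.obj V) (hk : k ≫ u.map f = b),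
    𝒮.p.map (γ f hf k hk) = pre ≫ k ≫ (E.ι f hf).hom
  compat : ∀ ⦃V₁ V₂ : C⦄ (h : V₁ ⟶ V₂) (f₁ : V₁ ⟶ U) (f₂ : V₂ ⟶ U) (hf₁ : R f₁) (hf₂ : R f₂)
    (e : h ≫ f₂ = f₁) (k₁ : Z ⟶ u.obj V₁) (hk₁ : k₁ ≫ u.map f₁ = b),
    γ f₂ hf₂ (k₁ ≫ u.map h) (by rw [Category.assoc, ← u.map_comp, e, hk₁]) =
      γ f₁ hf₁ k₁ hk₁ ≫ E.m h f₁ f₂ hf₁ hf₂ e

variable {E : RawDD u 𝒮 R}

theorem CompatFam.γ_congr {z : 𝒮.obj} {Z : D} {pre : 𝒮.p.obj z ⟶ Z} {b : Z ⟶ u.obj U}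
    (G : CompatFam E z pre b) {V : C} (f : V ⟶ U) (hf : R f) {k k' : Z ⟶ u.obj V} (hkk : k = k')
    (hk : k ≫ u.map f = b) (hk' : k' ≫ u.map f = b) : G.γ f hf k hk = G.γ f hf k' hk' := by
  subst hkk
  rfl

variable (h𝒮 : FibCat.IsFibGrpd 𝒮.p)

include h𝒮 in
/-- Lemma A: a compatible family is determined by one of its values. -/
theorem CompatFam.eq_of_eq_at {z : 𝒮.obj} {Z : D} {pre pre' : 𝒮.p.obj z ⟶ Z} {b : Z ⟶ u.obj U}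
    (G : CompatFam E z pre b) (G' : CompatFam E z pre' b) (hpre : pre = pre')
    {V₀ : C} (f₀ : V₀ ⟶ U) (hf₀ : R f₀) (k₀ : Z ⟶ u.obj V₀) (hk₀ : k₀ ≫ u.map f₀ = b)
    (h0 : G.γ f₀ hf₀ k₀ hk₀ = G'.γ f₀ hf₀ k₀ hk₀)
    {V : C} (f : V ⟶ U) (hf : R f) (k : Z ⟶ u.obj V) (hk : k ≫ u.map f = b) :
    G.γ f hf k hk = G'.γ f hf k hk := by
  subst hpre
  obtain ⟨κ, hκ₁, hκ₂⟩ := exists_amalg f₀ f k₀ k (hk₀.trans hk.symm)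
  have hf'' : R (pullback.fst f₀ f ≫ f₀) := R.downward_closed hf₀ _
  have hκ'' : κ ≫ u.map (pullback.fst f₀ f ≫ f₀) = b := by
    rw [u.map_comp, reassoc_of% hκ₁, hk₀]
  have e2 : pullback.snd f₀ f ≫ f = pullback.fst f₀ f ≫ f₀ := pullback.condition.symm
  -- values at the amalgam agree
  have key : G.γ _ hf'' κ hκ'' = G'.γ _ hf'' κ hκ'' := by
    apply cancelM h𝒮 (E.m (pullback.fst f₀ f) _ f₀ hf'' hf₀ rfl)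
    · rw [G.hγ, G'.hγ]
    · rw [← G.compat (pullback.fst f₀ f) _ f₀ hf'' hf₀ rfl κ hκ'',
        ← G'.compat (pullback.fst f₀ f) _ f₀ hf'' hf₀ rfl κ hκ'',
        G.γ_congr f₀ hf₀ hκ₁ _ hk₀, G'.γ_congr f₀ hf₀ hκ₁ _ hk₀, h0]
  rw [← G.γ_congr f hf hκ₂ (by rw [hκ₂]; exact hk) hk,
    ← G'.γ_congr f hf hκ₂ (by rw [hκ₂]; exact hk) hk,
    G.compat (pullback.snd f₀ f) _ f hf'' hf e2 κ hκ'',
    G'.compat (pullback.snd f₀ f) _ f hf'' hf e2 κ hκ'', key]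

/-- Precomposition of a compatible family. -/
def CompatFam.precomp {z z' : 𝒮.obj} {Z : D} {pre : 𝒮.p.obj z ⟶ Z} {b : Z ⟶ u.obj U}
    (G : CompatFam E z pre b) (ψ : z' ⟶ z) : CompatFam E z' (𝒮.p.map ψ ≫ pre) b where
  γ := fun _ f hf k hk => ψ ≫ G.γ f hf k hk
  hγ := fun _ f hf k hk => by rw [Functor.map_comp, G.hγ, Category.assoc]
  compat := fun _ _ h f₁ f₂ hf₁ hf₂ e k₁ hk₁ => by
    rw [G.compat h f₁ f₂ hf₁ hf₂ e k₁ hk₁, Category.assoc]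

/-- Reindexing of a compatible family. -/
def CompatFam.reindex {z : 𝒮.obj} {Z Z' : D} {pre : 𝒮.p.obj z ⟶ Z} {b₀ : Z ⟶ u.obj U}
    (G : CompatFam E z pre b₀) (g : Z ⟶ Z') (b : Z' ⟶ u.obj U) (hb : g ≫ b = b₀) :
    CompatFam E z (pre ≫ g) b where
  γ := fun _ f hf k hk => G.γ f hf (g ≫ k) (by rw [Category.assoc, hk, hb])
  hγ := fun _ f hf k hk => by rw [G.hγ]; simp
  compat := fun _ _ h f₁ f₂ hf₁ hf₂ e k₁ hk₁ => by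
    rw [← G.compat h f₁ f₂ hf₁ hf₂ e (g ≫ k₁) (by rw [Category.assoc, hk₁, hb])]
    exact G.γ_congr f₂ hf₂ (Category.assoc _ _ _).symm _ _

section LemmaB

variable {z : 𝒮.obj} {Z : D} (pre : 𝒮.p.obj z ⟶ Z) (b : Z ⟶ u.obj U)
  {V₀ : C} (f₀ : V₀ ⟶ U) (hf₀ : R f₀) (k₀ : Z ⟶ u.obj V₀) (hk₀ : k₀ ≫ u.map f₀ = b)
  (γ₀ : z ⟶ E.d f₀ hf₀) (hγ₀ : 𝒮.p.map γ₀ = pre ≫ k₀ ≫ (E.ι f₀ hf₀).hom)

/-- The amalgam of `k₀` and `k`. -/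
noncomputable def amalgK {V : C} (f : V ⟶ U) (k : Z ⟶ u.obj V) (hk : k ≫ u.map f = b) :
    Z ⟶ u.obj (pullback f₀ f) :=
  ((IsPullback.of_hasPullback f₀ f).map u).lift k₀ k (hk₀.trans hk.symm)

@[reassoc]
theorem amalgK_fst {V : C} (f : V ⟶ U) (k : Z ⟶ u.obj V) (hk : k ≫ u.map f = b) :
    amalgK b f₀ k₀ hk₀ f k hk ≫ u.map (pullback.fst f₀ f) = k₀ :=
  ((IsPullback.of_hasPullback f₀ f).map u).lift_fst _ _ _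

@[reassoc]
theorem amalgK_snd {V : C} (f : V ⟶ U) (k : Z ⟶ u.obj V) (hk : k ≫ u.map f = b) :
    amalgK b f₀ k₀ hk₀ f k hk ≫ u.map (pullback.snd f₀ f) = k :=
  ((IsPullback.of_hasPullback f₀ f).map u).lift_snd _ _ _

include hγ₀ in
theorem bLift_cond {V : C} (f : V ⟶ U) (k : Z ⟶ u.obj V) (hk : k ≫ u.map f = b) :
    𝒮.p.map γ₀ = (pre ≫ amalgK b f₀ k₀ hk₀ f k hk ≫
      (E.ι (pullback.fst f₀ f ≫ f₀) (R.downward_closed hf₀ _)).hom) ≫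
      𝒮.p.map (E.m (pullback.fst f₀ f) _ f₀ (R.downward_closed hf₀ _) hf₀ rfl) := by
  rw [E.hm, hγ₀]
  simp only [Category.assoc, Iso.hom_inv_id_assoc]
  rw [amalgK_fst_assoc]

/-- The lift of `γ₀` to the amalgam. -/
noncomputable def bLift {V : C} (f : V ⟶ U) (k : Z ⟶ u.obj V) (hk : k ≫ u.map f = b) :
    z ⟶ E.d (pullback.fst f₀ f ≫ f₀) (R.downward_closed hf₀ _) :=
  liftM h𝒮 (E.m (pullback.fst f₀ f) _ f₀ (R.downward_closed hf₀ _) hf₀ rfl) γ₀ _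
    (bLift_cond pre b f₀ hf₀ k₀ hk₀ γ₀ hγ₀ f k hk)

theorem bLift_fac {V : C} (f : V ⟶ U) (k : Z ⟶ u.obj V) (hk : k ≫ u.map f = b) :
    bLift h𝒮 pre b f₀ hf₀ k₀ hk₀ γ₀ hγ₀ f k hk ≫
      E.m (pullback.fst f₀ f) _ f₀ (R.downward_closed hf₀ _) hf₀ rfl = γ₀ :=
  liftM_fac h𝒮 _ _ _ _

theorem map_bLift {V : C} (f : V ⟶ U) (k : Z ⟶ u.obj V) (hk : k ≫ u.map f = b) :
    𝒮.p.map (bLift h𝒮 pre b f₀ hf₀ k₀ hk₀ γ₀ hγ₀ f k hk) =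
      pre ≫ amalgK b f₀ k₀ hk₀ f k hk ≫
        (E.ι (pullback.fst f₀ f ≫ f₀) (R.downward_closed hf₀ _)).hom :=
  map_liftM h𝒮 _ _ _ _

theorem bLift_uniq {V : C} (f : V ⟶ U) (k : Z ⟶ u.obj V) (hk : k ≫ u.map f = b)
    (ψ : z ⟶ E.d (pullback.fst f₀ f ≫ f₀) (R.downward_closed hf₀ _))
    (h1 : 𝒮.p.map ψ = pre ≫ amalgK b f₀ k₀ hk₀ f k hk ≫
        (E.ι (pullback.fst f₀ f ≫ f₀) (R.downward_closed hf₀ _)).hom)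
    (h2 : ψ ≫ E.m (pullback.fst f₀ f) _ f₀ (R.downward_closed hf₀ _) hf₀ rfl = γ₀) :
    ψ = bLift h𝒮 pre b f₀ hf₀ k₀ hk₀ γ₀ hγ₀ f k hk :=
  liftM_uniq h𝒮 _ _ _ _ ψ h1 h2

include h𝒮 hγ₀ in
/-- Lemma B: a compatible family with prescribed value at one factorization. -/
theorem CompatFam.exists_of_value : ∃ G : CompatFam E z pre b, G.γ f₀ hf₀ k₀ hk₀ = γ₀ := by
  let G : CompatFam E z pre b :=
    { γ := fun V f hf k hk => bLift h𝒮 pre b f₀ hf₀ k₀ hk₀ γ₀ hγ₀ f k hk ≫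
        E.m (pullback.snd f₀ f) _ f (R.downward_closed hf₀ _) hf pullback.condition.symm
      hγ := fun V f hf k hk => by
        rw [Functor.map_comp, map_bLift, E.hm]
        simp only [Category.assoc, Iso.hom_inv_id_assoc]
        rw [amalgK_snd_assoc]
      compat := fun V₁ V₂ h f₁ f₂ hf₁ hf₂ e k₁ hk₁ => by
        let q : pullback f₀ f₁ ⟶ pullback f₀ f₂ :=
          pullback.lift (pullback.fst f₀ f₁) (pullback.snd f₀ f₁ ≫ h)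
            (by rw [Category.assoc, e, pullback.condition])
        have hq₁ : q ≫ pullback.fst f₀ f₂ = pullback.fst f₀ f₁ := pullback.lift_fst _ _ _
        have hq₂ : q ≫ pullback.snd f₀ f₂ = pullback.snd f₀ f₁ ≫ h := pullback.lift_snd _ _ _
        have hk₂ : (k₁ ≫ u.map h) ≫ u.map f₂ = b := by
          rw [Category.assoc, ← u.map_comp, e, hk₁]
        have hκ : amalgK b f₀ k₀ hk₀ f₂ (k₁ ≫ u.map h) hk₂ =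
            amalgK b f₀ k₀ hk₀ f₁ k₁ hk₁ ≫ u.map q := by
          apply amalg_ext f₀ f₂
          · rw [amalgK_fst, Category.assoc, ← u.map_comp, hq₁, amalgK_fst]
          · rw [amalgK_snd, Category.assoc, ← u.map_comp, hq₂, u.map_comp, amalgK_snd_assoc]
        have eq' : q ≫ (pullback.fst f₀ f₂ ≫ f₀) = pullback.fst f₀ f₁ ≫ f₀ := by
          rw [← Category.assoc, hq₁]
        have hl : bLift h𝒮 pre b f₀ hf₀ k₀ hk₀ γ₀ hγ₀ f₂ (k₁ ≫ u.map h) hk₂ =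
            bLift h𝒮 pre b f₀ hf₀ k₀ hk₀ γ₀ hγ₀ f₁ k₁ hk₁ ≫
              E.m q _ _ (R.downward_closed hf₀ _) (R.downward_closed hf₀ _) eq' := by
          symm
          apply bLift_uniq
          · rw [Functor.map_comp, map_bLift, E.hm, hκ]
            simp
          · rw [Category.assoc, ← E.m_comp q (pullback.fst f₀ f₂) _ _ f₀ _ _ hf₀ eq' rfl,
              E.m_congr hq₁ _ _ _ _ _ rfl]
            exact bLift_fac h𝒮 pre b f₀ hf₀ k₀ hk₀ γ₀ hγ₀ f₁ k₁ hk₁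
        rw [hl, Category.assoc, Category.assoc]
        congr 1
        rw [← E.m_comp q (pullback.snd f₀ f₂) _ _ f₂ _ _ hf₂ eq' pullback.condition.symm,
          ← E.m_comp (pullback.snd f₀ f₁) h _ f₁ f₂ _ hf₁ hf₂ pullback.condition.symm e]
        exact E.m_congr hq₂ _ _ _ _ _ _ }
  refine ⟨G, ?_⟩
  let δ : V₀ ⟶ pullback f₀ f₀ := pullback.lift (𝟙 _) (𝟙 _) rfl
  have hδ₁ : δ ≫ pullback.fst f₀ f₀ = 𝟙 _ := pullback.lift_fst _ _ _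
  have hδ₂ : δ ≫ pullback.snd f₀ f₀ = 𝟙 _ := pullback.lift_snd _ _ _
  have hκ : amalgK b f₀ k₀ hk₀ f₀ k₀ hk₀ = k₀ ≫ u.map δ := by
    apply amalg_ext f₀ f₀
    · rw [amalgK_fst, Category.assoc, ← u.map_comp, hδ₁]; simp
    · rw [amalgK_snd, Category.assoc, ← u.map_comp, hδ₂]; simp
  have eδ : δ ≫ (pullback.fst f₀ f₀ ≫ f₀) = f₀ := by
    rw [← Category.assoc, hδ₁, Category.id_comp]
  have hl : bLift h𝒮 pre b f₀ hf₀ k₀ hk₀ γ₀ hγ₀ f₀ k₀ hk₀ =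
      γ₀ ≫ E.m δ f₀ _ hf₀ (R.downward_closed hf₀ _) eδ := by
    symm
    apply bLift_uniq
    · rw [Functor.map_comp, hγ₀, E.hm, hκ]
      simp
    · rw [Category.assoc, ← E.m_comp δ (pullback.fst f₀ f₀) f₀ _ f₀ hf₀ _ hf₀ eδ rfl,
        E.m_congr hδ₁ f₀ f₀ hf₀ hf₀ _ (Category.id_comp _), E.m_id, Category.comp_id]
  change bLift h𝒮 pre b f₀ hf₀ k₀ hk₀ γ₀ hγ₀ f₀ k₀ hk₀ ≫
    E.m (pullback.snd f₀ f₀) _ f₀ (R.downward_closed hf₀ _) hf₀ pullback.condition.symm = γ₀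
  rw [hl, Category.assoc,
    ← E.m_comp δ (pullback.snd f₀ f₀) f₀ _ f₀ hf₀ _ hf₀ eδ pullback.condition.symm,
    E.m_congr hδ₂ f₀ f₀ hf₀ hf₀ _ (Category.id_comp _), E.m_id, Category.comp_id]

end LemmaB

end Raw

end Groth.Agent.Lib.Helper27.CatPbStack
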