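import Groth.Agent.Lib.Helper27.CatPbStack2

/-!
# `C ×_D 𝒮 ⟶ C` is a stack when `𝒮` is, part 3: effectiveness for raw descent data (helper27)
-/

set_option autoImplicit false
set_option backward.isDefEq.respectTransparency false
set_option backward.isDefEq.respectTransparency.types false

universe v₄ u₄ v₃ u₃ v₂ u₂ v u

open CategoryTheory CategoryTheory.Limits Groth.Agent.Lib.Helper16.FpFibGrpd
  Groth.Agent.Lib.Helper27.DescentKit Groth.Agent.Lib.Helper27.CatPbStack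

namespace Groth.Agent.Lib.Helper27.CatPbStack

section AbstractEff

variable {C : Type u} [Category.{v} C] {D : Type u₂} [Category.{v₂} D] [HasPullbacks C]
  {u : C ⥤ D} [PreservesLimitsOfShape WalkingCospan u] {𝒮 : BasedCategory.{v₃, u₃} D}
  {U : C} {R : Sieve U} (h𝒮 : FibCat.IsFibGrpd 𝒮.p) (E : RawDD u 𝒮 R)

/-- The choices attached to a member of the pushed-forward sieve. -/
structure Choice (β : (Stk.sieveCat (R.functorPushforward u)).obj) where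
  V : C
  f : V ⟶ U
  hf : R f
  k : β.obj.left ⟶ u.obj V
  hk : k ≫ u.map f = β.obj.hom
  x : 𝒮.obj
  hx : 𝒮.p.obj x = β.obj.left
  c : x ⟶ E.d f hf
  hc : 𝒮.p.map c = eqToHom hx ≫ k ≫ (E.ι f hf).hom
  Γ : CompatFam E x (eqToHom hx) β.obj.hom
  hΓ : Γ.γ f hf k hk = c

include h𝒮 in
theorem nonempty_choice (β : (Stk.sieveCat (R.functorPushforward u)).obj) :
    Nonempty (Choice E β) := by
  obtain ⟨V, f, k, hf, hk⟩ := β.property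
  obtain ⟨x, hx, c, hc⟩ := exists_pull' h𝒮 (E.d f hf) (k ≫ (E.ι f hf).hom)
  obtain ⟨Γ, hΓ⟩ := CompatFam.exists_of_value h𝒮 (eqToHom hx) β.obj.hom f hf k hk.symm c hc
  exact ⟨⟨V, f, hf, k, hk.symm, x, hx, c, hc, Γ, hΓ⟩⟩

/-- The chosen data. -/
noncomputable def ch (β : (Stk.sieveCat (R.functorPushforward u)).obj) : Choice E β :=
  Classical.choice (nonempty_choice h𝒮 E β)

theorem dMap_aux {β' β : (Stk.sieveCat (R.functorPushforward u)).obj} (g : β' ⟶ β) :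
    (g.hom.left ≫ (ch h𝒮 E β).k) ≫ u.map (ch h𝒮 E β).f = β'.obj.hom := by
  rw [Category.assoc, (ch h𝒮 E β).hk]
  exact Over.w g.hom

theorem dMap_cond {β' β : (Stk.sieveCat (R.functorPushforward u)).obj} (g : β' ⟶ β) :
    𝒮.p.map ((ch h𝒮 E β').Γ.γ (ch h𝒮 E β).f (ch h𝒮 E β).hf (g.hom.left ≫ (ch h𝒮 E β).k)
      (dMap_aux h𝒮 E g)) =
    (eqToHom (ch h𝒮 E β').hx ≫ g.hom.left ≫ eqToHom (ch h𝒮 E β).hx.symm) ≫
      𝒮.p.map (ch h𝒮 E β).c := by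
  rw [(ch h𝒮 E β').Γ.hγ, (ch h𝒮 E β).hc]
  simp

/-- The transition maps of the descent datum on the pushed-forward sieve. -/
noncomputable def dMap {β' β : (Stk.sieveCat (R.functorPushforward u)).obj} (g : β' ⟶ β) :
    (ch h𝒮 E β').x ⟶ (ch h𝒮 E β).x :=
  liftM h𝒮 (ch h𝒮 E β).c _ _ (dMap_cond h𝒮 E g)

theorem dMap_fac {β' β : (Stk.sieveCat (R.functorPushforward u)).obj} (g : β' ⟶ β) :
    dMap h𝒮 E g ≫ (ch h𝒮 E β).c =
      (ch h𝒮 E β').Γ.γ (ch h𝒮 E β).f (ch h𝒮 E β).hf (g.hom.left ≫ (ch h𝒮 E β).k)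
        (dMap_aux h𝒮 E g) :=
  liftM_fac h𝒮 _ _ _ _

theorem map_dMap {β' β : (Stk.sieveCat (R.functorPushforward u)).obj} (g : β' ⟶ β) :
    𝒮.p.map (dMap h𝒮 E g) =
      eqToHom (ch h𝒮 E β').hx ≫ g.hom.left ≫ eqToHom (ch h𝒮 E β).hx.symm :=
  map_liftM h𝒮 _ _ _ _

/-- (★) -/
theorem dMap_γ {β' β : (Stk.sieveCat (R.functorPushforward u)).obj} (g : β' ⟶ β)
    {V : C} (f : V ⟶ U) (hf : R f) (k : β.obj.left ⟶ u.obj V) (hk : k ≫ u.map f = β.obj.hom) :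
    dMap h𝒮 E g ≫ (ch h𝒮 E β).Γ.γ f hf k hk =
      (ch h𝒮 E β').Γ.γ f hf (g.hom.left ≫ k)
        (by rw [Category.assoc, hk]; exact Over.w g.hom) := by
  have hpre : 𝒮.p.map (dMap h𝒮 E g) ≫ eqToHom (ch h𝒮 E β).hx =
      eqToHom (ch h𝒮 E β').hx ≫ g.hom.left := by
    rw [map_dMap]; simp
  have := CompatFam.eq_of_eq_at h𝒮 ((ch h𝒮 E β).Γ.precomp (dMap h𝒮 E g))
    ((ch h𝒮 E β').Γ.reindex g.hom.left β.obj.hom (Over.w g.hom)) hpre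
    (ch h𝒮 E β).f (ch h𝒮 E β).hf (ch h𝒮 E β).k (ch h𝒮 E β).hk ?_ f hf k hk
  · exact this
  · change dMap h𝒮 E g ≫ (ch h𝒮 E β).Γ.γ _ _ _ _ = (ch h𝒮 E β').Γ.γ _ _ _ _
    rw [(ch h𝒮 E β).hΓ, dMap_fac]

theorem sc_id_left {X : D} {T : Sieve X} (β : (Stk.sieveCat T).obj) :
    (𝟙 β : β ⟶ β).hom.left = 𝟙 β.obj.left := rfl

theorem sc_comp_left {X : D} {T : Sieve X} {β'' β' β : (Stk.sieveCat T).obj} (g' : β'' ⟶ β')
    (g : β' ⟶ β) : (g' ≫ g).hom.left = g'.hom.left ≫ g.hom.left := rfl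

/-- The descent datum on the pushed-forward sieve. -/
noncomputable def dFun : Stk.sieveCat (R.functorPushforward u) ⥤ᵇ 𝒮 where
  toFunctor :=
    { obj := fun β => (ch h𝒮 E β).x
      map := fun g => dMap h𝒮 E g
      map_id := fun β => by
        symm
        apply liftM_uniq
        · rw [sc_id_left]; simp
        · rw [Category.id_comp, ← (ch h𝒮 E β).hΓ]
          exact (ch h𝒮 E β).Γ.γ_congr _ _ (by rw [sc_id_left, Category.id_comp]) _ _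
      map_comp := fun {β'' β' β} g' g => by
        symm
        apply liftM_uniq
        · rw [Functor.map_comp, map_dMap, map_dMap, sc_comp_left]
          simp
        · rw [Category.assoc, dMap_fac, dMap_γ]
          exact (ch h𝒮 E β'').Γ.γ_congr _ _ (by rw [sc_comp_left, Category.assoc]) _ _ }
  w := by
    refine CategoryTheory.Functor.ext (fun β => (ch h𝒮 E β).hx) (fun β' β g => ?_)
    exact map_dMap h𝒮 E g

include h𝒮 in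
theorem exists_rho {V : C} (f : V ⟶ U) (hf : R f) :
    ∃ G : CompatFam E (E.d f hf) (E.ι f hf).inv (u.map f),
      G.γ f hf (𝟙 _) (Category.id_comp _) = 𝟙 _ :=
  CompatFam.exists_of_value h𝒮 (E.ι f hf).inv (u.map f) f hf (𝟙 _) (Category.id_comp _) (𝟙 _)
    (by simp)

/-- The canonical compatible family from a member of the descent datum. -/
noncomputable def rho {V : C} (f : V ⟶ U) (hf : R f) :
    CompatFam E (E.d f hf) (E.ι f hf).inv (u.map f) :=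
  (exists_rho h𝒮 E f hf).choose

theorem rho_spec {V : C} (f : V ⟶ U) (hf : R f) :
    (rho h𝒮 E f hf).γ f hf (𝟙 _) (Category.id_comp _) = 𝟙 _ :=
  (exists_rho h𝒮 E f hf).choose_spec

/-- The member of the pushed-forward sieve attached to `f ∈ R`. -/
def βof {V : C} (f : V ⟶ U) (hf : R f) : (Stk.sieveCat (R.functorPushforward u)).obj :=
  ⟨Over.mk (u.map f), ⟨V, f, 𝟙 _, hf, (Category.id_comp _).symm⟩⟩

theorem tau_cond {V : C} (f : V ⟶ U) (hf : R f) :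
    𝒮.p.map ((rho h𝒮 E f hf).γ (ch h𝒮 E (βof f hf)).f (ch h𝒮 E (βof f hf)).hf
      (ch h𝒮 E (βof f hf)).k (ch h𝒮 E (βof f hf)).hk) =
    ((E.ι f hf).inv ≫ eqToHom (ch h𝒮 E (βof f hf)).hx.symm) ≫
      𝒮.p.map (ch h𝒮 E (βof f hf)).c := by
  rw [(rho h𝒮 E f hf).hγ, (ch h𝒮 E (βof f hf)).hc]
  simp

/-- The comparison from a member of the descent datum to the chosen object over its image. -/
noncomputable def tau {V : C} (f : V ⟶ U) (hf : R f) :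
    E.d f hf ⟶ (ch h𝒮 E (βof f hf)).x :=
  liftM h𝒮 (ch h𝒮 E (βof f hf)).c _ _ (tau_cond h𝒮 E f hf)

theorem tau_fac {V : C} (f : V ⟶ U) (hf : R f) :
    tau h𝒮 E f hf ≫ (ch h𝒮 E (βof f hf)).c =
      (rho h𝒮 E f hf).γ (ch h𝒮 E (βof f hf)).f (ch h𝒮 E (βof f hf)).hf
        (ch h𝒮 E (βof f hf)).k (ch h𝒮 E (βof f hf)).hk :=
  liftM_fac h𝒮 _ _ _ _

theorem map_tau {V : C} (f : V ⟶ U) (hf : R f) :
    𝒮.p.map (tau h𝒮 E f hf) = (E.ι f hf).inv ≫ eqToHom (ch h𝒮 E (βof f hf)).hx.symm :=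
  map_liftM h𝒮 _ _ _ _

/-- Fact 1. -/
theorem tau_γ {V : C} (f : V ⟶ U) (hf : R f) {V' : C} (f' : V' ⟶ U) (hf' : R f')
    (k : u.obj V ⟶ u.obj V') (hk : k ≫ u.map f' = u.map f) :
    tau h𝒮 E f hf ≫ (ch h𝒮 E (βof f hf)).Γ.γ f' hf' k hk = (rho h𝒮 E f hf).γ f' hf' k hk := by
  have hpre : 𝒮.p.map (tau h𝒮 E f hf) ≫ eqToHom (ch h𝒮 E (βof f hf)).hx = (E.ι f hf).inv := by
    rw [map_tau]; simp
  have := CompatFam.eq_of_eq_at h𝒮 ((ch h𝒮 E (βof f hf)).Γ.precomp (tau h𝒮 E f hf))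
    (rho h𝒮 E f hf) hpre (ch h𝒮 E (βof f hf)).f (ch h𝒮 E (βof f hf)).hf
    (ch h𝒮 E (βof f hf)).k (ch h𝒮 E (βof f hf)).hk ?_ f' hf' k hk
  · exact this
  · change tau h𝒮 E f hf ≫ (ch h𝒮 E (βof f hf)).Γ.γ _ _ _ _ = _
    rw [(ch h𝒮 E (βof f hf)).hΓ, tau_fac]

/-- Fact 2. -/
theorem rho_m {V₁ V₂ : C} (h : V₁ ⟶ V₂) (f₁ : V₁ ⟶ U) (f₂ : V₂ ⟶ U) (hf₁ : R f₁) (hf₂ : R f₂)
    (e : h ≫ f₂ = f₁) {V' : C} (f' : V' ⟶ U) (hf' : R f')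
    (k₂ : u.obj V₂ ⟶ u.obj V') (hk₂ : k₂ ≫ u.map f' = u.map f₂) :
    (rho h𝒮 E f₁ hf₁).γ f' hf' (u.map h ≫ k₂)
      (by rw [Category.assoc, hk₂, ← u.map_comp, e]) =
    E.m h f₁ f₂ hf₁ hf₂ e ≫ (rho h𝒮 E f₂ hf₂).γ f' hf' k₂ hk₂ := by
  have hb : u.map h ≫ u.map f₂ = u.map f₁ := by rw [← u.map_comp, e]
  have hpre : (E.ι f₁ hf₁).inv ≫ u.map h =
      𝒮.p.map (E.m h f₁ f₂ hf₁ hf₂ e) ≫ (E.ι f₂ hf₂).inv := by
    rw [E.hm]; simp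
  have := CompatFam.eq_of_eq_at h𝒮 ((rho h𝒮 E f₁ hf₁).reindex (u.map h) (u.map f₂) hb)
    ((rho h𝒮 E f₂ hf₂).precomp (E.m h f₁ f₂ hf₁ hf₂ e)) hpre f₂ hf₂ (𝟙 _) (Category.id_comp _)
    ?_ f' hf' k₂ hk₂
  · exact this
  · change (rho h𝒮 E f₁ hf₁).γ f₂ hf₂ (u.map h ≫ 𝟙 _) _ =
      E.m h f₁ f₂ hf₁ hf₂ e ≫ (rho h𝒮 E f₂ hf₂).γ f₂ hf₂ (𝟙 _) _
    have h1 := ((rho h𝒮 E f₁ hf₁).compat h f₁ f₂ hf₁ hf₂ e (𝟙 _) (Category.id_comp _)).trans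
      (by rw [rho_spec, Category.id_comp])
    have hk' : (𝟙 (u.obj V₁) ≫ u.map h) ≫ u.map f₂ = u.map f₁ := by
      rw [Category.id_comp]; exact hb
    refine ((rho h𝒮 E f₁ hf₁).γ_congr f₂ hf₂
      (by simp : u.map h ≫ 𝟙 _ = 𝟙 _ ≫ u.map h) _ hk').trans ?_
    rw [h1, rho_spec]
    exact (Category.comp_id _).symm

/-- The morphism of the pushed-forward sieve attached to a morphism of `R`. -/
def βmap {V₁ V₂ : C} (h : V₁ ⟶ V₂) (f₁ : V₁ ⟶ U) (f₂ : V₂ ⟶ U) (hf₁ : R f₁) (hf₂ : R f₂)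
    (e : h ≫ f₂ = f₁) : (βof (u := u) f₁ hf₁) ⟶ (βof (u := u) f₂ hf₂) :=
  ObjectProperty.homMk (Over.homMk (u.map h) (by
    change u.map h ≫ u.map f₂ = u.map f₁
    rw [← u.map_comp, e]))

theorem βmap_left {V₁ V₂ : C} (h : V₁ ⟶ V₂) (f₁ : V₁ ⟶ U) (f₂ : V₂ ⟶ U) (hf₁ : R f₁)
    (hf₂ : R f₂) (e : h ≫ f₂ = f₁) :
    (βmap (u := u) h f₁ f₂ hf₁ hf₂ e).hom.left = u.map h := rfl

/-- Naturality of `tau`. -/
theorem m_tau {V₁ V₂ : C} (h : V₁ ⟶ V₂) (f₁ : V₁ ⟶ U) (f₂ : V₂ ⟶ U) (hf₁ : R f₁) (hf₂ : R f₂)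
    (e : h ≫ f₂ = f₁) :
    E.m h f₁ f₂ hf₁ hf₂ e ≫ tau h𝒮 E f₂ hf₂ =
      tau h𝒮 E f₁ hf₁ ≫ dMap h𝒮 E (βmap h f₁ f₂ hf₁ hf₂ e) := by
  apply cancelM h𝒮 (ch h𝒮 E (βof f₂ hf₂)).c
  · rw [Functor.map_comp, Functor.map_comp, E.hm, map_tau, map_tau, map_dMap, βmap_left]
    simp
  · rw [Category.assoc, Category.assoc, tau_fac, dMap_fac, tau_γ]
    rw [← rho_m h𝒮 E h f₁ f₂ hf₁ hf₂ e]
    exact (rho h𝒮 E f₁ hf₁).γ_congr _ _ (by rw [βmap_left]) _ _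

include h𝒮 in
/-- Effectiveness for raw descent data. -/
theorem exists_glue_raw {J : GrothendieckTopology C} {K : GrothendieckTopology D}
    (hcp : CoverPreserving J K u) (hR : R ∈ J U)
    (he : ∀ ⦃W : D⦄ (T : Sieve W), T ∈ K W → Effective T 𝒮) :
    ∃ (s : 𝒮.obj) (hs : 𝒮.p.obj s = u.obj U)
      (Cn : ∀ ⦃V : C⦄ (f : V ⟶ U) (hf : R f), E.d f hf ⟶ s),
      (∀ ⦃V : C⦄ (f : V ⟶ U) (hf : R f),
        𝒮.p.map (Cn f hf) = (E.ι f hf).inv ≫ u.map f ≫ eqToHom hs.symm) ∧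
      ∀ ⦃V₁ V₂ : C⦄ (h : V₁ ⟶ V₂) (f₁ : V₁ ⟶ U) (f₂ : V₂ ⟶ U) (hf₁ : R f₁) (hf₂ : R f₂)
        (e : h ≫ f₂ = f₁), E.m h f₁ f₂ hf₁ hf₂ e ≫ Cn f₂ hf₂ = Cn f₁ hf₁ := by
  obtain ⟨s, c', hs, hc'l, hc'n⟩ :=
    he (R.functorPushforward u) (hcp.cover_preserve hR) (dFun h𝒮 E)
  refine ⟨s, hs, fun V f hf => tau h𝒮 E f hf ≫ c' (βof f hf), ?_, ?_⟩
  · intro V f hf
    have hl := hc'l (βof f hf)
    have h1 := IsHomLift.fac' 𝒮.p (βof (u := u) f hf).obj.hom (c' (βof f hf))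
    rw [Functor.map_comp, map_tau, h1]
    change ((E.ι f hf).inv ≫ eqToHom _) ≫ eqToHom _ ≫ u.map f ≫ eqToHom _ = _
    simp
  · intro V₁ V₂ h f₁ f₂ hf₁ hf₂ e
    rw [← Category.assoc, m_tau, Category.assoc]
    congr 1
    exact hc'n (βmap h f₁ f₂ hf₁ hf₂ e)

end AbstractEff

end Groth.Agent.Lib.Helper27.CatPbStack
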