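import Groth.Agent.Lib.Helper27.CatPbStack3

/-!
# `C ×_D 𝒮 ⟶ C` is a stack when `𝒮` is, part 4: effectiveness and the main theorem (helper27)
-/

set_option autoImplicit false
set_option backward.isDefEq.respectTransparency false
set_option backward.isDefEq.respectTransparency.types false

universe v₄ u₄ v₃ u₃ v₂ u₂ v u

open CategoryTheory CategoryTheory.Limits Groth.Agent.Lib.Helper16.FpFibGrpd
  Groth.Agent.Lib.Helper27.DescentKit Groth.Agent.Lib.Helper27.CatPbStack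

namespace Groth.Agent.Lib.Helper27.CatPbStack

section Final

variable {C : Type u} [Category.{v} C] {D : Type u₂} [Category.{v₂} D] [HasPullbacks C]
  {u : C ⥤ D} [PreservesLimitsOfShape WalkingCospan u] {𝒮 : BasedCategory.{v₃, u₃} D}
  {U : C} {R : Sieve U} (Dd : Stk.sieveCat R ⥤ᵇ P u 𝒮)

/-- The object of the sieve attached to `f ∈ R`. -/
def σof {V : C} (f : V ⟶ U) (hf : R f) : (Stk.sieveCat R).obj := ⟨Over.mk f, hf⟩

/-- The morphism of the sieve attached to `h`. -/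
def σmap {V₁ V₂ : C} (h : V₁ ⟶ V₂) (f₁ : V₁ ⟶ U) (f₂ : V₂ ⟶ U) (hf₁ : R f₁) (hf₂ : R f₂)
    (e : h ≫ f₂ = f₁) : σof f₁ hf₁ ⟶ σof f₂ hf₂ :=
  ObjectProperty.homMk (Over.homMk h e)

theorem D_fst (σ : (Stk.sieveCat R).obj) : (Dd.obj σ).fst = σ.obj.left := Dd.w_obj σ

theorem D_map_fst {σ σ' : (Stk.sieveCat R).obj} (g : σ ⟶ σ') :
    (Dd.map g).fst = eqToHom (D_fst Dd σ) ≫ g.hom.left ≫ eqToHom (D_fst Dd σ').symm :=
  Functor.congr_hom Dd.w g

/-- The raw descent datum of a descent datum in `C ×_D 𝒮`. -/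
def rawOf : RawDD u 𝒮 R where
  d := fun _ f hf => (Dd.obj (σof f hf)).snd
  ι := fun _ f hf => u.mapIso (eqToIso (D_fst Dd (σof f hf)).symm) ≪≫ (Dd.obj (σof f hf)).iso
  m := fun _ _ h f₁ f₂ hf₁ hf₂ e => (Dd.map (σmap h f₁ f₂ hf₁ hf₂ e)).snd
  hm := fun _ _ h f₁ f₂ hf₁ hf₂ e => by
    rw [map_snd_eq, D_map_fst]
    simp [eqToHom_map, σmap]
  m_id := fun _ f hf => by
    have : σmap (𝟙 _) f f hf hf (Category.id_comp f) = 𝟙 (σof f hf) := rfl
    rw [this, Dd.map_id]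
    rfl
  m_comp := fun _ _ _ h h' f₁ f₂ f₃ hf₁ hf₂ hf₃ e e' => by
    have : σmap (h ≫ h') f₁ f₃ hf₁ hf₃ (by rw [Category.assoc, e', e]) =
        σmap h f₁ f₂ hf₁ hf₂ e ≫ σmap h' f₂ f₃ hf₂ hf₃ e' := rfl
    rw [this, Dd.map_comp]
    rfl

variable (h𝒮 : FibCat.IsFibGrpd 𝒮.p) {J : GrothendieckTopology C} {K : GrothendieckTopology D}
  (hcp : CoverPreserving J K u)

include h𝒮 hcp in
theorem effective_P (he : ∀ ⦃W : D⦄ (T : Sieve W), T ∈ K W → Effective T 𝒮) (R : Sieve U)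
    (hR : R ∈ J U) : Effective R (P u 𝒮) := by
  intro Dd
  obtain ⟨s, hs, Cn, hCn, hnat⟩ := exists_glue_raw h𝒮 (rawOf Dd) hcp hR he
  let t : CategoricalPullback u 𝒮.p := ⟨U, s, eqToIso hs.symm⟩
  let c : ∀ σ : (Stk.sieveCat R).obj, Dd.obj σ ⟶ t := fun σ =>
    { fst := eqToHom (D_fst Dd σ) ≫ σ.obj.hom
      snd := Cn σ.obj.hom σ.property
      w := by
        rw [hCn]
        have hc : (Dd.obj σ).iso.hom ≫ (Dd.obj (σof σ.obj.hom σ.property)).iso.inv = 𝟙 _ :=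
          (Dd.obj σ).iso.hom_inv_id
        simp only [rawOf, Iso.trans_inv, Functor.mapIso_inv, eqToIso.inv, eqToHom_map,
          Category.assoc, t, eqToIso.hom, Functor.map_comp]
        rw [reassoc_of% hc] }
  refine ⟨t, c, rfl, ?_, ?_⟩
  · intro σ
    exact IsHomLift.of_fac' (P u 𝒮).p σ.obj.hom (c σ) (D_fst Dd σ) rfl (by
      change eqToHom (D_fst Dd σ) ≫ σ.obj.hom = _
      simp)
  · intro σ σ' g
    refine CategoricalPullback.hom_ext ?_ ?_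
    · change (Dd.map g).fst ≫ eqToHom (D_fst Dd σ') ≫ σ'.obj.hom = eqToHom (D_fst Dd σ) ≫ σ.obj.hom
      rw [D_map_fst]
      simp
    · exact hnat g.hom.left σ.obj.hom σ'.obj.hom σ.property σ'.property (Over.w g.hom)

include hcp in
/-- `C ×_D 𝒮 ⟶ C` is a stack in groupoids for `J` when `𝒮` is one for `K`. -/
theorem isStack_P (h : Stk.IsStack K 𝒮) : Stk.IsStack J (P u 𝒮) := by
  obtain ⟨h𝒮, hst⟩ := h
  have hP := isFibGrpd_pi1 u h𝒮
  refine ⟨hP, fun U R hR => ?_⟩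
  rw [isStackFor_iff (𝒳 := P u 𝒮) R hP]
  exact ⟨uniqMor_P h𝒮 hcp (fun W T hT => ((isStackFor_iff T h𝒮).1 (hst T hT)).1) R hR,
    glueMor_P h𝒮 hcp (fun W T hT => ((isStackFor_iff T h𝒮).1 (hst T hT)).2.1) R hR,
    effective_P h𝒮 hcp (fun W T hT => ((isStackFor_iff T h𝒮).1 (hst T hT)).2.2) R hR⟩

end Final

end Groth.Agent.Lib.Helper27.CatPbStack
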