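import Groth.Agent.Lib.Helper23.EtRestr
import Groth.Agent.Lib.Helper27.ClPt2

/-!
# Vanishing of the stalks of `j_* j^* F` outside `U` for sheaves supported on closed points
-/

set_option autoImplicit false
set_option backward.isDefEq.respectTransparency false
universe u
open CategoryTheory Limits Opposite AlgebraicGeometry GrothendieckTopology

namespace Groth.Agent.Lib.Helper27.ClPt

open Groth.Agent.Lib.Helper23 Groth.Agent.Lib.Helper23.EtRestr Groth.Agent.Lib.Helper23.EtGlue

variable {X : Scheme.{u}}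

section Lift

variable {Ω : Type u} [Field Ω] [IsSepClosed Ω] (ξ : Spec (CommRingCat.of Ω) ⟶ X)

/-- a point of the fibre over `W` lifts to any open of `W` containing its image -/
lemma exists_lift_opn (W : X.Etale) (p : (Scheme.pointSmallEtale ξ).fiber.obj W)
    (V : W.left.Opens) (h : p.left (default : Spec (CommRingCat.of Ω)) ∈ V) :
    ∃ p₀ : (Scheme.pointSmallEtale ξ).fiber.obj (opn W V),
      (Scheme.pointSmallEtale ξ).fiber.map (opnι W V) p₀ = p := by
  have hr : Set.range p.left ⊆ Set.range V.ι := by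
    rw [Scheme.Opens.range_ι]
    rintro _ ⟨z, rfl⟩
    have hz : z = (default : Spec (CommRingCat.of Ω)) :=
      Subsingleton.elim (α := Spec (CommRingCat.of Ω)) z default
    rw [hz]
    exact h
  let l : Spec (CommRingCat.of Ω) ⟶ V.toScheme := IsOpenImmersion.lift V.ι p.left hr
  have hl : l ≫ V.ι = p.left := IsOpenImmersion.lift_fac _ _ _
  have hw : l ≫ (opn W V).hom = ξ := by
    change l ≫ V.ι ≫ W.hom = ξ
    rw [reassoc_of% hl]
    exact Over.w p
  refine ⟨Over.homMk l hw, ?_⟩
  apply Over.OverMorphism.ext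
  exact hl

end Lift

section Key

variable {U : Scheme.{u}} (j : U ⟶ X) [IsOpenImmersion j] (F : EtCoh.Ab X)

/-- the sheaf `j_* j^* F` -/
noncomputable abbrev JJ : EtCoh.Ab X := (EtCoh.push j).obj ((EtShriek.restrAlong j).obj F)

/-- the object `W ×_X U` of the etale site of `X` -/
noncomputable abbrev TT (W : X.Etale) : X.Etale :=
  (EtShriek.compEtale j).obj ((EtCoh.bc j).obj W)

/-- the projection `W ×_X U → W` -/
noncomputable abbrev εε (W : X.Etale) : TT j W ⟶ W := (adjSite j).counit.app W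

/-- the map `W' ×_X U → W ×_X U` -/
noncomputable abbrev ττ {W W' : X.Etale} (g : W' ⟶ W) : TT j W' ⟶ TT j W :=
  (EtShriek.compEtale j).map ((EtCoh.bc j).map g)

lemma TT_hom_mem_range (W : X.Etale) (c : (TT j W).left) : (TT j W).hom c ∈ Set.range j :=
  ⟨((EtCoh.bc j).obj W).hom c, rfl⟩

theorem exists_restrict_eq_zero [IsLocallyNoetherian X]
    (hF : ∀ x ∈ EtPBC.supp F, IsClosed ({x} : Set X))
    {Ω : Type u} [Field Ω] [IsSepClosed Ω] (ξ : Spec (CommRingCat.of Ω) ⟶ X)
    (hξ : ξ (default : Spec (CommRingCat.of Ω)) ∉ Set.range j)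
    (W : X.Etale) (p : (Scheme.pointSmallEtale ξ).fiber.obj W) (t : EtCoh.sect F (TT j W)) :
    ∃ (W' : X.Etale) (g : W' ⟶ W) (p' : (Scheme.pointSmallEtale ξ).fiber.obj W'),
      (Scheme.pointSmallEtale ξ).fiber.map g p' = p ∧ F.obj.map (ττ j g).op t = 0 := by
  classical
  let w : W.left := p.left (default : Spec (CommRingCat.of Ω))
  obtain ⟨V, hV, hwV, -⟩ := exists_isAffineOpen_mem_and_subset (x := w) (U := ⊤) trivial
  obtain ⟨p₀, hp₀⟩ := exists_lift_opn ξ W p V hwV
  let W₀ : X.Etale := opn W V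
  let g₀ : W₀ ⟶ W := opnι W V
  let T₀ : X.Etale := TT j W₀
  let t₀ : EtCoh.sect F T₀ := F.obj.map (ττ j g₀).op t
  let q : T₀.left ⟶ W₀.left := (εε j W₀).left
  have hq : q ≫ W₀.hom = T₀.hom := MorphismProperty.Over.w (εε j W₀)
  haveI : IsOpenImmersion q := by
    change IsOpenImmersion (pullback.fst W₀.hom j)
    infer_instance
  haveI : IsLocallyNoetherian W.left :=
    @LocallyOfFiniteType.isLocallyNoetherian W.left X W.hom inferInstance inferInstance
  haveI : IsNoetherianRing Γ(W.left, V) := IsLocallyNoetherian.component_noetherian ⟨V, hV⟩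
  haveI : TopologicalSpace.NoetherianSpace W₀.left := noetherianSpace_of_isAffineOpen V hV
  haveI : TopologicalSpace.NoetherianSpace T₀.left := q.isOpenEmbedding.isInducing.noetherianSpace
  let C : Set T₀.left := EtShriek.sectSupp F T₀ t₀
  have hCcl : IsClosed C := Shriek.isClosed_sectSupp F T₀ t₀
  have hCX : ∀ c ∈ C, IsClosed ({T₀.hom c} : Set X) := fun c hc =>
    hF _ (mem_supp_of_mem_sectSupp F T₀ t₀ c hc)
  have hCpt : ∀ c ∈ C, IsClosed ({c} : Set T₀.left) := fun c hc =>
    isClosed_singleton_of_etale T₀.hom c (hCX c hc)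
  have hCfin : C.Finite := finite_of_isClosed_of_forall_isClosed C hCcl hCpt
  have hqc : ∀ c : T₀.left, W₀.hom (q c) = T₀.hom c := fun c => by
    rw [← hq, Scheme.Hom.comp_apply]
    rfl
  let S : Set W₀.left := q '' C
  have hSfin : S.Finite := hCfin.image _
  have hSpt : ∀ s ∈ S, IsClosed ({s} : Set W₀.left) := by
    rintro _ ⟨c, hc, rfl⟩
    apply isClosed_singleton_of_etale W₀.hom
    rw [hqc]
    exact hCX c hc
  have hScl : IsClosed S := by
    have : S = ⋃ s ∈ S, {s} := (Set.biUnion_of_singleton S).symm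
    rw [this]
    exact hSfin.isClosed_biUnion hSpt
  let w₀ : W₀.left := p₀.left (default : Spec (CommRingCat.of Ω))
  have hw₀ : w₀ ∉ S := by
    rintro ⟨c, hc, hcw⟩
    apply hξ
    have h1 : W₀.hom w₀ = ξ (default : Spec (CommRingCat.of Ω)) := by
      have := Over.w p₀
      have h2 := congrArg (fun φ : Spec (CommRingCat.of Ω) ⟶ X =>
        φ (default : Spec (CommRingCat.of Ω))) this
      simp only [Scheme.Hom.comp_apply] at h2
      exact h2
    rw [← h1, ← hcw, hqc]
    exact TT_hom_mem_range j W₀ c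
  let V' : W₀.left.Opens := ⟨Sᶜ, hScl.isOpen_compl⟩
  obtain ⟨p', hp'⟩ := exists_lift_opn ξ W₀ p₀ V' hw₀
  let W' : X.Etale := opn W₀ V'
  let g₁ : W' ⟶ W₀ := opnι W₀ V'
  refine ⟨W', g₁ ≫ g₀, p', ?_, ?_⟩
  · rw [Functor.map_comp]
    change (Scheme.pointSmallEtale ξ).fiber.map g₀ ((Scheme.pointSmallEtale ξ).fiber.map g₁ p') = p
    rw [hp', hp₀]
  · have e1 : ττ j (g₁ ≫ g₀) = ττ j g₁ ≫ ττ j g₀ := by
      simp only [ττ, Functor.map_comp]
    rw [e1, EtSupp.map_comp_apply]
    apply eq_zero_of_sectSupp_eq_empty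
    rw [Shriek.sectSupp_map]
    ext c'
    simp only [Set.mem_preimage, Set.mem_empty_iff_false, iff_false]
    intro hc'
    have hnat : ττ j g₁ ≫ εε j W₀ = εε j W' ≫ g₁ := (adjSite j).counit.naturality g₁
    have hnat' : (ττ j g₁).left ≫ q = (εε j W').left ≫ g₁.left :=
      congrArg (fun φ => φ.left) hnat
    have h1 : q ((ττ j g₁).left c') ∈ S := ⟨_, hc', rfl⟩
    have h2 : q ((ττ j g₁).left c') = g₁.left ((εε j W').left c') := by
      rw [← Scheme.Hom.comp_apply, ← Scheme.Hom.comp_apply, hnat']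
    have h3 : g₁.left ((εε j W').left c') ∈ (V' : Set W₀.left) := by
      have : g₁.left ((εε j W').left c') ∈ Set.range V'.ι := ⟨_, rfl⟩
      rwa [Scheme.Opens.range_ι] at this
    rw [← h2] at h3
    exact h3 h1

/-- **Key vanishing**: for a sheaf supported on closed points, the stalks of `j_* j^* F` vanish at
geometric points outside the open `U` -/
theorem isZero_stalk_JJ [IsLocallyNoetherian X]
    (hF : ∀ x ∈ EtPBC.supp F, IsClosed ({x} : Set X))
    {Ω : Type u} [Field Ω] [IsSepClosed Ω] (ξ : Spec (CommRingCat.of Ω) ⟶ X)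
    (hξ : ξ (default : Spec (CommRingCat.of Ω)) ∉ Set.range j) :
    IsZero ((EtCoh.stalk ξ).obj (JJ j F)) := by
  let Φ := Scheme.pointSmallEtale ξ
  have hsub : ∀ e : ToType (Φ.presheafFiber.obj (JJ j F).obj), e = 0 := by
    intro e
    obtain ⟨W, p, t, rfl⟩ := Φ.toPresheafFiber_jointly_surjective e
    obtain ⟨W', g, p', hp', hg⟩ := exists_restrict_eq_zero j F hF ξ hξ W p t
    have h0 : Φ.toPresheafFiber W p (JJ j F).obj t = Φ.toPresheafFiber W p (JJ j F).obj 0 := by
      rw [Φ.toPresheafFiber_eq_iff']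
      refine ⟨W', g, p', hp', ?_⟩
      rw [map_zero]
      exact hg
    rw [h0, map_zero]
  haveI : Subsingleton ↑((EtCoh.stalk ξ).obj (JJ j F)) :=
    ⟨fun a b => (hsub a).trans (hsub b).symm⟩
  exact AddCommGrpCat.isZero_of_subsingleton _

end Key

end Groth.Agent.Lib.Helper27.ClPt
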