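import Groth.Agent.Lib.Helper27.EtTorsion1
import Groth.Agent.Lib.Helper23.ExtAdj
import Groth.Agent.Lib.Helper23.HpullComp
import Groth.Agent.Lib.Helper12.StrictHenselization
import Groth.Agent.S0071
import Groth.Agent.S0073
import Mathlib.CategoryTheory.Limits.Constructions.Filtered
import Mathlib.AlgebraicGeometry.AlgClosed.Basic

/-!
# Cohomology of a coproduct of skyscraper-type sheaves at closed points with separably closed
residue fields
-/

set_option autoImplicit false
universe w v u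
open CategoryTheory Limits Opposite AlgebraicGeometry Abelian

namespace Groth.Agent.Lib.Helper27.SkyCoprod

section Abstract

variable {C : Type u} [Category.{v} C] [Abelian C] [HasExt.{w} C] [HasFiniteBiproducts C]

theorem ext_biproduct_eq_zero {ι : Type*} [Fintype ι] (A : C) (P : ι → C) (q : ℕ)
    (h : ∀ (i : ι) (ξ : Ext.{w} A (P i) q), ξ = 0) (ξ : Ext.{w} A (⨁ P) q) : ξ = 0 := by
  have h1 : ξ = ξ.comp (Ext.mk₀ (𝟙 (⨁ P))) (add_zero q) := (Ext.comp_mk₀_id ξ).symm
  have htot : ∑ j : ι, biproduct.π P j ≫ biproduct.ι P j = 𝟙 (⨁ P) :=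
    IsBilimit.total (biproduct.isBilimit P)
  rw [h1, ← htot, Ext.mk₀_sum, Ext.comp_sum]
  apply Finset.sum_eq_zero
  intro i _
  rw [← Ext.mk₀_comp_mk₀, ← Ext.comp_assoc_of_third_deg_zero,
    h i (ξ.comp (Ext.mk₀ (biproduct.π P i)) (add_zero q)), Ext.zero_comp]

theorem ext_finite_coproduct_eq_zero {ι : Type*} [Fintype ι] (A : C) (P : ι → C) (q : ℕ)
    (h : ∀ (i : ι) (ξ : Ext.{w} A (P i) q), ξ = 0) (ξ : Ext.{w} A (∐ P) q) : ξ = 0 := by
  let e : ⨁ P ≅ ∐ P := biproduct.isoCoproduct P
  have h0 := ext_biproduct_eq_zero A P q h (ξ.comp (Ext.mk₀ e.inv) (add_zero q))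
  have h1 : ξ = (ξ.comp (Ext.mk₀ e.inv) (add_zero q)).comp (Ext.mk₀ e.hom) (add_zero q) := by
    rw [Ext.comp_assoc_of_third_deg_zero, Ext.mk₀_comp_mk₀, Iso.inv_hom_id, Ext.comp_mk₀_id]
  rw [h1, h0, Ext.zero_comp]

end Abstract

open Groth.Agent.Lib.Helper23.ExtAdj Groth.Agent.Lib.Helper27.EtTransport

section Scheme

variable (X : Scheme.{u})

/-- on a qcqs scheme, the cohomology of a coproduct vanishes if the cohomology of each summand does -/
theorem H_coproduct_eq_zero [CompactSpace X] [QuasiSeparatedSpace X] {J : Type u}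
    (P : J → EtCoh.Ab X) (q : ℕ) (h : ∀ (j : J) (ξ : EtCoh.H X (P j) q), ξ = 0)
    (ξ : EtCoh.H X (∐ P) q) : ξ = 0 := by
  classical
  let D := CoproductsFromFiniteFiltered.liftToFinsetObj (Discrete.functor P)
  let cc := CoproductsFromFiniteFiltered.finiteSubcoproductsCocone P
  have hcc : IsColimit cc := CoproductsFromFiniteFiltered.isColimitFiniteSubproductsCocone P
  haveI := preservesColimitsOfShape_HF' X q (Finset (Discrete J))
  have hH : IsColimit ((EtCoh.HF X q).mapCocone cc) := isColimitOfPreserves _ hcc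
  haveI : PreservesFilteredColimitsOfSize.{u, u} (forget AddCommGrpCat.{u + 1}) :=
    inferInstance
  haveI : PreservesColimit (D ⋙ EtCoh.HF X q) (forget AddCommGrpCat.{u + 1}) :=
    (PreservesFilteredColimitsOfSize.preserves_filtered_colimits
      (F := forget AddCommGrpCat.{u + 1}) (Finset (Discrete J))).preservesColimit
  obtain ⟨S, y, hy⟩ := Concrete.isColimit_exists_rep _ hH ξ
  have hy0 : y = 0 :=
    ext_finite_coproduct_eq_zero (EtCoh.const X ℤ) _ q (fun i ξ => h _ ξ) y
  rw [← hy, hy0]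
  exact map_zero _

variable {X}

/-- cohomology of a direct image along a finite morphism vanishes if the cohomology upstairs does -/
theorem H_push_eq_zero {Z : Scheme.{u}} (i : Z ⟶ X) [IsFinite i] (G : EtCoh.Ab Z) (q : ℕ)
    (h : ∀ ξ : EtCoh.H Z G q, ξ = 0) (ξ : EtCoh.H X ((EtCoh.push i).obj G) q) : ξ = 0 := by
  have hbij := extAdj_bijective (EtCoh.pullPushAdj i) (EtCoh.const X ℤ) q G
    (fun m hm => Groth.Agent.S0071.result i _ m hm)
  apply hbij.1
  rw [map_zero]
  set e := extAdj (EtCoh.pullPushAdj i) (EtCoh.const X ℤ) G q ξ with he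
  have h0 := h ((Ext.mk₀ (EtCore.pullConst i ℤ).inv).comp e (zero_add q))
  have h1 : e = (Ext.mk₀ (EtCore.pullConst i ℤ).hom).comp
      ((Ext.mk₀ (EtCore.pullConst i ℤ).inv).comp e (zero_add q)) (zero_add q) := by
    rw [← Ext.comp_assoc_of_second_deg_zero, Ext.mk₀_comp_mk₀, Iso.hom_inv_id, Ext.mk₀_id_comp]
  rw [h1, h0, Ext.comp_zero]

/-- the spectrum of a separably closed field has no higher cohomology -/
theorem H_field_eq_zero (κ : Type u) [Field κ] [IsSepClosed κ]
    (G : EtCoh.Ab (Spec (CommRingCat.of κ))) (q : ℕ) (hq : 1 ≤ q)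
    (ξ : EtCoh.H (Spec (CommRingCat.of κ)) G q) : ξ = 0 := by
  have : IsSepClosed (IsLocalRing.ResidueField κ) :=
    Groth.Agent.Lib.Helper12.isSepClosed_of_ringEquiv
      (RingEquiv.ofBijective (IsLocalRing.residue κ)
        ⟨(IsLocalRing.residue κ).injective, IsLocalRing.residue_surjective⟩)
  have := Groth.Agent.S0073.result κ G q hq
  exact Subsingleton.elim _ _

end Scheme

end Groth.Agent.Lib.Helper27.SkyCoprod
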