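import Groth.Agent.Lib.Helper23.EtRecoll
import Groth.Agent.Lib.Helper27.SkyCoprod1
import Groth.Agent.S0654
import Groth.Agent.Lib.Helper27.ClPt3

/-!
# The subsheaf of sections supported on a closed subset
-/

set_option autoImplicit false
set_option backward.isDefEq.respectTransparency false
universe u
open CategoryTheory Limits Opposite AlgebraicGeometry GrothendieckTopology Abelian

namespace Groth.Agent.Lib.Helper27.ClPt

open Groth.Agent.Lib.Helper23 Groth.Agent.Lib.Helper23.EtRestr Groth.Agent.Lib.Helper23.EtGlue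
  Groth.Agent.Lib.Helper23.EtRecoll

variable {X : Scheme.{u}} (F : EtCoh.Ab X) {U : Scheme.{u}} (j : U ⟶ X) [IsOpenImmersion j]

/-- the unit `F → j_* j^* F` -/
noncomputable abbrev ηη : F ⟶ JJ j F := (restrPushAdj j).unit.app F

/-- the subsheaf of sections vanishing on `U` -/
noncomputable abbrev Γs : EtCoh.Ab X := kernel (ηη F j)

/-- the inclusion of the subsheaf of sections vanishing on `U` -/
noncomputable abbrev Γι : Γs F j ⟶ F := kernel.ι (ηη F j)

/-- the restriction to `U` of the subsheaf of sections vanishing on `U` is zero -/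
theorem isZero_restr_Γs : IsZero ((EtShriek.restrAlong j).obj (Γs F j)) := by
  let R := EtShriek.restrAlong j
  have h1 : R.map (Γι F j) ≫ R.map (ηη F j) = 0 := by
    rw [← R.map_comp, kernel.condition, R.map_zero]
  haveI : Mono (R.map (ηη F j)) := by
    have := (restrPushAdj j).left_triangle_components F
    exact mono_of_mono_fac this
  have h2 : R.map (Γι F j) = 0 := by
    rw [← cancel_mono (R.map (ηη F j)), h1, zero_comp]
  haveI : Mono (R.map (Γι F j)) := inferInstance
  exact IsZero.of_mono_eq_zero _ h2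

/-- the subsheaf of sections vanishing on the complement of a closed subscheme `Z` has no
cohomology in degree `q` if no sheaf on `Z` has -/
theorem H_Γs_eq_zero {Z : Scheme.{u}} (i : Z ⟶ X) [IsClosedImmersion i] (V : X.Opens)
    (hV : (V : Set X) = (Set.range i.base)ᶜ) (q : ℕ)
    (hZ : ∀ (G : EtCoh.Ab Z) (ζ : EtCoh.H Z G q), ζ = 0)
    (c : EtCoh.H X (Γs F V.ι) q) : c = 0 := by
  obtain ⟨w, hS⟩ := Groth.Agent.S0654.result i V hV (Γs F V.ι)
  have h1 : IsZero ((EtShriek.extZero V.ι).obj ((EtShriek.restrAlong V.ι).obj (Γs F V.ι))) := by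
    haveI : (EtShriek.extZero V.ι).Additive := (EtShriek.extZeroAdj V.ι).left_adjoint_additive
    exact Functor.map_isZero _ (isZero_restr_Γs F V.ι)
  let u := (EtCoh.pullPushAdj i).unit.app (Γs F V.ι)
  haveI : Mono u := hS.exact.mono_g (h1.eq_of_src _ _)
  haveI : Epi u := hS.epi_g
  haveI : IsIso u := isIso_of_mono_of_epi u
  have h0 := SkyCoprod.H_push_eq_zero i _ q (hZ _) (c.comp (Ext.mk₀ u) (add_zero q))
  have h2 : c = (c.comp (Ext.mk₀ u) (add_zero q)).comp (Ext.mk₀ (inv u)) (add_zero q) := by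
    rw [Ext.comp_assoc_of_third_deg_zero, Ext.mk₀_comp_mk₀, IsIso.hom_inv_id, Ext.comp_mk₀_id]
  rw [h2, h0, Ext.zero_comp]

/-- the stalks of the subsheaf of sections vanishing on `U` vanish at the points of `U` -/
theorem isZero_stalk_Γs {Ω : Type u} [Field Ω] [IsSepClosed Ω] (ξ : Spec (CommRingCat.of Ω) ⟶ X)
    (hξ : ξ (default : Spec (CommRingCat.of Ω)) ∈ Set.range j) :
    IsZero ((EtCoh.stalk ξ).obj (Γs F j)) := by
  let Φ := Scheme.pointSmallEtale ξ
  have hr : Set.range ξ ⊆ Set.range j := by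
    rintro _ ⟨z, rfl⟩
    have hz : z = (default : Spec (CommRingCat.of Ω)) :=
      Subsingleton.elim (α := Spec (CommRingCat.of Ω)) z default
    rw [hz]
    exact hξ
  let l : Spec (CommRingCat.of Ω) ⟶ U := IsOpenImmersion.lift j ξ hr
  have hl : l ≫ j = ξ := IsOpenImmersion.lift_fac _ _ _
  have hinj : Function.Injective ((EtCoh.stalk ξ).map (Γι F j)) := by
    haveI : Mono ((EtCoh.stalk ξ).map (Γι F j)) := inferInstance
    exact (AddCommGrpCat.mono_iff_injective _).1 this
  have hsub : ∀ e : ↑((EtCoh.stalk ξ).obj (Γs F j)), e = 0 := by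
    intro e
    apply hinj
    rw [map_zero]
    obtain ⟨W, p, s', rfl⟩ := Φ.toPresheafFiber_jointly_surjective
      (P := (Γs F j).obj) e
    have h1 : (EtCoh.stalk ξ).map (Γι F j) (Φ.toPresheafFiber W p (Γs F j).obj s') =
        Φ.toPresheafFiber W p F.obj ((Γι F j).hom.app (op W) s') :=
      Φ.toPresheafFiber_naturality_apply (Γι F j).hom W p s'
    rw [h1]
    have hs : F.obj.map (εε j W).op ((Γι F j).hom.app (op W) s') = 0 := by
      have h2 := congrArg (fun φ => φ.hom.app (op W) s') (kernel.condition (ηη F j))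
      exact h2
    have hw : p.left ≫ W.hom = l ≫ j := by
      rw [hl]
      exact Over.w p
    let pl : Spec (CommRingCat.of Ω) ⟶ (TT j W).left := pullback.lift p.left l hw
    have hpl : pl ≫ (TT j W).hom = ξ := by
      change pl ≫ pullback.snd W.hom j ≫ j = ξ
      rw [pullback.lift_snd_assoc, hl]
    let pt : Φ.fiber.obj (TT j W) := Over.homMk pl hpl
    have hpt : Φ.fiber.map (εε j W) pt = p := by
      apply Over.OverMorphism.ext
      exact pullback.lift_fst _ _ _
    rw [← hpt, ← Φ.toPresheafFiber_w_apply, hs, map_zero]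
  haveI : Subsingleton ↑((EtCoh.stalk ξ).obj (Γs F j)) :=
    ⟨fun a b => (hsub a).trans (hsub b).symm⟩
  exact AddCommGrpCat.isZero_of_subsingleton _

/-- for a sheaf supported on closed points, the inclusion of the subsheaf of sections vanishing on
`U` is an isomorphism on stalks at the geometric points outside `U` -/
theorem isIso_stalk_Γι [IsLocallyNoetherian X]
    (hF : ∀ x ∈ EtPBC.supp F, IsClosed ({x} : Set X))
    {Ω : Type u} [Field Ω] [IsSepClosed Ω] (ξ : Spec (CommRingCat.of Ω) ⟶ X)
    (hξ : ξ (default : Spec (CommRingCat.of Ω)) ∉ Set.range j) :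
    IsIso ((EtCoh.stalk ξ).map (Γι F j)) := by
  let S : ShortComplex (EtCoh.Ab X) := ShortComplex.mk (Γι F j) (ηη F j) (kernel.condition _)
  have hS : S.Exact := ShortComplex.exact_of_f_is_kernel S (kernelIsKernel _)
  have hS' : (S.map (EtCoh.stalk ξ)).Exact := hS.map (EtCoh.stalk ξ)
  have hz : IsZero (S.map (EtCoh.stalk ξ)).X₃ := isZero_stalk_JJ j F hF ξ hξ
  haveI : Epi ((EtCoh.stalk ξ).map (Γι F j)) := hS'.epi_f (hz.eq_of_tgt _ _)
  haveI : Mono ((EtCoh.stalk ξ).map (Γι F j)) := inferInstance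
  exact isIso_of_mono_of_epi _

end Groth.Agent.Lib.Helper27.ClPt
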