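import Groth.Agent.Lib.Helper27.ClPt4
import Groth.Agent.Lib.Helper23.FinBC0

/-!
# Sheaves supported on closed points decompose as a direct sum
-/

set_option autoImplicit false
set_option backward.isDefEq.respectTransparency false
universe u
open CategoryTheory Limits Opposite AlgebraicGeometry GrothendieckTopology Abelian

namespace Groth.Agent.Lib.Helper27.ClPt

section Abstract

variable {C D : Type*} [Category C] [Category D] [HasZeroMorphisms D]

/-- a coproduct-preserving functor killing all summands kills the coproduct -/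
theorem isZero_map_sigma {J : Type*} (Φ : C ⥤ D) (P : J → C) [HasCoproduct P]
    [PreservesColimit (Discrete.functor P) Φ] (hz : ∀ x, IsZero (Φ.obj (P x))) :
    IsZero (Φ.obj (∐ P)) := by
  have hc : IsColimit (Φ.mapCocone (colimit.cocone (Discrete.functor P))) :=
    isColimitOfPreserves Φ (colimit.isColimit _)
  rw [IsZero.iff_id_eq_zero]
  apply hc.hom_ext
  rintro ⟨x⟩
  exact (hz x).eq_of_src _ _

/-- if a coproduct-preserving functor kills all summands but one, on which the map is inverted,
then the map from the coproduct is inverted -/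
theorem isIso_map_desc {J : Type*} (Φ : C ⥤ D) (P : J → C) [HasCoproduct P]
    [PreservesColimit (Discrete.functor P) Φ] {F : C} (a : ∀ x, P x ⟶ F) (j₀ : J)
    (hz : ∀ x, x ≠ j₀ → IsZero (Φ.obj (P x))) (hiso : IsIso (Φ.map (a j₀))) :
    IsIso (Φ.map (Sigma.desc a)) := by
  classical
  have hc : IsColimit (Φ.mapCocone (colimit.cocone (Discrete.functor P))) :=
    isColimitOfPreserves Φ (colimit.isColimit _)
  haveI : Epi (Φ.map (Sigma.ι P j₀)) := by
    refine ⟨fun f g h => ?_⟩
    apply hc.hom_ext
    rintro ⟨x⟩
    by_cases hx : x = j₀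
    · subst hx
      exact h
    · exact (hz x hx).eq_of_src _ _
  have hcomp : Φ.map (Sigma.ι P j₀) ≫ Φ.map (Sigma.desc a) = Φ.map (a j₀) := by
    rw [← Φ.map_comp, Sigma.ι_desc]
  haveI : IsSplitMono (Φ.map (Sigma.ι P j₀)) :=
    ⟨⟨Φ.map (Sigma.desc a) ≫ inv (Φ.map (a j₀)), by
      rw [← Category.assoc, hcomp, IsIso.hom_inv_id]⟩⟩
  haveI : IsIso (Φ.map (Sigma.ι P j₀)) := isIso_of_epi_of_isSplitMono _
  haveI : IsIso (Φ.map (Sigma.ι P j₀) ≫ Φ.map (Sigma.desc a)) := by
    rw [hcomp]; exact hiso
  exact IsIso.of_isIso_comp_left (Φ.map (Sigma.ι P j₀)) _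

end Abstract

section Main

open Groth.Agent.Lib.Helper23

/-- residue fields of closed points of schemes locally of finite type over a separably closed
field are separably closed -/
theorem isSepClosed_residueField {K : Type u} [Field K] [IsSepClosed K] {X : Scheme.{u}}
    (a : X ⟶ Spec (CommRingCat.of K)) [LocallyOfFiniteType a] (x : X)
    (hx : IsClosed ({x} : Set X)) : IsSepClosed (X.residueField x) := by
  haveI : IsClosedImmersion (X.fromSpecResidueField x) :=
    isClosed_singleton_iff_isClosedImmersion.1 hx
  have hfin : IsFinite (X.fromSpecResidueField x ≫ a) := by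
    rw [isFinite_iff_locallyOfFiniteType_of_jacobsonSpace]
    infer_instance
  let φ : CommRingCat.of K ⟶ X.residueField x := Spec.preimage (X.fromSpecResidueField x ≫ a)
  have hφ : φ.hom.Finite := by
    rw [← IsFinite.SpecMap_iff, Spec.map_preimage]
    exact hfin
  algebraize [φ.hom]
  haveI : Algebra.IsAlgebraic K (X.residueField x) := Algebra.IsAlgebraic.of_finite K _
  exact Algebra.IsAlgebraic.isSepClosed (F := K)

variable {X : Scheme.{u}} (F : EtCoh.Ab X)

/-- closed points -/
abbrev ClosedPt (X : Scheme.{u}) : Type u := {x : X // IsClosed ({x} : Set X)}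

/-- the complement of a closed point -/
def complPt (x : ClosedPt X) : X.Opens := ⟨{x.1}ᶜ, x.2.isOpen_compl⟩

lemma range_complPt_ι (x : ClosedPt X) : Set.range (complPt x).ι = {x.1}ᶜ :=
  Scheme.Opens.range_ι _

/-- the subsheaf of sections supported at the closed point `x` -/
noncomputable abbrev Γpt (x : ClosedPt X) : EtCoh.Ab X := Γs F (complPt x).ι

/-- the map from the direct sum of the subsheaves of sections supported at closed points -/
noncomputable abbrev σσ : ∐ (Γpt F) ⟶ F := Sigma.desc (fun x => Γι F (complPt x).ι)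

/-- a sheaf supported on closed points of a locally noetherian scheme is the direct sum of its
subsheaves of sections supported at one closed point -/
theorem isIso_σσ [IsLocallyNoetherian X] (hF : ∀ x ∈ EtPBC.supp F, IsClosed ({x} : Set X)) :
    IsIso (σσ F) := by
  apply FinBC0.isIso_of_stalks
  intro Ω _ _ ξ
  suffices h : IsIso ((EtCoh.stalk ξ).map (σσ F)) from
    ConcreteCategory.bijective_of_isIso ((EtCoh.stalk ξ).map (σσ F))
  by_cases hy : IsClosed ({ξ (default : Spec (CommRingCat.of Ω))} : Set X)
  · let y' : ClosedPt X := ⟨ξ (default : Spec (CommRingCat.of Ω)), hy⟩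
    apply isIso_map_desc (EtCoh.stalk ξ) (Γpt F) _ y'
    · intro x hx
      apply isZero_stalk_Γs
      rw [range_complPt_ι]
      intro h
      exact hx (Subtype.ext (Set.mem_singleton_iff.1 h).symm)
    · apply isIso_stalk_Γι F _ hF ξ
      rw [range_complPt_ι]
      exact fun h => h rfl
  · have h1 : IsZero ((EtCoh.stalk ξ).obj (∐ Γpt F)) :=
      isZero_map_sigma _ _ (fun x => isZero_stalk_Γs F _ ξ (by
        rw [range_complPt_ι]
        intro h
        apply hy
        rw [Set.mem_singleton_iff.1 h]
        exact x.2))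
    have h2 : IsZero ((EtCoh.stalk ξ).obj F) := by
      by_contra hne
      apply hy
      apply hF
      refine ⟨Ω, inferInstance, inferInstance, ξ, ?_, hne⟩
      ext z
      simp only [Set.mem_range, Set.mem_singleton_iff]
      constructor
      · rintro ⟨t, rfl⟩
        have ht : t = (default : Spec (CommRingCat.of Ω)) :=
          Subsingleton.elim (α := Spec (CommRingCat.of Ω)) t default
        rw [ht]
      · rintro rfl
        exact ⟨_, rfl⟩
    exact ⟨⟨0, h1.eq_of_src _ _, h2.eq_of_src _ _⟩⟩

/-- **Vanishing**: on a scheme of finite type over a separably closed field, abelian sheaves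
supported on closed points have no higher cohomology -/
theorem H_subsingleton_of_supp_closedPoints {K : Type u} [Field K] [IsSepClosed K]
    (X : Scheme.{u}) (a : X ⟶ Spec (CommRingCat.of K)) [LocallyOfFiniteType a] [QuasiCompact a]
    (F : EtCoh.Ab X) (hF : ∀ x ∈ EtPBC.supp F, IsClosed ({x} : Set X)) (q : ℕ) (hq : 0 < q) :
    Subsingleton (EtCoh.H X F q) := by
  haveI : IsLocallyNoetherian X := LocallyOfFiniteType.isLocallyNoetherian a
  haveI : CompactSpace X := QuasiCompact.compactSpace_of_compactSpace a
  haveI : QuasiSeparatedSpace X := inferInstance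
  haveI := isIso_σσ F hF
  have hP : ∀ (x : ClosedPt X) (c : EtCoh.H X (Γpt F x) q), c = 0 := by
    intro x c
    haveI : IsClosedImmersion (X.fromSpecResidueField x.1) :=
      isClosed_singleton_iff_isClosedImmersion.1 x.2
    haveI : IsSepClosed (X.residueField x.1) := isSepClosed_residueField a x.1 x.2
    refine H_Γs_eq_zero F (X.fromSpecResidueField x.1) (complPt x) ?_ q
      (fun G ζ => SkyCoprod.H_field_eq_zero (X.residueField x.1) G q hq ζ) c
    change ({x.1}ᶜ : Set X) = _
    rw [Scheme.range_fromSpecResidueField]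
  have key : ∀ c : EtCoh.H X F q, c = 0 := by
    intro c
    have h0 := SkyCoprod.H_coproduct_eq_zero X (Γpt F) q hP
      (c.comp (Ext.mk₀ (inv (σσ F))) (add_zero q))
    have h1 : c = (c.comp (Ext.mk₀ (inv (σσ F))) (add_zero q)).comp (Ext.mk₀ (σσ F))
        (add_zero q) := by
      rw [Ext.comp_assoc_of_third_deg_zero, Ext.mk₀_comp_mk₀, IsIso.inv_hom_id, Ext.comp_mk₀_id]
    rw [h1, h0, Ext.zero_comp]
  exact ⟨fun c c' => (key c).trans (key c').symm⟩

end Main

end Groth.Agent.Lib.Helper27.ClPt
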