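import Groth.Agent.Lib.Helper27.AlgStackRep

/-!
# The diagonal is representable by algebraic spaces iff every chart is (helper27)
-/

set_option autoImplicit false
set_option backward.isDefEq.respectTransparency false
set_option backward.isDefEq.respectTransparency.types false

universe u

open CategoryTheory CategoryTheory.Limits AlgebraicGeometry Opposite FibCat
  Groth.Agent.Lib.Helper27.FpKit Groth.Agent.Lib.Helper27.RepWithComp
  Groth.Agent.Lib.Helper27.FpBaseChange Groth.Agent.Lib.Helper27.GraphDiag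

namespace Groth.Agent.Lib.Helper27.DiagIff

variable {S : Scheme.{u}}

section IsoFst

variable {𝒜 ℬ 𝒵 : AlgSt.Cat S} (F₁ F₂ : 𝒜 ⥤ᵇ 𝒵) (K : ℬ ⥤ᵇ 𝒵) (κ : F₂ ≅ F₁)

/-- The cospan morphism replacing the first functor by an isomorphic one. -/
def DisoFst : MapData F₁ K F₂ K (BasedFunctor.id 𝒜) (BasedFunctor.id ℬ) (BasedFunctor.id 𝒵) where
  e₁ := fun x' => ((BasedNatTrans.forgetful _ _).mapIso κ).app x'
  n₁ := fun α => κ.hom.toNatTrans.naturality α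
  l₁ := fun x' => Vert.app κ.hom x'
  e₂ := fun _ => Iso.refl _
  n₂ := fun _ => (Category.comp_id _).trans (Category.id_comp _).symm
  l₂ := fun _ => Vert.id _

abbrev isoMapFst : fp F₂ K ⥤ᵇ fp F₁ K := fpMap (DisoFst F₁ F₂ K κ)

theorem isEquivOver_isoMapFst : IsEquivOver (isoMapFst F₁ F₂ K κ) :=
  isEquivOver_fpMap (DisoFst F₁ F₂ K κ) (isEquivOver_id _) (isEquivOver_id _) (isEquivOver_id _)

end IsoFst

variable {𝒳 : AlgSt.Cat S}

theorem repByAlgSp_of_equiv' {𝒜 ℬ : AlgSt.Cat S} (E : 𝒜 ⥤ᵇ ℬ) (hE : IsEquivOver E)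
    (h : AlgSt.RepByAlgSp ℬ) : AlgSt.RepByAlgSp 𝒜 := by
  obtain ⟨E', hE', -, -⟩ := exists_inverse E hE
  exact Groth.Agent.Lib.Helper27.FpRepSp2.repByAlgSp_of_equiv E' hE' h

/-- If the diagonal is representable by algebraic spaces then so is every chart. -/
theorem chart_of_diag (h𝒳 : FibCat.IsFibGrpd 𝒳.p)
    (hΔ : AlgSt.RepByAlgSp1 (diag (toSelf 𝒳))) (U : Over S) (x : overCat U ⥤ᵇ 𝒳) :
    AlgSt.RepByAlgSp1 x := by
  intro V y
  have hself := Groth.Agent.Lib.Helper27.ReprDiag.isFibGrpd_selfOver (C := Over S)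
  have hU := Groth.Agent.Lib.Helper27.ReprAux.isFibGrpd_overCat U
  have hV := Groth.Agent.Lib.Helper27.ReprAux.isFibGrpd_overCat V
  have h𝒬 : AlgSt.RepByAlgSp (fp (BasedFunctor.comp y (toSelf 𝒳))
      (BasedFunctor.comp x (toSelf 𝒳))) :=
    Groth.Agent.Lib.Helper27.DiagLft.repByAlgSp1_to_selfOver U (BasedFunctor.comp x (toSelf 𝒳)) V
      (BasedFunctor.comp y (toSelf 𝒳))
  have h1 : AlgSt.RepByAlgSp (fp (P x (toSelf 𝒳) y) (diag (toSelf 𝒳))) :=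
    Groth.Agent.Lib.Helper27.FpRepSp.repByAlgSp_fp h𝒳
      (Groth.Agent.Lib.Helper27.FpFib.isFibGrpd_fp _ _ h𝒳 h𝒳 hself)
      (Groth.Agent.Lib.Helper27.FpFib.isFibGrpd_fp _ _ hV hU hself)
      (diag (toSelf 𝒳)) (P x (toSelf 𝒳) y) hΔ h𝒬
  exact Groth.Agent.Lib.Helper27.FpRepSp2.repByAlgSp_of_equiv (K x (toSelf 𝒳) y)
    (isEquivOver_K x (toSelf 𝒳) y) h1

section Converse

variable {W : Over S} (G : overCat W ⥤ᵇ fp (toSelf 𝒳) (toSelf 𝒳))

abbrev ca : overCat W ⥤ᵇ 𝒳 := BasedFunctor.comp G (fpFst (toSelf 𝒳) (toSelf 𝒳))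
abbrev cb : overCat W ⥤ᵇ 𝒳 := BasedFunctor.comp G (fpSnd (toSelf 𝒳) (toSelf 𝒳))

/-- The 2-isomorphism carried by `G`. -/
def ε : BasedFunctor.comp (BasedFunctor.id (overCat W)) (BasedFunctor.comp (ca G) (toSelf 𝒳)) ≅
    BasedFunctor.comp (BasedFunctor.id (overCat W)) (BasedFunctor.comp (cb G) (toSelf 𝒳)) :=
  BasedNatIso.mkNatIso
    (NatIso.ofComponents (fun w => (G.toFunctor.obj w).obj.iso)
      (fun {w w'} m => hom_w (G.toFunctor.map m)))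
    (fun w => (vert_iso (G.toFunctor.obj w)).lift
      ((BasedFunctor.comp (ca G) (toSelf 𝒳)).w_obj w))

/-- The section of the product defined by `G`. -/
abbrev δ' : overCat W ⥤ᵇ fp (BasedFunctor.comp (ca G) (toSelf 𝒳))
    (BasedFunctor.comp (cb G) (toSelf 𝒳)) :=
  fpLift (BasedFunctor.id (overCat W)) (BasedFunctor.id (overCat W)) (ε G)

theorem θ_w (w : (overCat W).obj) :
    (toSelf 𝒳).toFunctor.map (Iso.refl (G.toFunctor.obj w).obj.fst).hom ≫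
        (G.toFunctor.obj w).obj.iso.hom =
      ((P (cb G) (toSelf 𝒳) (ca G)).toFunctor.obj ((δ' G).toFunctor.obj w)).obj.iso.hom ≫
        (toSelf 𝒳).toFunctor.map (Iso.refl (G.toFunctor.obj w).obj.snd).hom := by
  rw [P_iso_hom]
  change (toSelf 𝒳).toFunctor.map (𝟙 _) ≫ (G.toFunctor.obj w).obj.iso.hom =
    (G.toFunctor.obj w).obj.iso.hom ≫ (toSelf 𝒳).toFunctor.map (𝟙 _)
  rw [(toSelf 𝒳).toFunctor.map_id, (toSelf 𝒳).toFunctor.map_id, Category.id_comp,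
    Category.comp_id]

def θObj (w : (overCat W).obj) :
    (P (cb G) (toSelf 𝒳) (ca G)).toFunctor.obj ((δ' G).toFunctor.obj w) ≅ G.toFunctor.obj w :=
  mkIso (t := (P (cb G) (toSelf 𝒳) (ca G)).toFunctor.obj ((δ' G).toFunctor.obj w))
    (t' := G.toFunctor.obj w) (Iso.refl _) (Iso.refl _) (θ_w G w)

theorem θObj_vert (w : (overCat W).obj) : Vert (θObj G w).hom := by
  rw [vert_hom_iff]
  exact Vert.id _

def θ : BasedFunctor.comp (δ' G) (P (cb G) (toSelf 𝒳) (ca G)) ≅ G :=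
  BasedNatIso.mkNatIso
    (NatIso.ofComponents (fun w => θObj G w)
      (fun {w w'} m => by
        apply Groth.Agent.Lib.Helper27.StackFp.hom_ext'
        · exact (Category.comp_id _).trans (Category.id_comp _).symm
        · exact (Category.comp_id _).trans (Category.id_comp _).symm))
    (fun w => (θObj_vert G w).lift
      ((BasedFunctor.comp (δ' G) (P (cb G) (toSelf 𝒳) (ca G))).w_obj w))

theorem repByAlgSp_fp_diag (h𝒳 : FibCat.IsFibGrpd 𝒳.p)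
    (h : ∀ (U : Over S) (x : overCat U ⥤ᵇ 𝒳), AlgSt.RepByAlgSp1 x) :
    AlgSt.RepByAlgSp (fp G (diag (toSelf 𝒳))) := by
  have hself := Groth.Agent.Lib.Helper27.ReprDiag.isFibGrpd_selfOver (C := Over S)
  have hW := Groth.Agent.Lib.Helper27.ReprAux.isFibGrpd_overCat W
  have hsq := Groth.Agent.Lib.Helper27.FpFib.isFibGrpd_fp (toSelf 𝒳) (toSelf 𝒳) h𝒳 h𝒳 hself
  have hQ := Groth.Agent.Lib.Helper27.FpFib.isFibGrpd_fp (BasedFunctor.comp (ca G) (toSelf 𝒳))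
    (BasedFunctor.comp (cb G) (toSelf 𝒳)) hW hW hself
  have h𝒬 : AlgSt.RepByAlgSp (fp (BasedFunctor.comp (ca G) (toSelf 𝒳))
      (BasedFunctor.comp (cb G) (toSelf 𝒳))) :=
    Groth.Agent.Lib.Helper27.DiagLft.repByAlgSp1_to_selfOver W
      (BasedFunctor.comp (cb G) (toSelf 𝒳)) W (BasedFunctor.comp (ca G) (toSelf 𝒳))
  have hab : AlgSt.RepByAlgSp (fp (ca G) (cb G)) := h W (cb G) W (ca G)
  have hPΔ : AlgSt.RepByAlgSp (fp (P (cb G) (toSelf 𝒳) (ca G)) (diag (toSelf 𝒳))) :=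
    repByAlgSp_of_equiv' (K (cb G) (toSelf 𝒳) (ca G)) (isEquivOver_K (cb G) (toSelf 𝒳) (ca G)) hab
  have hf : AlgSt.RepByAlgSp1 (fpFst (P (cb G) (toSelf 𝒳) (ca G)) (diag (toSelf 𝒳))) :=
    Groth.Agent.Lib.Helper27.PshRepSp.repByAlgSp1_of_repByAlgSp hPΔ h𝒬 _
  have h1 : AlgSt.RepByAlgSp (fp (δ' G) (fpFst (P (cb G) (toSelf 𝒳) (ca G)) (diag (toSelf 𝒳)))) :=
    Groth.Agent.Lib.Helper27.FpRepSp.repByAlgSp_fp
      (Groth.Agent.Lib.Helper27.FpFib.isFibGrpd_fp _ _ hQ h𝒳 hsq) hQ hW _ (δ' G) hf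
      (Groth.Agent.Lib.Helper27.FpRepSp2.repByAlgSp_overCat W)
  have h2 : AlgSt.RepByAlgSp (fp (BasedFunctor.comp (δ' G) (P (cb G) (toSelf 𝒳) (ca G)))
      (diag (toSelf 𝒳))) :=
    Groth.Agent.Lib.Helper27.FpRepSp2.repByAlgSp_of_equiv
      (pasteL (diag (toSelf 𝒳)) (P (cb G) (toSelf 𝒳) (ca G)) (δ' G))
      (isEquivOver_pasteL _ _ _) h1
  exact Groth.Agent.Lib.Helper27.FpRepSp2.repByAlgSp_of_equiv
    (isoMapFst G _ (diag (toSelf 𝒳)) (θ G)) (isEquivOver_isoMapFst G _ _ (θ G)) h2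

end Converse

theorem repByAlgSp1_diag_iff (h𝒳 : FibCat.IsFibGrpd 𝒳.p) :
    AlgSt.RepByAlgSp1 (diag (toSelf 𝒳)) ↔
      ∀ (U : Over S) (x : overCat U ⥤ᵇ 𝒳), AlgSt.RepByAlgSp1 x :=
  ⟨fun hΔ U x => chart_of_diag h𝒳 hΔ U x, fun h W G => repByAlgSp_fp_diag G h𝒳 h⟩

end Groth.Agent.Lib.Helper27.DiagIff
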