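import Groth.Agent.Lib.Helper27.SmSrcAlg
import Groth.Agent.Lib.Helper3.EtSrcLocal5
import Mathlib.RingTheory.MvPolynomial.Localization
import Mathlib.RingTheory.RingHom.StandardSmooth
import Mathlib.AlgebraicGeometry.Morphisms.Smooth

set_option autoImplicit false
set_option backward.isDefEq.respectTransparency false
set_option backward.isDefEq.respectTransparency.types false
universe u
open CategoryTheory CategoryTheory.Limits AlgebraicGeometry MorphismProperty

namespace Groth.Agent.Lib.Helper27.SmSrcLocal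

attribute [local instance] MvPolynomial.algebraMvPolynomial

/-- The ring map `B ⟶ B[x]_F`. -/
noncomputable def awayC {B : CommRingCat.{u}} {n : ℕ} (F : MvPolynomial (Fin n) B) :
    B ⟶ CommRingCat.of (Localization.Away F) :=
  CommRingCat.ofHom ((algebraMap (MvPolynomial (Fin n) B) (Localization.Away F)).comp MvPolynomial.C)

/-- Affine smooth step, pointwise: source-locality for standard smooth ring maps, given the
descent along `B ⟶ B[x]_F`. -/
theorem exists_open_of_stdSmooth_Spec (P : MorphismProperty Scheme.{u})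
    [P.IsStableUnderComposition] [P.RespectsIso]
    [P.DescendsAlong (@Surjective ⊓ @Flat ⊓ @LocallyOfFinitePresentation)]
    (hEt : @Etale ≤ P)
    (hcancel : ∀ {X Y Z : Scheme.{u}} (a : X ⟶ Y) (b : Y ⟶ Z), P (a ≫ b) → P b → P a)
    (hfp : ∀ {R R' : CommRingCat.{u}} (α : R ⟶ R'), α.hom.FinitePresentation → P (Spec.map α))
    (hdesc : ∀ {A B : CommRingCat.{u}} (α : A ⟶ B) {n : ℕ} (F : MvPolynomial (Fin n) B)
      (m : Fin n →₀ ℕ), IsUnit (F.coeff m) → P (Spec.map (awayC F) ≫ Spec.map α) → P (Spec.map α))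
    {A B C : CommRingCat.{u}} (φ : A ⟶ B) (ψ : B ⟶ C) (hψ : ψ.hom.IsStandardSmooth)
    (h : P (Spec.map ψ ≫ Spec.map φ)) (c : Spec C) :
    ∃ (W : Scheme.{u}) (j : W ⟶ Spec B), IsOpenImmersion j ∧
      (Spec.map ψ) c ∈ Set.range j ∧ P (j ≫ Spec.map φ) := by
  obtain ⟨n, g, hgC, hg⟩ := hψ.exists_etale_mvPolynomial
  let R : CommRingCat.{u} := CommRingCat.of (MvPolynomial (Fin n) B)
  let cB : B ⟶ R := CommRingCat.ofHom MvPolynomial.C
  let g' : R ⟶ C := CommRingCat.ofHom g
  have hcg : cB ≫ g' = ψ := by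
    ext x
    exact congrArg (fun f : B →+* C => f x) hgC
  have h' : P (Spec.map g' ≫ Spec.map (φ ≫ cB)) := by
    rw [Spec.map_comp, ← Category.assoc, ← Spec.map_comp, hcg]
    exact h
  obtain ⟨W', j', hj', hy, hP'⟩ :=
    Groth.Agent.Lib.Helper3.exists_open_of_etale_Spec P hEt hcancel hfp (φ ≫ cB) g' hg h' c
  let R₀ := MvPolynomial (Fin n) B
  obtain ⟨y, hy'⟩ : ∃ y : PrimeSpectrum R₀, y = (Spec.map g') c := ⟨_, rfl⟩
  have hopen : IsOpen (Set.range j') := j'.isOpenEmbedding.isOpen_range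
  rw [← hy'] at hy
  obtain ⟨_, ⟨_, ⟨F, rfl⟩, rfl⟩, hyF, hFsub⟩ :=
    PrimeSpectrum.isBasis_basic_opens.exists_subset_of_mem_open hy hopen
  have hcoef : ∃ m, F.coeff m ∉ (PrimeSpectrum.comap (MvPolynomial.C : B →+* R₀) y).asIdeal := by
    by_contra hcon
    push Not at hcon
    apply hyF
    have h1 : F ∈ Ideal.map (MvPolynomial.C : B →+* R₀)
        (PrimeSpectrum.comap (MvPolynomial.C : B →+* R₀) y).asIdeal := by
      rw [MvPolynomial.mem_map_C_iff]; exact hcon
    exact Ideal.map_le_iff_le_comap.2 le_rfl h1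
  obtain ⟨m, hm⟩ := hcoef
  obtain ⟨c₀, hc₀⟩ : ∃ c₀ : B, c₀ = F.coeff m := ⟨_, rfl⟩
  let B₁ := Localization.Away c₀
  let S₁ := MvPolynomial (Fin n) B₁
  have hS₁ : IsLocalization.Away (MvPolynomial.C c₀ : R₀) S₁ := by
    have h1 : IsLocalization ((Submonoid.powers c₀).map (MvPolynomial.C (σ := Fin n))) S₁ :=
      MvPolynomial.isLocalization (Submonoid.powers c₀) B₁
    rw [Submonoid.map_powers] at h1
    exact h1
  let F₁ : S₁ := algebraMap R₀ S₁ F
  let T := Localization.Away F₁
  have hT : IsLocalization.Away (F * MvPolynomial.C c₀ : R₀) T := inferInstance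
  let ιT : R ⟶ CommRingCat.of T := CommRingCat.ofHom (algebraMap R₀ T)
  have hιT : IsOpenImmersion (Spec.map ιT) :=
    IsOpenImmersion.of_isLocalization (F * MvPolynomial.C c₀ : R₀)
  have hrange : Set.range (Spec.map ιT) ⊆ Set.range j' := by
    refine subset_trans ?_ hFsub
    have h1 : Set.range (Spec.map ιT) =
        ((PrimeSpectrum.basicOpen (F * MvPolynomial.C c₀ : R₀) :
          TopologicalSpace.Opens (PrimeSpectrum R₀)) : Set (PrimeSpectrum R₀)) :=
      PrimeSpectrum.localization_away_comap_range T (F * MvPolynomial.C c₀ : R₀)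
    rw [h1, PrimeSpectrum.basicOpen_mul]
    exact Set.inter_subset_left
  have hPT : P (Spec.map ιT ≫ Spec.map (φ ≫ cB)) := by
    rw [← IsOpenImmersion.lift_fac j' (Spec.map ιT) hrange, Category.assoc]
    exact P.comp_mem _ _ (hEt _ _ _ inferInstance) hP'
  let β : B ⟶ CommRingCat.of B₁ := CommRingCat.ofHom (algebraMap B B₁)
  have hring : (φ ≫ cB) ≫ ιT = (φ ≫ β) ≫ awayC F₁ := by
    rw [Category.assoc, Category.assoc]
    congr 1
    ext b
    change algebraMap R₀ T (MvPolynomial.C b) =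
      algebraMap S₁ T (MvPolynomial.C (algebraMap B B₁ b))
    rw [IsScalarTower.algebraMap_apply R₀ S₁ T]
    congr 1
    exact MvPolynomial.map_C _ _
  have hu : IsUnit (F₁.coeff m) := by
    have h1 : F₁.coeff m = algebraMap B B₁ (F.coeff m) := MvPolynomial.coeff_map _ _ _
    rw [h1, ← hc₀]
    exact IsLocalization.Away.algebraMap_isUnit c₀
  have hPβ : P (Spec.map (φ ≫ β)) := by
    refine hdesc (φ ≫ β) F₁ m hu ?_
    rw [← Spec.map_comp, ← hring, Spec.map_comp]
    exact hPT
  refine ⟨Spec (CommRingCat.of B₁), Spec.map β, inferInstance, ?_, ?_⟩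
  · have h1 : Set.range (Spec.map β) =
        ((PrimeSpectrum.basicOpen c₀ : TopologicalSpace.Opens (PrimeSpectrum B)) :
          Set (PrimeSpectrum B)) :=
      PrimeSpectrum.localization_away_comap_range B₁ c₀
    rw [h1]
    have h2 : (Spec.map ψ) c = PrimeSpectrum.comap (MvPolynomial.C : B →+* R₀) y := by
      rw [hy', ← hcg, Spec.map_comp]
      rfl
    rw [h2, hc₀]
    exact hm
  · rw [← Spec.map_comp]
    exact hPβ

/-- Smooth-source-locality, pointwise, over an affine target. -/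
theorem exists_open_of_smooth_of_isAffine (P : MorphismProperty Scheme.{u})
    [P.IsStableUnderComposition] [IsZariskiLocalAtSource P]
    [P.DescendsAlong (@Surjective ⊓ @Flat ⊓ @LocallyOfFinitePresentation)]
    (hEt : @Etale ≤ P)
    (hcancel : ∀ {X Y Z : Scheme.{u}} (a : X ⟶ Y) (b : Y ⟶ Z), P (a ≫ b) → P b → P a)
    (hfp : ∀ {R R' : CommRingCat.{u}} (α : R ⟶ R'), α.hom.FinitePresentation → P (Spec.map α))
    (hdesc : ∀ {A B : CommRingCat.{u}} (α : A ⟶ B) {n : ℕ} (F : MvPolynomial (Fin n) B)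
      (m : Fin n →₀ ℕ), IsUnit (F.coeff m) → P (Spec.map (awayC F) ≫ Spec.map α) → P (Spec.map α))
    {U' U V : Scheme.{u}} [IsAffine V] (π : U' ⟶ U) (g : U ⟶ V) [Smooth π]
    (h : P (π ≫ g)) (u' : U') :
    ∃ W : U.Opens, π u' ∈ W ∧ P (W.ι ≫ g) := by
  obtain ⟨U₁, hU₁, U'₁, hU'₁, hu', e', hstd⟩ := Smooth.exists_isStandardSmooth π u'
  have hV := isAffineOpen_top V
  have eg : U₁ ≤ g ⁻¹ᵁ ⊤ := le_top
  let φ := g.appLE ⊤ U₁ eg
  let ψ := π.appLE U₁ U'₁ e'
  have e1 : Spec.map ψ ≫ hU₁.fromSpec = hU'₁.fromSpec ≫ π :=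
    IsAffineOpen.SpecMap_appLE_fromSpec π hU₁ hU'₁ e'
  have e2 : Spec.map φ ≫ hV.fromSpec = hU₁.fromSpec ≫ g :=
    IsAffineOpen.SpecMap_appLE_fromSpec g hV hU₁ eg
  have h1 : P ((Spec.map ψ ≫ Spec.map φ) ≫ hV.fromSpec) := by
    rw [Category.assoc, e2, reassoc_of% e1]
    exact IsZariskiLocalAtSource.comp h _
  have h2 : P (Spec.map ψ ≫ Spec.map φ) :=
    hcancel _ hV.fromSpec h1 (hEt _ _ _ inferInstance)
  obtain ⟨c, hc⟩ : ∃ c : Spec Γ(U', U'₁), hU'₁.fromSpec c = u' := by
    have : u' ∈ Set.range hU'₁.fromSpec := by rw [hU'₁.range_fromSpec]; exact hu'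
    exact this
  obtain ⟨W, j, hj, hcj, hPj⟩ := exists_open_of_stdSmooth_Spec P hEt hcancel hfp hdesc φ ψ hstd h2 c
  refine ⟨(j ≫ hU₁.fromSpec).opensRange, ?_, Groth.Agent.Lib.Helper3.comp_opensRange_ι P _ _ ?_⟩
  · obtain ⟨w, hw⟩ := hcj
    refine ⟨w, ?_⟩
    rw [Scheme.Hom.comp_apply, hw, ← hc, ← Scheme.Hom.comp_apply, ← Scheme.Hom.comp_apply, e1]
  · rw [Category.assoc, ← e2, ← Category.assoc]
    exact P.comp_mem _ _ hPj (hEt _ _ _ inferInstance)

/-- **Smooth-source-locality**: a property of morphisms of schemes which is etale local on the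
source, satisfies fppf descent on the target and descends along `B ⟶ B[x]_F` can be checked after
precomposition with a surjective smooth morphism. -/
theorem of_smooth_surjective_comp (P : MorphismProperty Scheme.{u})
    [P.IsStableUnderComposition] [IsZariskiLocalAtSource P] [IsZariskiLocalAtTarget P]
    [P.DescendsAlong (@Surjective ⊓ @Flat ⊓ @LocallyOfFinitePresentation)]
    (hEt : @Etale ≤ P)
    (hcancel : ∀ {X Y Z : Scheme.{u}} (a : X ⟶ Y) (b : Y ⟶ Z), P (a ≫ b) → P b → P a)
    (hfp : ∀ {R R' : CommRingCat.{u}} (α : R ⟶ R'), α.hom.FinitePresentation → P (Spec.map α))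
    (hdesc : ∀ {A B : CommRingCat.{u}} (α : A ⟶ B) {n : ℕ} (F : MvPolynomial (Fin n) B)
      (m : Fin n →₀ ℕ), IsUnit (F.coeff m) → P (Spec.map (awayC F) ≫ Spec.map α) → P (Spec.map α))
    {U' U V : Scheme.{u}} (π : U' ⟶ U) (g : U ⟶ V) [Smooth π] [Surjective π]
    (h : P (π ≫ g)) : P g := by
  rw [IsZariskiLocalAtTarget.iff_of_iSup_eq_top (P := P) _ (iSup_affineOpens_eq_top V)]
  intro V₀
  have H := IsZariskiLocalAtTarget.restrict h V₀.1
  rw [morphismRestrict_comp] at H
  have : IsAffine (Scheme.Opens.toScheme (X := V) V₀.1) := V₀.2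
  have : IsZariskiLocalAtTarget @Smooth.{u} := HasRingHomProperty.instIsZariskiLocalAtTarget @Smooth
  have hsm : Smooth (π ∣_ g ⁻¹ᵁ V₀.1) :=
    IsZariskiLocalAtTarget.restrict (P := @Smooth) inferInstance _
  have hsurj : Surjective (π ∣_ g ⁻¹ᵁ V₀.1) :=
    IsZariskiLocalAtTarget.restrict (P := @Surjective) inferInstance _
  have key : ∀ u : (g ⁻¹ᵁ V₀.1).toScheme, ∃ W : (g ⁻¹ᵁ V₀.1).toScheme.Opens,
      u ∈ W ∧ P (W.ι ≫ g ∣_ V₀.1) := by
    intro u
    obtain ⟨u', rfl⟩ := (π ∣_ g ⁻¹ᵁ V₀.1).surjective u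
    exact exists_open_of_smooth_of_isAffine P hEt hcancel hfp hdesc (π ∣_ g ⁻¹ᵁ V₀.1) (g ∣_ V₀.1) H u'
  choose W hW hPW using key
  refine IsZariskiLocalAtSource.of_iSup_eq_top W ?_ hPW
  rw [eq_top_iff]
  rintro u -
  simp only [TopologicalSpace.Opens.mem_iSup]
  exact ⟨u, hW u⟩

theorem finiteType_of_awayC {A B : CommRingCat.{u}} (α : A ⟶ B) {n : ℕ}
    (F : MvPolynomial (Fin n) B) (m : Fin n →₀ ℕ) (hu : IsUnit (F.coeff m))
    (h : (α ≫ awayC F).hom.FiniteType) : α.hom.FiniteType := by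
  let _ : Algebra A B := α.hom.toAlgebra
  have hinst : (inferInstance : Algebra A (Localization.Away F)) =
      (α ≫ awayC F).hom.toAlgebra := by
    apply Algebra.algebra_ext
    intro r
    rw [IsScalarTower.algebraMap_apply A (MvPolynomial (Fin n) B) (Localization.Away F)]
    rfl
  have h' : Algebra.FiniteType A (Localization.Away F) := by
    have h2 : @Algebra.FiniteType A (Localization.Away F) _ _ (α ≫ awayC F).hom.toAlgebra := h
    rw [← hinst] at h2
    exact h2
  exact SmSrcAlg.finiteType_of_away (L := Localization.Away F) F m hu h'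

theorem finitePresentation_of_awayC {A B : CommRingCat.{u}} (α : A ⟶ B) {n : ℕ}
    (F : MvPolynomial (Fin n) B) (m : Fin n →₀ ℕ) (hu : IsUnit (F.coeff m))
    (h : (α ≫ awayC F).hom.FinitePresentation) : α.hom.FinitePresentation := by
  let _ : Algebra A B := α.hom.toAlgebra
  have hinst : (inferInstance : Algebra A (Localization.Away F)) =
      (α ≫ awayC F).hom.toAlgebra := by
    apply Algebra.algebra_ext
    intro r
    rw [IsScalarTower.algebraMap_apply A (MvPolynomial (Fin n) B) (Localization.Away F)]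
    rfl
  have h' : Algebra.FinitePresentation A (Localization.Away F) := by
    have h2 : @Algebra.FinitePresentation A (Localization.Away F) _ _
      (α ≫ awayC F).hom.toAlgebra := h
    rw [← hinst] at h2
    exact h2
  exact SmSrcAlg.finitePresentation_of_away (L := Localization.Away F) F m hu h'

/-- Being locally of finite type is smooth local on the source. -/
theorem locallyOfFiniteType_of_smooth_surjective_comp {U' U V : Scheme.{u}} (π : U' ⟶ U)
    (g : U ⟶ V) [Smooth π] [Surjective π] (h : LocallyOfFiniteType (π ≫ g)) :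
    LocallyOfFiniteType g := by
  refine of_smooth_surjective_comp @LocallyOfFiniteType ?_ ?_ ?_ ?_ π g h
  · intro X Y f hf
    have : Etale f := hf
    infer_instance
  · intro X Y Z a b hab _
    exact locallyOfFiniteType_of_comp a b
  · intro R R' α hα
    have : LocallyOfFinitePresentation (Spec.map α) :=
      (HasRingHomProperty.Spec_iff (P := @LocallyOfFinitePresentation)).2 hα
    infer_instance
  · intro A B α n F m hu hP
    rw [← Spec.map_comp, HasRingHomProperty.Spec_iff (P := @LocallyOfFiniteType)] at hP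
    rw [HasRingHomProperty.Spec_iff (P := @LocallyOfFiniteType)]
    exact finiteType_of_awayC α F m hu hP

/-- Being locally of finite presentation is smooth local on the source. -/
theorem locallyOfFinitePresentation_of_smooth_surjective_comp {U' U V : Scheme.{u}} (π : U' ⟶ U)
    (g : U ⟶ V) [Smooth π] [Surjective π] (h : LocallyOfFinitePresentation (π ≫ g)) :
    LocallyOfFinitePresentation g := by
  refine of_smooth_surjective_comp @LocallyOfFinitePresentation ?_ ?_ ?_ ?_ π g h
  · intro X Y f hf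
    have : Etale f := hf
    infer_instance
  · intro X Y Z a b hab hb
    have : LocallyOfFinitePresentation b := hb
    exact Groth.Agent.Lib.Helper3.locallyOfFinitePresentation_of_comp a b hab inferInstance
  · intro R R' α hα
    exact (HasRingHomProperty.Spec_iff (P := @LocallyOfFinitePresentation)).2 hα
  · intro A B α n F m hu hP
    rw [← Spec.map_comp, HasRingHomProperty.Spec_iff (P := @LocallyOfFinitePresentation)] at hP
    rw [HasRingHomProperty.Spec_iff (P := @LocallyOfFinitePresentation)]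
    exact finitePresentation_of_awayC α F m hu hP

end Groth.Agent.Lib.Helper27.SmSrcLocal
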