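import Groth.Agent.Lib.Helper27.LocQSmoothOpen
import Groth.Agent.Lib.Helper27.LocQFlatCancel
import Groth.Agent.Lib.Helper27.SmSrcSmooth

/-!
# Open substacks and smooth morphisms of algebraic stacks: inverse images, cancellation and
descent along smooth surjections (helper27)
-/

set_option autoImplicit false
set_option backward.isDefEq.respectTransparency false
set_option backward.isDefEq.respectTransparency.types false

universe u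

open CategoryTheory CategoryTheory.Limits AlgebraicGeometry Opposite FibCat
  Groth.Agent.Lib.Helper27.FpKit Groth.Agent.Lib.Helper27.PshKit Groth.Agent.Lib.Helper27.PshFp
  Groth.Agent.Lib.Helper27.PshRep Groth.Agent.Lib.Helper27.RepWithComp
  Groth.Agent.Lib.Helper27.Descent Groth.Agent.Lib.Helper27.LocQChart
  Groth.Agent.Lib.Helper27.LocQSpace Groth.Agent.Lib.Helper27.LocQOver
  Groth.Agent.Lib.Helper27.LocQComp Groth.Agent.Lib.Helper27.FpBaseChange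
  Groth.Agent.Lib.Helper27.LocQBase Groth.Agent.Lib.Helper27.FpSwap
  Groth.Agent.Lib.Helper27.LocQTriple Groth.Agent.Lib.Helper27.LocQEquiv
  Groth.Agent.Lib.Helper27.OpenSub Groth.Agent.Lib.Helper27.PointsKit

namespace Groth.Agent.Lib.Helper27.LocQSmoothOpen

variable {S : Scheme.{u}}

open Stk

local infixr:80 " ⊚ " => BasedFunctor.comp

section Preimage

variable {𝒳' 𝒳 : AlgSt.Cat S}

/-- An open substack has an open locus on every chart. -/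
theorem locus_of_isOpenSubstack (h𝒳 : AlgSt.IsAlgStack Scheme.fppfPrecoverage 𝒳)
    {Q : 𝒳.obj → Prop} (hQ : AlgSt.IsOpenSubstack 𝒳 Q Scheme.fppfPrecoverage) (T : Over S)
    (y : overCat T ⥤ᵇ 𝒳) :
    ∃ V : T.left.Opens, ∀ g : Over T,
      Q (y.toFunctor.obj g) ↔ Set.range g.hom.left ⊆ (V : Set T.left) := by
  obtain ⟨V, hV⟩ := QW_locus h𝒳 _ (isOpen_range_subIncl h𝒳 hQ) T y
  exact ⟨V, fun g => (iff_QW_range h𝒳 hQ _).trans (hV g)⟩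

/-- The inverse image of an open substack is an open substack. -/
theorem isOpenSubstack_preimage (h𝒳' : AlgSt.IsAlgStack Scheme.fppfPrecoverage 𝒳')
    (h𝒳 : AlgSt.IsAlgStack Scheme.fppfPrecoverage 𝒳) (g : 𝒳' ⥤ᵇ 𝒳)
    {Q : 𝒳.obj → Prop} (hQ : AlgSt.IsOpenSubstack 𝒳 Q Scheme.fppfPrecoverage) :
    AlgSt.IsOpenSubstack 𝒳' (fun a => Q (g.obj a)) Scheme.fppfPrecoverage :=
  isOpenSubstack_of_locus _
    (fun _ _ φ hb => pull_of_isOpenSubstack h𝒳.isStack.1 hQ (g.toFunctor.map φ) hb)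
    (fun T y => locus_of_isOpenSubstack h𝒳 hQ T (y ⊚ g)) h𝒳'

end Preimage

section Reflect

variable {𝒳 𝒜 : AlgSt.Cat S} (Q : 𝒳.obj → Prop)

/-- Isomorphisms of functors to a full subcategory may be checked after the inclusion. -/
def isoOfCompSubIncl {F G : 𝒜 ⥤ᵇ AlgSt.fullSub 𝒳 Q}
    (e : F ⊚ AlgSt.subIncl 𝒳 Q ≅ G ⊚ AlgSt.subIncl 𝒳 Q) : F ≅ G :=
  BasedNatIso.mkNatIso
    (NatIso.ofComponents
      (fun t => ObjectProperty.isoMk Q (((BasedNatTrans.forgetful _ _).mapIso e).app t))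
      (fun {t t'} m => by
        apply ObjectProperty.hom_ext
        exact e.hom.toNatTrans.naturality m))
    (fun t => by
      have h1 : 𝒳.p.IsHomLift (𝟙 (𝒜.p.obj t)) (e.hom.toNatTrans.app t) := inferInstance
      exact (Groth.Agent.Lib.Helper27.StackSub.lift_iff (Q := Q) _ _).2 h1)

end Reflect

section Cancel

variable {𝒳 𝒵 : AlgSt.Cat S}

/-- A morphism to an open substack is smooth on a chart square as soon as its composite with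
the inclusion is. -/
theorem locQ_smooth_of_comp_subIncl (h𝒳 : AlgSt.IsAlgStack Scheme.fppfPrecoverage 𝒳)
    {Q : 𝒳.obj → Prop} (hQ : AlgSt.IsOpenSubstack 𝒳 Q Scheme.fppfPrecoverage)
    (a : 𝒵 ⥤ᵇ AlgSt.fullSub 𝒳 Q)
    (ha : AlgSt.LocQ (AlgSp.LocP @Smooth) (a ⊚ AlgSt.subIncl 𝒳 Q)) :
    AlgSt.LocQ (AlgSp.LocP @Smooth) a := by
  obtain ⟨U, V, x, v, h, α, hx₁, hx₂, hv₁, hPh⟩ := ha
  obtain ⟨W, hW⟩ := locus_of_isOpenSubstack h𝒳 hQ V v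
  have hcl := hQ.1
  have hfU : FibCat.IsFibGrpd (overCat U).p :=
    Groth.Agent.Lib.Helper27.ReprAux.isFibGrpd_overCat U
  have hfV : FibCat.IsFibGrpd (overCat V).p :=
    Groth.Agent.Lib.Helper27.ReprAux.isFibGrpd_overCat V
  have hfW : FibCat.IsFibGrpd (overCat (opObj W)).p :=
    Groth.Agent.Lib.Helper27.ReprAux.isFibGrpd_overCat (opObj W)
  -- the chart factors through the locus
  have hrange : Set.range h.left ⊆ Set.range W.ι := by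
    have h1 : Q ((AlgSt.overMap h ⊚ v).toFunctor.obj (Over.mk (𝟙 U))) :=
      ObjectProperty.IsClosedUnderIsomorphisms.of_iso
        (((BasedNatTrans.forgetful _ _).mapIso α).app (Over.mk (𝟙 U)))
        (a.toFunctor.obj (x.toFunctor.obj (Over.mk (𝟙 U)))).property
    have h2 := (hW ((AlgSt.overMap h).toFunctor.obj (Over.mk (𝟙 U)))).1 h1
    have h3 : ((AlgSt.overMap h).toFunctor.obj (Over.mk (𝟙 U))).hom.left = 𝟙 _ ≫ h.left := rfl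
    rw [h3, Category.id_comp] at h2
    rw [Scheme.Opens.range_ι]
    exact h2
  obtain ⟨h', hh'⟩ : ∃ h' : U ⟶ opObj W, h' ≫ opHom W = h := by
    refine ⟨Over.homMk (IsOpenImmersion.lift W.ι h.left hrange) ?_, ?_⟩
    · change IsOpenImmersion.lift W.ι h.left hrange ≫ (W.ι ≫ V.hom) = U.hom
      rw [IsOpenImmersion.lift_fac_assoc]
      exact Over.w h
    · apply Over.OverMorphism.ext
      exact IsOpenImmersion.lift_fac W.ι h.left hrange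
  have hq : ∀ g' : Over (opObj W), Q ((AlgSt.overMap (opHom W) ⊚ v).toFunctor.obj g') := by
    intro g'
    apply (hW ((AlgSt.overMap (opHom W)).toFunctor.obj g')).2
    rintro _ ⟨t, rfl⟩
    change (g'.hom.left ≫ W.ι) t ∈ (W : Set V.left)
    rw [Scheme.Hom.comp_apply]
    exact (g'.hom.left t).2
  obtain ⟨vQ, hvQ⟩ : ∃ vQ : overCat (opObj W) ⥤ᵇ AlgSt.fullSub 𝒳 Q,
      vQ ⊚ AlgSt.subIncl 𝒳 Q = AlgSt.overMap (opHom W) ⊚ v :=
    ⟨liftSub Q (AlgSt.overMap (opHom W) ⊚ v) hq, rfl⟩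
  have hjsm : AlgSt.RepByAlgSpWith (AlgSp.LocP @Smooth) (AlgSt.overMap (opHom W)) :=
    repByAlgSpWith_overMap _ Groth.Agent.Lib.Helper27.RepCancel.smooth_baseChange _
      (locP_smooth_yon_map (opHom W) (by change Smooth W.ι; infer_instance))
  have hvQ₁ : AlgSt.RepByAlgSpWith (AlgSp.LocP @Smooth) vQ := by
    apply repByAlgSpWith_of_comp_subIncl _ Q vQ
    rw [hvQ]
    exact comp_gen _ (compHyp_locP Groth.Agent.Lib.Helper3.isEtLocal_smooth) hfW hfV _ _ hjsm hv₁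
  have e1 : AlgSt.overMap h' ⊚ AlgSt.overMap (opHom W) ≅ AlgSt.overMap h := by
    have e := isoOverMap (AlgSt.overMap h' ⊚ AlgSt.overMap (opHom W))
    have he : homOf (AlgSt.overMap h' ⊚ AlgSt.overMap (opHom W)) = h := by
      rw [homOf_comp_overMap, homOf_overMap, hh']
    rw [he] at e
    exact e
  have e2 : (x ⊚ a) ⊚ AlgSt.subIncl 𝒳 Q ≅ (AlgSt.overMap h' ⊚ vQ) ⊚ AlgSt.subIncl 𝒳 Q := by
    have e3 : (AlgSt.overMap h' ⊚ vQ) ⊚ AlgSt.subIncl 𝒳 Q =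
        (AlgSt.overMap h' ⊚ AlgSt.overMap (opHom W)) ⊚ v := by
      change AlgSt.overMap h' ⊚ (vQ ⊚ AlgSt.subIncl 𝒳 Q) = _
      rw [hvQ]
      rfl
    rw [e3]
    exact α ≪≫ whiskerRightIso e1.symm v
  refine ⟨U, opObj W, x, vQ, h', isoOfCompSubIncl Q e2, hx₁, hx₂, hvQ₁, ?_⟩
  apply Groth.Agent.Lib.Helper27.RepCancel.smooth_of_comp_openImm (AlgSp.IsAlgSpace.yon_obj U)
    (AlgSp.IsAlgSpace.yon_obj (opObj W)) (AlgSp.IsAlgSpace.yon_obj V) _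
    ((AlgSp.yon S).map (opHom W))
    ((AlgSp.repWith_yon_map_iff _ _).2 (inferInstanceAs (IsOpenImmersion W.ι)))
  rw [← Functor.map_comp, hh']
  exact hPh

end Cancel

section Descent

open Groth.Agent.Lib.Helper27.LocQFlatCancel

variable {U V : Over S}

/-- A functor between slices which is smooth on a chart square is given by a smooth morphism. -/
theorem smooth_homOf_of_locQ (b : overCat U ⥤ᵇ overCat V)
    (hb : AlgSt.LocQ (AlgSp.LocP @Smooth) b) : Smooth (homOf b).left := by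
  have h1 : AlgSt.RepByAlgSpWith (AlgSp.LocP @Smooth) b :=
    Groth.Agent.Lib.Helper27.LocQRep.repByAlgSpWith_of_locQ _
      Groth.Agent.Lib.Helper27.SmLocP.isSmoothLocalST_locP_smooth
      Groth.Agent.Lib.Helper27.RepCancel.smooth_baseChange b (repByAlgSp1_slices b) hb
  exact AlgSp.locP_yon_map
    (prop_yon_homOf _ (compHyp_locP Groth.Agent.Lib.Helper3.isEtLocal_smooth) b h1)

variable {𝒳 𝒴 𝒵 : AlgSt.Cat S}

/-- If `f` is smooth and surjective and `f ≫ g` is smooth, then `g` is smooth (on chart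
squares). -/
theorem locQ_smooth_of_comp (h𝒳 : AlgSt.IsAlgStack Scheme.fppfPrecoverage 𝒳)
    (h𝒴 : AlgSt.IsAlgStack Scheme.fppfPrecoverage 𝒴)
    (h𝒵 : AlgSt.IsAlgStack Scheme.fppfPrecoverage 𝒵)
    (f : 𝒳 ⥤ᵇ 𝒴) (g : 𝒴 ⥤ᵇ 𝒵)
    (hf₁ : AlgSt.LocQ (AlgSp.LocP @Smooth) f) (hf₂ : AlgSt.IsSurjective f)
    (Hfg : AlgSt.LocQ (AlgSp.LocP @Smooth) (f ⊚ g)) : AlgSt.LocQ (AlgSp.LocP @Smooth) g := by
  obtain ⟨W, z, hz₁, hz₂⟩ := h𝒵.atlas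
  obtain ⟨V₀, y₀, hy₀₁, hy₀₂⟩ := h𝒴.atlas
  obtain ⟨U₀, x₀, hx₀₁, hx₀₂⟩ := h𝒳.atlas
  have hf𝒳 := h𝒳.isStack.1
  have hf𝒴 := h𝒴.isStack.1
  have hf𝒵 := h𝒵.isStack.1
  have hPfl : AlgSp.IsSmoothLocalST (AlgSp.LocP (S := S) @Smooth) :=
    Groth.Agent.Lib.Helper27.SmLocP.isSmoothLocalST_locP_smooth
  obtain ⟨U₁, x₁, l, γ₁, hx₁₁, hx₁₂, hc₃₁, hc₃₂⟩ :=
    exists_good_chart_surj hf𝒳 hf𝒵 (f ⊚ g) x₀ hx₀₁ hx₀₂ z hz₁ hz₂
  have hPl : AlgSp.LocP @Smooth ((AlgSp.yon S).map l) :=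
    Groth.Agent.Lib.Helper27.LocQAll.prop_of_locQ _ hPfl hf𝒳 hf𝒵 (f ⊚ g) Hfg x₁ z l γ₁ hz₁ hc₃₁
  obtain ⟨V₁, y₁, k₁, β₁, hy₁₁, hy₁₂, hc₂₁, hc₂₂⟩ :=
    exists_good_chart_surj hf𝒴 hf𝒵 g y₀ hy₀₁ hy₀₂ z hz₁ hz₂
  obtain ⟨c₂, hc₂def⟩ : ∃ c₂ : overCat V₁ ⥤ᵇ fp g z, c₂ = fpLift y₁ (AlgSt.overMap k₁) β₁ :=
    ⟨_, rfl⟩
  rw [← hc₂def] at hc₂₁ hc₂₂
  obtain ⟨c₃, hc₃def⟩ : ∃ c₃ : overCat U₁ ⥤ᵇ fp (f ⊚ g) z,
    c₃ = fpLift x₁ (AlgSt.overMap l) γ₁ := ⟨_, rfl⟩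
  rw [← hc₃def] at hc₃₁ hc₃₂
  obtain ⟨d, hddef⟩ : ∃ d : overCat U₁ ⥤ᵇ fp g z, d = fpLift (x₁ ⊚ f) (AlgSt.overMap l) γ₁ :=
    ⟨_, rfl⟩
  have hfU₁ : FibCat.IsFibGrpd (overCat U₁).p :=
    Groth.Agent.Lib.Helper27.ReprAux.isFibGrpd_overCat U₁
  have hfV₁ : FibCat.IsFibGrpd (overCat V₁).p :=
    Groth.Agent.Lib.Helper27.ReprAux.isFibGrpd_overCat V₁
  have hfW : FibCat.IsFibGrpd (overCat W).p := Groth.Agent.Lib.Helper27.ReprAux.isFibGrpd_overCat W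
  have hfgz : FibCat.IsFibGrpd (fp g z).p :=
    Groth.Agent.Lib.Helper27.FpFib.isFibGrpd_fp _ _ hf𝒴 hfW hf𝒵
  have hffgz : FibCat.IsFibGrpd (fp (f ⊚ g) z).p :=
    Groth.Agent.Lib.Helper27.FpFib.isFibGrpd_fp _ _ hf𝒳 hfW hf𝒵
  have ed : c₃ ⊚ mapFst g z f ≅ d := by
    rw [hc₃def, hddef]
    exact liftMapFst g z f x₁ (AlgSt.overMap l) γ₁
  have hm : AlgSt.LocQ (AlgSp.LocP @Smooth) (mapFst g z f) :=
    locQ_mapFst _ hPfl Groth.Agent.Lib.Helper27.RepCancel.smooth_baseChange hf𝒳 hf𝒴 f g z c₂ hc₂₁ hc₂₂ hf₁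
  have hd₁ : AlgSt.LocQ (AlgSp.LocP @Smooth) d :=
    locQ_of_iso _ ed
      (Groth.Agent.Lib.Helper27.LocQDescent.locQ_comp_smooth _ hPfl c₃ hc₃₁ (mapFst g z f) hm)
  have hd₂ : AlgSt.IsSurjective d :=
    isSurjective_of_iso ed (isSurjective_comp _ _
      (Groth.Agent.Lib.Helper27.StPoints.isSurjective_of_rep hfU₁ hffgz c₃ hc₃₂)
      (isSurjective_mapFst hf𝒳 hf𝒴 hfW hf𝒵 f g z hf₂))
  obtain ⟨C, eC, heC, -⟩ := hc₂₁ U₁ d
  obtain ⟨U, c, hc₁, hc₂⟩ := exists_atlas_of_equiv C eC heC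
  have hfU : FibCat.IsFibGrpd (overCat U).p := Groth.Agent.Lib.Helper27.ReprAux.isFibGrpd_overCat U
  have hfp : FibCat.IsFibGrpd (fp d c₂).p :=
    Groth.Agent.Lib.Helper27.FpFib.isFibGrpd_fp _ _ hfU₁ hfV₁ hfgz
  obtain ⟨a, hadef⟩ : ∃ a : overCat U ⥤ᵇ overCat U₁, a = c ⊚ fpFst d c₂ := ⟨_, rfl⟩
  obtain ⟨b, hbdef⟩ : ∃ b : overCat U ⥤ᵇ overCat V₁, b = c ⊚ fpSnd d c₂ := ⟨_, rfl⟩
  have ha₁ : AlgSt.RepByAlgSpWith (AlgSp.LocP @Smooth) a := by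
    rw [hadef]
    exact comp_gen _ (compHyp_locP Groth.Agent.Lib.Helper3.isEtLocal_smooth) hfU hfp c _ hc₁
      (Groth.Agent.Lib.Helper27.RepWithGeneral.repByAlgSpWith_fpFst _ c₂ d hc₂₁)
  obtain ⟨V', y', hy'₁, hy'₂⟩ := (Groth.Agent.Lib.Helper27.QcStack.isAlgStack_overCat V₁).atlas
  have hsnd : AlgSt.LocQ (AlgSp.LocP @Smooth) (fpSnd d c₂) :=
    locQ_fpSnd _ hPfl Groth.Agent.Lib.Helper27.RepCancel.smooth_baseChange hfU₁ hfgz d c₂ y' hy'₁ hy'₂ hd₁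
  have hb₁ : AlgSt.LocQ (AlgSp.LocP @Smooth) b := by
    rw [hbdef]
    exact Groth.Agent.Lib.Helper27.LocQDescent.locQ_comp_smooth _ hPfl c hc₁ _ hsnd
  have hb₂ : AlgSt.IsSurjective b := by
    rw [hbdef]
    exact isSurjective_comp _ _
      (Groth.Agent.Lib.Helper27.StPoints.isSurjective_of_rep hfU hfp c hc₂)
      (isSurjective_fpSnd hfU₁ hfgz hfV₁ d c₂ hd₂)
  have ι : a ⊚ d ≅ b ⊚ c₂ := by
    rw [hadef, hbdef]
    exact whiskerLeftIso c (fpIso d c₂)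
  have e2 : a ⊚ AlgSt.overMap l ≅ b ⊚ AlgSt.overMap k₁ := by
    have := whiskerRightIso ι (fpSnd g z)
    rw [hddef, hc₂def] at this
    exact this
  have heq : homOf b ≫ k₁ = homOf a ≫ l := by
    have h1 := homOf_congr e2
    rw [homOf_comp_overMap, homOf_comp_overMap] at h1
    exact h1.symm
  have hbfl : Smooth (homOf b).left := smooth_homOf_of_locQ b hb₁
  have hbsurj : Surjective (homOf b).left := ⟨surjective_homOf_of_isSurjective b hb₂⟩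
  have hasm : Smooth (homOf a).left :=
    AlgSp.locP_yon_map
      (prop_yon_homOf _ (compHyp_locP Groth.Agent.Lib.Helper3.isEtLocal_smooth) a ha₁)
  have hlfl : Smooth l.left := AlgSp.locP_yon_map hPl
  have hcomp : Smooth ((homOf b).left ≫ k₁.left) := by
    rw [← Over.comp_left, heq, Over.comp_left]
    infer_instance
  have hk : Smooth k₁.left :=
    Groth.Agent.Lib.Helper27.SmSrcSmooth.smooth_of_smooth_surjective_comp (homOf b).left k₁.left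
      hcomp
  refine ⟨V₁, W, y₁, z, k₁, β₁, hy₁₁, hy₁₂, hz₁, ?_⟩
  exact locP_smooth_yon_map k₁ hk

end Descent

section Image

open Groth.Agent.Lib.Helper27.StPoints

variable {𝒵 𝒳 : AlgSt.Cat S}

/-- The key identity on points of a chart square. -/
theorem map_chart_eq (c : 𝒵 ⥤ᵇ 𝒳) {U V : Over S} (x : overCat U ⥤ᵇ 𝒵) (v : overCat V ⥤ᵇ 𝒳)
    (h : U ⟶ V) (α : x ⊚ c ≅ AlgSt.overMap h ⊚ v) (t : ↥U.left) :
    AlgSt.Points.map c (AlgSt.Points.map x (ptOf U t)) = AlgSt.Points.ofChart v (h.left t) := by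
  rw [← ofChart_overMap h v t, ofChart_eq, ← map_comp x c]
  exact map_iso α _

/-- The image of a morphism of algebraic stacks which is smooth on a chart square is open. -/
theorem isOpen_range_map_of_locQ_smooth (h𝒵 : FibCat.IsFibGrpd 𝒵.p) (h𝒳 : FibCat.IsFibGrpd 𝒳.p)
    (c : 𝒵 ⥤ᵇ 𝒳) (hc : AlgSt.LocQ (AlgSp.LocP @Smooth) c) :
    IsOpen (Set.range (AlgSt.Points.map c)) := by
  obtain ⟨U, V, x, v, h, α, hx₁, hx₂, hv₁, hPh⟩ := hc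
  have hfU : FibCat.IsFibGrpd (overCat U).p :=
    Groth.Agent.Lib.Helper27.ReprAux.isFibGrpd_overCat U
  have hxs : AlgSt.IsSurjective x := isSurjective_of_rep hfU h𝒵 x hx₂
  have hsm : Smooth h.left := AlgSp.locP_yon_map hPh
  have heq : Set.range (AlgSt.Points.map c) = AlgSt.Points.ofChart v '' Set.range h.left := by
    ext p
    constructor
    · rintro ⟨q, rfl⟩
      obtain ⟨r, rfl⟩ := hxs q
      obtain ⟨t, rfl⟩ := (ptOf_bijective U).2 r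
      exact ⟨h.left t, ⟨t, rfl⟩, (map_chart_eq c x v h α t).symm⟩
    · rintro ⟨_, ⟨t, rfl⟩, rfl⟩
      exact ⟨AlgSt.Points.map x (ptOf U t), map_chart_eq c x v h α t⟩
  rw [heq]
  exact isOpenMap_ofChart_of_smooth h𝒳 v hv₁ _ h.left.isOpenMap.isOpen_range

end Image

section Largest

open Groth.Agent.Lib.Helper27.StPoints

variable {𝒳' 𝒳 𝒴 : AlgSt.Cat S}

theorem smooth_comp : ∀ ⦃X₁ Y₁ Z₁ : AlgSp.Sp S⦄, AlgSp.IsAlgSpace X₁ → AlgSp.IsAlgSpace Y₁ →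
    AlgSp.IsAlgSpace Z₁ → ∀ (a : X₁ ⟶ Y₁) (b : Y₁ ⟶ Z₁), AlgSp.LocP @Smooth a →
    AlgSp.LocP @Smooth b → AlgSp.LocP @Smooth (a ≫ b) :=
  fun _ _ _ h1 h2 h3 a b ha hb =>
    Groth.Agent.Lib.Helper3.locP_comp Groth.Agent.Lib.Helper3.isEtLocal_smooth h1 h2 h3 a b ha hb

/-- The image of an open substack under a smooth morphism is contained in every "largest smooth
locus": if `f ∘ g` is smooth on the open substack `Q'` of the source of the smooth morphism `g`,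
then `f` is smooth on an open substack containing the image of `Q'`. -/
theorem exists_open_image_locQ_smooth (h𝒳' : AlgSt.IsAlgStack Scheme.fppfPrecoverage 𝒳')
    (h𝒳 : AlgSt.IsAlgStack Scheme.fppfPrecoverage 𝒳)
    (h𝒴 : AlgSt.IsAlgStack Scheme.fppfPrecoverage 𝒴)
    (g : 𝒳' ⥤ᵇ 𝒳) (hg : AlgSt.LocQ (AlgSp.LocP @Smooth) g) (f : 𝒳 ⥤ᵇ 𝒴)
    (Q' : 𝒳'.obj → Prop) (hQ' : AlgSt.IsOpenSubstack 𝒳' Q' Scheme.fppfPrecoverage)
    (hf' : AlgSt.LocQ (AlgSp.LocP @Smooth) (AlgSt.subIncl 𝒳' Q' ⊚ (g ⊚ f))) :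
    ∃ Q'' : 𝒳.obj → Prop, AlgSt.IsOpenSubstack 𝒳 Q'' Scheme.fppfPrecoverage ∧
      AlgSt.LocQ (AlgSp.LocP @Smooth) (AlgSt.subIncl 𝒳 Q'' ⊚ f) ∧
      ∀ a, Q' a → Q'' (g.obj a) := by
  have hPsm : AlgSp.IsSmoothLocalST (AlgSp.LocP (S := S) @Smooth) :=
    Groth.Agent.Lib.Helper27.SmLocP.isSmoothLocalST_locP_smooth
  have hfQ' : FibCat.IsFibGrpd (AlgSt.fullSub 𝒳' Q').p := hQ'.2.1.isStack.1
  have hf𝒳 : FibCat.IsFibGrpd 𝒳.p := h𝒳.isStack.1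
  obtain ⟨c, hcdef⟩ : ∃ c : AlgSt.fullSub 𝒳' Q' ⥤ᵇ 𝒳, c = AlgSt.subIncl 𝒳' Q' ⊚ g := ⟨_, rfl⟩
  have hc : AlgSt.LocQ (AlgSp.LocP @Smooth) c := by
    rw [hcdef]
    exact Groth.Agent.Lib.Helper27.LocQDescent.locQ_comp_smooth _ hPsm _
      (Groth.Agent.Lib.Helper27.StPoints.smooth_of_isOpenImm _ hQ'.2.2) g hg
  have hopen : IsOpen (Set.range (AlgSt.Points.map c)) :=
    isOpen_range_map_of_locQ_smooth hfQ' hf𝒳 c hc
  have hQ'' := isOpenSubstack_QW h𝒳 _ hopen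
  obtain ⟨k, hk⟩ : ∃ k : AlgSt.fullSub 𝒳' Q' ⥤ᵇ
      AlgSt.fullSub 𝒳 (QW (Set.range (AlgSt.Points.map c))),
      k ⊚ AlgSt.subIncl 𝒳 _ = c :=
    ⟨liftSub _ c (QW_range_obj hfQ' hf𝒳 c), rfl⟩
  have hk₁ : AlgSt.LocQ (AlgSp.LocP @Smooth) k := by
    apply locQ_smooth_of_comp_subIncl h𝒳 hQ'' k
    rw [hk]
    exact hc
  have hk₂ : AlgSt.IsSurjective k := by
    intro q
    have h1 : AlgSt.Points.map (AlgSt.subIncl 𝒳 (QW (Set.range (AlgSt.Points.map c)))) q ∈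
        Set.range (AlgSt.Points.map c) := by
      exact (Set.ext_iff.1 (range_subIncl_QW (Set.range (AlgSt.Points.map c))) _).1 ⟨q, rfl⟩
    obtain ⟨p, hp⟩ := h1
    refine ⟨p, ?_⟩
    apply map_subIncl_injective hf𝒳 _ (QW_pull _)
    rw [← map_comp, hk]
    exact hp
  refine ⟨QW (Set.range (AlgSt.Points.map c)), hQ'', ?_, ?_⟩
  · apply locQ_smooth_of_comp hQ'.2.1 hQ''.2.1 h𝒴 k _ hk₁ hk₂
    have h3 : k ⊚ (AlgSt.subIncl 𝒳 (QW (Set.range (AlgSt.Points.map c))) ⊚ f) =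
        AlgSt.subIncl 𝒳' Q' ⊚ (g ⊚ f) := by
      change (k ⊚ AlgSt.subIncl 𝒳 _) ⊚ f = _
      rw [hk, hcdef]
      rfl
    rw [h3]
    exact hf'
  · intro a ha
    have h4 := QW_range_obj hfQ' hf𝒳 c ⟨a, ha⟩
    rw [hcdef] at h4 ⊢
    exact h4

/-- Formation of the largest open substack on which a morphism is smooth commutes with smooth
precomposition. -/
theorem preimage_largest (h𝒳' : AlgSt.IsAlgStack Scheme.fppfPrecoverage 𝒳')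
    (h𝒳 : AlgSt.IsAlgStack Scheme.fppfPrecoverage 𝒳)
    (h𝒴 : AlgSt.IsAlgStack Scheme.fppfPrecoverage 𝒴)
    (g : 𝒳' ⥤ᵇ 𝒳) (hg : AlgSt.LocQ (AlgSp.LocP @Smooth) g) (f : 𝒳 ⥤ᵇ 𝒴)
    (Q : 𝒳.obj → Prop) (hQ₁ : AlgSt.IsOpenSubstack 𝒳 Q Scheme.fppfPrecoverage)
    (hQ₂ : AlgSt.LocQ (AlgSp.LocP @Smooth) (AlgSt.subIncl 𝒳 Q ⊚ f))
    (hQ₃ : ∀ Q' : 𝒳.obj → Prop, AlgSt.IsOpenSubstack 𝒳 Q' Scheme.fppfPrecoverage →
      AlgSt.LocQ (AlgSp.LocP @Smooth) (AlgSt.subIncl 𝒳 Q' ⊚ f) → ∀ a, Q' a → Q a) :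
    AlgSt.IsOpenSubstack 𝒳' (fun a => Q (g.obj a)) Scheme.fppfPrecoverage ∧
      AlgSt.LocQ (AlgSp.LocP @Smooth)
        (AlgSt.subIncl 𝒳' (fun a => Q (g.obj a)) ⊚ (g ⊚ f)) ∧
      ∀ Q' : 𝒳'.obj → Prop, AlgSt.IsOpenSubstack 𝒳' Q' Scheme.fppfPrecoverage →
        AlgSt.LocQ (AlgSp.LocP @Smooth) (AlgSt.subIncl 𝒳' Q' ⊚ (g ⊚ f)) →
        ∀ a, Q' a → Q (g.obj a) := by
  have hPsm : AlgSp.IsSmoothLocalST (AlgSp.LocP (S := S) @Smooth) :=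
    Groth.Agent.Lib.Helper27.SmLocP.isSmoothLocalST_locP_smooth
  have hpre := isOpenSubstack_preimage h𝒳' h𝒳 g hQ₁
  refine ⟨hpre, ?_, ?_⟩
  · obtain ⟨gQ, hgQ⟩ : ∃ gQ : AlgSt.fullSub 𝒳' (fun a => Q (g.obj a)) ⥤ᵇ AlgSt.fullSub 𝒳 Q,
        gQ ⊚ AlgSt.subIncl 𝒳 Q = AlgSt.subIncl 𝒳' (fun a => Q (g.obj a)) ⊚ g :=
      ⟨liftSub Q (AlgSt.subIncl 𝒳' (fun a => Q (g.obj a)) ⊚ g) (fun a => a.property), rfl⟩
    have h1 : AlgSt.LocQ (AlgSp.LocP @Smooth) (gQ ⊚ AlgSt.subIncl 𝒳 Q) := by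
      rw [hgQ]
      exact Groth.Agent.Lib.Helper27.LocQDescent.locQ_comp_smooth _ hPsm _
        (Groth.Agent.Lib.Helper27.StPoints.smooth_of_isOpenImm _ hpre.2.2) g hg
    have h2 := locQ_smooth_of_comp_subIncl h𝒳 hQ₁ gQ h1
    have h3 := locQ_comp _ hPsm smooth_comp gQ (AlgSt.subIncl 𝒳 Q ⊚ f) h2 hQ₂
    have h4 : gQ ⊚ (AlgSt.subIncl 𝒳 Q ⊚ f) =
        AlgSt.subIncl 𝒳' (fun a => Q (g.obj a)) ⊚ (g ⊚ f) := by
      change (gQ ⊚ AlgSt.subIncl 𝒳 Q) ⊚ f = _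
      rw [hgQ]
      rfl
    rw [h4] at h3
    exact h3
  · intro Q' hQ' hf' a ha
    obtain ⟨Q'', hQ'', hf'', hle⟩ := exists_open_image_locQ_smooth h𝒳' h𝒳 h𝒴 g hg f Q' hQ' hf'
    exact hQ₃ Q'' hQ'' hf'' _ (hle a ha)

end Largest

end Groth.Agent.Lib.Helper27.LocQSmoothOpen
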