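import Groth.Agent.Lib.Helper27.OpenSub3
import Groth.Agent.Lib.Helper27.LocQSmoothOpen2

/-!
# Strictly full substacks with representable inclusion: loci on charts (helper27)
-/

set_option autoImplicit false
set_option backward.isDefEq.respectTransparency false
set_option backward.isDefEq.respectTransparency.types false

universe u

open CategoryTheory CategoryTheory.Limits FibCat AlgebraicGeometry Opposite
  Groth.Agent.Lib.Helper27.FpKit Groth.Agent.Lib.Helper27.PointsKit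
  Groth.Agent.Lib.Helper27.StPoints

namespace Groth.Agent.Lib.Helper27.ClosedSub

variable {S : Scheme.{u}} {𝒳 : AlgSt.Cat S} {Q : 𝒳.obj → Prop}

local infixr:80 " ⊚ " => BasedFunctor.comp

/-- Strictly full subcategories fibred in groupoids are stable under pullback. -/
theorem pull_of_sub (h𝒳 : FibCat.IsFibGrpd 𝒳.p)
    (hcl : ObjectProperty.IsClosedUnderIsomorphisms Q)
    (hfib : FibCat.IsFibGrpd (AlgSt.fullSub 𝒳 Q).p) ⦃a b : 𝒳.obj⦄ (φ : a ⟶ b) (hb : Q b) :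
    Q a := by
  obtain ⟨y', φ', hφ'⟩ := hfib.exists_lift (x := (⟨b, hb⟩ : (AlgSt.fullSub 𝒳 Q).obj)) (𝒳.p.map φ)
  have h1 : 𝒳.p.IsHomLift (𝒳.p.map φ) φ'.hom :=
    (Groth.Agent.Lib.Helper27.StackSub.lift_iff (Q := Q) φ' (𝒳.p.map φ)).1 hφ'
  obtain ⟨e, -, -⟩ := exists_vert_iso h𝒳 (𝒳.p.map φ) φ φ'.hom
  exact ObjectProperty.IsClosedUnderIsomorphisms.of_iso e.symm y'.property

/-- If every point of a chart lies in the substack, the base change of the inclusion to the chart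
is surjective. -/
theorem isSurjectiveMor_of_forall_mem_range (h𝒳 : FibCat.IsFibGrpd 𝒳.p)
    (hfib : FibCat.IsFibGrpd (AlgSt.fullSub 𝒳 Q).p) {T : Over S} (y : overCat T ⥤ᵇ 𝒳)
    (h : ∀ t : ↥T.left, AlgSt.Points.ofChart y t ∈
      Set.range (AlgSt.Points.map (AlgSt.subIncl 𝒳 Q)))
    (F : AlgSp.Space S) (e : AlgSt.ofSp F.obj ⥤ᵇ fp y (AlgSt.subIncl 𝒳 Q)) (he : IsEquivOver e) :
    AlgSp.IsSurjectiveMor (AlgSt.spMapOfOver
      (BasedFunctor.comp e (fpFst y (AlgSt.subIncl 𝒳 Q)))) := by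
  intro τ
  obtain ⟨t, rfl⟩ := (AlgSp.Points.schemeHomeo T).surjective τ
  obtain ⟨q, hq⟩ := h t
  rw [ofChart_eq] at hq
  obtain ⟨w, hw, -⟩ := exists_points_fp hfib h𝒳
    (Groth.Agent.Lib.Helper27.ReprAux.isFibGrpd_overCat T) (AlgSt.subIncl 𝒳 Q) y (ptOf T t) q
    hq.symm
  obtain ⟨w', rfl⟩ := map_surjective_of_equiv e he w
  obtain ⟨φ, rfl⟩ := toSt_surjective F.obj w'
  refine ⟨φ, ?_⟩
  have h1 := map_toSt_eq (BasedFunctor.comp e (fpFst y (AlgSt.subIncl 𝒳 Q))) φ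
  rw [map_comp, hw] at h1
  have h2 := (ptOf_bijective T).1 h1
  rw [h2, Homeomorph.apply_symm_apply]

/-- If the scheme representing the base change of the inclusion to a chart maps isomorphically
to the chart, the chart factors through the substack. -/
theorem mem_of_isIso (h𝒳 : FibCat.IsFibGrpd 𝒳.p)
    (hcl : ObjectProperty.IsClosedUnderIsomorphisms Q)
    (hfib : FibCat.IsFibGrpd (AlgSt.fullSub 𝒳 Q).p) {T : Over S} (y : overCat T ⥤ᵇ 𝒳)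
    (F : AlgSp.Space S) (e : AlgSt.ofSp F.obj ⥤ᵇ fp y (AlgSt.subIncl 𝒳 Q))
    {V₀ : Over S} (fst : (AlgSp.yon S).obj V₀ ⟶ F.obj) (snd : V₀ ⟶ T)
    (hsq : fst ≫ AlgSt.spMapOfOver (e ⊚ fpFst y (AlgSt.subIncl 𝒳 Q)) = (AlgSp.yon S).map snd)
    (hiso : IsIso snd) : Q (y.toFunctor.obj (Over.mk (𝟙 T))) := by
  obtain ⟨Φ, hΦ⟩ : ∃ Φ : AlgSt.ofSp F.obj ⥤ᵇ overCat T,
    Φ = BasedFunctor.comp e (fpFst y (AlgSt.subIncl 𝒳 Q)) := ⟨_, rfl⟩
  rw [← hΦ] at hsq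
  let A : (AlgSt.ofSp F.obj).obj := ⟨V₀, fst.hom.app (op V₀) ⟨𝟙 V₀⟩⟩
  have hsec : AlgSt.secHom Φ A = snd := by
    have h1 : (AlgSt.spMapOfOver Φ).hom.app (op V₀) (fst.hom.app (op V₀) ⟨𝟙 V₀⟩) =
        ⟨AlgSt.secHom Φ A⟩ := AlgSt.spMapOfOver_app Φ V₀ _
    have h2 : (AlgSt.spMapOfOver Φ).hom.app (op V₀) (fst.hom.app (op V₀) ⟨𝟙 V₀⟩) =
        ((AlgSp.yon S).map snd).hom.app (op V₀) ⟨𝟙 V₀⟩ := by
      rw [← hsq]
      rfl
    have h3 : ((AlgSp.yon S).map snd).hom.app (op V₀) ⟨𝟙 V₀⟩ = ⟨𝟙 V₀ ≫ snd⟩ := rfl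
    rw [h1, h3, Category.id_comp] at h2
    exact congrArg ULift.down h2
  have hpull := pull_of_sub h𝒳 hcl hfib
  have hA : Q (y.toFunctor.obj (Φ.toFunctor.obj A)) := by
    rw [hΦ]
    exact hpull (e.toFunctor.obj A).obj.iso.hom (e.toFunctor.obj A).obj.snd.property
  have hm : (inv snd ≫ eqToHom (Φ.w_obj A).symm) ≫ (Φ.toFunctor.obj A).hom =
      (Over.mk (𝟙 T)).hom := by
    have h4 : eqToHom (Φ.w_obj A).symm ≫ (Φ.toFunctor.obj A).hom = snd := hsec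
    rw [Category.assoc, h4]
    exact IsIso.inv_hom_id snd
  exact hpull (y.toFunctor.map (Over.homMk (inv snd ≫ eqToHom (Φ.w_obj A).symm) hm :
    Over.mk (𝟙 T) ⟶ Φ.toFunctor.obj A)) hA

/-- A chart object in the substack factors through the scheme representing the base change of
the inclusion to the chart. -/
theorem exists_factor_of_mem {T : Over S} (y : overCat T ⥤ᵇ 𝒳)
    (F : AlgSp.Space S) (e : AlgSt.ofSp F.obj ⥤ᵇ fp y (AlgSt.subIncl 𝒳 Q)) (he : IsEquivOver e)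
    {V₀ : Over S} (fst : (AlgSp.yon S).obj V₀ ⟶ F.obj) (snd : V₀ ⟶ T)
    (sq : IsPullback fst ((AlgSp.yon S).map snd)
      (AlgSt.spMapOfOver (e ⊚ fpFst y (AlgSt.subIncl 𝒳 Q))) (𝟙 _))
    (g : Over T) (hg : Q (y.toFunctor.obj g)) : ∃ k : g.left ⟶ V₀, k ≫ snd = g.hom := by
  have hfst : IsIso fst := sq.isIso_fst_of_isIso
  obtain ⟨t, ht⟩ : ∃ t : (fp y (AlgSt.subIncl 𝒳 Q)).obj, t.obj.fst = g :=
    ⟨mkObj (F := y) (G := AlgSt.subIncl 𝒳 Q) g ⟨y.toFunctor.obj g, hg⟩ (Iso.refl _) (Vert.id _),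
      rfl⟩
  subst ht
  obtain ⟨A, ε, hε⟩ := ess_of_equiv e he t
  obtain ⟨m, hm⟩ : ∃ m : (e ⊚ fpFst y (AlgSt.subIncl 𝒳 Q)).toFunctor.obj A ⟶ t.obj.fst,
      m = ε.hom.hom.fst := ⟨ε.hom.hom.fst, rfl⟩
  obtain ⟨m', hm'⟩ : ∃ m' : t.obj.fst ⟶ (e ⊚ fpFst y (AlgSt.subIncl 𝒳 Q)).toFunctor.obj A,
      m' = ε.inv.hom.fst := ⟨ε.inv.hom.fst, rfl⟩
  have hw : m'.left ≫ ((e ⊚ fpFst y (AlgSt.subIncl 𝒳 Q)).toFunctor.obj A).hom = t.obj.fst.hom :=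
    Over.w m'
  obtain ⟨κ, hκ⟩ : ∃ κ : ULift (A.base ⟶ V₀), κ = (inv fst).hom.app (op A.base) A.sec := ⟨_, rfl⟩
  have h1 : κ.down ≫ snd = AlgSt.secHom (e ⊚ fpFst y (AlgSt.subIncl 𝒳 Q)) A := by
    have h2 : (inv fst ≫ (AlgSp.yon S).map snd) =
        AlgSt.spMapOfOver (e ⊚ fpFst y (AlgSt.subIncl 𝒳 Q)) := by
      rw [IsIso.inv_comp_eq, sq.w, Category.comp_id]
    have h3 : ((AlgSp.yon S).map snd).hom.app (op A.base) κ =
        (AlgSt.spMapOfOver (e ⊚ fpFst y (AlgSt.subIncl 𝒳 Q))).hom.app (op A.base) A.sec := by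
      rw [← h2, hκ]
      rfl
    rw [AlgSt.spMapOfOver_app] at h3
    exact congrArg ULift.down h3
  refine ⟨m'.left ≫ eqToHom ((e ⊚ fpFst y (AlgSt.subIncl 𝒳 Q)).w_obj A) ≫ κ.down, ?_⟩
  rw [Category.assoc, Category.assoc, h1]
  unfold AlgSt.secHom
  rw [eqToHom_trans_assoc, eqToHom_refl, Category.id_comp]
  exact hw

end Groth.Agent.Lib.Helper27.ClosedSub
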