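import Groth.Agent.Lib.Helper27.ClosedSub
import Groth.Agent.Lib.Helper27.LocQFlatCancel

/-!
# Morphisms from reduced algebraic stacks to closed substacks (helper27)
-/

set_option autoImplicit false
set_option backward.isDefEq.respectTransparency false
set_option backward.isDefEq.respectTransparency.types false

universe u

open CategoryTheory CategoryTheory.Limits FibCat AlgebraicGeometry Opposite
  Groth.Agent.Lib.Helper27.FpKit Groth.Agent.Lib.Helper27.PointsKit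
  Groth.Agent.Lib.Helper27.StPoints Groth.Agent.Lib.Helper27.RepWithComp
  Groth.Agent.Lib.Helper27.LocQChart Groth.Agent.Lib.Helper27.LocQOver
  Groth.Agent.Lib.Helper27.LocQTriple Groth.Agent.Lib.Helper27.Descent

namespace Groth.Agent.Lib.Helper27.ClosedSub

variable {S : Scheme.{u}} {𝒳 𝒴 : AlgSt.Cat S} {Q : 𝒳.obj → Prop}

local infixr:80 " ⊚ " => BasedFunctor.comp

/-- A monomorphism of schemes through which an fppf covering factors is an isomorphism. -/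
theorem isIso_of_mono_of_factor_fppf {Z T A : Scheme.{u}} (j : Z ⟶ T) [Mono j]
    (π : A ⟶ T) [Surjective π] [Flat π] [LocallyOfFinitePresentation π] (k : A ⟶ Z)
    (hk : k ≫ j = π) : IsIso j := by
  have hsec : pullback.lift (𝟙 A) k (by rw [Category.id_comp, hk]) ≫ pullback.fst π j = 𝟙 A :=
    pullback.lift_fst _ _ _
  have hmono : Mono (pullback.fst π j) := inferInstance
  have hiso : IsIso (pullback.fst π j) := by
    have : IsSplitEpi (pullback.fst π j) := ⟨⟨_, hsec⟩⟩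
    exact isIso_of_mono_of_isSplitEpi _
  have h1 : (MorphismProperty.isomorphisms Scheme.{u}) (pullback.fst π j) := hiso
  have h2 := MorphismProperty.of_isPullback_of_descendsAlong
    (P := MorphismProperty.isomorphisms Scheme.{u})
    (Q := @Surjective ⊓ @Flat ⊓ @LocallyOfFinitePresentation)
    (IsPullback.of_hasPullback π j) ⟨⟨inferInstance, inferInstance⟩, inferInstance⟩ h1
  exact h2

/-- A chart with reduced source all of whose points lie in a closed substack factors through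
it. -/
theorem mem_of_reduced_chart (h𝒳 : FibCat.IsFibGrpd 𝒳.p)
    (hQ : AlgSt.IsClosedSubstack 𝒳 Q Scheme.fppfPrecoverage) {V : Over S} [IsReduced V.left]
    (c : overCat V ⥤ᵇ 𝒳)
    (h : ∀ t : ↥V.left, AlgSt.Points.ofChart c t ∈
      Set.range (AlgSt.Points.map (AlgSt.subIncl 𝒳 Q))) (g : Over V) :
    Q (c.toFunctor.obj g) := by
  have hfib : FibCat.IsFibGrpd (AlgSt.fullSub 𝒳 Q).p := hQ.2.1.isStack.1
  obtain ⟨F, e, he, hπ⟩ := hQ.2.2 V c
  have hsurj := isSurjectiveMor_of_forall_mem_range h𝒳 hfib c h F e he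
  have hrs : AlgSp.RepWith @Surjective (AlgSt.spMapOfOver (e ⊚ fpFst c (AlgSt.subIncl 𝒳 Q))) :=
    (Groth.Agent.S9906.repWith_surjective_iff _ hπ.rep).2 hsurj
  have sq := hπ.rep.isPullback (𝟙 ((AlgSp.yon S).obj V))
  have hc : IsClosedImmersion (hπ.rep.snd (𝟙 ((AlgSp.yon S).obj V))).left := hπ.2 _ _ _ sq
  have hs : Surjective (hπ.rep.snd (𝟙 ((AlgSp.yon S).obj V))).left := hrs.2 _ _ _ sq
  have hiso : IsIso (hπ.rep.snd (𝟙 ((AlgSp.yon S).obj V))).left :=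
    isIso_of_isClosedImmersion_of_surjective _
  have hiso' : IsIso (hπ.rep.snd (𝟙 ((AlgSp.yon S).obj V))) := by
    have : IsIso ((Over.forget S).map (hπ.rep.snd (𝟙 ((AlgSp.yon S).obj V)))) := hiso
    exact isIso_of_reflects_iso _ (Over.forget S)
  have h1 : Q (c.toFunctor.obj (Over.mk (𝟙 V))) :=
    mem_of_isIso h𝒳 hQ.1 hfib c F e (hπ.rep.fst (𝟙 _)) (hπ.rep.snd (𝟙 _))
      (by rw [sq.w, Category.comp_id]) hiso'
  exact pull_of_sub h𝒳 hQ.1 hfib
    (c.toFunctor.map (Over.homMk g.hom (Category.comp_id _) : g ⟶ Over.mk (𝟙 V))) h1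

/-- A morphism from a reduced algebraic stack whose image on points lies in a closed substack
factors through it. -/
theorem mem_of_range_subset (h𝒳 : AlgSt.IsAlgStack Scheme.fppfPrecoverage 𝒳)
    (h𝒴 : AlgSt.IsAlgStack Scheme.fppfPrecoverage 𝒴)
    (hred : AlgSt.SmoothLocally (fun X => IsReduced X) 𝒴)
    (hQ : AlgSt.IsClosedSubstack 𝒳 Q Scheme.fppfPrecoverage) (f : 𝒴 ⥤ᵇ 𝒳)
    (h : Set.range (AlgSt.Points.map f) ⊆ Set.range (AlgSt.Points.map (AlgSt.subIncl 𝒳 Q)))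
    (y : 𝒴.obj) : Q (f.obj y) := by
  have hf𝒳 : FibCat.IsFibGrpd 𝒳.p := h𝒳.isStack.1
  have hf𝒴 : FibCat.IsFibGrpd 𝒴.p := h𝒴.isStack.1
  have hfib : FibCat.IsFibGrpd (AlgSt.fullSub 𝒳 Q).p := hQ.2.1.isStack.1
  have hcl := hQ.1
  obtain ⟨V, v, hv₁, hv₂⟩ := h𝒴.atlas
  have hVred : IsReduced V.left := hred V v hv₁
  -- step 1: the atlas factors through the substack
  have hstep1 : ∀ g : Over V, Q ((v ⊚ f).toFunctor.obj g) := by
    apply mem_of_reduced_chart hf𝒳 hQ (v ⊚ f)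
    intro t
    apply h
    exact ⟨AlgSt.Points.ofChart v t, rfl⟩
  -- step 2: an arbitrary object
  obtain ⟨T, hT⟩ : ∃ T : Over S, 𝒴.p.obj y = T := ⟨_, rfl⟩
  obtain ⟨ŷ, ι, -⟩ := Groth.Agent.Lib.Helper27.MonoFF.exists_yoneda hf𝒴 y hT
  obtain ⟨G, eG, heG, -⟩ := hv₁ T ŷ
  obtain ⟨A, c, hc₁, hc₂⟩ := exists_atlas_of_equiv G eG heG
  have hfA : FibCat.IsFibGrpd (overCat A).p :=
    Groth.Agent.Lib.Helper27.ReprAux.isFibGrpd_overCat A
  have hfT : FibCat.IsFibGrpd (overCat T).p :=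
    Groth.Agent.Lib.Helper27.ReprAux.isFibGrpd_overCat T
  have hfV : FibCat.IsFibGrpd (overCat V).p :=
    Groth.Agent.Lib.Helper27.ReprAux.isFibGrpd_overCat V
  have hfp : FibCat.IsFibGrpd (fp ŷ v).p :=
    Groth.Agent.Lib.Helper27.FpFib.isFibGrpd_fp _ _ hfT hfV hf𝒴
  obtain ⟨a, hadef⟩ : ∃ a : overCat A ⥤ᵇ overCat T, a = c ⊚ fpFst ŷ v := ⟨_, rfl⟩
  obtain ⟨b, hbdef⟩ : ∃ b : overCat A ⥤ᵇ overCat V, b = c ⊚ fpSnd ŷ v := ⟨_, rfl⟩
  have ha₁ : AlgSt.RepByAlgSpWith (AlgSp.LocP @Smooth) a := by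
    rw [hadef]
    exact comp_gen _ (compHyp_locP Groth.Agent.Lib.Helper3.isEtLocal_smooth) hfA hfp c _ hc₁
      (Groth.Agent.Lib.Helper27.RepWithGeneral.repByAlgSpWith_fpFst _ v ŷ hv₁)
  have ha₂ : AlgSt.RepByAlgSpWith AlgSp.IsSurjectiveMor a := by
    rw [hadef]
    exact comp_gen _ Groth.Agent.Lib.Helper27.DiagLft.compHyp_isSurjectiveMor hfA hfp c _ hc₂
      (Groth.Agent.Lib.Helper27.RepWithGeneral.repByAlgSpWith_fpFst _ v ŷ hv₂)
  have ι₂ : a ⊚ ŷ ≅ b ⊚ v := by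
    rw [hadef, hbdef]
    exact whiskerLeftIso c (fpIso ŷ v)
  have hsm : Smooth (homOf a).left :=
    AlgSp.locP_yon_map
      (prop_yon_homOf _ (compHyp_locP Groth.Agent.Lib.Helper3.isEtLocal_smooth) a ha₁)
  have hsurj : Surjective (homOf a).left :=
    ⟨Groth.Agent.Lib.Helper27.LocQFlatCancel.surjective_homOf_of_isSurjective a
      (Groth.Agent.Lib.Helper27.StPoints.isSurjective_of_rep hfA hfT a ha₂)⟩
  -- the object over the covering
  have hobj : Q ((ŷ ⊚ f).toFunctor.obj (a.toFunctor.obj (Over.mk (𝟙 A)))) := by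
    have e1 : f.toFunctor.obj ((a ⊚ ŷ).toFunctor.obj (Over.mk (𝟙 A))) ≅
        f.toFunctor.obj ((b ⊚ v).toFunctor.obj (Over.mk (𝟙 A))) :=
      f.toFunctor.mapIso (((BasedNatTrans.forgetful _ _).mapIso ι₂).app (Over.mk (𝟙 A)))
    exact ObjectProperty.IsClosedUnderIsomorphisms.of_iso e1.symm
      (hstep1 (b.toFunctor.obj (Over.mk (𝟙 A))))
  obtain ⟨F', e', he', hπ'⟩ := hQ.2.2 T (ŷ ⊚ f)
  have sq' := hπ'.rep.isPullback (𝟙 ((AlgSp.yon S).obj T))
  have hc' : IsClosedImmersion (hπ'.rep.snd (𝟙 ((AlgSp.yon S).obj T))).left := hπ'.2 _ _ _ sq'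
  obtain ⟨k, hk⟩ := exists_factor_of_mem (ŷ ⊚ f) F' e' he' (hπ'.rep.fst (𝟙 _))
    (hπ'.rep.snd (𝟙 _)) sq' (a.toFunctor.obj (Over.mk (𝟙 A))) hobj
  have hfac : (eqToHom (a.w_obj (Over.mk (𝟙 A))).symm ≫ k) ≫ hπ'.rep.snd (𝟙 _) = homOf a := by
    rw [Category.assoc, hk]
    rfl
  have hflat : Flat (homOf a).left := inferInstance
  have hlfp : LocallyOfFinitePresentation (homOf a).left := inferInstance
  have hiso : IsIso (hπ'.rep.snd (𝟙 ((AlgSp.yon S).obj T))).left :=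
    isIso_of_mono_of_factor_fppf _ (homOf a).left
      (eqToHom (a.w_obj (Over.mk (𝟙 A))).symm ≫ k).left (by
        rw [← Over.comp_left, hfac])
  have hiso' : IsIso (hπ'.rep.snd (𝟙 ((AlgSp.yon S).obj T))) := by
    have : IsIso ((Over.forget S).map (hπ'.rep.snd (𝟙 ((AlgSp.yon S).obj T)))) := hiso
    exact isIso_of_reflects_iso _ (Over.forget S)
  have h1 : Q ((ŷ ⊚ f).toFunctor.obj (Over.mk (𝟙 T))) :=
    mem_of_isIso hf𝒳 hcl hfib (ŷ ⊚ f) F' e' (hπ'.rep.fst (𝟙 _)) (hπ'.rep.snd (𝟙 _))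
      (by rw [sq'.w, Category.comp_id]) hiso'
  exact ObjectProperty.IsClosedUnderIsomorphisms.of_iso (f.toFunctor.mapIso ι) h1

end Groth.Agent.Lib.Helper27.ClosedSub
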