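import Groth.Prelude.Def_FibClv

/-!
# A cloven category is fibred iff the comparison transformations are isomorphisms (helper27)
-/

set_option autoImplicit false
set_option backward.isDefEq.respectTransparency false
set_option backward.isDefEq.respectTransparency.types false

universe v₁ v₂ u₁ u₂

open CategoryTheory CategoryTheory.Functor FibCat FibCat.Cleavage

namespace Groth.Agent.Lib.Helper27.ClvComp

variable {𝒮 : Type u₁} {𝒳 : Type u₂} [Category.{v₁} 𝒮] [Category.{v₂} 𝒳] {p : 𝒳 ⥤ 𝒮}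
  (K : FibCat.Cleavage p)

theorem isIso_comp_of_isFibered [p.IsFibered] {R S T : 𝒮} (f : T ⟶ S) (g : R ⟶ T) :
    IsIso (K.comp f g) := by
  haveI : ∀ a, IsIso ((K.comp f g).app a) := by
    intro a
    haveI hc : p.IsCartesian (g ≫ f) (K.lift (K.obj_proj a.2 f) g ≫ K.lift a.2 f) := inferInstance
    let m' : K.obj a.2 (g ≫ f) ⟶ K.obj (K.obj_proj a.2 f) g :=
      IsCartesian.map p (g ≫ f) (K.lift (K.obj_proj a.2 f) g ≫ K.lift a.2 f) (K.lift a.2 (g ≫ f))
    haveI : p.IsHomLift (𝟙 R) m' := IsCartesian.map_isHomLift p (g ≫ f) _ _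
    refine ⟨⟨Fiber.homMk p R m', ?_, ?_⟩⟩
    · apply Fiber.hom_ext
      exact (IsCartesian.domainUniqueUpToIso p (g ≫ f) (K.lift a.2 (g ≫ f))
        (K.lift (K.obj_proj a.2 f) g ≫ K.lift a.2 f)).hom_inv_id
    · apply Fiber.hom_ext
      exact (IsCartesian.domainUniqueUpToIso p (g ≫ f) (K.lift a.2 (g ≫ f))
        (K.lift (K.obj_proj a.2 f) g ≫ K.lift a.2 f)).inv_hom_id
  exact NatIso.isIso_of_isIso_app _

theorem isFibered_of_isIso_comp
    (h : ∀ (R S T : 𝒮) (f : T ⟶ S) (g : R ⟶ T), IsIso (K.comp f g)) : p.IsFibered := by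
  haveI := K.isPreFibered
  refine { comp := ?_ }
  intro R S T f g a b c φ ψ hφ hψ
  have hc : p.obj c = T := IsHomLift.codomain_eq p g ψ
  let β : b ≅ K.obj hc g := IsCartesian.domainUniqueUpToIso p g (K.lift hc g) ψ
  have hβ : β.hom ≫ K.lift hc g = ψ := IsCartesian.fac p g (K.lift hc g) ψ
  haveI hβl : p.IsHomLift (𝟙 S) β.hom := inferInstance
  haveI h1 : p.IsCartesian f (φ ≫ β.hom) := inferInstance
  let α : a ≅ K.obj (K.obj_proj hc g) f :=
    IsCartesian.domainUniqueUpToIso p f (K.lift (K.obj_proj hc g) f) (φ ≫ β.hom)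
  have hα : α.hom ≫ K.lift (K.obj_proj hc g) f = φ ≫ β.hom :=
    IsCartesian.fac p f (K.lift (K.obj_proj hc g) f) (φ ≫ β.hom)
  haveI hαl : p.IsHomLift (𝟙 R) α.hom := inferInstance
  let c' : p.Fiber T := ⟨c, hc⟩
  haveI := h R T S g f
  haveI hm : IsIso (Fiber.fiberInclusion.map ((K.comp g f).app c')) := inferInstance
  have hmfac : Fiber.fiberInclusion.map ((K.comp g f).app c') ≫ K.lift hc (f ≫ g) =
      K.lift (K.obj_proj hc g) f ≫ K.lift hc g := by
    rw [Cleavage.comp_app]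
    exact IsCartesian.fac p (f ≫ g) (K.lift hc (f ≫ g)) _
  have hml : p.IsHomLift (𝟙 R) (Fiber.fiberInclusion.map ((K.comp g f).app c')) := inferInstance
  have key : φ ≫ ψ = (α ≪≫ asIso (Fiber.fiberInclusion.map ((K.comp g f).app c'))).hom ≫
      K.lift hc (f ≫ g) := by
    change φ ≫ ψ = (α.hom ≫ Fiber.fiberInclusion.map ((K.comp g f).app c')) ≫ K.lift hc (f ≫ g)
    rw [Category.assoc, hmfac, ← Category.assoc, hα, Category.assoc, hβ]
  rw [key]
  haveI : p.IsHomLift (𝟙 R)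
      (α ≪≫ asIso (Fiber.fiberInclusion.map ((K.comp g f).app c'))).hom := by
    change p.IsHomLift (𝟙 R) (α.hom ≫ Fiber.fiberInclusion.map ((K.comp g f).app c'))
    have : p.IsHomLift (𝟙 R ≫ 𝟙 R)
      (α.hom ≫ Fiber.fiberInclusion.map ((K.comp g f).app c')) := inferInstance
    simpa using this
  infer_instance

theorem isFibered_iff :
    p.IsFibered ↔ ∀ (R S T : 𝒮) (f : T ⟶ S) (g : R ⟶ T), IsIso (K.comp f g) :=
  ⟨fun _ R S T f g => isIso_comp_of_isFibered K f g, isFibered_of_isIso_comp K⟩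

end Groth.Agent.Lib.Helper27.ClvComp
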