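import Groth.Agent.Lib.Helper6.CechFamTop
import Groth.Agent.Lib.Helper6.CechFamThin

set_option autoImplicit false

/-!
# Čech vanishing from surjectivity of restrictions (helper27)

Given a family of opens `U i` of `X`, we equip the underlying set of `X` with the coarse topology
generated by the `U i`.  A sheaf `F` on `X` induces a sheaf on the coarse space (restricted to
`iSup U`), which is flasque as soon as the restriction maps `F(iSup U) → F(U')` are surjective for
all unions `U'` of finite intersections of the `U i`.  The Čech complexes agree.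
-/

universe u

open CategoryTheory Limits Opposite TopologicalSpace Topology

namespace Groth.Agent.Lib.Helper27.CoarseCech

variable {X : TopCat.{u}} {ι : Type u} (U : ι → Opens X)

/-- the coarse topology generated by the family -/
def coarseTop : TopologicalSpace X := generateFrom (Set.range fun i => (U i : Set X))

/-- the points of the coarse space (a type synonym of `X`) -/
def Pt (_ : ι → Opens X) : Type u := X

instance : TopologicalSpace (Pt U) := coarseTop U

/-- the coarse space -/
def CY : TopCat.{u} := TopCat.of (Pt U)

lemma isOpen_pt_iff (s : Set (Pt U)) : IsOpen s ↔ IsOpen[coarseTop U] (show Set X from s) := Iff.rfl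

lemma isOpen_of_coarse {s : Set X} (hs : IsOpen[coarseTop U] s) : IsOpen s := by
  induction hs with
  | basic s hs =>
    obtain ⟨i, rfl⟩ := hs
    exact (U i).isOpen
  | univ => exact isOpen_univ
  | inter s t _ _ hs ht => exact hs.inter ht
  | sUnion S _ ih => exact isOpen_sUnion ih

/-- key lemma: points of coarse opens have neighbourhoods that are finite intersections -/
lemma exists_tuple {s : Set X} (hs : IsOpen[coarseTop U] s) (x : X) (hx : x ∈ s)
    (hxS : x ∈ iSup U) :
    ∃ (p : ℕ) (t : Fin (p + 1) → ι), x ∈ (⨅ j, U (t j) : Opens X) ∧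
      ((⨅ j, U (t j) : Opens X) : Set X) ⊆ s := by
  induction hs with
  | basic s hs =>
    obtain ⟨i, rfl⟩ := hs
    refine ⟨0, fun _ => i, ?_, ?_⟩
    · rw [← SetLike.mem_coe, Opens.coe_iInf]
      exact Set.mem_iInter.2 fun _ => hx
    · intro y hy
      rw [Opens.coe_iInf] at hy
      exact Set.mem_iInter.1 hy 0
  | univ =>
    obtain ⟨i, hi⟩ := Opens.mem_iSup.1 hxS
    refine ⟨0, fun _ => i, ?_, Set.subset_univ _⟩
    rw [← SetLike.mem_coe, Opens.coe_iInf]
    exact Set.mem_iInter.2 fun _ => hi
  | inter s t _ _ hs ht =>
    obtain ⟨p, a, hxa, has⟩ := hs hx.1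
    obtain ⟨q, b, hxb, hbt⟩ := ht hx.2
    refine ⟨p + 1 + q, (Fin.append a b : Fin (p + 1 + (q + 1)) → ι), ?_, ?_⟩
    · rw [← SetLike.mem_coe, Opens.coe_iInf] at hxa hxb ⊢
      rw [Set.mem_iInter] at hxa hxb ⊢
      intro j
      refine Fin.addCases (m := p + 1) (n := q + 1)
        (motive := fun j => x ∈ ((U (Fin.append a b j) : Opens X) : Set X))
        (fun j => ?_) (fun j => ?_) j
      · rw [Fin.append_left]; exact hxa j
      · rw [Fin.append_right]; exact hxb j
    · intro y hy
      rw [Opens.coe_iInf, Set.mem_iInter] at hy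
      constructor
      · apply has
        rw [Opens.coe_iInf, Set.mem_iInter]
        intro j
        have := hy (Fin.castAdd (q + 1) j)
        rwa [Fin.append_left] at this
      · apply hbt
        rw [Opens.coe_iInf, Set.mem_iInter]
        intro j
        have := hy (Fin.natAdd (p + 1) j)
        rwa [Fin.append_right] at this
  | sUnion S _ ih =>
    obtain ⟨s, hsS, hxs⟩ := hx
    obtain ⟨p, a, hxa, has⟩ := ih s hsS hxs
    exact ⟨p, a, hxa, has.trans (Set.subset_sUnion_of_mem hsS)⟩

end Groth.Agent.Lib.Helper27.CoarseCech
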