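import Groth.Agent.Lib.Helper27.CoarseCech1

set_option autoImplicit false

/-!
# Čech vanishing from surjectivity of restrictions, part 2 (helper27)
-/

universe u

open CategoryTheory Limits Opposite TopologicalSpace Topology

namespace Groth.Agent.Lib.Helper27.CoarseCech

variable {X : TopCat.{u}} {ι : Type u} (U : ι → Opens X)

/-- the union of the family -/
abbrev S : Opens X := iSup U

/-- the family as opens of the coarse space -/
def U' (i : ι) : Opens (CY U) :=
  @Opens.mk (Pt U) _ (show Set (Pt U) from (U i : Set X))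
    ((isOpen_pt_iff U _).2 (isOpen_generateFrom_of_mem ⟨i, rfl⟩))

/-- the underlying function of `fmap` -/
def f₀ (x : S U) : Pt U := (x.1 : X)

lemma continuous_f₀ : Continuous (f₀ U) := by
  refine continuous_generateFrom_iff.2 ?_
  rintro _ ⟨i, rfl⟩
  exact (U i).isOpen.preimage continuous_subtype_val

/-- the continuous map from the union (with its subspace topology) to the coarse space -/
def fmap : TopCat.of (S U) ⟶ CY U :=
  TopCat.ofHom ⟨f₀ U, continuous_f₀ U⟩

/-- the functor from coarse opens to opens of `X`: `V ↦ V ∩ S` -/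
noncomputable def π : Opens (CY U) ⥤ Opens X :=
  Opens.map (fmap U) ⋙ (S U).isOpenEmbedding.isOpenMap.functor

/-- the underlying set of a coarse open, as a subset of `X` -/
def toSet (V : Opens (CY U)) : Set X := show Set (CY U) from V.1

lemma isOpen_toSet (V : Opens (CY U)) : IsOpen[coarseTop U] (toSet U V) := V.isOpen

lemma mem_π (V : Opens (CY U)) (x : X) : x ∈ (π U).obj V ↔ x ∈ S U ∧ x ∈ toSet U V := by
  constructor
  · rintro ⟨y, hy, rfl⟩
    exact ⟨y.2, show (y.1 : X) ∈ toSet U V from hy⟩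
  · rintro ⟨h1, h2⟩
    exact ⟨⟨x, h1⟩, show (⟨x, h1⟩ : S U) ∈ ((Opens.map (fmap U)).obj V : Set (S U)) from h2, rfl⟩

lemma π_le (V : Opens (CY U)) : (π U).obj V ≤ S U := fun x hx => ((mem_π U V x).1 hx).1

/-- every `π V` is a union of finite intersections -/
lemma π_eq (V : Opens (CY U)) :
    ∃ (κ : Type u) (a : κ → Σ p : ℕ, Fin (p + 1) → ι),
      (π U).obj V = ⨆ k, ⨅ j, U ((a k).2 j) := by
  refine ⟨{b : (Σ p : ℕ, Fin (p + 1) → ι) // ((⨅ j, U (b.2 j) : Opens X) : Set X) ⊆ toSet U V},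
    Subtype.val, ?_⟩
  apply le_antisymm
  · intro x hx
    obtain ⟨hxS, hxV⟩ := (mem_π U V x).1 hx
    obtain ⟨p, t, hxt, hts⟩ := exists_tuple U (isOpen_toSet U V) x hxV hxS
    exact Opens.mem_iSup.2 ⟨⟨⟨p, t⟩, hts⟩, hxt⟩
  · refine iSup_le ?_
    rintro ⟨⟨p, t⟩, hts⟩ x hx
    refine (mem_π U V x).2 ⟨?_, hts hx⟩
    have : (⨅ j, U (t j) : Opens X) ≤ U (t 0) := iInf_le _ 0
    exact Opens.mem_iSup.2 ⟨t 0, this hx⟩

/-- the sheaf on the coarse space -/
noncomputable def G (F : CohTop.Ab X) : CohTop.Ab (CY U) :=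
  (CohTop.push (fmap U)).obj (CohTop.restr F (S U))

lemma G_obj (F : CohTop.Ab X) : (G U F).obj = (π U).op ⋙ F.obj := rfl

end Groth.Agent.Lib.Helper27.CoarseCech
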