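import Groth.Agent.Lib.Helper27.CoarseCech2

set_option autoImplicit false

/-!
# Čech vanishing from surjectivity of restrictions, part 3 (helper27)
-/

universe u

open CategoryTheory Limits Opposite TopologicalSpace Topology

namespace Groth.Agent.Lib.Helper27.CoarseCech

variable {X : TopCat.{u}} {ι : Type u} (U : ι → Opens X)

lemma surj_of_eq (F : CohTop.Ab X)
    (h : ∀ (κ : Type u) (a : κ → Σ p : ℕ, Fin (p + 1) → ι),
      Function.Surjective (F.obj.map (homOfLE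
        (iSup_le fun k => (iInf_le _ ⟨0, Nat.succ_pos _⟩).trans (le_iSup U ((a k).2 ⟨0, Nat.succ_pos _⟩)) :
          (⨆ k, ⨅ j, U ((a k).2 j)) ≤ iSup U)).op))
    (W : Opens X) (hW : W ≤ iSup U)
    (hex : ∃ (κ : Type u) (a : κ → Σ p : ℕ, Fin (p + 1) → ι), W = ⨆ k, ⨅ j, U ((a k).2 j)) :
    Function.Surjective (F.obj.map (homOfLE hW).op) := by
  obtain ⟨κ, a, rfl⟩ := hex
  exact h κ a

lemma isFlasque_G (F : CohTop.Ab X)
    (h : ∀ (κ : Type u) (a : κ → Σ p : ℕ, Fin (p + 1) → ι),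
      Function.Surjective (F.obj.map (homOfLE
        (iSup_le fun k => (iInf_le _ ⟨0, Nat.succ_pos _⟩).trans (le_iSup U ((a k).2 ⟨0, Nat.succ_pos _⟩)) :
          (⨆ k, ⨅ j, U ((a k).2 j)) ≤ iSup U)).op)) :
    TopCat.Sheaf.IsFlasque (G U F) := by
  constructor
  intro V W i
  have h1 : Function.Surjective (F.obj.map (homOfLE (π_le U W.unop)).op) :=
    surj_of_eq U F h _ (π_le U W.unop) (π_eq U W.unop)
  have h2 : F.obj.map (homOfLE (π_le U W.unop)).op =
      F.obj.map (homOfLE (π_le U V.unop)).op ≫ F.obj.map ((π U).map i.unop).op := by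
    rw [← F.obj.map_comp]
    congr 1
  have h3 : Epi (F.obj.map (homOfLE (π_le U V.unop)).op ≫ F.obj.map ((π U).map i.unop).op) := by
    rw [← h2]
    exact (AddCommGrpCat.epi_iff_surjective _).2 h1
  show Epi (F.obj.map ((π U).map i.unop).op)
  exact epi_of_epi (F.obj.map (homOfLE (π_le U V.unop)).op) _

end Groth.Agent.Lib.Helper27.CoarseCech

namespace Groth.Agent.Lib.Helper27.CoarseCech

variable {X : TopCat.{u}} {ι : Type u} (U : ι → Opens X)

lemma mem_toSet_U' (i : ι) (x : X) : x ∈ toSet U (U' U i) ↔ x ∈ U i := Iff.rfl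

lemma π_U'_le (i : ι) : (π U).obj (U' U i) ≤ U i := fun x hx => ((mem_π U _ x).1 hx).2

/-- the comparison of products -/
noncomputable def eProd (n : SimplexCategory) (a : ToType n → ι) :
    (π U).obj (∏ᶜ (U' U ∘ a)) ≅ ∏ᶜ (U ∘ a) where
  hom := Pi.lift (fun k => (π U).map (Pi.π (U' U ∘ a) k) ≫ homOfLE (π_U'_le U (a k)))
  inv := homOfLE (by
    intro x hx
    have hk : ∀ k, x ∈ U (a k) := fun k => leOfHom (Pi.π (U ∘ a) k) hx
    have h0 : x ∈ S U := Opens.mem_iSup.2 ⟨a (0 : Fin (n.len + 1)), hk _⟩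
    refine (mem_π U _ x).2 ⟨h0, ?_⟩
    have hle : (⨅ k, U' U (a k) : Opens (CY U)) ≤ ∏ᶜ (U' U ∘ a) :=
      leOfHom (Pi.lift (fun k => homOfLE (iInf_le _ k)))
    have hx' : (show Pt U from x) ∈ ((⨅ k, U' U (a k) : Opens (CY U)) : Set (CY U)) := by
      rw [Opens.coe_iInf]
      exact Set.mem_iInter.2 hk
    exact hle hx')
  hom_inv_id := Subsingleton.elim _ _
  inv_hom_id := Subsingleton.elim _ _

/-- **S0901** -/
theorem cech_vanishing (F : CohTop.Ab X)
    (h : ∀ (κ : Type u) (a : κ → Σ p : ℕ, Fin (p + 1) → ι),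
      Function.Surjective (F.obj.map (homOfLE
        (iSup_le fun k => (iInf_le _ ⟨0, Nat.succ_pos _⟩).trans (le_iSup U ((a k).2 ⟨0, Nat.succ_pos _⟩)) :
          (⨆ k, ⨅ j, U ((a k).2 j)) ≤ iSup U)).op)) (p : ℕ) :
    IsZero (CohTop.cechH F.obj U (p + 1)) := by
  haveI := isFlasque_G U F h
  have hz : IsZero (CohTop.cechH (G U F).obj (U' U) (p + 1)) :=
    Groth.Agent.Lib.Helper6.CechFamTop.cech_acyclic_of_flasque (G U F) (U' U) p
  refine hz.of_iso ?_
  exact ((HomologicalComplex.homologyFunctor _ _ (p + 1)).mapIso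
    (Groth.Agent.Lib.Helper6.CechFamThin.cxIsoThin (π U) (U' U) U (eProd U) F.obj)).symm

end Groth.Agent.Lib.Helper27.CoarseCech
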