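import Groth.Prelude.Def_FibCat2
import Groth.Prelude.Def_W4stkcategoriessitesFib
import Groth.Agent.Lib.Helper27.DescentKit
import Groth.Agent.Lib.Helper27.ReprAux

/-!
# The 2-Yoneda lemma for fibred categories (helper27)
-/

set_option autoImplicit false
set_option backward.isDefEq.respectTransparency false
set_option backward.isDefEq.respectTransparency.types false

universe v₄ u₄ v₃ u₃ v₂ u₂ v u

open CategoryTheory Groth.Agent.Lib.Helper27.DescentKit
  Groth.Agent.Lib.Helper16.FpFibGrpd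

namespace Groth.Agent.Lib.Helper27.TwoYonedaFib

variable {C : Type u} [Category.{v} C]

theorem sc_of_lift {𝒵 : Type u₄} [Category.{v₄} 𝒵] (p : 𝒵 ⥤ C) {R S R' S' : C} (f : R ⟶ S)
    (f' : R' ⟶ S') {a b : 𝒵} (φ : a ⟶ b) (h : p.IsStronglyCartesian f φ)
    (h' : p.IsHomLift f' φ) : p.IsStronglyCartesian f' φ := by
  have h1 : p.obj a = R := IsHomLift.domain_eq p f φ
  have h2 : p.obj b = S := IsHomLift.codomain_eq p f φ
  have h1' : p.obj a = R' := IsHomLift.domain_eq p f' φ
  have h2' : p.obj b = S' := IsHomLift.codomain_eq p f' φ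
  subst h1 h2 h1' h2'
  have e : f = p.map φ := IsHomLift.eq_of_isHomLift p f φ
  have e' : f' = p.map φ := IsHomLift.eq_of_isHomLift p f' φ
  subst e e'
  exact h

variable {𝒳 : BasedCategory.{v₂, u₂} C} (U : C)

open FibCat

theorem sc_map (H : overCat U ⥤ᵇ 𝒳) (hH : PreservesStronglyCartesian H) {f f' : Over U}
    (g : f ⟶ f') : 𝒳.p.IsStronglyCartesian g.left (H.map g) := by
  haveI : (overCat U).p.IsHomLift g.left g :=
    inferInstanceAs ((overCat U).p.IsHomLift ((overCat U).p.map g) g)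
  exact hH g.left g (FibGrpd.isStronglyCartesian (overCat U).p
    (Groth.Agent.Lib.Helper27.ReprAux.isFibGrpd_overCat U) g.left g)

theorem sc_toTop (H : overCat U ⥤ᵇ 𝒳) (hH : PreservesStronglyCartesian H) (f : Over U) :
    𝒳.p.IsStronglyCartesian f.hom (H.map (toTop f)) :=
  sc_map U H hH (toTop f)

/-- The functor of the fibred 2-Yoneda lemma. -/
abbrev PSC (𝒳 : BasedCategory.{v₂, u₂} C) : ObjectProperty (overCat U ⥤ᵇ 𝒳) :=
  PreservesStronglyCartesian (𝒳 := overCat U) (𝒴 := 𝒳)

/-- The functor of the fibred 2-Yoneda lemma. -/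
abbrev E (𝒳 : BasedCategory.{v₂, u₂} C) : (PSC U 𝒳).FullSubcategory ⥤ 𝒳.p.Fiber U :=
  ObjectProperty.ι (PreservesStronglyCartesian (𝒳 := overCat U) (𝒴 := 𝒳)) ⋙ evalAtId 𝒳 U

theorem E_faithful : (E U 𝒳).Faithful := by
  constructor
  intro H H' α α' hαα'
  have htop : α.hom.toNatTrans.app (Over.mk (𝟙 U)) = α'.hom.toNatTrans.app (Over.mk (𝟙 U)) :=
    congrArg Subtype.val hαα'
  apply ObjectProperty.hom_ext
  apply BasedNatTrans.homCategory.ext
  ext g
  haveI := sc_toTop U H'.obj H'.property g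
  haveI := app_isHomLift α.hom g
  haveI := app_isHomLift α'.hom g
  refine Functor.IsStronglyCartesian.ext 𝒳.p g.hom (H'.obj.map (toTop g)) (𝟙 g.left) ?_
  have n1 := α.hom.toNatTrans.naturality (toTop g)
  have n2 := α'.hom.toNatTrans.naturality (toTop g)
  change H.obj.map (toTop g) ≫ _ = _ ≫ H'.obj.map (toTop g) at n1
  change H.obj.map (toTop g) ≫ _ = _ ≫ H'.obj.map (toTop g) at n2
  rw [← n1, ← n2, htop]

theorem E_full : (E U 𝒳).Full := by
  constructor
  intro H H' φ'
  have hφl : 𝒳.p.IsHomLift (𝟙 U) φ'.1 := φ'.2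
  have hsc : ∀ g : Over U, 𝒳.p.IsStronglyCartesian g.hom (H'.obj.map (toTop g)) :=
    fun g => sc_toTop U H'.obj H'.property g
  have hl : ∀ g : Over U, 𝒳.p.IsHomLift g.hom (H.obj.map (toTop g) ≫ φ'.1) := fun g => by
    haveI := map_toTop_isHomLift H.obj g
    have : 𝒳.p.IsHomLift (g.hom ≫ 𝟙 U) (H.obj.map (toTop g) ≫ φ'.1) := inferInstance
    rwa [Category.comp_id] at this
  let αapp : ∀ g : Over U, H.obj.obj g ⟶ H'.obj.obj g := fun g =>
    haveI := hsc g
    haveI := hl g
    Functor.IsStronglyCartesian.map 𝒳.p g.hom (H'.obj.map (toTop g)) (g := 𝟙 g.left)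
      (Category.id_comp _).symm (H.obj.map (toTop g) ≫ φ'.1)
  have αl : ∀ g, 𝒳.p.IsHomLift (𝟙 g.left) (αapp g) := fun g => by
    haveI := hsc g
    haveI := hl g
    exact Functor.IsStronglyCartesian.map_isHomLift 𝒳.p g.hom (H'.obj.map (toTop g))
      (g := 𝟙 g.left) (Category.id_comp _).symm (H.obj.map (toTop g) ≫ φ'.1)
  have αfac : ∀ g, αapp g ≫ H'.obj.map (toTop g) = H.obj.map (toTop g) ≫ φ'.1 := fun g => by
    haveI := hsc g
    haveI := hl g
    exact Functor.IsStronglyCartesian.fac 𝒳.p g.hom (H'.obj.map (toTop g))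
      (g := 𝟙 g.left) (Category.id_comp _).symm (H.obj.map (toTop g) ≫ φ'.1)
  let α : H.obj ⟶ H'.obj :=
    { toNatTrans :=
        { app := αapp
          naturality := by
            intro f f' g
            have h1 := αl f
            have h2 := αl f'
            have h3 := map_isHomLift H.obj g
            have h4 := map_isHomLift H'.obj g
            haveI := hsc f'
            have k1 : 𝒳.p.IsHomLift g.left (H.obj.map g ≫ αapp f') := by
              have : 𝒳.p.IsHomLift (g.left ≫ 𝟙 _) (H.obj.map g ≫ αapp f') := inferInstance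
              rwa [Category.comp_id] at this
            have k2 : 𝒳.p.IsHomLift g.left (αapp f ≫ H'.obj.map g) := by
              have : 𝒳.p.IsHomLift (𝟙 _ ≫ g.left) (αapp f ≫ H'.obj.map g) := inferInstance
              rwa [Category.id_comp] at this
            refine Functor.IsStronglyCartesian.ext 𝒳.p f'.hom (H'.obj.map (toTop f')) g.left
              (ψ := H.obj.map g ≫ αapp f') (ψ' := αapp f ≫ H'.obj.map g) ?_
            rw [Category.assoc, Category.assoc, αfac, ← H'.obj.map_comp, comp_toTop, αfac,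
              ← Category.assoc, ← H.obj.map_comp, comp_toTop] }
      isHomLift' := fun g => αl g }
  refine ⟨ObjectProperty.homMk α, ?_⟩
  apply Subtype.ext
  change αapp (Over.mk (𝟙 U)) = φ'.1
  have e1 : toTop (Over.mk (𝟙 U)) = 𝟙 (Over.mk (𝟙 U)) := by
    apply Over.OverMorphism.ext
    simp [toTop]
  have h := αfac (Over.mk (𝟙 U))
  rw [e1, H.obj.map_id, H'.obj.map_id, Category.comp_id, Category.id_comp] at h
  exact h

section Cleave

variable [𝒳.p.IsFibered] (x : 𝒳.obj) (hx : 𝒳.p.obj x = U)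

/-- A chosen pullback. -/
noncomputable def cObj (f : Over U) : 𝒳.obj := Functor.IsPreFibered.pullbackObj hx f.hom

/-- The chosen cartesian morphism. -/
noncomputable def cHom (f : Over U) : cObj U x hx f ⟶ x :=
  Functor.IsPreFibered.pullbackMap hx f.hom

instance cHom_sc (f : Over U) : 𝒳.p.IsStronglyCartesian f.hom (cHom U x hx f) :=
  inferInstanceAs (𝒳.p.IsStronglyCartesian f.hom (Functor.IsPreFibered.pullbackMap hx f.hom))

theorem p_cObj (f : Over U) : 𝒳.p.obj (cObj U x hx f) = f.left :=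
  IsHomLift.domain_eq 𝒳.p f.hom (cHom U x hx f)

/-- The transition morphisms. -/
noncomputable def cMap {f f' : Over U} (g : f ⟶ f') : cObj U x hx f ⟶ cObj U x hx f' :=
  Functor.IsStronglyCartesian.map 𝒳.p f'.hom (cHom U x hx f') (g := g.left) (Over.w g).symm
    (cHom U x hx f)

instance cMap_lift {f f' : Over U} (g : f ⟶ f') : 𝒳.p.IsHomLift g.left (cMap U x hx g) :=
  Functor.IsStronglyCartesian.map_isHomLift 𝒳.p f'.hom (cHom U x hx f') (g := g.left)
    (Over.w g).symm (cHom U x hx f)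

theorem cMap_fac {f f' : Over U} (g : f ⟶ f') :
    cMap U x hx g ≫ cHom U x hx f' = cHom U x hx f :=
  Functor.IsStronglyCartesian.fac 𝒳.p f'.hom (cHom U x hx f') (g := g.left)
    (Over.w g).symm (cHom U x hx f)

theorem cMap_uniq {f f' : Over U} (g : f ⟶ f') (ψ : cObj U x hx f ⟶ cObj U x hx f')
    (hψ : 𝒳.p.IsHomLift g.left ψ) (h : ψ ≫ cHom U x hx f' = cHom U x hx f) :
    ψ = cMap U x hx g :=
  Functor.IsStronglyCartesian.map_uniq 𝒳.p f'.hom (cHom U x hx f') (g := g.left)
    (Over.w g).symm (cHom U x hx f) ψ h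

/-- The cleavage functor. -/
noncomputable def cFun : overCat U ⥤ᵇ 𝒳 where
  toFunctor :=
    { obj := fun f => cObj U x hx f
      map := fun g => cMap U x hx g
      map_id := fun f₀ => by
        symm
        apply cMap_uniq
        · exact IsHomLift.id (p_cObj U x hx f₀)
        · exact Category.id_comp _
      map_comp := fun {f f' f''} g g' => by
        symm
        apply cMap_uniq
        · exact inferInstanceAs (𝒳.p.IsHomLift (g.left ≫ g'.left) _)
        · rw [Category.assoc, cMap_fac, cMap_fac] }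
  w := by
    refine CategoryTheory.Functor.ext (fun f => p_cObj U x hx f) (fun f f' g => ?_)
    exact IsHomLift.fac' 𝒳.p g.left (cMap U x hx g)

theorem cFun_psc : PreservesStronglyCartesian (cFun U x hx) := by
  intro R S f a b φ hφ
  have hl : 𝒳.p.IsHomLift f ((cFun U x hx).map φ) := inferInstance
  have hsc : 𝒳.p.IsStronglyCartesian φ.left (cMap U x hx φ) := by
    haveI : 𝒳.p.IsStronglyCartesian (φ.left ≫ b.hom) (cMap U x hx φ ≫ cHom U x hx b) := by
      rw [cMap_fac, Over.w φ]; infer_instance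
    exact Functor.IsStronglyCartesian.of_comp 𝒳.p (f := φ.left) (g := b.hom)
      (φ := cMap U x hx φ) (ψ := cHom U x hx b)
  exact sc_of_lift 𝒳.p φ.left f _ hsc hl

theorem E_essSurj : (E U 𝒳).EssSurj := by
  constructor
  intro x
  refine ⟨⟨cFun U x.1 x.2, cFun_psc U x.1 x.2⟩, ⟨?_⟩⟩
  have hl : 𝒳.p.IsHomLift (𝟙 U) (cHom U x.1 x.2 (Over.mk (𝟙 U))) :=
    inferInstanceAs (𝒳.p.IsHomLift (Over.mk (𝟙 U)).hom (cHom U x.1 x.2 (Over.mk (𝟙 U))))
  haveI hsc : 𝒳.p.IsStronglyCartesian (𝟙 U) (cHom U x.1 x.2 (Over.mk (𝟙 U))) :=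
    cHom_sc U x.1 x.2 (Over.mk (𝟙 U))
  haveI : IsIso (cHom U x.1 x.2 (Over.mk (𝟙 U))) :=
    Functor.IsStronglyCartesian.isIso_of_base_isIso 𝒳.p (𝟙 U) _
  have hinv : 𝒳.p.IsHomLift (𝟙 U) (inv (cHom U x.1 x.2 (Over.mk (𝟙 U)))) := inferInstance
  exact
    { hom := ⟨cHom U x.1 x.2 (Over.mk (𝟙 U)), hl⟩
      inv := ⟨inv (cHom U x.1 x.2 (Over.mk (𝟙 U))), hinv⟩
      hom_inv_id := Subtype.ext (IsIso.hom_inv_id _)
      inv_hom_id := Subtype.ext (IsIso.inv_hom_id _) }

theorem E_isEquivalence : (E U 𝒳).IsEquivalence :=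
  { faithful := E_faithful U
    full := E_full U
    essSurj := E_essSurj U }

end Cleave

end Groth.Agent.Lib.Helper27.TwoYonedaFib
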