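import Groth.Prelude.Def_FibCat2
import Groth.Prelude.Def_W4stkcategoriessitesFib
import Groth.Agent.Lib.Helper27.TwoYonedaFib
import Groth.Agent.Lib.Helper27.OverFibSet
import Groth.Agent.Lib.Helper27.FpFibered

/-!
# Factorisation of a functor of fibred categories through a fibration (helper27)
-/

set_option autoImplicit false
set_option backward.isDefEq.respectTransparency false
set_option backward.isDefEq.respectTransparency.types false

universe v u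

open CategoryTheory

namespace Groth.Agent.Lib.Helper27.CommaFact

variable {C : Type u} [Category.{v} C] {𝒳 𝒴 : BasedCategory.{v, max u v} C} (F : 𝒳 ⥤ᵇ 𝒴)

/-- Objects: `(x, y, f : y ⟶ F x)` with `f` over an identity. -/
structure Obj where
  x : 𝒳.obj
  y : 𝒴.obj
  f : y ⟶ F.obj x
  hf : 𝒴.p.IsHomLift (𝟙 (𝒴.p.obj y)) f

variable {F}

/-- Morphisms: compatible pairs. -/
@[ext]
structure Hom (s t : Obj F) where
  a : s.x ⟶ t.x
  b : s.y ⟶ t.y
  w : s.f ≫ F.map a = b ≫ t.f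

instance : Category.{v} (Obj F) where
  Hom := Hom
  id s := ⟨𝟙 _, 𝟙 _, by simp⟩
  comp m n := ⟨m.a ≫ n.a, m.b ≫ n.b, by
    rw [F.map_comp, ← Category.assoc, m.w, Category.assoc, n.w, Category.assoc]⟩
  id_comp m := Hom.ext (Category.id_comp _) (Category.id_comp _)
  comp_id m := Hom.ext (Category.comp_id _) (Category.comp_id _)
  assoc m n o := Hom.ext (Category.assoc _ _ _) (Category.assoc _ _ _)

@[ext] theorem hom_ext {s t : Obj F} {m n : s ⟶ t} (h₁ : m.a = n.a) (h₂ : m.b = n.b) : m = n :=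
  Hom.ext h₁ h₂

@[simp] theorem id_a (s : Obj F) : (𝟙 s : s ⟶ s).a = 𝟙 s.x := rfl
@[simp] theorem id_b (s : Obj F) : (𝟙 s : s ⟶ s).b = 𝟙 s.y := rfl
@[simp] theorem comp_a {s t r : Obj F} (m : s ⟶ t) (n : t ⟶ r) : (m ≫ n).a = m.a ≫ n.a := rfl
@[simp] theorem comp_b {s t r : Obj F} (m : s ⟶ t) (n : t ⟶ r) : (m ≫ n).b = m.b ≫ n.b := rfl

variable (F)

/-- The projection to `𝒴`. -/
def vFun : Obj F ⥤ 𝒴.obj where
  obj s := s.y
  map m := m.b

/-- The projection to `𝒳`. -/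
def wFun : Obj F ⥤ 𝒳.obj where
  obj s := s.x
  map m := m.a

/-- The inclusion of `𝒳`. -/
def uFun : 𝒳.obj ⥤ Obj F where
  obj x := ⟨x, F.obj x, 𝟙 _, IsHomLift.id rfl⟩
  map a := ⟨a, F.map a, by simp⟩

/-- The factorising category over `C`. -/
abbrev X' : BasedCategory.{v, max u v} C where
  obj := Obj F
  p := vFun F ⋙ 𝒴.p

variable {F}

theorem hx (s : Obj F) : 𝒳.p.obj s.x = 𝒴.p.obj s.y :=
  haveI := s.hf
  (F.w_obj s.x).symm.trans (IsHomLift.codomain_eq 𝒴.p (𝟙 (𝒴.p.obj s.y)) s.f)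

theorem pf (s : Obj F) : 𝒴.p.map s.f = eqToHom ((hx s).symm.trans (F.w_obj s.x).symm) := by
  haveI := s.hf
  have := IsHomLift.fac' 𝒴.p (𝟙 (𝒴.p.obj s.y)) s.f
  rw [this]
  simp

theorem pFa {x x' : 𝒳.obj} (a : x ⟶ x') :
    𝒴.p.map (F.map a) = eqToHom (F.w_obj x) ≫ 𝒳.p.map a ≫ eqToHom (F.w_obj x').symm := by
  have := Functor.congr_hom F.w a
  simpa using this

theorem pmap_eq {s t : Obj F} (m : s ⟶ t) :
    𝒳.p.map m.a = eqToHom (hx s) ≫ 𝒴.p.map m.b ≫ eqToHom (hx t).symm := by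
  have h1 := congrArg (fun k => 𝒴.p.map k) m.w
  simp only [Functor.map_comp, pf, pFa] at h1
  have h2 : 𝒳.p.map m.a = eqToHom (hx s) ≫ (eqToHom ((hx s).symm.trans (F.w_obj s.x).symm) ≫
      eqToHom (F.w_obj s.x) ≫ 𝒳.p.map m.a ≫ eqToHom (F.w_obj t.x).symm) ≫
      eqToHom (F.w_obj t.x) := by simp
  rw [h2, h1]
  simp

theorem lift_a_iff {s t : Obj F} (m : s ⟶ t) {V W : C} (k : V ⟶ W) :
    𝒳.p.IsHomLift k m.a ↔ 𝒴.p.IsHomLift k m.b := by
  constructor
  · intro h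
    have h1 : 𝒳.p.obj s.x = V := IsHomLift.domain_eq 𝒳.p k m.a
    have h2 : 𝒳.p.obj t.x = W := IsHomLift.codomain_eq 𝒳.p k m.a
    apply IsHomLift.of_fac' 𝒴.p k m.b ((hx s).symm.trans h1) ((hx t).symm.trans h2)
    have e := IsHomLift.fac' 𝒳.p k m.a
    rw [pmap_eq] at e
    have : 𝒴.p.map m.b = eqToHom (hx s).symm ≫ (eqToHom (hx s) ≫ 𝒴.p.map m.b ≫
        eqToHom (hx t).symm) ≫ eqToHom (hx t) := by simp
    rw [this, e]
    simp
  · intro h
    have h1 : 𝒴.p.obj s.y = V := IsHomLift.domain_eq 𝒴.p k m.b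
    have h2 : 𝒴.p.obj t.y = W := IsHomLift.codomain_eq 𝒴.p k m.b
    apply IsHomLift.of_fac' 𝒳.p k m.a ((hx s).trans h1) ((hx t).trans h2)
    have e := IsHomLift.fac' 𝒴.p k m.b
    rw [pmap_eq, e]
    simp

theorem lift_iff {s t : Obj F} (m : s ⟶ t) {V W : C} (k : V ⟶ W) :
    (X' F).p.IsHomLift k m ↔ 𝒴.p.IsHomLift k m.b :=
  Groth.Agent.Lib.Helper27.OverFibSet.comp_isHomLift_iff 𝒴.p (vFun F) k m

section Functors

variable (F)

/-- `u : 𝒳 ⟶ 𝒳'`. -/
def uB : 𝒳 ⥤ᵇ X' F where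
  toFunctor := uFun F
  w := by
    have : uFun F ⋙ (X' F).p = F.toFunctor ⋙ 𝒴.p := rfl
    rw [this, F.w]

/-- `v : 𝒳' ⟶ 𝒴`. -/
def vB : X' F ⥤ᵇ 𝒴 where
  toFunctor := vFun F
  w := rfl

/-- `w : 𝒳' ⟶ 𝒳`. -/
def wB : X' F ⥤ᵇ 𝒳 where
  toFunctor := wFun F
  w := by
    refine CategoryTheory.Functor.ext (fun s => hx s) (fun s t m => ?_)
    exact pmap_eq m

theorem comp_uv : BasedFunctor.comp (uB F) (vB F) = F := rfl

theorem u_full : (uB F).toFunctor.Full := by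
  constructor
  intro x x' m
  refine ⟨m.a, ?_⟩
  apply hom_ext
  · rfl
  · have := m.w
    change 𝟙 _ ≫ F.map m.a = m.b ≫ 𝟙 _ at this
    rw [Category.id_comp, Category.comp_id] at this
    exact this

theorem u_faithful : (uB F).toFunctor.Faithful := by
  constructor
  intro x x' a a' h
  exact congrArg Hom.a h

/-- The adjunction `w ⊣ u`. -/
def adj : (wB F).toFunctor ⊣ (uB F).toFunctor :=
  Adjunction.mkOfHomEquiv
    { homEquiv := fun s x₀ =>
        { toFun := fun a => ⟨a, s.f ≫ F.map a, by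
            change s.f ≫ F.map a = (s.f ≫ F.map a) ≫ 𝟙 _
            rw [Category.comp_id]⟩
          invFun := fun m => m.a
          left_inv := fun a => rfl
          right_inv := fun m => by
            apply hom_ext
            · rfl
            · have := m.w
              change s.f ≫ F.map m.a = m.b ≫ 𝟙 _ at this
              rw [Category.comp_id] at this
              exact this }
      homEquiv_naturality_left_symm := fun m n => rfl
      homEquiv_naturality_right := fun a a' => by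
        apply hom_ext
        · rfl
        · change _ ≫ F.map (a ≫ a') = (_ ≫ F.map a) ≫ F.map a'
          rw [F.map_comp, Category.assoc] }

end Functors

section SC

open Groth.Agent.Lib.Helper27.FpFibered

variable (hF : FibCat.PreservesStronglyCartesian F)

theorem hf_lift (s : Obj F) {V : C} (h : 𝒴.p.obj s.y = V) : 𝒴.p.IsHomLift (𝟙 V) s.f :=
  lift_id_congr 𝒴.p h s.f s.hf

include hF in
/-- A morphism with strongly cartesian components is strongly cartesian over `C`. -/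
theorem sc_of_components {s t : Obj F} (m : s ⟶ t) {V W : C} (k : V ⟶ W)
    (ha : 𝒳.p.IsStronglyCartesian k m.a) (hb : 𝒴.p.IsStronglyCartesian k m.b) :
    (X' F).p.IsStronglyCartesian k m := by
  have hFa : 𝒴.p.IsStronglyCartesian k (F.map m.a) := hF k m.a ha
  have hV : 𝒴.p.obj s.y = V := IsHomLift.domain_eq 𝒴.p k m.b
  have hsf : 𝒴.p.IsHomLift (𝟙 V) s.f := hf_lift s hV
  refine { toIsHomLift := (lift_iff m k).2 inferInstance, universal_property' := ?_ }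
  intro r g n hn
  have hnb : 𝒴.p.IsHomLift (g ≫ k) n.b := (lift_iff n _).1 hn
  have hna : 𝒳.p.IsHomLift (g ≫ k) n.a := (lift_a_iff n _).2 hnb
  let a' : r.x ⟶ s.x := Functor.IsStronglyCartesian.map 𝒳.p k m.a (g := g) rfl n.a
  let b' : r.y ⟶ s.y := Functor.IsStronglyCartesian.map 𝒴.p k m.b (g := g) rfl n.b
  have ha'l : 𝒳.p.IsHomLift g a' := Functor.IsStronglyCartesian.map_isHomLift 𝒳.p k m.a rfl n.a
  have hb'l : 𝒴.p.IsHomLift g b' := Functor.IsStronglyCartesian.map_isHomLift 𝒴.p k m.b rfl n.b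
  have ha' : a' ≫ m.a = n.a := Functor.IsStronglyCartesian.fac 𝒳.p k m.a rfl n.a
  have hb' : b' ≫ m.b = n.b := Functor.IsStronglyCartesian.fac 𝒴.p k m.b rfl n.b
  have hrf : 𝒴.p.IsHomLift (𝟙 (𝒴.p.obj r.y)) r.f := r.hf
  have hw' : r.f ≫ F.map a' = b' ≫ s.f := by
    have hl1 : 𝒴.p.IsHomLift g (r.f ≫ F.map a') := by
      have hFa' : 𝒴.p.IsHomLift g (F.map a') := inferInstance
      have : 𝒴.p.IsHomLift (𝟙 (𝒴.p.obj r.y) ≫ g) (r.f ≫ F.map a') := inferInstance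
      rwa [Category.id_comp] at this
    have hl2 : 𝒴.p.IsHomLift g (b' ≫ s.f) := by
      have : 𝒴.p.IsHomLift (g ≫ 𝟙 V) (b' ≫ s.f) := inferInstance
      rwa [Category.comp_id] at this
    apply Functor.IsStronglyCartesian.ext 𝒴.p k (F.map m.a) g
    rw [Category.assoc, ← F.map_comp, ha', n.w, Category.assoc, m.w, ← Category.assoc, hb']
  let χ : r ⟶ s := ⟨a', b', hw'⟩
  refine ⟨χ, ⟨(lift_iff χ g).2 hb'l, hom_ext ha' hb'⟩, ?_⟩
  rintro χ₂ ⟨hχ₂l, hχ₂⟩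
  have k2 : 𝒴.p.IsHomLift g χ₂.b := (lift_iff χ₂ g).1 hχ₂l
  have k1 : 𝒳.p.IsHomLift g χ₂.a := (lift_a_iff χ₂ g).2 k2
  have e1 : χ₂.a ≫ m.a = n.a := by rw [← hχ₂]; rfl
  have e2 : χ₂.b ≫ m.b = n.b := by rw [← hχ₂]; rfl
  apply hom_ext
  · exact Functor.IsStronglyCartesian.map_uniq 𝒳.p k m.a rfl n.a χ₂.a e1
  · exact Functor.IsStronglyCartesian.map_uniq 𝒴.p k m.b rfl n.b χ₂.b e2

theorem v_lift {s t : Obj F} (m : s ⟶ t) : (vFun F).IsHomLift m.b m :=
  inferInstanceAs ((vFun F).IsHomLift ((vFun F).map m) m)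

theorem b_eq_of_lift {s t : Obj F} (m : s ⟶ t) (c : s.y ⟶ t.y) (h : (vFun F).IsHomLift c m) :
    m.b = c :=
  (IsHomLift.eq_of_isHomLift (vFun F) c m).symm

include hF in
/-- A morphism with strongly cartesian first component is strongly cartesian over `𝒴`. -/
theorem scv_of_component {s t : Obj F} (m : s ⟶ t) {V W : C} (k : V ⟶ W)
    (ha : 𝒳.p.IsStronglyCartesian k m.a) : (vFun F).IsStronglyCartesian m.b m := by
  have hFa : 𝒴.p.IsStronglyCartesian k (F.map m.a) := hF k m.a ha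
  have hmb : 𝒴.p.IsHomLift k m.b := (lift_a_iff m k).1 inferInstance
  have hV : 𝒴.p.obj s.y = V := IsHomLift.domain_eq 𝒴.p k m.b
  have hsf : 𝒴.p.IsHomLift (𝟙 V) s.f := hf_lift s hV
  refine { toIsHomLift := v_lift m, universal_property' := ?_ }
  intro r c n hn
  let c' : r.y ⟶ s.y := c
  have hnb : n.b = c' ≫ m.b := b_eq_of_lift n (c' ≫ m.b) hn
  have hcl : 𝒴.p.IsHomLift (𝒴.p.map c' ≫ eqToHom hV) c' := inferInstance
  have hnbl : 𝒴.p.IsHomLift ((𝒴.p.map c' ≫ eqToHom hV) ≫ k) n.b := by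
    rw [hnb]; infer_instance
  have hna : 𝒳.p.IsHomLift ((𝒴.p.map c' ≫ eqToHom hV) ≫ k) n.a := (lift_a_iff n _).2 hnbl
  let a' : r.x ⟶ s.x :=
    Functor.IsStronglyCartesian.map 𝒳.p k m.a (g := 𝒴.p.map c' ≫ eqToHom hV) rfl n.a
  have ha'l : 𝒳.p.IsHomLift (𝒴.p.map c' ≫ eqToHom hV) a' :=
    Functor.IsStronglyCartesian.map_isHomLift 𝒳.p k m.a rfl n.a
  have ha' : a' ≫ m.a = n.a := Functor.IsStronglyCartesian.fac 𝒳.p k m.a rfl n.a
  have hrf : 𝒴.p.IsHomLift (𝟙 (𝒴.p.obj r.y)) r.f := r.hf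
  have hw' : r.f ≫ F.map a' = c' ≫ s.f := by
    have hl1 : 𝒴.p.IsHomLift (𝒴.p.map c' ≫ eqToHom hV) (r.f ≫ F.map a') := by
      have hFa' : 𝒴.p.IsHomLift (𝒴.p.map c' ≫ eqToHom hV) (F.map a') := inferInstance
      have : 𝒴.p.IsHomLift (𝟙 (𝒴.p.obj r.y) ≫ 𝒴.p.map c' ≫ eqToHom hV) (r.f ≫ F.map a') :=
        inferInstance
      rwa [Category.id_comp] at this
    have hl2 : 𝒴.p.IsHomLift (𝒴.p.map c' ≫ eqToHom hV) (c' ≫ s.f) := by
      have : 𝒴.p.IsHomLift ((𝒴.p.map c' ≫ eqToHom hV) ≫ 𝟙 V) (c' ≫ s.f) := inferInstance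
      rwa [Category.comp_id] at this
    apply Functor.IsStronglyCartesian.ext 𝒴.p k (F.map m.a) (𝒴.p.map c' ≫ eqToHom hV)
    rw [Category.assoc, ← F.map_comp, ha', n.w, Category.assoc, m.w, ← Category.assoc, hnb]
  let χ : r ⟶ s := ⟨a', c', hw'⟩
  refine ⟨χ, ⟨v_lift χ, hom_ext ha' hnb.symm⟩, ?_⟩
  rintro χ₂ ⟨hχ₂l, hχ₂⟩
  have k2 : χ₂.b = c' := b_eq_of_lift χ₂ c' hχ₂l
  have k3 : 𝒴.p.IsHomLift (𝒴.p.map c' ≫ eqToHom hV) χ₂.b := by rw [k2]; exact hcl
  have k1 : 𝒳.p.IsHomLift (𝒴.p.map c' ≫ eqToHom hV) χ₂.a := (lift_a_iff χ₂ _).2 k3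
  have e1 : χ₂.a ≫ m.a = n.a := by rw [← hχ₂]; rfl
  apply hom_ext
  · exact Functor.IsStronglyCartesian.map_uniq 𝒳.p k m.a rfl n.a χ₂.a e1
  · exact k2

end SC

section Lifts

open Groth.Agent.Lib.Helper27.FpFibered

variable [𝒳.p.IsFibered] [𝒴.p.IsFibered] (hF : FibCat.PreservesStronglyCartesian F)

include hF in
/-- Lifts with prescribed second component. -/
theorem exists_lift_b (t : Obj F) {y' : 𝒴.obj} (b : y' ⟶ t.y) :
    ∃ (s : Obj F) (m : s ⟶ t) (hy : s.y = y'), m.b = eqToHom hy ≫ b ∧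
      𝒳.p.IsStronglyCartesian (𝒴.p.map b) m.a := by
  obtain ⟨x', α, hα⟩ := exists_sc_lift 𝒳.p (𝒴.p.map b) t.x (hx t)
  have hFα : 𝒴.p.IsStronglyCartesian (𝒴.p.map b) (F.map α) := hF _ α hα
  have htf : 𝒴.p.IsHomLift (𝟙 (𝒴.p.obj t.y)) t.f := t.hf
  have hl : 𝒴.p.IsHomLift (𝒴.p.map b) (b ≫ t.f) := by
    have : 𝒴.p.IsHomLift (𝒴.p.map b ≫ 𝟙 _) (b ≫ t.f) := inferInstance
    rwa [Category.comp_id] at this
  let f' : y' ⟶ F.obj x' :=
    Functor.IsStronglyCartesian.map 𝒴.p (𝒴.p.map b) (F.map α) (g := 𝟙 (𝒴.p.obj y'))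
      (Category.id_comp _).symm (b ≫ t.f)
  have hf'l : 𝒴.p.IsHomLift (𝟙 (𝒴.p.obj y')) f' :=
    Functor.IsStronglyCartesian.map_isHomLift 𝒴.p (𝒴.p.map b) (F.map α) _ _
  have hf' : f' ≫ F.map α = b ≫ t.f :=
    Functor.IsStronglyCartesian.fac 𝒴.p (𝒴.p.map b) (F.map α) _ _
  exact ⟨⟨x', y', f', hf'l⟩, ⟨α, b, hf'⟩, rfl, (Category.id_comp _).symm, hα⟩

include hF in
theorem exists_sc_lift_v (t : Obj F) {y' : 𝒴.obj} (b : y' ⟶ t.y) :
    ∃ (s : Obj F) (m : s ⟶ t), (vFun F).IsStronglyCartesian b m := by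
  obtain ⟨s, m, hy, hmb, hα⟩ := exists_lift_b hF t b
  subst hy
  rw [eqToHom_refl, Category.id_comp] at hmb
  subst hmb
  exact ⟨s, m, scv_of_component hF m _ hα⟩

include hF in
/-- Lifts over the base with strongly cartesian components. -/
theorem exists_lift_c (t : Obj F) {V : C} (k : V ⟶ 𝒴.p.obj t.y) :
    ∃ (s : Obj F) (m : s ⟶ t), 𝒳.p.IsStronglyCartesian k m.a ∧ 𝒴.p.IsStronglyCartesian k m.b := by
  obtain ⟨y', β, hβ⟩ := exists_sc_lift 𝒴.p k t.y rfl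
  obtain ⟨s, m, hy, hmb, hα⟩ := exists_lift_b hF t β
  subst hy
  rw [eqToHom_refl, Category.id_comp] at hmb
  have hb : 𝒴.p.IsStronglyCartesian k m.b := by rw [hmb]; exact hβ
  have hbl : 𝒴.p.IsHomLift k m.b := inferInstance
  have hal : 𝒳.p.IsHomLift k m.a := (lift_a_iff m k).2 hbl
  refine ⟨s, m, ?_, hb⟩
  exact Groth.Agent.Lib.Helper27.TwoYonedaFib.sc_of_lift 𝒳.p _ k m.a hα hal

include hF in
theorem isFibered_X' : (X' F).p.IsFibered := by
  apply Functor.IsFibered.of_exists_isStronglyCartesian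
  intro t V k
  obtain ⟨s, m, ha, hb⟩ := exists_lift_c hF t k
  exact ⟨s, m, sc_of_components hF m k ha hb⟩

include hF in
theorem isFibered_v : (vFun F).IsFibered := by
  apply Functor.IsFibered.of_exists_isStronglyCartesian
  intro t y' b
  exact exists_sc_lift_v hF t b

include hF in
theorem psc_u : FibCat.PreservesStronglyCartesian (uB F) := by
  intro V W k x x' a ha
  exact sc_of_components hF ((uB F).map a) k ha (hF k a ha)

include hF in
/-- The components of a strongly cartesian morphism are strongly cartesian. -/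
theorem components_of_sc {s t : Obj F} (m : s ⟶ t) {V W : C} (k : V ⟶ W)
    (hm : (X' F).p.IsStronglyCartesian k m) :
    𝒳.p.IsStronglyCartesian k m.a ∧ 𝒴.p.IsStronglyCartesian k m.b := by
  have hW : 𝒴.p.obj t.y = W := IsHomLift.codomain_eq (X' F).p k m
  subst hW
  obtain ⟨s₀, m₀, ha₀, hb₀⟩ := exists_lift_c hF t k
  have hm₀ : (X' F).p.IsStronglyCartesian k m₀ := sc_of_components hF m₀ k ha₀ hb₀
  let e : s ≅ s₀ := Functor.IsStronglyCartesian.domainIsoOfBaseIso (X' F).p (g := Iso.refl V)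
    (f := k) (f' := k) (Category.id_comp k).symm m₀ m
  have he : e.hom ≫ m₀ = m :=
    Functor.IsStronglyCartesian.fac (X' F).p k m₀ (g := 𝟙 V) (Category.id_comp k).symm m
  have hel : (X' F).p.IsHomLift (𝟙 V) e.hom :=
    Functor.IsStronglyCartesian.map_isHomLift (X' F).p k m₀ (g := 𝟙 V)
      (Category.id_comp k).symm m
  have hbl : 𝒴.p.IsHomLift (𝟙 V) e.hom.b := (lift_iff e.hom _).1 hel
  have hal : 𝒳.p.IsHomLift (𝟙 V) e.hom.a := (lift_a_iff e.hom _).2 hbl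
  haveI : IsIso e.hom.b := inferInstanceAs (IsIso ((vFun F).mapIso e).hom)
  haveI : IsIso e.hom.a := inferInstanceAs (IsIso ((wFun F).mapIso e).hom)
  have e1 : m.a = e.hom.a ≫ m₀.a := by rw [← he]; rfl
  have e2 : m.b = e.hom.b ≫ m₀.b := by rw [← he]; rfl
  constructor
  · rw [e1]
    have : 𝒳.p.IsStronglyCartesian (𝟙 V ≫ k) (e.hom.a ≫ m₀.a) := inferInstance
    rwa [Category.id_comp] at this
  · rw [e2]
    have : 𝒴.p.IsStronglyCartesian (𝟙 V ≫ k) (e.hom.b ≫ m₀.b) := inferInstance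
    rwa [Category.id_comp] at this

include hF in
theorem psc_v : FibCat.PreservesStronglyCartesian (vB F) := by
  intro V W k s t m hm
  exact (components_of_sc hF m k hm).2

include hF in
theorem psc_w : FibCat.PreservesStronglyCartesian (wB F) := by
  intro V W k s t m hm
  exact (components_of_sc hF m k hm).1

include hF in
theorem main :
    ∃ (𝒳' : BasedCategory.{v, max u v} C) (u : 𝒳 ⥤ᵇ 𝒳') (v : 𝒳' ⥤ᵇ 𝒴) (w : 𝒳' ⥤ᵇ 𝒳),
      𝒳'.p.IsFibered ∧ FibCat.PreservesStronglyCartesian u ∧ FibCat.PreservesStronglyCartesian v ∧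
        FibCat.PreservesStronglyCartesian w ∧ BasedFunctor.comp u v = F ∧
        u.toFunctor.Full ∧ u.toFunctor.Faithful ∧ Nonempty (w.toFunctor ⊣ u.toFunctor) ∧
        v.toFunctor.IsFibered :=
  ⟨X' F, uB F, vB F, wB F, isFibered_X' hF, psc_u hF, psc_v hF, psc_w hF, comp_uv F,
    u_full F, u_faithful F, ⟨adj F⟩, isFibered_v hF⟩

end Lifts

end Groth.Agent.Lib.Helper27.CommaFact
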