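import Groth.Prelude.Def_RelSpec2
import Groth.Agent.Lib.Helper27.ConeVertex

/-!
# Functoriality of the pointed affine cone (helper27)
-/

set_option autoImplicit false
set_option backward.isDefEq.respectTransparency false
set_option backward.isDefEq.respectTransparency.types false
universe u
open CategoryTheory CategoryTheory.Limits AlgebraicGeometry Opposite TopologicalSpace

noncomputable section

namespace Groth.Agent.Lib.Helper27.ConePointed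

section Algebra

variable {R : Type*} [CommRing R] (𝒜 : ℕ → AddSubgroup R) [GradedRing 𝒜]

/-- An ideal not containing the irrelevant ideal misses a homogeneous element of positive
degree. -/
theorem exists_homogeneous_not_mem (w : Ideal R)
    (hw : ¬ (HomogeneousIdeal.irrelevant 𝒜).toIdeal ≤ w) :
    ∃ (d : ℕ) (a : R), a ∈ 𝒜 (d + 1) ∧ a ∉ w := by
  by_contra hcon
  push_neg at hcon
  apply hw
  intro x hx
  have hx' : x ∈ (HomogeneousIdeal.irrelevant 𝒜).toAddSubmonoid := hx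
  rw [HomogeneousIdeal.irrelevant_eq_closure] at hx'
  clear hx
  induction hx' using AddSubmonoid.closure_induction with
  | mem y hy =>
    simp only [Set.mem_iUnion] at hy
    obtain ⟨i, hi, hy⟩ := hy
    obtain ⟨d, rfl⟩ : ∃ d, i = d + 1 := ⟨i - 1, by omega⟩
    exact hcon d y hy
  | zero => exact zero_mem w
  | add y z _ _ hy hz => exact w.add_mem hy hz

end Algebra

section Geometry

variable {Y Y' : Scheme.{u}} (q : Y' ⟶ Y) (𝒮 : RelProj.QCGrAlg Y) (𝒮' : RelProj.QCGrAlg Y')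
  (u : 𝒮.presheaf ⟶ q.base _* 𝒮'.presheaf)
  (hu : 𝒮.str ≫ u = q.c ≫ (TopCat.Presheaf.pushforward CommRingCat.{u} q.base).map 𝒮'.str)
  (Φ : 𝒮'.toQCAlg.spec ⟶ 𝒮.toQCAlg.spec)
  (hΦ : ∀ (U : Y.Opens) (hU : IsAffineOpen U) (U' : Y'.Opens) (hU' : IsAffineOpen U')
      (hle : U' ≤ q ⁻¹ᵁ U),
      𝒮'.toQCAlg.ι U' hU' ≫ Φ =
        Spec.map ((u.app (op U) : 𝒮.presheaf.obj (op U) ⟶ 𝒮'.presheaf.obj (op (q ⁻¹ᵁ U))) ≫
          𝒮'.presheaf.map (homOfLE hle).op) ≫ 𝒮.toQCAlg.ι U hU)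

include hu in
theorem str_u_res (U : Y.Opens) (U' : Y'.Opens) (hle : U' ≤ q ⁻¹ᵁ U) :
    𝒮.str.app (op U) ≫
      ((u.app (op U) : 𝒮.presheaf.obj (op U) ⟶ 𝒮'.presheaf.obj (op (q ⁻¹ᵁ U))) ≫
        𝒮'.presheaf.map (homOfLE hle).op) =
      q.appLE U U' hle ≫ 𝒮'.str.app (op U') := by
  have h1 := congrArg (fun α => α.app (op U)) hu
  have h1' : 𝒮.str.app (op U) ≫
      (u.app (op U) : 𝒮.presheaf.obj (op U) ⟶ 𝒮'.presheaf.obj (op (q ⁻¹ᵁ U))) =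
      q.app U ≫ 𝒮'.str.app (op (q ⁻¹ᵁ U)) := h1
  rw [← Category.assoc, h1', Category.assoc]
  have h2 := 𝒮'.str.naturality (homOfLE hle).op
  rw [← h2, ← Category.assoc]
  rfl

include hu hΦ in
theorem chart_compat (U : Y.Opens) (hU : IsAffineOpen U) (U' : Y'.Opens) (hU' : IsAffineOpen U')
    (hle : U' ≤ q ⁻¹ᵁ U) :
    𝒮'.toQCAlg.ι U' hU' ≫ Φ ≫ 𝒮.toQCAlg.π = 𝒮'.toQCAlg.ι U' hU' ≫ 𝒮'.toQCAlg.π ≫ q := by
  rw [reassoc_of% (hΦ U hU U' hU' hle), 𝒮.toQCAlg.ι_π, ← Spec.map_comp_assoc,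
    reassoc_of% (𝒮'.toQCAlg.ι_π U' hU'), ← IsAffineOpen.SpecMap_appLE_fromSpec q hU hU' hle,
    ← Spec.map_comp_assoc]
  congr 2
  exact str_u_res q 𝒮 𝒮' u hu U U' hle

include hu hΦ in
theorem π_Φ_apply (x' : 𝒮'.toQCAlg.spec) :
    𝒮.toQCAlg.π (Φ x') = q (𝒮'.toQCAlg.π x') := by
  obtain ⟨U₁, hU₁, hqy, -⟩ := exists_isAffineOpen_mem_and_subset
    (x := q (𝒮'.toQCAlg.π x')) (U := ⊤) (by trivial)
  have hy' : 𝒮'.toQCAlg.π x' ∈ q ⁻¹ᵁ U₁ := hqy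
  obtain ⟨U', hU', hy'U', hU'le⟩ := exists_isAffineOpen_mem_and_subset hy'
  have hx' : x' ∈ 𝒮'.toQCAlg.π ⁻¹ᵁ U' := hy'U'
  rw [𝒮'.toQCAlg.π_preimage U' hU'] at hx'
  obtain ⟨w', rfl⟩ := hx'
  have h := chart_compat q 𝒮 𝒮' u hu Φ hΦ U₁ hU₁ U' hU' hU'le
  have h2 := congrArg (fun f => f.base w') h
  exact h2

end Geometry


section Main

variable {Y Y' : Scheme.{u}} (q : Y' ⟶ Y) (𝒮 : RelProj.QCGrAlg Y) (𝒮' : RelProj.QCGrAlg Y')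
  (u : 𝒮.presheaf ⟶ q.base _* 𝒮'.presheaf)
  (hu : 𝒮.str ≫ u = q.c ≫ (TopCat.Presheaf.pushforward CommRingCat.{u} q.base).map 𝒮'.str)
  (φ : ∀ (U : Y.Opens) (hU : IsAffineOpen U) (U' : Y'.Opens) (hU' : IsAffineOpen U')
      (_ : U' ≤ q ⁻¹ᵁ U), 𝒮.deg U hU →+*ᵍ 𝒮'.deg U' hU')
  (hφ : ∀ (U : Y.Opens) (hU : IsAffineOpen U) (U' : Y'.Opens) (hU' : IsAffineOpen U')
      (hle : U' ≤ q ⁻¹ᵁ U),
      (φ U hU U' hU' hle).toRingHom =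
        ((u.app (op U) : 𝒮.presheaf.obj (op U) ⟶ 𝒮'.presheaf.obj (op (q ⁻¹ᵁ U))) ≫
          𝒮'.presheaf.map (homOfLE hle).op).hom)
  (Φ : 𝒮'.toQCAlg.spec ⟶ 𝒮.toQCAlg.spec)
  (hΦ : ∀ (U : Y.Opens) (hU : IsAffineOpen U) (U' : Y'.Opens) (hU' : IsAffineOpen U')
      (hle : U' ≤ q ⁻¹ᵁ U),
      𝒮'.toQCAlg.ι U' hU' ≫ Φ =
        Spec.map ((u.app (op U) : 𝒮.presheaf.obj (op U) ⟶ 𝒮'.presheaf.obj (op (q ⁻¹ᵁ U))) ≫
          𝒮'.presheaf.map (homOfLE hle).op) ≫ 𝒮.toQCAlg.ι U hU)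

include hu hφ hΦ in
theorem preimage_pointedCone_le :
    Φ ⁻¹ᵁ RelCone.pointedCone 𝒮 ≤ RelCone.pointedCone 𝒮' := by
  intro x' hx'
  have hx'' : Φ x' ∈ RelCone.pointedCone 𝒮 := hx'
  simp only [RelCone.pointedCone, Opens.mem_iSup] at hx''
  obtain ⟨U, w, hw, hwx⟩ := hx''
  have hU := U.2
  -- the base point lies in `U`
  have h1 : 𝒮.toQCAlg.ι U.1 U.2 w ∈ 𝒮.toQCAlg.π ⁻¹ᵁ U.1 := by
    rw [𝒮.toQCAlg.π_preimage U.1 U.2]
    exact ⟨w, rfl⟩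
  have h2 : 𝒮.toQCAlg.π (Φ x') ∈ U.1 := by
    have : 𝒮.toQCAlg.ι U.1 U.2 w = Φ x' := hwx
    rw [← this]; exact h1
  rw [π_Φ_apply q 𝒮 𝒮' u hu Φ hΦ x'] at h2
  have hy' : 𝒮'.toQCAlg.π x' ∈ q ⁻¹ᵁ U.1 := h2
  obtain ⟨U', hU', hy'U', hU'le⟩ := exists_isAffineOpen_mem_and_subset hy'
  have hx3 : x' ∈ 𝒮'.toQCAlg.π ⁻¹ᵁ U' := hy'U'
  rw [𝒮'.toQCAlg.π_preimage U' hU'] at hx3
  obtain ⟨w', rfl⟩ := hx3
  -- compare the two descriptions of `Φ x'`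
  have h3 := congrArg (fun f => f.base w') (hΦ U.1 U.2 U' hU' hU'le)
  have h3' : Φ (𝒮'.toQCAlg.ι U' hU' w') = 𝒮.toQCAlg.ι U.1 U.2
      (Spec.map ((u.app (op U.1) : 𝒮.presheaf.obj (op U.1) ⟶ 𝒮'.presheaf.obj (op (q ⁻¹ᵁ U.1))) ≫
          𝒮'.presheaf.map (homOfLE hU'le).op) w') := h3
  have hwx' : 𝒮.toQCAlg.ι U.1 U.2 w = Φ (𝒮'.toQCAlg.ι U' hU' w') := hwx
  rw [h3'] at hwx'
  have hw_eq := (𝒮.toQCAlg.ι U.1 U.2).isOpenEmbedding.injective hwx'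
  -- a homogeneous element of positive degree outside `w`
  have hw' : ¬ (HomogeneousIdeal.irrelevant (𝒮.deg U.1 U.2)).toIdeal ≤ w.asIdeal := by
    intro hle
    exact hw (fun a ha => hle ha)
  obtain ⟨d, a, ha, haw⟩ := exists_homogeneous_not_mem (𝒮.deg U.1 U.2) w.asIdeal hw'
  have hφa : (φ U.1 U.2 U' hU' hU'le) a ∈ 𝒮'.deg U' hU' (d + 1) :=
    (φ U.1 U.2 U' hU' hU'le).map_mem ha
  have hφa' : (φ U.1 U.2 U' hU' hU'le) a =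
      ((u.app (op U.1) : 𝒮.presheaf.obj (op U.1) ⟶ 𝒮'.presheaf.obj (op (q ⁻¹ᵁ U.1))) ≫
          𝒮'.presheaf.map (homOfLE hU'le).op).hom a :=
    congrArg (fun f : _ →+* _ => f a) (hφ U.1 U.2 U' hU' hU'le)
  have hnot : (φ U.1 U.2 U' hU' hU'le) a ∉ w'.asIdeal := by
    intro hmem
    apply haw
    rw [hw_eq]
    rw [hφa'] at hmem
    exact hmem
  have hw'_mem : w' ∈ RelCone.vertexCompl (𝒮'.deg U' hU') := by
    intro hzl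
    apply hnot
    apply hzl
    exact HomogeneousIdeal.mem_irrelevant_of_mem _ (Nat.succ_pos d) hφa
  have hle : (𝒮'.toQCAlg.ι U' hU') ''ᵁ RelCone.vertexCompl (𝒮'.deg U' hU') ≤
      RelCone.pointedCone 𝒮' := by
    unfold RelCone.pointedCone
    exact le_iSup (fun V : Y'.affineOpens =>
      (𝒮'.toQCAlg.ι V.1 V.2) ''ᵁ RelCone.vertexCompl (𝒮'.deg V.1 V.2)) ⟨U', hU'⟩
  exact hle ⟨w', hw'_mem, rfl⟩

end Main

end Groth.Agent.Lib.Helper27.ConePointed
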