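import Mathlib

/-! Continuous functors and separated presheaves: compatible families stay compatible after pushforward
(helper27). -/

universe w v₁ u₁ v₂ u₂

open CategoryTheory Opposite

namespace Groth.Agent.Lib.Helper27.ContinuousSep

variable {C : Type u₁} [Category.{v₁} C] {D : Type u₂} [Category.{v₂} D]
  (J : GrothendieckTopology C) (K : GrothendieckTopology D) (Φ : C ⥤ D)

/-- Let `Φ` be continuous, `Q` a separated presheaf on the target, `z` a compatible family for `Φ.op ⋙ Q` on a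
covering sieve `R`. Then `z` is compatible "after pushforward". -/
theorem map_eq_of_compatible [Φ.IsContinuous J K] (Q : Dᵒᵖ ⥤ Type (max w u₂ v₂))
    (hsep : ∀ (X : D) (S : K.Cover X) (x y : ToType (Q.obj (op X))),
        (∀ I : S.Arrow, Q.map I.f.op x = Q.map I.f.op y) → x = y)
    {U : C} (R : Sieve U) (hR : R ∈ J U)
    (z : Presieve.FamilyOfElements (Φ.op ⋙ Q) (R : Presieve U)) (hz : z.Compatible)
    {W : D} {V V' : C} (r : V ⟶ U) (r' : V' ⟶ U) (hr : R r) (hr' : R r')
    (α : W ⟶ Φ.obj V) (α' : W ⟶ Φ.obj V') (hα : α ≫ Φ.map r = α' ≫ Φ.map r') :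
    Q.map α.op (z r hr) = Q.map α'.op (z r' hr') := by
  have hG : Presheaf.IsSheaf K (K.plusObj Q) := GrothendieckTopology.Plus.isSheaf_of_sep Q hsep
  have hinj : ∀ X : D, Function.Injective ((K.toPlus Q).app (op X)) :=
    fun X => GrothendieckTopology.Plus.inj_of_sep Q hsep X
  have hGΦ : Presieve.IsSheaf J (Φ.op ⋙ K.plusObj Q) :=
    Functor.op_comp_isSheaf_of_types Φ J K ⟨K.plusObj Q, hG⟩
  let zp : Presieve.FamilyOfElements (Φ.op ⋙ K.plusObj Q) (R : Presieve U) :=
    fun V r hr => (K.toPlus Q).app (op (Φ.obj V)) (z r hr)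
  have hnat : ∀ {A B : D} (f : A ⟶ B) (q : Q.obj (op B)),
      (K.plusObj Q).map f.op ((K.toPlus Q).app (op B) q) = (K.toPlus Q).app (op A) (Q.map f.op q) := by
    intro A B f q
    exact (NatTrans.naturality_apply (K.toPlus Q) f.op q).symm
  have hzp : zp.Compatible := by
    intro V₁ V₂ Z b₁ b₂ r₁ r₂ h₁ h₂ hb
    change (K.plusObj Q).map (Φ.map b₁).op ((K.toPlus Q).app _ (z r₁ h₁)) =
      (K.plusObj Q).map (Φ.map b₂).op ((K.toPlus Q).app _ (z r₂ h₂))
    rw [hnat, hnat]
    congr 1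
    exact hz b₁ b₂ h₁ h₂ hb
  obtain ⟨g, hg⟩ := (hGΦ R hR zp hzp).exists
  apply hinj W
  rw [← hnat, ← hnat]
  have h1 : (K.toPlus Q).app (op (Φ.obj V)) (z r hr) = (K.plusObj Q).map (Φ.map r).op g := (hg r hr).symm
  have h2 : (K.toPlus Q).app (op (Φ.obj V')) (z r' hr') = (K.plusObj Q).map (Φ.map r').op g :=
    (hg r' hr').symm
  rw [h1, h2, ← Functor.map_comp_apply, ← Functor.map_comp_apply, ← op_comp, ← op_comp, hα]

end Groth.Agent.Lib.Helper27.ContinuousSep
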