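import Groth.Prelude.Def_W4c3irrattreebunCvg
import Mathlib.FieldTheory.IntermediateField.Adjoin.Basic
import Mathlib.FieldTheory.IntermediateField.Algebraic
import Mathlib.RingTheory.Algebraic.Integral
import Mathlib.LinearAlgebra.Dimension.StrongRankCondition
import Mathlib.FieldTheory.AlgebraicClosure

/-!
# Covering diagrams and the field of constants (helper27)
-/

set_option autoImplicit false

universe u

namespace Groth.Agent.Lib.Helper27

open W4c3irrattreebun

variable (k K : Type u) [Field k] [Field K] [Algebra k K]

/-- A covering diagram over the field of constants gives one over `k` with the same top field. -/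
lemma covDiag_down {e : ℕ} (D : CovDiag (algebraicClosure k K) K e) :
    ∃ D' : CovDiag k K e, (Algebra.IsSeparable K D.KC → Algebra.IsSeparable K D'.KC) := by
  letI algkC : Algebra k D.KC := ((algebraMap K D.KC).comp (algebraMap k K)).toAlgebra
  letI algkB : Algebra k D.KB :=
    ((algebraMap (algebraicClosure k K) D.KB).comp (algebraMap k (algebraicClosure k K))).toAlgebra
  have towerK : IsScalarTower k K D.KC := IsScalarTower.of_algebraMap_eq (fun x => rfl)
  have towerB : IsScalarTower k D.KB D.KC := IsScalarTower.of_algebraMap_eq (fun x => by
    show algebraMap K D.KC (algebraMap k K x) =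
      algebraMap D.KB D.KC (algebraMap (algebraicClosure k K) D.KB
        (algebraMap k (algebraicClosure k K) x))
    have e1 := @IsScalarTower.algebraMap_apply (algebraicClosure k K) D.KB D.KC _ _ _
      D.algkB D.algBC D.algkC D.towerB (algebraMap k (algebraicClosure k K) x)
    have e2 := @IsScalarTower.algebraMap_apply (algebraicClosure k K) K D.KC _ _ _ _
      D.algKC D.algkC D.towerK (algebraMap k (algebraicClosure k K) x)
    rw [← e1, e2]
    rfl)
  exact ⟨{ KC := D.KC, KB := D.KB, algKC := D.algKC, algkC := algkC, towerK := towerK,
           algkB := algkB, algBC := D.algBC, towerB := towerB, finiteK := D.finiteK,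
           t := D.t, transc := D.transc, finiteT := D.finiteT, finrank_eq := D.finrank_eq },
    id⟩

/-- A covering diagram over `k` gives one over the field of constants, of degree at most the
original one, with the same top field. -/
lemma covDiag_up {e : ℕ} (D : CovDiag k K e) :
    ∃ e' ≤ e, ∃ D' : CovDiag (algebraicClosure k K) K e',
      (Algebra.IsSeparable K D.KC → Algebra.IsSeparable K D'.KC) := by
  classical
  -- the compositum of `KB` and the constants inside `KC`
  let KB' : IntermediateField D.KB D.KC :=
    IntermediateField.adjoin D.KB (Set.range (algebraMap (algebraicClosure k K) D.KC))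
  let φ : (algebraicClosure k K) →+* KB' :=
    { toFun := fun x => ⟨algebraMap (algebraicClosure k K) D.KC x,
        IntermediateField.subset_adjoin _ _ ⟨x, rfl⟩⟩
      map_one' := Subtype.ext (map_one _)
      map_mul' := fun x y => Subtype.ext (map_mul _ x y)
      map_zero' := Subtype.ext (map_zero _)
      map_add' := fun x y => Subtype.ext (map_add _ x y) }
  letI algkB' : Algebra (algebraicClosure k K) KB' := φ.toAlgebra
  have towerB' : IsScalarTower (algebraicClosure k K) KB' D.KC :=
    IsScalarTower.of_algebraMap_eq (fun x => rfl)
  -- `KB'` is algebraic over `KB`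
  have halg : Algebra.IsAlgebraic D.KB KB' := by
    apply IntermediateField.isAlgebraic_adjoin
    rintro _ ⟨x, rfl⟩
    have hx : IsIntegral k (x : K) := x.2
    have h1 : IsIntegral k (algebraMap K D.KC (x : K)) :=
      hx.map (IsScalarTower.toAlgHom k K D.KC)
    exact h1.tower_top
  have transc' : Transcendental KB' D.t := by
    intro h
    exact D.transc (h.restrictScalars D.KB)
  -- compare `KB(t)` and `KB'(t)`
  let E : IntermediateField D.KB D.KC := IntermediateField.adjoin D.KB ({D.t} : Set D.KC)
  let E' : IntermediateField KB' D.KC := IntermediateField.adjoin KB' ({D.t} : Set D.KC)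
  have hle : ∀ x : D.KC, x ∈ E → x ∈ E' := by
    have : E ≤ E'.restrictScalars D.KB := by
      rw [IntermediateField.adjoin_le_iff]
      rintro _ rfl
      exact IntermediateField.mem_adjoin_simple_self KB' D.t
    exact fun x hx => this hx
  let ι : E →+* E' :=
    { toFun := fun x => ⟨x.1, hle x.1 x.2⟩
      map_one' := rfl
      map_mul' := fun _ _ => rfl
      map_zero' := rfl
      map_add' := fun _ _ => rfl }
  letI : Algebra E E' := ι.toAlgebra
  have : IsScalarTower E E' D.KC := IsScalarTower.of_algebraMap_eq (fun x => rfl)
  have : FaithfulSMul E E' := (faithfulSMul_iff_algebraMap_injective E E').mpr ι.injective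
  have hfinE : Module.Finite E D.KC := D.finiteT
  have finiteT' : Module.Finite E' D.KC := Module.Finite.of_restrictScalars_finite E E' D.KC
  have hrank : Module.finrank E' D.KC ≤ e := by
    have := Module.finrank_top_le_finrank_of_isScalarTower E E' D.KC
    rwa [D.finrank_eq] at this
  exact ⟨Module.finrank E' D.KC, hrank,
    { KC := D.KC, KB := KB', algKC := D.algKC, algkC := inferInstance, towerK := inferInstance,
      algkB := algkB', algBC := inferInstance, towerB := towerB', finiteK := D.finiteK,
      t := D.t, transc := transc', finiteT := finiteT', finrank_eq := rfl }, id⟩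

end Groth.Agent.Lib.Helper27
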