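import Groth.Prelude.Def_W4c2modmodulilectNerve
import Mathlib.CategoryTheory.IsConnected
import Mathlib.CategoryTheory.Category.ULift
import Mathlib.CategoryTheory.Groupoid.Discrete

/-!
# Consequences of having a contractible nerve (helper27)
-/

set_option autoImplicit false

universe w v' u' v u

open CategoryTheory

namespace Groth.Agent.Lib.Helper27.CtrNerve

variable {A : Type u} [Category.{v} A]

/-- A groupoid structure on `AsSmall G`. -/
@[instance_reducible]
noncomputable def asSmallGroupoid (G : Type u') [Groupoid.{v'} G] : Groupoid (AsSmall.{w} G) :=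
  Groupoid.ofIsIso (fun f => by
    have : IsIso ((AsSmall.equiv (C := G)).inverse.map f) := inferInstance
    exact isIso_of_reflects_iso f (AsSmall.equiv (C := G)).inverse)

/-- Every functor from a category with contractible nerve to a groupoid is isomorphic to a constant
functor. -/
theorem exists_iso_const
    (hA : W4c2modmodulilect.HasContractibleNerve.{max w v' u', max w v' u'} A)
    {G : Type u'} [Groupoid.{v'} G] (H : A ⥤ G) :
    ∃ g : G, Nonempty (H ≅ (Functor.const A).obj g) := by
  let _ : Groupoid (AsSmall.{w} G) := asSmallGroupoid G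
  have he := hA.2 (AsSmall.{w} G)
  let e : G ≌ AsSmall.{w} G := AsSmall.equiv
  obtain ⟨g', ⟨i⟩⟩ := he.essSurj.mem_essImage (H ⋙ e.functor)
  refine ⟨e.inverse.obj g', ⟨?_⟩⟩
  have i1 : H ⋙ e.functor ⋙ e.inverse ≅ H :=
    Functor.isoWhiskerLeft H e.unitIso.symm ≪≫ Functor.rightUnitor H
  have i2 : (H ⋙ e.functor) ⋙ e.inverse ≅ (Functor.const A).obj g' ⋙ e.inverse :=
    Functor.isoWhiskerRight i.symm e.inverse
  exact i1.symm ≪≫ (Functor.associator _ _ _).symm ≪≫ i2 ≪≫
    NatIso.ofComponents (fun _ => Iso.refl _) (by intro a b f; simp)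

/-- A category with contractible nerve is connected. -/
theorem isConnected
    (hA : W4c2modmodulilect.HasContractibleNerve.{max w v u, max w v u} A) : IsConnected A := by
  have : Nonempty A := hA.1
  have : IsPreconnected A := by
    apply IsPreconnected.of_constant_of_preserves_morphisms
    intro α F hF j j'
    let H : A ⥤ Discrete α :=
      { obj := fun a => ⟨F a⟩
        map := fun f => eqToHom (by rw [hF f]) }
    obtain ⟨g, ⟨i⟩⟩ := exists_iso_const.{max w v} (G := Discrete α) hA H
    have h1 : F j = g.as := Discrete.eq_of_hom (i.hom.app j)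
    have h2 : F j' = g.as := Discrete.eq_of_hom (i.hom.app j')
    rw [h1, h2]
  exact {}

end Groth.Agent.Lib.Helper27.CtrNerve
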