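import Mathlib.RingTheory.PowerSeries.Substitution
import Mathlib.RingTheory.MvPowerSeries.Substitution
import Mathlib.Tactic.LinearCombination

/-!
# Cube roots of power series in characteristic two (helper27)
-/

set_option autoImplicit false

namespace Groth.Agent.Lib.Helper27

section CubeRoot

variable {R : Type*} [CommRing R] {σ : Type*}

/-- The polynomial `X + X² + X³` as a power series. -/
noncomputable def cubeP (R : Type*) [CommRing R] : PowerSeries R :=
  PowerSeries.X + PowerSeries.X ^ 2 + PowerSeries.X ^ 3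

lemma constantCoeff_cubeP : PowerSeries.constantCoeff (cubeP R) = 0 := by
  simp [cubeP]

lemma coeff_one_cubeP : PowerSeries.coeff 1 (cubeP R) = 1 := by
  simp [cubeP, PowerSeries.coeff_X_pow]

lemma isUnit_coeff_one_cubeP : IsUnit (PowerSeries.coeff 1 (cubeP R)) := by
  rw [coeff_one_cubeP]; exact isUnit_one

/-- The compositional inverse `G` of `X + X² + X³`. -/
noncomputable def cubeG (R : Type*) [CommRing R] : PowerSeries R :=
  (cubeP R).substInvOfIsUnit isUnit_coeff_one_cubeP

lemma constantCoeff_cubeG : PowerSeries.constantCoeff (cubeG R) = 0 := by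
  simp [cubeG]

lemma cubeG_spec : cubeG R + cubeG R ^ 2 + cubeG R ^ 3 = PowerSeries.X := by
  have hG : PowerSeries.HasSubst (cubeG R) :=
    PowerSeries.HasSubst.of_constantCoeff_zero' constantCoeff_cubeG
  have := PowerSeries.subst_substInvOfIsUnit_right (cubeP R) constantCoeff_cubeP
    isUnit_coeff_one_cubeP
  change (cubeP R).subst (cubeG R) = PowerSeries.X at this
  rw [cubeP, PowerSeries.subst_add hG, PowerSeries.subst_add hG, PowerSeries.subst_pow hG,
    PowerSeries.subst_pow hG, PowerSeries.subst_X hG] at this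
  exact this

/-- In characteristic two, `1 + x` has a cube root `1 + z` when `x` has zero constant
coefficient. -/
lemma exists_cube_eq_one_add (h2 : (2 : R) = 0) (x : MvPowerSeries σ R)
    (hx : MvPowerSeries.constantCoeff x = 0) :
    ∃ z : MvPowerSeries σ R, MvPowerSeries.constantCoeff z = 0 ∧ (1 + z) ^ 3 = 1 + x := by
  have hxs : PowerSeries.HasSubst x := PowerSeries.HasSubst.of_constantCoeff_zero hx
  refine ⟨(cubeG R).subst x, PowerSeries.constantCoeff_subst_eq_zero hx _ constantCoeff_cubeG, ?_⟩
  have h := congrArg (PowerSeries.subst x) (cubeG_spec (R := R))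
  rw [PowerSeries.subst_add hxs, PowerSeries.subst_add hxs, PowerSeries.subst_pow hxs,
    PowerSeries.subst_pow hxs, PowerSeries.subst_X hxs] at h
  have h2M : (2 : MvPowerSeries σ R) = 0 := by
    rw [← map_ofNat (MvPowerSeries.C (σ := σ) (R := R)) 2, h2, map_zero]
  set z := (cubeG R).subst x
  linear_combination h + (z + z ^ 2) * h2M

/-- In characteristic two, a power series whose constant coefficient is the cube of a unit
is a cube. -/
lemma exists_cube_eq (h2 : (2 : R) = 0) (w : MvPowerSeries σ R) (κ : R) (hκ : IsUnit κ)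
    (hw : MvPowerSeries.constantCoeff w = κ ^ 3) :
    ∃ y : MvPowerSeries σ R, MvPowerSeries.constantCoeff y = κ ∧ y ^ 3 = w := by
  obtain ⟨κi, hκi⟩ : ∃ κi : R, κ * κi = 1 := ⟨↑hκ.unit⁻¹, by simp⟩
  have hx : MvPowerSeries.constantCoeff (MvPowerSeries.C (σ := σ) (κi ^ 3) * w - 1) = 0 := by
    simp only [map_sub, map_mul, MvPowerSeries.constantCoeff_C, hw, map_one]
    linear_combination (κ ^ 2 * κi ^ 2 + κ * κi + 1) * hκi
  obtain ⟨z, hz0, hz⟩ := exists_cube_eq_one_add h2 _ hx
  refine ⟨MvPowerSeries.C κ * (1 + z), by simp [hz0], ?_⟩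
  rw [mul_pow, hz]
  have hC : (MvPowerSeries.C (σ := σ) κ) * MvPowerSeries.C κi = 1 := by
    rw [← map_mul, hκi, map_one]
  simp only [map_pow]
  linear_combination (w * (MvPowerSeries.C (σ := σ) κ ^ 2 * MvPowerSeries.C κi ^ 2 +
    MvPowerSeries.C κ * MvPowerSeries.C κi + 1)) * hC

end CubeRoot

end Groth.Agent.Lib.Helper27
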