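import Groth.Agent.Lib.Helper27.WNA
import Groth.Agent.Lib.Helper3.RNZmt2
import Groth.Agent.Lib.Helper3.AlgSpLocP5
import Groth.Agent.Lib.lead.HensSectB
import Groth.Agent.S10535
import Groth.Agent.S10519

/-!
# The diagonal of a DM stack with separated quasi-compact diagonal is quasi-affine (helper27)
-/

set_option autoImplicit false
set_option backward.isDefEq.respectTransparency false
set_option backward.isDefEq.respectTransparency.types false

universe u

open CategoryTheory CategoryTheory.Limits AlgebraicGeometry Opposite FibCat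
  Groth.Agent.Lib.Helper27.FpKit Groth.Agent.Lib.Helper27.RepWithComp

namespace Groth.Agent.Lib.Helper27.DMDiagQA

variable {S : Scheme.{u}}

open Groth.Agent.Lib.Helper27.SepDiag in
/-- The diagonal of a stack with an etale atlas is locally quasi-finite. -/
theorem isQuasiDMOver_of_isDM (𝒳 : AlgSt.Cat S) (h𝒳 : AlgSt.IsDM Scheme.etalePrecoverage 𝒳) :
    AlgSt.RepByAlgSpWith (AlgSp.LocP (@LocallyQuasiFinite ⊓ @LocallyOfFiniteType))
      (diag (toSelf 𝒳)) := by
  obtain ⟨halg, U, x, hxet, hxs⟩ := h𝒳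
  have hU' := Groth.Agent.Lib.Helper27.ReprAux.isFibGrpd_overCat U
  have hL : ∀ ⦃X Y : AlgSp.Sp S⦄ (g : X ⟶ Y), AlgSp.IsEtaleMor g → AlgSp.LocP @Etale g :=
    fun _ _ g hg => Groth.Agent.Lib.Helper3.locP_etale_of_isEtaleMor hg
  have hx₁ : AlgSt.RepByAlgSpWith (AlgSp.LocP @Flat) x :=
    repByAlgSpWith_mono x (fun _ _ g hg => Groth.Agent.Lib.Helper3.locP_mono
      (fun _ _ f hf => by haveI : Etale f := hf; exact (inferInstance : Flat f)) (hL g hg)) hxet
  have hx₂ : AlgSt.RepByAlgSpWith (AlgSp.LocP @LocallyOfFinitePresentation) x :=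
    repByAlgSpWith_mono x (fun _ _ g hg => Groth.Agent.Lib.Helper3.locP_mono
      (fun _ _ f hf => by
        haveI : Etale f := hf; exact (inferInstance : LocallyOfFinitePresentation f)) (hL g hg)) hxet
  have hxq : AlgSt.RepByAlgSpWith (AlgSp.LocP (@LocallyQuasiFinite ⊓ @LocallyOfFiniteType)) x :=
    repByAlgSpWith_mono x (fun _ _ g hg => Groth.Agent.Lib.Helper3.locP_mono
      (fun _ _ f hf => by
        haveI : Etale f := hf
        exact ⟨Groth.Agent.Lib.lead.HensSect.locallyQuasiFinite_of_etale f,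
          (inferInstance : LocallyOfFiniteType f)⟩) (hL g hg)) hxet
  have hloc : AlgSp.IsLocalOnBase (AlgSp.IsFpqcCover (S := S))
      (AlgSp.LocP (@LocallyQuasiFinite ⊓ @LocallyOfFiniteType)) :=
    Groth.Agent.Lib.Helper3.isLocalOnBase_fpqc_locP
      Groth.Agent.Lib.Helper3.isEtLocal_locallyQuasiFinite
  exact Groth.Agent.Lib.Helper27.DiagProp.prop_diag_toSelf _
    (Groth.Agent.Lib.Helper27.RepWithComp.compHyp_locP
      Groth.Agent.Lib.Helper3.isEtLocal_locallyQuasiFinite)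
    (Groth.Agent.Lib.Helper27.RepWithComp.isLocalOnBase_fppf_of_fpqc _ hloc)
    (fun k hk => Groth.Agent.Lib.Helper27.DiagRep.isQuasiDMMor_of_repByAlgSp1 k hk)
    halg.isStack.1 halg.diag hU' (Groth.Agent.Lib.Helper27.FpRepSp2.repByAlgSp_overCat U)
    x hx₁ hx₂ hxs hxq

open Groth.Agent.Lib.Helper27.SepDiag in
theorem main (𝒳 : AlgSt.Cat S) (h𝒳 : AlgSt.IsDM Scheme.etalePrecoverage 𝒳)
    (hsep : AlgSt.RepByAlgSpWith AlgSp.IsSeparatedMor (diag (toSelf 𝒳)))
    (hqc : AlgSt.RepByAlgSpWith AlgSp.IsQuasiCompactMor (diag (toSelf 𝒳))) :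
    AlgSt.RepByAlgSpWith AlgSp.IsQuasiAffineMor (diag (toSelf 𝒳)) := by
  have hlqf := isQuasiDMOver_of_isDM 𝒳 h𝒳
  have h3 := repByAlgSpWith_inf (f := diag (toSelf 𝒳)) _ _
    (Groth.Agent.Lib.Helper27.RepWithComp.isLocalOnBase_fppf_of_fpqc _
      (Groth.Agent.S10535.result S)) hlqf hsep
  have h4 := repByAlgSpWith_inf (f := diag (toSelf 𝒳)) _ _
    (Groth.Agent.Lib.Helper27.RepWithComp.isLocalOnBase_fppf_of_fpqc _
      (Groth.Agent.S10519.result S)) h3 hqc
  intro T t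
  obtain ⟨F, e, he, ⟨⟨hP1, hP2⟩, hP3⟩⟩ := h4 T t
  exact ⟨F, e, he, Groth.Agent.Lib.Helper3.RelNorm.isQuasiAffineMor_of_lqf_separated F.property
    (AlgSp.IsAlgSpace.yon_obj T) _ hP1 hP3 hP2⟩

end Groth.Agent.Lib.Helper27.DMDiagQA
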