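import Groth.Agent.Lib.Helper27.BaseChangePres

/-!
# Descent of properties of functors representable by algebraic spaces along fppf covers (helper27)
-/

set_option autoImplicit false
set_option backward.isDefEq.respectTransparency false
set_option backward.isDefEq.respectTransparency.types false

universe v₂ u₂ u

open CategoryTheory CategoryTheory.Limits AlgebraicGeometry Opposite FibCat
  Groth.Agent.Lib.Helper27.FpKit Groth.Agent.Lib.Helper27.PshKit Groth.Agent.Lib.Helper27.PshFp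
  Groth.Agent.Lib.Helper27.PshRep Groth.Agent.Lib.Helper27.RepWithComp
  Groth.Agent.Lib.Helper27.BaseChangePres

namespace Groth.Agent.Lib.Helper27.Descent

variable {S : Scheme.{u}}

open Stk

section IndepSp

variable {𝒲 : BasedCategory.{v₂, u₂} (Over S)}

/-- The property of the structure map to a sheaf does not depend on the presentation. -/
theorem indep_sp (P : MorphismProperty (AlgSp.Sp S))
    (hiso : ∀ ⦃X X' Y : AlgSp.Sp S⦄ (i : X' ⟶ X) [IsIso i] (f : X ⟶ Y), AlgSp.IsAlgSpace X →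
      AlgSp.IsAlgSpace X' → AlgSp.IsAlgSpace Y → P f → P (i ≫ f)) {F₁ F₂ Y : AlgSp.Sp S}
    (hF₁ : AlgSp.IsAlgSpace F₁) (hF₂ : AlgSp.IsAlgSpace F₂) (hY : AlgSp.IsAlgSpace Y)
    (e₁ : AlgSt.ofSp F₁ ⥤ᵇ 𝒲) (e₂ : AlgSt.ofSp F₂ ⥤ᵇ 𝒲) (h₁ : IsEquivOver e₁) (h₂ : IsEquivOver e₂)
    (q : 𝒲 ⥤ᵇ AlgSt.ofSp Y)
    (hP₂ : P (ObjectProperty.homMk (pshMapOf (BasedFunctor.comp e₂ q)) : F₂ ⟶ Y)) :
    P (ObjectProperty.homMk (pshMapOf (BasedFunctor.comp e₁ q)) : F₁ ⟶ Y) := by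
  obtain ⟨e₂', he₂', -, ⟨ε⟩⟩ := exists_inverse e₂ h₂
  let Ψ : AlgSt.ofSp F₁ ⥤ᵇ AlgSt.ofSp F₂ := BasedFunctor.comp e₁ e₂'
  have hΨ : IsEquivOver Ψ := isEquivOver_comp e₁ e₂' h₁ he₂'
  have hiso' : IsIso (pshMapOf Ψ) := isIso_pshMapOf Ψ hΨ
  have h1 : pshMapOf (BasedFunctor.comp e₁ q) =
      pshMapOf Ψ ≫ pshMapOf (BasedFunctor.comp e₂ q) := by
    rw [← pshMapOf_comp]
    apply pshMapOf_congr
    intro a
    exact ⟨q.toFunctor.map (ε.inv.toNatTrans.app (e₁.toFunctor.obj a)),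
      (Vert.app ε.inv (e₁.toFunctor.obj a)).map q⟩
  have h2 : (ObjectProperty.homMk (pshMapOf (BasedFunctor.comp e₁ q)) : F₁ ⟶ Y) =
      (ObjectProperty.homMk (pshMapOf Ψ) : F₁ ⟶ F₂) ≫
        (ObjectProperty.homMk (pshMapOf (BasedFunctor.comp e₂ q)) : F₂ ⟶ Y) := by
    apply ObjectProperty.hom_ext
    exact h1
  rw [h2]
  have := isIso_homMk (F₁ := F₁) (F₂ := F₂) (pshMapOf Ψ) hiso'
  exact hiso _ _ hF₂ hF₁ hY hP₂

end IndepSp

section DescentSp

variable {𝒳 𝒴 : AlgSt.Cat S}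

/-- Descent along a one-member fppf cover, for base changes to sheaves. -/
theorem descent_sp (P : MorphismProperty (AlgSp.Sp S))
    (hP : AlgSp.IsLocalOnBase AlgSp.IsFppfCover P) (f : 𝒳 ⥤ᵇ 𝒴) {X' Y' G X'' : AlgSp.Sp S}
    (hX' : AlgSp.IsAlgSpace X') (hY' : AlgSp.IsAlgSpace Y') (hG : AlgSp.IsAlgSpace G)
    (hX'' : AlgSp.IsAlgSpace X'') (y' : AlgSt.ofSp Y' ⥤ᵇ 𝒴) (e : AlgSt.ofSp X' ⥤ᵇ fp y' f)
    (he : IsEquivOver e) (c : G ⟶ Y')
    (hc : AlgSp.IsFppfCover (fun _ : PUnit.{u + 1} => G) (fun _ => c))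
    (e'' : AlgSt.ofSp X'' ⥤ᵇ fp (BasedFunctor.comp (AlgSt.ofSpMap c) y') f)
    (he'' : IsEquivOver e'')
    (hP'' : P (ObjectProperty.homMk (pshMapOf (BasedFunctor.comp e''
      (fpFst (BasedFunctor.comp (AlgSt.ofSpMap c) y') f))) : X'' ⟶ G)) :
    P (ObjectProperty.homMk (pshMapOf (BasedFunctor.comp e (fpFst y' f))) : X' ⟶ Y') := by
  obtain ⟨π, hπ⟩ : ∃ π : X' ⟶ Y',
    π = ObjectProperty.homMk (pshMapOf (BasedFunctor.comp e (fpFst y' f))) := ⟨_, rfl⟩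
  rw [← hπ]
  have sqS : IsPullback (pullback.fst π c) (pullback.snd π c) π c := IsPullback.of_hasPullback π c
  have hW : AlgSp.IsAlgSpace (pullback π c) :=
    Groth.Agent.S9874.result S Y' hY'.diag ⟨X', hX'⟩ ⟨G, hG⟩ π c _ _ _ sqS
  have sqP : IsPullback (pullback.fst π c).hom (pullback.snd π c).hom
      (pshMapOf (BasedFunctor.comp e (fpFst y' f))) c.hom := by
    have := sqS.map (sheafToPresheaf (AlgSp.J S) (Type (u + 1)))
    rw [hπ] at this
    rw [hπ]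
    exact this
  have h1 := indep_sp P (fun _ _ _ i _ f hX hX' hY h => precomp_iso P hP i f hX hX' hY h)
    hW hX'' hG (Ξ f y' e c sqP) e'' (isEquivOver_Ξ f y' e he c sqP) he''
    (fpFst (BasedFunctor.comp (AlgSt.ofSpMap c) y') f) hP''
  have h2 : (ObjectProperty.homMk (pshMapOf (BasedFunctor.comp (Ξ f y' e c sqP)
      (fpFst (BasedFunctor.comp (AlgSt.ofSpMap c) y') f))) : pullback π c ⟶ G) =
      pullback.snd π c := by
    apply ObjectProperty.hom_ext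
    exact pshMapOf_Ξ_fst f y' e c sqP
  rw [h2] at h1
  have key := hP (fun _ : PUnit.{u + 1} => G) (fun _ => c) hY' (fun _ => hG) hc π hX'
    (fun _ => pullback π c) (fun _ => pullback.snd π c) (fun _ => pullback.fst π c)
    (fun _ => hW) (fun _ => sqS)
  exact key.2 (fun _ => h1)

end DescentSp

section Bridge

variable {𝒳 𝒴 : AlgSt.Cat S}

theorem isEquivOver_ofOverCat (U : Over S) : IsEquivOver (AlgSt.ofOverCat U) := by
  apply isEquivOver_of_ess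
  · constructor
    intro a b m
    exact ⟨Over.homMk m.hom (congrArg ULift.down m.map_sec), rfl⟩
  · constructor
    intro a b f g h
    apply Over.OverMorphism.ext
    exact congrArg (fun k => k.hom) h
  · intro x
    exact ⟨Over.mk x.sec.down, Iso.refl _, Vert.id _⟩

/-- The morphism of cospans replacing the slice by the category of the representable sheaf. -/
def Dsp (f : 𝒳 ⥤ᵇ 𝒴) {U : Over S} (y : overCat U ⥤ᵇ 𝒴) :
    MapData (BasedFunctor.comp (AlgSt.toOverCat U) y) f y f (AlgSt.ofOverCat U)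
      (BasedFunctor.id 𝒳) (BasedFunctor.id 𝒴) where
  e₁ := fun _ => Iso.refl _
  n₁ := fun α => (Category.comp_id _).trans (Category.id_comp _).symm
  l₁ := fun _ => Vert.id _
  e₂ := fun _ => Iso.refl _
  n₂ := fun β => (Category.comp_id _).trans (Category.id_comp _).symm
  l₂ := fun _ => Vert.id _

/-- The base change along `y` as a base change along a functor from the category of `h_U`. -/
abbrev toSp (f : 𝒳 ⥤ᵇ 𝒴) {U : Over S} (y : overCat U ⥤ᵇ 𝒴) :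
    fp y f ⥤ᵇ fp (BasedFunctor.comp (AlgSt.toOverCat U) y) f := fpMap (Dsp f y)

theorem isEquivOver_toSp (f : 𝒳 ⥤ᵇ 𝒴) {U : Over S} (y : overCat U ⥤ᵇ 𝒴) :
    IsEquivOver (toSp f y) :=
  isEquivOver_fpMap (Dsp f y) (isEquivOver_ofOverCat U) (isEquivOver_id _) (isEquivOver_id _)

theorem pshMapOf_toSp (f : 𝒳 ⥤ᵇ 𝒴) {U : Over S} (y : overCat U ⥤ᵇ 𝒴) {F : AlgSp.Sp S}
    (e : AlgSt.ofSp F ⥤ᵇ fp y f) :
    pshMapOf (BasedFunctor.comp (BasedFunctor.comp e (toSp f y))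
      (fpFst (BasedFunctor.comp (AlgSt.toOverCat U) y) f)) =
      (AlgSt.spMapOfOver (BasedFunctor.comp e (fpFst y f))).hom := by
  rw [spMapOfOver_eq]
  apply pshMapOf_congr
  intro a
  exact ⟨𝟙 _, Vert.id _⟩

/-- The morphism of cospans attached to an isomorphism of functors. -/
def Diso (f : 𝒳 ⥤ᵇ 𝒴) {𝒜 : AlgSt.Cat S} (y₁ y₂ : 𝒜 ⥤ᵇ 𝒴) (κ : y₂ ≅ y₁) :
    MapData y₁ f y₂ f (BasedFunctor.id 𝒜) (BasedFunctor.id 𝒳) (BasedFunctor.id 𝒴) where
  e₁ := fun x' => ((BasedNatTrans.forgetful _ _).mapIso κ).app x'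
  n₁ := fun α => κ.hom.toNatTrans.naturality α
  l₁ := fun x' => Vert.app κ.hom x'
  e₂ := fun _ => Iso.refl _
  n₂ := fun β => (Category.comp_id _).trans (Category.id_comp _).symm
  l₂ := fun _ => Vert.id _

/-- Base changes along isomorphic functors are equivalent. -/
abbrev isoMap (f : 𝒳 ⥤ᵇ 𝒴) {𝒜 : AlgSt.Cat S} (y₁ y₂ : 𝒜 ⥤ᵇ 𝒴) (κ : y₂ ≅ y₁) :
    fp y₂ f ⥤ᵇ fp y₁ f := fpMap (Diso f y₁ y₂ κ)

theorem isEquivOver_isoMap (f : 𝒳 ⥤ᵇ 𝒴) {𝒜 : AlgSt.Cat S} (y₁ y₂ : 𝒜 ⥤ᵇ 𝒴) (κ : y₂ ≅ y₁) :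
    IsEquivOver (isoMap f y₁ y₂ κ) :=
  isEquivOver_fpMap (Diso f y₁ y₂ κ) (isEquivOver_id _) (isEquivOver_id _) (isEquivOver_id _)

/-- Descent along a one-member fppf cover of the test scheme. -/
theorem descent_over (P : MorphismProperty (AlgSp.Sp S))
    (hP : AlgSp.IsLocalOnBase AlgSp.IsFppfCover P) (f : 𝒳 ⥤ᵇ 𝒴) {U : Over S}
    (y : overCat U ⥤ᵇ 𝒴) (F : AlgSp.Space S) (e : AlgSt.ofSp F.obj ⥤ᵇ fp y f)
    (he : IsEquivOver e) (G : AlgSp.Space S) (c : G.obj ⟶ (AlgSp.yon S).obj U)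
    (hc : AlgSp.IsFppfCover (fun _ : PUnit.{u + 1} => G.obj) (fun _ => c))
    (y'' : AlgSt.ofSp G.obj ⥤ᵇ 𝒴)
    (κ : y'' ≅ BasedFunctor.comp (AlgSt.ofSpMap c) (BasedFunctor.comp (AlgSt.toOverCat U) y))
    (X'' : AlgSp.Space S) (e'' : AlgSt.ofSp X''.obj ⥤ᵇ fp y'' f) (he'' : IsEquivOver e'')
    (hP'' : P (ObjectProperty.homMk (pshMapOf (BasedFunctor.comp e'' (fpFst y'' f))) :
      X''.obj ⟶ G.obj)) :
    P (AlgSt.spMapOfOver (BasedFunctor.comp e (fpFst y f))) := by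
  have h := descent_sp P hP f F.property (AlgSp.IsAlgSpace.yon_obj U) G.property X''.property
    (BasedFunctor.comp (AlgSt.toOverCat U) y) (BasedFunctor.comp e (toSp f y))
    (isEquivOver_comp _ _ he (isEquivOver_toSp f y)) c hc
    (BasedFunctor.comp e'' (isoMap f _ y'' κ))
    (isEquivOver_comp _ _ he'' (isEquivOver_isoMap f _ y'' κ)) (by
      have h0 : pshMapOf (BasedFunctor.comp (BasedFunctor.comp e'' (isoMap f _ y'' κ))
          (fpFst (BasedFunctor.comp (AlgSt.ofSpMap c)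
            (BasedFunctor.comp (AlgSt.toOverCat U) y)) f)) =
          pshMapOf (BasedFunctor.comp e'' (fpFst y'' f)) := by
        apply pshMapOf_congr
        intro a
        exact ⟨𝟙 _, Vert.id _⟩
      rw [h0]
      exact hP'')
  have h3 : (ObjectProperty.homMk (pshMapOf (BasedFunctor.comp (BasedFunctor.comp e (toSp f y))
      (fpFst (BasedFunctor.comp (AlgSt.toOverCat U) y) f))) : F.obj ⟶ (AlgSp.yon S).obj U) =
      AlgSt.spMapOfOver (BasedFunctor.comp e (fpFst y f)) := by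
    apply ObjectProperty.hom_ext
    exact pshMapOf_toSp f y e
  rw [h3] at h
  exact h

end Bridge

end Groth.Agent.Lib.Helper27.Descent
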