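import Groth.Prelude.Def_FibCat2
import Groth.Prelude.Def_W4stkcategoriessitesFib

/-!
# Base change of the diagonal of a categorical pullback (helper27)
-/

set_option autoImplicit false
set_option backward.isDefEq.respectTransparency false
set_option backward.isDefEq.respectTransparency.types false

universe v u

open CategoryTheory CategoryTheory.Limits FibCat

namespace Groth.Agent.Lib.Helper27.DiagBC

variable {X Y V : Type u} [Category.{v} X] [Category.{v} Y] [Category.{v} V] (p : X ⥤ Y) (q : V ⥤ Y)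

/-- The diagonal of `π₂`. -/
abbrev ΔP : CategoricalPullback p q ⥤ CategoricalPullback (CategoricalPullback.π₂ p q) (CategoricalPullback.π₂ p q) :=
  (CategoricalPullback.CatCommSqOver.toFunctorToCategoricalPullback (CategoricalPullback.π₂ p q) (CategoricalPullback.π₂ p q) (CategoricalPullback p q)).obj ⟨𝟭 _, 𝟭 _, Iso.refl _⟩

/-- The diagonal of `p`. -/
abbrev ΔX : X ⥤ CategoricalPullback p p :=
  (CategoricalPullback.CatCommSqOver.toFunctorToCategoricalPullback p p X).obj ⟨𝟭 _, 𝟭 _, Iso.refl _⟩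

/-- The cospan transformation. -/
abbrev ψ : CatCospanTransform (CategoricalPullback.π₂ p q) (CategoricalPullback.π₂ p q) p p :=
  ⟨CategoricalPullback.π₁ p q, q, CategoricalPullback.π₁ p q, ⟨(CatCommSq.iso (CategoricalPullback.π₁ p q) (CategoricalPullback.π₂ p q) p q).symm⟩, ⟨(CatCommSq.iso (CategoricalPullback.π₁ p q) (CategoricalPullback.π₂ p q) p q).symm⟩⟩

/-- The induced functor. -/
noncomputable abbrev Gm : CategoricalPullback (CategoricalPullback.π₂ p q) (CategoricalPullback.π₂ p q) ⥤ CategoricalPullback p p :=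
  FibCat.categoricalPullbackMap (ψ p q)

theorem Gm_obj_fst (w : CategoricalPullback (CategoricalPullback.π₂ p q) (CategoricalPullback.π₂ p q)) :
    ((Gm p q).obj w).fst = w.fst.fst := rfl

theorem Gm_obj_snd (w : CategoricalPullback (CategoricalPullback.π₂ p q) (CategoricalPullback.π₂ p q)) :
    ((Gm p q).obj w).snd = w.snd.fst := rfl

theorem Gm_obj_iso_hom (w : CategoricalPullback (CategoricalPullback.π₂ p q) (CategoricalPullback.π₂ p q)) :
    ((Gm p q).obj w).iso.hom = w.fst.iso.hom ≫ q.map w.iso.hom ≫ w.snd.iso.inv := by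
  simp [Gm, categoricalPullbackMap]
  rfl

theorem Gm_map_fst {w w' : CategoricalPullback (CategoricalPullback.π₂ p q) (CategoricalPullback.π₂ p q)} (m : w ⟶ w') :
    ((Gm p q).map m).fst = m.fst.fst := rfl

theorem Gm_map_snd {w w' : CategoricalPullback (CategoricalPullback.π₂ p q) (CategoricalPullback.π₂ p q)} (m : w ⟶ w') :
    ((Gm p q).map m).snd = m.snd.fst := rfl

theorem ΔP_obj_iso (u : CategoricalPullback p q) : ((ΔP p q).obj u).iso = Iso.refl _ := rfl

theorem ΔX_obj_iso (x : X) : ((ΔX p).obj x).iso = Iso.refl _ := rfl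

/-- The filling isomorphism. -/
noncomputable def e : CategoricalPullback.π₁ p q ⋙ ΔX p ≅ ΔP p q ⋙ Gm p q :=
  NatIso.ofComponents
    (fun u => CategoricalPullback.mkIso (Iso.refl u.fst) (Iso.refl u.fst) (by
      change p.map (𝟙 u.fst) ≫ ((Gm p q).obj ((ΔP p q).obj u)).iso.hom =
        ((ΔX p).obj u.fst).iso.hom ≫ p.map (𝟙 u.fst)
      rw [Gm_obj_iso_hom, ΔX_obj_iso]
      change p.map (𝟙 u.fst) ≫ u.iso.hom ≫ q.map (𝟙 u.snd) ≫ u.iso.inv = 𝟙 _ ≫ p.map (𝟙 u.fst)
      simp))
    (by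
      intro u u' f
      apply CategoricalPullback.hom_ext
      · change f.fst ≫ 𝟙 _ = 𝟙 _ ≫ f.fst
        simp
      · change f.fst ≫ 𝟙 _ = 𝟙 _ ≫ f.fst
        simp)

theorem e_fst (u : CategoricalPullback p q) : ((e p q).hom.app u).fst = 𝟙 _ := rfl

theorem e_snd (u : CategoricalPullback p q) : ((e p q).hom.app u).snd = 𝟙 _ := rfl

/-- The comparison functor. -/
noncomputable abbrev K : CategoricalPullback p q ⥤ CategoricalPullback (ΔX p) (Gm p q) :=
  (CategoricalPullback.CatCommSqOver.toFunctorToCategoricalPullback (ΔX p) (Gm p q)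
    (CategoricalPullback p q)).obj ⟨CategoricalPullback.π₁ p q, ΔP p q, e p q⟩

theorem K_faithful : (K p q).Faithful := by
  constructor
  intro u u' f f' h
  have h1 : ((K p q).map f).snd.fst = ((K p q).map f').snd.fst := by rw [h]
  exact h1

theorem K_full : (K p q).Full := by
  constructor
  intro u u' m
  have hw := m.w
  have h1 : m.fst ≫ 𝟙 _ = 𝟙 _ ≫ m.snd.fst.fst := congrArg (fun t => t.fst) hw
  have h2 : m.fst ≫ 𝟙 _ = 𝟙 _ ≫ m.snd.snd.fst := congrArg (fun t => t.snd) hw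
  have h3 : m.snd.fst.snd ≫ 𝟙 _ = 𝟙 _ ≫ m.snd.snd.snd := m.snd.w
  rw [Category.comp_id, Category.id_comp] at h1 h2 h3
  have hab : m.snd.fst = m.snd.snd := by
    apply CategoricalPullback.hom_ext
    · exact h1.symm.trans h2
    · exact h3
  refine ⟨m.snd.fst, ?_⟩
  apply CategoricalPullback.hom_ext
  · exact h1.symm
  · apply CategoricalPullback.hom_ext
    · rfl
    · exact hab

theorem K_essSurj : (K p q).EssSurj := by
  constructor
  intro z
  have hc : p.map z.iso.hom.fst ≫ ((Gm p q).obj z.snd).iso.hom =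
      ((ΔX p).obj z.fst).iso.hom ≫ p.map z.iso.hom.snd := z.iso.hom.w
  rw [Gm_obj_iso_hom, ΔX_obj_iso] at hc
  have hc' : p.map z.iso.hom.fst ≫ z.snd.fst.iso.hom ≫ q.map z.snd.iso.hom ≫ z.snd.snd.iso.inv =
      p.map z.iso.hom.snd := hc.trans (Category.id_comp _)
  let ι₁ : z.fst ≅ z.snd.fst.fst := (CategoricalPullback.π₁ p p).mapIso z.iso
  let ι₂ : z.fst ≅ z.snd.snd.fst := (CategoricalPullback.π₂ p p).mapIso z.iso
  have hι₁ : ι₁.hom = z.iso.hom.fst := rfl
  have hι₂ : ι₂.hom = z.iso.hom.snd := rfl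
  let γ : z.snd.fst ≅ z.snd.snd :=
    CategoricalPullback.mkIso (ι₁.symm ≪≫ ι₂) z.snd.iso (by
      change p.map (ι₁.inv ≫ ι₂.hom) ≫ z.snd.snd.iso.hom =
        z.snd.fst.iso.hom ≫ q.map z.snd.iso.hom
      rw [p.map_comp, hι₂, ← hc', ← hι₁]
      simp only [Category.assoc, Iso.inv_hom_id, Category.comp_id]
      rw [← Category.assoc, ← p.map_comp, Iso.inv_hom_id, p.map_id, Category.id_comp])
  let eᵣ : (ΔP p q).obj z.snd.fst ≅ z.snd :=
    CategoricalPullback.mkIso (Iso.refl _) γ (by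
      change 𝟙 _ ≫ z.snd.iso.hom = 𝟙 _ ≫ z.snd.iso.hom
      rfl)
  refine ⟨z.snd.fst, ⟨CategoricalPullback.mkIso ι₁.symm eᵣ ?_⟩⟩
  apply CategoricalPullback.hom_ext
  · change ι₁.inv ≫ ι₁.hom = 𝟙 _ ≫ 𝟙 _
    simp
  · change ι₁.inv ≫ ι₂.hom = 𝟙 _ ≫ (ι₁.inv ≫ ι₂.hom)
    simp

theorem K_isEquivalence : (K p q).IsEquivalence :=
  { faithful := K_faithful p q
    full := K_full p q
    essSurj := K_essSurj p q }

end Groth.Agent.Lib.Helper27.DiagBC
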