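import Groth.Agent.Lib.Helper27.DiagLft
import Groth.Agent.Lib.Helper27.DiagBaseChange

/-!
# Descent of properties of the diagonal along flat covers of the target (helper27)
-/

set_option autoImplicit false
set_option backward.isDefEq.respectTransparency false
set_option backward.isDefEq.respectTransparency.types false

universe u

open CategoryTheory CategoryTheory.Limits AlgebraicGeometry Opposite FibCat
  Groth.Agent.Lib.Helper27.FpKit Groth.Agent.Lib.Helper27.RepWithComp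
  Groth.Agent.Lib.Helper27.Descent Groth.Agent.Lib.Helper27.DiagBaseChange

namespace Groth.Agent.Lib.Helper27.DiagDescent

variable {S : Scheme.{u}} {𝒳 𝒴 𝒴' : AlgSt.Cat S} (f : 𝒳 ⥤ᵇ 𝒴) (g : 𝒴' ⥤ᵇ 𝒴)

/-- The cospan morphism defining `m`. -/
def Dm : MapData f f (BasedFunctor.comp (fpSnd g f) f) f (fpSnd g f) (BasedFunctor.id 𝒳)
    (BasedFunctor.id 𝒴) where
  e₁ := fun _ => Iso.refl _
  n₁ := fun _ => (Category.comp_id _).trans (Category.id_comp _).symm
  l₁ := fun _ => Vert.id _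
  e₂ := fun _ => Iso.refl _
  n₂ := fun _ => (Category.comp_id _).trans (Category.id_comp _).symm
  l₂ := fun _ => Vert.id _

/-- `(p, x₂, β) ↦ (x₁, x₂, β)`. -/
abbrev m : fp (BasedFunctor.comp (fpSnd g f) f) f ⥤ᵇ fp f f := fpMap (Dm f g)

theorem m_iso_hom (t : (fp (BasedFunctor.comp (fpSnd g f) f) f).obj) :
    ((m f g).toFunctor.obj t).obj.iso.hom = t.obj.iso.hom := by
  change (Iso.refl _).inv ≫ t.obj.iso.hom ≫ (Iso.refl _).hom = _
  simp

theorem isoR_w (t : (fp (fpSnd g f) (fpFst f f)).obj) :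
    f.toFunctor.map t.obj.iso.inv ≫
      ((m f g).toFunctor.obj ((pasteL f f (fpSnd g f)).toFunctor.obj t)).obj.iso.hom =
      t.obj.snd.obj.iso.hom ≫ f.toFunctor.map (𝟙 t.obj.snd.obj.snd) := by
  rw [m_iso_hom]
  have h : ((pasteL f f (fpSnd g f)).toFunctor.obj t).obj.iso.hom =
      f.toFunctor.map t.obj.iso.hom ≫ t.obj.snd.obj.iso.hom := rfl
  rw [h, ← Category.assoc, ← f.toFunctor.map_comp, Iso.inv_hom_id,
    CategoryTheory.Functor.map_id, CategoryTheory.Functor.map_id, Category.id_comp,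
    Category.comp_id]

/-- The comparison for `m`, objectwise. -/
def isoRObj (t : (fp (fpSnd g f) (fpFst f f)).obj) :
    (fpSnd (fpSnd g f) (fpFst f f)).toFunctor.obj t ≅
      (m f g).toFunctor.obj ((pasteL f f (fpSnd g f)).toFunctor.obj t) :=
  mkIso (t := t.obj.snd)
    (t' := (m f g).toFunctor.obj ((pasteL f f (fpSnd g f)).toFunctor.obj t))
    t.obj.iso.symm (Iso.refl _) (isoR_w f g t)

theorem isoRObj_vert (t : (fp (fpSnd g f) (fpFst f f)).obj) : Vert (isoRObj f g t).hom := by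
  rw [vert_hom_iff]
  exact Vert.inv (vert_iso t)

/-- `m` is a base change of the second projection of `𝒴' ×_𝒴 𝒳`. -/
def isoR : BasedFunctor.comp (fpSnd (fpSnd g f) (fpFst f f)) (BasedFunctor.id _) ≅
    BasedFunctor.comp (pasteL f f (fpSnd g f)) (m f g) :=
  BasedNatIso.mkNatIso
    (NatIso.ofComponents (fun t => isoRObj f g t)
      (fun {t t'} μ => by
        apply Groth.Agent.Lib.Helper27.StackFp.hom_ext'
        · have h := hom_w μ
          change (fpSnd g f).toFunctor.map μ.hom.fst ≫ t'.obj.iso.hom =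
            t.obj.iso.hom ≫ μ.hom.snd.hom.fst at h
          change μ.hom.snd.hom.fst ≫ t'.obj.iso.inv =
            t.obj.iso.inv ≫ (fpSnd g f).toFunctor.map μ.hom.fst
          rw [Iso.comp_inv_eq, Category.assoc, h, Iso.inv_hom_id_assoc]
        · exact (Category.comp_id _).trans (Category.id_comp _).symm))
    (fun t => (isoRObj_vert f g t).lift
      ((BasedFunctor.comp (fpSnd (fpSnd g f) (fpFst f f)) (BasedFunctor.id _)).w_obj t))

theorem repByAlgSpWith_m (Q : MorphismProperty (AlgSp.Sp S)) (hg : AlgSt.RepByAlgSpWith Q g) :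
    AlgSt.RepByAlgSpWith Q (m f g) :=
  Groth.Agent.Lib.Helper27.RepWithGeneral.repByAlgSpWith_of_equiv' Q (m f g)
    (fpSnd (fpSnd g f) (fpFst f f)) (pasteL f f (fpSnd g f)) (BasedFunctor.id _)
    (isEquivOver_pasteL f f (fpSnd g f)) (isEquivOver_id _) (isoR f g)
    (Groth.Agent.Lib.Helper27.FpSwap.repByAlgSpWith_fpSnd Q (fpFst f f) (fpSnd g f)
      (Groth.Agent.Lib.Helper27.FpSwap.repByAlgSpWith_fpSnd Q f g hg))

/-- The equivalence from `𝒳' ×_{𝒴'} 𝒳'` to `𝒳' ×_𝒴 𝒳`. -/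
abbrev L : fp (fpFst g f) (fpFst g f) ⥤ᵇ fp (BasedFunctor.comp (fpSnd g f) f) f :=
  BasedFunctor.comp (pasteL f g (fpFst g f))
    (isoMap f (BasedFunctor.comp (fpSnd g f) f) (BasedFunctor.comp (fpFst g f) g) (fpIso g f))

theorem isEquivOver_L : IsEquivOver (L f g) :=
  isEquivOver_comp _ _ (isEquivOver_pasteL f g (fpFst g f)) (isEquivOver_isoMap f _ _ (fpIso g f))

theorem isoL_w (q : (fp (fpFst g f) (fpFst g f)).obj) :
    ((Pr f g).toFunctor.obj q).obj.iso.hom =
      ((m f g).toFunctor.obj ((L f g).toFunctor.obj q)).obj.iso.hom := by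
  rw [m_iso_hom]
  have h1 : ((Pr f g).toFunctor.obj q).obj.iso.hom =
      q.obj.fst.obj.iso.inv ≫ g.toFunctor.map q.obj.iso.hom ≫ q.obj.snd.obj.iso.hom := rfl
  have h2 : ((L f g).toFunctor.obj q).obj.iso.hom =
      q.obj.fst.obj.iso.inv ≫ (BasedFunctor.id 𝒴).toFunctor.map
        (g.toFunctor.map q.obj.iso.hom ≫ q.obj.snd.obj.iso.hom) ≫ (Iso.refl _).hom := rfl
  rw [h1, h2]
  change _ = q.obj.fst.obj.iso.inv ≫
    (g.toFunctor.map q.obj.iso.hom ≫ q.obj.snd.obj.iso.hom) ≫ 𝟙 _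
  rw [Category.comp_id]

/-- The comparison for `Pr`, objectwise. -/
def isoLObj (q : (fp (fpFst g f) (fpFst g f)).obj) :
    (Pr f g).toFunctor.obj q ≅ (m f g).toFunctor.obj ((L f g).toFunctor.obj q) :=
  mkIso (t := (Pr f g).toFunctor.obj q)
    (t' := (m f g).toFunctor.obj ((L f g).toFunctor.obj q)) (Iso.refl _) (Iso.refl _) (by
      rw [← isoL_w]
      have h1 : ∀ {X Y : 𝒴.obj} (a : X ⟶ Y) (i : X ⟶ X) (j : Y ⟶ Y), i = 𝟙 _ → j = 𝟙 _ →
          i ≫ a = a ≫ j := by
        intro X Y a i j hi hj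
        rw [hi, hj, Category.id_comp, Category.comp_id]
      exact h1 _ _ _ (CategoryTheory.Functor.map_id _ _) (CategoryTheory.Functor.map_id _ _))

theorem isoLObj_vert (q : (fp (fpFst g f) (fpFst g f)).obj) : Vert (isoLObj f g q).hom := by
  rw [vert_hom_iff]
  exact Vert.id _

/-- `Pr` is `m` up to the equivalence `L`. -/
def isoL : BasedFunctor.comp (Pr f g) (BasedFunctor.id _) ≅ BasedFunctor.comp (L f g) (m f g) :=
  BasedNatIso.mkNatIso
    (NatIso.ofComponents (fun q => isoLObj f g q)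
      (fun {q q'} μ => by
        apply Groth.Agent.Lib.Helper27.StackFp.hom_ext'
        · exact (Category.comp_id _).trans (Category.id_comp _).symm
        · exact (Category.comp_id _).trans (Category.id_comp _).symm))
    (fun q => (isoLObj_vert f g q).lift
      ((BasedFunctor.comp (Pr f g) (BasedFunctor.id _)).w_obj q))

/-- The functor `𝒳' ×_{𝒴'} 𝒳' ⟶ 𝒳 ×_𝒴 𝒳` has every property of `g`. -/
theorem repByAlgSpWith_Pr (Q : MorphismProperty (AlgSp.Sp S)) (hg : AlgSt.RepByAlgSpWith Q g) :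
    AlgSt.RepByAlgSpWith Q (Pr f g) :=
  Groth.Agent.Lib.Helper27.RepWithGeneral.repByAlgSpWith_of_equiv Q (m f g) (Pr f g) (L f g)
    (BasedFunctor.id _) (isEquivOver_L f g) (isEquivOver_id _) (isoL f g)
    (repByAlgSpWith_m f g Q hg)

/-- The base change of the diagonal of `f` along `Pr` has every property of the diagonal of the
base change of `f`. -/
theorem repByAlgSpWith_fpFst_Pr (P : MorphismProperty (AlgSp.Sp S))
    (h : AlgSt.RepByAlgSpWith P (diag (fpFst g f))) :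
    AlgSt.RepByAlgSpWith P (fpFst (Pr f g) (diag f)) := by
  intro U y
  have h1 := Groth.Agent.Lib.Helper27.RepWithKit.transport P (Lm f g y) (isEquivOver_Lm f g y)
    (fpFst y (diag (fpFst g f))) (fpFst (BasedFunctor.comp y (Pr f g)) (diag f))
    (fun t => ⟨Iso.refl _, Vert.id _⟩) (h U y)
  exact Groth.Agent.Lib.Helper27.RepWithKit.transport' P (pasteL (diag f) (Pr f g) y)
    (isEquivOver_pasteL (diag f) (Pr f g) y) (fpFst y (fpFst (Pr f g) (diag f)))
    (fpFst (BasedFunctor.comp y (Pr f g)) (diag f)) (fun t => ⟨Iso.refl _, Vert.id _⟩) h1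

/-- Properties of the diagonal which are fppf local on the base descend along flat, locally
finitely presented, surjective functors to the target. -/
theorem repByAlgSpWith_diag_of_cover (P : MorphismProperty (AlgSp.Sp S))
    (hP : AlgSp.IsLocalOnBase AlgSp.IsFppfCover P)
    (h𝒳 : FibCat.IsFibGrpd 𝒳.p) (h𝒴 : FibCat.IsFibGrpd 𝒴.p) (h𝒴' : FibCat.IsFibGrpd 𝒴'.p)
    (hΔ : AlgSt.RepByAlgSp1 (diag f))
    (hg₁ : AlgSt.RepByAlgSpWith (AlgSp.LocP @Flat) g)
    (hg₂ : AlgSt.RepByAlgSpWith (AlgSp.LocP @LocallyOfFinitePresentation) g)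
    (hg₃ : AlgSt.RepByAlgSpWith AlgSp.IsSurjectiveMor g)
    (h : AlgSt.RepByAlgSpWith P (diag (fpFst g f))) : AlgSt.RepByAlgSpWith P (diag f) :=
  Groth.Agent.Lib.Helper27.DiagLft.repByAlgSpWith_of_fpFst_cover P hP h𝒳
    (Groth.Agent.Lib.Helper27.FpFib.isFibGrpd_fp f f h𝒳 h𝒳 h𝒴)
    (Groth.Agent.Lib.Helper27.FpFib.isFibGrpd_fp _ _
      (Groth.Agent.Lib.Helper27.FpFib.isFibGrpd_fp g f h𝒴' h𝒳 h𝒴)
      (Groth.Agent.Lib.Helper27.FpFib.isFibGrpd_fp g f h𝒴' h𝒳 h𝒴) h𝒴')
    (diag f) hΔ (Pr f g) (repByAlgSpWith_Pr f g _ hg₁) (repByAlgSpWith_Pr f g _ hg₂)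
    (repByAlgSpWith_Pr f g _ hg₃) (repByAlgSpWith_fpFst_Pr f g P h)

end Groth.Agent.Lib.Helper27.DiagDescent

namespace Groth.Agent.Lib.Helper27.DiagDescent

open CategoryTheory AlgebraicGeometry Groth.Agent.Lib.Helper27.RepWithComp

universe u₁

theorem isLocalOnBase_fppf_qcqs (S : Scheme.{u₁}) :
    AlgSp.IsLocalOnBase (AlgSp.IsFppfCover (S := S))
      (AlgSp.IsQuasiCompactMor (S := S) ⊓ AlgSp.IsQuasiSeparatedMor (S := S)) := by
  refine isLocalOnBase_fppf_of_fpqc _ ?_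
  intro ι Y Yi g hY hYi hcov X f hX Xi p q hXi sq
  have h1 := Groth.Agent.S10519.result S Yi g hY hYi hcov f hX Xi p q hXi sq
  have h2 := Groth.Agent.S10520.result S Yi g hY hYi hcov f hX Xi p q hXi sq
  constructor
  · intro h i
    exact ⟨h1.1 h.1 i, h2.1 h.2 i⟩
  · intro h
    exact ⟨h1.2 fun i => (h i).1, h2.2 fun i => (h i).2⟩

end Groth.Agent.Lib.Helper27.DiagDescent
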