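import Groth.Agent.Lib.Helper27.DiagRepWith
import Groth.Agent.Lib.Helper27.DiagIff

/-!
# The diagonal is representable with a property iff all its base changes to schemes are (helper27)
-/

set_option autoImplicit false
set_option backward.isDefEq.respectTransparency false
set_option backward.isDefEq.respectTransparency.types false

universe u

open CategoryTheory CategoryTheory.Limits AlgebraicGeometry Opposite FibCat
  Groth.Agent.Lib.Helper27.FpKit Groth.Agent.Lib.Helper27.DiagBaseChange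

namespace Groth.Agent.Lib.Helper27.DiagLocal

variable {S : Scheme.{u}} {𝒳 𝒴 𝒜 : AlgSt.Cat S} (f : 𝒳 ⥤ᵇ 𝒴) (G : 𝒜 ⥤ᵇ fp f f)

/-- The base `𝒜 ⟶ 𝒴`. -/
abbrev g₀ : 𝒜 ⥤ᵇ 𝒴 := BasedFunctor.comp (BasedFunctor.comp G (fpFst f f)) f

/-- First section. -/
def s₁ : 𝒜 ⥤ᵇ fp (g₀ f G) f :=
  fpLift (BasedFunctor.id 𝒜) (BasedFunctor.comp G (fpFst f f))
    (BasedNatIso.mkNatIso (NatIso.ofComponents (fun _ => Iso.refl _)
      (fun m => (Category.comp_id _).trans (Category.id_comp _).symm))
      (fun t => (Vert.id _).lift (BasedFunctor.w_obj _ t)))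

/-- Second section. -/
def s₂ : 𝒜 ⥤ᵇ fp (g₀ f G) f :=
  fpLift (BasedFunctor.id 𝒜) (BasedFunctor.comp G (fpSnd f f))
    (BasedNatIso.mkNatIso (NatIso.ofComponents (fun u => (G.toFunctor.obj u).obj.iso)
      (fun m => hom_w (G.toFunctor.map m)))
      (fun t => (vert_iso (G.toFunctor.obj t)).lift (BasedFunctor.w_obj (g₀ f G) t)))

/-- The section of `fp (fpFst g f) (fpFst g f)`. -/
def σ : 𝒜 ⥤ᵇ fp (fpFst (g₀ f G) f) (fpFst (g₀ f G) f) :=
  fpLift (s₁ f G) (s₂ f G)
    (BasedNatIso.mkNatIso (NatIso.ofComponents (fun _ => Iso.refl _)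
      (fun m => (Category.comp_id _).trans (Category.id_comp _).symm))
      (fun t => (Vert.id _).lift rfl))

theorem σPr_iso_hom (u : 𝒜.obj) :
    ((BasedFunctor.comp (σ f G) (Pr f (g₀ f G))).toFunctor.obj u).obj.iso.hom =
      (𝟙 _ : f.toFunctor.obj (G.toFunctor.obj u).obj.fst ⟶ _) ≫
        (g₀ f G).toFunctor.map (𝟙 u) ≫ (G.toFunctor.obj u).obj.iso.hom := rfl

/-- `σ ≫ Pr ≅ G`. -/
def κ : BasedFunctor.comp (σ f G) (Pr f (g₀ f G)) ≅ G :=
  BasedNatIso.mkNatIso
    (NatIso.ofComponents (fun u =>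
      mkIso (t := (BasedFunctor.comp (σ f G) (Pr f (g₀ f G))).toFunctor.obj u)
        (t' := G.toFunctor.obj u) (Iso.refl _) (Iso.refl _) (by
          rw [σPr_iso_hom]
          have h1 : (g₀ f G).toFunctor.map (𝟙 u) = 𝟙 _ := (g₀ f G).toFunctor.map_id u
          have h2 : f.toFunctor.map (Iso.refl ((BasedFunctor.comp (σ f G)
              (Pr f (g₀ f G))).toFunctor.obj u).obj.fst).hom = 𝟙 _ := f.toFunctor.map_id _
          have h3 : f.toFunctor.map (Iso.refl ((BasedFunctor.comp (σ f G)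
              (Pr f (g₀ f G))).toFunctor.obj u).obj.snd).hom = 𝟙 _ := f.toFunctor.map_id _
          rw [h1, h2, h3]
          exact (Category.id_comp _).trans
            ((Category.comp_id _).trans ((Category.id_comp _).trans (Category.id_comp _))).symm))
      (fun {u u'} m => by
        apply Groth.Agent.Lib.Helper27.StackFp.hom_ext'
        · exact (Category.comp_id _).trans (Category.id_comp _).symm
        · exact (Category.comp_id _).trans (Category.id_comp _).symm))
    (fun u => by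
      refine Vert.lift ?_ (BasedFunctor.w_obj _ u)
      rw [vert_hom_iff]
      exact Vert.id _)

/-- If the diagonals of all base changes of `f` to schemes are representable with `P`, so is the
diagonal of `f`. -/
theorem repByAlgSpWith_diag_of_forall (P : MorphismProperty (AlgSp.Sp S)) {𝒳 𝒴 : AlgSt.Cat S}
    (f : 𝒳 ⥤ᵇ 𝒴)
    (H : ∀ (T : Over S) (y : overCat T ⥤ᵇ 𝒴), AlgSt.RepByAlgSpWith P (diag (fpFst y f))) :
    AlgSt.RepByAlgSpWith P (diag f) := by
  intro U G
  have h1 := H U (g₀ f G) U (σ f G)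
  have hE := isEquivOver_comp _ _ (isEquivOver_Lm f (g₀ f G) (σ f G))
    (Groth.Agent.Lib.Helper27.DiagIff.isEquivOver_isoMapFst G
      (BasedFunctor.comp (σ f G) (Pr f (g₀ f G))) (diag f) (κ f G))
  exact Groth.Agent.Lib.Helper27.RepWithKit.transport P _ hE
    (fpFst (σ f G) (diag (fpFst (g₀ f G) f))) (fpFst G (diag f))
    (fun t => ⟨Iso.refl _, Vert.id _⟩) h1

end Groth.Agent.Lib.Helper27.DiagLocal
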