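import Groth.Agent.Lib.Helper27.PshRepSp
import Groth.Agent.Lib.Helper27.FpRepSp
import Groth.Agent.Lib.Helper3.AlgSpLocP5
import Groth.Agent.Lib.Helper3.AlgSpQC
import Groth.Prelude.Def_AlgSpCov

/-!
# Composition of functors representable by algebraic spaces with a property (helper27)
-/

set_option autoImplicit false
set_option backward.isDefEq.respectTransparency false
set_option backward.isDefEq.respectTransparency.types false

universe v₂ u₂ u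

open CategoryTheory CategoryTheory.Limits AlgebraicGeometry Opposite FibCat
  Groth.Agent.Lib.Helper27.FpKit Groth.Agent.Lib.Helper27.PshKit Groth.Agent.Lib.Helper27.PshFp
  Groth.Agent.Lib.Helper27.PshRep

namespace Groth.Agent.Lib.Helper27.RepWithComp

variable {S : Scheme.{u}}

open Stk

/-- A representable etale surjective map is a one-member fppf covering. -/
theorem isFppfCover_single {X Y : AlgSp.Sp S} (a : X ⟶ Y) (hae : AlgSp.RepWith @Etale a)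
    (has : AlgSp.RepWith @Surjective a) :
    AlgSp.IsFppfCover (fun _ : PUnit.{u + 1} => X) (fun _ => a) := by
  have h0 : AlgSp.LocP @Etale a :=
    Groth.Agent.Lib.Helper3.locP_of_repWith Groth.Agent.Lib.Helper3.isEtLocal_etale a hae
  refine ⟨fun _ => ⟨?_, ?_⟩, fun x => ⟨PUnit.unit,
    Groth.Agent.Lib.Helper3.surjective_map_of_repWith has x⟩⟩
  · exact Groth.Agent.Lib.Helper3.locP_mono
      (fun _ _ f hf => Groth.Agent.Lib.Helper3.isEtLocal_flat.etale_le f hf) h0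
  · exact Groth.Agent.Lib.Helper3.locP_mono
      (fun _ _ f hf => Groth.Agent.Lib.Helper3.isEtLocal_locallyOfFinitePresentation.etale_le f hf) h0

theorem isFppfCover_id (Y : AlgSp.Sp S) :
    AlgSp.IsFppfCover (fun _ : PUnit.{u + 1} => Y) (fun _ => 𝟙 Y) :=
  isFppfCover_single (𝟙 Y) ((AlgSp.RepWith @Etale).id_mem Y) ((AlgSp.RepWith @Surjective).id_mem Y)

/-- A property which is fppf local on the base is invariant under precomposition with
isomorphisms of algebraic spaces. -/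
theorem precomp_iso (P : MorphismProperty (AlgSp.Sp S))
    (hP : AlgSp.IsLocalOnBase AlgSp.IsFppfCover P) {X X' Y : AlgSp.Sp S} (i : X' ⟶ X) [IsIso i]
    (f : X ⟶ Y) (hX : AlgSp.IsAlgSpace X) (hX' : AlgSp.IsAlgSpace X') (hY : AlgSp.IsAlgSpace Y)
    (h : P f) : P (i ≫ f) := by
  have key := hP (fun _ : PUnit.{u + 1} => Y) (fun _ => 𝟙 Y) hY (fun _ => hY) (isFppfCover_id Y)
    f hX (fun _ => X') (fun _ => i ≫ f) (fun _ => i) (fun _ => hX')
    (fun _ => IsPullback.of_horiz_isIso ⟨by simp⟩)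
  exact key.1 h PUnit.unit

/-- Hypotheses on a property of morphisms of algebraic spaces under which the composition argument
works: invariance under precomposition with isomorphisms, a form of locality on the base (it can
be tested after base change to schemes), and stability under composition. -/
structure CompHyp (P : MorphismProperty (AlgSp.Sp S)) : Prop where
  iso : ∀ ⦃X X' Y : AlgSp.Sp S⦄ (i : X' ⟶ X) [IsIso i] (f : X ⟶ Y), AlgSp.IsAlgSpace X →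
    AlgSp.IsAlgSpace X' → AlgSp.IsAlgSpace Y → P f → P (i ≫ f)
  loc : ∀ ⦃X' Y' : AlgSp.Sp S⦄ (c : X' ⟶ Y'), AlgSp.IsAlgSpace X' → AlgSp.IsAlgSpace Y' →
    (∀ (V : Over S) (a : (AlgSp.yon S).obj V ⟶ Y'), P (pullback.snd c a)) → P c
  comp : ∀ ⦃X Y Z : AlgSp.Sp S⦄, AlgSp.IsAlgSpace X → AlgSp.IsAlgSpace Y → AlgSp.IsAlgSpace Z →
    ∀ (a : X ⟶ Y) (b : Y ⟶ Z), P a → P b → P (a ≫ b)

section Indep

variable {𝒲 : BasedCategory.{v₂, u₂} (Over S)} {U : Over S}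

/-- The property of the structure map does not depend on the presentation (general form). -/
theorem indep_gen (P : MorphismProperty (AlgSp.Sp S))
    (hiso : ∀ ⦃X X' Y : AlgSp.Sp S⦄ (i : X' ⟶ X) [IsIso i] (f : X ⟶ Y), AlgSp.IsAlgSpace X →
      AlgSp.IsAlgSpace X' → AlgSp.IsAlgSpace Y → P f → P (i ≫ f)) {F₁ F₂ : AlgSp.Sp S}
    (hF₁ : AlgSp.IsAlgSpace F₁) (hF₂ : AlgSp.IsAlgSpace F₂)
    (e₁ : AlgSt.ofSp F₁ ⥤ᵇ 𝒲) (e₂ : AlgSt.ofSp F₂ ⥤ᵇ 𝒲) (h₁ : IsEquivOver e₁) (h₂ : IsEquivOver e₂)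
    (q : 𝒲 ⥤ᵇ overCat U) (hP₂ : P (AlgSt.spMapOfOver (BasedFunctor.comp e₂ q))) :
    P (AlgSt.spMapOfOver (BasedFunctor.comp e₁ q)) := by
  obtain ⟨e₂', he₂', -, ⟨ε⟩⟩ := exists_inverse e₂ h₂
  let Ψ : AlgSt.ofSp F₁ ⥤ᵇ AlgSt.ofSp F₂ := BasedFunctor.comp e₁ e₂'
  have hΨ : IsEquivOver Ψ := isEquivOver_comp e₁ e₂' h₁ he₂'
  have hiso' : IsIso (pshMapOf Ψ) := isIso_pshMapOf Ψ hΨ
  have h1 : AlgSt.spMapOfOver (BasedFunctor.comp e₁ q) =
      AlgSt.spMapOfOver (BasedFunctor.comp Ψ (BasedFunctor.comp e₂ q)) := by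
    apply Groth.Agent.Lib.Helper27.RepWithKit.spMapOfOver_congr
    intro a
    exact ⟨q.toFunctor.map (ε.inv.toNatTrans.app (e₁.toFunctor.obj a)),
      (Vert.app ε.inv (e₁.toFunctor.obj a)).map q⟩
  rw [h1, spMapOfOver_comp]
  have := isIso_homMk (F₁ := F₁) (F₂ := F₂) (pshMapOf Ψ) hiso'
  exact hiso _ _ hF₂ hF₁ (AlgSp.IsAlgSpace.yon_obj U) hP₂

/-- The property of the structure map does not depend on the presentation (for properties local
on the base). -/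
theorem indep' (P : MorphismProperty (AlgSp.Sp S))
    (hP : AlgSp.IsLocalOnBase AlgSp.IsFppfCover P) {F₁ F₂ : AlgSp.Sp S}
    (hF₁ : AlgSp.IsAlgSpace F₁) (hF₂ : AlgSp.IsAlgSpace F₂)
    (e₁ : AlgSt.ofSp F₁ ⥤ᵇ 𝒲) (e₂ : AlgSt.ofSp F₂ ⥤ᵇ 𝒲) (h₁ : IsEquivOver e₁) (h₂ : IsEquivOver e₂)
    (q : 𝒲 ⥤ᵇ overCat U) (hP₂ : P (AlgSt.spMapOfOver (BasedFunctor.comp e₂ q))) :
    P (AlgSt.spMapOfOver (BasedFunctor.comp e₁ q)) := by
  obtain ⟨e₂', he₂', -, ⟨ε⟩⟩ := exists_inverse e₂ h₂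
  let Ψ : AlgSt.ofSp F₁ ⥤ᵇ AlgSt.ofSp F₂ := BasedFunctor.comp e₁ e₂'
  have hΨ : IsEquivOver Ψ := isEquivOver_comp e₁ e₂' h₁ he₂'
  have hiso : IsIso (pshMapOf Ψ) := isIso_pshMapOf Ψ hΨ
  have h1 : AlgSt.spMapOfOver (BasedFunctor.comp e₁ q) =
      AlgSt.spMapOfOver (BasedFunctor.comp Ψ (BasedFunctor.comp e₂ q)) := by
    apply Groth.Agent.Lib.Helper27.RepWithKit.spMapOfOver_congr
    intro a
    exact ⟨q.toFunctor.map (ε.inv.toNatTrans.app (e₁.toFunctor.obj a)),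
      (Vert.app ε.inv (e₁.toFunctor.obj a)).map q⟩
  rw [h1, spMapOfOver_comp]
  have := isIso_homMk (F₁ := F₁) (F₂ := F₂) (pshMapOf Ψ) hiso
  exact precomp_iso P hP _ _ hF₂ hF₁ (AlgSp.IsAlgSpace.yon_obj U) hP₂

end Indep

section LemmaA

variable {𝒳 𝒴 : AlgSt.Cat S}

/-- The map of cospans used to replace `fpFst y' f` by a map of presheaves. -/
def D₂ {X' Y' : AlgSp.Sp S} (f : 𝒳 ⥤ᵇ 𝒴) (y' : AlgSt.ofSp Y' ⥤ᵇ 𝒴)
    (e : AlgSt.ofSp X' ⥤ᵇ fp y' f) {V : Over S} (G : overCat V ⥤ᵇ AlgSt.ofSp Y') :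
    MapData G (fpFst y' f) G
      (Stk.ofPshMap (pshMapOf (BasedFunctor.comp e (fpFst y' f))))
      (BasedFunctor.id _) e (BasedFunctor.id _) where
  e₁ := fun _ => Iso.refl _
  n₁ := fun α => (Category.comp_id _).trans (Category.id_comp _).symm
  l₁ := fun _ => Vert.id _
  e₂ := fun x' => τ (BasedFunctor.comp e (fpFst y' f)) x'
  n₂ := fun β => τ_nat (BasedFunctor.comp e (fpFst y' f)) β
  l₂ := fun x' => τ_vert (BasedFunctor.comp e (fpFst y' f)) x'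

/-- Representability with a property, tested on algebraic spaces instead of schemes. -/
theorem from_space_gen (P : MorphismProperty (AlgSp.Sp S))
    (hiso : ∀ ⦃X X' Y : AlgSp.Sp S⦄ (i : X' ⟶ X) [IsIso i] (f : X ⟶ Y), AlgSp.IsAlgSpace X →
      AlgSp.IsAlgSpace X' → AlgSp.IsAlgSpace Y → P f → P (i ≫ f))
    (hloc : ∀ ⦃X' Y' : AlgSp.Sp S⦄ (c : X' ⟶ Y'), AlgSp.IsAlgSpace X' → AlgSp.IsAlgSpace Y' →
      (∀ (V : Over S) (a : (AlgSp.yon S).obj V ⟶ Y'), P (pullback.snd c a)) → P c)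
    (h𝒳 : FibCat.IsFibGrpd 𝒳.p) (h𝒴 : FibCat.IsFibGrpd 𝒴.p)
    (f : 𝒳 ⥤ᵇ 𝒴) (hf : AlgSt.RepByAlgSpWith P f) (Y' : AlgSp.Space S)
    (y' : AlgSt.ofSp Y'.obj ⥤ᵇ 𝒴) :
    ∃ (X' : AlgSp.Space S) (e : AlgSt.ofSp X'.obj ⥤ᵇ fp y' f), IsEquivOver e ∧
      P (ObjectProperty.homMk (pshMapOf (BasedFunctor.comp e (fpFst y' f))) :
        X'.obj ⟶ Y'.obj) := by
  have hf1 : AlgSt.RepByAlgSp1 f := fun U y => by
    obtain ⟨F, e, he, -⟩ := hf U y
    exact ⟨F, e, he⟩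
  obtain ⟨X', e, he⟩ := Groth.Agent.Lib.Helper27.FpRepSp.repByAlgSp_fp h𝒳 h𝒴
    (Stk.isFibGrpd_ofPsh (P := Y'.obj.obj)) f y' hf1
    ⟨Y', BasedFunctor.id _, isEquivOver_id _⟩
  refine ⟨X', e, he, ?_⟩
  obtain ⟨Ψ, hΨ⟩ : ∃ Ψ : AlgSt.ofSp X'.obj ⥤ᵇ AlgSt.ofSp Y'.obj,
    Ψ = BasedFunctor.comp e (fpFst y' f) := ⟨_, rfl⟩
  obtain ⟨c, hc⟩ : ∃ c : X'.obj ⟶ Y'.obj, c = ObjectProperty.homMk (pshMapOf Ψ) := ⟨_, rfl⟩
  rw [← hΨ, ← hc]
  apply hloc c X'.property Y'.property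
  intro V a
  -- the fibre product of sheaves
  have sqS : IsPullback (pullback.fst c a) (pullback.snd c a) c a := IsPullback.of_hasPullback c a
  have hW : AlgSp.IsAlgSpace (pullback c a) :=
    Groth.Agent.S9874.result S Y'.obj Y'.property.diag X'
      ⟨(AlgSp.yon S).obj V, AlgSp.IsAlgSpace.yon_obj V⟩ c a _ _ _ sqS
  have sqP : IsPullback (pullback.fst c a).hom (pullback.snd c a).hom (pshMapOf Ψ) a.hom := by
    have := sqS.map (sheafToPresheaf (AlgSp.J S) (Type (u + 1)))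
    rw [hc] at this
    rw [hc]
    exact this
  -- the presentation of the 2-fibre product over the atlas
  obtain ⟨ξ, hξ⟩ : ∃ ξ : (AlgSp.pyon S).obj V ⟶ Y'.obj.obj, ξ = a.hom := ⟨_, rfl⟩
  rw [← hξ] at sqP
  have hpr : IsEquivOver (pres (yOf ξ) ξ (fun _ => Iso.refl _) (fun α => κnat_yOf ξ α)
      (fun _ => Vert.id _) sqP) :=
    isEquivOver_pres (yOf ξ) ξ (fun _ => Iso.refl _) (fun α => κnat_yOf ξ α)
      (fun _ => Vert.id _) sqP
  have hsp := spMapOfOver_pres (yOf ξ) ξ (fun _ => Iso.refl _) (fun α => κnat_yOf ξ α)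
      (fun _ => Vert.id _) sqP (pullback c a).property
  obtain ⟨pr, hprdef⟩ : ∃ pr : Stk.ofPsh (pullback c a).obj ⥤ᵇ
      fp (yOf ξ) (Stk.ofPshMap (pshMapOf Ψ)), pr = pres (yOf ξ) ξ (fun _ => Iso.refl _)
        (fun α => κnat_yOf ξ α) (fun _ => Vert.id _) sqP := ⟨_, rfl⟩
  rw [← hprdef] at hpr hsp
  subst hΨ
  have hD : IsEquivOver (fpMap (D₂ f y' e (yOf ξ))) :=
    isEquivOver_fpMap (D₂ f y' e (yOf ξ)) (isEquivOver_id _) he (isEquivOver_id _)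
  have hL : IsEquivOver (pasteL f y' (yOf ξ)) := isEquivOver_pasteL f y' (yOf ξ)
  obtain ⟨Ξ, hΞdef⟩ : ∃ Ξ : Stk.ofPsh (pullback c a).obj ⥤ᵇ fp (BasedFunctor.comp (yOf ξ) y') f,
      Ξ = BasedFunctor.comp pr (BasedFunctor.comp (fpMap (D₂ f y' e (yOf ξ)))
        (pasteL f y' (yOf ξ))) := ⟨_, rfl⟩
  have hΞ : IsEquivOver Ξ := by
    rw [hΞdef]
    exact isEquivOver_comp _ _ hpr (isEquivOver_comp _ _ hD hL)
  obtain ⟨X'', e₃, he₃, hP₃⟩ := hf V (BasedFunctor.comp (yOf ξ) y')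
  have h4 : P (AlgSt.spMapOfOver (F := pullback c a)
      (BasedFunctor.comp Ξ (fpFst (BasedFunctor.comp (yOf ξ) y') f))) :=
    indep_gen P hiso hW X''.property Ξ e₃ hΞ he₃ (fpFst (BasedFunctor.comp (yOf ξ) y') f) hP₃
  have h5 : AlgSt.spMapOfOver (F := pullback c a)
      (BasedFunctor.comp Ξ (fpFst (BasedFunctor.comp (yOf ξ) y') f)) =
      AlgSt.spMapOfOver (F := pullback c a) (BasedFunctor.comp pr
        (fpFst (yOf ξ) (Stk.ofPshMap (pshMapOf (BasedFunctor.comp e (fpFst y' f)))))) := by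
    apply Groth.Agent.Lib.Helper27.RepWithKit.spMapOfOver_congr
    intro t
    rw [hΞdef]
    exact ⟨𝟙 _, Vert.id _⟩
  rw [h5] at h4
  have h7 : (ObjectProperty.homMk (pullback.snd c a).hom :
      (⟨(pullback c a).obj, (pullback c a).property⟩ : AlgSp.Sp S) ⟶ (AlgSp.yon S).obj V) =
      pullback.snd c a := rfl
  rw [← h7, ← hsp]
  exact h4

/-- A property which is fppf local on the base can be tested after base change to schemes. -/
theorem loc_of_fppf (P : MorphismProperty (AlgSp.Sp S))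
    (hP : AlgSp.IsLocalOnBase AlgSp.IsFppfCover P) ⦃X' Y' : AlgSp.Sp S⦄ (c : X' ⟶ Y')
    (hX' : AlgSp.IsAlgSpace X') (hY' : AlgSp.IsAlgSpace Y')
    (h : ∀ (V : Over S) (a : (AlgSp.yon S).obj V ⟶ Y'), P (pullback.snd c a)) : P c := by
  obtain ⟨V, a, hae, has⟩ := hY'.atlas
  have sqS : IsPullback (pullback.fst c a) (pullback.snd c a) c a := IsPullback.of_hasPullback c a
  have hW : AlgSp.IsAlgSpace (pullback c a) :=
    Groth.Agent.S9874.result S Y' hY'.diag ⟨X', hX'⟩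
      ⟨(AlgSp.yon S).obj V, AlgSp.IsAlgSpace.yon_obj V⟩ c a _ _ _ sqS
  have key := hP (fun _ : PUnit.{u + 1} => (AlgSp.yon S).obj V) (fun _ => a) hY'
    (fun _ => AlgSp.IsAlgSpace.yon_obj V) (isFppfCover_single a hae has) c hX'
    (fun _ => pullback c a) (fun _ => pullback.snd c a) (fun _ => pullback.fst c a)
    (fun _ => hW) (fun _ => sqS)
  exact key.2 (fun _ => h V a)

/-- Representability with a property, tested on algebraic spaces instead of schemes. -/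
theorem from_space (P : MorphismProperty (AlgSp.Sp S))
    (hP : AlgSp.IsLocalOnBase AlgSp.IsFppfCover P)
    (h𝒳 : FibCat.IsFibGrpd 𝒳.p) (h𝒴 : FibCat.IsFibGrpd 𝒴.p)
    (f : 𝒳 ⥤ᵇ 𝒴) (hf : AlgSt.RepByAlgSpWith P f) (Y' : AlgSp.Space S)
    (y' : AlgSt.ofSp Y'.obj ⥤ᵇ 𝒴) :
    ∃ (X' : AlgSp.Space S) (e : AlgSt.ofSp X'.obj ⥤ᵇ fp y' f), IsEquivOver e ∧
      P (ObjectProperty.homMk (pshMapOf (BasedFunctor.comp e (fpFst y' f))) :
        X'.obj ⟶ Y'.obj) :=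
  from_space_gen P (fun _ _ _ i _ f hX hX' hY h => precomp_iso P hP i f hX hX' hY h)
    (loc_of_fppf P hP) h𝒳 h𝒴 f hf Y' y'

end LemmaA

section Comp

variable {𝒳 𝒴 𝒵 : AlgSt.Cat S}

/-- Composition of functors representable by algebraic spaces with a property which is local on
the base and stable under composition. -/
theorem comp_gen (P : MorphismProperty (AlgSp.Sp S)) (H : CompHyp P)
    (h𝒳 : FibCat.IsFibGrpd 𝒳.p) (h𝒴 : FibCat.IsFibGrpd 𝒴.p)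
    (f : 𝒳 ⥤ᵇ 𝒴) (g : 𝒴 ⥤ᵇ 𝒵) (hf : AlgSt.RepByAlgSpWith P f) (hg : AlgSt.RepByAlgSpWith P g) :
    AlgSt.RepByAlgSpWith P (BasedFunctor.comp f g) := by
  intro U z
  obtain ⟨Y', e₁, he₁, hb⟩ := hg U z
  obtain ⟨X', e, he, hc⟩ := from_space_gen P H.iso H.loc h𝒳 h𝒴 f hf Y' (BasedFunctor.comp e₁ (fpSnd z g))
  let D' : MapData (fpSnd z g) f (BasedFunctor.comp e₁ (fpSnd z g)) f e₁ (BasedFunctor.id 𝒳)
      (BasedFunctor.id 𝒴) :=
    { e₁ := fun _ => Iso.refl _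
      n₁ := fun α => (Category.comp_id _).trans (Category.id_comp _).symm
      l₁ := fun _ => Vert.id _
      e₂ := fun _ => Iso.refl _
      n₂ := fun β => (Category.comp_id _).trans (Category.id_comp _).symm
      l₂ := fun _ => Vert.id _ }
  have hD' : IsEquivOver (fpMap D') :=
    isEquivOver_fpMap D' he₁ (isEquivOver_id _) (isEquivOver_id _)
  have hR : IsEquivOver (pasteR f g z) := isEquivOver_pasteR f g z
  refine ⟨X', BasedFunctor.comp e (BasedFunctor.comp (fpMap D') (pasteR f g z)),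
    isEquivOver_comp _ _ he (isEquivOver_comp _ _ hD' hR), ?_⟩
  have h1 : AlgSt.spMapOfOver (BasedFunctor.comp
      (BasedFunctor.comp e (BasedFunctor.comp (fpMap D') (pasteR f g z)))
      (fpFst z (BasedFunctor.comp f g))) =
      AlgSt.spMapOfOver (BasedFunctor.comp
        (BasedFunctor.comp e (fpFst (BasedFunctor.comp e₁ (fpSnd z g)) f))
        (BasedFunctor.comp e₁ (fpFst z g))) := by
    apply Groth.Agent.Lib.Helper27.RepWithKit.spMapOfOver_congr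
    intro t
    exact ⟨𝟙 _, Vert.id _⟩
  rw [h1, spMapOfOver_comp]
  exact H.comp X'.property Y'.property (AlgSp.IsAlgSpace.yon_obj U) _ _ hc hb

theorem compHyp_of_fppf (P : MorphismProperty (AlgSp.Sp S))
    (hPc : ∀ ⦃X Y Z : AlgSp.Sp S⦄, AlgSp.IsAlgSpace X → AlgSp.IsAlgSpace Y → AlgSp.IsAlgSpace Z →
      ∀ (a : X ⟶ Y) (b : Y ⟶ Z), P a → P b → P (a ≫ b))
    (hP : AlgSp.IsLocalOnBase AlgSp.IsFppfCover P) : CompHyp P where
  iso := fun _ _ _ i _ f hX hX' hY h => precomp_iso P hP i f hX hX' hY h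
  loc := loc_of_fppf P hP
  comp := hPc

/-- Composition of functors representable by algebraic spaces with a property which is local on
the base and stable under composition. -/
theorem repByAlgSpWith_comp (P : MorphismProperty (AlgSp.Sp S))
    (hPc : ∀ ⦃X Y Z : AlgSp.Sp S⦄, AlgSp.IsAlgSpace X → AlgSp.IsAlgSpace Y → AlgSp.IsAlgSpace Z →
      ∀ (a : X ⟶ Y) (b : Y ⟶ Z), P a → P b → P (a ≫ b))
    (hP : AlgSp.IsLocalOnBase AlgSp.IsFppfCover P)
    (h𝒳 : FibCat.IsFibGrpd 𝒳.p) (h𝒴 : FibCat.IsFibGrpd 𝒴.p)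
    (f : 𝒳 ⥤ᵇ 𝒴) (g : 𝒴 ⥤ᵇ 𝒵) (hf : AlgSt.RepByAlgSpWith P f) (hg : AlgSt.RepByAlgSpWith P g) :
    AlgSt.RepByAlgSpWith P (BasedFunctor.comp f g) :=
  comp_gen P (compHyp_of_fppf P hPc hP) h𝒳 h𝒴 f g hf hg

end Comp

end Groth.Agent.Lib.Helper27.RepWithComp
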