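import Groth.Agent.Lib.Helper27.DiagTransport
import Groth.Agent.Lib.Helper27.RepWithComp

/-!
# The diagonal of the structure map of a presentation (helper27)
-/

set_option autoImplicit false
set_option backward.isDefEq.respectTransparency false
set_option backward.isDefEq.respectTransparency.types false

universe v₃ u₃ v₂ u₂ u

open CategoryTheory CategoryTheory.Limits AlgebraicGeometry Opposite FibCat
  Groth.Agent.Lib.Helper27.FpKit Groth.Agent.Lib.Helper27.PshKit Groth.Agent.Lib.Helper27.PshFp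
  Groth.Agent.Lib.Helper27.PshRep Groth.Agent.Lib.Helper27.RepWithComp
  Groth.Agent.Lib.Helper27.DiagTransport

namespace Groth.Agent.Lib.Helper27.DiagPres

variable {S : Scheme.{u}}

open Stk

/-- A functor attached to a map of algebraic spaces which is representable with a property has
that property after base change to schemes. -/
theorem prop_snd_of_repByAlgSpWith (P : MorphismProperty (AlgSp.Sp S))
    (hiso : ∀ ⦃X X' Y : AlgSp.Sp S⦄ (i : X' ⟶ X) [IsIso i] (f : X ⟶ Y), AlgSp.IsAlgSpace X →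
      AlgSp.IsAlgSpace X' → AlgSp.IsAlgSpace Y → P f → P (i ≫ f))
    {X Y : AlgSp.Sp S} (hX : AlgSp.IsAlgSpace X) (hY : AlgSp.IsAlgSpace Y) (g : X ⟶ Y)
    (h : AlgSt.RepByAlgSpWith P (AlgSt.ofSpMap g)) (V : Over S) (b : (AlgSp.yon S).obj V ⟶ Y)
    (W : AlgSp.Sp S) (fst : W ⟶ X) (snd : W ⟶ (AlgSp.yon S).obj V) (sq : IsPullback fst snd g b) :
    P snd := by
  have hW : AlgSp.IsAlgSpace W :=
    Groth.Agent.S9874.result S Y hY.diag ⟨X, hX⟩
      ⟨(AlgSp.yon S).obj V, AlgSp.IsAlgSpace.yon_obj V⟩ g b _ _ _ sq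
  have sqP : IsPullback fst.hom snd.hom g.hom b.hom :=
    sq.map (sheafToPresheaf (AlgSp.J S) (Type (u + 1)))
  obtain ⟨ξ, hξ⟩ : ∃ ξ : (AlgSp.pyon S).obj V ⟶ Y.obj, ξ = b.hom := ⟨_, rfl⟩
  rw [← hξ] at sqP
  obtain ⟨F₀, e₀, he₀, hQ⟩ := h V (yOf ξ)
  have h1 := indep_gen P hiso (F₁ := ⟨W.obj, W.property⟩) hW F₀.property
    (pres (yOf ξ) ξ (fun _ => Iso.refl _) (fun α => κnat_yOf ξ α) (fun _ => Vert.id _) sqP) e₀
    (isEquivOver_pres (yOf ξ) ξ (fun _ => Iso.refl _) (fun α => κnat_yOf ξ α) (fun _ => Vert.id _)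
      sqP) he₀ (fpFst (yOf ξ) (Stk.ofPshMap g.hom)) hQ
  rw [spMapOfOver_pres (yOf ξ) ξ (fun _ => Iso.refl _) (fun α => κnat_yOf ξ α) (fun _ => Vert.id _)
    sqP W.property] at h1
  exact h1

section Main

variable {𝒳 : BasedCategory.{v₂, u₂} (Over S)} {𝒴 : BasedCategory.{v₃, u₃} (Over S)}

/-- Auxiliary form with a general map of sheaves. -/
theorem repByAlgSpWith_ofSpMap_diagonal_aux (P : MorphismProperty (AlgSp.Sp S)) {U : Over S}
    {F : AlgSp.Sp S} (Φ : AlgSt.ofSp F ⥤ᵇ overCat U) (π : F ⟶ (AlgSp.yon S).obj U)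
    (hπ' : π.hom = pshMapOf (BasedFunctor.comp Φ (AlgSt.ofOverCat U)))
    (hp : AlgSt.RepByAlgSpWith P
      (diag (Stk.ofPshMap (pshMapOf (BasedFunctor.comp Φ (AlgSt.ofOverCat U)))))) :
    AlgSt.RepByAlgSpWith P (AlgSt.ofSpMap (pullback.diagonal π)) := by
  have sqS : IsPullback (pullback.fst π π) (pullback.snd π π) π π := IsPullback.of_hasPullback π π
  have sqP : IsPullback (pullback.fst π π).hom (pullback.snd π π).hom π.hom π.hom :=
    sqS.map (sheafToPresheaf (AlgSp.J S) (Type (u + 1)))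
  rw [hπ'] at sqP
  have h1 : (pullback.diagonal π).hom ≫ (pullback.fst π π).hom = 𝟙 _ :=
    congrArg (fun (m : F ⟶ F) => m.hom) (pullback.diagonal_fst π)
  have h2 : (pullback.diagonal π).hom ≫ (pullback.snd π π).hom = 𝟙 _ :=
    congrArg (fun (m : F ⟶ F) => m.hom) (pullback.diagonal_snd π)
  exact repByAlgSpWith_ofPshMap_diag _ sqP (pullback.diagonal π).hom h1 h2 P hp

/-- The functor of the diagonal of the structure map of a presentation has every property of the
diagonal of the functor. -/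
theorem repByAlgSpWith_ofSpMap_diagonal (P : MorphismProperty (AlgSp.Sp S)) (f : 𝒳 ⥤ᵇ 𝒴)
    (hΔ : AlgSt.RepByAlgSpWith P (diag f)) {U : Over S} (y : overCat U ⥤ᵇ 𝒴) (F : AlgSp.Sp S)
    (e : AlgSt.ofSp F ⥤ᵇ fp y f) (he : IsEquivOver e) :
    AlgSt.RepByAlgSpWith P (AlgSt.ofSpMap
      (pullback.diagonal (AlgSt.spMapOfOver (BasedFunctor.comp e (fpFst y f))))) := by
  have hq : AlgSt.RepByAlgSpWith P (diag (fpFst y f)) :=
    Groth.Agent.Lib.Helper27.DiagRepWith.repByAlgSpWith_diag_fpFst P f y hΔ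
  have hp : AlgSt.RepByAlgSpWith P
      (diag (Stk.ofPshMap (pshMapOf (BasedFunctor.comp (BasedFunctor.comp e (fpFst y f))
        (AlgSt.ofOverCat U))))) :=
    repByAlgSpWith_diag_of_equiv (fpFst y f)
      (Stk.ofPshMap (pshMapOf (BasedFunctor.comp (BasedFunctor.comp e (fpFst y f))
        (AlgSt.ofOverCat U)))) e (AlgSt.toOverCat U)
      (κΦ (BasedFunctor.comp e (fpFst y f))) P he (isEquivOver_toOverCat U) hq
  exact repByAlgSpWith_ofSpMap_diagonal_aux P (BasedFunctor.comp e (fpFst y f)) _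
    (spMapOfOver_eq _) hp

/-- Auxiliary form with a general map of sheaves. -/
theorem prop_diagonal_aux (P : MorphismProperty (AlgSp.Sp S))
    (hP : AlgSp.IsLocalOnBase AlgSp.IsFppfCover P) {U : Over S} (F : AlgSp.Space S)
    (π : F.obj ⟶ (AlgSp.yon S).obj U)
    (h : AlgSt.RepByAlgSpWith P (AlgSt.ofSpMap (pullback.diagonal π))) :
    P (pullback.diagonal π) := by
  have hPb : AlgSp.IsAlgSpace (pullback π π) :=
    Groth.Agent.S9874.result S _ (AlgSp.IsAlgSpace.yon_obj U).diag F F π π _ _ _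
      (IsPullback.of_hasPullback π π)
  apply loc_of_fppf P hP (pullback.diagonal π) F.property hPb
  intro V b
  exact prop_snd_of_repByAlgSpWith P
    (fun _ _ _ i _ f hX hX' hY h => precomp_iso P hP i f hX hX' hY h) F.property hPb
    (pullback.diagonal π) h V b _ _ _ (IsPullback.of_hasPullback (pullback.diagonal π) b)

/-- The diagonal of the structure map of a presentation has every property of the diagonal of
the functor which is fppf local on the base. -/
theorem prop_diagonal (P : MorphismProperty (AlgSp.Sp S))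
    (hP : AlgSp.IsLocalOnBase AlgSp.IsFppfCover P) (f : 𝒳 ⥤ᵇ 𝒴)
    (hΔ : AlgSt.RepByAlgSpWith P (diag f)) {U : Over S} (y : overCat U ⥤ᵇ 𝒴) (F : AlgSp.Space S)
    (e : AlgSt.ofSp F.obj ⥤ᵇ fp y f) (he : IsEquivOver e) :
    P (pullback.diagonal (AlgSt.spMapOfOver (BasedFunctor.comp e (fpFst y f)))) :=
  prop_diagonal_aux P hP F _ (repByAlgSpWith_ofSpMap_diagonal P f hΔ y F.obj e he)

end Main

end Groth.Agent.Lib.Helper27.DiagPres
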