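import Groth.Agent.Lib.Helper27.DiagLft

/-!
# Properties of the diagonal of an algebraic stack read on a flat cover (helper27)
-/

set_option autoImplicit false
set_option backward.isDefEq.respectTransparency false
set_option backward.isDefEq.respectTransparency.types false

universe u

open CategoryTheory CategoryTheory.Limits AlgebraicGeometry Opposite FibCat
  Groth.Agent.Lib.Helper27.FpKit Groth.Agent.Lib.Helper27.RepWithComp
  Groth.Agent.Lib.Helper27.GraphDiag Groth.Agent.Lib.Helper27.CompareDiag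
  Groth.Agent.Lib.Helper27.Descent Groth.Agent.Lib.Helper27.SepDiag
  Groth.Agent.Lib.Helper27.DiagComp Groth.Agent.Lib.Helper27.DiagLft

namespace Groth.Agent.Lib.Helper27.DiagProp

variable {S : Scheme.{u}} {𝒳 𝒰 : AlgSt.Cat S}

/-- If a flat, locally finitely presented, surjective functor `x : 𝒰 ⟶ 𝒳` from a category
representable by an algebraic space has a property `Q` which satisfies the composition hypotheses,
is fppf local on the base and holds for the diagonals of functors representable by algebraic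
spaces, then the diagonal of `𝒳` has `Q`. -/
theorem prop_diag_toSelf (Q : MorphismProperty (AlgSp.Sp S)) (H : CompHyp Q)
    (hP : AlgSp.IsLocalOnBase AlgSp.IsFppfCover Q)
    (hdiag : ∀ {𝒜 ℬ : AlgSt.Cat S} (k : 𝒜 ⥤ᵇ ℬ), AlgSt.RepByAlgSp1 k →
      AlgSt.RepByAlgSpWith Q (diag k))
    (h𝒳 : FibCat.IsFibGrpd 𝒳.p) (hΔ : AlgSt.RepByAlgSp1 (diag (toSelf 𝒳)))
    (hU : FibCat.IsFibGrpd 𝒰.p) (hUr : AlgSt.RepByAlgSp 𝒰) (x : 𝒰 ⥤ᵇ 𝒳)
    (hx₁ : AlgSt.RepByAlgSpWith (AlgSp.LocP @Flat) x)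
    (hx₂ : AlgSt.RepByAlgSpWith (AlgSp.LocP @LocallyOfFinitePresentation) x)
    (hx₃ : AlgSt.RepByAlgSpWith AlgSp.IsSurjectiveMor x)
    (hxP : AlgSt.RepByAlgSpWith Q x) :
    AlgSt.RepByAlgSpWith Q (diag (toSelf 𝒳)) := by
  have hself : FibCat.IsFibGrpd (selfOver (Over S)).p :=
    Groth.Agent.Lib.Helper27.ReprDiag.isFibGrpd_selfOver
  have hz₁ : AlgSt.RepByAlgSpWith (AlgSp.LocP @Flat) (P x (toSelf 𝒳) x) :=
    Groth.Agent.Lib.Helper27.ProdFunctor.repByAlgSpWith_P x (toSelf 𝒳) x _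
      (compHyp_locP Groth.Agent.Lib.Helper3.isEtLocal_flat) hU h𝒳 hself hU hx₁ hx₁
  have hz₂ : AlgSt.RepByAlgSpWith (AlgSp.LocP @LocallyOfFinitePresentation)
      (P x (toSelf 𝒳) x) :=
    Groth.Agent.Lib.Helper27.ProdFunctor.repByAlgSpWith_P x (toSelf 𝒳) x _
      (compHyp_locP Groth.Agent.Lib.Helper3.isEtLocal_locallyOfFinitePresentation) hU h𝒳 hself hU
      hx₂ hx₂
  have hz₃ : AlgSt.RepByAlgSpWith AlgSp.IsSurjectiveMor (P x (toSelf 𝒳) x) :=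
    Groth.Agent.Lib.Helper27.ProdFunctor.repByAlgSpWith_P x (toSelf 𝒳) x _
      compHyp_isSurjectiveMor hU h𝒳 hself hU hx₃ hx₃
  have h1 : AlgSt.RepByAlgSp1 (BasedFunctor.comp x (toSelf 𝒳)) :=
    Groth.Agent.Lib.Helper27.PshRepSp.repByAlgSp1_of_repByAlgSp hUr repByAlgSp_selfOver _
  have hΔg : AlgSt.RepByAlgSpWith Q
      (diag (fpFst (BasedFunctor.comp x (toSelf 𝒳)) (BasedFunctor.comp x (toSelf 𝒳)))) :=
    Groth.Agent.Lib.Helper27.DiagRepWith.repByAlgSpWith_diag_fpFst _ _ _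
      (hdiag (BasedFunctor.comp x (toSelf 𝒳)) h1)
  have hgf : AlgSt.RepByAlgSpWith Q
      (BasedFunctor.comp (cmp x x (toSelf 𝒳) (e₀ x (toSelf 𝒳)))
        (fpFst (BasedFunctor.comp x (toSelf 𝒳)) (BasedFunctor.comp x (toSelf 𝒳)))) :=
    Groth.Agent.Lib.Helper27.RepWithGeneral.repByAlgSpWith_fpFst _ x x hxP
  have hcmp : AlgSt.RepByAlgSpWith Q (cmp x x (toSelf 𝒳) (e₀ x (toSelf 𝒳))) :=
    Groth.Agent.Lib.Helper27.DiagCancel.repByAlgSpWith_of_comp _ H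
      (Groth.Agent.Lib.Helper27.FpFib.isFibGrpd_fp x x hU hU h𝒳)
      (Groth.Agent.Lib.Helper27.FpFib.isFibGrpd_fp _ _ hU hU hself) hU
      (cmp x x (toSelf 𝒳) (e₀ x (toSelf 𝒳)))
      (fpFst (BasedFunctor.comp x (toSelf 𝒳)) (BasedFunctor.comp x (toSelf 𝒳))) hgf hΔg
  have h2 : AlgSt.RepByAlgSpWith Q (fpFst (P x (toSelf 𝒳) x) (diag (toSelf 𝒳))) :=
    repByAlgSpWith_fpFst_P_of_cmp x x (toSelf 𝒳) (e₀ x (toSelf 𝒳)) (he₀ x (toSelf 𝒳)) _ hcmp
  exact repByAlgSpWith_of_fpFst_cover _ hP h𝒳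
    (Groth.Agent.Lib.Helper27.FpFib.isFibGrpd_fp _ _ h𝒳 h𝒳 hself)
    (Groth.Agent.Lib.Helper27.FpFib.isFibGrpd_fp _ _ hU hU hself)
    (diag (toSelf 𝒳)) hΔ (P x (toSelf 𝒳) x) hz₁ hz₂ hz₃ h2

end Groth.Agent.Lib.Helper27.DiagProp
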