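import Groth.Agent.Lib.Helper27.DiagRep2
import Groth.Agent.Lib.Helper3.QuasiFiniteDescent
import Groth.Agent.Lib.Helper3.AlgSpLocBase

set_option autoImplicit false
set_option backward.isDefEq.respectTransparency false
set_option backward.isDefEq.respectTransparency.types false

universe u

open CategoryTheory CategoryTheory.Limits AlgebraicGeometry Opposite FibCat

namespace Groth.Agent.Lib.Helper27.DiagRep

variable {S : Scheme.{u}}

section Sections

variable {F : AlgSp.Sp S} {T : AlgSp.Sp S} (π : F ⟶ T) (τ₁ τ₂ : T ⟶ F)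

theorem locP_lqf_snd (hF : AlgSp.IsAlgSpace F) (h2 : τ₂ ≫ π = 𝟙 _) :
    AlgSp.LocP (@LocallyQuasiFinite ⊓ @LocallyOfFiniteType) (pullback.snd τ₂ τ₁) := by
  refine Groth.Agent.Lib.Helper3.locP_of_repWith
    Groth.Agent.Lib.Helper3.isEtLocal_locallyQuasiFinite _
    (Groth.Agent.Lib.Helper3.repWith_mono ?_ (repWith_lft_mono_snd π τ₁ τ₂ hF h2))
  intro A B k hk
  have : Mono k := hk.2
  have : LocallyOfFiniteType k := hk.1
  exact ⟨inferInstance, hk.1⟩

end Sections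

variable {𝒳 𝒴 : AlgSt.Cat S} (f : 𝒳 ⥤ᵇ 𝒴)

theorem isQuasiDMMor_of_repByAlgSp1 (hf : AlgSt.RepByAlgSp1 f) : AlgSt.IsQuasiDMMor f :=
  repByAlgSpWith_diag f ⊤ _ ((Groth.Agent.Lib.Helper27.AlgStackEquiv.repByAlgSp1_iff f).1 hf)
    (fun F _ π τ₁ τ₂ _ _ h2 => locP_lqf_snd π τ₁ τ₂ F.property h2)

end Groth.Agent.Lib.Helper27.DiagRep
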