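import Groth.Agent.Lib.Helper27.IsomQc1
import Groth.Agent.Lib.Helper27.DescentKit
import Groth.Agent.Lib.Helper27.StackFp

/-!
# The locus where an endomorphism of a functor is trivial (helper27)
-/

set_option autoImplicit false
set_option backward.isDefEq.respectTransparency false
set_option backward.isDefEq.respectTransparency.types false

universe u

open CategoryTheory CategoryTheory.Limits FibCat AlgebraicGeometry Opposite
  Groth.Agent.Lib.Helper27.FpKit Groth.Agent.Lib.Helper27.ReprDiag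
  Groth.Agent.Lib.Helper27.DescentKit

namespace Groth.Agent.Lib.Helper27.EndTriv

variable {S : Scheme.{u}} {𝒳 𝒴 : AlgSt.Cat S}

local infixr:80 " ⊚ " => BasedFunctor.comp

section Twist

variable (h𝒴 : FibCat.IsFibGrpd 𝒴.p) (F : 𝒳 ⥤ᵇ 𝒴) (α : F ⟶ F)

theorem app_lift (ξ : 𝒳.obj) : 𝒴.p.IsHomLift (𝟙 (𝒳.p.obj ξ)) (α.toNatTrans.app ξ) :=
  α.isHomLift' ξ

include h𝒴 in
theorem isIso_app (ξ : 𝒳.obj) : IsIso (α.toNatTrans.app ξ) :=
  FG.isIso h𝒴 _ (app_lift F α ξ)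

/-- The objectwise automorphism of `Δ (F ξ)` with components `(α_ξ, 𝟙)`. -/
noncomputable def twistObj (ξ : 𝒳.obj) :
    (F ⊚ diag (toSelf 𝒴)).toFunctor.obj ξ ≅ (F ⊚ diag (toSelf 𝒴)).toFunctor.obj ξ :=
  haveI := isIso_app h𝒴 F α ξ
  mkIso (t := (F ⊚ diag (toSelf 𝒴)).toFunctor.obj ξ) (t' := (F ⊚ diag (toSelf 𝒴)).toFunctor.obj ξ)
    (asIso (α.toNatTrans.app ξ)) (Iso.refl _) (by
      apply selfOver_ext (𝟙 _)
      · exact (((Vert.of_lift (app_lift F α ξ)).map (toSelf 𝒴)).comp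
          (vert_iso ((F ⊚ diag (toSelf 𝒴)).toFunctor.obj ξ))).lift rfl
      · exact ((vert_iso ((F ⊚ diag (toSelf 𝒴)).toFunctor.obj ξ)).comp
          ((Vert.id _).map (toSelf 𝒴))).lift rfl)

theorem twistObj_hom_fst (ξ : 𝒳.obj) :
    (twistObj h𝒴 F α ξ).hom.hom.fst = α.toNatTrans.app ξ := rfl

theorem twistObj_hom_snd (ξ : 𝒳.obj) :
    (twistObj h𝒴 F α ξ).hom.hom.snd = 𝟙 _ := rfl

/-- The automorphism of `F ⋙ Δ` with components `(α, 𝟙)`. -/
noncomputable def twist : F ⊚ diag (toSelf 𝒴) ≅ F ⊚ diag (toSelf 𝒴) :=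
  BasedNatIso.mkNatIso
    (NatIso.ofComponents (fun ξ => twistObj h𝒴 F α ξ)
      (fun {ξ ξ'} m => by
        apply Groth.Agent.Lib.Helper27.StackFp.hom_ext'
        · exact α.toNatTrans.naturality m
        · exact (Category.comp_id _).trans (Category.id_comp _).symm))
    (fun ξ => ((vert_hom_iff (twistObj h𝒴 F α ξ).hom).2
      (Vert.of_lift (app_lift F α ξ))).lift ((F ⊚ diag (toSelf 𝒴)).w_obj ξ))

/-- The functor to the inertia of `𝒴` defined by `α`. -/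
noncomputable def toInertia : 𝒳 ⥤ᵇ fp (diag (toSelf 𝒴)) (diag (toSelf 𝒴)) :=
  fpLift F F (twist h𝒴 F α)

/-- The unit section of the inertia. -/
abbrev unitSec (𝒴 : AlgSt.Cat S) : 𝒴 ⥤ᵇ fp (diag (toSelf 𝒴)) (diag (toSelf 𝒴)) :=
  diag (diag (toSelf 𝒴))

/-- Over the fibre product with the unit section, the endomorphism is trivial. -/
theorem app_eq_id_of_obj (t : (fp (toInertia h𝒴 F α) (unitSec 𝒴)).obj) :
    α.toNatTrans.app t.obj.fst = 𝟙 _ := by
  have hw := t.obj.iso.hom.hom.w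
  have h1 := congrArg (fun m => m.hom.fst) hw
  have h2 := congrArg (fun m => m.hom.snd) hw
  change t.obj.iso.hom.hom.fst ≫ 𝟙 _ = α.toNatTrans.app t.obj.fst ≫ t.obj.iso.hom.hom.snd at h1
  change t.obj.iso.hom.hom.fst ≫ 𝟙 _ = 𝟙 _ ≫ t.obj.iso.hom.hom.snd at h2
  rw [Category.comp_id] at h1 h2
  rw [Category.id_comp] at h2
  haveI : IsIso t.obj.iso.hom.hom.fst :=
    (inferInstance : IsIso ((fpFst (diag (toSelf 𝒴)) (diag (toSelf 𝒴))).toFunctor.map
      t.obj.iso.hom))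
  apply (cancel_mono t.obj.iso.hom.hom.fst).1
  rw [Category.id_comp]
  conv_lhs => rw [h2]
  exact h1.symm

end Twist

end Groth.Agent.Lib.Helper27.EndTriv

namespace Groth.Agent.Lib.Helper27.EndTriv

variable {S : Scheme.{u}} {𝒳 𝒴 : AlgSt.Cat S}

local infixr:80 " ⊚ " => BasedFunctor.comp

/-- Where the endomorphism is trivial, the object lifts to the fibre product with the unit
section. -/
theorem exists_obj_of_app_eq_id (h𝒴 : FibCat.IsFibGrpd 𝒴.p) (F : 𝒳 ⥤ᵇ 𝒴) (α : F ⟶ F) (ξ : 𝒳.obj)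
    (h : α.toNatTrans.app ξ = 𝟙 _) :
    ∃ t : (fp (toInertia h𝒴 F α) (unitSec 𝒴)).obj, t.obj.fst = ξ := by
  let i : (toInertia h𝒴 F α).toFunctor.obj ξ ≅ (unitSec 𝒴).toFunctor.obj (F.toFunctor.obj ξ) :=
    mkIso (t := (toInertia h𝒴 F α).toFunctor.obj ξ)
      (t' := (unitSec 𝒴).toFunctor.obj (F.toFunctor.obj ξ)) (Iso.refl _) (Iso.refl _) (by
        apply Groth.Agent.Lib.Helper27.StackFp.hom_ext'
        · change 𝟙 _ ≫ 𝟙 _ = α.toNatTrans.app ξ ≫ 𝟙 _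
          rw [h]
        · rfl)
  exact ⟨mkObj (F := toInertia h𝒴 F α) (G := unitSec 𝒴) ξ (F.toFunctor.obj ξ) i
    ((vert_hom_iff i.hom).2 (Vert.id _)), rfl⟩

end Groth.Agent.Lib.Helper27.EndTriv
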