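import Groth.Agent.Lib.Helper27.LocQBase
import Groth.Agent.S10566

/-!
# Chart squares of functors representable by algebraic spaces (helper27)
-/

set_option autoImplicit false
set_option backward.isDefEq.respectTransparency false
set_option backward.isDefEq.respectTransparency.types false

universe u

open CategoryTheory CategoryTheory.Limits AlgebraicGeometry Opposite FibCat
  Groth.Agent.Lib.Helper27.FpKit Groth.Agent.Lib.Helper27.PshKit Groth.Agent.Lib.Helper27.PshFp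
  Groth.Agent.Lib.Helper27.PshRep Groth.Agent.Lib.Helper27.RepWithComp
  Groth.Agent.Lib.Helper27.Descent Groth.Agent.Lib.Helper27.LocQChart
  Groth.Agent.Lib.Helper27.LocQSpace Groth.Agent.Lib.Helper27.LocQOver
  Groth.Agent.Lib.Helper27.LocQComp Groth.Agent.Lib.Helper27.FpBaseChange
  Groth.Agent.Lib.Helper27.DiagTransport Groth.Agent.Lib.Helper27.PshRepSp

namespace Groth.Agent.Lib.Helper27.LocQRep

variable {S : Scheme.{u}}

open Stk

variable {𝒳 𝒴 : AlgSt.Cat S}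

local infixr:80 " ⊚ " => BasedFunctor.comp

/-- A functor representable by algebraic spaces with `P` has `P` on a chart square. -/
theorem locQ_of_repByAlgSpWith (P : MorphismProperty (AlgSp.Sp S)) (hP : AlgSp.IsSmoothLocalST P)
    (f : 𝒳 ⥤ᵇ 𝒴) {V : Over S} (y : overCat V ⥤ᵇ 𝒴)
    (hy₁ : AlgSt.RepByAlgSpWith (AlgSp.LocP @Smooth) y)
    (hy₂ : AlgSt.RepByAlgSpWith AlgSp.IsSurjectiveMor y) (hf : AlgSt.RepByAlgSpWith P f) :
    AlgSt.LocQ P f := by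
  obtain ⟨F, e, he, hPπ⟩ := hf V y
  have hπ : (ObjectProperty.homMk (pshMapOf ((e ⊚ fpFst y f) ⊚ AlgSt.ofOverCat V)) :
      F.obj ⟶ (AlgSp.yon S).obj V) = AlgSt.spMapOfOver (e ⊚ fpFst y f) := by
    apply ObjectProperty.hom_ext
    exact (spMapOfOver_eq (e ⊚ fpFst y f)).symm
  refine locQ_of_space_charts f P hP F ⟨(AlgSp.yon S).obj V, AlgSp.IsAlgSpace.yon_obj V⟩
    (e ⊚ fpSnd y f) (AlgSt.toOverCat V ⊚ y)
    (ObjectProperty.homMk (ObjectProperty.homMk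
      (pshMapOf ((e ⊚ fpFst y f) ⊚ AlgSt.ofOverCat V)))) ?_
    (repByAlgSpWith_equiv_comp _ e he _
      (Groth.Agent.Lib.Helper27.FpSwap.repByAlgSpWith_fpSnd _ f y hy₁))
    (repByAlgSpWith_equiv_comp _ e he _
      (Groth.Agent.Lib.Helper27.FpSwap.repByAlgSpWith_fpSnd _ f y hy₂))
    (repByAlgSpWith_equiv_comp _ (AlgSt.toOverCat V) (isEquivOver_toOverCat V) y hy₁) ?_
  · exact (whiskerLeftIso e (fpIso y f).symm) ≪≫
      (whiskerRightIso (κΦ (e ⊚ fpFst y f)).symm y)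
  · change P (ObjectProperty.homMk (pshMapOf ((e ⊚ fpFst y f) ⊚ AlgSt.ofOverCat V)) :
      F.obj ⟶ (AlgSp.yon S).obj V)
    rw [hπ]
    exact hPπ

/-- A functor representable by algebraic spaces with `P` on a chart square has `P`, if `P` is
stable under base change. -/
theorem repByAlgSpWith_of_locQ (P : MorphismProperty (AlgSp.Sp S)) (hP : AlgSp.IsSmoothLocalST P)
    (hPb : ∀ ⦃X₁ Y₁ X₂ Y₂ : AlgSp.Sp S⦄, AlgSp.IsAlgSpace X₁ → AlgSp.IsAlgSpace Y₁ →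
      AlgSp.IsAlgSpace X₂ → AlgSp.IsAlgSpace Y₂ → ∀ (a : X₁ ⟶ Y₁) (b : Y₂ ⟶ Y₁) (a' : X₂ ⟶ Y₂)
      (b' : X₂ ⟶ X₁), IsPullback b' a' a b → P a → P a')
    (f : 𝒳 ⥤ᵇ 𝒴) (hf1 : AlgSt.RepByAlgSp1 f) (hf : AlgSt.LocQ P f) :
    AlgSt.RepByAlgSpWith P f := by
  intro T t
  obtain ⟨U, V, x, y, h, α, hx₁, hx₂, hy₁, hPh⟩ := hf
  obtain ⟨F, eF, heF⟩ := hf1 T t
  refine ⟨F, eF, heF, ?_⟩
  obtain ⟨B, eB, heB, hb₁s⟩ := hy₁ T t
  have sq : IsPullback (pullback.fst ((AlgSp.yon S).map h) (strV t y eB))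
      (pullback.snd ((AlgSp.yon S).map h) (strV t y eB)) ((AlgSp.yon S).map h)
      (strV t y eB) := IsPullback.of_hasPullback _ _
  have hW : AlgSp.IsAlgSpace (pullback ((AlgSp.yon S).map h) (strV t y eB)) :=
    Groth.Agent.S9874.result S ((AlgSp.yon S).obj V) (AlgSp.IsAlgSpace.yon_obj V).diag
      ⟨(AlgSp.yon S).obj U, AlgSp.IsAlgSpace.yon_obj U⟩ B ((AlgSp.yon S).map h) _ _ _ _ sq
  obtain ⟨fst, hfst⟩ : ∃ fst : pullback ((AlgSp.yon S).map h) (strV t y eB) ⟶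
      (AlgSp.yon S).obj U, fst = pullback.fst ((AlgSp.yon S).map h) (strV t y eB) :=
    ⟨_, rfl⟩
  obtain ⟨snd, hsnd⟩ : ∃ snd : pullback ((AlgSp.yon S).map h) (strV t y eB) ⟶ B.obj,
      snd = pullback.snd ((AlgSp.yon S).map h) (strV t y eB) := ⟨_, rfl⟩
  rw [← hfst, ← hsnd] at sq
  have hPsnd : P snd :=
    hPb (AlgSp.IsAlgSpace.yon_obj U) (AlgSp.IsAlgSpace.yon_obj V) hW B.property
      ((AlgSp.yon S).map h) (strV t y eB) snd fst sq hPh
  have hE₂ : IsEquivOver (E t y h eB sq ⊚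
      isoMapSnd t (x ⊚ f) (AlgSt.overMap h ⊚ y) α.symm) :=
    isEquivOver_comp _ _ (isEquivOver_E t y h eB sq heB) (isEquivOver_isoMapSnd _ _ _ _)
  obtain ⟨ρ, hρ⟩ : ∃ ρ : AlgSt.ofSp (pullback ((AlgSp.yon S).map h) (strV t y eB)) ⥤ᵇ fp t f,
      ρ = (E t y h eB sq ⊚ isoMapSnd t (x ⊚ f) (AlgSt.overMap h ⊚ y) α.symm) ⊚ mapSnd t f x :=
    ⟨_, rfl⟩
  have hρR : ∀ (R : MorphismProperty (AlgSp.Sp S)), AlgSt.RepByAlgSpWith R x →
      AlgSt.RepByAlgSpWith R ρ := by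
    intro R hx
    rw [hρ]
    exact repByAlgSpWith_equiv_comp R _ hE₂ _ (repByAlgSpWith_mapSnd t f x R hx)
  obtain ⟨eF', heF', -, ⟨ε⟩⟩ := exists_inverse eF heF
  obtain ⟨a, ha⟩ : ∃ a : pullback ((AlgSp.yon S).map h) (strV t y eB) ⟶ F.obj,
      a = ObjectProperty.homMk (strictMap ρ eF') := ⟨_, rfl⟩
  have hσ : AlgSt.ofSpMap a ⊚ eF ≅ ρ := by
    rw [ha]
    exact strictIso ρ eF eF' ε
  have haR : ∀ (R : MorphismProperty (AlgSp.Sp S)), CompHyp R → AlgSt.RepByAlgSpWith R x →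
      R a := by
    intro R H hx
    apply prop_of_repByAlgSpWith R H hW F.property a
    exact Groth.Agent.Lib.Helper27.RepWithGeneral.repByAlgSpWith_of_equiv R ρ _
      (BasedFunctor.id _) eF (isEquivOver_id _) heF hσ (hρR R hx)
  have hcomm : a ≫ AlgSt.spMapOfOver (eF ⊚ fpFst t f) =
      snd ≫ AlgSt.spMapOfOver (eB ⊚ fpFst t y) := by
    have h1 := spMapOfOver_comp (AlgSt.ofSpMap a) (eF ⊚ fpFst t f)
    rw [pshMapOf_ofPshMap] at h1
    have h2 := spMapOfOver_comp (AlgSt.ofSpMap snd) (eB ⊚ fpFst t y)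
    rw [pshMapOf_ofPshMap] at h2
    refine h1.symm.trans (Eq.trans ?_ h2)
    refine (Groth.Agent.Lib.Helper27.RepWithKit.spMapOfOver_congr _ (ρ ⊚ fpFst t f)
      (fun s => ⟨(fpFst t f).toFunctor.map (hσ.hom.toNatTrans.app s),
        (Vert.app hσ.hom s).map (fpFst t f)⟩)).trans ?_
    rw [hρ]
    exact Groth.Agent.Lib.Helper27.RepWithKit.spMapOfOver_congr _ _
      (fun s => ⟨𝟙 _, Vert.id _⟩)
  exact ((Groth.Agent.S10566.result hP
    (X := F) (Y := ⟨(AlgSp.yon S).obj T, AlgSp.IsAlgSpace.yon_obj T⟩)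
    (ObjectProperty.homMk (AlgSt.spMapOfOver (eF ⊚ fpFst t f)))).1).2
    ⟨⟨pullback ((AlgSp.yon S).map h) (strV t y eB), hW⟩, B, ObjectProperty.homMk a,
      ObjectProperty.homMk (AlgSt.spMapOfOver (eB ⊚ fpFst t y)), ObjectProperty.homMk snd,
      haR _ (compHyp_locP Groth.Agent.Lib.Helper3.isEtLocal_smooth) hx₁, hb₁s,
      haR _ Groth.Agent.Lib.Helper27.DiagLft.compHyp_isSurjectiveMor hx₂,
      ObjectProperty.hom_ext _ hcomm, hPsnd⟩

end Groth.Agent.Lib.Helper27.LocQRep
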