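import Groth.Agent.Lib.Helper27.StPointsTop3

/-!
# Open maps on points from algebraic spaces (helper27)
-/

set_option autoImplicit false
set_option backward.isDefEq.respectTransparency false
set_option backward.isDefEq.respectTransparency.types false

universe u

open CategoryTheory CategoryTheory.Limits FibCat AlgebraicGeometry Opposite
  Groth.Agent.Lib.Helper27.FpKit Groth.Agent.Lib.Helper27.PointsKit
  Groth.Agent.Lib.Helper27.RepWithComp

namespace Groth.Agent.Lib.Helper27.StPoints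

variable {S : Scheme.{u}} {𝒳 𝒴 : AlgSt.Cat S}

/-- A flat, locally finitely presented functor from an algebraic space to a category fibred in
groupoids is open on points. -/
theorem isOpenMap_map_of_flat_lfp_space (h𝒳 : FibCat.IsFibGrpd 𝒳.p) (U : AlgSp.Space S)
    (f : AlgSt.ofSp U.obj ⥤ᵇ 𝒳) (hu₁ : AlgSt.RepByAlgSpWith (AlgSp.LocP @Flat) f)
    (hu₂ : AlgSt.RepByAlgSpWith (AlgSp.LocP @LocallyOfFinitePresentation) f) :
    IsOpenMap (AlgSt.Points.map f) := by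
  obtain ⟨B, b, hbe, hbs⟩ := U.property.atlas
  have hfU : FibCat.IsFibGrpd (AlgSt.ofSp U.obj).p := Stk.isFibGrpd_ofPsh (P := U.obj.obj)
  have hfB := Groth.Agent.Lib.Helper27.ReprAux.isFibGrpd_overCat B
  obtain ⟨c₀, hc₀def⟩ : ∃ c₀ : overCat B ⥤ᵇ AlgSt.ofSp U.obj,
    c₀ = BasedFunctor.comp (AlgSt.ofOverCat B) (AlgSt.ofSpMap b) := ⟨_, rfl⟩
  have hc₀ : ∀ (R : MorphismProperty (AlgSp.Sp S)),
      AlgSt.RepByAlgSpWith R (AlgSt.ofSpMap b) → AlgSt.RepByAlgSpWith R c₀ := fun R h => by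
    rw [hc₀def]
    exact Groth.Agent.Lib.Helper27.LocQOver.repByAlgSpWith_equiv_comp R (AlgSt.ofOverCat B)
      (Groth.Agent.Lib.Helper27.Descent.isEquivOver_ofOverCat B) _ h
  have hbsm : AlgSt.RepByAlgSpWith (AlgSp.LocP @Smooth) (AlgSt.ofSpMap b) :=
    Groth.Agent.Lib.Helper27.LocQSpace.repByAlgSpWith_ofSpMap_of_repWith @Etale _
      Groth.Agent.Lib.Helper27.LocQSpace.smooth_of_etale (AlgSp.IsAlgSpace.yon_obj B) U.property b hbe
  have hbsj : AlgSt.RepByAlgSpWith AlgSp.IsSurjectiveMor (AlgSt.ofSpMap b) :=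
    Groth.Agent.Lib.Helper27.LocQSpace.repByAlgSpWith_ofSpMap_of_repWith @Surjective _
      Groth.Agent.Lib.Helper27.LocQSpace.surj_of_surj (AlgSp.IsAlgSpace.yon_obj B) U.property b hbs
  have hc₀sm := hc₀ _ hbsm
  have hc₀sj := hc₀ _ hbsj
  have h1 : AlgSt.RepByAlgSpWith (AlgSp.LocP @Flat) (BasedFunctor.comp c₀ f) :=
    comp_gen _ (compHyp_locP Groth.Agent.Lib.Helper3.isEtLocal_flat) hfB hfU c₀ f
      (Groth.Agent.Lib.Helper27.DiagLft.flat_of_smooth c₀ hc₀sm) hu₁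
  have h2 : AlgSt.RepByAlgSpWith (AlgSp.LocP @LocallyOfFinitePresentation)
      (BasedFunctor.comp c₀ f) :=
    comp_gen _ (compHyp_locP Groth.Agent.Lib.Helper3.isEtLocal_locallyOfFinitePresentation)
      hfB hfU c₀ f (Groth.Agent.Lib.Helper27.DiagLft.lfp_of_smooth c₀ hc₀sm) hu₂
  have hopen := isOpenMap_ofChart h𝒳 (BasedFunctor.comp c₀ f) h1 h2
  have hsurj := ofChart_surjective hfU c₀ hc₀sj
  intro W hW
  have hB' : IsOpen (AlgSt.Points.ofChart c₀ ⁻¹' W) := hW B c₀ hc₀sm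
  have heq : AlgSt.Points.map f '' W =
      AlgSt.Points.ofChart (BasedFunctor.comp c₀ f) '' (AlgSt.Points.ofChart c₀ ⁻¹' W) := by
    ext p
    constructor
    · rintro ⟨q, hq, rfl⟩
      obtain ⟨t, rfl⟩ := hsurj q
      exact ⟨t, hq, by rw [ofChart_eq, ofChart_eq, map_comp]⟩
    · rintro ⟨t, ht, rfl⟩
      exact ⟨AlgSt.Points.ofChart c₀ t, ht, by rw [ofChart_eq, ofChart_eq, map_comp]⟩
  rw [heq]
  exact hopen _ hB'

theorem isOpen_iff_preimage_fppf_space_chart (h𝒳 : AlgSt.IsAlgStack Scheme.fppfPrecoverage 𝒳)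
    (U : AlgSp.Space S) (p : AlgSt.ofSp U.obj ⥤ᵇ 𝒳)
    (hp₁ : AlgSt.RepByAlgSpWith (AlgSp.LocP @Flat) p)
    (hp₂ : AlgSt.RepByAlgSpWith (AlgSp.LocP @LocallyOfFinitePresentation) p)
    (hp₃ : AlgSt.RepByAlgSpWith AlgSp.IsSurjectiveMor p) (W : Set (AlgSt.Points 𝒳)) :
    IsOpen W ↔ IsOpen (AlgSt.Points.map p ⁻¹' W) := by
  constructor
  · intro hW
    exact (continuous_map h𝒳 p).isOpen_preimage W hW
  · intro hW
    have hs := isSurjective_of_rep (Stk.isFibGrpd_ofPsh (P := U.obj.obj)) h𝒳.isStack.1 p hp₃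
    have := isOpenMap_map_of_flat_lfp_space h𝒳.isStack.1 U p hp₁ hp₂ _ hW
    rwa [Set.image_preimage_eq W hs] at this

end Groth.Agent.Lib.Helper27.StPoints
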