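import Groth.Agent.Lib.Helper27.OpenSub3
import Groth.Agent.Lib.Helper27.StPointsTop4

/-!
# The open substack which is the image of an open subspace of a chart (helper27)
-/

set_option autoImplicit false
set_option backward.isDefEq.respectTransparency false
set_option backward.isDefEq.respectTransparency.types false

universe u

open CategoryTheory CategoryTheory.Limits FibCat AlgebraicGeometry Opposite
  Groth.Agent.Lib.Helper27.FpKit Groth.Agent.Lib.Helper27.PointsKit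
  Groth.Agent.Lib.Helper27.StPoints Groth.Agent.Lib.Helper27.RepWithComp

namespace Groth.Agent.Lib.Helper27.OpenSub

variable {S : Scheme.{u}} {𝒳 : AlgSt.Cat S}

section Cancel

variable (P : MorphismProperty (AlgSp.Sp S)) (Q : 𝒳.obj → Prop) {𝒜 : AlgSt.Cat S}
  (g : 𝒜 ⥤ᵇ AlgSt.fullSub 𝒳 Q)

/-- The data comparing base changes of `g` with base changes of its composite with the
inclusion of the full subcategory. -/
def DSub {T : Over S} (y : overCat T ⥤ᵇ AlgSt.fullSub 𝒳 Q) :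
    MapData (BasedFunctor.comp y (AlgSt.subIncl 𝒳 Q)) (BasedFunctor.comp g (AlgSt.subIncl 𝒳 Q))
      y g (BasedFunctor.id _) (BasedFunctor.id _) (AlgSt.subIncl 𝒳 Q) where
  e₁ := fun _ => Iso.refl _
  n₁ := fun _ => (Category.comp_id _).trans (Category.id_comp _).symm
  l₁ := fun _ => Vert.id _
  e₂ := fun _ => Iso.refl _
  n₂ := fun _ => (Category.comp_id _).trans (Category.id_comp _).symm
  l₂ := fun _ => Vert.id _

instance : (AlgSt.subIncl 𝒳 Q).toFunctor.Full := inferInstanceAs (ObjectProperty.ι Q).Full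
instance : (AlgSt.subIncl 𝒳 Q).toFunctor.Faithful := inferInstanceAs (ObjectProperty.ι Q).Faithful

theorem isEquivOver_fpMap_DSub {T : Over S} (y : overCat T ⥤ᵇ AlgSt.fullSub 𝒳 Q) :
    IsEquivOver (fpMap (DSub Q g y)) := by
  have h1 : (BasedFunctor.id (overCat T)).toFunctor.Full := inferInstanceAs (𝟭 _).Full
  have h2 : (BasedFunctor.id (overCat T)).toFunctor.Faithful := inferInstanceAs (𝟭 _).Faithful
  have h3 : (BasedFunctor.id 𝒜).toFunctor.Full := inferInstanceAs (𝟭 _).Full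
  have h4 : (BasedFunctor.id 𝒜).toFunctor.Faithful := inferInstanceAs (𝟭 _).Faithful
  exact isEquivOver_of_ess _ (fpMap_full (DSub Q g y)) (fpMap_faithful (DSub Q g y))
    (fpMap_ess (DSub Q g y) (fun x => ⟨x, Iso.refl _, Vert.id _⟩)
      (fun x => ⟨x, Iso.refl _, Vert.id _⟩))

theorem repByAlgSpWith_of_comp_subIncl
    (h : AlgSt.RepByAlgSpWith P (BasedFunctor.comp g (AlgSt.subIncl 𝒳 Q))) :
    AlgSt.RepByAlgSpWith P g := by
  intro T y
  exact Groth.Agent.Lib.Helper27.RepWithKit.transport' P (fpMap (DSub Q g y))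
    (isEquivOver_fpMap_DSub Q g y) (fpFst y g)
    (fpFst (BasedFunctor.comp y (AlgSt.subIncl 𝒳 Q)) (BasedFunctor.comp g (AlgSt.subIncl 𝒳 Q)))
    (fun t => ⟨Iso.refl _, Vert.id _⟩) (h T (BasedFunctor.comp y (AlgSt.subIncl 𝒳 Q)))

end Cancel

section Image

variable {𝒜 : AlgSt.Cat S}

/-- Objects in the image of a functor belong to the predicate of the image on points. -/
theorem QW_range_obj (h𝒜 : FibCat.IsFibGrpd 𝒜.p) (h𝒳 : FibCat.IsFibGrpd 𝒳.p) (c : 𝒜 ⥤ᵇ 𝒳)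
    (a : 𝒜.obj) : QW (Set.range (AlgSt.Points.map c)) (c.toFunctor.obj a) := by
  rintro p ⟨ψ⟩
  obtain ⟨k, hk⟩ : ∃ k : Over.mk p.str ⟶ 𝒜.p.obj a,
      k = eqToHom p.lies.symm ≫ 𝒳.p.map ψ ≫ eqToHom (c.w_obj a) := ⟨_, rfl⟩
  have hl : 𝒳.p.IsHomLift k ψ := by
    rw [hk]
    exact IsHomLift.of_fac _ _ _ p.lies (c.w_obj a) rfl
  obtain ⟨a', μ, hμ⟩ := h𝒜.exists_lift (x := a) k
  have hl' : 𝒳.p.IsHomLift k (c.toFunctor.map μ) := inferInstance
  obtain ⟨e, -, -⟩ := exists_vert_iso h𝒳 k ψ (c.toFunctor.map μ)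
  let q₀ : AlgSt.FPt 𝒜 :=
    { K := p.K, str := p.str, obj := a', lies := IsHomLift.domain_eq 𝒜.p k μ }
  exact ⟨AlgSt.Points.mk q₀,
    (AlgSt.Points.sound (rel_of_hom (q := q₀.map c) e.hom)).symm⟩

/-- The inclusion of a full subcategory stable under pullback is injective on points. -/
theorem map_subIncl_injective (h𝒳 : FibCat.IsFibGrpd 𝒳.p) (Q : 𝒳.obj → Prop)
    (hpull : ∀ ⦃a b : 𝒳.obj⦄ (_ : a ⟶ b), Q b → Q a) :
    Function.Injective (AlgSt.Points.map (AlgSt.subIncl 𝒳 Q)) := by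
  intro x x' h
  obtain ⟨p, rfl⟩ := AlgSt.Points.mk_surjective x
  obtain ⟨p', rfl⟩ := AlgSt.Points.mk_surjective x'
  rw [AlgSt.Points.map_mk, AlgSt.Points.map_mk, mk_eq_mk_iff h𝒳] at h
  obtain ⟨r, m, m', -⟩ := h
  have hr : Q r.obj := hpull m p.obj.property
  exact AlgSt.Points.sound ⟨{ K := r.K, str := r.str, obj := ⟨r.obj, hr⟩, lies := r.lies },
    ObjectProperty.homMk m, ObjectProperty.homMk m', trivial⟩

end Image

section Chart

theorem exists_image_of_open_chart (h𝒳 : AlgSt.IsAlgStack Scheme.fppfPrecoverage 𝒳)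
    (U : AlgSp.Space S) (u : AlgSt.ofSp U.obj ⥤ᵇ 𝒳)
    (hu₁ : AlgSt.RepByAlgSpWith (AlgSp.LocP @Smooth) u)
    (V : AlgSp.Space S) (j : V ⟶ U) (hj : AlgSp.RepWith @IsOpenImmersion j.hom) :
    ∃ (𝒴 : AlgSt.Cat S) (i : 𝒴 ⥤ᵇ 𝒳) (g : AlgSt.ofSp V.obj ⥤ᵇ 𝒴),
      AlgSt.IsAlgStack Scheme.fppfPrecoverage 𝒴 ∧ AlgSt.IsOpenImm i ∧
        AlgSt.RepByAlgSpWith (AlgSp.LocP @Smooth) g ∧
        AlgSt.RepByAlgSpWith AlgSp.IsSurjectiveMor g ∧
          Nonempty (BasedFunctor.comp g i ≅ BasedFunctor.comp (AlgSt.ofSpMap j.hom) u) := by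
  have hfU : FibCat.IsFibGrpd (AlgSt.ofSp U.obj).p := Stk.isFibGrpd_ofPsh (P := U.obj.obj)
  have hfV : FibCat.IsFibGrpd (AlgSt.ofSp V.obj).p := Stk.isFibGrpd_ofPsh (P := V.obj.obj)
  obtain ⟨c, hc⟩ : ∃ c : AlgSt.ofSp V.obj ⥤ᵇ 𝒳, c = BasedFunctor.comp (AlgSt.ofSpMap j.hom) u :=
    ⟨_, rfl⟩
  have hj' : AlgSt.RepByAlgSpWith (AlgSp.LocP @Smooth) (AlgSt.ofSpMap j.hom) :=
    Groth.Agent.Lib.Helper27.LocQSpace.repByAlgSpWith_ofSpMap_of_repWith @IsOpenImmersion _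
      (fun _ _ k hk => Groth.Agent.Lib.Helper27.LocQSpace.smooth_of_etale k
        (Groth.Agent.Lib.Helper3.repWith_mono
          (fun _ _ m hm => by have : IsOpenImmersion m := hm; infer_instance) hk))
      V.property U.property j.hom hj
  have hc₁ : AlgSt.RepByAlgSpWith (AlgSp.LocP @Smooth) c := by
    rw [hc]
    exact comp_gen _ (compHyp_locP Groth.Agent.Lib.Helper3.isEtLocal_smooth) hfV hfU _ u hj' hu₁
  have hopen : IsOpen (Set.range (AlgSt.Points.map c)) :=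
    (isOpenMap_map_of_flat_lfp_space h𝒳.isStack.1 V c
      (Groth.Agent.Lib.Helper27.DiagLft.flat_of_smooth c hc₁)
      (Groth.Agent.Lib.Helper27.DiagLft.lfp_of_smooth c hc₁)).isOpen_range
  have hsub := isOpenSubstack_QW h𝒳 _ hopen
  obtain ⟨g, hg⟩ : ∃ g : AlgSt.ofSp V.obj ⥤ᵇ AlgSt.fullSub 𝒳 (QW (Set.range (AlgSt.Points.map c))),
      g = liftSub _ c (QW_range_obj hfV h𝒳.isStack.1 c) := ⟨_, rfl⟩
  have hgi : BasedFunctor.comp g (AlgSt.subIncl 𝒳 _) = c := by rw [hg]; rfl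
  have hg₁ : AlgSt.RepByAlgSpWith (AlgSp.LocP @Smooth) g :=
    repByAlgSpWith_of_comp_subIncl _ _ g (by rw [hgi]; exact hc₁)
  have hsurj : AlgSt.IsSurjective g := by
    intro q
    have h1 : AlgSt.Points.map (AlgSt.subIncl 𝒳 _) q ∈ Set.range (AlgSt.Points.map c) :=
      (range_subIncl_QW (Set.range (AlgSt.Points.map c))).le ⟨q, rfl⟩
    obtain ⟨v, hv⟩ := h1
    refine ⟨v, map_subIncl_injective h𝒳.isStack.1 _ (QW_pull _) ?_⟩
    rw [← map_comp, hgi]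
    exact hv
  refine ⟨_, AlgSt.subIncl 𝒳 _, g, hsub.2.1, hsub.2.2, hg₁,
    rep_of_isSurjective hfV hsub.2.1.isStack.1 g (fun T y => by
      obtain ⟨F, e, he, -⟩ := hg₁ T y
      exact ⟨F, e, he⟩) hsurj, ⟨eqToIso (hgi.trans hc)⟩⟩

end Chart

end Groth.Agent.Lib.Helper27.OpenSub
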