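import Groth.Agent.Lib.Helper27.RepCancel
import Groth.Agent.Lib.Helper3.AlgSpLargestOpen
import Groth.Agent.Lib.Helper3.SmoothEt6

/-!
# Cancellation with two properties; smooth morphisms and open immersions (helper27)
-/

set_option autoImplicit false
set_option backward.isDefEq.respectTransparency false
set_option backward.isDefEq.respectTransparency.types false

universe u

open CategoryTheory CategoryTheory.Limits AlgebraicGeometry Opposite FibCat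
  Groth.Agent.Lib.Helper27.FpKit Groth.Agent.Lib.Helper27.PshKit
  Groth.Agent.Lib.Helper27.RepCancel

namespace Groth.Agent.Lib.Helper27.RepCancel

variable {S : Scheme.{u}} {𝒜 ℬ 𝒞 : AlgSt.Cat S}

theorem repByAlgSpWith_cancel₂ (P₁ P₂ : MorphismProperty (AlgSp.Sp S))
    (hPb : ∀ ⦃X₁ Y₁ X₂ Y₂ : AlgSp.Sp S⦄, AlgSp.IsAlgSpace X₁ → AlgSp.IsAlgSpace Y₁ →
      AlgSp.IsAlgSpace X₂ → AlgSp.IsAlgSpace Y₂ → ∀ (a : X₁ ⟶ Y₁) (b : Y₂ ⟶ Y₁) (a' : X₂ ⟶ Y₂)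
      (b' : X₂ ⟶ X₁), IsPullback b' a' a b → P₁ a → P₁ a')
    (hcancel : ∀ ⦃X Y Z : AlgSp.Sp S⦄, AlgSp.IsAlgSpace X → AlgSp.IsAlgSpace Y →
      AlgSp.IsAlgSpace Z → ∀ (a : X ⟶ Y) (b : Y ⟶ Z), P₂ b → P₁ (a ≫ b) → P₁ a)
    (a : 𝒜 ⥤ᵇ ℬ) (b : ℬ ⥤ᵇ 𝒞) (hb : AlgSt.RepByAlgSpWith P₂ b)
    (hab : AlgSt.RepByAlgSpWith P₁ (BasedFunctor.comp a b)) : AlgSt.RepByAlgSpWith P₁ a := by
  intro U G
  obtain ⟨Y, eY, heY, hPY⟩ := hb U (BasedFunctor.comp G b)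
  obtain ⟨X, eX, heX, hPX⟩ := Groth.Agent.Lib.Helper27.RepWithKit.transport' P₁
    (pasteR a b (BasedFunctor.comp G b))
    (isEquivOver_pasteR a b (BasedFunctor.comp G b))
    (BasedFunctor.comp (fpFst (fpSnd (BasedFunctor.comp G b) b) a) (fpFst (BasedFunctor.comp G b) b))
    (fpFst (BasedFunctor.comp G b) (BasedFunctor.comp a b))
    (fun t => ⟨Iso.refl _, Vert.id _⟩) (hab U (BasedFunctor.comp G b))
  obtain ⟨c, ⟨e⟩, hc⟩ := exists_map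
    (BasedFunctor.comp eX (fpFst (fpSnd (BasedFunctor.comp G b) b) a)) eY heY
  have hPc : P₁ c := by
    apply hcancel X.property Y.property (AlgSp.IsAlgSpace.yon_obj U) c
      (AlgSt.spMapOfOver (BasedFunctor.comp eY (fpFst (BasedFunctor.comp G b) b))) hPY
    rw [hc]
    exact hPX
  have h1 : AlgSt.RepByAlgSpWith P₁ (AlgSt.ofSpMap c) :=
    Groth.Agent.Lib.Helper27.LocQComp.repByAlgSpWith_ofSpMap_of_stable P₁ hPb X.property
      Y.property c hPc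
  have h2 : AlgSt.RepByAlgSpWith P₁ (fpFst (fpSnd (BasedFunctor.comp G b) b) a) :=
    Groth.Agent.Lib.Helper27.RepWithGeneral.repByAlgSpWith_of_equiv' P₁ _ (AlgSt.ofSpMap c) eX eY
      heX heY e h1
  have h3 := h2 U (sec b G)
  have hE := isEquivOver_comp _ _
    (isEquivOver_pasteL a (fpSnd (BasedFunctor.comp G b) b) (sec b G))
    (Groth.Agent.Lib.Helper27.DiagIff.isEquivOver_isoMapFst G
      (BasedFunctor.comp (sec b G) (fpSnd (BasedFunctor.comp G b) b)) a (secSnd b G))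
  exact Groth.Agent.Lib.Helper27.RepWithKit.transport P₁ _ hE
    (fpFst (sec b G) (fpFst (fpSnd (BasedFunctor.comp G b) b) a)) (fpFst G a)
    (fun t => ⟨Iso.refl _, Vert.id _⟩) h3

theorem smooth_baseChange : ∀ ⦃X₁ Y₁ X₂ Y₂ : AlgSp.Sp S⦄, AlgSp.IsAlgSpace X₁ →
    AlgSp.IsAlgSpace Y₁ → AlgSp.IsAlgSpace X₂ → AlgSp.IsAlgSpace Y₂ → ∀ (a : X₁ ⟶ Y₁) (b : Y₂ ⟶ Y₁)
    (a' : X₂ ⟶ Y₂) (b' : X₂ ⟶ X₁), IsPullback b' a' a b → AlgSp.LocP @Smooth a →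
    AlgSp.LocP @Smooth a' :=
  fun _ _ _ _ h1 h2 h3 h4 a b a' b' sq ha =>
    Groth.Agent.Lib.Helper3.locP_of_isPullback Groth.Agent.Lib.Helper3.isEtLocal_smooth h1 h2 h4 h3
      a b b' a' sq ha

/-- If `b` is an open immersion and `a ≫ b` is smooth, then `a` is smooth. -/
theorem smooth_of_comp_openImm ⦃X Y Z : AlgSp.Sp S⦄ (hX : AlgSp.IsAlgSpace X)
    (hY : AlgSp.IsAlgSpace Y) (hZ : AlgSp.IsAlgSpace Z) (a : X ⟶ Y) (b : Y ⟶ Z)
    (hb : AlgSp.RepWith @IsOpenImmersion b) (hab : AlgSp.LocP @Smooth (a ≫ b)) :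
    AlgSp.LocP @Smooth a := by
  have : Mono b := Groth.Agent.Lib.Helper3.mono_of_repWith_isOpenImmersion b hb
  have sq1 : IsPullback (𝟙 Y) (𝟙 Y) b b := (IsKernelPair.id_of_mono b)
  have sq2 : IsPullback a (𝟙 X) (𝟙 Y) a := IsPullback.of_vert_isIso ⟨by simp⟩
  have sq := sq2.paste_horiz sq1
  rw [Category.comp_id] at sq
  exact smooth_baseChange hX hZ hX hY (a ≫ b) b a (𝟙 X) sq.flip hab

/-- If `b` is an open immersion and `a ≫ b` is smooth (both representable), then `a` is smooth. -/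
theorem smooth_cancel_openImm (a : 𝒜 ⥤ᵇ ℬ) (b : ℬ ⥤ᵇ 𝒞) (hb : AlgSt.IsOpenImm b)
    (hab : AlgSt.RepByAlgSpWith (AlgSp.LocP @Smooth) (BasedFunctor.comp a b)) :
    AlgSt.RepByAlgSpWith (AlgSp.LocP @Smooth) a :=
  repByAlgSpWith_cancel₂ _ _ smooth_baseChange
    (fun _ _ _ hX hY hZ a b hb hab => smooth_of_comp_openImm hX hY hZ a b hb hab) a b hb hab

end Groth.Agent.Lib.Helper27.RepCancel
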