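import Groth.Agent.Lib.Helper27.SmLocP
import Groth.Agent.Lib.Helper27.SmSrcSmooth
import Groth.Agent.Lib.Helper3.SmoothEt6
import Mathlib.AlgebraicGeometry.Morphisms.LocalFlatDescent

/-!
# `LocP Smooth` is smooth local on the source-and-target (helper27)
-/

set_option autoImplicit false
set_option backward.isDefEq.respectTransparency false
set_option backward.isDefEq.respectTransparency.types false
universe u
open CategoryTheory CategoryTheory.Limits AlgebraicGeometry Opposite MorphismProperty

namespace Groth.Agent.Lib.Helper27.SmLocP

open AlgSp Groth.Agent.Lib.Helper3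

variable {S : Scheme.{u}}

theorem isSmLocal_smooth : IsSmLocal @Smooth.{u} where
  etLocal := isEtLocal_smooth
  smooth_le := le_rfl
  of_comp π g h1 h2 h := by
    have : Smooth π := h1
    have : Surjective π := h2
    exact SmSrcSmooth.smooth_of_smooth_surjective_comp π g h
  localAtSource := inferInstance
  localAtTarget := HasRingHomProperty.instIsZariskiLocalAtTarget @Smooth
  descends := inferInstance

theorem isSmoothLocalST_locP_smooth : IsSmoothLocalST (LocP (S := S) @Smooth) :=
  isSmoothLocalST_locP isSmLocal_smooth

theorem isLocalOnSource_smooth_locP_smooth :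
    IsLocalOnSource (IsSmCover (S := S)) (LocP @Smooth) :=
  isLocalOnSource_smooth_locP isSmLocal_smooth

end Groth.Agent.Lib.Helper27.SmLocP
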