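import Groth.Agent.Lib.Helper27.LocQEquiv
import Groth.Agent.Lib.Helper27.RepCancel2
import Groth.Agent.Lib.Helper27.SmLocPSmooth
import Groth.Agent.Lib.Helper27.OpenSub4

/-!
# Chart squares and open substacks: smoothness is local on the source (helper27)
-/

set_option autoImplicit false
set_option backward.isDefEq.respectTransparency false
set_option backward.isDefEq.respectTransparency.types false

universe u

open CategoryTheory CategoryTheory.Limits AlgebraicGeometry Opposite FibCat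
  Groth.Agent.Lib.Helper27.FpKit Groth.Agent.Lib.Helper27.PshKit Groth.Agent.Lib.Helper27.PshFp
  Groth.Agent.Lib.Helper27.PshRep Groth.Agent.Lib.Helper27.RepWithComp
  Groth.Agent.Lib.Helper27.Descent Groth.Agent.Lib.Helper27.LocQChart
  Groth.Agent.Lib.Helper27.LocQSpace Groth.Agent.Lib.Helper27.LocQOver
  Groth.Agent.Lib.Helper27.LocQComp Groth.Agent.Lib.Helper27.FpBaseChange
  Groth.Agent.Lib.Helper27.LocQBase Groth.Agent.Lib.Helper27.FpSwap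

namespace Groth.Agent.Lib.Helper27.LocQSmoothOpen

variable {S : Scheme.{u}}

open Stk

local infixr:80 " ⊚ " => BasedFunctor.comp

section Congr

variable {𝒯 𝒜 ℬ 𝒵 : AlgSt.Cat S} (F : 𝒜 ⥤ᵇ 𝒵) (K : ℬ ⥤ᵇ 𝒵)
  {p p' : 𝒯 ⥤ᵇ 𝒜} {q q' : 𝒯 ⥤ᵇ ℬ} (θ : p ≅ p') (ψ : q ≅ q')
  (e : p ⊚ F ≅ q ⊚ K) (e' : p' ⊚ F ≅ q' ⊚ K)
  (compat : ∀ u : 𝒯.obj, F.toFunctor.map (θ.hom.toNatTrans.app u) ≫ e'.hom.toNatTrans.app u =
    e.hom.toNatTrans.app u ≫ K.toFunctor.map (ψ.hom.toNatTrans.app u))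

/-- Lifts to a fibre product of isomorphic data are isomorphic, objectwise. -/
def fpLiftCongrObj (u : 𝒯.obj) :
    (fpLift p q e).toFunctor.obj u ≅ (fpLift p' q' e').toFunctor.obj u :=
  mkIso (t := (fpLift p q e).toFunctor.obj u) (t' := (fpLift p' q' e').toFunctor.obj u)
    (((BasedNatTrans.forgetful _ _).mapIso θ).app u)
    (((BasedNatTrans.forgetful _ _).mapIso ψ).app u) (compat u)

theorem fpLiftCongrObj_vert (u : 𝒯.obj) : Vert (fpLiftCongrObj F K θ ψ e e' compat u).hom := by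
  rw [vert_hom_iff]
  exact Vert.app θ.hom u

/-- Lifts to a fibre product of isomorphic data are isomorphic. -/
def fpLiftCongr : fpLift p q e ≅ fpLift p' q' e' :=
  BasedNatIso.mkNatIso
    (NatIso.ofComponents (fun u => fpLiftCongrObj F K θ ψ e e' compat u)
      (fun {u u'} m => by
        apply Groth.Agent.Lib.Helper27.StackFp.hom_ext'
        · exact θ.hom.toNatTrans.naturality m
        · exact ψ.hom.toNatTrans.naturality m))
    (fun u => (fpLiftCongrObj_vert F K θ ψ e e' compat u).lift ((fpLift p q e).w_obj u))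

end Congr

section Restrict

open Groth.Agent.Lib.Helper27.LocQTriple Groth.Agent.Lib.Helper27.LocQEquiv

variable {𝒵' 𝒵 𝒴 : AlgSt.Cat S}

/-- The second leg of a chart square with smooth canonical lift is smooth on every part of the
chart which maps into an open substack on which the morphism is smooth. -/
theorem smooth_restrict (h𝒵' : FibCat.IsFibGrpd 𝒵'.p) (h𝒵 : FibCat.IsFibGrpd 𝒵.p)
    (h𝒴 : FibCat.IsFibGrpd 𝒴.p) (ι : 𝒵' ⥤ᵇ 𝒵) (hι : AlgSt.IsOpenImm ι) (g : 𝒵 ⥤ᵇ 𝒴)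
    (hg : AlgSt.LocQ (AlgSp.LocP @Smooth) (ι ⊚ g))
    {U V U' : Over S} (x : overCat U ⥤ᵇ 𝒵) (y : overCat V ⥤ᵇ 𝒴) (h : U ⟶ V)
    (α : x ⊚ g ≅ AlgSt.overMap h ⊚ y)
    (hy₁ : AlgSt.RepByAlgSpWith (AlgSp.LocP @Smooth) y)
    (hc : AlgSt.RepByAlgSpWith (AlgSp.LocP @Smooth) (fpLift x (AlgSt.overMap h) α))
    (j : U' ⟶ U) (hj : AlgSt.RepByAlgSpWith (AlgSp.LocP @Smooth) (AlgSt.overMap j))
    (x' : overCat U' ⥤ᵇ 𝒵') (θ : x' ⊚ ι ≅ AlgSt.overMap j ⊚ x) :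
    AlgSp.LocP @Smooth ((AlgSp.yon S).map (j ≫ h)) := by
  have hfU : FibCat.IsFibGrpd (overCat U).p :=
    Groth.Agent.Lib.Helper27.ReprAux.isFibGrpd_overCat U
  have hfU' : FibCat.IsFibGrpd (overCat U').p :=
    Groth.Agent.Lib.Helper27.ReprAux.isFibGrpd_overCat U'
  have hfV : FibCat.IsFibGrpd (overCat V).p :=
    Groth.Agent.Lib.Helper27.ReprAux.isFibGrpd_overCat V
  have hhom : homOf (AlgSt.overMap j ⊚ AlgSt.overMap h) = j ≫ h := by
    rw [homOf_comp_overMap, homOf_overMap]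
  rw [← hhom]
  obtain ⟨ψ, hψ⟩ : ∃ ψ : AlgSt.overMap j ⊚ AlgSt.overMap h ≅
      AlgSt.overMap (homOf (AlgSt.overMap j ⊚ AlgSt.overMap h)),
      ψ = isoOverMap (AlgSt.overMap j ⊚ AlgSt.overMap h) := ⟨_, rfl⟩
  obtain ⟨wl, hwl⟩ : ∃ wl : (AlgSt.overMap j ⊚ x) ⊚ g ≅ (AlgSt.overMap j ⊚ AlgSt.overMap h) ⊚ y,
      wl = whiskerLeftIso (AlgSt.overMap j) α := ⟨_, rfl⟩
  obtain ⟨α', hα'⟩ : ∃ α' : x' ⊚ (ι ⊚ g) ≅
      AlgSt.overMap (homOf (AlgSt.overMap j ⊚ AlgSt.overMap h)) ⊚ y,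
      α' = whiskerRightIso θ g ≪≫ wl ≪≫ whiskerRightIso ψ y := ⟨_, rfl⟩
  have compat : ∀ u : (overCat U').obj,
      g.toFunctor.map (θ.symm.hom.toNatTrans.app u) ≫ α'.hom.toNatTrans.app u =
        wl.hom.toNatTrans.app u ≫ y.toFunctor.map (ψ.hom.toNatTrans.app u) := by
    intro u
    have h1 : α'.hom.toNatTrans.app u = g.toFunctor.map (θ.hom.toNatTrans.app u) ≫
        wl.hom.toNatTrans.app u ≫ y.toFunctor.map (ψ.hom.toNatTrans.app u) := by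
      rw [hα']
      rfl
    have h2 : θ.symm.hom.toNatTrans.app u ≫ θ.hom.toNatTrans.app u = 𝟙 _ := by
      have h3 : θ.inv ≫ θ.hom = 𝟙 _ := θ.inv_hom_id
      have h4 := congrArg (fun t => t.toNatTrans.app u) h3
      exact h4
    rw [h1, ← Category.assoc, ← g.toFunctor.map_comp, h2, g.toFunctor.map_id, Category.id_comp]
  have hfp : FibCat.IsFibGrpd (fp g y).p :=
    Groth.Agent.Lib.Helper27.FpFib.isFibGrpd_fp _ _ h𝒵 hfV h𝒴
  have hm : AlgSt.IsOpenImm (mapFst g y ι) := repByAlgSpWith_mapFst g y ι _ hι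
  have e1 : fpLift x' (AlgSt.overMap (homOf (AlgSt.overMap j ⊚ AlgSt.overMap h))) α' ⊚
      mapFst g y ι ≅ fpLift (F := g) (G := y) (x' ⊚ ι)
        (AlgSt.overMap (homOf (AlgSt.overMap j ⊚ AlgSt.overMap h))) α' :=
    liftMapFst g y ι x' _ α'
  have e2 : fpLift (F := g) (G := y) (AlgSt.overMap j ⊚ x) (AlgSt.overMap j ⊚ AlgSt.overMap h) wl ≅
      fpLift (F := g) (G := y) (x' ⊚ ι)
        (AlgSt.overMap (homOf (AlgSt.overMap j ⊚ AlgSt.overMap h))) α' :=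
    fpLiftCongr g y θ.symm ψ wl α' compat
  have e3 : AlgSt.overMap j ⊚ fpLift x (AlgSt.overMap h) α =
      fpLift (F := g) (G := y) (AlgSt.overMap j ⊚ x) (AlgSt.overMap j ⊚ AlgSt.overMap h) wl := by
    rw [hwl]
    rfl
  have h4 : AlgSt.RepByAlgSpWith (AlgSp.LocP @Smooth)
      (AlgSt.overMap j ⊚ fpLift x (AlgSt.overMap h) α) :=
    comp_gen _ (compHyp_locP Groth.Agent.Lib.Helper3.isEtLocal_smooth) hfU' hfU _ _ hj hc
  rw [e3] at h4
  have h5 := repByAlgSpWith_of_iso _ (e2 ≪≫ e1.symm) h4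
  have h6 := Groth.Agent.Lib.Helper27.RepCancel.smooth_cancel_openImm _ _ hm h5
  exact Groth.Agent.Lib.Helper27.LocQAll.prop_of_locQ _
    Groth.Agent.Lib.Helper27.SmLocP.isSmoothLocalST_locP_smooth h𝒵' h𝒴 (ι ⊚ g) hg x' y _ α' hy₁ h6

end Restrict

section Union

open Groth.Agent.Lib.Helper27.LocQTriple Groth.Agent.Lib.Helper27.LocQEquiv
  Groth.Agent.Lib.Helper27.OpenSub Groth.Agent.Lib.Helper27.PointsKit

variable {𝒳 𝒴 : AlgSt.Cat S}

/-- The composition functor of a morphism of schemes with a stable property is representable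
with this property. -/
theorem repByAlgSpWith_overMap (P : MorphismProperty (AlgSp.Sp S))
    (hPb : ∀ ⦃X₁ Y₁ X₂ Y₂ : AlgSp.Sp S⦄, AlgSp.IsAlgSpace X₁ → AlgSp.IsAlgSpace Y₁ →
      AlgSp.IsAlgSpace X₂ → AlgSp.IsAlgSpace Y₂ → ∀ (a : X₁ ⟶ Y₁) (b : Y₂ ⟶ Y₁) (a' : X₂ ⟶ Y₂)
      (b' : X₂ ⟶ X₁), IsPullback b' a' a b → P a → P a')
    {U' U : Over S} (j : U' ⟶ U) (hj : P ((AlgSp.yon S).map j)) :
    AlgSt.RepByAlgSpWith P (AlgSt.overMap j) :=
  Groth.Agent.Lib.Helper27.RepWithGeneral.repByAlgSpWith_of_equiv' P (AlgSt.overMap j)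
    (AlgSt.ofSpMap ((AlgSp.yon S).map j)) (AlgSt.toOverCat U') (AlgSt.toOverCat U)
    (isEquivOver_toOverCat U') (isEquivOver_toOverCat U) (Iso.refl _)
    (Groth.Agent.Lib.Helper27.LocQComp.repByAlgSpWith_ofSpMap_of_stable P hPb
      (AlgSp.IsAlgSpace.yon_obj U') (AlgSp.IsAlgSpace.yon_obj U) _ hj)

theorem locP_smooth_yon_map {U' U : Over S} (j : U' ⟶ U) (hj : Smooth j.left) :
    AlgSp.LocP @Smooth ((AlgSp.yon S).map j) :=
  Groth.Agent.Lib.Helper3.locP_of_repWith Groth.Agent.Lib.Helper3.isEtLocal_smooth _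
    ((AlgSp.repWith_yon_map_iff @Smooth j).2 hj)

/-- A morphism of algebraic stacks is smooth on an open substack as soon as it is smooth on open
substacks covering it. -/
theorem locQ_smooth_union (h𝒳 : AlgSt.IsAlgStack Scheme.fppfPrecoverage 𝒳)
    (h𝒴 : AlgSt.IsAlgStack Scheme.fppfPrecoverage 𝒴) (f : 𝒳 ⥤ᵇ 𝒴) {I : Type*}
    (Q' : I → 𝒳.obj → Prop) (hQ' : ∀ i, AlgSt.IsOpenSubstack 𝒳 (Q' i) Scheme.fppfPrecoverage)
    (hf : ∀ i, AlgSt.LocQ (AlgSp.LocP @Smooth) (AlgSt.subIncl 𝒳 (Q' i) ⊚ f))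
    (Q : 𝒳.obj → Prop) (hQ : AlgSt.IsOpenSubstack 𝒳 Q Scheme.fppfPrecoverage)
    (hle : ∀ i a, Q' i a → Q a)
    (hrange : Set.range (AlgSt.Points.map (AlgSt.subIncl 𝒳 Q)) ⊆
      ⋃ i, Set.range (AlgSt.Points.map (AlgSt.subIncl 𝒳 (Q' i)))) :
    AlgSt.LocQ (AlgSp.LocP @Smooth) (AlgSt.subIncl 𝒳 Q ⊚ f) := by
  obtain ⟨V, y, hy₁, hy₂⟩ := h𝒴.atlas
  obtain ⟨U₀, x₀, hx₀₁, hx₀₂⟩ := hQ.2.1.atlas
  have hfQ : FibCat.IsFibGrpd (AlgSt.fullSub 𝒳 Q).p := hQ.2.1.isStack.1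
  have hf𝒴 : FibCat.IsFibGrpd 𝒴.p := h𝒴.isStack.1
  obtain ⟨U, x, h, α, hx₁, hx₂, hc₁, -⟩ :=
    exists_good_chart_surj hfQ hf𝒴 (AlgSt.subIncl 𝒳 Q ⊚ f) x₀ hx₀₁ hx₀₂ y hy₁ hy₂
  refine ⟨U, V, x, y, h, α, hx₁, hx₂, hy₁, ?_⟩
  apply locP_smooth_yon_map
  have key : ∀ u : ↥U.left, ∃ W : U.left.Opens, u ∈ W ∧ Smooth (W.ι ≫ h.left) := by
    intro u
    have hu : AlgSt.Points.ofChart (x ⊚ AlgSt.subIncl 𝒳 Q) u ∈
        Set.range (AlgSt.Points.map (AlgSt.subIncl 𝒳 Q)) :=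
      ⟨AlgSt.Points.ofChart x u, rfl⟩
    obtain ⟨i, hi⟩ := Set.mem_iUnion.1 (hrange hu)
    obtain ⟨W, hW⟩ := QW_locus h𝒳 _ (isOpen_range_subIncl h𝒳 (hQ' i)) U
      (x ⊚ AlgSt.subIncl 𝒳 Q)
    refine ⟨W, ?_, ?_⟩
    · obtain ⟨gu, hgu⟩ : ∃ gu : Over U, gu = Over.mk (Over.homMk (U.left.fromSpecResidueField u) rfl :
          Over.mk (U.left.fromSpecResidueField u ≫ U.hom) ⟶ U) := ⟨_, rfl⟩
      have h1 : QW (Set.range (AlgSt.Points.map (AlgSt.subIncl 𝒳 (Q' i))))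
          ((x ⊚ AlgSt.subIncl 𝒳 Q).toFunctor.obj gu) := by
        rw [hgu]
        exact QW_obj
          { K := ↥(U.left.residueField u)
            str := U.left.fromSpecResidueField u ≫ U.hom
            obj := (x ⊚ AlgSt.subIncl 𝒳 Q).obj (Over.mk (Over.homMk (U.left.fromSpecResidueField u) rfl :
              Over.mk (U.left.fromSpecResidueField u ≫ U.hom) ⟶ U))
            lies := (x ⊚ AlgSt.subIncl 𝒳 Q).w_obj _ } hi
      have h2 := (hW gu).1 h1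
      apply h2
      rw [hgu]
      exact ⟨IsLocalRing.closedPoint _, U.left.fromSpecResidueField_apply u _⟩
    · have hobj : ∀ g' : Over (opObj W), Q' i
          (((AlgSt.overMap (opHom W) ⊚ x) ⊚ AlgSt.subIncl 𝒳 Q).toFunctor.obj g') := by
        intro g'
        rw [iff_QW_range h𝒳 (hQ' i)]
        apply (hW ((AlgSt.overMap (opHom W)).toFunctor.obj g')).2
        rintro _ ⟨t, rfl⟩
        change (g'.hom.left ≫ W.ι) t ∈ (W : Set U.left)
        rw [Scheme.Hom.comp_apply]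
        exact (g'.hom.left t).2
      have hιopen : AlgSt.IsOpenImm
          (liftSub Q (AlgSt.subIncl 𝒳 (Q' i)) (fun a => hle i _ a.property)) :=
        repByAlgSpWith_of_comp_subIncl _ Q _ (hQ' i).2.2
      have hjsm : AlgSt.RepByAlgSpWith (AlgSp.LocP @Smooth) (AlgSt.overMap (opHom W)) :=
        repByAlgSpWith_overMap _ Groth.Agent.Lib.Helper27.RepCancel.smooth_baseChange _
          (locP_smooth_yon_map (opHom W) (by change Smooth W.ι; infer_instance))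
      have h3 := smooth_restrict (hQ' i).2.1.isStack.1 hfQ hf𝒴
        (liftSub Q (AlgSt.subIncl 𝒳 (Q' i)) (fun a => hle i _ a.property)) hιopen
        (AlgSt.subIncl 𝒳 Q ⊚ f) (hf i) x y h α hy₁ hc₁ (opHom W) hjsm
        (liftSub (Q' i) ((AlgSt.overMap (opHom W) ⊚ x) ⊚ AlgSt.subIncl 𝒳 Q) hobj) (Iso.refl _)
      exact AlgSp.locP_yon_map h3
  choose W hW₁ hW₂ using key
  have hsup : iSup W = ⊤ := by
    rw [eq_top_iff]
    intro u _
    exact TopologicalSpace.Opens.mem_iSup.2 ⟨u, hW₁ u⟩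
  have : IsZariskiLocalAtSource @Smooth.{u} := HasRingHomProperty.instIsZariskiLocalAtSource
  exact IsZariskiLocalAtSource.of_iSup_eq_top (P := @Smooth) W hsup hW₂

end Union

end Groth.Agent.Lib.Helper27.LocQSmoothOpen
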