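import Groth.Agent.Lib.Helper27.LocQFlatCancel2
import Groth.Agent.Lib.Helper27.LocQSmoothOpen
import Groth.Agent.Lib.Helper27.LocQRep
import Groth.Agent.Lib.Helper27.DiagIff
import Groth.Agent.Lib.Helper27.QcStack

/-!
# Algebraic stacks receiving a flat surjective morphism from the spectrum of a field (helper27)
-/

set_option autoImplicit false
set_option backward.isDefEq.respectTransparency false
set_option backward.isDefEq.respectTransparency.types false

universe u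

open CategoryTheory CategoryTheory.Limits AlgebraicGeometry Opposite FibCat
  Groth.Agent.Lib.Helper27.FpKit Groth.Agent.Lib.Helper27.LocQChart
  Groth.Agent.Lib.Helper27.LocQOver Groth.Agent.Lib.Helper27.LocQSmoothOpen
  Groth.Agent.Lib.Helper27.StPoints

namespace Groth.Agent.Lib.Helper27.FieldPt

variable {S : Scheme.{u}}

local infixr:80 " ⊚ " => BasedFunctor.comp

theorem homOf_id (V : Over S) : homOf (BasedFunctor.id (overCat V)) = 𝟙 V := by
  apply Over.OverMorphism.ext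
  simp [homOf]
  rfl

theorem repByAlgSpWith_smooth_id (V : Over S) :
    AlgSt.RepByAlgSpWith (AlgSp.LocP @Smooth) (BasedFunctor.id (overCat V)) := by
  refine repByAlgSpWith_of_iso _ (isoOverMap (BasedFunctor.id (overCat V))).symm ?_
  rw [homOf_id]
  exact repByAlgSpWith_overMap _ Groth.Agent.Lib.Helper27.RepCancel.smooth_baseChange _
    (locP_smooth_yon_map _ (by change Smooth (𝟙 V.left); infer_instance))

/-- Every functor from an algebraic stack to the spectrum of a field is flat. -/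
theorem locQ_flat_of_field {𝒯 : AlgSt.Cat S} (h𝒯 : AlgSt.IsAlgStack Scheme.fppfPrecoverage 𝒯)
    (V : Over S) [Subsingleton V.left] [IsIntegral V.left] (F : 𝒯 ⥤ᵇ overCat V) :
    AlgSt.LocQ (AlgSp.LocP @Flat) F := by
  obtain ⟨U, x, hx₁, hx₂⟩ := h𝒯.atlas
  refine ⟨U, V, x, BasedFunctor.id _, homOf (x ⊚ F), isoOverMap (x ⊚ F), hx₁, hx₂,
    repByAlgSpWith_smooth_id V, ?_⟩
  exact Groth.Agent.Lib.Helper3.locP_of_repWith Groth.Agent.Lib.Helper3.isEtLocal_flat _
    ((AlgSp.repWith_yon_map_iff @Flat _).2 inferInstance)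

/-- If an algebraic stack receives a flat surjective morphism from a scheme with one point which
is integral (the spectrum of a field), then every functor to it from an algebraic stack is flat. -/
theorem locQ_flat_of_fieldPt {𝒵 𝒯 : AlgSt.Cat S} (h𝒵 : AlgSt.IsAlgStack Scheme.fppfPrecoverage 𝒵)
    (h𝒯 : AlgSt.IsAlgStack Scheme.fppfPrecoverage 𝒯)
    (V : Over S) [Subsingleton V.left] [IsIntegral V.left] (z : overCat V ⥤ᵇ 𝒵)
    (hzs : AlgSt.RepByAlgSpWith AlgSp.IsSurjectiveMor z)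
    (hzf : AlgSt.RepByAlgSpWith (AlgSp.LocP @Flat) z) (z' : 𝒯 ⥤ᵇ 𝒵) :
    AlgSt.LocQ (AlgSp.LocP @Flat) z' := by
  have hV : AlgSt.IsAlgStack Scheme.fppfPrecoverage (overCat V) :=
    Groth.Agent.Lib.Helper27.QcStack.isAlgStack_overCat _
  obtain ⟨W, y, hy₁, hy₂⟩ := h𝒵.atlas
  have hzL : AlgSt.LocQ (AlgSp.LocP @Flat) z :=
    Groth.Agent.Lib.Helper27.LocQRep.locQ_of_repByAlgSpWith _
      Groth.Agent.Lib.Helper27.SmLocP.isSmoothLocalST_locP_flat z y hy₁ hy₂ hzf
  have hzS : AlgSt.IsSurjective z :=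
    isSurjective_of_rep (Groth.Agent.Lib.Helper27.ReprAux.isFibGrpd_overCat V) h𝒵.isStack.1 z hzs
  have hfp : AlgSt.IsAlgStack Scheme.fppfPrecoverage (fp z z') :=
    Groth.Agent.Lib.Helper27.AlgStackFp.isAlgStack_fp z z' h𝒵.isStack h𝒵.diag hV h𝒯
  exact Groth.Agent.Lib.Helper27.LocQFlatCancel.locQ_flat_of_fpFst h𝒯 h𝒵 hV z' z hzL hzS
    (locQ_flat_of_field hfp V _)

theorem subsingleton_points_of_fieldPt {𝒵 : AlgSt.Cat S}
    (h𝒵 : AlgSt.IsAlgStack Scheme.fppfPrecoverage 𝒵)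
    (V : Over S) [Subsingleton V.left] (z : overCat V ⥤ᵇ 𝒵)
    (hzs : AlgSt.RepByAlgSpWith AlgSp.IsSurjectiveMor z) : Subsingleton (AlgSt.Points 𝒵) := by
  have hzS : AlgSt.IsSurjective z :=
    isSurjective_of_rep (Groth.Agent.Lib.Helper27.ReprAux.isFibGrpd_overCat V) h𝒵.isStack.1 z hzs
  refine ⟨fun p p' => ?_⟩
  obtain ⟨q, rfl⟩ := hzS p
  obtain ⟨q', rfl⟩ := hzS p'
  obtain ⟨t, rfl⟩ := (ptOf_bijective V).2 q
  obtain ⟨t', rfl⟩ := (ptOf_bijective V).2 q'
  rw [Subsingleton.elim t t']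

/-- If an algebraic stack receives a flat surjective morphism from the spectrum of a field, then
every morphism to it from a nonempty scheme is flat and surjective. -/
theorem surjective_flat_of_fieldPt {𝒵 : AlgSt.Cat S}
    (h𝒵 : AlgSt.IsAlgStack Scheme.fppfPrecoverage 𝒵)
    (V : Over S) [Subsingleton V.left] [IsIntegral V.left] (z : overCat V ⥤ᵇ 𝒵)
    (hzs : AlgSt.RepByAlgSpWith AlgSp.IsSurjectiveMor z)
    (hzf : AlgSt.RepByAlgSpWith (AlgSp.LocP @Flat) z)
    (V' : Over S) [Nonempty V'.left] (z' : overCat V' ⥤ᵇ 𝒵) :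
    AlgSt.RepByAlgSpWith AlgSp.IsSurjectiveMor z' ∧
      AlgSt.RepByAlgSpWith (AlgSp.LocP @Flat) z' := by
  have hV' : AlgSt.IsAlgStack Scheme.fppfPrecoverage (overCat V') :=
    Groth.Agent.Lib.Helper27.QcStack.isAlgStack_overCat _
  have hz'1 : AlgSt.RepByAlgSp1 z' :=
    Groth.Agent.Lib.Helper27.DiagIff.chart_of_diag h𝒵.isStack.1 h𝒵.diag V' z'
  have hsub := subsingleton_points_of_fieldPt h𝒵 V z hzs
  constructor
  · refine rep_of_isSurjective (Groth.Agent.Lib.Helper27.ReprAux.isFibGrpd_overCat V')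
      h𝒵.isStack.1 z' hz'1 (fun p => ?_)
    obtain ⟨t⟩ := (inferInstance : Nonempty V'.left)
    exact ⟨ptOf V' t, Subsingleton.elim _ _⟩
  · exact Groth.Agent.Lib.Helper27.LocQRep.repByAlgSpWith_of_locQ _
      Groth.Agent.Lib.Helper27.SmLocP.isSmoothLocalST_locP_flat
      Groth.Agent.Lib.Helper27.LocQFlatCancel.flat_baseChange z' hz'1
      (locQ_flat_of_fieldPt h𝒵 hV' V z hzs hzf z')

end Groth.Agent.Lib.Helper27.FieldPt
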