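import Groth.Agent.Lib.Helper27.OpenSub2
import Groth.Agent.S9906

/-!
# Open substacks and open sets of points (helper27)
-/

set_option autoImplicit false
set_option backward.isDefEq.respectTransparency false
set_option backward.isDefEq.respectTransparency.types false

universe u

open CategoryTheory CategoryTheory.Limits FibCat AlgebraicGeometry Opposite
  Groth.Agent.Lib.Helper27.FpKit Groth.Agent.Lib.Helper27.PointsKit
  Groth.Agent.Lib.Helper27.StPoints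

namespace Groth.Agent.Lib.Helper27.OpenSub

variable {S : Scheme.{u}} {𝒳 : AlgSt.Cat S}

section Char

variable {Q : 𝒳.obj → Prop}

theorem isSurjectiveMor_of_forall_mem_range (h𝒳 : AlgSt.IsAlgStack Scheme.fppfPrecoverage 𝒳)
    (hQ : AlgSt.IsOpenSubstack 𝒳 Q Scheme.fppfPrecoverage) {T : Over S} (y : overCat T ⥤ᵇ 𝒳)
    (h : ∀ t : ↥T.left, AlgSt.Points.ofChart y t ∈
      Set.range (AlgSt.Points.map (AlgSt.subIncl 𝒳 Q)))
    (F : AlgSp.Space S) (e : AlgSt.ofSp F.obj ⥤ᵇ fp y (AlgSt.subIncl 𝒳 Q)) (he : IsEquivOver e) :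
    AlgSp.IsSurjectiveMor (AlgSt.spMapOfOver
      (BasedFunctor.comp e (fpFst y (AlgSt.subIncl 𝒳 Q)))) := by
  intro τ
  obtain ⟨t, rfl⟩ := (AlgSp.Points.schemeHomeo T).surjective τ
  obtain ⟨q, hq⟩ := h t
  rw [ofChart_eq] at hq
  obtain ⟨w, hw, -⟩ := exists_points_fp hQ.2.1.isStack.1 h𝒳.isStack.1
    (Groth.Agent.Lib.Helper27.ReprAux.isFibGrpd_overCat T) (AlgSt.subIncl 𝒳 Q) y (ptOf T t) q
    hq.symm
  obtain ⟨w', rfl⟩ := map_surjective_of_equiv e he w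
  obtain ⟨φ, rfl⟩ := toSt_surjective F.obj w'
  refine ⟨φ, ?_⟩
  have h1 := map_toSt_eq (BasedFunctor.comp e (fpFst y (AlgSt.subIncl 𝒳 Q))) φ
  rw [map_comp, hw] at h1
  have h2 := (ptOf_bijective T).1 h1
  rw [h2, Homeomorph.apply_symm_apply]

theorem of_forall_mem_range (h𝒳 : AlgSt.IsAlgStack Scheme.fppfPrecoverage 𝒳)
    (hQ : AlgSt.IsOpenSubstack 𝒳 Q Scheme.fppfPrecoverage) {T : Over S} (y : overCat T ⥤ᵇ 𝒳)
    (h : ∀ t : ↥T.left, AlgSt.Points.ofChart y t ∈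
      Set.range (AlgSt.Points.map (AlgSt.subIncl 𝒳 Q))) :
    Q (y.toFunctor.obj (Over.mk (𝟙 T))) := by
  obtain ⟨F, e, he, hπ⟩ := hQ.2.2 T y
  have hsurj := isSurjectiveMor_of_forall_mem_range h𝒳 hQ y h F e he
  obtain ⟨Φ, hΦ⟩ : ∃ Φ : AlgSt.ofSp F.obj ⥤ᵇ overCat T,
    Φ = BasedFunctor.comp e (fpFst y (AlgSt.subIncl 𝒳 Q)) := ⟨_, rfl⟩
  rw [← hΦ] at hπ hsurj
  have hrs : AlgSp.RepWith @Surjective (AlgSt.spMapOfOver Φ) :=
    (Groth.Agent.S9906.repWith_surjective_iff _ hπ.rep).2 hsurj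
  have sq := hπ.rep.isPullback (𝟙 ((AlgSp.yon S).obj T))
  have ho : IsOpenImmersion (hπ.rep.snd (𝟙 ((AlgSp.yon S).obj T))).left := hπ.2 _ _ _ sq
  have hs : Surjective (hπ.rep.snd (𝟙 ((AlgSp.yon S).obj T))).left := hrs.2 _ _ _ sq
  have hiso : IsIso (hπ.rep.snd (𝟙 ((AlgSp.yon S).obj T))).left :=
    (isIso_iff_isOpenImmersion_and_surjective _).2 ⟨ho, hs⟩
  have hiso' : IsIso (hπ.rep.snd (𝟙 ((AlgSp.yon S).obj T))) := by
    have : IsIso ((Over.forget S).map (hπ.rep.snd (𝟙 ((AlgSp.yon S).obj T)))) := hiso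
    exact isIso_of_reflects_iso _ (Over.forget S)
  obtain ⟨V₀, fst, snd, hsq, hsnd⟩ : ∃ (V₀ : Over S) (fst : (AlgSp.yon S).obj V₀ ⟶ F.obj)
      (snd : V₀ ⟶ T), fst ≫ AlgSt.spMapOfOver Φ = (AlgSp.yon S).map snd ∧ IsIso snd :=
    ⟨_, hπ.rep.fst (𝟙 _), hπ.rep.snd (𝟙 _), by rw [sq.w, Category.comp_id], hiso'⟩
  let A : (AlgSt.ofSp F.obj).obj := ⟨V₀, fst.hom.app (op V₀) ⟨𝟙 V₀⟩⟩
  have hsec : AlgSt.secHom Φ A = snd := by
    have h1 : (AlgSt.spMapOfOver Φ).hom.app (op V₀) (fst.hom.app (op V₀) ⟨𝟙 V₀⟩) =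
        ⟨AlgSt.secHom Φ A⟩ := AlgSt.spMapOfOver_app Φ V₀ _
    have h2 : (AlgSt.spMapOfOver Φ).hom.app (op V₀) (fst.hom.app (op V₀) ⟨𝟙 V₀⟩) =
        ((AlgSp.yon S).map snd).hom.app (op V₀) ⟨𝟙 V₀⟩ := by
      rw [← hsq]
      rfl
    have h3 : ((AlgSp.yon S).map snd).hom.app (op V₀) ⟨𝟙 V₀⟩ = ⟨𝟙 V₀ ≫ snd⟩ := rfl
    rw [h1, h3, Category.id_comp] at h2
    exact congrArg ULift.down h2
  have hpull := pull_of_isOpenSubstack h𝒳.isStack.1 hQ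
  have hA : Q (y.toFunctor.obj (Φ.toFunctor.obj A)) := by
    rw [hΦ]
    exact hpull (e.toFunctor.obj A).obj.iso.hom (e.toFunctor.obj A).obj.snd.property
  have hm : (inv snd ≫ eqToHom (Φ.w_obj A).symm) ≫ (Φ.toFunctor.obj A).hom =
      (Over.mk (𝟙 T)).hom := by
    have h4 : eqToHom (Φ.w_obj A).symm ≫ (Φ.toFunctor.obj A).hom = snd := hsec
    rw [Category.assoc, h4]
    exact IsIso.inv_hom_id snd
  exact hpull (y.toFunctor.map (Over.homMk (inv snd ≫ eqToHom (Φ.w_obj A).symm) hm :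
    Over.mk (𝟙 T) ⟶ Φ.toFunctor.obj A)) hA

/-- An open substack is determined by its set of points: an object belongs to it exactly when all
its field-valued points do. -/
theorem iff_QW_range (h𝒳 : AlgSt.IsAlgStack Scheme.fppfPrecoverage 𝒳)
    (hQ : AlgSt.IsOpenSubstack 𝒳 Q Scheme.fppfPrecoverage) (a : 𝒳.obj) :
    Q a ↔ QW (Set.range (AlgSt.Points.map (AlgSt.subIncl 𝒳 Q))) a := by
  have hpull := pull_of_isOpenSubstack h𝒳.isStack.1 hQ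
  constructor
  · rintro ha p ⟨ψ⟩
    exact ⟨AlgSt.Points.mk { K := p.K, str := p.str, obj := ⟨p.obj, hpull ψ ha⟩, lies := p.lies },
      rfl⟩
  · intro h
    obtain ⟨y, ι, -⟩ := Groth.Agent.Lib.Helper27.MonoFF.exists_yoneda h𝒳.isStack.1 a
      (rfl : 𝒳.p.obj a = 𝒳.p.obj a)
    have h1 : Q (y.toFunctor.obj (Over.mk (𝟙 (𝒳.p.obj a)))) := by
      apply of_forall_mem_range h𝒳 hQ y
      intro t
      exact h _ ⟨y.toFunctor.map (Over.homMk (Over.homMk ((𝒳.p.obj a).left.fromSpecResidueField t) rfl :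
        Over.mk ((𝒳.p.obj a).left.fromSpecResidueField t ≫ (𝒳.p.obj a).hom) ⟶ 𝒳.p.obj a)
        (Category.comp_id _) : Over.mk (Over.homMk ((𝒳.p.obj a).left.fromSpecResidueField t) rfl :
        Over.mk ((𝒳.p.obj a).left.fromSpecResidueField t ≫ (𝒳.p.obj a).hom) ⟶ 𝒳.p.obj a) ⟶
          Over.mk (𝟙 (𝒳.p.obj a))) ≫ ι.hom⟩
    have := hQ.1
    exact ObjectProperty.IsClosedUnderIsomorphisms.of_iso ι h1

theorem isOpen_range_subIncl (h𝒳 : AlgSt.IsAlgStack Scheme.fppfPrecoverage 𝒳)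
    (hQ : AlgSt.IsOpenSubstack 𝒳 Q Scheme.fppfPrecoverage) :
    IsOpen (Set.range (AlgSt.Points.map (AlgSt.subIncl 𝒳 Q))) :=
  isOpen_range_of_isOpenImm hQ.2.1 h𝒳.isStack.1 _ hQ.2.2

theorem le_iff_range_subset (h𝒳 : AlgSt.IsAlgStack Scheme.fppfPrecoverage 𝒳) {Q' : 𝒳.obj → Prop}
    (hQ : AlgSt.IsOpenSubstack 𝒳 Q Scheme.fppfPrecoverage)
    (hQ' : AlgSt.IsOpenSubstack 𝒳 Q' Scheme.fppfPrecoverage) :
    (∀ y, Q y → Q' y) ↔ Set.range (AlgSt.Points.map (AlgSt.subIncl 𝒳 Q)) ⊆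
      Set.range (AlgSt.Points.map (AlgSt.subIncl 𝒳 Q')) := by
  constructor
  · rintro h _ ⟨q, rfl⟩
    obtain ⟨q, rfl⟩ := AlgSt.Points.mk_surjective q
    exact ⟨AlgSt.Points.mk
      { K := q.K, str := q.str, obj := ⟨q.obj.obj, h _ q.obj.property⟩, lies := q.lies }, rfl⟩
  · intro h y hy
    rw [iff_QW_range h𝒳 hQ'] 
    exact QW_mono h y ((iff_QW_range h𝒳 hQ y).1 hy)

theorem bijOn_range (h𝒳 : AlgSt.IsAlgStack Scheme.fppfPrecoverage 𝒳) :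
    Set.BijOn (fun Q : 𝒳.obj → Prop => Set.range (AlgSt.Points.map (AlgSt.subIncl 𝒳 Q)))
      {Q | AlgSt.IsOpenSubstack 𝒳 Q Scheme.fppfPrecoverage} {T | IsOpen T} := by
  refine ⟨fun Q hQ => isOpen_range_subIncl h𝒳 hQ, ?_, ?_⟩
  · intro Q hQ Q' hQ' heq
    funext a
    apply propext
    have heq' : Set.range (AlgSt.Points.map (AlgSt.subIncl 𝒳 Q)) =
      Set.range (AlgSt.Points.map (AlgSt.subIncl 𝒳 Q')) := heq
    rw [iff_QW_range h𝒳 hQ, iff_QW_range h𝒳 hQ', heq']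
  · intro W hW
    exact ⟨QW W, isOpenSubstack_QW h𝒳 W hW, range_subIncl_QW W⟩

theorem exists_union (h𝒳 : AlgSt.IsAlgStack Scheme.fppfPrecoverage 𝒳) {ι : Type*}
    (Q : ι → 𝒳.obj → Prop) (hQ : ∀ i, AlgSt.IsOpenSubstack 𝒳 (Q i) Scheme.fppfPrecoverage) :
    ∃ Q' : 𝒳.obj → Prop, AlgSt.IsOpenSubstack 𝒳 Q' Scheme.fppfPrecoverage ∧
      (∀ i y, Q i y → Q' y) ∧
      Set.range (AlgSt.Points.map (AlgSt.subIncl 𝒳 Q')) =
        ⋃ i, Set.range (AlgSt.Points.map (AlgSt.subIncl 𝒳 (Q i))) := by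
  refine ⟨QW (⋃ i, Set.range (AlgSt.Points.map (AlgSt.subIncl 𝒳 (Q i)))),
    isOpenSubstack_QW h𝒳 _ (isOpen_iUnion fun i => isOpen_range_subIncl h𝒳 (hQ i)), ?_,
    range_subIncl_QW _⟩
  intro i y hy
  exact QW_mono (Set.subset_iUnion _ i) y ((iff_QW_range h𝒳 (hQ i) y).1 hy)

end Char

end Groth.Agent.Lib.Helper27.OpenSub
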