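import Groth.Agent.Lib.Helper27.StPointsSp
import Groth.Agent.Lib.Helper27.RepChart
import Groth.Agent.Lib.Helper27.TwoYonedaFib

/-!
# Surjectivity on points and surjective representable functors (helper27)
-/

set_option autoImplicit false
set_option backward.isDefEq.respectTransparency false
set_option backward.isDefEq.respectTransparency.types false

universe u

open CategoryTheory CategoryTheory.Limits FibCat AlgebraicGeometry Opposite
  Groth.Agent.Lib.Helper27.FpKit Groth.Agent.Lib.Helper16.FpFibGrpd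
  Groth.Agent.Lib.Helper27.PointsKit

namespace Groth.Agent.Lib.Helper27.StPoints

variable {S : Scheme.{u}}

theorem isFibered_of_isFibGrpd {𝒳 : AlgSt.Cat S} (h : FibCat.IsFibGrpd 𝒳.p) : 𝒳.p.IsFibered :=
  Functor.IsFibered.of_exists_isStronglyCartesian (fun a R f => by
    obtain ⟨b, φ, hφ⟩ := h.exists_lift f
    exact ⟨b, φ, FibGrpd.isStronglyCartesian 𝒳.p h f φ⟩)

theorem isSurjectiveMor_iff {F G : AlgSp.Sp S} (c : F ⟶ G) :
    AlgSp.IsSurjectiveMor c ↔ AlgSt.IsSurjective (AlgSt.ofSpMap c) := by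
  constructor
  · intro h y
    obtain ⟨φ, rfl⟩ := toSt_surjective G y
    obtain ⟨x, rfl⟩ := h φ
    exact ⟨toSt F x, toSt_map c x⟩
  · intro h φ
    obtain ⟨x', hx'⟩ := h (toSt G φ)
    obtain ⟨x, rfl⟩ := toSt_surjective F x'
    rw [toSt_map] at hx'
    exact ⟨x, toSt_injective G hx'⟩

theorem map_iso {𝒳 𝒴 : AlgSt.Cat S} {f f' : 𝒳 ⥤ᵇ 𝒴} (e : f ≅ f') (x : AlgSt.Points 𝒳) :
    AlgSt.Points.map f x = AlgSt.Points.map f' x :=
  map_congr f f' (fun a => ⟨e.hom.toNatTrans.app a⟩) x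

/-- A functor from the category of a sheaf to a slice is surjective on points exactly when its
structure map is. -/
theorem isSurjectiveMor_spMapOfOver_iff {F : AlgSp.Sp S} {U : Over S}
    (Ψ : AlgSt.ofSp F ⥤ᵇ overCat U) :
    AlgSp.IsSurjectiveMor (AlgSt.spMapOfOver Ψ) ↔ AlgSt.IsSurjective Ψ := by
  have hb := map_bijective_of_equiv (AlgSt.toOverCat U)
    (Groth.Agent.Lib.Helper27.PshRep.isEquivOver_toOverCat U)
  have key : ∀ x, AlgSt.Points.map Ψ x = AlgSt.Points.map (AlgSt.toOverCat U)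
      (AlgSt.Points.map (AlgSt.ofSpMap (AlgSt.spMapOfOver Ψ)) x) := by
    intro x
    rw [← map_comp]
    exact (map_iso (Groth.Agent.Lib.Helper27.RepChart.structIso Ψ) x).symm
  rw [isSurjectiveMor_iff]
  constructor
  · intro h y
    obtain ⟨y', rfl⟩ := hb.2 y
    obtain ⟨x, rfl⟩ := h y'
    exact ⟨x, key x⟩
  · intro h y'
    obtain ⟨x, hx⟩ := h (AlgSt.Points.map (AlgSt.toOverCat U) y')
    rw [key] at hx
    exact ⟨x, hb.1 hx⟩

variable {𝒳 𝒴 : AlgSt.Cat S}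

theorem rep_of_isSurjective (h𝒳 : FibCat.IsFibGrpd 𝒳.p) (h𝒴 : FibCat.IsFibGrpd 𝒴.p)
    (f : 𝒳 ⥤ᵇ 𝒴) (hf1 : AlgSt.RepByAlgSp1 f) (hf : AlgSt.IsSurjective f) :
    AlgSt.RepByAlgSpWith AlgSp.IsSurjectiveMor f := by
  intro U t
  obtain ⟨F, e, he⟩ := hf1 U t
  refine ⟨F, e, he, ?_⟩
  rw [isSurjectiveMor_spMapOfOver_iff]
  intro y
  obtain ⟨w, hw⟩ := isSurjective_fpFst h𝒳 h𝒴
    (Groth.Agent.Lib.Helper27.ReprAux.isFibGrpd_overCat U) f t hf y
  obtain ⟨x, rfl⟩ := map_surjective_of_equiv e he w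
  exact ⟨x, (map_comp e (fpFst t f) x).trans hw⟩

/-- The functor from a slice over the spectrum of a field attached to a field-valued point. -/
theorem exists_chart_of_fPt (h𝒴 : FibCat.IsFibGrpd 𝒴.p) (q : AlgSt.FPt 𝒴) :
    ∃ (t : overCat (Over.mk q.str) ⥤ᵇ 𝒴) (pt₀ : AlgSt.FPt (overCat (Over.mk q.str))),
      AlgSt.Points.map t (AlgSt.Points.mk pt₀) = AlgSt.Points.mk q := by
  haveI := isFibered_of_isFibGrpd h𝒴
  let T : Over S := Over.mk q.str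
  let t : overCat T ⥤ᵇ 𝒴 := Groth.Agent.Lib.Helper27.TwoYonedaFib.cFun T q.obj q.lies
  let pt₀ : AlgSt.FPt (overCat T) := ⟨q.K, q.str, Over.mk (𝟙 T), rfl⟩
  refine ⟨t, pt₀, ?_⟩
  rw [AlgSt.Points.map_mk]
  exact AlgSt.Points.sound (rel_of_hom (p := pt₀.map t) (q := q)
    (Groth.Agent.Lib.Helper27.TwoYonedaFib.cHom T q.obj q.lies (Over.mk (𝟙 T))))

theorem isSurjective_of_rep (h𝒳 : FibCat.IsFibGrpd 𝒳.p) (h𝒴 : FibCat.IsFibGrpd 𝒴.p)
    (f : 𝒳 ⥤ᵇ 𝒴) (hf : AlgSt.RepByAlgSpWith AlgSp.IsSurjectiveMor f) : AlgSt.IsSurjective f := by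
  intro y
  obtain ⟨q, rfl⟩ := AlgSt.Points.mk_surjective y
  obtain ⟨t, pt₀, ht⟩ := exists_chart_of_fPt h𝒴 q
  obtain ⟨F, e, he, hs⟩ := hf _ t
  rw [isSurjectiveMor_spMapOfOver_iff] at hs
  obtain ⟨x₀, hx₀⟩ := hs (AlgSt.Points.mk pt₀)
  rw [map_comp] at hx₀
  refine ⟨AlgSt.Points.map (fpSnd t f) (AlgSt.Points.map e x₀), ?_⟩
  rw [← map_comp, ← map_iso (fpIso t f), map_comp, hx₀, ht]

end Groth.Agent.Lib.Helper27.StPoints
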