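import Groth.Agent.Lib.Helper27.LocQOver
import Groth.Agent.Lib.Helper27.DiagTransport
import Groth.Agent.Lib.Helper3.AlgSpQC3

/-!
# Composition of chart squares (helper27)
-/

set_option autoImplicit false
set_option backward.isDefEq.respectTransparency false
set_option backward.isDefEq.respectTransparency.types false

universe v₄ u₄ v₃ u₃ v₂ u₂ u

open CategoryTheory CategoryTheory.Limits AlgebraicGeometry Opposite FibCat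
  Groth.Agent.Lib.Helper27.FpKit Groth.Agent.Lib.Helper27.PshKit Groth.Agent.Lib.Helper27.PshFp
  Groth.Agent.Lib.Helper27.PshRep Groth.Agent.Lib.Helper27.RepWithComp
  Groth.Agent.Lib.Helper27.Descent Groth.Agent.Lib.Helper27.LocQChart
  Groth.Agent.Lib.Helper27.LocQSpace Groth.Agent.Lib.Helper27.LocQOver
  Groth.Agent.Lib.Helper27.DiagTransport

namespace Groth.Agent.Lib.Helper27.LocQComp

variable {S : Scheme.{u}}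

open Stk

section Stable

/-- A map of algebraic spaces with a property stable under base change gives a functor
representable by algebraic spaces with this property. -/
theorem repByAlgSpWith_ofSpMap_of_stable (R : MorphismProperty (AlgSp.Sp S))
    (hRb : ∀ ⦃X₁ Y₁ X₂ Y₂ : AlgSp.Sp S⦄, AlgSp.IsAlgSpace X₁ → AlgSp.IsAlgSpace Y₁ →
      AlgSp.IsAlgSpace X₂ → AlgSp.IsAlgSpace Y₂ → ∀ (a : X₁ ⟶ Y₁) (b : Y₂ ⟶ Y₁) (a' : X₂ ⟶ Y₂)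
      (b' : X₂ ⟶ X₁), IsPullback b' a' a b → R a → R a')
    {X Y : AlgSp.Sp S} (hX : AlgSp.IsAlgSpace X) (hY : AlgSp.IsAlgSpace Y) (g : X ⟶ Y)
    (hg : R g) : AlgSt.RepByAlgSpWith R (AlgSt.ofSpMap g) :=
  repByAlgSpWith_ofSpMap_of_forall R hX hY g
    (fun V b _ fst snd sq hW => hRb hX hY hW (AlgSp.IsAlgSpace.yon_obj V) g b snd fst sq hg)

theorem smooth_stable ⦃X₁ Y₁ X₂ Y₂ : AlgSp.Sp S⦄ (h1 : AlgSp.IsAlgSpace X₁)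
    (h2 : AlgSp.IsAlgSpace Y₁) (h3 : AlgSp.IsAlgSpace X₂) (h4 : AlgSp.IsAlgSpace Y₂)
    (a : X₁ ⟶ Y₁) (b : Y₂ ⟶ Y₁) (a' : X₂ ⟶ Y₂) (b' : X₂ ⟶ X₁) (sq : IsPullback b' a' a b)
    (ha : AlgSp.LocP @Smooth a) : AlgSp.LocP @Smooth a' :=
  Groth.Agent.Lib.Helper3.locP_of_isPullback Groth.Agent.Lib.Helper3.isEtLocal_smooth h1 h2 h4 h3
    a b b' a' sq ha

theorem surj_stable ⦃X₁ Y₁ X₂ Y₂ : AlgSp.Sp S⦄ (_ : AlgSp.IsAlgSpace X₁)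
    (_ : AlgSp.IsAlgSpace Y₁) (_ : AlgSp.IsAlgSpace X₂) (_ : AlgSp.IsAlgSpace Y₂)
    (a : X₁ ⟶ Y₁) (b : Y₂ ⟶ Y₁) (a' : X₂ ⟶ Y₂) (b' : X₂ ⟶ X₁) (sq : IsPullback b' a' a b)
    (ha : AlgSp.IsSurjectiveMor a) : AlgSp.IsSurjectiveMor a' :=
  Groth.Agent.Lib.Helper3.isSurjectiveMor_snd_of_isPullback sq ha

/-- The structure map of a functor from an algebraic space to a slice which is representable
with a property has this property. -/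
theorem prop_structMap (R : MorphismProperty (AlgSp.Sp S)) (H : CompHyp R) {F : AlgSp.Sp S}
    (hF : AlgSp.IsAlgSpace F) {T : Over S} (Φ : AlgSt.ofSp F ⥤ᵇ overCat T)
    (h : AlgSt.RepByAlgSpWith R Φ) :
    R (ObjectProperty.homMk (pshMapOf (BasedFunctor.comp Φ (AlgSt.ofOverCat T))) :
      F ⟶ (AlgSp.yon S).obj T) := by
  apply prop_of_repByAlgSpWith R H hF (AlgSp.IsAlgSpace.yon_obj T)
  have h1 : AlgSt.RepByAlgSpWith R (BasedFunctor.comp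
      (Stk.ofPshMap (pshMapOf (BasedFunctor.comp Φ (AlgSt.ofOverCat T)))) (AlgSt.toOverCat T)) :=
    repByAlgSpWith_of_iso R (κΦ Φ).symm h
  exact Groth.Agent.Lib.Helper27.RepWithGeneral.repByAlgSpWith_of_equiv R _ _ (BasedFunctor.id _)
    (AlgSt.toOverCat T) (isEquivOver_id _) (isEquivOver_toOverCat T) (Iso.refl _) h1

end Stable

section Comp

variable {𝒳 𝒴 𝒵 : AlgSt.Cat S}

local infixr:80 " ⊚ " => BasedFunctor.comp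

/-- Chart squares compose. -/
theorem locQ_comp (P : MorphismProperty (AlgSp.Sp S)) (hP : AlgSp.IsSmoothLocalST P)
    (hPc : ∀ ⦃X₁ Y₁ Z₁ : AlgSp.Sp S⦄, AlgSp.IsAlgSpace X₁ → AlgSp.IsAlgSpace Y₁ →
      AlgSp.IsAlgSpace Z₁ → ∀ (a : X₁ ⟶ Y₁) (b : Y₁ ⟶ Z₁), P a → P b → P (a ≫ b))
    (f : 𝒳 ⥤ᵇ 𝒴) (g : 𝒴 ⥤ᵇ 𝒵) (hf : AlgSt.LocQ P f) (hg : AlgSt.LocQ P g) :
    AlgSt.LocQ P (BasedFunctor.comp f g) := by
  obtain ⟨U, V, x, y, h, α, hx₁, hx₂, hy₁, hPh⟩ := hf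
  obtain ⟨V', W, y', w, k, β, hy'₁, hy'₂, hw₁, hPk⟩ := hg
  obtain ⟨B, eB, heB, hb₁s⟩ := hy'₁ V y
  obtain ⟨B₂, eB₂, heB₂, hb₁j⟩ := hy'₂ V y
  obtain ⟨b₁, hb₁⟩ : ∃ b₁ : B.obj ⟶ (AlgSp.yon S).obj V, b₁ = ObjectProperty.homMk
      (pshMapOf ((eB ⊚ fpFst y y') ⊚ AlgSt.ofOverCat V)) := ⟨_, rfl⟩
  obtain ⟨b₂, hb₂⟩ : ∃ b₂ : B.obj ⟶ (AlgSp.yon S).obj V', b₂ = ObjectProperty.homMk
      (pshMapOf ((eB ⊚ fpSnd y y') ⊚ AlgSt.ofOverCat V')) := ⟨_, rfl⟩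
  have hb₁eq : b₁ = AlgSt.spMapOfOver (eB ⊚ fpFst y y') := by
    rw [hb₁]
    apply ObjectProperty.hom_ext
    exact (spMapOfOver_eq (eB ⊚ fpFst y y')).symm
  have hb₁sm : AlgSp.LocP @Smooth b₁ := by rw [hb₁eq]; exact hb₁s
  have hb₁sj : AlgSp.IsSurjectiveMor b₁ := by
    rw [hb₁eq]
    exact indep_gen _ isSurjectiveMor_precomp_iso B.property B₂.property eB eB₂ heB heB₂
      (fpFst y y') hb₁j
  have hb₂sm : AlgSp.LocP @Smooth b₂ := by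
    rw [hb₂]
    exact prop_structMap _ (compHyp_locP Groth.Agent.Lib.Helper3.isEtLocal_smooth) B.property
      (eB ⊚ fpSnd y y') (repByAlgSpWith_equiv_comp _ eB heB _
        (Groth.Agent.Lib.Helper27.FpSwap.repByAlgSpWith_fpSnd _ y' y hy₁))
  have sq : IsPullback (pullback.fst ((AlgSp.yon S).map h) b₁)
      (pullback.snd ((AlgSp.yon S).map h) b₁) ((AlgSp.yon S).map h) b₁ :=
    IsPullback.of_hasPullback _ _
  have hU'' : AlgSp.IsAlgSpace (pullback ((AlgSp.yon S).map h) b₁) :=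
    Groth.Agent.S9874.result S ((AlgSp.yon S).obj V) (AlgSp.IsAlgSpace.yon_obj V).diag
      ⟨(AlgSp.yon S).obj U, AlgSp.IsAlgSpace.yon_obj U⟩ B ((AlgSp.yon S).map h) b₁ _ _ _ sq
  obtain ⟨fst, hfst⟩ : ∃ fst : pullback ((AlgSp.yon S).map h) b₁ ⟶ (AlgSp.yon S).obj U,
      fst = pullback.fst ((AlgSp.yon S).map h) b₁ := ⟨_, rfl⟩
  obtain ⟨snd, hsnd⟩ : ∃ snd : pullback ((AlgSp.yon S).map h) b₁ ⟶ B.obj,
      snd = pullback.snd ((AlgSp.yon S).map h) b₁ := ⟨_, rfl⟩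
  rw [← hfst, ← hsnd] at sq
  have hfst_sm : AlgSp.LocP @Smooth fst :=
    smooth_stable B.property (AlgSp.IsAlgSpace.yon_obj V) hU'' (AlgSp.IsAlgSpace.yon_obj U)
      b₁ ((AlgSp.yon S).map h) fst snd sq.flip hb₁sm
  have hfst_sj : AlgSp.IsSurjectiveMor fst :=
    surj_stable B.property (AlgSp.IsAlgSpace.yon_obj V) hU'' (AlgSp.IsAlgSpace.yon_obj U)
      b₁ ((AlgSp.yon S).map h) fst snd sq.flip hb₁sj
  have hPsnd : P snd :=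
    hP.baseChange (AlgSp.IsAlgSpace.yon_obj U) (AlgSp.IsAlgSpace.yon_obj V) hU'' B.property
      ((AlgSp.yon S).map h) b₁ snd fst sq hb₁sm hPh
  have hPbk : P (b₂ ≫ (AlgSp.yon S).map k) :=
    hP.precomp B.property (AlgSp.IsAlgSpace.yon_obj V') (AlgSp.IsAlgSpace.yon_obj W) b₂
      ((AlgSp.yon S).map k) hb₂sm hPk
  have hPh'' : P (snd ≫ b₂ ≫ (AlgSp.yon S).map k) :=
    hPc hU'' B.property (AlgSp.IsAlgSpace.yon_obj W) snd _ hPsnd hPbk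
  have hfU'' : FibCat.IsFibGrpd (AlgSt.ofSp (pullback ((AlgSp.yon S).map h) b₁)).p :=
    Stk.isFibGrpd_ofPsh (P := (pullback ((AlgSp.yon S).map h) b₁).obj)
  have hfU : FibCat.IsFibGrpd (AlgSt.ofSch U).p :=
    Stk.isFibGrpd_ofPsh (P := ((AlgSp.yon S).obj U).obj)
  refine locQ_of_space_charts (f ⊚ g) P hP ⟨pullback ((AlgSp.yon S).map h) b₁, hU''⟩
    ⟨(AlgSp.yon S).obj W, AlgSp.IsAlgSpace.yon_obj W⟩
    (AlgSt.ofSpMap fst ⊚ AlgSt.toOverCat U ⊚ x) (AlgSt.toOverCat W ⊚ w)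
    (ObjectProperty.homMk (snd ≫ b₂ ≫ (AlgSp.yon S).map k)) ?_ ?_ ?_ ?_ hPh''
  · have i1 : (AlgSt.ofSpMap fst ⊚ AlgSt.toOverCat U ⊚ x) ⊚ (f ⊚ g) ≅
        (AlgSt.ofSpMap fst ⊚ AlgSt.toOverCat U) ⊚ ((AlgSt.overMap h ⊚ y) ⊚ g) :=
      whiskerLeftIso (AlgSt.ofSpMap fst ⊚ AlgSt.toOverCat U) (whiskerRightIso α g)
    have heq1 : (AlgSt.ofSpMap fst ⊚ AlgSt.toOverCat U) ⊚ AlgSt.overMap h =
        AlgSt.ofSpMap snd ⊚ (AlgSt.ofSpMap b₁ ⊚ AlgSt.toOverCat V) := by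
      have h1 : (AlgSt.ofSpMap fst ⊚ AlgSt.toOverCat U) ⊚ AlgSt.overMap h =
          AlgSt.ofSpMap (fst ≫ (AlgSp.yon S).map h) ⊚ AlgSt.toOverCat V := rfl
      have h2 : AlgSt.ofSpMap snd ⊚ (AlgSt.ofSpMap b₁ ⊚ AlgSt.toOverCat V) =
          AlgSt.ofSpMap (snd ≫ b₁) ⊚ AlgSt.toOverCat V := rfl
      rw [h1, h2, sq.w]
    have i12 : (AlgSt.ofSpMap fst ⊚ AlgSt.toOverCat U) ⊚ ((AlgSt.overMap h ⊚ y) ⊚ g) ≅
        AlgSt.ofSpMap snd ⊚ ((AlgSt.ofSpMap b₁ ⊚ AlgSt.toOverCat V) ⊚ (y ⊚ g)) :=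
      whiskerRightIso (eqToIso heq1) (y ⊚ g)
    have i2' : AlgSt.ofSpMap b₁ ⊚ AlgSt.toOverCat V ≅ eB ⊚ fpFst y y' := by
      rw [hb₁]
      exact κΦ (eB ⊚ fpFst y y')
    have i2 : AlgSt.ofSpMap snd ⊚ ((AlgSt.ofSpMap b₁ ⊚ AlgSt.toOverCat V) ⊚ (y ⊚ g)) ≅
        AlgSt.ofSpMap snd ⊚ ((eB ⊚ fpFst y y') ⊚ (y ⊚ g)) :=
      whiskerLeftIso (AlgSt.ofSpMap snd) (whiskerRightIso i2' (y ⊚ g))
    have i3 : AlgSt.ofSpMap snd ⊚ ((eB ⊚ fpFst y y') ⊚ (y ⊚ g)) ≅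
        AlgSt.ofSpMap snd ⊚ (eB ⊚ ((fpSnd y y' ⊚ y') ⊚ g)) :=
      whiskerLeftIso (AlgSt.ofSpMap snd) (whiskerLeftIso eB (whiskerRightIso (fpIso y y') g))
    have i4 : AlgSt.ofSpMap snd ⊚ (eB ⊚ ((fpSnd y y' ⊚ y') ⊚ g)) ≅
        AlgSt.ofSpMap snd ⊚ ((eB ⊚ fpSnd y y') ⊚ (AlgSt.overMap k ⊚ w)) :=
      whiskerLeftIso (AlgSt.ofSpMap snd) (whiskerLeftIso (eB ⊚ fpSnd y y') β)
    have i5' : eB ⊚ fpSnd y y' ≅ AlgSt.ofSpMap b₂ ⊚ AlgSt.toOverCat V' := by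
      rw [hb₂]
      exact (κΦ (eB ⊚ fpSnd y y')).symm
    have i5 : AlgSt.ofSpMap snd ⊚ ((eB ⊚ fpSnd y y') ⊚ (AlgSt.overMap k ⊚ w)) ≅
        AlgSt.ofSpMap snd ⊚ ((AlgSt.ofSpMap b₂ ⊚ AlgSt.toOverCat V') ⊚ (AlgSt.overMap k ⊚ w)) :=
      whiskerLeftIso (AlgSt.ofSpMap snd) (whiskerRightIso i5' (AlgSt.overMap k ⊚ w))
    have heq2 : AlgSt.ofSpMap snd ⊚ ((AlgSt.ofSpMap b₂ ⊚ AlgSt.toOverCat V') ⊚
        (AlgSt.overMap k ⊚ w)) =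
        AlgSt.ofSpMap (snd ≫ b₂ ≫ (AlgSp.yon S).map k) ⊚ (AlgSt.toOverCat W ⊚ w) := rfl
    exact i1 ≪≫ i12 ≪≫ i2 ≪≫ i3 ≪≫ i4 ≪≫ i5 ≪≫ eqToIso heq2
  · exact comp_gen _ (compHyp_locP Groth.Agent.Lib.Helper3.isEtLocal_smooth) hfU'' hfU
      (AlgSt.ofSpMap fst) (AlgSt.toOverCat U ⊚ x)
      (repByAlgSpWith_ofSpMap_of_stable _ smooth_stable hU'' (AlgSp.IsAlgSpace.yon_obj U) fst
        hfst_sm)
      (repByAlgSpWith_equiv_comp _ (AlgSt.toOverCat U) (isEquivOver_toOverCat U) x hx₁)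
  · exact comp_gen _ Groth.Agent.Lib.Helper27.DiagLft.compHyp_isSurjectiveMor hfU'' hfU
      (AlgSt.ofSpMap fst) (AlgSt.toOverCat U ⊚ x)
      (repByAlgSpWith_ofSpMap_of_stable _ surj_stable hU'' (AlgSp.IsAlgSpace.yon_obj U) fst
        hfst_sj)
      (repByAlgSpWith_equiv_comp _ (AlgSt.toOverCat U) (isEquivOver_toOverCat U) x hx₂)
  · exact repByAlgSpWith_equiv_comp _ (AlgSt.toOverCat W) (isEquivOver_toOverCat W) w hw₁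

end Comp

end Groth.Agent.Lib.Helper27.LocQComp
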