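import Groth.Agent.Lib.Helper27.DiagIff
import Groth.Agent.Lib.Helper27.LocQComp
import Groth.Agent.Lib.Helper27.DiagComp

/-!
# Cancellation for functors representable by algebraic spaces with a property (helper27)
-/

set_option autoImplicit false
set_option backward.isDefEq.respectTransparency false
set_option backward.isDefEq.respectTransparency.types false

universe u

open CategoryTheory CategoryTheory.Limits AlgebraicGeometry Opposite FibCat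
  Groth.Agent.Lib.Helper27.FpKit Groth.Agent.Lib.Helper27.PshKit

namespace Groth.Agent.Lib.Helper27.RepCancel

variable {S : Scheme.{u}} {𝒜 ℬ 𝒞 : AlgSt.Cat S}

section Whisker

variable {𝒟 : AlgSt.Cat S}

def whiskerRightIso {F G : 𝒜 ⥤ᵇ ℬ} (α : F ≅ G) (H : ℬ ⥤ᵇ 𝒞) :
    BasedFunctor.comp F H ≅ BasedFunctor.comp G H :=
  BasedNatIso.mkNatIso (Functor.isoWhiskerRight ((BasedNatTrans.forgetful _ _).mapIso α) H.toFunctor)
    (fun t => ((Vert.app α.hom t).map H).lift (BasedFunctor.w_obj (BasedFunctor.comp F H) t))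

def whiskerLeftIso (L : 𝒜 ⥤ᵇ ℬ) {F G : ℬ ⥤ᵇ 𝒞} (α : F ≅ G) :
    BasedFunctor.comp L F ≅ BasedFunctor.comp L G :=
  BasedNatIso.mkNatIso (Functor.isoWhiskerLeft L.toFunctor ((BasedNatTrans.forgetful _ _).mapIso α))
    (fun t => (Vert.app α.hom (L.toFunctor.obj t)).lift (BasedFunctor.w_obj (BasedFunctor.comp L F) t))

end Whisker

/-- Every functor from an algebraic space into a category equivalent to an algebraic space is
induced by a map of spaces. -/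
theorem exists_map {X Y : AlgSp.Sp S} {𝒱 : AlgSt.Cat S} (Ψ : AlgSt.ofSp X ⥤ᵇ 𝒱)
    (eY : AlgSt.ofSp Y ⥤ᵇ 𝒱) (heY : IsEquivOver eY) :
    ∃ c : X ⟶ Y, Nonempty (BasedFunctor.comp (AlgSt.ofSpMap c) eY ≅ Ψ) ∧
      ∀ (U : Over S) (q : 𝒱 ⥤ᵇ overCat U),
        c ≫ AlgSt.spMapOfOver (BasedFunctor.comp eY q) =
          AlgSt.spMapOfOver (BasedFunctor.comp Ψ q) := by
  obtain ⟨eY', heY', -, ⟨ε⟩⟩ := exists_inverse eY heY
  obtain ⟨Φ', hΦ'⟩ : ∃ Φ' : AlgSt.ofSp X ⥤ᵇ AlgSt.ofSp Y, Φ' = BasedFunctor.comp Ψ eY' := ⟨_, rfl⟩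
  have e1 : BasedFunctor.comp (Stk.ofPshMap (pshMapOf Φ')) eY ≅ BasedFunctor.comp Φ' eY :=
    whiskerRightIso (τIso Φ') eY
  have e2 : BasedFunctor.comp Φ' eY ≅ Ψ := by
    rw [hΦ']
    exact whiskerLeftIso Ψ ε
  refine ⟨ObjectProperty.homMk (pshMapOf Φ'), ⟨e1 ≪≫ e2⟩, fun U q => ?_⟩
  rw [← Groth.Agent.Lib.Helper27.PshRep.spMapOfOver_comp]
  apply Groth.Agent.Lib.Helper27.RepWithKit.spMapOfOver_congr
  intro t
  exact ⟨q.toFunctor.map (e2.hom.toNatTrans.app t), (Vert.app e2.hom t).map q⟩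

/-- The section of `fp (G ≫ b) b` determined by `G`. -/
def sec (b : ℬ ⥤ᵇ 𝒞) {U : Over S} (G : overCat U ⥤ᵇ ℬ) :
    overCat U ⥤ᵇ fp (BasedFunctor.comp G b) b :=
  fpLift (BasedFunctor.id _) G
    (BasedNatIso.mkNatIso (NatIso.ofComponents (fun _ => Iso.refl _)
      (fun m => (Category.comp_id _).trans (Category.id_comp _).symm))
      (fun t => (Vert.id _).lift (BasedFunctor.w_obj _ t)))

/-- `sec ≫ fpSnd ≅ G`. -/
def secSnd (b : ℬ ⥤ᵇ 𝒞) {U : Over S} (G : overCat U ⥤ᵇ ℬ) :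
    BasedFunctor.comp (sec b G) (fpSnd (BasedFunctor.comp G b) b) ≅ G :=
  BasedNatIso.mkNatIso (NatIso.ofComponents (fun _ => Iso.refl _)
    (fun m => (Category.comp_id _).trans (Category.id_comp _).symm))
    (fun t => (Vert.id _).lift (BasedFunctor.w_obj _ t))

theorem repByAlgSpWith_cancel (P : MorphismProperty (AlgSp.Sp S))
    (hPb : ∀ ⦃X₁ Y₁ X₂ Y₂ : AlgSp.Sp S⦄, AlgSp.IsAlgSpace X₁ → AlgSp.IsAlgSpace Y₁ →
      AlgSp.IsAlgSpace X₂ → AlgSp.IsAlgSpace Y₂ → ∀ (a : X₁ ⟶ Y₁) (b : Y₂ ⟶ Y₁) (a' : X₂ ⟶ Y₂)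
      (b' : X₂ ⟶ X₁), IsPullback b' a' a b → P a → P a')
    (hcancel : ∀ ⦃X Y Z : AlgSp.Sp S⦄, AlgSp.IsAlgSpace X → AlgSp.IsAlgSpace Y →
      AlgSp.IsAlgSpace Z → ∀ (a : X ⟶ Y) (b : Y ⟶ Z), P b → P (a ≫ b) → P a)
    (a : 𝒜 ⥤ᵇ ℬ) (b : ℬ ⥤ᵇ 𝒞) (hb : AlgSt.RepByAlgSpWith P b)
    (hab : AlgSt.RepByAlgSpWith P (BasedFunctor.comp a b)) : AlgSt.RepByAlgSpWith P a := by
  intro U G
  obtain ⟨Y, eY, heY, hPY⟩ := hb U (BasedFunctor.comp G b)
  obtain ⟨X, eX, heX, hPX⟩ := Groth.Agent.Lib.Helper27.RepWithKit.transport' P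
    (pasteR a b (BasedFunctor.comp G b))
    (isEquivOver_pasteR a b (BasedFunctor.comp G b))
    (BasedFunctor.comp (fpFst (fpSnd (BasedFunctor.comp G b) b) a) (fpFst (BasedFunctor.comp G b) b))
    (fpFst (BasedFunctor.comp G b) (BasedFunctor.comp a b))
    (fun t => ⟨Iso.refl _, Vert.id _⟩) (hab U (BasedFunctor.comp G b))
  obtain ⟨c, ⟨e⟩, hc⟩ := exists_map
    (BasedFunctor.comp eX (fpFst (fpSnd (BasedFunctor.comp G b) b) a)) eY heY
  have hPc : P c := by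
    apply hcancel X.property Y.property (AlgSp.IsAlgSpace.yon_obj U) c
      (AlgSt.spMapOfOver (BasedFunctor.comp eY (fpFst (BasedFunctor.comp G b) b))) hPY
    rw [hc]
    exact hPX
  have h1 : AlgSt.RepByAlgSpWith P (AlgSt.ofSpMap c) :=
    Groth.Agent.Lib.Helper27.LocQComp.repByAlgSpWith_ofSpMap_of_stable P hPb X.property
      Y.property c hPc
  have h2 : AlgSt.RepByAlgSpWith P (fpFst (fpSnd (BasedFunctor.comp G b) b) a) :=
    Groth.Agent.Lib.Helper27.RepWithGeneral.repByAlgSpWith_of_equiv' P _ (AlgSt.ofSpMap c) eX eY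
      heX heY e h1
  have h3 := h2 U (sec b G)
  have hE := isEquivOver_comp _ _
    (isEquivOver_pasteL a (fpSnd (BasedFunctor.comp G b) b) (sec b G))
    (Groth.Agent.Lib.Helper27.DiagIff.isEquivOver_isoMapFst G
      (BasedFunctor.comp (sec b G) (fpSnd (BasedFunctor.comp G b) b)) a (secSnd b G))
  exact Groth.Agent.Lib.Helper27.RepWithKit.transport P _ hE
    (fpFst (sec b G) (fpFst (fpSnd (BasedFunctor.comp G b) b) a)) (fpFst G a)
    (fun t => ⟨Iso.refl _, Vert.id _⟩) h3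

end Groth.Agent.Lib.Helper27.RepCancel
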