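import Groth.Agent.Lib.Helper27.StPointsSurj
import Groth.Agent.Lib.Helper27.RepCancel
import Groth.Agent.Lib.Helper3.AlgSpQC

/-!
# Points of slices and charts (helper27)
-/

set_option autoImplicit false
set_option backward.isDefEq.respectTransparency false
set_option backward.isDefEq.respectTransparency.types false

universe u

open CategoryTheory CategoryTheory.Limits FibCat AlgebraicGeometry Opposite
  Groth.Agent.Lib.Helper27.FpKit Groth.Agent.Lib.Helper27.PointsKit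

namespace Groth.Agent.Lib.Helper27.StPoints

variable {S : Scheme.{u}}

/-- The point of the slice `(Sch/U)` attached to a point of the scheme `U`. -/
noncomputable def ptOf (U : Over S) (t : ↥U.left) : AlgSt.Points (overCat U) :=
  AlgSt.Points.mk
    { K := ↥(U.left.residueField t)
      str := U.left.fromSpecResidueField t ≫ U.hom
      obj := Over.mk (Over.homMk (U.left.fromSpecResidueField t) rfl :
        Over.mk (U.left.fromSpecResidueField t ≫ U.hom) ⟶ U)
      lies := rfl }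

theorem ofChart_eq {𝒳 : AlgSt.Cat S} {U : Over S} (x : overCat U ⥤ᵇ 𝒳) (t : ↥U.left) :
    AlgSt.Points.ofChart x t = AlgSt.Points.map x (ptOf U t) := rfl

theorem ptOf_eq (U : Over S) (t : ↥U.left) :
    ptOf U t = AlgSt.Points.map (AlgSt.toOverCat U)
      (toSt ((AlgSp.yon S).obj U) (AlgSp.Points.schemeHomeo U t)) := rfl

theorem ptOf_bijective (U : Over S) : Function.Bijective (ptOf U) := by
  have h1 := map_bijective_of_equiv (AlgSt.toOverCat U)
    (Groth.Agent.Lib.Helper27.PshRep.isEquivOver_toOverCat U)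
  have h2 := toSt_bijective ((AlgSp.yon S).obj U)
  have h3 := (AlgSp.Points.schemeHomeo U).bijective
  have : ptOf U = AlgSt.Points.map (AlgSt.toOverCat U) ∘ toSt ((AlgSp.yon S).obj U) ∘
      AlgSp.Points.schemeHomeo U := funext (ptOf_eq U)
  rw [this]
  exact h1.comp (h2.comp h3)

theorem map_overMap_ptOf {U' U : Over S} (h : U' ⟶ U) (t : ↥U'.left) :
    AlgSt.Points.map (AlgSt.overMap h) (ptOf U' t) = ptOf U (h.left t) := by
  rw [ptOf_eq, ptOf_eq, ← map_comp]
  have e : BasedFunctor.comp (AlgSt.toOverCat U') (AlgSt.overMap h) =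
      BasedFunctor.comp (AlgSt.ofSpMap ((AlgSp.yon S).map h)) (AlgSt.toOverCat U) := rfl
  rw [e, map_comp, toSt_map, AlgSp.Points.map_yon_map_apply]

theorem ofChart_overMap {𝒳 : AlgSt.Cat S} {U' U : Over S} (h : U' ⟶ U) (x : overCat U ⥤ᵇ 𝒳)
    (t : ↥U'.left) :
    AlgSt.Points.ofChart (BasedFunctor.comp (AlgSt.overMap h) x) t =
      AlgSt.Points.ofChart x (h.left t) := by
  rw [ofChart_eq, ofChart_eq, map_comp, map_overMap_ptOf]

theorem ofChart_congr {𝒳 : AlgSt.Cat S} {U : Over S} {x x' : overCat U ⥤ᵇ 𝒳} (e : x ≅ x')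
    (t : ↥U.left) : AlgSt.Points.ofChart x t = AlgSt.Points.ofChart x' t := by
  rw [ofChart_eq, ofChart_eq]
  exact map_iso e _

/-- The functor from a slice attached to a morphism from a representable sheaf to the source of
a functor from the category of a sheaf to a slice. -/
noncomputable def chartIso {F : AlgSp.Sp S} {U A : Over S} (Ψ : AlgSt.ofSp F ⥤ᵇ overCat U)
    (b : (AlgSp.yon S).obj A ⟶ F) (a : A ⟶ U)
    (ha : (AlgSp.yon S).map a = b ≫ AlgSt.spMapOfOver Ψ) :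
    BasedFunctor.comp (AlgSt.ofOverCat A) (BasedFunctor.comp (AlgSt.ofSpMap b) Ψ) ≅
      AlgSt.overMap a := by
  have i1 : BasedFunctor.comp (AlgSt.ofSpMap b) Ψ ≅ BasedFunctor.comp (AlgSt.ofSpMap b)
      (BasedFunctor.comp (AlgSt.ofSpMap (AlgSt.spMapOfOver Ψ)) (AlgSt.toOverCat U)) :=
    Groth.Agent.Lib.Helper27.RepCancel.whiskerLeftIso (AlgSt.ofSpMap b)
      (Groth.Agent.Lib.Helper27.RepChart.structIso Ψ).symm
  have e2 : BasedFunctor.comp (AlgSt.ofSpMap b)
      (BasedFunctor.comp (AlgSt.ofSpMap (AlgSt.spMapOfOver Ψ)) (AlgSt.toOverCat U)) =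
      BasedFunctor.comp (AlgSt.ofSpMap (b ≫ AlgSt.spMapOfOver Ψ)) (AlgSt.toOverCat U) := rfl
  have e3 : BasedFunctor.comp (AlgSt.ofSpMap (b ≫ AlgSt.spMapOfOver Ψ)) (AlgSt.toOverCat U) =
      BasedFunctor.comp (AlgSt.ofSpMap ((AlgSp.yon S).map a)) (AlgSt.toOverCat U) := by rw [ha]
  have e4 : BasedFunctor.comp (AlgSt.ofSpMap ((AlgSp.yon S).map a)) (AlgSt.toOverCat U) =
      BasedFunctor.comp (AlgSt.toOverCat A) (AlgSt.overMap a) := rfl
  exact Groth.Agent.Lib.Helper27.RepCancel.whiskerLeftIso (AlgSt.ofOverCat A)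
      (i1 ≪≫ eqToIso (e2.trans (e3.trans e4))) ≪≫
    Groth.Agent.Lib.Helper27.RepCancel.whiskerRightIso
      (Groth.Agent.Lib.Helper27.RepChart.ofToIso A) (AlgSt.overMap a)

/-- The image of a point under a functor from the category of a sheaf to a slice. -/
theorem map_toSt_eq {F : AlgSp.Sp S} {U : Over S} (Ψ : AlgSt.ofSp F ⥤ᵇ overCat U)
    (φ : AlgSp.Points F) :
    AlgSt.Points.map Ψ (toSt F φ) =
      ptOf U ((AlgSp.Points.schemeHomeo U).symm (AlgSp.Points.map (AlgSt.spMapOfOver Ψ) φ)) := by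
  rw [ptOf_eq, Homeomorph.apply_symm_apply, ← toSt_map, ← map_comp]
  exact (map_iso (Groth.Agent.Lib.Helper27.RepChart.structIso Ψ) _).symm

/-- Comparison of two charts, the second one representable with a property of morphisms of
schemes: a scheme mapping to both, compatibly, and hitting every pair of points with the same
image. -/
theorem exists_chart_comparison {𝒳 : AlgSt.Cat S} (h𝒳 : FibCat.IsFibGrpd 𝒳.p) {U U' : Over S}
    (x : overCat U ⥤ᵇ 𝒳) (x' : overCat U' ⥤ᵇ 𝒳) (Q : MorphismProperty Scheme.{u})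
    (hx' : AlgSt.RepByAlgSpWith (AlgSp.LocP Q) x') :
    ∃ (A : Over S) (a : A ⟶ U) (a' : A ⟶ U'), Q a.left ∧
      Nonempty (BasedFunctor.comp (AlgSt.overMap a) x ≅ BasedFunctor.comp (AlgSt.overMap a') x') ∧
      ∀ (u : ↥U.left) (u' : ↥U'.left),
        AlgSt.Points.ofChart x u = AlgSt.Points.ofChart x' u' →
          ∃ t : ↥A.left, a.left t = u ∧ a'.left t = u' := by
  obtain ⟨F, e, he, hπ⟩ := hx' U x
  obtain ⟨π, hπdef⟩ : ∃ π : F.obj ⟶ (AlgSp.yon S).obj U,
    π = AlgSt.spMapOfOver (BasedFunctor.comp e (fpFst x x')) := ⟨_, rfl⟩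
  obtain ⟨π', hπ'def⟩ : ∃ π' : F.obj ⟶ (AlgSp.yon S).obj U',
    π' = AlgSt.spMapOfOver (BasedFunctor.comp e (fpSnd x x')) := ⟨_, rfl⟩
  rw [← hπdef] at hπ
  obtain ⟨A, b, hbe, hbs⟩ := F.property.atlas
  obtain ⟨a, ha⟩ : ∃ a : A ⟶ U, (AlgSp.yon S).map a = b ≫ π :=
    ⟨(AlgSp.yon S).preimage (b ≫ π), (AlgSp.yon S).map_preimage _⟩
  obtain ⟨a', ha'⟩ : ∃ a' : A ⟶ U', (AlgSp.yon S).map a' = b ≫ π' :=
    ⟨(AlgSp.yon S).preimage (b ≫ π'), (AlgSp.yon S).map_preimage _⟩
  have hQ : Q a.left := hπ b (𝟙 _) a hbe (AlgSp.repWith_id @Etale U)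
    (by rw [Category.comp_id, ha])
  refine ⟨A, a, a', hQ, ⟨?_⟩, ?_⟩
  · have i1 := chartIso (BasedFunctor.comp e (fpFst x x')) b a (by rw [ha, hπdef])
    have i2 := chartIso (BasedFunctor.comp e (fpSnd x x')) b a' (by rw [ha', hπ'def])
    have i3 : BasedFunctor.comp (BasedFunctor.comp (AlgSt.ofOverCat A)
        (BasedFunctor.comp (AlgSt.ofSpMap b) (BasedFunctor.comp e (fpFst x x')))) x ≅
        BasedFunctor.comp (BasedFunctor.comp (AlgSt.ofOverCat A)
        (BasedFunctor.comp (AlgSt.ofSpMap b) (BasedFunctor.comp e (fpSnd x x')))) x' :=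
      Groth.Agent.Lib.Helper27.RepCancel.whiskerLeftIso
        (BasedFunctor.comp (AlgSt.ofOverCat A) (BasedFunctor.comp (AlgSt.ofSpMap b) e))
        (fpIso x x')
    exact (Groth.Agent.Lib.Helper27.RepCancel.whiskerRightIso i1 x).symm ≪≫ i3 ≪≫
      Groth.Agent.Lib.Helper27.RepCancel.whiskerRightIso i2 x'
  · intro u u' huu'
    rw [ofChart_eq, ofChart_eq] at huu'
    obtain ⟨w, hw1, hw2⟩ := exists_points_fp
      (Groth.Agent.Lib.Helper27.ReprAux.isFibGrpd_overCat U') h𝒳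
      (Groth.Agent.Lib.Helper27.ReprAux.isFibGrpd_overCat U) x' x (ptOf U u) (ptOf U' u') huu'
    obtain ⟨w₀, rfl⟩ := map_surjective_of_equiv e he w
    obtain ⟨φ, rfl⟩ := toSt_surjective F.obj w₀
    obtain ⟨ψ, rfl⟩ := Groth.Agent.Lib.Helper3.surjective_map_of_repWith hbs φ
    obtain ⟨t, rfl⟩ := (AlgSp.Points.schemeHomeo A).surjective ψ
    refine ⟨t, ?_, ?_⟩
    · rw [← map_comp, map_toSt_eq, ← hπdef, ← AlgSp.Points.map_comp, ← ha,
        AlgSp.Points.map_yon_map_apply, Homeomorph.symm_apply_apply] at hw1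
      exact (ptOf_bijective U).1 hw1
    · rw [← map_comp, map_toSt_eq, ← hπ'def, ← AlgSp.Points.map_comp, ← ha',
        AlgSp.Points.map_yon_map_apply, Homeomorph.symm_apply_apply] at hw2
      exact (ptOf_bijective U').1 hw2

end Groth.Agent.Lib.Helper27.StPoints
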