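import Groth.Agent.Lib.Helper27.QcFppf
import Groth.Agent.Lib.Helper27.LocQSmoothOpen
import Groth.Agent.Lib.Helper27.LocQChart
import Groth.Agent.Lib.Helper27.StPointsTop
import Groth.Agent.Lib.Helper27.StPointsSurj
import Groth.Agent.S10292

/-!
# Lifting valuation rings through flat morphisms of algebraic stacks (helper27)
-/

set_option autoImplicit false
set_option backward.isDefEq.respectTransparency false
set_option backward.isDefEq.respectTransparency.types false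

universe u

open CategoryTheory CategoryTheory.Limits FibCat AlgebraicGeometry Opposite
  Groth.Agent.Lib.Helper27.FpKit Groth.Agent.Lib.Helper27.PointsKit
  Groth.Agent.Lib.Helper27.StPoints Groth.Agent.Lib.Helper27.RepWithComp
  Groth.Agent.Lib.Helper27.PshKit

namespace Groth.Agent.Lib.Helper27.ValLift

variable {S : Scheme.{u}}

local infixr:80 " ⊚ " => BasedFunctor.comp

open Groth.Agent.Lib.Helper27.RepCancel Groth.Agent.Lib.Helper27.RepChart in
/-- A point of an algebraic space over a slice gives a factorisation of slice functors. -/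
noncomputable def liftIso {F : AlgSp.Sp S} {T T' : Over S} (Ψ : AlgSt.ofSp F ⥤ᵇ overCat T)
    (l : (AlgSp.yon S).obj T' ⟶ F) (m : T' ⟶ T)
    (hl : l ≫ AlgSt.spMapOfOver Ψ = (AlgSp.yon S).map m) :
    AlgSt.ofOverCat T' ⊚ AlgSt.ofSpMap l ⊚ Ψ ≅ AlgSt.overMap m :=
  whiskerLeftIso (AlgSt.ofOverCat T') (whiskerLeftIso (AlgSt.ofSpMap l) (structIso Ψ).symm) ≪≫
    eqToIso (by
      change AlgSt.ofOverCat T' ⊚ AlgSt.ofSpMap (l ≫ AlgSt.spMapOfOver Ψ) ⊚ AlgSt.toOverCat T = _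
      rw [hl]
      rfl)

theorem main (𝒳 𝒴 : AlgSt.Cat S)
    (h𝒳 : AlgSt.IsAlgStack Scheme.fppfPrecoverage 𝒳)
    (h𝒴 : AlgSt.IsAlgStack Scheme.fppfPrecoverage 𝒴)
    (f : 𝒳 ⥤ᵇ 𝒴)
    (hf : AlgSt.LocQ (AlgSp.LocP @Flat) f)
    (A : Type u) [CommRing A] [IsDomain A] [ValuationRing A] (sA : Spec (CommRingCat.of A) ⟶ S)
    (a : FibCat.overCat (Over.mk sA) ⥤ᵇ 𝒴)
    (ha : AlgSt.Points.ofChart a (IsLocalRing.closedPoint A) ∈ Set.range (AlgSt.Points.map f)) :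
    ∃ (A' : Type u) (_ : CommRing A') (_ : IsDomain A') (_ : ValuationRing A') (φ : A →+* A'),
      Function.Injective φ ∧ IsLocalHom φ ∧
      ∃ x : FibCat.overCat (Over.mk (Spec.map (CommRingCat.ofHom φ) ≫ sA)) ⥤ᵇ 𝒳,
        Nonempty (BasedFunctor.comp x f ≅
          BasedFunctor.comp (AlgSt.overMap (Over.homMk (Spec.map (CommRingCat.ofHom φ)) rfl :
            Over.mk (Spec.map (CommRingCat.ofHom φ) ≫ sA) ⟶ Over.mk sA)) a) := by
  obtain ⟨U, V, x, y, h, α, hx₁, hx₂, hy, hh⟩ := hf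
  have hfU := Groth.Agent.Lib.Helper27.ReprAux.isFibGrpd_overCat U
  have hfV := Groth.Agent.Lib.Helper27.ReprAux.isFibGrpd_overCat V
  have hfT := Groth.Agent.Lib.Helper27.ReprAux.isFibGrpd_overCat (Over.mk sA)
  -- the composite chart is flat
  have hg : AlgSt.RepByAlgSpWith (AlgSp.LocP @Flat) (x ⊚ f) := by
    have h1 : AlgSt.RepByAlgSpWith (AlgSp.LocP @Flat) (AlgSt.overMap h) :=
      Groth.Agent.Lib.Helper27.LocQSmoothOpen.repByAlgSpWith_overMap _
        (Groth.Agent.Lib.Helper27.QcImage.locP_stable Groth.Agent.Lib.Helper3.isEtLocal_flat) h hh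
    have h2 := comp_gen _ (compHyp_locP Groth.Agent.Lib.Helper3.isEtLocal_flat) hfU hfV
      (AlgSt.overMap h) y h1 (Groth.Agent.Lib.Helper27.DiagLft.flat_of_smooth y hy)
    exact Groth.Agent.Lib.Helper27.LocQOver.repByAlgSpWith_of_iso _ α.symm h2
  obtain ⟨F, e, he, hflat⟩ := hg (Over.mk sA) a
  -- the closed point is in the image
  have hsx : AlgSt.IsSurjective x := isSurjective_of_rep hfU h𝒳.isStack.1 x hx₂
  obtain ⟨p, hp⟩ := ha
  obtain ⟨u, rfl⟩ := hsx p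
  rw [← map_comp, ofChart_eq] at hp
  obtain ⟨w, hw, -⟩ := exists_points_fp hfU h𝒴.isStack.1 hfT (x ⊚ f) a
    (ptOf (Over.mk sA) (IsLocalRing.closedPoint A)) u hp.symm
  obtain ⟨w', rfl⟩ := map_surjective_of_equiv e he w
  obtain ⟨ψ, rfl⟩ := toSt_surjective F.obj w'
  rw [← map_comp, map_toSt_eq] at hw
  have hw2 := (ptOf_bijective (Over.mk sA)).1 hw
  have hw3 : AlgSp.Points.map (AlgSt.spMapOfOver (e ⊚ fpFst a (x ⊚ f))) ψ =
      AlgSp.Points.schemeHomeo (Over.mk sA) (IsLocalRing.closedPoint A) := by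
    rw [← hw2, Homeomorph.apply_symm_apply]
  let π : F ⟶ (AlgSp.ofScheme S).obj (Over.mk sA) :=
    ObjectProperty.homMk (AlgSt.spMapOfOver (e ⊚ fpFst a (x ⊚ f)))
  obtain ⟨A', i1, i2, i3, φ, hinj, hloc, l, hl⟩ := Groth.Agent.S10292.result π hflat A sA (𝟙 _)
    ⟨ψ, hw3⟩
  refine ⟨A', i1, i2, i3, φ, hinj, hloc, ?_⟩
  rw [Category.comp_id] at hl
  let T' : Over S := Over.mk (Spec.map (CommRingCat.ofHom φ) ≫ sA)
  let m : T' ⟶ Over.mk sA := Over.homMk (Spec.map (CommRingCat.ofHom φ)) rfl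
  have i := liftIso (e ⊚ fpFst a (x ⊚ f)) l m hl
  refine ⟨AlgSt.ofOverCat T' ⊚ AlgSt.ofSpMap l ⊚ e ⊚ fpSnd a (x ⊚ f) ⊚ x, ⟨?_⟩⟩
  exact (Groth.Agent.Lib.Helper27.RepCancel.whiskerLeftIso
      (AlgSt.ofOverCat T' ⊚ AlgSt.ofSpMap l ⊚ e) (fpIso a (x ⊚ f))).symm ≪≫
    Groth.Agent.Lib.Helper27.RepCancel.whiskerRightIso i a

end Groth.Agent.Lib.Helper27.ValLift
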