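import Groth.Agent.Lib.Helper27.EndTriv1
import Groth.Agent.Lib.Helper27.OpenSub3
import Groth.Agent.Lib.Helper27.ValLift
import Groth.Agent.Lib.Helper27.FieldPt

/-!
# Lifting through surjective open immersions (helper27)
-/

set_option autoImplicit false
set_option backward.isDefEq.respectTransparency false
set_option backward.isDefEq.respectTransparency.types false

universe u

open CategoryTheory CategoryTheory.Limits FibCat AlgebraicGeometry Opposite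
  Groth.Agent.Lib.Helper27.FpKit Groth.Agent.Lib.Helper27.ReprDiag
  Groth.Agent.Lib.Helper27.DescentKit Groth.Agent.Lib.Helper27.PointsKit
  Groth.Agent.Lib.Helper27.StPoints Groth.Agent.Lib.Helper27.RepCancel
  Groth.Agent.Lib.Helper27.LocQChart

namespace Groth.Agent.Lib.Helper27.EndTriv

variable {S : Scheme.{u}} {𝒳 𝒵 : AlgSt.Cat S}

local infixr:80 " ⊚ " => BasedFunctor.comp

theorem isSurjectiveMor_of_forall_mem_range (h𝒳 : FibCat.IsFibGrpd 𝒳.p)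
    (h𝒵 : FibCat.IsFibGrpd 𝒵.p) (π : 𝒵 ⥤ᵇ 𝒳) {T : Over S} (y : overCat T ⥤ᵇ 𝒳)
    (h : ∀ t : ↥T.left, AlgSt.Points.ofChart y t ∈ Set.range (AlgSt.Points.map π))
    (F : AlgSp.Space S) (e : AlgSt.ofSp F.obj ⥤ᵇ fp y π) (he : IsEquivOver e) :
    AlgSp.IsSurjectiveMor (AlgSt.spMapOfOver (e ⊚ fpFst y π)) := by
  intro τ
  obtain ⟨t, rfl⟩ := (AlgSp.Points.schemeHomeo T).surjective τ
  obtain ⟨q, hq⟩ := h t
  rw [ofChart_eq] at hq
  obtain ⟨w, hw, -⟩ := exists_points_fp h𝒵 h𝒳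
    (Groth.Agent.Lib.Helper27.ReprAux.isFibGrpd_overCat T) π y (ptOf T t) q hq.symm
  obtain ⟨w', rfl⟩ := map_surjective_of_equiv e he w
  obtain ⟨φ, rfl⟩ := toSt_surjective F.obj w'
  refine ⟨φ, ?_⟩
  have h1 := map_toSt_eq (e ⊚ fpFst y π) φ
  rw [map_comp, hw] at h1
  have h2 := (ptOf_bijective T).1 h1
  rw [h2, Homeomorph.apply_symm_apply]

/-- The composition functor of the identity is the identity. -/
noncomputable def overMapId (T : Over S) : AlgSt.overMap (𝟙 T) ≅ BasedFunctor.id (overCat T) :=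
  eqToIso (by rw [Groth.Agent.Lib.Helper27.FieldPt.homOf_id]) ≪≫
    (isoOverMap (BasedFunctor.id (overCat T))).symm

/-- A functor from a slice whose points all lie in the image of an open immersion lifts. -/
theorem exists_lift_of_isOpenImm (h𝒳 : FibCat.IsFibGrpd 𝒳.p)
    (h𝒵 : FibCat.IsFibGrpd 𝒵.p) (π : 𝒵 ⥤ᵇ 𝒳) (hπ : AlgSt.IsOpenImm π) {T : Over S}
    (y : overCat T ⥤ᵇ 𝒳)
    (h : ∀ t : ↥T.left, AlgSt.Points.ofChart y t ∈ Set.range (AlgSt.Points.map π)) :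
    ∃ z : overCat T ⥤ᵇ 𝒵, Nonempty (z ⊚ π ≅ y) := by
  obtain ⟨F, e, he, hop⟩ := hπ T y
  have hsurj := isSurjectiveMor_of_forall_mem_range h𝒳 h𝒵 π y h F e he
  obtain ⟨Φ, hΦ⟩ : ∃ Φ : AlgSt.ofSp F.obj ⥤ᵇ overCat T, Φ = e ⊚ fpFst y π := ⟨_, rfl⟩
  rw [← hΦ] at hop hsurj
  have hrs : AlgSp.RepWith @Surjective (AlgSt.spMapOfOver Φ) :=
    (Groth.Agent.S9906.repWith_surjective_iff _ hop.rep).2 hsurj
  have sq := hop.rep.isPullback (𝟙 ((AlgSp.yon S).obj T))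
  have ho : IsOpenImmersion (hop.rep.snd (𝟙 ((AlgSp.yon S).obj T))).left := hop.2 _ _ _ sq
  have hs : Surjective (hop.rep.snd (𝟙 ((AlgSp.yon S).obj T))).left := hrs.2 _ _ _ sq
  have hiso : IsIso (hop.rep.snd (𝟙 ((AlgSp.yon S).obj T))).left :=
    (isIso_iff_isOpenImmersion_and_surjective _).2 ⟨ho, hs⟩
  have hiso' : IsIso (hop.rep.snd (𝟙 ((AlgSp.yon S).obj T))) := by
    have : IsIso ((Over.forget S).map (hop.rep.snd (𝟙 ((AlgSp.yon S).obj T)))) := hiso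
    exact isIso_of_reflects_iso _ (Over.forget S)
  obtain ⟨V₀, fst, snd, hsq, hsnd⟩ : ∃ (V₀ : Over S) (fst : (AlgSp.yon S).obj V₀ ⟶ F.obj)
      (snd : V₀ ⟶ T), fst ≫ AlgSt.spMapOfOver Φ = (AlgSp.yon S).map snd ∧ IsIso snd :=
    ⟨_, hop.rep.fst (𝟙 _), hop.rep.snd (𝟙 _), by rw [sq.w, Category.comp_id], hiso'⟩
  let k : (AlgSp.yon S).obj T ⟶ F.obj := (AlgSp.yon S).map (inv snd) ≫ fst
  have hk : k ≫ AlgSt.spMapOfOver Φ = (AlgSp.yon S).map (𝟙 T) := by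
    rw [Category.assoc, hsq, ← Functor.map_comp, IsIso.inv_hom_id]
  have i := Groth.Agent.Lib.Helper27.ValLift.liftIso Φ k (𝟙 T) hk
  refine ⟨AlgSt.ofOverCat T ⊚ AlgSt.ofSpMap k ⊚ e ⊚ fpSnd y π, ⟨?_⟩⟩
  rw [hΦ] at i
  exact (whiskerLeftIso (AlgSt.ofOverCat T ⊚ AlgSt.ofSpMap k ⊚ e) (fpIso y π)).symm ≪≫
    whiskerRightIso (i ≪≫ overMapId T) y

end Groth.Agent.Lib.Helper27.EndTriv
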