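import Groth.Agent.Lib.Helper27.InertiaSep
import Groth.Agent.Lib.Helper27.DiagLft
import Groth.Agent.Lib.Helper3.AlgSpUnram
import Groth.Agent.S10531

/-!
# Unramified functors and open immersion diagonals (helper27)
-/

set_option autoImplicit false
set_option backward.isDefEq.respectTransparency false
set_option backward.isDefEq.respectTransparency.types false

universe u

open CategoryTheory CategoryTheory.Limits AlgebraicGeometry Opposite FibCat
  Groth.Agent.Lib.Helper27.FpKit Groth.Agent.Lib.Helper27.RepWithComp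
  Groth.Agent.Lib.Helper27.DiagRep Groth.Agent.Lib.Helper27.SepDiag
  Groth.Agent.Lib.Helper27.DiagPres

namespace Groth.Agent.Lib.Helper27.InertiaDM

variable {S : Scheme.{u}} {𝒳 𝒴 : AlgSt.Cat S} (g : 𝒳 ⥤ᵇ 𝒴)

theorem openImm_diag_of_unram
    (h : AlgSt.RepByAlgSpWith (AlgSp.LocP (@LocallyOfFiniteType ⊓ @FormallyUnramified)) g) :
    AlgSt.RepByAlgSpWith (AlgSp.RepWith @IsOpenImmersion) (diag g) :=
  repByAlgSpWith_diag g _ _ h (fun F U π τ₁ τ₂ hπ _ h2 => by
    have hd : AlgSp.RepWith @IsOpenImmersion (pullback.diagonal π) :=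
      Groth.Agent.Lib.Helper3.repWith_isOpenImmersion_diagonal_of_locP_unramified F.property
        (AlgSp.IsAlgSpace.yon_obj U) π hπ
    have h3 : AlgSp.RepWith @IsOpenImmersion τ₂ :=
      Groth.Agent.S9902.repWith_section _ π τ₂ h2 hd
    exact MorphismProperty.of_isPullback (IsPullback.of_hasPullback τ₂ τ₁) h3)

theorem unram_of_openImm_diag
    (hl : AlgSt.RepByAlgSpWith (AlgSp.LocP @LocallyOfFiniteType) g)
    (h : AlgSt.RepByAlgSpWith (AlgSp.RepWith @IsOpenImmersion) (diag g)) :
    AlgSt.RepByAlgSpWith (AlgSp.LocP (@LocallyOfFiniteType ⊓ @FormallyUnramified)) g := by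
  intro U y
  obtain ⟨F, e, he, hl'⟩ := hl U y
  refine ⟨F, e, he, ?_⟩
  have h1 := prop_diagonal (AlgSp.RepWith @IsOpenImmersion)
    (isLocalOnBase_fppf_of_fpqc _ (Groth.Agent.S10531.result S)) g h y F e he
  exact Groth.Agent.Lib.Helper3.locP_unramified_of_diagonal F.property
    (AlgSp.IsAlgSpace.yon_obj U) _ hl' h1

end Groth.Agent.Lib.Helper27.InertiaDM
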