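import Groth.Agent.Lib.Helper27.MonoFull
import Groth.Agent.Lib.Helper27.AlgSpMono
import Groth.Prelude.Def_W4c2isonaturalstkIso

/-!
# Isomorphism classes in a 2-fibre product along a monomorphism (helper27)
-/

set_option autoImplicit false
set_option backward.isDefEq.respectTransparency false
set_option backward.isDefEq.respectTransparency.types false

universe u

open CategoryTheory CategoryTheory.Limits FibCat AlgebraicGeometry Opposite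
  Groth.Agent.Lib.Helper27.FpKit

namespace Groth.Agent.Lib.Helper27.IsoNatFp

variable {S : Scheme.{u}} {𝒳 𝒴 𝒴' : AlgSt.Cat S}

theorem isMono_of_isOpenImm (i : 𝒴' ⥤ᵇ 𝒴) (hi : AlgSt.IsOpenImm i) : AlgSt.IsMono i := by
  intro U y
  obtain ⟨F, e, he, hP⟩ := hi U y
  refine ⟨F, e, he, ?_⟩
  have := Groth.Agent.Lib.Helper27.AlgSpMono.mono_of_repWith @IsOpenImmersion
    (fun X Y g (hg : IsOpenImmersion g) => (inferInstance : Mono g)) _ hP
  exact this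

theorem cls_eq_iff {𝒵 : AlgSt.Cat S} {T : Over S} (x y : 𝒵.p.Fiber T) :
    IsoNat.cls x = IsoNat.cls y ↔ Nonempty (x ≅ y) :=
  Quotient.eq (r := isIsomorphicSetoid (𝒵.p.Fiber T))

theorem cls_fp_eq (f : 𝒳 ⥤ᵇ 𝒴) (i : 𝒴' ⥤ᵇ 𝒴) [i.toFunctor.Full] [i.toFunctor.Faithful]
    (T : Over S) (z₁ z₂ : (FibCat.fp f i).p.Fiber T)
    (h₁ : IsoNat.mapCls (FibCat.fpFst f i) T (IsoNat.cls z₁) =
      IsoNat.mapCls (FibCat.fpFst f i) T (IsoNat.cls z₂)) :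
    IsoNat.cls z₁ = IsoNat.cls z₂ := by
  have h₁' : IsoNat.cls ((IsoNat.fibFun (FibCat.fpFst f i) T).obj z₁) =
      IsoNat.cls ((IsoNat.fibFun (FibCat.fpFst f i) T).obj z₂) := h₁
  obtain ⟨a⟩ := (cls_eq_iff _ _).1 h₁'
  let α : z₁.1.obj.fst ≅ z₂.1.obj.fst :=
    (Functor.Fiber.fiberInclusion (p := 𝒳.p) (S := T)).mapIso a
  have hα : 𝒳.p.IsHomLift (𝟙 T) α.hom := a.hom.2
  have hα' : 𝒳.p.IsHomLift (𝟙 T) α.inv := a.inv.2
  let ψ : i.toFunctor.obj z₁.1.obj.snd ⟶ i.toFunctor.obj z₂.1.obj.snd :=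
    z₁.1.obj.iso.inv ≫ f.toFunctor.map α.hom ≫ z₂.1.obj.iso.hom
  have hψ : IsIso ψ := by
    dsimp only [ψ]
    infer_instance
  obtain ⟨β, hβ⟩ := i.toFunctor.map_surjective ψ
  have hβiso : IsIso β := by
    have : IsIso (i.toFunctor.map β) := by rw [hβ]; exact hψ
    exact isIso_of_fully_faithful i.toFunctor β
  let Θ : z₁.1 ≅ z₂.1 := mkIso α (asIso β) (by
    rw [asIso_hom, hβ]
    dsimp only [ψ]
    rw [Iso.hom_inv_id_assoc])
  have hΘ : (FibCat.fp f i).p.IsHomLift (𝟙 T) Θ.hom :=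
    Groth.Agent.Lib.Helper27.StackFp.lift_of_fst Θ.hom (𝟙 T) hα
  have hΘ' : (FibCat.fp f i).p.IsHomLift (𝟙 T) Θ.inv :=
    Groth.Agent.Lib.Helper27.StackFp.lift_of_fst Θ.inv (𝟙 T) hα'
  apply (cls_eq_iff _ _).2
  exact ⟨{ hom := ⟨Θ.hom, hΘ⟩
           inv := ⟨Θ.inv, hΘ'⟩
           hom_inv_id := Subtype.ext Θ.hom_inv_id
           inv_hom_id := Subtype.ext Θ.inv_hom_id }⟩

end Groth.Agent.Lib.Helper27.IsoNatFp
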