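import Groth.Agent.Lib.Helper27.StPointsTop2
import Groth.Agent.Lib.Helper27.QcStack
import Groth.Agent.Lib.Helper27.DiagLft

/-!
# The topology on the points of an algebraic stack: quasi-compactness (helper27)
-/

set_option autoImplicit false
set_option backward.isDefEq.respectTransparency false
set_option backward.isDefEq.respectTransparency.types false

universe u

open CategoryTheory CategoryTheory.Limits FibCat AlgebraicGeometry Opposite
  Groth.Agent.Lib.Helper27.FpKit Groth.Agent.Lib.Helper27.PointsKit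
  Groth.Agent.Lib.Helper27.RepWithComp

namespace Groth.Agent.Lib.Helper27.StPoints

variable {S : Scheme.{u}} {𝒳 𝒴 : AlgSt.Cat S}

theorem isOpenMap_ofChart_of_smooth (h𝒳 : FibCat.IsFibGrpd 𝒳.p) {U : Over S}
    (x : overCat U ⥤ᵇ 𝒳) (hx : AlgSt.RepByAlgSpWith (AlgSp.LocP @Smooth) x) :
    IsOpenMap (AlgSt.Points.ofChart x) :=
  isOpenMap_ofChart h𝒳 x (Groth.Agent.Lib.Helper27.DiagLft.flat_of_smooth x hx)
    (Groth.Agent.Lib.Helper27.DiagLft.lfp_of_smooth x hx)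

/-- Every open neighbourhood of a point of an algebraic stack contains a quasi-compact open
neighbourhood. -/
theorem exists_isOpen_isCompact_nhd (h𝒳 : AlgSt.IsAlgStack Scheme.fppfPrecoverage 𝒳)
    (x : AlgSt.Points 𝒳) (W : Set (AlgSt.Points 𝒳)) (hW : IsOpen W) (hx : x ∈ W) :
    ∃ V : Set (AlgSt.Points 𝒳), IsOpen V ∧ IsCompact V ∧ x ∈ V ∧ V ⊆ W := by
  obtain ⟨Y, y, hy₁, hy₂⟩ := h𝒳.atlas
  obtain ⟨y₀, rfl⟩ := ofChart_surjective h𝒳.isStack.1 y hy₂ x
  have hWy : IsOpen (AlgSt.Points.ofChart y ⁻¹' W) := hW Y y hy₁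
  obtain ⟨V, hV, hyV, hVW⟩ := exists_isAffineOpen_mem_and_subset
    (x := y₀) (U := ⟨_, hWy⟩) hx
  refine ⟨AlgSt.Points.ofChart y '' (V : Set ↥Y.left),
    isOpenMap_ofChart_of_smooth h𝒳.isStack.1 y hy₁ _ V.2,
    hV.isCompact.image (continuous_ofChart h𝒳 y), ⟨y₀, hyV, rfl⟩, ?_⟩
  rintro _ ⟨v, hv, rfl⟩
  exact hVW hv

/-- The chart of an algebraic stack obtained by restricting a smooth chart to an open
subscheme. -/
theorem smooth_restrict {Y Y' : Over S} (j : Y' ⟶ Y) [IsOpenImmersion j.left]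
    (y : overCat Y ⥤ᵇ 𝒳) (hy₁ : AlgSt.RepByAlgSpWith (AlgSp.LocP @Smooth) y) :
    AlgSt.RepByAlgSpWith (AlgSp.LocP @Smooth)
      (BasedFunctor.comp (AlgSt.ofSpMap ((AlgSp.yon S).map j))
        (BasedFunctor.comp (AlgSt.toOverCat Y) y)) := by
  have hje : Etale j.left := inferInstance
  exact comp_gen _ (compHyp_locP Groth.Agent.Lib.Helper3.isEtLocal_smooth)
    (Stk.isFibGrpd_ofPsh (P := ((AlgSp.yon S).obj Y').obj))
    (Stk.isFibGrpd_ofPsh (P := ((AlgSp.yon S).obj Y).obj)) _ _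
    (Groth.Agent.Lib.Helper27.LocQSpace.repByAlgSpWith_ofSpMap_of_repWith @Etale _
      Groth.Agent.Lib.Helper27.LocQSpace.smooth_of_etale (AlgSp.IsAlgSpace.yon_obj Y')
      (AlgSp.IsAlgSpace.yon_obj Y) _ ((AlgSp.repWith_yon_map_iff _ j).2 hje))
    (Groth.Agent.Lib.Helper27.LocQOver.repByAlgSpWith_equiv_comp _ (AlgSt.toOverCat Y)
      (Groth.Agent.Lib.Helper27.PshRep.isEquivOver_toOverCat Y) y hy₁)

theorem isQuasiCompact_iff_compactSpace (h𝒳 : AlgSt.IsAlgStack Scheme.fppfPrecoverage 𝒳) :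
    AlgSt.IsQuasiCompact 𝒳 ↔ CompactSpace (AlgSt.Points 𝒳) := by
  constructor
  · rintro ⟨U, x, hU, -, hx₂⟩
    have : IsAffine U.left := hU
    have hs := ofChart_surjective h𝒳.isStack.1 x hx₂
    refine ⟨?_⟩
    rw [← hs.range_eq]
    exact isCompact_range (continuous_ofChart h𝒳 x)
  · intro hc
    obtain ⟨Y, y, hy₁, hy₂⟩ := h𝒳.atlas
    have hsurj := ofChart_surjective h𝒳.isStack.1 y hy₂
    let O : Y.left.affineOpens → Set (AlgSt.Points 𝒳) := fun V =>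
      AlgSt.Points.ofChart y '' (V.1 : Set ↥Y.left)
    have hO : ∀ V, IsOpen (O V) := fun V =>
      isOpenMap_ofChart_of_smooth h𝒳.isStack.1 y hy₁ _ V.1.2
    have hcov : (Set.univ : Set (AlgSt.Points 𝒳)) ⊆ ⋃ V, O V := by
      intro p _
      obtain ⟨y₀, rfl⟩ := hsurj p
      obtain ⟨V, hV, hyV, -⟩ := exists_isAffineOpen_mem_and_subset (x := y₀) (U := ⊤) trivial
      exact Set.mem_iUnion.2 ⟨⟨V, hV⟩, y₀, hyV, rfl⟩
    obtain ⟨t, ht⟩ := isCompact_univ.elim_finite_subcover O hO hcov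
    let U₀ : Y.left.Opens := ⨆ V ∈ t, (V.1 : Y.left.Opens)
    have hU₀ : IsCompact (U₀ : Set ↥Y.left) := by
      have : (U₀ : Set ↥Y.left) = ⋃ V ∈ t, (V.1 : Set ↥Y.left) := by
        simp [U₀]
      rw [this]
      exact t.isCompact_biUnion (fun V _ => V.2.isCompact)
    let Y' : Over S := Over.mk (U₀.ι ≫ Y.hom)
    let j : Y' ⟶ Y := Over.homMk U₀.ι rfl
    haveI : IsOpenImmersion j.left := inferInstanceAs (IsOpenImmersion U₀.ι)
    have hY'c : CompactSpace ↥Y'.left := isCompact_iff_compactSpace.mp hU₀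
    obtain ⟨c', hc'def⟩ : ∃ c' : AlgSt.ofSp ((AlgSp.yon S).obj Y') ⥤ᵇ 𝒳,
      c' = BasedFunctor.comp (AlgSt.ofSpMap ((AlgSp.yon S).map j))
        (BasedFunctor.comp (AlgSt.toOverCat Y) y) := ⟨_, rfl⟩
    have hc'sm : AlgSt.RepByAlgSpWith (AlgSp.LocP @Smooth) c' := by
      rw [hc'def]
      exact smooth_restrict j y hy₁
    have hc'1 : AlgSt.RepByAlgSp1 c' := fun U t => by
      obtain ⟨G, eG, heG, -⟩ := hc'sm U t
      exact ⟨G, eG, heG⟩
    have hc's : AlgSt.IsSurjective c' := by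
      intro p
      obtain ⟨V, hV⟩ := Set.mem_iUnion.1 (ht (Set.mem_univ p))
      obtain ⟨hVt, hpV⟩ := Set.mem_iUnion.1 hV
      obtain ⟨v, hvV, rfl⟩ := hpV
      have hvU : v ∈ U₀ := by
        simp only [U₀, TopologicalSpace.Opens.mem_iSup]
        exact ⟨V, hVt, hvV⟩
      refine ⟨toSt _ (AlgSp.Points.schemeHomeo Y' ⟨v, hvU⟩), ?_⟩
      have e : c' = BasedFunctor.comp (AlgSt.toOverCat Y')
          (BasedFunctor.comp (AlgSt.overMap j) y) := by
        rw [hc'def]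
        rfl
      rw [e, map_comp, ← ptOf_eq, ← ofChart_eq, ofChart_overMap]
      rfl
    exact Groth.Agent.Lib.Helper27.QcStack.isQuasiCompact_of_space
      ⟨(AlgSp.yon S).obj Y', AlgSp.IsAlgSpace.yon_obj Y'⟩
      (Groth.Agent.Lib.Helper3.isQuasiCompactSp_yon hY'c) c' hc'sm
      (rep_of_isSurjective (Stk.isFibGrpd_ofPsh (P := ((AlgSp.yon S).obj Y').obj))
        h𝒳.isStack.1 c' hc'1 hc's)

end Groth.Agent.Lib.Helper27.StPoints
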