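import Mathlib.Topology.Homeomorph.Lemmas
import Mathlib.Topology.Maps.OpenQuotient

/-!
# Topological lemmas on commutative squares with surjective fibre product comparison (helper27)
-/

set_option autoImplicit false

universe u₁ u₂ u₃ u₄

open Topology

namespace Groth.Agent.Lib.Helper27.TopSquare

section Square

variable {A : Type u₁} {B : Type u₂} {C : Type u₃} {D : Type u₄}
  [TopologicalSpace A] [TopologicalSpace B] [TopologicalSpace C] [TopologicalSpace D]
  (π : A → B) (α : A → C) (β : B → D) (p : C → D)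

theorem isOpenMap_of_square (hαc : Continuous α) (hβo : IsOpenMap β)
    (hβs : Function.Surjective β) (comm : ∀ φ, p (α φ) = β (π φ))
    (hfp : ∀ v a, β v = p a → ∃ φ, π φ = v ∧ α φ = a) (hπ : IsOpenMap π) : IsOpenMap p := by
  intro W hW
  have heq : p '' W = β '' (π '' (α ⁻¹' W)) := by
    ext d
    constructor
    · rintro ⟨a, ha, rfl⟩
      obtain ⟨v, hv⟩ := hβs (p a)
      obtain ⟨φ, hφ1, hφ2⟩ := hfp v a hv
      exact ⟨v, ⟨φ, by rw [Set.mem_preimage, hφ2]; exact ha, hφ1⟩, hv⟩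
    · rintro ⟨v, ⟨φ, hφ, rfl⟩, rfl⟩
      exact ⟨α φ, hφ, comm φ⟩
  rw [heq]
  exact hβo _ (hπ _ (hW.preimage hαc))

theorem isClosedMap_of_square (hαc : Continuous α) (hβq : IsQuotientMap β)
    (comm : ∀ φ, p (α φ) = β (π φ))
    (hfp : ∀ v a, β v = p a → ∃ φ, π φ = v ∧ α φ = a) (hπ : IsClosedMap π) : IsClosedMap p := by
  intro W hW
  have heq : β ⁻¹' (p '' W) = π '' (α ⁻¹' W) := by
    ext v
    constructor
    · rintro ⟨a, ha, hav⟩
      obtain ⟨φ, hφ1, hφ2⟩ := hfp v a hav.symm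
      exact ⟨φ, by rw [Set.mem_preimage, hφ2]; exact ha, hφ1⟩
    · rintro ⟨φ, hφ, rfl⟩
      exact ⟨α φ, hφ, comm φ⟩
  rw [← hβq.isClosed_preimage, heq]
  exact hπ _ (hW.preimage hαc)

theorem injective_of_square (hβs : Function.Surjective β)
    (hfp : ∀ v a, β v = p a → ∃ φ, π φ = v ∧ α φ = a) (hπ : Function.Injective π) :
    Function.Injective p := by
  intro a b hab
  obtain ⟨v, hv⟩ := hβs (p a)
  obtain ⟨φ, hφ1, hφ2⟩ := hfp v a hv
  obtain ⟨ψ, hψ1, hψ2⟩ := hfp v b (hv.trans hab)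
  have : φ = ψ := hπ (hφ1.trans hψ1.symm)
  rw [← hφ2, ← hψ2, this]

theorem surjective_of_square (hβs : Function.Surjective β) (comm : ∀ φ, p (α φ) = β (π φ))
    (hπ : Function.Surjective π) : Function.Surjective p := by
  intro d
  obtain ⟨v, rfl⟩ := hβs d
  obtain ⟨φ, rfl⟩ := hπ v
  exact ⟨α φ, comm φ⟩

theorem isQuotientMap_of_square (hαc : Continuous α) (hβq : IsQuotientMap β)
    (comm : ∀ φ, p (α φ) = β (π φ)) (hp : Continuous p) (hπ : IsQuotientMap π) :
    IsQuotientMap p := by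
  refine ⟨.of_isOpen_preimage_iff_isOpen fun W => ?_,
    surjective_of_square π α β p hβq.surjective comm hπ.surjective⟩
  constructor
  · intro hW
    rw [← hβq.isOpen_preimage, ← hπ.isOpen_preimage]
    have heq : π ⁻¹' (β ⁻¹' W) = α ⁻¹' (p ⁻¹' W) := by
      ext φ
      change β (π φ) ∈ W ↔ p (α φ) ∈ W
      rw [comm]
    rw [heq]
    exact hW.preimage hαc
  · intro hW
    exact hW.preimage hp

theorem isHomeomorph_of_square (hαc : Continuous α) (hβo : IsOpenMap β)
    (hβs : Function.Surjective β) (comm : ∀ φ, p (α φ) = β (π φ))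
    (hfp : ∀ v a, β v = p a → ∃ φ, π φ = v ∧ α φ = a) (hp : Continuous p)
    (hπ : IsHomeomorph π) : IsHomeomorph p :=
  ⟨hp, isOpenMap_of_square π α β p hαc hβo hβs comm hfp hπ.isOpenMap,
    injective_of_square π α β p hβs hfp hπ.injective,
    surjective_of_square π α β p hβs comm hπ.surjective⟩

end Square

section Conj

variable {A : Type u₁} {B : Type u₂} {C : Type u₃} {D : Type u₄}
  [TopologicalSpace A] [TopologicalSpace B] [TopologicalSpace C] [TopologicalSpace D]
  (h₁ : A ≃ₜ C) (h₂ : B ≃ₜ D) (s : A → B) (p : C → D) (comm : ∀ x, h₂ (s x) = p (h₁ x))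

include comm

theorem eq_conj : s = h₂.symm ∘ p ∘ h₁ := by
  funext x
  change s x = h₂.symm (p (h₁ x))
  rw [← comm, Homeomorph.symm_apply_apply]

theorem isOpenMap_conj (hp : IsOpenMap p) : IsOpenMap s := by
  rw [eq_conj h₁ h₂ s p comm]
  exact h₂.symm.isOpenMap.comp (hp.comp h₁.isOpenMap)

theorem isClosedMap_conj (hp : IsClosedMap p) : IsClosedMap s := by
  rw [eq_conj h₁ h₂ s p comm]
  exact h₂.symm.isClosedMap.comp (hp.comp h₁.isClosedMap)

theorem injective_conj (hp : Function.Injective p) : Function.Injective s := by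
  rw [eq_conj h₁ h₂ s p comm]
  exact h₂.symm.injective.comp (hp.comp h₁.injective)

theorem isQuotientMap_conj (hp : IsQuotientMap p) : IsQuotientMap s := by
  rw [eq_conj h₁ h₂ s p comm]
  exact h₂.symm.isQuotientMap.comp (hp.comp h₁.isQuotientMap)

theorem isHomeomorph_conj (hp : IsHomeomorph p) : IsHomeomorph s := by
  rw [eq_conj h₁ h₂ s p comm]
  exact h₂.symm.isHomeomorph.comp (hp.comp h₁.isHomeomorph)

end Conj

end Groth.Agent.Lib.Helper27.TopSquare
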