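import Groth.Agent.Lib.Helper27.StPointsUniv2
import Groth.Agent.Lib.Helper27.StPointsTop3
import Groth.Agent.Lib.Helper27.TopSquare

/-!
# Universal topological properties on points: the two directions (helper27)
-/

set_option autoImplicit false
set_option backward.isDefEq.respectTransparency false
set_option backward.isDefEq.respectTransparency.types false

universe u

open CategoryTheory CategoryTheory.Limits FibCat AlgebraicGeometry Opposite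
  Groth.Agent.Lib.Helper27.FpKit Groth.Agent.Lib.Helper27.PointsKit
  Groth.Agent.Lib.Helper27.RepWithComp Groth.Agent.Lib.Helper27.PshKit
  Groth.Agent.Lib.Helper27.FpBaseChange

namespace Groth.Agent.Lib.Helper27.StPoints

variable {S : Scheme.{u}} {𝒳 𝒴 𝒵 : AlgSt.Cat S}

/-- The data of the forward direction: a chart square over a smooth atlas of `𝒵` whose top
map has the universal property `Q`. -/
theorem exists_fwd_data (h𝒳 : AlgSt.IsAlgStack Scheme.fppfPrecoverage 𝒳)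
    (h𝒴 : AlgSt.IsAlgStack Scheme.fppfPrecoverage 𝒴)
    (h𝒵 : AlgSt.IsAlgStack Scheme.fppfPrecoverage 𝒵) (f : 𝒳 ⥤ᵇ 𝒴) (g : 𝒵 ⥤ᵇ 𝒴)
    (Q : MorphismProperty (AlgSp.Sp S))
    (hf : AlgSt.RepByAlgSpWith (AlgSp.UnivSp Q) f) :
    ∃ (F : AlgSp.Space S) (V : Over S) (π₀ : F.obj ⟶ (AlgSp.yon S).obj V)
      (β : ↥V.left → AlgSt.Points 𝒵) (α : AlgSp.Points F.obj → AlgSt.Points (fp g f)),
      Q π₀ ∧ Continuous α ∧ IsOpenMap α ∧ Function.Surjective α ∧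
      Continuous β ∧ IsOpenMap β ∧ Function.Surjective β ∧
      (∀ φ, AlgSt.Points.map (fpFst g f) (α φ) =
        β ((AlgSp.Points.schemeHomeo V).symm (AlgSp.Points.map π₀ φ))) ∧
      (∀ v a, β v = AlgSt.Points.map (fpFst g f) a →
        ∃ φ, (AlgSp.Points.schemeHomeo V).symm (AlgSp.Points.map π₀ φ) = v ∧ α φ = a) := by
  obtain ⟨V, z, hz₁, hz₂⟩ := h𝒵.atlas
  obtain ⟨F, e₀, he₀, hπ⟩ := hf V (BasedFunctor.comp z g)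
  obtain ⟨α, hα₁, hα₂, hα₃, hcomm, hfp⟩ :=
    exists_chart_square h𝒳 h𝒴 h𝒵 f g z hz₁ hz₂ F e₀ he₀
  refine ⟨F, V, _, AlgSt.Points.ofChart z, α,
    hπ (AlgSp.IsAlgSpace.yon_obj V) (𝟙 _) (𝟙 _) _ IsPullback.of_id_fst, hα₁, hα₂, hα₃,
    continuous_ofChart h𝒵 z, isOpenMap_ofChart_of_smooth h𝒵.isStack.1 z hz₁,
    ofChart_surjective h𝒵.isStack.1 z hz₂, hcomm, hfp⟩

/-- The data of the backward direction: every base change of the structure map of a presentation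
of `(Sch/U) ×_𝒴 𝒳` to an algebraic space is conjugate, on points, to the points of the base
change of `f` to an algebraic stack. -/
theorem exists_bwd_data (h𝒳 : AlgSt.IsAlgStack Scheme.fppfPrecoverage 𝒳)
    (h𝒴 : AlgSt.IsAlgStack Scheme.fppfPrecoverage 𝒴) (f : 𝒳 ⥤ᵇ 𝒴) {T : Over S}
    (t : overCat T ⥤ᵇ 𝒴) (F : AlgSp.Space S) (e₀ : AlgSt.ofSp F.obj ⥤ᵇ fp t f)
    (he₀ : IsEquivOver e₀) {Z Z' : AlgSp.Sp S} (hZ : AlgSp.IsAlgSpace Z)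
    (k : Z ⟶ (AlgSp.yon S).obj T) (fst : Z' ⟶ F.obj) (snd : Z' ⟶ Z)
    (sq : IsPullback fst snd (AlgSt.spMapOfOver (BasedFunctor.comp e₀ (fpFst t f))) k) :
    ∃ (𝒵 : AlgSt.Cat S) (_ : AlgSt.IsAlgStack Scheme.fppfPrecoverage 𝒵) (g : 𝒵 ⥤ᵇ 𝒴)
      (h₁ : AlgSp.Points Z' ≃ₜ AlgSt.Points (fp g f))
      (h₂ : AlgSp.Points Z ≃ₜ AlgSt.Points 𝒵),
      ∀ x, h₂ (AlgSp.Points.map snd x) = AlgSt.Points.map (fpFst g f) (h₁ x) := by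
  obtain ⟨h₁, h₂, h⟩ := exists_homeo_square h𝒳 h𝒴 f t F e₀ he₀ ⟨Z, hZ⟩ k fst snd sq
  exact ⟨AlgSt.ofSp Z, isAlgStack_ofSp ⟨Z, hZ⟩, _, h₁, h₂, h⟩

section Fwd

variable (h𝒳 : AlgSt.IsAlgStack Scheme.fppfPrecoverage 𝒳)
  (h𝒴 : AlgSt.IsAlgStack Scheme.fppfPrecoverage 𝒴)
  (h𝒵 : AlgSt.IsAlgStack Scheme.fppfPrecoverage 𝒵) (f : 𝒳 ⥤ᵇ 𝒴) (g : 𝒵 ⥤ᵇ 𝒴)

include h𝒳 h𝒴 h𝒵

theorem isOpenMap_fpFst_of_univ (hf : AlgSt.RepByAlgSpWith AlgSp.IsUnivOpenMor f) :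
    IsOpenMap (AlgSt.Points.map (fpFst g f)) := by
  obtain ⟨F, V, π₀, β, α, hQ, hα₁, -, -, -, hβ₂, hβ₃, hcomm, hfp⟩ :=
    exists_fwd_data h𝒳 h𝒴 h𝒵 f g _ hf
  exact TopSquare.isOpenMap_of_square
    (fun φ => (AlgSp.Points.schemeHomeo V).symm (AlgSp.Points.map π₀ φ)) α β _ hα₁ hβ₂ hβ₃
    hcomm hfp ((AlgSp.Points.schemeHomeo V).symm.isOpenMap.comp hQ)

theorem isClosedMap_fpFst_of_univ (hf : AlgSt.RepByAlgSpWith AlgSp.IsUnivClosedMor f) :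
    IsClosedMap (AlgSt.Points.map (fpFst g f)) := by
  obtain ⟨F, V, π₀, β, α, hQ, hα₁, -, -, hβ₁, hβ₂, hβ₃, hcomm, hfp⟩ :=
    exists_fwd_data h𝒳 h𝒴 h𝒵 f g _ hf
  exact TopSquare.isClosedMap_of_square
    (fun φ => (AlgSp.Points.schemeHomeo V).symm (AlgSp.Points.map π₀ φ)) α β _ hα₁
    (hβ₂.isQuotientMap hβ₁ hβ₃)
    hcomm hfp ((AlgSp.Points.schemeHomeo V).symm.isClosedMap.comp hQ)

theorem injective_fpFst_of_univ (hf : AlgSt.RepByAlgSpWith AlgSp.IsUnivInjectiveMor f) :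
    Function.Injective (AlgSt.Points.map (fpFst g f)) := by
  obtain ⟨F, V, π₀, β, α, hQ, -, -, -, -, -, hβ₃, -, hfp⟩ :=
    exists_fwd_data h𝒳 h𝒴 h𝒵 f g _ hf
  exact TopSquare.injective_of_square
    (fun φ => (AlgSp.Points.schemeHomeo V).symm (AlgSp.Points.map π₀ φ)) α β _ hβ₃
    hfp ((AlgSp.Points.schemeHomeo V).symm.injective.comp hQ)

theorem isQuotientMap_fpFst_of_univ
    (hf : AlgSt.RepByAlgSpWith AlgSp.IsUnivSubmersiveMor f) :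
    Topology.IsQuotientMap (AlgSt.Points.map (fpFst g f)) := by
  obtain ⟨F, V, π₀, β, α, hQ, hα₁, -, -, hβ₁, hβ₂, hβ₃, hcomm, -⟩ :=
    exists_fwd_data h𝒳 h𝒴 h𝒵 f g _ hf
  exact TopSquare.isQuotientMap_of_square
    (fun φ => (AlgSp.Points.schemeHomeo V).symm (AlgSp.Points.map π₀ φ)) α β _ hα₁
    (hβ₂.isQuotientMap hβ₁ hβ₃) hcomm (continuous_map h𝒵 _)
    ((AlgSp.Points.schemeHomeo V).symm.isQuotientMap.comp hQ)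

theorem isHomeomorph_fpFst_of_univ (hf : AlgSt.RepByAlgSpWith AlgSp.IsUnivHomeoMor f) :
    IsHomeomorph (AlgSt.Points.map (fpFst g f)) := by
  obtain ⟨F, V, π₀, β, α, hQ, hα₁, -, -, -, hβ₂, hβ₃, hcomm, hfp⟩ :=
    exists_fwd_data h𝒳 h𝒴 h𝒵 f g _ hf
  exact TopSquare.isHomeomorph_of_square
    (fun φ => (AlgSp.Points.schemeHomeo V).symm (AlgSp.Points.map π₀ φ)) α β _ hα₁ hβ₂ hβ₃
    hcomm hfp (continuous_map h𝒵 _)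
    ((AlgSp.Points.schemeHomeo V).symm.isHomeomorph.comp hQ)

end Fwd

section Bwd

variable (h𝒳 : AlgSt.IsAlgStack Scheme.fppfPrecoverage 𝒳)
  (h𝒴 : AlgSt.IsAlgStack Scheme.fppfPrecoverage 𝒴) (f : 𝒳 ⥤ᵇ 𝒴) (hf : AlgSt.RepByAlgSp1 f)

include h𝒳 h𝒴 hf

theorem univOpen_of_points
    (h : ∀ (𝒵 : AlgSt.Cat S), AlgSt.IsAlgStack Scheme.fppfPrecoverage 𝒵 → ∀ (g : 𝒵 ⥤ᵇ 𝒴),
      IsOpenMap (AlgSt.Points.map (fpFst g f))) :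
    AlgSt.RepByAlgSpWith AlgSp.IsUnivOpenMor f := by
  intro U t
  obtain ⟨F, e₀, he₀⟩ := hf U t
  refine ⟨F, e₀, he₀, ?_⟩
  intro Z Z' hZ k fst snd sq
  obtain ⟨𝒵, h𝒵, g, h₁, h₂, hc⟩ := exists_bwd_data h𝒳 h𝒴 f t F e₀ he₀ hZ k fst snd sq
  exact TopSquare.isOpenMap_conj h₁ h₂ _ _ hc (h 𝒵 h𝒵 g)

theorem univClosed_of_points
    (h : ∀ (𝒵 : AlgSt.Cat S), AlgSt.IsAlgStack Scheme.fppfPrecoverage 𝒵 → ∀ (g : 𝒵 ⥤ᵇ 𝒴),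
      IsClosedMap (AlgSt.Points.map (fpFst g f))) :
    AlgSt.RepByAlgSpWith AlgSp.IsUnivClosedMor f := by
  intro U t
  obtain ⟨F, e₀, he₀⟩ := hf U t
  refine ⟨F, e₀, he₀, ?_⟩
  intro Z Z' hZ k fst snd sq
  obtain ⟨𝒵, h𝒵, g, h₁, h₂, hc⟩ := exists_bwd_data h𝒳 h𝒴 f t F e₀ he₀ hZ k fst snd sq
  exact TopSquare.isClosedMap_conj h₁ h₂ _ _ hc (h 𝒵 h𝒵 g)

theorem univInjective_of_points
    (h : ∀ (𝒵 : AlgSt.Cat S), AlgSt.IsAlgStack Scheme.fppfPrecoverage 𝒵 → ∀ (g : 𝒵 ⥤ᵇ 𝒴),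
      Function.Injective (AlgSt.Points.map (fpFst g f))) :
    AlgSt.RepByAlgSpWith AlgSp.IsUnivInjectiveMor f := by
  intro U t
  obtain ⟨F, e₀, he₀⟩ := hf U t
  refine ⟨F, e₀, he₀, ?_⟩
  intro Z Z' hZ k fst snd sq
  obtain ⟨𝒵, h𝒵, g, h₁, h₂, hc⟩ := exists_bwd_data h𝒳 h𝒴 f t F e₀ he₀ hZ k fst snd sq
  exact TopSquare.injective_conj h₁ h₂ _ _ hc (h 𝒵 h𝒵 g)

theorem univSubmersive_of_points
    (h : ∀ (𝒵 : AlgSt.Cat S), AlgSt.IsAlgStack Scheme.fppfPrecoverage 𝒵 → ∀ (g : 𝒵 ⥤ᵇ 𝒴),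
      Topology.IsQuotientMap (AlgSt.Points.map (fpFst g f))) :
    AlgSt.RepByAlgSpWith AlgSp.IsUnivSubmersiveMor f := by
  intro U t
  obtain ⟨F, e₀, he₀⟩ := hf U t
  refine ⟨F, e₀, he₀, ?_⟩
  intro Z Z' hZ k fst snd sq
  obtain ⟨𝒵, h𝒵, g, h₁, h₂, hc⟩ := exists_bwd_data h𝒳 h𝒴 f t F e₀ he₀ hZ k fst snd sq
  exact TopSquare.isQuotientMap_conj h₁ h₂ _ _ hc (h 𝒵 h𝒵 g)

theorem univHomeo_of_points
    (h : ∀ (𝒵 : AlgSt.Cat S), AlgSt.IsAlgStack Scheme.fppfPrecoverage 𝒵 → ∀ (g : 𝒵 ⥤ᵇ 𝒴),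
      IsHomeomorph (AlgSt.Points.map (fpFst g f))) :
    AlgSt.RepByAlgSpWith AlgSp.IsUnivHomeoMor f := by
  intro U t
  obtain ⟨F, e₀, he₀⟩ := hf U t
  refine ⟨F, e₀, he₀, ?_⟩
  intro Z Z' hZ k fst snd sq
  obtain ⟨𝒵, h𝒵, g, h₁, h₂, hc⟩ := exists_bwd_data h𝒳 h𝒴 f t F e₀ he₀ hZ k fst snd sq
  exact TopSquare.isHomeomorph_conj h₁ h₂ _ _ hc (h 𝒵 h𝒵 g)

end Bwd

end Groth.Agent.Lib.Helper27.StPoints
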