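import Groth.Agent.Lib.Helper27.EndTriv2
import Groth.Agent.Lib.Helper27.InertiaDM
import Groth.Agent.Lib.Helper27.SepDiag
import Groth.Agent.Lib.Helper27.DiagProp
import Groth.Agent.Lib.Helper27.MonoFull
import Groth.Agent.Lib.Helper27.MonoFF
import Groth.Agent.Lib.Helper27.IsoNatFp
import Groth.Agent.Lib.Helper27.AlgStackFp2
import Groth.Agent.Lib.Helper27.StPointsUniv3
import Groth.Agent.Lib.Helper27.RepWithGeneral
import Groth.Agent.S10543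

/-!
# Endomorphisms of functors between DM stacks which are generically trivial (helper27)
-/

set_option autoImplicit false
set_option backward.isDefEq.respectTransparency false
set_option backward.isDefEq.respectTransparency.types false

universe u

open CategoryTheory CategoryTheory.Limits FibCat AlgebraicGeometry Opposite
  Groth.Agent.Lib.Helper27.FpKit Groth.Agent.Lib.Helper27.ReprDiag
  Groth.Agent.Lib.Helper27.DescentKit Groth.Agent.Lib.Helper27.PointsKit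
  Groth.Agent.Lib.Helper27.StPoints Groth.Agent.Lib.Helper27.RepCancel
  Groth.Agent.Lib.Helper27.LocQChart Groth.Agent.Lib.Helper27.SepDiag

namespace Groth.Agent.Lib.Helper27.EndTriv

variable {S : Scheme.{u}} {𝒳 𝒴 𝒰 𝒱 : AlgSt.Cat S}

local infixr:80 " ⊚ " => BasedFunctor.comp

/-- The diagonal of a stack with an etale atlas is unramified. -/
theorem unramified_diag_of_isDM (h𝒴 : AlgSt.IsDM Scheme.fppfPrecoverage 𝒴) :
    AlgSt.RepByAlgSpWith (AlgSp.LocP (@LocallyOfFiniteType ⊓ @FormallyUnramified))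
      (diag (toSelf 𝒴)) := by
  obtain ⟨halg, U, x, hxet, hxs⟩ := h𝒴
  have hU' := Groth.Agent.Lib.Helper27.ReprAux.isFibGrpd_overCat U
  have hL : ∀ ⦃X Y : AlgSp.Sp S⦄ (g : X ⟶ Y), AlgSp.IsEtaleMor g → AlgSp.LocP @Etale g :=
    fun _ _ g hg => Groth.Agent.Lib.Helper3.locP_etale_of_isEtaleMor hg
  have hx₁ : AlgSt.RepByAlgSpWith (AlgSp.LocP @Flat) x :=
    repByAlgSpWith_mono x (fun _ _ g hg => Groth.Agent.Lib.Helper3.locP_mono
      (fun _ _ f hf => by haveI : Etale f := hf; exact (inferInstance : Flat f)) (hL g hg)) hxet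
  have hx₂ : AlgSt.RepByAlgSpWith (AlgSp.LocP @LocallyOfFinitePresentation) x :=
    repByAlgSpWith_mono x (fun _ _ g hg => Groth.Agent.Lib.Helper3.locP_mono
      (fun _ _ f hf => by
        haveI : Etale f := hf; exact (inferInstance : LocallyOfFinitePresentation f)) (hL g hg)) hxet
  have hxu : AlgSt.RepByAlgSpWith (AlgSp.LocP (@LocallyOfFiniteType ⊓ @FormallyUnramified)) x :=
    repByAlgSpWith_mono x (fun _ _ g hg => Groth.Agent.Lib.Helper3.locP_mono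
      (fun _ _ f hf => by
        haveI : Etale f := hf
        exact ⟨(inferInstance : LocallyOfFiniteType f), (inferInstance : FormallyUnramified f)⟩)
      (hL g hg)) hxet
  exact Groth.Agent.Lib.Helper27.DiagProp.prop_diag_toSelf _
    (Groth.Agent.Lib.Helper27.RepWithComp.compHyp_locP Groth.Agent.Lib.Helper3.isEtLocal_unramified)
    (Groth.Agent.Lib.Helper27.RepWithComp.isLocalOnBase_fppf_of_fpqc _ (Groth.Agent.S10543.result S))
    (fun k hk => Groth.Agent.Lib.Helper27.DiagRep.isDMMor_of_repByAlgSp1 k hk)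
    halg.isStack.1 halg.diag hU' (Groth.Agent.Lib.Helper27.FpRepSp2.repByAlgSp_overCat U)
    x hx₁ hx₂ hxs hxu

end Groth.Agent.Lib.Helper27.EndTriv

namespace Groth.Agent.Lib.Helper27.EndTriv

variable {S : Scheme.{u}} {𝒳 𝒴 𝒰 𝒱 : AlgSt.Cat S}

local infixr:80 " ⊚ " => BasedFunctor.comp

/-- An endomorphism of `F` is trivial on objects coming from `𝒰` when `F` maps `𝒰` into an
open substack which is an algebraic space. -/
theorem app_eq_id_of_factor (h𝒴 : FibCat.IsFibGrpd 𝒴.p) (F : 𝒳 ⥤ᵇ 𝒴) (i : 𝒰 ⥤ᵇ 𝒳)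
    (j : 𝒱 ⥤ᵇ 𝒴) (hj : AlgSt.IsOpenImm j) (h𝒱 : AlgSt.RepByAlgSp 𝒱)
    (G : 𝒰 ⥤ᵇ 𝒱) (e : G ⊚ j ≅ i ⊚ F) (α : F ⟶ F) (u : 𝒰.obj) :
    α.toNatTrans.app (i.toFunctor.obj u) = 𝟙 _ := by
  obtain ⟨V, eV, heV⟩ := h𝒱
  have h𝒱f : FibCat.IsFibGrpd 𝒱.p :=
    (Groth.Agent.Lib.Helper27.AlgStackEquiv.isAlgStack_of_equiv _ eV heV
      (isAlgStack_ofSp V)).isStack.1
  have hff := Groth.Agent.Lib.Helper27.MonoFull.full_faithful_of_isMono h𝒱f h𝒴 j
    (Groth.Agent.Lib.Helper27.IsoNatFp.isMono_of_isOpenImm j hj)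
  haveI := hff.1
  let eu : j.toFunctor.obj (G.toFunctor.obj u) ≅ F.toFunctor.obj (i.toFunctor.obj u) :=
    ((BasedNatTrans.forgetful _ _).mapIso e).app u
  have heu : Vert eu.hom := Vert.app e.hom u
  let β : j.toFunctor.obj (G.toFunctor.obj u) ⟶ j.toFunctor.obj (G.toFunctor.obj u) :=
    eu.hom ≫ α.toNatTrans.app (i.toFunctor.obj u) ≫ eu.inv
  have hβ : Vert β := heu.comp ((Vert.app α (i.toFunctor.obj u)).comp (Vert.inv heu))
  obtain ⟨β', hβ'⟩ := j.toFunctor.map_surjective β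
  have hβ'v : Vert β' := Vert.of_map j (by rw [hβ']; exact hβ)
  have h1 : β' = 𝟙 _ :=
    Groth.Agent.Lib.Helper27.MonoFF.vert_ext_of_rep ⟨V, eV, heV⟩ β' (𝟙 _) hβ'v (Vert.id _)
  have h2 : β = 𝟙 _ := by rw [← hβ', h1, j.toFunctor.map_id]
  have h3 : eu.inv ≫ β ≫ eu.hom = α.toNatTrans.app (i.toFunctor.obj u) := by
    simp only [β, Category.assoc, Iso.inv_hom_id, Category.comp_id, Iso.inv_hom_id_assoc]
  rw [← h3, h2, Category.id_comp, Iso.inv_hom_id]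

theorem main (h𝒳 : AlgSt.IsAlgStack Scheme.fppfPrecoverage 𝒳)
    (h𝒴 : AlgSt.IsDM Scheme.fppfPrecoverage 𝒴)
    (hΔ : AlgSt.RepByAlgSpWith AlgSp.IsSeparatedMor (diag (toSelf 𝒴)))
    (F : 𝒳 ⥤ᵇ 𝒴) (i : 𝒰 ⥤ᵇ 𝒳) (hdense : Dense (Set.range (AlgSt.Points.map i)))
    (j : 𝒱 ⥤ᵇ 𝒴) (hj : AlgSt.IsOpenImm j) (h𝒱 : AlgSt.RepByAlgSp 𝒱)
    (G : 𝒰 ⥤ᵇ 𝒱) (e : G ⊚ j ≅ i ⊚ F) (α : F ⟶ F) : α = 𝟙 F := by
  have h𝒴a : AlgSt.IsAlgStack Scheme.fppfPrecoverage 𝒴 := h𝒴.1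
  have h𝒴f : FibCat.IsFibGrpd 𝒴.p := h𝒴a.isStack.1
  have h𝒳f : FibCat.IsFibGrpd 𝒳.p := h𝒳.isStack.1
  have hsq : AlgSt.IsAlgStack Scheme.fppfPrecoverage (fp (toSelf 𝒴) (toSelf 𝒴)) :=
    Groth.Agent.Lib.Helper27.AlgStackFp2.isAlgStack_fp' _ _ _ h𝒴a h𝒴a
      Groth.Agent.Lib.Helper27.AlgStackRep.isAlgStack_selfOver
  have hI : AlgSt.IsAlgStack Scheme.fppfPrecoverage
      (fp (diag (toSelf 𝒴)) (diag (toSelf 𝒴))) :=
    Groth.Agent.Lib.Helper27.AlgStackFp2.isAlgStack_fp' _ _ _ h𝒴a h𝒴a hsq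
  have hop : AlgSt.IsOpenImm (unitSec 𝒴) :=
    Groth.Agent.Lib.Helper27.InertiaDM.openImm_diag_of_unram _ (unramified_diag_of_isDM h𝒴)
  have hcl : AlgSt.IsClosedImm (unitSec 𝒴) := isClosedImm_diag _ hΔ
  let A := toInertia h𝒴f F α
  have hπo : AlgSt.IsOpenImm (fpFst A (unitSec 𝒴)) :=
    Groth.Agent.Lib.Helper27.RepWithGeneral.repByAlgSpWith_fpFst _ (unitSec 𝒴) A hop
  have huc : AlgSt.RepByAlgSpWith AlgSp.IsUnivClosedMor (unitSec 𝒴) :=
    repByAlgSpWith_mono (unitSec 𝒴) (fun _ _ g hg =>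
      (Groth.Agent.Lib.Helper3.isProperMor_of_repWith_isClosedImmersion g hg).2.2) hcl
  have hcm : IsClosedMap (AlgSt.Points.map (fpFst A (unitSec 𝒴))) :=
    Groth.Agent.Lib.Helper27.StPoints.isClosedMap_fpFst_of_univ h𝒴a hI h𝒳 (unitSec 𝒴) A huc
  have hclosed : IsClosed (Set.range (AlgSt.Points.map (fpFst A (unitSec 𝒴)))) := by
    rw [← Set.image_univ]
    exact hcm _ isClosed_univ
  have hsub : Set.range (AlgSt.Points.map i) ⊆
      Set.range (AlgSt.Points.map (fpFst A (unitSec 𝒴))) := by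
    rintro _ ⟨p, rfl⟩
    obtain ⟨p, rfl⟩ := AlgSt.Points.mk_surjective p
    obtain ⟨t, ht⟩ := exists_obj_of_app_eq_id h𝒴f F α (i.toFunctor.obj p.obj)
      (app_eq_id_of_factor h𝒴f F i j hj h𝒱 G e α p.obj)
    let q : AlgSt.FPt (fp A (unitSec 𝒴)) :=
      ⟨p.K, p.str, t, by
        change 𝒳.p.obj t.obj.fst = _
        rw [ht]
        exact (i.w_obj p.obj).trans p.lies⟩
    refine ⟨AlgSt.Points.mk q, ?_⟩
    rw [AlgSt.Points.map_mk, AlgSt.Points.map_mk]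
    exact AlgSt.Points.sound (rel_of_hom (p := q.map (fpFst A (unitSec 𝒴))) (q := p.map i)
      (eqToHom ht))
  have hrange : Set.range (AlgSt.Points.map (fpFst A (unitSec 𝒴))) = Set.univ := by
    rw [← hclosed.closure_eq]
    exact (hdense.mono hsub).closure_eq
  have h𝒵f : FibCat.IsFibGrpd (fp A (unitSec 𝒴)).p :=
    Groth.Agent.Lib.Helper27.FpFib.isFibGrpd_fp A (unitSec 𝒴) h𝒳f h𝒴f hI.isStack.1
  apply BasedNatTrans.homCategory.ext
  ext ξ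
  obtain ⟨y, ι, -⟩ := Groth.Agent.Lib.Helper27.MonoFF.exists_yoneda h𝒳f ξ rfl
  obtain ⟨z, ⟨κ⟩⟩ := exists_lift_of_isOpenImm h𝒳f h𝒵f (fpFst A (unitSec 𝒴)) hπo y (fun t => by
    rw [hrange]
    trivial)
  have h0 : α.toNatTrans.app (z.toFunctor.obj (Over.mk (𝟙 _))).obj.fst = 𝟙 _ :=
    app_eq_id_of_obj h𝒴f F α (z.toFunctor.obj (Over.mk (𝟙 _)))
  let ψ : (z.toFunctor.obj (Over.mk (𝟙 _))).obj.fst ≅ ξ :=
    ((BasedNatTrans.forgetful _ _).mapIso κ).app (Over.mk (𝟙 _)) ≪≫ ι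
  have hnat := α.toNatTrans.naturality ψ.hom
  rw [h0, Category.id_comp] at hnat
  change α.toNatTrans.app ξ = 𝟙 _
  apply (cancel_epi (F.toFunctor.map ψ.hom)).1
  rw [Category.comp_id]
  exact hnat

end Groth.Agent.Lib.Helper27.EndTriv
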