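import Groth.Agent.Lib.Helper27.GraphDiag

/-!
# The base change of a diagonal as the fibre product of two sections (helper27)

For `f : 𝒳 ⟶ 𝒴` and `G : 𝒜 ⟶ 𝒳 ×_𝒴 𝒳`, put `y = f ∘ pr₁ ∘ G : 𝒜 ⟶ 𝒴`.  The two projections of `G`
give two sections `s₁`, `s₂` of `𝒜 ×_𝒴 𝒳 ⟶ 𝒜` and `𝒜 ×_{𝒳 ×_𝒴 𝒳} 𝒳` is equivalent to the 2-fibre
product of `s₁` and `s₂`.
-/

set_option autoImplicit false
set_option backward.isDefEq.respectTransparency false
set_option backward.isDefEq.respectTransparency.types false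

universe v₅ u₅ v₄ u₄ v₃ u₃ v₂ u₂ v u

open CategoryTheory CategoryTheory.Limits FibCat Groth.Agent.Lib.Helper27.FpKit
  Groth.Agent.Lib.Helper27.GraphDiag

namespace Groth.Agent.Lib.Helper27.EqSec

variable {C : Type u} [Category.{v} C]

variable {𝒳 : BasedCategory.{v₂, u₂} C} {𝒴 : BasedCategory.{v₃, u₃} C}
  {𝒜 : BasedCategory.{v₅, u₅} C}
  (f : 𝒳 ⥤ᵇ 𝒴) (G : 𝒜 ⥤ᵇ fp f f)

/-- The first point. -/
abbrev x₁ : 𝒜 ⥤ᵇ 𝒳 := BasedFunctor.comp G (fpFst f f)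

/-- The second point. -/
abbrev x₂ : 𝒜 ⥤ᵇ 𝒳 := BasedFunctor.comp G (fpSnd f f)

/-- The common image. -/
abbrev y : 𝒜 ⥤ᵇ 𝒴 := BasedFunctor.comp (x₁ f G) f

/-- The 2-isomorphism between the two images. -/
def α : BasedFunctor.comp (BasedFunctor.id 𝒜) (y f G) ≅ BasedFunctor.comp (x₂ f G) f :=
  BasedNatIso.mkNatIso
    (NatIso.ofComponents (fun a => (G.toFunctor.obj a).obj.iso)
      (fun {a a'} m => hom_w (G.toFunctor.map m)))
    (fun a => (vert_iso (G.toFunctor.obj a)).lift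
      ((BasedFunctor.comp (x₁ f G) f).w_obj a))

/-- The first section. -/
def s₁ : 𝒜 ⥤ᵇ fp (y f G) f := fpLift (BasedFunctor.id 𝒜) (x₁ f G) (Iso.refl _)

/-- The second section. -/
def s₂ : 𝒜 ⥤ᵇ fp (y f G) f := fpLift (BasedFunctor.id 𝒜) (x₂ f G) (α f G)

theorem s₁_iso_hom (a : 𝒜.obj) : ((s₁ f G).toFunctor.obj a).obj.iso.hom = 𝟙 _ := rfl

theorem s₂_iso_hom (a : 𝒜.obj) :
    ((s₂ f G).toFunctor.obj a).obj.iso.hom = (G.toFunctor.obj a).obj.iso.hom := rfl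

theorem s₁_map_fst {a a' : 𝒜.obj} (m : a ⟶ a') : ((s₁ f G).toFunctor.map m).hom.fst = m := rfl
theorem s₁_map_snd {a a' : 𝒜.obj} (m : a ⟶ a') :
    ((s₁ f G).toFunctor.map m).hom.snd = (G.toFunctor.map m).hom.fst := rfl
theorem s₂_map_fst {a a' : 𝒜.obj} (m : a ⟶ a') : ((s₂ f G).toFunctor.map m).hom.fst = m := rfl
theorem s₂_map_snd {a a' : 𝒜.obj} (m : a ⟶ a') :
    ((s₂ f G).toFunctor.map m).hom.snd = (G.toFunctor.map m).hom.snd := rfl

abbrev T := (fp G (diag f)).obj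

variable {f G}

/-- First component of the structure isomorphism. -/
def θ₁ (r : T f G) : (G.toFunctor.obj r.obj.fst).obj.fst ≅ r.obj.snd :=
  (fpFst f f).toFunctor.mapIso r.obj.iso

/-- Second component of the structure isomorphism. -/
def θ₂ (r : T f G) : (G.toFunctor.obj r.obj.fst).obj.snd ≅ r.obj.snd :=
  (fpSnd f f).toFunctor.mapIso r.obj.iso

theorem θ₁_hom (r : T f G) : (θ₁ r).hom = r.obj.iso.hom.hom.fst := rfl
theorem θ₂_hom (r : T f G) : (θ₂ r).hom = r.obj.iso.hom.hom.snd := rfl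

theorem vert_θ₁ (r : T f G) : Vert (θ₁ r).hom := vert_fst _ (vert_iso r)
theorem vert_θ₂ (r : T f G) : Vert (θ₂ r).hom := vert_snd _ (vert_iso r)

theorem θ_w (r : T f G) :
    f.toFunctor.map (θ₁ r).hom =
      (G.toFunctor.obj r.obj.fst).obj.iso.hom ≫ f.toFunctor.map (θ₂ r).hom := by
  have h := hom_w r.obj.iso.hom
  rw [diag_iso_hom] at h
  rw [θ₁_hom, θ₂_hom, ← h]
  exact (Category.comp_id _).symm

theorem hom_w₁ {r r' : T f G} (Θ : r ⟶ r') :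
    (G.toFunctor.map Θ.hom.fst).hom.fst ≫ (θ₁ r').hom = (θ₁ r).hom ≫ Θ.hom.snd := by
  have h := congrArg (fun m => m.hom.fst) (hom_w Θ)
  exact h

theorem hom_w₂ {r r' : T f G} (Θ : r ⟶ r') :
    (G.toFunctor.map Θ.hom.fst).hom.snd ≫ (θ₂ r').hom = (θ₂ r).hom ≫ Θ.hom.snd := by
  have h := congrArg (fun m => m.hom.snd) (hom_w Θ)
  exact h

variable (f G)

theorem ζ_w (r : T f G) :
    (y f G).toFunctor.map (Iso.refl r.obj.fst).hom ≫
        ((s₂ f G).toFunctor.obj r.obj.fst).obj.iso.hom =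
      ((s₁ f G).toFunctor.obj r.obj.fst).obj.iso.hom ≫
        f.toFunctor.map ((θ₁ r) ≪≫ (θ₂ r).symm).hom := by
  rw [s₁_iso_hom, s₂_iso_hom]
  change (y f G).toFunctor.map (𝟙 _) ≫ _ = 𝟙 _ ≫ f.toFunctor.map ((θ₁ r).hom ≫ (θ₂ r).inv)
  rw [CategoryTheory.Functor.map_id, Category.id_comp, Category.id_comp, f.toFunctor.map_comp,
    θ_w r, Category.assoc, ← f.toFunctor.map_comp, Iso.hom_inv_id, f.toFunctor.map_id]
  exact (Category.comp_id _).symm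

/-- The isomorphism between the two sections attached to an object. -/
def ζ (r : T f G) : (s₁ f G).toFunctor.obj r.obj.fst ≅ (s₂ f G).toFunctor.obj r.obj.fst :=
  mkIso (t := (s₁ f G).toFunctor.obj r.obj.fst) (t' := (s₂ f G).toFunctor.obj r.obj.fst)
    (Iso.refl _) ((θ₁ r) ≪≫ (θ₂ r).symm) (ζ_w f G r)

theorem ζ_hom_fst (r : T f G) : (ζ f G r).hom.hom.fst = 𝟙 _ := rfl
theorem ζ_hom_snd (r : T f G) : (ζ f G r).hom.hom.snd = (θ₁ r).hom ≫ (θ₂ r).inv := rfl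

theorem vert_ζ (r : T f G) : Vert (ζ f G r).hom := by
  rw [vert_hom_iff]
  exact Vert.id _

/-- Object part of the comparison. -/
def ΦObj (r : T f G) : (fp (s₁ f G) (s₂ f G)).obj :=
  mkObj (F := s₁ f G) (G := s₂ f G) r.obj.fst r.obj.fst (ζ f G r) (vert_ζ f G r)

theorem ΦObj_iso_hom (r : T f G) : (ΦObj f G r).obj.iso.hom = (ζ f G r).hom := rfl

theorem Φ_w {r r' : T f G} (Θ : r ⟶ r') :
    (s₁ f G).toFunctor.map Θ.hom.fst ≫ (ΦObj f G r').obj.iso.hom =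
      (ΦObj f G r).obj.iso.hom ≫ (s₂ f G).toFunctor.map Θ.hom.fst := by
  rw [ΦObj_iso_hom, ΦObj_iso_hom]
  apply Groth.Agent.Lib.Helper27.StackFp.hom_ext'
  · rw [comp_fst, comp_fst, ζ_hom_fst, ζ_hom_fst, s₁_map_fst, s₂_map_fst]
    exact (Category.comp_id _).trans (Category.id_comp _).symm
  · rw [comp_snd, comp_snd, ζ_hom_snd, ζ_hom_snd, s₁_map_snd, s₂_map_snd]
    have h2 : (θ₂ r).inv ≫ (G.toFunctor.map Θ.hom.fst).hom.snd = Θ.hom.snd ≫ (θ₂ r').inv := by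
      rw [Iso.inv_comp_eq, ← Category.assoc, ← hom_w₂ Θ, Category.assoc, Iso.hom_inv_id,
        Category.comp_id]
    rw [← Category.assoc, hom_w₁ Θ, Category.assoc, Category.assoc, h2]

/-- The comparison functor `𝒜 ×_{𝒳 ×_𝒴 𝒳} 𝒳 ⟶ 𝒜 ×_{s₁, 𝒜 ×_𝒴 𝒳, s₂} 𝒜`. -/
def Φ : fp G (diag f) ⥤ᵇ fp (s₁ f G) (s₂ f G) where
  toFunctor :=
    { obj := ΦObj f G
      map := fun {r r'} Θ =>
        mkHom (t := ΦObj f G r) (t' := ΦObj f G r') Θ.hom.fst Θ.hom.fst (Φ_w f G Θ)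
      map_id := fun r => by
        apply Groth.Agent.Lib.Helper27.StackFp.hom_ext'
        · rfl
        · rfl
      map_comp := fun {r r' r''} Θ Ψ => by
        apply Groth.Agent.Lib.Helper27.StackFp.hom_ext'
        · rfl
        · rfl }
  w := CategoryTheory.Functor.ext (fun r => rfl) (fun r r' Θ => by
    simp only [eqToHom_refl, Category.id_comp, Category.comp_id]
    rfl)

theorem Φ_faithful : (Φ f G).toFunctor.Faithful := by
  constructor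
  intro r r' Θ Θ' h
  have h1 : Θ.hom.fst = Θ'.hom.fst := congrArg (fun Ξ => Ξ.hom.fst) h
  have h3 : Θ.hom.snd = Θ'.hom.snd := by
    apply (cancel_epi (θ₁ r).hom).1
    rw [← hom_w₁ Θ, ← hom_w₁ Θ', h1]
  exact Groth.Agent.Lib.Helper27.StackFp.hom_ext' h1 h3

theorem Φ_full : (Φ f G).toFunctor.Full := by
  constructor
  intro r r' Ξ
  obtain ⟨μ, hμ⟩ : ∃ μ : r.obj.fst ⟶ r'.obj.fst, μ = Ξ.hom.fst := ⟨_, rfl⟩
  obtain ⟨μ', hμ'⟩ : ∃ μ' : r.obj.fst ⟶ r'.obj.fst, μ' = Ξ.hom.snd := ⟨_, rfl⟩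
  have hΞ : (s₁ f G).toFunctor.map μ ≫ (ζ f G r').hom =
      (ζ f G r).hom ≫ (s₂ f G).toFunctor.map μ' := by
    rw [hμ, hμ']
    exact hom_w Ξ
  have hΞ1 : μ = μ' := by
    have h := congrArg (fun m => m.hom.fst) hΞ
    change μ ≫ 𝟙 _ = 𝟙 _ ≫ μ' at h
    rw [Category.comp_id, Category.id_comp] at h
    exact h
  have hΞ2 : (G.toFunctor.map μ).hom.fst ≫ (θ₁ r').hom ≫ (θ₂ r').inv =
      ((θ₁ r).hom ≫ (θ₂ r).inv) ≫ (G.toFunctor.map μ).hom.snd := by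
    have h := congrArg (fun m => m.hom.snd) hΞ
    rw [← hΞ1] at h
    exact h
  let ν : r.obj.snd ⟶ r'.obj.snd := (θ₁ r).inv ≫ (G.toFunctor.map μ).hom.fst ≫ (θ₁ r').hom
  have hν1 : (G.toFunctor.map μ).hom.fst ≫ (θ₁ r').hom = (θ₁ r).hom ≫ ν := by
    simp only [ν, Iso.hom_inv_id_assoc]
  have hν2 : (G.toFunctor.map μ).hom.snd ≫ (θ₂ r').hom = (θ₂ r).hom ≫ ν := by
    have h1 : (θ₂ r).inv ≫ (G.toFunctor.map μ).hom.snd ≫ (θ₂ r').hom = ν := by
      have h2 := congrArg (fun m => (θ₁ r).inv ≫ m ≫ (θ₂ r').hom) hΞ2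
      simp only [Category.assoc, Iso.inv_hom_id, Category.comp_id, Iso.inv_hom_id_assoc] at h2
      exact h2.symm
    rw [← h1, Iso.hom_inv_id_assoc]
  have hΘ : G.toFunctor.map μ ≫ r'.obj.iso.hom = r.obj.iso.hom ≫ (diag f).toFunctor.map ν := by
    apply Groth.Agent.Lib.Helper27.StackFp.hom_ext'
    · exact hν1
    · exact hν2
  refine ⟨mkHom μ ν hΘ, ?_⟩
  apply Groth.Agent.Lib.Helper27.StackFp.hom_ext'
  · exact hμ
  · exact hΞ1.trans hμ'

theorem Φ_ess (q : (fp (s₁ f G) (s₂ f G)).obj) :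
    ∃ (r : (fp G (diag f)).obj) (e : (Φ f G).toFunctor.obj r ≅ q), Vert e.hom := by
  -- the components of the structure isomorphism of `q`
  let lam : q.obj.fst ≅ q.obj.snd := (fpFst (y f G) f).toFunctor.mapIso q.obj.iso
  let ρ : (G.toFunctor.obj q.obj.fst).obj.fst ≅ (G.toFunctor.obj q.obj.snd).obj.snd :=
    (fpSnd (y f G) f).toFunctor.mapIso q.obj.iso
  have hlam : Vert lam.hom := vert_fst _ (vert_iso q)
  have hρ : Vert ρ.hom := vert_snd _ (vert_iso q)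
  have hq : (y f G).toFunctor.map lam.hom ≫ (G.toFunctor.obj q.obj.snd).obj.iso.hom =
      f.toFunctor.map ρ.hom := by
    have h := hom_w q.obj.iso.hom
    rw [s₁_iso_hom, s₂_iso_hom] at h
    rw [Category.id_comp] at h
    exact h
  let Gl : (G.toFunctor.obj q.obj.fst).obj.snd ≅ (G.toFunctor.obj q.obj.snd).obj.snd :=
    (fpSnd f f).toFunctor.mapIso (G.toFunctor.mapIso lam)
  have hGl : Vert Gl.hom := vert_snd _ (hlam.map G)
  let θ₂' : (G.toFunctor.obj q.obj.fst).obj.snd ≅ (G.toFunctor.obj q.obj.fst).obj.fst :=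
    Gl ≪≫ ρ.symm
  have hnat : f.toFunctor.map (G.toFunctor.map lam.hom).hom.fst ≫
      (G.toFunctor.obj q.obj.snd).obj.iso.hom =
      (G.toFunctor.obj q.obj.fst).obj.iso.hom ≫ f.toFunctor.map Gl.hom :=
    hom_w (G.toFunctor.map lam.hom)
  have hw : f.toFunctor.map (Iso.refl (G.toFunctor.obj q.obj.fst).obj.fst).hom ≫
      ((diag f).toFunctor.obj (G.toFunctor.obj q.obj.fst).obj.fst).obj.iso.hom =
      (G.toFunctor.obj q.obj.fst).obj.iso.hom ≫ f.toFunctor.map θ₂'.hom := by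
    rw [diag_iso_hom]
    change f.toFunctor.map (𝟙 _) ≫ 𝟙 _ = _ ≫ f.toFunctor.map (Gl.hom ≫ ρ.inv)
    rw [f.toFunctor.map_id, Category.id_comp, f.toFunctor.map_comp, ← Category.assoc, ← hnat]
    have h1 : f.toFunctor.map (G.toFunctor.map lam.hom).hom.fst ≫
        (G.toFunctor.obj q.obj.snd).obj.iso.hom = f.toFunctor.map ρ.hom := hq
    rw [h1, ← f.toFunctor.map_comp, Iso.hom_inv_id, f.toFunctor.map_id]
  let θ : G.toFunctor.obj q.obj.fst ≅
      (diag f).toFunctor.obj (G.toFunctor.obj q.obj.fst).obj.fst :=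
    mkIso (t := G.toFunctor.obj q.obj.fst)
      (t' := (diag f).toFunctor.obj (G.toFunctor.obj q.obj.fst).obj.fst) (Iso.refl _) θ₂' hw
  have hθ : Vert θ.hom := by
    rw [vert_hom_iff]
    exact Vert.id _
  let r : (fp G (diag f)).obj :=
    mkObj (F := G) (G := diag f) q.obj.fst (G.toFunctor.obj q.obj.fst).obj.fst θ hθ
  have hw' : (s₁ f G).toFunctor.map (Iso.refl q.obj.fst).hom ≫ q.obj.iso.hom =
      (ΦObj f G r).obj.iso.hom ≫ (s₂ f G).toFunctor.map lam.hom := by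
    rw [ΦObj_iso_hom]
    apply Groth.Agent.Lib.Helper27.StackFp.hom_ext'
    · rw [comp_fst, comp_fst, ζ_hom_fst, s₁_map_fst, s₂_map_fst]
      rfl
    · rw [comp_snd, comp_snd, ζ_hom_snd, s₁_map_snd, s₂_map_snd]
      have e1 : (G.toFunctor.map (Iso.refl q.obj.fst).hom).hom.fst = 𝟙 _ := by
        change (G.toFunctor.map (𝟙 _)).hom.fst = 𝟙 _
        rw [G.toFunctor.map_id]
        rfl
      have e2 : (θ₁ r).hom = 𝟙 _ := rfl
      have e3 : (θ₂ r).inv = ρ.hom ≫ Gl.inv := rfl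
      have e4 : (G.toFunctor.map lam.hom).hom.snd = Gl.hom := rfl
      have e5 : q.obj.iso.hom.hom.snd = ρ.hom := rfl
      rw [e1, e2, e3, e4, e5]
      simp only [Category.id_comp, Category.assoc, Iso.inv_hom_id, Category.comp_id]
      exact Category.id_comp _
  refine ⟨r, mkIso (t := ΦObj f G r) (t' := q) (Iso.refl _) lam hw', ?_⟩
  rw [vert_hom_iff]
  exact Vert.id _

theorem isEquivOver_Φ : IsEquivOver (Φ f G) :=
  isEquivOver_of_ess _ (Φ_full f G) (Φ_faithful f G) (Φ_ess f G)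

end Groth.Agent.Lib.Helper27.EqSec
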