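import Groth.Agent.Lib.Helper27.SmBoot3
import Groth.Agent.Lib.Helper3.EtSheaf
import Groth.Agent.S12796
import Groth.Agent.S12797

/-!
# Smooth bootstrap of the diagonal for stacks in the etale topology (helper27)

Uses helper3's `EtSheaf.isAlgSpaceP_of_chart`.
-/

set_option autoImplicit false
set_option backward.isDefEq.respectTransparency false
set_option backward.isDefEq.respectTransparency.types false

universe u

open CategoryTheory CategoryTheory.Limits FibCat AlgebraicGeometry Opposite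
  Groth.Agent.Lib.Helper27.FpKit Groth.Agent.Lib.Helper27.PshKit
  Groth.Agent.Lib.Helper27.RepWithComp Groth.Agent.Lib.Helper27.Descent
  Groth.Agent.Lib.Helper27.BaseChangePres Groth.Agent.Lib.Helper27.PshRep
  Groth.Agent.Lib.Helper27.PshFp Groth.Agent.Lib.Helper3.EtSheaf

namespace Groth.Agent.Lib.Helper27.EtBoot

variable {S : Scheme.{u}}

local infixr:80 " ⊚ " => BasedFunctor.comp

section Stacks

theorem isStack_ofSp_et (F : AlgSp.Sp S) : Stk.IsStack (Jet S) (AlgSt.ofSp F) := by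
  change Stk.IsStack (Jet S) (Stk.ofPsh F.obj)
  rw [Groth.Agent.S12796.result]
  exact (isSheaf_iff_isSheaf_of_type _ _).1 (isSheaf_Jet_of_sp F)

theorem isStack_overCat_et (Z : Over S) : Stk.IsStack (Jet S) (overCat Z) := by
  rw [Groth.Agent.S12797.result]
  have h := (Groth.Agent.S12797.result (AlgSp.J S) Z).1
    (Groth.Agent.Lib.Helper27.QcStack.isStack_overCat Z)
  exact Presieve.isSheaf_of_le _ Jet_le h

theorem isPrestack_of_isStack_et {𝒜 : AlgSt.Cat S} (h : Stk.IsStack (Jet S) 𝒜) :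
    Stk.IsPrestack (Jet S) 𝒜 :=
  Groth.Agent.Lib.Helper27.AlgStackFp2.isPrestack_of_isStack' _ h

end Stacks

section Xi

variable {𝒳 𝒴 : AlgSt.Cat S}

/-- The map of cospans used to replace `fpFst y' f` by a map of presheaves (presheaf source). -/
def D₃' {X' : AlgSp.PSp S} {Y' : AlgSp.Sp S} (f : 𝒳 ⥤ᵇ 𝒴) (y' : AlgSt.ofSp Y' ⥤ᵇ 𝒴)
    (e : Stk.ofPsh X' ⥤ᵇ fp y' f) {𝒜 : AlgSt.Cat S} (G : 𝒜 ⥤ᵇ AlgSt.ofSp Y') :
    MapData G (fpFst y' f) G
      (Stk.ofPshMap (pshMapOf (BasedFunctor.comp e (fpFst y' f))))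
      (BasedFunctor.id _) e (BasedFunctor.id _) where
  e₁ := fun _ => Iso.refl _
  n₁ := fun _ => (Category.comp_id _).trans (Category.id_comp _).symm
  l₁ := fun _ => Vert.id _
  e₂ := fun x' => τ (BasedFunctor.comp e (fpFst y' f)) x'
  n₂ := fun β => τ_nat (BasedFunctor.comp e (fpFst y' f)) β
  l₂ := fun x' => τ_vert (BasedFunctor.comp e (fpFst y' f)) x'

/-- The presentation of the base change (presheaf source). -/
def Ξ' {X' W : AlgSp.PSp S} {Y' Z : AlgSp.Sp S} (f : 𝒳 ⥤ᵇ 𝒴) (y' : AlgSt.ofSp Y' ⥤ᵇ 𝒴)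
    (e : Stk.ofPsh X' ⥤ᵇ fp y' f) (a : Z ⟶ Y') {fst : W ⟶ X'} {snd : W ⟶ Z.obj}
    (sq : IsPullback fst snd (pshMapOf (BasedFunctor.comp e (fpFst y' f))) a.hom) :
    Stk.ofPsh W ⥤ᵇ fp (BasedFunctor.comp (AlgSt.ofSpMap a) y') f :=
  BasedFunctor.comp (bridge sq) (BasedFunctor.comp (fpMap (D₃' f y' e (AlgSt.ofSpMap a)))
    (pasteL f y' (AlgSt.ofSpMap a)))

theorem isEquivOver_Ξ' {X' W : AlgSp.PSp S} {Y' Z : AlgSp.Sp S} (f : 𝒳 ⥤ᵇ 𝒴)
    (y' : AlgSt.ofSp Y' ⥤ᵇ 𝒴) (e : Stk.ofPsh X' ⥤ᵇ fp y' f) (he : IsEquivOver e) (a : Z ⟶ Y')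
    {fst : W ⟶ X'} {snd : W ⟶ Z.obj}
    (sq : IsPullback fst snd (pshMapOf (BasedFunctor.comp e (fpFst y' f))) a.hom) :
    IsEquivOver (Ξ' f y' e a sq) :=
  isEquivOver_comp _ _ (isEquivOver_bridge sq)
    (isEquivOver_comp _ _
      (isEquivOver_fpMap (D₃' f y' e (AlgSt.ofSpMap a)) (isEquivOver_id _) he (isEquivOver_id _))
      (isEquivOver_pasteL f y' (AlgSt.ofSpMap a)))

end Xi

section Conv

/-- A representable morphism of sheaves with `P` is relatively representable with `P` as a map of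
presheaves. -/
theorem relative_pyon_of_repWith (P : MorphismProperty Scheme.{u}) [P.IsStableUnderBaseChange]
    {G H : AlgSp.Sp S} (q : G ⟶ H) (h : AlgSp.RepWith P q) :
    (P.inverseImage (Over.forget S)).relative (AlgSp.pyon S) q.hom := by
  apply MorphismProperty.relative.of_exists
  intro T g
  obtain ⟨b, snd, fst, sq⟩ := h.rep (ObjectProperty.homMk g : (AlgSp.yon S).obj T ⟶ H)
  exact ⟨b, fst.hom, snd, sq.map (sheafToPresheaf (AlgSp.J S) (Type (u + 1))),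
    h.property _ _ _ sq⟩

end Conv

section Chart

variable {𝒳 : AlgSt.Cat S}

/-- Etale-stack version: charts whose pullback along an etale surjective map is representable by
algebraic spaces are representable by algebraic spaces. -/
theorem repByAlgSp_fp_of_etale_et (h𝒳 : Stk.IsStack (Jet S) 𝒳) {U U' V : Over S}
    (x : overCat U ⥤ᵇ 𝒳) (h : U' ⟶ U) (hh₁ : Etale h.left) (hh₃ : Function.Surjective h.left)
    (z : overCat V ⥤ᵇ 𝒳)
    (hx' : AlgSt.RepByAlgSp (fp z (AlgSt.overMap h ⊚ x))) :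
    AlgSt.RepByAlgSp (fp z x) := by
  apply Groth.Agent.Lib.Helper27.FpRepSp2.repByAlgSp_of_equiv _
    (Groth.Agent.Lib.Helper27.FpSwap.isEquivOver_swap x z)
  apply Groth.Agent.Lib.Helper27.DiagIff.repByAlgSp_of_equiv' (toSp z x) (isEquivOver_toSp z x)
  obtain ⟨y', hy'⟩ : ∃ y' : AlgSt.ofSp ((AlgSp.yon S).obj U) ⥤ᵇ 𝒳, y' = AlgSt.toOverCat U ⊚ x :=
    ⟨_, rfl⟩
  rw [← hy']
  have hst : Stk.IsStack (Jet S) (fp y' z) :=
    Groth.Agent.Lib.Helper27.StackFp.isStack_fp _ y' z (isStack_ofSp_et _)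
      (isStack_overCat_et V) (isPrestack_of_isStack_et h𝒳)
  have hrepU : AlgSt.RepByAlgSp (AlgSt.ofSp ((AlgSp.yon S).obj U)) :=
    ⟨⟨(AlgSp.yon S).obj U, AlgSp.IsAlgSpace.yon_obj U⟩, BasedFunctor.id _, isEquivOver_id _⟩
  obtain ⟨W, E, hE⟩ := Groth.Agent.Lib.Helper27.FpRepSp.exists_psh_of_fibSetoid hst.1
    (Groth.Agent.Lib.Helper27.SmBoot.thin_fp' z y'
      (Groth.Agent.Lib.Helper27.FpRepSp2.repByAlgSp_overCat V) hrepU)
  have hstW : Stk.IsStack (Jet S) (Stk.ofPsh W) :=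
    (Groth.Agent.Lib.Helper27.EquivOverAux.isStack_iff (Jet S) E hE).1 hst
  have hshW : Presheaf.IsSheaf (Jet S) W :=
    (isSheaf_iff_isSheaf_of_type _ _).2
      ((Groth.Agent.Lib.Helper27.StackPsh.isStack_iff_isSheaf (Jet S)).1 hstW)
  obtain ⟨e, he, -, -⟩ := exists_inverse E hE
  obtain ⟨π, hπ⟩ : ∃ π : W ⟶ ((AlgSp.yon S).obj U).obj, π = pshMapOf (e ⊚ fpFst y' z) :=
    ⟨_, rfl⟩
  obtain ⟨hh, hhdef⟩ : ∃ hh : ((AlgSp.yon S).obj U').obj ⟶ ((AlgSp.yon S).obj U).obj,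
    hh = ((AlgSp.yon S).map h).hom := ⟨_, rfl⟩
  have sqP : IsPullback (pullback.fst π hh) (pullback.snd π hh) π hh :=
    IsPullback.of_hasPullback _ _
  have sqP' : IsPullback (pullback.fst π hh) (pullback.snd π hh) (pshMapOf (e ⊚ fpFst y' z))
      ((AlgSp.yon S).map h).hom := by
    rw [← hπ, ← hhdef]; exact sqP
  have hΞ := isEquivOver_Ξ' z y' e he ((AlgSp.yon S).map h) sqP'
  have hrep' : AlgSt.RepByAlgSp (fp (AlgSt.ofSpMap ((AlgSp.yon S).map h) ⊚ y') z) := by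
    rw [hy']
    change AlgSt.RepByAlgSp (fp (AlgSt.toOverCat U' ⊚ (AlgSt.overMap h ⊚ x)) z)
    apply Groth.Agent.Lib.Helper27.FpRepSp2.repByAlgSp_of_equiv _
      (isEquivOver_toSp z (AlgSt.overMap h ⊚ x))
    apply Groth.Agent.Lib.Helper27.FpRepSp2.repByAlgSp_of_equiv _
      (Groth.Agent.Lib.Helper27.FpSwap.isEquivOver_swap z (AlgSt.overMap h ⊚ x))
    exact hx'
  obtain ⟨X, eX, heX⟩ := Groth.Agent.Lib.Helper27.DiagIff.repByAlgSp_of_equiv' _ hΞ hrep'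
  have hφ : IsIso (pshMapOf eX) := isIso_pshMapOf eX heX
  obtain ⟨V₀, a₀, ha₀e, ha₀s⟩ := X.property.atlas
  -- the chart of `W`
  have hrelh : ∀ (P : MorphismProperty Scheme.{u}) [P.IsStableUnderBaseChange], P h.left →
      (P.inverseImage (Over.forget S)).relative (AlgSp.pyon S) (pullback.fst π hh) := by
    intro P _ hP
    have h1 : (P.inverseImage (Over.forget S)).relative (AlgSp.pyon S) hh := by
      rw [hhdef]
      exact MorphismProperty.relative_map (F := AlgSp.pyon S) hP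
    have := MorphismProperty.relative_isStableUnderBaseChange (F := AlgSp.pyon S)
      (P := P.inverseImage (Over.forget S))
    exact MorphismProperty.of_isPullback sqP.flip h1
  have hrel : ∀ (P : MorphismProperty Scheme.{u}) [P.IsStableUnderBaseChange]
      [P.IsMultiplicative], P h.left → AlgSp.RepWith P a₀ →
      (P.inverseImage (Over.forget S)).relative (AlgSp.pyon S)
        (a₀.hom ≫ pshMapOf eX ≫ pullback.fst π hh) := by
    intro P _ _ hP ha₀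
    refine MorphismProperty.comp_mem _ _ _ (relative_pyon_of_repWith P a₀ ha₀) ?_
    exact (MorphismProperty.cancel_left_of_respectsIso _ (pshMapOf eX) _).2 (hrelh P hP)
  obtain ⟨hsh, halg⟩ := isAlgSpaceP_of_chart W hshW V₀ (a₀.hom ≫ pshMapOf eX ≫ pullback.fst π hh)
    (hrel @Etale hh₁ ha₀e) (hrel @Surjective ⟨hh₃⟩ ha₀s)
  exact ⟨⟨⟨W, hsh⟩, halg⟩, e, he⟩

/-- Etale-stack version of `SmBoot.repByAlgSp1_chart`. -/
theorem repByAlgSp1_chart_et (h𝒳 : Stk.IsStack (Jet S) 𝒳) {R₀ : AlgSp.Space S}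
    (w : AlgSt.ofSp R₀.obj ⥤ᵇ 𝒳) (hw₁ : AlgSt.RepByAlgSpWith (AlgSp.LocP @Smooth) w)
    (hw₃ : AlgSt.RepByAlgSpWith AlgSp.IsSurjectiveMor w) {U : Over S} (x : overCat U ⥤ᵇ 𝒳) :
    AlgSt.RepByAlgSp1 x := by
  intro V z
  obtain ⟨U', h, l, hh₁, hh₃, ⟨κ⟩⟩ := Groth.Agent.Lib.Helper27.SmBoot.exists_etale_lift w x hw₁ hw₃
  apply repByAlgSp_fp_of_etale_et h𝒳 x h hh₁ hh₃ z
  have hfU' : FibCat.IsFibGrpd (overCat U').p :=
    Groth.Agent.Lib.Helper27.ReprAux.isFibGrpd_overCat U'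
  have hfR : FibCat.IsFibGrpd (AlgSt.ofSp R₀.obj).p :=
    (Groth.Agent.Lib.Helper27.AlgStackRep.isStack_ofSp R₀.obj).1
  have hrepR : AlgSt.RepByAlgSp (AlgSt.ofSp R₀.obj) := ⟨R₀, BasedFunctor.id _, isEquivOver_id _⟩
  have hl : AlgSt.RepByAlgSpWith ⊤ l :=
    (Groth.Agent.Lib.Helper27.AlgStackEquiv.repByAlgSp1_iff l).1
      (Groth.Agent.Lib.Helper27.PshRepSp.repByAlgSp1_of_repByAlgSp
        (Groth.Agent.Lib.Helper27.FpRepSp2.repByAlgSp_overCat U') hrepR l)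
  have hw : AlgSt.RepByAlgSpWith ⊤ w :=
    Groth.Agent.Lib.Helper27.SepDiag.repByAlgSpWith_mono w (fun _ _ _ _ => trivial) hw₁
  have hlw : AlgSt.RepByAlgSpWith ⊤ (l ⊚ w) := comp_gen ⊤ compHyp_top hfU' hfR l w hl hw
  have hx' := Groth.Agent.Lib.Helper27.LocQOver.repByAlgSpWith_of_iso ⊤ κ hlw
  obtain ⟨G, eG, heG, -⟩ := hx' V z
  exact ⟨G, eG, heG⟩

/-- A stack in groupoids for the etale topology with a smooth surjective atlas is an algebraic
stack for the etale topology. -/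
theorem isAlgStack_et_of_atlas (h𝒳 : Stk.IsStack (Jet S) 𝒳)
    (hU : AlgSt.HasAtlas (AlgSp.LocP @Smooth) 𝒳) :
    AlgSt.IsAlgStack Scheme.etalePrecoverage 𝒳 where
  isStack := h𝒳
  diag := by
    obtain ⟨U₀, x₀, h1, h3⟩ := hU
    exact (Groth.Agent.Lib.Helper27.DiagIff.repByAlgSp1_diag_iff h𝒳.1).2 (fun U x =>
      repByAlgSp1_chart_et (R₀ := ⟨(AlgSp.yon S).obj U₀, AlgSp.IsAlgSpace.yon_obj U₀⟩) h𝒳
        (AlgSt.toOverCat U₀ ⊚ x₀)
        (Groth.Agent.Lib.Helper27.LocQOver.repByAlgSpWith_equiv_comp _ (AlgSt.toOverCat U₀)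
          (isEquivOver_toOverCat U₀) x₀ h1)
        (Groth.Agent.Lib.Helper27.LocQOver.repByAlgSpWith_equiv_comp _ (AlgSt.toOverCat U₀)
          (isEquivOver_toOverCat U₀) x₀ h3) x)
  atlas := hU

end Chart

end Groth.Agent.Lib.Helper27.EtBoot
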