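import Mathlib

/-!
# Induction on finite abelian `ℓ`-groups along short exact sequences (helper27)
-/

set_option autoImplicit false
universe w
open CategoryTheory Limits

namespace Groth.Agent.Lib.Helper27.EtDepthA

variable (ℓ : ℕ) (hℓ : ℓ.Prime)

include hℓ in
/-- a nonzero `ℓ`-power torsion element gives rise to an element of order `ℓ` -/
theorem exists_order_l {G : Type*} [AddCommGroup G] (g : G) (hg : g ≠ 0)
    (hk : ∃ k : ℕ, (ℓ ^ k) • g = 0) : ∃ g' : G, g' ≠ 0 ∧ ℓ • g' = 0 := by
  classical
  have hk0 : Nat.find hk ≠ 0 := by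
    intro h0
    have := Nat.find_spec hk
    rw [h0, pow_zero, one_smul] at this
    exact hg this
  obtain ⟨k, hk1⟩ := Nat.exists_eq_succ_of_ne_zero hk0
  refine ⟨(ℓ ^ k) • g, ?_, ?_⟩
  · intro h
    have := Nat.find_min' hk h
    omega
  · have := Nat.find_spec hk
    rw [hk1, pow_succ, mul_comm, mul_smul] at this
    exact this

include hℓ in
/-- induction principle for finite abelian `ℓ`-groups -/
theorem finite_lgroup_induction (P : AddCommGrpCat.{w} → Prop)
    (h0 : ∀ G : AddCommGrpCat.{w}, Subsingleton G → P G)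
    (hext : ∀ S : ShortComplex AddCommGrpCat.{w}, S.ShortExact → P S.X₁ → P S.X₃ → P S.X₂)
    (hℓP : P (AddCommGrpCat.of (ULift.{w} (ZMod ℓ))))
    (G : AddCommGrpCat.{w}) [Finite G] (hG : ∀ g : G, ∃ k : ℕ, (ℓ ^ k) • g = 0) : P G := by
  induction hn : Nat.card G using Nat.strong_induction_on generalizing G with
  | _ N ih =>
    by_cases hsub : Subsingleton G
    · exact h0 G hsub
    · rw [not_subsingleton_iff_nontrivial] at hsub
      obtain ⟨g, hg⟩ := exists_ne (0 : G)
      obtain ⟨g', hg', hℓg'⟩ := exists_order_l ℓ hℓ g hg (hG g)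
      haveI : Fact ℓ.Prime := ⟨hℓ⟩
      let φ₀ : { f : ℤ →+ G // f ℓ = 0 } := ⟨zmultiplesHom G g', by
        change (ℓ : ℤ) • g' = 0
        rw [natCast_zsmul]
        exact hℓg'⟩
      let φ : ZMod ℓ →+ G := ZMod.lift ℓ φ₀
      have hφ : Function.Injective φ := by
        rw [ZMod.lift_injective]
        intro m hm
        have hm' : m • g' = 0 := hm
        have hord : addOrderOf g' = ℓ := addOrderOf_eq_prime hℓg' hg'
        have hdvd : (addOrderOf g' : ℤ) ∣ m := (addOrderOf_dvd_iff_zsmul_eq_zero).2 hm'
        rw [hord] at hdvd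
        exact (ZMod.intCast_zmod_eq_zero_iff_dvd m ℓ).2 hdvd
      let f : AddCommGrpCat.of (ULift.{w} (ZMod ℓ)) ⟶ G :=
        AddCommGrpCat.ofHom (φ.comp AddEquiv.ulift.toAddMonoidHom)
      haveI : Mono f := by
        rw [AddCommGrpCat.mono_iff_injective]
        intro a b hab
        have : φ a.down = φ b.down := hab
        exact ULift.ext _ _ (hφ this)
      let S : ShortComplex AddCommGrpCat.{w} :=
        ShortComplex.mk f (cokernel.π f) (cokernel.condition f)
      have hS : S.ShortExact := { exact := ShortComplex.exact_cokernel f }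
      have hsurj : Function.Surjective (cokernel.π f) :=
        (AddCommGrpCat.epi_iff_surjective _).1 inferInstance
      haveI : Finite (cokernel f : AddCommGrpCat.{w}) := Finite.of_surjective _ hsurj
      have hlt : Nat.card (cokernel f : AddCommGrpCat.{w}) < N := by
        rw [← hn]
        by_contra hle
        rw [not_lt] at hle
        have hbij := hsurj.bijective_of_nat_card_le hle
        apply hg'
        apply hbij.1
        rw [map_zero]
        have h1 : f (ULift.up 1) = g' := by
          change φ 1 = g'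
          have : φ ((1 : ℤ) : ZMod ℓ) = (zmultiplesHom G g') 1 := ZMod.lift_coe ℓ φ₀ 1
          rw [Int.cast_one] at this
          rw [this]
          simp
        rw [← h1]
        exact ConcreteCategory.congr_hom (cokernel.condition f) (ULift.up 1)
      have hQ : ∀ q : (cokernel f : AddCommGrpCat.{w}), ∃ k : ℕ, (ℓ ^ k) • q = 0 := by
        intro q
        obtain ⟨x, rfl⟩ := hsurj q
        obtain ⟨k, hk⟩ := hG x
        exact ⟨k, by rw [← map_nsmul, hk, map_zero]⟩
      exact hext S hS hℓP (ih _ hlt (cokernel f) hQ rfl)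

end Groth.Agent.Lib.Helper27.EtDepthA
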