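import Groth.Agent.Lib.Helper27.EtExc6
import Groth.Agent.Lib.Helper27.EtDepthA
import Groth.Agent.Lib.Helper23.FlcBasic
import Groth.Agent.Lib.Helper23.FlcLoc
import Groth.Agent.Lib.Helper23.LCSheaf
import Groth.Prelude.Def_EtDepth

/-!
# Étale depth of finite locally constant `ℓ`-torsion sheaves (helper27)
-/

set_option autoImplicit false
set_option backward.isDefEq.respectTransparency false
universe u
open CategoryTheory Limits Opposite AlgebraicGeometry Abelian
open Groth.Agent.Lib.Helper23.EtRestr Groth.Agent.Lib.Helper23.EtGlue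
  Groth.Agent.Lib.Helper27.GabberCrit Groth.Agent.Lib.Helper27.EtTrace
  Groth.Agent.Lib.Helper27.EtH90 Groth.Agent.Lib.Helper27.AbsComp
  Groth.Agent.Lib.Helper27.EtExc Groth.Agent.Lib.Helper23.FlcLoc
  Groth.Agent.Lib.Helper23.LCSheaf

namespace Groth.Agent.Lib.Helper27.EtDepthB

section Transfer

variable {U X : Scheme.{u}} (j : U ⟶ X) [IsOpenImmersion j]

/-- vanishing of the local cohomology sheaves below `N` can be checked étale locally, with a
comparison sheaf depending on the member of the covering -/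
theorem locCoh_isZero_of_locally_iso' {ι : Type*} (V : ι → Scheme.{u}) (v : ∀ i, V i ⟶ X)
    [∀ i, Etale (v i)] (hcov : ∀ x : X, ∃ i, x ∈ Set.range (v i)) (F' : EtCoh.Ab X)
    (Fi : ι → EtCoh.Ab X)
    (e : ∀ i, Nonempty ((EtCoh.pull (v i)).obj (Fi i) ≅ (EtCoh.pull (v i)).obj F')) (N : ℕ)
    (h : ∀ i p, p < N → IsZero ((EtDual.locCoh j p).obj (Fi i))) :
    ∀ p, p < N → IsZero ((EtDual.locCoh j p).obj F') := by
  intro p
  induction p using Nat.strong_induction_on with
  | _ p ih =>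
    intro hp
    apply isZero_of_locally V v hcov
    intro i W'
    obtain ⟨ei⟩ := e i
    obtain ⟨e₁⟩ := nonempty_rightDerived_iso_of_pull_iso j (v i) W' ei p
    have hz : IsZero (((EtDual.secSupp j ⋙
        secT ((EtShriek.compEtale (v i)).obj W')).rightDerived p).obj (Fi i)) :=
      (comp_rightDerived_secSupp j _ N (Fi i) (h i)).1 p hp
    obtain ⟨e₂⟩ := (comp_rightDerived_secSupp j ((EtShriek.compEtale (v i)).obj W') p F'
      (fun q hq => ih q hq (hq.trans hp))).2
    exact (hz.of_iso e₁.symm).of_iso e₂.symm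

end Transfer

section Groups

variable {U X : Scheme.{u}} (j : U ⟶ X) [IsOpenImmersion j]

/-- the local cohomology sheaves of the constant sheaves with value a finite `ℓ`-group vanish
below `n` if those of `ℤ/ℓ` do -/
theorem locCoh_const_isZero (ℓ : ℕ) (hℓ : ℓ.Prime) (n : ℕ)
    (hX : ∀ p, p < n → IsZero ((EtDual.locCoh j p).obj (EtCoh.const X (ZMod ℓ))))
    (G : AddCommGrpCat.{u + 1}) [Finite G] (hG : ∀ g : G, ∃ k : ℕ, (ℓ ^ k) • g = 0) :
    ∀ p, p < n → IsZero ((EtDual.locCoh j p).obj ((C X).obj G)) := by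
  haveI : (C X).IsLeftAdjoint := (EtCore.constAdj X).isLeftAdjoint
  haveI : ∀ p, (EtDual.locCoh j p).Additive := fun p =>
    Groth.Agent.Lib.Helper6.RDShift.rightDerived_additive _ _
  refine Groth.Agent.Lib.Helper27.EtDepthA.finite_lgroup_induction ℓ hℓ
    (fun G => ∀ p, p < n → IsZero ((EtDual.locCoh j p).obj ((C X).obj G))) ?_ ?_ hX G hG
  · intro G hsub p _
    have hz : IsZero G := by
      rw [IsZero.iff_id_eq_zero]
      ext x
      exact Subsingleton.elim _ _
    exact (EtDual.locCoh j p).map_isZero ((C X).map_isZero hz)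
  · intro S hS h1 h3 p hp
    have hS' := hS.map_of_exact (C X)
    obtain ⟨δ, w₀, w₁, w₂, e₀, e₁, e₂⟩ :=
      Groth.Agent.Lib.Helper6.RDShift.rightDerived_les (EtDual.secSupp j) hS' p
    exact e₀.isZero_of_both_zeros ((h1 p hp).eq_of_src _ _) ((h3 p hp).eq_of_tgt _ _)

end Groups

section Torsion

variable {X : Scheme.{u}}

/-- the value group of a constant sheaf locally isomorphic to an `ℓ`-torsion sheaf is `ℓ`-power
torsion -/
theorem torsion_of_isLTorsion (ℓ : ℕ) (F : EtCoh.Ab X) (hFt : EtDepth.IsLTorsion ℓ F)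
    (U : X.Etale) (u : U.left) (M : Type) [AddCommGroup M]
    (a : (EtCoh.pull U.hom).obj F ≅ EtCoh.const U.left M) (m : M) :
    ∃ k : ℕ, (ℓ ^ k) • m = 0 := by
  haveI : Etale U.hom := U.prop
  let θ : (EtShriek.restrAlong U.hom).obj F ≅ LC U.left M :=
    (pullIsoRestr U.hom).symm.app F ≪≫ a ≪≫ constIso U.left M
  let cm : (LC U.left M).obj.obj (op (EtCoh.top U.left)) :=
    (ULift.up (LocallyConstant.const _ m) : ULift.{u + 1} (LocallyConstant U.left M))
  let s : F.obj.obj (op ((EtShriek.compEtale U.hom).obj (EtCoh.top U.left))) :=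
    θ.inv.hom.app (op (EtCoh.top U.left)) cm
  obtain ⟨V, g, ⟨w, hw⟩, k, hk⟩ := hFt ((EtShriek.compEtale U.hom).obj (EtCoh.top U.left)) s u
  refine ⟨k, ?_⟩
  let V' : U.left.Etale := Scheme.Etale.mk g.left
  let t : V' ⟶ EtCoh.top U.left := (EtCore.topIsTerminal U.left).from V'
  have hgw' : g.left ≫ (𝟙 U.left ≫ U.hom) = V.hom := Over.w g.hom
  have hgw : g.left ≫ U.hom = V.hom :=
    (congrArg (fun z => g.left ≫ z) (Category.id_comp U.hom)).symm.trans hgw'
  let r : (EtShriek.compEtale U.hom).obj V' ⟶ V :=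
    MorphismProperty.Over.homMk (𝟙 _) (by
      change 𝟙 V.left ≫ V.hom = g.left ≫ U.hom
      exact (Category.id_comp _).trans hgw.symm) trivial
  have hr : (EtShriek.compEtale U.hom).map t = r ≫ g := by
    apply hom_ext_of_left
    change t.left = 𝟙 V.left ≫ g.left
    rw [Category.id_comp]
    have := Over.w t.hom
    exact ((Category.comp_id _).symm.trans this)
  have h1 : ((EtShriek.restrAlong U.hom).obj F).obj.map t.op s =
      F.obj.map r.op (F.obj.map g.op s) := by
    change F.obj.map ((EtShriek.compEtale U.hom).map t).op s = _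
    rw [hr, op_comp, Functor.map_comp]
    rfl
  have nat := ConcreteCategory.congr_hom (θ.hom.hom.naturality t.op) s
  simp only [ConcreteCategory.comp_apply] at nat
  have h2 : θ.hom.hom.app (op (EtCoh.top U.left)) s = cm := by
    have := congrArg (fun φ => φ.hom.app (op (EtCoh.top U.left))) θ.inv_hom_id
    exact ConcreteCategory.congr_hom this cm
  have h3 : (ℓ ^ k) • ((LC U.left M).obj.map t.op cm) = 0 := by
    have e0 : (LC U.left M).obj.map t.op cm =
        θ.hom.hom.app (op V') (F.obj.map r.op (F.obj.map g.op s)) := by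
      rw [← h2, ← nat, h1]
    have e1 : (ℓ ^ k) • (F.obj.map r.op (F.obj.map g.op s)) = 0 :=
      (map_nsmul (ConcreteCategory.hom (F.obj.map r.op)) (ℓ ^ k) (F.obj.map g.op s)).symm.trans
        ((congrArg (fun z => F.obj.map r.op z) hk).trans (map_zero _))
    have e2 : (ℓ ^ k) • (θ.hom.hom.app (op V') (F.obj.map r.op (F.obj.map g.op s))) = 0 :=
      (map_nsmul (ConcreteCategory.hom (θ.hom.hom.app (op V'))) (ℓ ^ k) _).symm.trans
        ((congrArg (fun z => θ.hom.hom.app (op V') z) e1).trans (map_zero _))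
    rw [e0]
    exact e2
  have h4 := congrArg (fun z : ULift.{u + 1} (LocallyConstant V'.left M) => z.down w) h3
  exact h4

end Torsion

section Main

variable {U X : Scheme.{u}} (j : U ⟶ X) [IsOpenImmersion j]

/-- the étale depth of a finite locally constant `ℓ`-torsion sheaf is at least that of `ℤ/ℓ` -/
theorem locCoh_isZero_of_flc (ℓ : ℕ) (hℓ : ℓ.Prime) (n : ℕ)
    (hX : ∀ p, p < n → IsZero ((EtDual.locCoh j p).obj (EtCoh.const X (ZMod ℓ))))
    (F : EtCoh.Ab X) (hFlc : EtCoh.IsFiniteLocallyConstant F) (hFt : EtDepth.IsLTorsion ℓ F) :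
    ∀ p, p < n → IsZero ((EtDual.locCoh j p).obj F) := by
  rw [Groth.Agent.Lib.Helper23.Flc.isFiniteLocallyConstant_iff] at hFlc
  obtain ⟨ι, W, hW, h⟩ := hFlc
  choose M i1 i2 a using h
  letI : ∀ i, AddCommGroup (M i) := i1
  haveI : ∀ i, Etale (W i).hom := fun i => (W i).prop
  refine locCoh_isZero_of_locally_iso' j (ι := {i : ι // Nonempty (W i).left})
    (fun i => (W i.1).left) (fun i => (W i.1).hom) ?_ F
    (fun i => EtCoh.const X (M i.1)) ?_ n ?_
  · intro x
    obtain ⟨i, y, hy⟩ := hW x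
    exact ⟨⟨i, ⟨y⟩⟩, y, hy⟩
  · intro i
    obtain ⟨ai⟩ := a i.1
    exact ⟨EtCore.pullConst (W i.1).hom (M i.1) ≪≫ ai.symm⟩
  · intro i
    obtain ⟨ai⟩ := a i.1
    obtain ⟨u⟩ := i.2
    haveI : Finite (AddCommGrpCat.of (ULift.{u + 1} (M i.1))) :=
      inferInstanceAs (Finite (ULift.{u + 1} (M i.1)))
    refine locCoh_const_isZero j ℓ hℓ n hX (AddCommGrpCat.of (ULift.{u + 1} (M i.1))) ?_
    intro g
    obtain ⟨k, hk⟩ := torsion_of_isLTorsion ℓ F hFt (W i.1) u (M i.1) ai
      (g : ULift.{u + 1} (M i.1)).down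
    exact ⟨k, ULift.ext _ _ hk⟩

end Main

end Groth.Agent.Lib.Helper27.EtDepthB
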