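import Groth.Agent.Lib.Helper23.EtGlue2
import Groth.Prelude.Def_EtBase
import Mathlib.AlgebraicGeometry.Gluing

/-!
# Doubling an étale `X`-scheme `U` along an open subscheme `V`: `U ∪_V U`
-/

set_option autoImplicit false
set_option backward.isDefEq.respectTransparency false
universe u
open CategoryTheory Limits Opposite AlgebraicGeometry
open Groth.Agent.Lib.Helper23.EtGlue

namespace Groth.Agent.Lib.Helper27.EtDouble

section Sch

variable {Y V : Scheme.{u}} (j : V ⟶ Y) [IsOpenImmersion j]

instance spanOI : ∀ {a b : WalkingSpan} (f : a ⟶ b), IsOpenImmersion ((span j j).map f) := by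
  have key : ∀ {a b : WalkingSpan} (f : WidePushoutShape.Hom a b),
      IsOpenImmersion ((span j j).map f) := by
    intro a b f
    cases f with
    | id X =>
      rw [WidePushoutShape.hom_id, CategoryTheory.Functor.map_id]
      infer_instance
    | init i => cases i <;> exact inferInstanceAs (IsOpenImmersion j)
  intro a b f
  exact key f

instance : IsOpenImmersion (pushout.inl j j) :=
  inferInstanceAs (IsOpenImmersion (colimit.ι (span j j) WalkingSpan.left))

instance : IsOpenImmersion (pushout.inr j j) :=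
  inferInstanceAs (IsOpenImmersion (colimit.ι (span j j) WalkingSpan.right))

theorem inl_inr_surj (w : (pushout j j : Scheme.{u})) :
    w ∈ Set.range (pushout.inl j j) ∨ w ∈ Set.range (pushout.inr j j) := by
  obtain ⟨i, xi, rfl⟩ := Scheme.IsLocallyDirected.ι_jointly_surjective (span j j) w
  rcases i with _ | i
  · left
    refine ⟨j xi, ?_⟩
    have hw := colimit.w (span j j) WalkingSpan.Hom.fst
    rw [← hw, Scheme.Hom.comp_apply]
    rfl
  · cases i
    · left; exact ⟨xi, rfl⟩
    · right; exact ⟨xi, rfl⟩

theorem exists_of_inl_eq_inr (y y' : Y) (h : pushout.inl j j y = pushout.inr j j y') :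
    ∃ v : V, j v = y ∧ j v = y' := by
  have h' : colimit.ι (span j j) WalkingSpan.left y =
      colimit.ι (span j j) WalkingSpan.right y' := h
  rw [Scheme.IsLocallyDirected.ι_eq_ι_iff] at h'
  obtain ⟨k, fi, fj, x, hx1, hx2⟩ := h'
  rcases k with _ | k
  · have e1 : fi = WalkingSpan.Hom.fst := Subsingleton.elim _ _
    have e2 : fj = WalkingSpan.Hom.snd := Subsingleton.elim _ _
    subst e1 e2
    exact ⟨x, hx1, hx2⟩
  · cases k
    · have fj' : WidePushoutShape.Hom (some WalkingPair.left) (some WalkingPair.right) := fj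
      cases fj'
    · have fi' : WidePushoutShape.Hom (some WalkingPair.right) (some WalkingPair.left) := fi
      cases fi'

variable {X : Scheme.{u}} (p : Y ⟶ X) [Etale p]

/-- the structure morphism of the doubled scheme -/
noncomputable def dblHom : pushout j j ⟶ X := pushout.desc p p rfl

theorem inl_dblHom : pushout.inl j j ≫ dblHom j p = p := pushout.inl_desc _ _ _

theorem inr_dblHom : pushout.inr j j ≫ dblHom j p = p := pushout.inr_desc _ _ _

instance etale_dblHom : Etale (dblHom j p) := by
  rw [IsZariskiLocalAtSource.iff_of_openCover (P := @Etale)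
    (Scheme.IsLocallyDirected.openCover (span j j))]
  intro i
  rcases i with _ | i
  · have h : colimit.ι (span j j) WalkingSpan.zero ≫ dblHom j p = j ≫ p := by
      rw [← colimit.w (span j j) WalkingSpan.Hom.fst, Category.assoc]
      change j ≫ pushout.inl j j ≫ dblHom j p = _
      rw [inl_dblHom]
    change Etale (colimit.ι (span j j) WalkingSpan.zero ≫ dblHom j p)
    rw [h]
    infer_instance
  · cases i
    · change Etale (pushout.inl j j ≫ dblHom j p)
      rw [inl_dblHom]
      infer_instance
    · change Etale (pushout.inr j j ≫ dblHom j p)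
      rw [inr_dblHom]
      infer_instance

end Sch

section Site

variable {X : Scheme.{u}} {U V : X.Etale} (g : V ⟶ U) [IsOpenImmersion g.left]

instance etale_hom' (W : X.Etale) : Etale W.hom := W.prop

/-- `U ∪_V U` as an object of the small étale site -/
noncomputable def dbl : X.Etale := Scheme.Etale.mk (dblHom g.left U.hom)

/-- the first copy of `U` -/
noncomputable def ι₁ : U ⟶ dbl g :=
  MorphismProperty.Over.homMk (pushout.inl g.left g.left) (inl_dblHom g.left U.hom) trivial

/-- the second copy of `U` -/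
noncomputable def ι₂ : U ⟶ dbl g :=
  MorphismProperty.Over.homMk (pushout.inr g.left g.left) (inr_dblHom g.left U.hom) trivial

theorem comp_ι₁_eq_comp_ι₂ : g ≫ ι₁ g = g ≫ ι₂ g := by
  apply hom_ext_of_left
  exact pushout.condition

instance : Mono (ι₁ g).left := inferInstanceAs (Mono (pushout.inl g.left g.left))

instance : Mono (ι₂ g).left := inferInstanceAs (Mono (pushout.inr g.left g.left))

theorem cover_mem :
    Sieve.ofArrows (fun _ : Bool => U) (fun b => cond b (ι₁ g) (ι₂ g)) ∈
      X.smallEtaleTopology (dbl g) := by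
  rw [Scheme.ofArrows_mem_smallEtaleTopology_iff]
  ext w
  simp only [Set.mem_iUnion, Set.mem_univ, iff_true]
  rcases inl_inr_surj g.left w with h | h
  · exact ⟨true, h⟩
  · exact ⟨false, h⟩

/-- two morphisms to `U` which agree in the two different copies factor through `V` -/
theorem exists_factor {T : X.Etale} (a b : T ⟶ U) (h : a ≫ ι₁ g = b ≫ ι₂ g) :
    ∃ c : T ⟶ V, c ≫ g = a ∧ c ≫ g = b := by
  have hl : a.left ≫ pushout.inl g.left g.left = b.left ≫ pushout.inr g.left g.left :=
    congrArg (fun φ : T ⟶ dbl g => φ.left) h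
  have hpt : ∀ t : T.left, ∃ v : V.left, g.left v = a.left t ∧ g.left v = b.left t := by
    intro t
    apply exists_of_inl_eq_inr
    have := congrArg (fun φ : T.left ⟶ pushout g.left g.left => φ t) hl
    simpa only [Scheme.Hom.comp_apply] using this
  have hra : Set.range a.left ⊆ Set.range g.left := by
    rintro _ ⟨t, rfl⟩
    obtain ⟨v, hv, -⟩ := hpt t
    exact ⟨v, hv⟩
  have hrb : Set.range b.left ⊆ Set.range g.left := by
    rintro _ ⟨t, rfl⟩
    obtain ⟨v, -, hv⟩ := hpt t
    exact ⟨v, hv⟩
  let c₀ : T.left ⟶ V.left := IsOpenImmersion.lift g.left a.left hra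
  let d₀ : T.left ⟶ V.left := IsOpenImmersion.lift g.left b.left hrb
  have hc₀ : c₀ ≫ g.left = a.left := IsOpenImmersion.lift_fac _ _ _
  have hd₀ : d₀ ≫ g.left = b.left := IsOpenImmersion.lift_fac _ _ _
  have hgw : g.left ≫ U.hom = V.hom := MorphismProperty.Over.w g
  let c : T ⟶ V := MorphismProperty.Over.homMk c₀ (by
    rw [← hgw, ← Category.assoc, hc₀]; exact MorphismProperty.Over.w a) trivial
  let d : T ⟶ V := MorphismProperty.Over.homMk d₀ (by
    rw [← hgw, ← Category.assoc, hd₀]; exact MorphismProperty.Over.w b) trivial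
  have hc : c ≫ g = a := hom_ext_of_left _ _ hc₀
  have hd : d ≫ g = b := hom_ext_of_left _ _ hd₀
  have hcd : c = d := by
    apply hom_ext_of_left
    have hm : Mono (g.left ≫ pushout.inl g.left g.left) := inferInstance
    rw [← cancel_mono (g.left ≫ pushout.inl g.left g.left)]
    change c₀ ≫ g.left ≫ pushout.inl g.left g.left = d₀ ≫ g.left ≫ pushout.inl g.left g.left
    rw [← Category.assoc, hc₀, pushout.condition, ← Category.assoc d₀, hd₀]
    exact hl
  exact ⟨c, hc, hcd ▸ hd⟩

/-- gluing two sections over the two copies of `U` which agree on `V` -/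
theorem exists_glue_dbl (P : EtCoh.Ab X) (x₁ x₂ : P.obj.obj (op U))
    (h : P.obj.map g.op x₁ = P.obj.map g.op x₂) :
    ∃ s : P.obj.obj (op (dbl g)), P.obj.map (ι₁ g).op s = x₁ ∧ P.obj.map (ι₂ g).op s = x₂ := by
  have hP : Presieve.IsSheaf X.smallEtaleTopology (P.obj ⋙ forget AddCommGrpCat.{u + 1}) :=
    (isSheaf_iff_isSheaf_of_type _ _).1
      ((Presheaf.isSheaf_iff_isSheaf_forget _ P.obj (forget AddCommGrpCat.{u + 1})).1 P.2)
  have h1 : Presieve.IsSheafFor (P.obj ⋙ forget AddCommGrpCat.{u + 1})
      (Presieve.ofArrows (fun _ : Bool => U) (fun b => cond b (ι₁ g) (ι₂ g))) :=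
    (Presieve.isSheafFor_iff_generate _).2 (hP _ (cover_mem g))
  let x : ∀ _ : Bool, P.obj.obj (op U) := fun b => cond b x₁ x₂
  have hcross : ∀ {T : X.Etale} (a b : T ⟶ U), a ≫ ι₁ g = b ≫ ι₂ g →
      P.obj.map a.op x₁ = P.obj.map b.op x₂ := by
    intro T a b hab
    obtain ⟨c, hca, hcb⟩ := exists_factor g a b hab
    have e1 : P.obj.map a.op x₁ = P.obj.map c.op (P.obj.map g.op x₁) := by
      rw [← hca, op_comp, Functor.map_comp]; rfl
    have e2 : P.obj.map b.op x₂ = P.obj.map c.op (P.obj.map g.op x₂) := by
      rw [← hcb, op_comp, Functor.map_comp]; rfl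
    rw [e1, e2, h]
  have hcompat : Presieve.Arrows.Compatible (P.obj ⋙ forget AddCommGrpCat.{u + 1})
      (fun b => cond b (ι₁ g) (ι₂ g)) x := by
    intro i k T gi gk hg
    cases i <;> cases k
    · have : gi = gk := by
        apply hom_ext_of_left
        have hl : gi.left ≫ (ι₂ g).left = gk.left ≫ (ι₂ g).left :=
          congrArg (fun φ : T ⟶ dbl g => φ.left) hg
        exact (cancel_mono (ι₂ g).left).1 hl
      rw [this]
    · exact (hcross gk gi hg.symm).symm
    · exact hcross gi gk hg
    · have : gi = gk := by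
        apply hom_ext_of_left
        have hl : gi.left ≫ (ι₁ g).left = gk.left ≫ (ι₁ g).left :=
          congrArg (fun φ : T ⟶ dbl g => φ.left) hg
        exact (cancel_mono (ι₁ g).left).1 hl
      rw [this]
  obtain ⟨s, hs, -⟩ := (Presieve.isSheafFor_arrows_iff _ _).1 h1 x hcompat
  exact ⟨s, hs true, hs false⟩

end Site

end Groth.Agent.Lib.Helper27.EtDouble
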