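import Groth.Agent.Lib.Helper27.EtTrace5

/-!
# The norm `ℤ → f_! ℤ` for a finite separable extension of fields
-/

set_option autoImplicit false
set_option backward.isDefEq.respectTransparency false
universe u
open CategoryTheory Limits Opposite AlgebraicGeometry
open Groth.Agent.Lib.Helper18.GalFibre Groth.Agent.Lib.Helper23.EtGlue
  Groth.Agent.Lib.Helper27.GabberCrit

namespace Groth.Agent.Lib.Helper27.EtTrace

/-- evaluation at `1` -/
noncomputable abbrev ev1 (G : AddCommGrpCat.{u + 1}) : (MZ.{u} ⟶ G) ≃+ G :=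
  AddCommGrpCat.uliftZMultiplesAddEquiv G

theorem ev1_comp {G H : AddCommGrpCat.{u + 1}} (f : MZ.{u} ⟶ G) (g : G ⟶ H) :
    ev1 H (f ≫ g) = g (ev1 G f) := rfl

variable {K L M : Type u} [Field K] [Field L] [Field M] [Algebra K L] [Algebra K M]
  [FiniteDimensional K L] [Algebra.IsSeparable K L]
  [FiniteDimensional K M] [Algebra.IsSeparable K M]

/-- the morphism `Spec M ⟶ Spec L` of the small étale site given by an embedding -/
noncomputable def tE (τ : L →ₐ[K] M) : YM K M ⟶ YM K L :=
  MorphismProperty.Over.homMk (Spec.map (CommRingCat.ofHom τ.toRingHom)) (by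
    rw [YM_hom, YM_hom]
    change Spec.map _ ≫ Spec.map _ = Spec.map _
    rw [← Spec.map_comp, ← CommRingCat.ofHom_comp, AlgHom.toRingHom_eq_coe,
      AlgHom.comp_algebraMap]) trivial

theorem σE_tE (σ : M ≃ₐ[K] M) (τ : L →ₐ[K] M) :
    σE σ ≫ tE τ = tE ((σ : M →ₐ[K] M).comp τ) := by
  apply hom_ext_of_left
  change specσ σ ≫ Spec.map _ = Spec.map _
  rw [← Spec.map_comp, ← CommRingCat.ofHom_comp]
  rfl

variable (K L M)

/-- the universal section of `f_! ℤ` over `Spec L` -/
noncomputable def univSec : (Zj (sK K L)).obj.obj (op (YM K L)) :=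
  ev1 _ (sMorE (sK K L) (Zj (sK K L)) (𝟙 _))

/-- the sum of the sections given by all embeddings `L → M` -/
noncomputable def normSec : (Zj (sK K L)).obj.obj (op (YM K M)) :=
  ∑ τ : L →ₐ[K] M, (Zj (sK K L)).obj.map (tE τ).op (univSec K L)

theorem normSec_invariant (σ : M ≃ₐ[K] M) :
    (Zj (sK K L)).obj.map (σE σ).op (normSec K L M) = normSec K L M := by
  unfold normSec
  rw [map_sum]
  let e : (L →ₐ[K] M) ≃ (L →ₐ[K] M) :=
    { toFun := fun τ => (σ : M →ₐ[K] M).comp τ
      invFun := fun τ => (σ.symm : M →ₐ[K] M).comp τ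
      left_inv := fun τ => by ext x; simp
      right_inv := fun τ => by ext x; simp }
  refine (Finset.sum_congr rfl fun τ _ => ?_).trans
    (Equiv.sum_comp e fun τ => (Zj (sK K L)).obj.map (tE τ).op (univSec K L))
  change (Zj (sK K L)).obj.map (σE σ).op ((Zj (sK K L)).obj.map (tE τ).op (univSec K L)) =
    (Zj (sK K L)).obj.map (tE ((σ : M →ₐ[K] M).comp τ)).op (univSec K L)
  rw [← σE_tE, op_comp, (Zj (sK K L)).obj.map_comp]
  rfl

/-- the unit section of the constant sheaf `ℤ` -/
noncomputable def oneSec (X : Scheme.{u}) : (EtCoh.const X ℤ).obj.obj (op (EtCoh.top X)) :=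
  ev1 _ (uY X)

theorem ε_univSec :
    (εj (sK K L)).hom.app (op (YM K L)) (univSec K L) =
      (EtCoh.const _ ℤ).obj.map ((EtCore.topIsTerminal _).from (YM K L)).op (oneSec _) := by
  unfold univSec oneSec
  rw [← ev1_comp, ← ev1_comp, ← sMorE_naturality, Category.id_comp, sMorE_εj]

theorem ε_normSec :
    (εj (sK K L)).hom.app (op (YM K M)) (normSec K L M) =
      Fintype.card (L →ₐ[K] M) •
        (EtCoh.const _ ℤ).obj.map (πM K M).op (oneSec _) := by
  unfold normSec
  rw [map_sum, Fintype.card, ← Finset.sum_const]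
  refine Finset.sum_congr rfl fun τ _ => ?_
  have nat := ConcreteCategory.congr_hom ((εj (sK K L)).hom.naturality (tE τ).op) (univSec K L)
  simp only [ConcreteCategory.comp_apply] at nat
  rw [nat, ε_univSec]
  change ((EtCoh.const _ ℤ).obj.map ((EtCore.topIsTerminal _).from (YM K L)).op ≫
    (EtCoh.const _ ℤ).obj.map (tE τ).op) (oneSec _) = _
  rw [← Functor.map_comp, ← op_comp]
  congr 3
  exact congrArg Quiver.Hom.op ((EtCore.topIsTerminal _).hom_ext _ _)

end Groth.Agent.Lib.Helper27.EtTrace
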