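import Groth.Agent.Lib.Helper27.EtRat1
import Groth.Agent.Lib.Helper27.EtTrace6
import Groth.Agent.S0101

/-!
# Étale-acyclic sheaves (acyclic on every étale `X`-scheme) and their direct images
-/

set_option autoImplicit false
set_option backward.isDefEq.respectTransparency false
universe u
open CategoryTheory Limits Opposite AlgebraicGeometry Abelian
open Groth.Agent.Lib.Helper27.GabberCrit Groth.Agent.Lib.Helper27.EtTrace
  Groth.Agent.Lib.Helper23.ExtAdj Groth.Agent.Lib.Helper23.ExtRestr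

namespace Groth.Agent.Lib.Helper27.EtFlasque

variable {X : Scheme.{u}}

instance etale_hom (W : X.Etale) : Etale W.hom := W.prop

/-- sheaves all of whose higher `Ext` groups out of `j_! ℤ` vanish, `j` étale -/
def EtAcyclic (F : EtCoh.Ab X) : Prop :=
  ∀ (W : X.Etale) (q : ℕ) (x : Ext (Zj W.hom) F (q + 1)), x = 0

theorem etAcyclic_of_injective (J : EtCoh.Ab X) [Injective J] : EtAcyclic J :=
  fun _ _ x => Ext.eq_zero_of_injective x

theorem etAcyclic_of_H (F : EtCoh.Ab X)
    (hF : ∀ (W : X.Etale) (q : ℕ), 0 < q →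
      Subsingleton (EtCoh.H W.left ((EtCoh.pull W.hom).obj F) q)) : EtAcyclic F := by
  intro W q x
  obtain ⟨y, rfl⟩ := (extAdj_bijective_of_exact (adjE W.hom) (EtCoh.const W.left ℤ) F (q + 1)).2 x
  rw [(hF W (q + 1) (by omega)).elim y 0, map_zero]

theorem subsingleton_H_of_etAcyclic (F : EtCoh.Ab X) (hF : EtAcyclic F) (W : X.Etale) (q : ℕ)
    (hq : 0 < q) : Subsingleton (EtCoh.H W.left ((EtCoh.pull W.hom).obj F) q) := by
  obtain ⟨n, rfl⟩ : ∃ n, q = n + 1 := ⟨q - 1, by omega⟩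
  refine ⟨fun a b => (extAdj_bijective_of_exact (adjE W.hom) (EtCoh.const W.left ℤ) F
    (n + 1)).1 ?_⟩
  rw [hF W n (extAdj (adjE W.hom) (EtCoh.const W.left ℤ) F (n + 1) a),
    hF W n (extAdj (adjE W.hom) (EtCoh.const W.left ℤ) F (n + 1) b)]

/-- `W` as the image of the terminal object of its own étale site -/
noncomputable def tjIso (W : X.Etale) : Tj W.hom ≅ W :=
  MorphismProperty.Over.isoMk (Iso.refl _) rfl

theorem exists_lift_Tj {U : Scheme.{u}} (j : U ⟶ X) [Etale j] {S : ShortComplex (EtCoh.Ab X)}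
    (hS : S.ShortExact) (h1 : ∀ x : Ext (Zj j) S.X₁ 1, x = 0) (c : S.X₃.obj.obj (op (Tj j))) :
    ∃ b : S.X₂.obj.obj (op (Tj j)), S.g.hom.app _ b = c := by
  obtain ⟨φ, hφ⟩ := (sMorE_bijective j S.X₃).2 ((ev1 _).symm c)
  have h0 : (Ext.mk₀ φ).comp hS.extClass (zero_add 1) = 0 := h1 _
  obtain ⟨x₂, hx₂⟩ := Ext.covariant_sequence_exact₃ _ hS (Ext.mk₀ φ) (zero_add 1) h0
  obtain ⟨ψ, rfl⟩ := (Ext.mk₀_bijective _ _).2 x₂
  rw [Ext.mk₀_comp_mk₀] at hx₂
  have hψ : ψ ≫ S.g = φ := (Ext.mk₀_bijective _ _).1 hx₂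
  refine ⟨ev1 _ (sMorE j S.X₂ ψ), ?_⟩
  rw [← ev1_comp, ← sMorE_naturality, hψ, hφ, AddEquiv.apply_symm_apply]

theorem exists_lift_sections {S : ShortComplex (EtCoh.Ab X)} (hS : S.ShortExact)
    (h1 : EtAcyclic S.X₁) (W : X.Etale) (c : S.X₃.obj.obj (op W)) :
    ∃ b : S.X₂.obj.obj (op W), S.g.hom.app _ b = c := by
  obtain ⟨b', hb'⟩ := exists_lift_Tj W.hom hS (fun x => h1 W 0 x)
    (S.X₃.obj.map (tjIso W).hom.op c)
  refine ⟨S.X₂.obj.map (tjIso W).inv.op b', ?_⟩
  have nat := ConcreteCategory.congr_hom (S.g.hom.naturality (tjIso W).inv.op) b'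
  simp only [ConcreteCategory.comp_apply] at nat
  rw [nat, hb']
  change (S.X₃.obj.map (tjIso W).hom.op ≫ S.X₃.obj.map (tjIso W).inv.op) c = c
  rw [← Functor.map_comp, ← op_comp, Iso.inv_hom_id, op_id, CategoryTheory.Functor.map_id]
  rfl

theorem etAcyclic_X₃ {S : ShortComplex (EtCoh.Ab X)} (hS : S.ShortExact)
    (hG : EtAcyclic S.X₁) (hI : Injective S.X₂) : EtAcyclic S.X₃ := by
  intro W q x
  have h0 : x.comp hS.extClass rfl = 0 := hG W (q + 1) _
  obtain ⟨x₂, hx₂⟩ := Ext.covariant_sequence_exact₃ _ hS x rfl h0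
  rw [← hx₂, Ext.eq_zero_of_injective x₂, Ext.zero_comp]

variable {Y : Scheme.{u}} (f : X ⟶ Y)

theorem shortExact_map_push {S : ShortComplex (EtCoh.Ab X)}
    (hS : S.ShortExact) (hG : EtAcyclic S.X₁) : (S.map (EtCoh.push f)).ShortExact := by
  haveI : PreservesFiniteLimits (EtCoh.push f) := by
    have := (EtCoh.pullPushAdj f).rightAdjoint_preservesLimits
    infer_instance
  haveI := hS.mono_f
  exact
    { exact := hS.exact.map_of_mono_of_preservesKernel (EtCoh.push f) hS.mono_f inferInstance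
      mono_f := inferInstanceAs (Mono ((EtCoh.push f).map S.f))
      epi_g := by
        change Epi ((EtCoh.push f).map S.g)
        have : Sheaf.IsLocallySurjective ((EtCoh.push f).map S.g) := by
          apply Presheaf.isLocallySurjective_of_surjective
          intro U c
          exact exists_lift_sections hS hG ((EtCoh.bc f).obj U.unop) c
        infer_instance }

theorem extAdj_push_bijective (A : EtCoh.Ab Y) (F : EtCoh.Ab X) (hF : EtAcyclic F) (n : ℕ) :
    haveI : PreservesFiniteLimits (EtCoh.pull f) := Groth.Agent.S0101.result f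
    Function.Bijective (extAdj (EtCoh.pullPushAdj f) A F n) := by
  haveI : PreservesFiniteLimits (EtCoh.pull f) := Groth.Agent.S0101.result f
  exact Groth.Agent.Lib.Helper27.EtRat.extAdj_bijective_of_class (EtCoh.pullPushAdj f) EtAcyclic
    (fun J hJ => etAcyclic_of_injective J)
    (fun S hS h1 h2 => ⟨shortExact_map_push f hS h1, etAcyclic_X₃ hS h1 h2⟩) A n F hF

end Groth.Agent.Lib.Helper27.EtFlasque
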