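import Groth.Agent.Lib.Helper27.EtDouble1
import Groth.Agent.Lib.Helper27.EtFlasque1
import Groth.Agent.Lib.Helper23.MVOpen

/-!
# Injective étale sheaves restrict surjectively along open immersions
-/

set_option autoImplicit false
set_option backward.isDefEq.respectTransparency false
universe u
open CategoryTheory Limits Opposite AlgebraicGeometry Abelian
open Groth.Agent.Lib.Helper23.EtGlue Groth.Agent.Lib.Helper23.EtRestr
  Groth.Agent.Lib.Helper23.ExtRestr Groth.Agent.Lib.Helper23.MVOpen
  Groth.Agent.Lib.Helper27.GabberCrit Groth.Agent.Lib.Helper27.EtTrace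
  Groth.Agent.Lib.Helper27.EtFlasque

namespace Groth.Agent.Lib.Helper27.EtDouble

section OnY

variable {V Y : Scheme.{u}} (j : V ⟶ Y) [IsOpenImmersion j]

instance mono_εj : Mono (εj j) :=
  inferInstanceAs (Mono (eps (adjP j) (EtCore.pullConst j ℤ)))

/-- global sections of an injective sheaf restrict surjectively to an open subscheme -/
theorem exists_extend_of_injective (A : EtCoh.Ab Y) [Injective A]
    (s : A.obj.obj (op (Tj j))) :
    ∃ t : A.obj.obj (op (EtCoh.top Y)),
      A.obj.map ((EtCore.topIsTerminal Y).from (Tj j)).op t = s := by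
  obtain ⟨φ, hφ⟩ := (sMorE_bijective j A).2 ((ev1 _).symm s)
  let ψ : EtCoh.const Y ℤ ⟶ A := Injective.factorThru φ (εj j)
  have hψ : εj j ≫ ψ = φ := Injective.comp_factorThru φ (εj j)
  refine ⟨ev1 _ ((EtCore.constAdj Y).homEquiv MZ A ψ), ?_⟩
  have h1 : sMorE j A φ = (EtCore.constAdj Y).homEquiv MZ A ψ ≫
      A.obj.map ((EtCore.topIsTerminal Y).from (Tj j)).op := by
    rw [← hψ, sMorE_naturality, sMorE_εj, Category.assoc]
    have nat := ψ.hom.naturality ((EtCore.topIsTerminal Y).from (Tj j)).op
    rw [nat, ← Category.assoc, Adjunction.homEquiv_unit]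
    rfl
  rw [← ev1_comp, ← h1, hφ, AddEquiv.apply_symm_apply]

end OnY

variable {X : Scheme.{u}} {U V : X.Etale} (g : V ⟶ U) [IsOpenImmersion g.left]

/-- `V`, seen through `U` -/
noncomputable def vIso : (EtShriek.compEtale U.hom).obj (Tj g.left) ≅ V :=
  MorphismProperty.Over.isoMk (Iso.refl _) (by
    change 𝟙 _ ≫ V.hom = (𝟙 _ ≫ g.left) ≫ U.hom
    rw [Category.id_comp, Category.id_comp]
    exact (MorphismProperty.Over.w g).symm)

theorem square :
    (EtShriek.compEtale U.hom).map ((EtCore.topIsTerminal U.left).from (Tj g.left)) ≫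
      (tjIso U).hom = (vIso g).hom ≫ g := by
  apply hom_ext_of_left
  change ((EtCore.topIsTerminal U.left).from (Tj g.left)).left ≫ 𝟙 _ = 𝟙 _ ≫ g.left
  rw [Category.comp_id, Category.id_comp]
  have h := MorphismProperty.Over.w ((EtCore.topIsTerminal U.left).from (Tj g.left))
  change _ ≫ 𝟙 _ = 𝟙 _ ≫ g.left at h
  rw [Category.comp_id, Category.id_comp] at h
  exact h

/-- an injective étale sheaf restricts surjectively along open immersions of étale `X`-schemes -/
theorem map_surjective_of_injective (I : EtCoh.Ab X) [Injective I] (s : I.obj.obj (op V)) :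
    ∃ t : I.obj.obj (op U), I.obj.map g.op t = s := by
  haveI : Injective ((EtCoh.pull U.hom).obj I) := (adjE U.hom).map_injective I inferInstance
  let e := (pullIsoRestr U.hom).app I
  -- the section `s`, seen on `U`
  let s' : ((EtShriek.restrAlong U.hom).obj I).obj.obj (op (Tj g.left)) :=
    I.obj.map (vIso g).hom.op s
  obtain ⟨t₀, ht₀⟩ := exists_extend_of_injective g.left ((EtCoh.pull U.hom).obj I)
    (e.inv.hom.app _ s')
  let t' : I.obj.obj (op (Tj U.hom)) := e.hom.hom.app (op (EtCoh.top U.left)) t₀
  have ht' : I.obj.map ((EtShriek.compEtale U.hom).map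
      ((EtCore.topIsTerminal U.left).from (Tj g.left))).op t' = s' := by
    have nat := ConcreteCategory.congr_hom
      (e.hom.hom.naturality ((EtCore.topIsTerminal U.left).from (Tj g.left)).op) t₀
    simp only [ConcreteCategory.comp_apply] at nat
    change ((EtShriek.restrAlong U.hom).obj I).obj.map
      ((EtCore.topIsTerminal U.left).from (Tj g.left)).op t' = s'
    rw [← nat, ht₀]
    have hid := congrArg (fun φ => φ.hom.app (op (Tj g.left))) e.inv_hom_id
    exact ConcreteCategory.congr_hom hid s'
  refine ⟨I.obj.map (tjIso U).inv.op t', ?_⟩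
  have hsq : g ≫ (tjIso U).inv = (vIso g).inv ≫ (EtShriek.compEtale U.hom).map
      ((EtCore.topIsTerminal U.left).from (Tj g.left)) := by
    rw [Iso.eq_inv_comp, ← Category.assoc, ← square g, Category.assoc, Iso.hom_inv_id,
      Category.comp_id]
  change (I.obj.map (tjIso U).inv.op ≫ I.obj.map g.op) t' = s
  rw [← Functor.map_comp, ← op_comp, hsq, op_comp, Functor.map_comp]
  refine (congrArg (fun z => I.obj.map (vIso g).inv.op z) ht').trans ?_
  change (I.obj.map (vIso g).hom.op ≫ I.obj.map (vIso g).inv.op) s = s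
  rw [← Functor.map_comp, ← op_comp, Iso.inv_hom_id, op_id, CategoryTheory.Functor.map_id]
  rfl

end Groth.Agent.Lib.Helper27.EtDouble
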