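import Groth.Agent.Lib.Helper27.EtTrace9
import Mathlib.FieldTheory.Galois.Basic

/-!
# `H¹(Spec K, F) = 0` as soon as all Galois 1-cocycles of `F` are coboundaries
-/

set_option autoImplicit false
set_option backward.isDefEq.respectTransparency false
universe u
open CategoryTheory Limits Opposite AlgebraicGeometry Abelian
open Groth.Agent.Lib.Helper18.GalFibre Groth.Agent.Lib.Helper23.EtGlue
  Groth.Agent.Lib.Helper27.GabberCrit Groth.Agent.Lib.Helper27.EtTrace

namespace Groth.Agent.Lib.Helper27.EtH90

section Sections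

variable {X : Scheme.{u}} {S : ShortComplex (EtCoh.Ab X)} (hS : S.ShortExact) (T : X.Etale)

/-- sections over `T` -/
noncomputable abbrev secT : EtCoh.Ab X ⥤ AddCommGrpCat.{u + 1} :=
  sheafToPresheaf X.smallEtaleTopology AddCommGrpCat.{u + 1} ⋙ (evaluation _ _).obj (op T)

instance : PreservesFiniteLimits (secT T) := by
  unfold secT
  infer_instance

include hS in
theorem f_app_injective : Function.Injective (S.f.hom.app (op T)) := by
  haveI := hS.mono_f
  haveI : Mono ((secT T).map S.f) := inferInstance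
  exact (AddCommGrpCat.mono_iff_injective _).1 ‹_›

include hS in
theorem exists_of_g_app_eq_zero (x : S.X₂.obj.obj (op T)) (hx : S.g.hom.app (op T) x = 0) :
    ∃ y : S.X₁.obj.obj (op T), S.f.hom.app (op T) y = x := by
  haveI := hS.mono_f
  have hex := hS.exact.map_of_mono_of_preservesKernel (secT T) hS.mono_f inferInstance
  rw [ShortComplex.ab_exact_iff] at hex
  exact hex x hx

end Sections

variable {K : Type u} [Field K]

/-- an epimorphism of sheaves on `Spec K` is surjective on sections over a suitable finite Galois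
extension -/
theorem exists_galois_local_lift {B C : EtCoh.Ab (Spec (CommRingCat.of K))} (π : B ⟶ C) [Epi π]
    (c : C.obj.obj (op (EtCoh.top (Spec (CommRingCat.of K))))) :
    ∃ (M : Type u) (_ : Field M) (_ : Algebra K M) (_ : FiniteDimensional K M)
      (_ : IsGalois K M) (b : B.obj.obj (op (YM K M))),
      π.hom.app _ b = C.obj.map (πM K M).op c := by
  have hls : Sheaf.IsLocallySurjective π :=
    (Sheaf.isLocallySurjective_iff_epi' AddCommGrpCat.{u + 1} π).2 inferInstance
  have hcov := hls.imageSieve_mem (U := EtCoh.top _) c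
  obtain ⟨T, a, ⟨p, hp⟩, t, -⟩ := exists_arrow_of_mem _ hcov
    (show (EtCoh.top (Spec (CommRingCat.of K))).left from (⊥ : PrimeSpectrum K))
  obtain ⟨L, iF, iA, iFD, iS, ⟨tL⟩⟩ := exists_finite_separable_point T t
  let pb := Field.powerBasisOfFiniteOfSeparable K L
  let q := minpoly K pb.gen
  have hq : q.Separable := Algebra.IsSeparable.isSeparable K pb.gen
  let M := q.SplittingField
  have hFD : FiniteDimensional K M := Polynomial.IsSplittingField.finiteDimensional M q
  have hG : IsGalois K M := IsGalois.of_separable_splitting_field hq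
  have hne : Nonempty (L →ₐ[K] M) := by
    have hcard : Nat.card (L →ₐ[K] M) = pb.dim := by
      rw [AlgHom.natCard_of_powerBasis pb hq (Polynomial.SplittingField.splits q)]
    have hpos : 0 < Nat.card (L →ₐ[K] M) := by
      rw [hcard]; exact pb.dim_pos
    exact (Nat.card_pos_iff.1 hpos).1
  obtain ⟨τ⟩ := hne
  refine ⟨M, inferInstance, inferInstance, hFD, hG, B.obj.map (tE τ ≫ tL).op p, ?_⟩
  have nat := ConcreteCategory.congr_hom (π.hom.naturality (tE τ ≫ tL).op) p
  simp only [ConcreteCategory.comp_apply] at nat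
  rw [nat, hp]
  change (C.obj.map a.op ≫ C.obj.map (tE τ ≫ tL).op) c = _
  rw [← Functor.map_comp, ← op_comp]
  congr 3
  exact congrArg Quiver.Hom.op ((EtCore.topIsTerminal _).hom_ext _ _)

/-- `H¹(Spec K, F) = 0` as soon as all Galois 1-cocycles of `F` are coboundaries -/
theorem subsingleton_H_one_of_cocycles (F : EtCoh.Ab (Spec (CommRingCat.of K)))
    (h : ∀ (M : Type u) [Field M] [Algebra K M] [FiniteDimensional K M] [IsGalois K M]
      (a : (M ≃ₐ[K] M) → F.obj.obj (op (YM K M))),
      (∀ σ τ, a (σ * τ) = F.obj.map (σE σ).op (a τ) + a σ) →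
      ∃ v : F.obj.obj (op (YM K M)), ∀ σ, a σ = F.obj.map (σE σ).op v - v) :
    Subsingleton (EtCoh.H (Spec (CommRingCat.of K)) F 1) := by
  suffices key : ∀ x : EtCoh.H (Spec (CommRingCat.of K)) F 1, x = 0 from
    ⟨fun a b => (key a).trans (key b).symm⟩
  intro x
  let I : InjectivePresentation F := Classical.arbitrary _
  let S := ShortComplex.mk _ _ (cokernel.condition I.f)
  have hS : S.ShortExact := { exact := ShortComplex.exact_cokernel I.f }
  haveI : Injective S.X₂ := I.injective
  haveI := hS.epi_g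
  obtain ⟨x₃, hx₃⟩ := Ext.covariant_sequence_exact₁ _ hS x (Ext.eq_zero_of_injective _)
    (zero_add 1)
  obtain ⟨φ, rfl⟩ := (Ext.mk₀_bijective _ _).2 x₃
  -- the global section of `S.X₃` defined by `φ`
  let c : S.X₃.obj.obj (op (EtCoh.top _)) := ev1 _ ((EtCore.constAdj _).homEquiv MZ S.X₃ φ)
  have hφ : φ = ofSection S.X₃ ((ev1 _).symm c) := by
    unfold ofSection
    rw [AddEquiv.symm_apply_apply, Equiv.symm_apply_apply]
  -- it suffices to lift `c` to a global section of `S.X₂`
  suffices hlift : ∃ b₀ : S.X₂.obj.obj (op (EtCoh.top _)), S.g.hom.app _ b₀ = c by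
    obtain ⟨b₀, hb₀⟩ := hlift
    have hφ' : φ = ofSection S.X₂ ((ev1 _).symm b₀) ≫ S.g := by
      rw [hφ, ofSection_comp]
      congr 1
      apply (ev1 _).injective
      rw [ev1_comp, AddEquiv.apply_symm_apply, AddEquiv.apply_symm_apply, hb₀]
    rw [← hx₃, hφ', ← Ext.mk₀_comp_mk₀, Ext.comp_assoc_of_second_deg_zero, hS.comp_extClass,
      Ext.comp_zero]
  -- local lift over a Galois extension
  obtain ⟨M, iF, iA, iFD, iG, b, hb⟩ := exists_galois_local_lift S.g c
  -- the cocycle
  have hinv : ∀ σ : M ≃ₐ[K] M,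
      S.g.hom.app _ (S.X₂.obj.map (σE σ).op b - b) = 0 := by
    intro σ
    have nat := ConcreteCategory.congr_hom (S.g.hom.naturality (σE σ).op) b
    simp only [ConcreteCategory.comp_apply] at nat
    rw [map_sub, nat, hb, sub_eq_zero]
    change (S.X₃.obj.map (πM K M).op ≫ S.X₃.obj.map (σE σ).op) c = _
    rw [← Functor.map_comp, ← op_comp]
    congr 3
    exact congrArg Quiver.Hom.op ((EtCore.topIsTerminal _).hom_ext _ _)
  choose a ha using fun σ => exists_of_g_app_eq_zero hS (YM K M) _ (hinv σ)
  have hinj := f_app_injective hS (YM K M)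
  have hcoc : ∀ σ τ, a (σ * τ) = S.X₁.obj.map (σE σ).op (a τ) + a σ := by
    intro σ τ
    apply hinj
    have nat := ConcreteCategory.congr_hom (S.f.hom.naturality (σE σ).op) (a τ)
    simp only [ConcreteCategory.comp_apply] at nat
    rw [map_add, nat, ha, ha, ha, map_sub]
    have hmul : σE (σ * τ) = σE σ ≫ σE τ := by
      apply hom_ext_of_left
      change specσ (σ * τ) = specσ σ ≫ specσ τ
      rw [← Spec.map_comp, ← CommRingCat.ofHom_comp]
      rfl
    have e : S.X₂.obj.map (σE (σ * τ)).op b =
        S.X₂.obj.map (σE σ).op (S.X₂.obj.map (σE τ).op b) := by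
      rw [hmul, op_comp, Functor.map_comp]
      rfl
    rw [e]
    abel
  obtain ⟨v, hv⟩ := h M a hcoc
  -- the corrected lift is invariant
  have hinv' : ∀ σ : M ≃ₐ[K] M,
      S.X₂.obj.map (σE σ).op (b - S.f.hom.app _ v) = b - S.f.hom.app _ v := by
    intro σ
    have nat := ConcreteCategory.congr_hom (S.f.hom.naturality (σE σ).op) v
    simp only [ConcreteCategory.comp_apply] at nat
    have h1 := ha σ
    rw [hv σ, map_sub, nat] at h1
    rw [map_sub]
    have h2 : S.X₂.obj.map (σE σ).op b - b =
        S.X₂.obj.map (σE σ).op (S.f.hom.app _ v) - S.f.hom.app _ v := h1.symm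
    rw [sub_eq_sub_iff_add_eq_add] at h2 ⊢
    rw [h2, add_comm]
  obtain ⟨b₀, hb₀, -⟩ := galois_descent S.X₂ (b - S.f.hom.app _ v) hinv'
  refine ⟨b₀, ?_⟩
  apply map_πM_injective K M
  have nat := ConcreteCategory.congr_hom (S.g.hom.naturality (πM K M).op) b₀
  simp only [ConcreteCategory.comp_apply] at nat
  rw [← nat, hb₀, map_sub, hb]
  have hz := congrArg (fun ψ => ψ.hom.app (op (YM K M))) S.zero
  have hz' := ConcreteCategory.congr_hom hz v
  change S.X₃.obj.map (πM K M).op c - S.g.hom.app _ (S.f.hom.app _ v) = _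
  rw [show S.g.hom.app (op (YM K M)) (S.f.hom.app (op (YM K M)) v) = 0 from hz', sub_zero]

end Groth.Agent.Lib.Helper27.EtH90
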