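import Groth.Agent.Lib.Helper27.EtDouble2
import Groth.Agent.Lib.Helper27.EtH90a

/-!
# Étale-acyclic sheaves restrict surjectively along open immersions of étale `X`-schemes
-/

set_option autoImplicit false
set_option backward.isDefEq.respectTransparency false
universe u
open CategoryTheory Limits Opposite AlgebraicGeometry Abelian
open Groth.Agent.Lib.Helper27.EtFlasque Groth.Agent.Lib.Helper27.EtH90

namespace Groth.Agent.Lib.Helper27.EtDouble

variable {X : Scheme.{u}} {U V : X.Etale} (g : V ⟶ U) [IsOpenImmersion g.left]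

theorem map_surjective_of_etAcyclic (F : EtCoh.Ab X) (hF : EtAcyclic F) (s : F.obj.obj (op V)) :
    ∃ t : F.obj.obj (op U), F.obj.map g.op t = s := by
  let I : InjectivePresentation F := Classical.arbitrary _
  let S := ShortComplex.mk _ _ (cokernel.condition I.f)
  have hS : S.ShortExact := { exact := ShortComplex.exact_cokernel I.f }
  haveI : Injective S.X₂ := I.injective
  have hzero : ∀ (T : X.Etale) (x : S.X₁.obj.obj (op T)),
      S.g.hom.app (op T) (S.f.hom.app (op T) x) = 0 := by
    intro T x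
    have hz := congrArg (fun ψ => ψ.hom.app (op T)) S.zero
    exact ConcreteCategory.congr_hom hz x
  have natf : ∀ {T T' : X.Etale} (a : T' ⟶ T) (x : S.X₁.obj.obj (op T)),
      S.f.hom.app (op T') (S.X₁.obj.map a.op x) = S.X₂.obj.map a.op (S.f.hom.app (op T) x) := by
    intro T T' a x
    have nat := ConcreteCategory.congr_hom (S.f.hom.naturality a.op) x
    simp only [ConcreteCategory.comp_apply] at nat
    exact nat
  have natg : ∀ {T T' : X.Etale} (a : T' ⟶ T) (x : S.X₂.obj.obj (op T)),
      S.g.hom.app (op T') (S.X₂.obj.map a.op x) = S.X₃.obj.map a.op (S.g.hom.app (op T) x) := by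
    intro T T' a x
    have nat := ConcreteCategory.congr_hom (S.g.hom.naturality a.op) x
    simp only [ConcreteCategory.comp_apply] at nat
    exact nat
  -- extend `s` as a section of the injective sheaf
  obtain ⟨tI, htI⟩ := map_surjective_of_injective g S.X₂ (S.f.hom.app (op V) s)
  -- its image in the quotient vanishes on `V`
  have hq : S.X₃.obj.map g.op (S.g.hom.app (op U) tI) = S.X₃.obj.map g.op 0 := by
    rw [← natg, htI, hzero, map_zero]
  obtain ⟨qW, hq1, hq2⟩ := exists_glue_dbl g S.X₃ (S.g.hom.app (op U) tI) 0 hq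
  obtain ⟨tW, htW⟩ := exists_lift_sections hS hF (dbl g) qW
  have h1 : S.g.hom.app (op U) (S.X₂.obj.map (ι₁ g).op tW) = S.g.hom.app (op U) tI := by
    rw [natg, htW, hq1]
  have h2 : S.g.hom.app (op U) (S.X₂.obj.map (ι₂ g).op tW) = 0 := by
    rw [natg, htW, hq2]
  have h12 : S.X₂.obj.map g.op (S.X₂.obj.map (ι₁ g).op tW) =
      S.X₂.obj.map g.op (S.X₂.obj.map (ι₂ g).op tW) := by
    change (S.X₂.obj.map (ι₁ g).op ≫ S.X₂.obj.map g.op) tW =
      (S.X₂.obj.map (ι₂ g).op ≫ S.X₂.obj.map g.op) tW
    rw [← Functor.map_comp, ← Functor.map_comp, ← op_comp, ← op_comp, comp_ι₁_eq_comp_ι₂]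
  have hr : S.g.hom.app (op U)
      (tI - S.X₂.obj.map (ι₁ g).op tW + S.X₂.obj.map (ι₂ g).op tW) = 0 := by
    rw [map_add, map_sub, h1, h2, sub_self, add_zero]
  obtain ⟨t, ht⟩ := exists_of_g_app_eq_zero hS U _ hr
  refine ⟨t, ?_⟩
  apply f_app_injective hS V
  rw [natf, ht, map_add, map_sub, htI, h12]
  abel

end Groth.Agent.Lib.Helper27.EtDouble
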