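import Groth.Agent.Lib.Helper27.EtH90a
import Groth.Prelude.Def_EtDual
import Groth.Agent.Lib.Helper23.LocCohShift

/-!
# Étale excision for cohomology with support (helper27)
-/

set_option autoImplicit false
set_option backward.isDefEq.respectTransparency false
universe u
open CategoryTheory Limits Opposite AlgebraicGeometry Abelian
open Groth.Agent.Lib.Helper23.EtRestr Groth.Agent.Lib.Helper23.EtGlue
  Groth.Agent.Lib.Helper27.GabberCrit Groth.Agent.Lib.Helper27.EtTrace
  Groth.Agent.Lib.Helper27.EtH90

namespace Groth.Agent.Lib.Helper27.EtExc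

section Kfun

variable {X : Scheme.{u}} {V W : X.Etale} (g : V ⟶ W)

/-- sections over `W` vanishing on `V` -/
noncomputable def Kfun : EtCoh.Ab X ⥤ AddCommGrpCat.{u + 1} where
  obj F := AddCommGrpCat.of (F.obj.map g.op).hom.ker
  map {F G} φ := AddCommGrpCat.ofHom
    (((φ.hom.app (op W)).hom.comp (F.obj.map g.op).hom.ker.subtype).codRestrict
      (G.obj.map g.op).hom.ker (fun x => by
        rw [AddMonoidHom.mem_ker]
        have nat := ConcreteCategory.congr_hom (φ.hom.naturality g.op) x.1
        simp only [ConcreteCategory.comp_apply] at nat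
        have hx : (F.obj.map g.op).hom x.1 = 0 := x.2
        change (G.obj.map g.op) ((φ.hom.app (op W)) x.1) = 0
        rw [← nat]
        change (φ.hom.app (op V)) ((F.obj.map g.op).hom x.1) = 0
        rw [hx, map_zero]))
  map_id F := by
    ext x
    rfl
  map_comp φ ψ := by
    ext x
    rfl

theorem Kfun_map_val {F G : EtCoh.Ab X} (φ : F ⟶ G) (x : (Kfun g).obj F) :
    (((Kfun g).map φ) x).1 = φ.hom.app (op W) x.1 := rfl

end Kfun

section Unit

variable {U X : Scheme.{u}} (j : U ⟶ X) [Etale j] (F : EtCoh.Ab X)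

/-- `U → X` as a morphism of the small étale site of `X` -/
noncomputable abbrev gj : Tj j ⟶ EtCoh.top X := (EtCore.topIsTerminal X).from (Tj j)

/-- the unit `F → j_* j^* F` on global sections is restriction to `U`, up to an isomorphism -/
theorem unit_app_top :
    ((EtCoh.pullPushAdj j).unit.app F).hom.app (op (EtCoh.top X)) ≫
      ((EtCoh.pull j).obj F).obj.map (EtCore.bcTopIso j).op.symm.hom ≫
        ((pullIsoRestr j).hom.app F).hom.app (op (EtCoh.top U)) =
      F.obj.map (gj j).op := by
  have hnat := ((pullIsoRestr j).hom.app F).hom.naturality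
    (EtCore.bcTopIso j).op.symm.hom
  have hunit := Adjunction.unit_leftAdjointUniq_hom_app (EtCoh.pullPushAdj j)
    (restrPushAdj j) F
  have hunit' := congrArg (fun ψ : F ⟶ (EtCoh.push j).obj
    ((EtShriek.restrAlong j).obj F) => ψ.hom.app (op (EtCoh.top X))) hunit
  rw [hnat, ← Category.assoc]
  change ((EtCoh.pullPushAdj j).unit.app F ≫
            (EtCoh.push j).map
              (((EtCoh.pullPushAdj j).leftAdjointUniq (restrPushAdj j)).hom.app
                F)).hom.app (op (EtCoh.top X)) ≫ _ = _
  rw [hunit']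
  change F.obj.map ((adjSite j).counit.app (EtCoh.top X)).op ≫
    F.obj.map ((EtShriek.compEtale j).map (EtCore.bcTopIso j).inv).op = _
  rw [← Functor.map_comp, ← op_comp]
  congr 2
  exact (EtCore.topIsTerminal X).hom_ext _ _

theorem unit_app_top_eq_zero_iff (s : F.obj.obj (op (EtCoh.top X))) :
    ((EtCoh.pullPushAdj j).unit.app F).hom.app (op (EtCoh.top X)) s = 0 ↔
      F.obj.map (gj j).op s = 0 := by
  have h := ConcreteCategory.congr_hom (unit_app_top j F) s
  simp only [ConcreteCategory.comp_apply] at h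
  let e : ((EtCoh.push j).obj ((EtCoh.pull j).obj F)).obj.obj (op (EtCoh.top X)) ≅
      F.obj.obj (op (Tj j)) :=
    ((EtCoh.pull j).obj F).obj.mapIso (EtCore.bcTopIso j).op.symm ≪≫
      ((sheafSections _ _).obj (op (EtCoh.top U))).mapIso ((pullIsoRestr j).app F)
  have he : Function.Injective e.hom :=
    (ConcreteCategory.bijective_of_isIso e.hom).1
  constructor
  · intro h0
    have h' := h
    rw [h0, map_zero, map_zero] at h'
    exact h'.symm
  · intro h0
    apply he
    rw [map_zero]
    exact h.trans h0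

end Unit

section Theta1

variable {U X : Scheme.{u}} (j : U ⟶ X) [Etale j]

theorem ιΓ_injective (F : EtCoh.Ab X) :
    Function.Injective ((kernel.ι (EtDual.unitApp j F)).hom.app (op (EtCoh.top X))) := by
  haveI : Mono ((secT (EtCoh.top X)).map (kernel.ι (EtDual.unitApp j F))) := inferInstance
  exact (AddCommGrpCat.mono_iff_injective _).1 ‹_›

theorem exists_ιΓ_eq (F : EtCoh.Ab X) (s : F.obj.obj (op (EtCoh.top X)))
    (hs : (EtDual.unitApp j F).hom.app (op (EtCoh.top X)) s = 0) :
    ∃ y, (kernel.ι (EtDual.unitApp j F)).hom.app (op (EtCoh.top X)) y = s := by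
  have hex := (ShortComplex.exact_kernel (EtDual.unitApp j F)).map_of_mono_of_preservesKernel
    (secT (EtCoh.top X)) inferInstance inferInstance
  rw [ShortComplex.ab_exact_iff] at hex
  exact hex s hs

theorem unit_ιΓ (F : EtCoh.Ab X) (y : (kernel (EtDual.unitApp j F)).obj.obj (op (EtCoh.top X))) :
    (EtDual.unitApp j F).hom.app (op (EtCoh.top X))
      ((kernel.ι (EtDual.unitApp j F)).hom.app (op (EtCoh.top X)) y) = 0 := by
  have h := congrArg (fun φ => φ.hom.app (op (EtCoh.top X))) (kernel.condition (EtDual.unitApp j F))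
  have h' := ConcreteCategory.congr_hom h y
  exact h'

/-- `Γ_Z(X, F)` as sections over `X` vanishing on `U` -/
noncomputable def τ₁ : EtDual.gammaSupp j ⟶ Kfun (gj j) where
  app F := AddCommGrpCat.ofHom
    (((kernel.ι (EtDual.unitApp j F)).hom.app (op (EtCoh.top X))).hom.codRestrict
      (F.obj.map (gj j).op).hom.ker (fun y => by
        rw [AddMonoidHom.mem_ker]
        exact (unit_app_top_eq_zero_iff j F _).1 (unit_ιΓ j F y)))
  naturality F G φ := by
    ext y
    apply Subtype.ext
    have h : (EtDual.secSupp j).map φ ≫ kernel.ι (EtDual.unitApp j G) =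
        kernel.ι (EtDual.unitApp j F) ≫ φ := by
      simp
    have h' := ConcreteCategory.congr_hom
      (congrArg (fun ψ => ψ.hom.app (op (EtCoh.top X))) h) y
    exact h'

theorem τ₁_app_val (F : EtCoh.Ab X) (y : (EtDual.gammaSupp j).obj F) :
    ((τ₁ j).app F y).1 = (kernel.ι (EtDual.unitApp j F)).hom.app (op (EtCoh.top X)) y := rfl

instance (F : EtCoh.Ab X) : IsIso ((τ₁ j).app F) := by
  rw [ConcreteCategory.isIso_iff_bijective]
  constructor
  · intro a b hab
    apply ιΓ_injective j F
    have := congrArg Subtype.val hab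
    exact this
  · intro x
    have hx : F.obj.map (gj j).op x.1 = 0 := x.2
    obtain ⟨y, hy⟩ := exists_ιΓ_eq j F x.1 ((unit_app_top_eq_zero_iff j F _).2 hx)
    exact ⟨y, Subtype.ext hy⟩

instance : IsIso (τ₁ j) := NatIso.isIso_of_isIso_app _

/-- `Γ_Z(X, -) ≅` sections over `X` vanishing on `U` -/
noncomputable def θ₁ : EtDual.gammaSupp j ≅ Kfun (gj j) := asIso (τ₁ j)

end Theta1

end Groth.Agent.Lib.Helper27.EtExc
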