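import Groth.Agent.Lib.Helper27.EtTransport6
import Mathlib.CategoryTheory.Functor.OfSequence

/-!
# Étale cohomology of a torsion sheaf on a qcqs scheme is torsion (helper27)
-/

set_option autoImplicit false

universe u

open CategoryTheory CategoryTheory.Limits Opposite AlgebraicGeometry Abelian

namespace Groth.Agent.Lib.Helper27.EtTransport

variable (X : Scheme.{u})

/-- S0099 for index categories of any size equivalent to a small one in universe `u + 1` -/
theorem preservesColimitsOfShape_HF_of_equiv' [CompactSpace X] [QuasiSeparatedSpace X] (n : ℕ)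
    {I : Type*} [Category I] [IsFiltered I] {I' : Type (u + 1)} (_ : SmallCategory I')
    (e : I ≌ I') : PreservesColimitsOfShape I (EtCoh.HF X n) := by
  haveI : IsFiltered I' := IsFiltered.of_equivalence e
  haveI := preservesColimitsOfShape_HF X n I'
  exact preservesColimitsOfShape_of_equiv e.symm _

instance preservesColimitsOfShape_HF_nat [CompactSpace X] [QuasiSeparatedSpace X] (n : ℕ) :
    PreservesColimitsOfShape ℕ (EtCoh.HF X n) :=
  preservesColimitsOfShape_HF_of_equiv' X n _ (ULiftHomULiftCategory.equiv.{u + 1, u + 1} ℕ)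

variable {X}

/-- separatedness of abelian étale sheaves -/
theorem eq_zero_of_locally (F : EtCoh.Ab X) {U : X.Etale} (t : F.obj.obj (op U))
    (h : ∀ x : U.left, ∃ (V : X.Etale) (g : V ⟶ U), x ∈ Set.range g.left ∧ F.obj.map g.op t = 0) :
    t = 0 := by
  have hF : Presieve.IsSheaf X.smallEtaleTopology (F.obj ⋙ forget AddCommGrpCat.{u + 1}) :=
    (isSheaf_iff_isSheaf_of_type _ _).1
      ((Presheaf.isSheaf_iff_isSheaf_forget _ F.obj (forget AddCommGrpCat.{u + 1})).1 F.2)
  let S : Sieve U :=
    { arrows := fun V g => F.obj.map g.op t = 0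
      downward_closed := by
        intro V W g hg k
        change F.obj.map (k ≫ g).op t = 0
        rw [op_comp, F.obj.map_comp]
        change F.obj.map k.op (F.obj.map g.op t) = 0
        rw [hg, map_zero] }
  have hS : S ∈ X.smallEtaleTopology U := by
    apply Groth.Agent.Lib.Helper23.EtGlue.sieve_mem_of_forall_point
    intro x
    obtain ⟨V, g, hx, hg⟩ := h x
    exact ⟨V, g, hg, hx⟩
  refine (hF.isSeparated S hS).ext ?_
  intro V g hg
  change F.obj.map g.op t = F.obj.map g.op 0
  rw [map_zero]
  exact hg

end Groth.Agent.Lib.Helper27.EtTransport
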