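import Groth.Agent.Lib.Helper27.EtExc1
import Groth.Agent.Lib.Helper27.EtTorsion1

/-!
# Étale excision for cohomology with support (helper27)
-/

set_option autoImplicit false
set_option backward.isDefEq.respectTransparency false
universe u
open CategoryTheory Limits Opposite AlgebraicGeometry Abelian
open Groth.Agent.Lib.Helper23.EtRestr Groth.Agent.Lib.Helper23.EtGlue
  Groth.Agent.Lib.Helper27.GabberCrit Groth.Agent.Lib.Helper27.EtTrace
  Groth.Agent.Lib.Helper27.EtH90

namespace Groth.Agent.Lib.Helper27.EtExc

section Field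

theorem residueFieldCongr_map {X X' : Scheme.{u}} (f : X' ⟶ X) {y y' : X'} (e : y = y')
    (e' : f y = f y') :
    (X.residueFieldCongr e').hom ≫ f.residueFieldMap y' =
      f.residueFieldMap y ≫ (X'.residueFieldCongr e).hom := by
  subst e
  simp

/-- two morphisms from the spectrum of a field to `X'` with the same image point and the same
composite with `f` agree if `f` induces a surjection on residue fields at that point -/
theorem eq_of_residue_surjective {X X' : Scheme.{u}} (f : X' ⟶ X) {K : Type u} [Field K]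
    (α β : Spec (CommRingCat.of K) ⟶ X') (h : α ≫ f = β ≫ f)
    (e : α (IsLocalRing.closedPoint K) = β (IsLocalRing.closedPoint K))
    (hκ : Function.Surjective (f.residueFieldMap (α (IsLocalRing.closedPoint K)))) : α = β := by
  apply (Scheme.SpecToEquivOfField K X').injective
  rw [Scheme.SpecToEquivOfField_eq_iff]
  refine ⟨e, ?_⟩
  have h2 : Scheme.SpecToEquivOfField K X (α ≫ f) = Scheme.SpecToEquivOfField K X (β ≫ f) := by
    rw [h]
  rw [Scheme.SpecToEquivOfField_eq_iff] at h2
  obtain ⟨e', he'⟩ := h2
  have e'' : f (α (IsLocalRing.closedPoint K)) = f (β (IsLocalRing.closedPoint K)) := e'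
  have h3 : f.residueFieldMap (α (IsLocalRing.closedPoint K)) ≫
        X'.descResidueField (Scheme.stalkClosedPointTo α) =
      f.residueFieldMap (α (IsLocalRing.closedPoint K)) ≫ (X'.residueFieldCongr e).hom ≫
        X'.descResidueField (Scheme.stalkClosedPointTo β) := by
    rw [← Category.assoc, ← residueFieldCongr_map f e e'', Category.assoc]
    have h4 := Scheme.descResidueField_stalkClosedPointTo_comp (f := f) α
    have h5 := Scheme.descResidueField_stalkClosedPointTo_comp (f := f) β
    rw [← h4, ← h5]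
    exact he'
  change X'.descResidueField (Scheme.stalkClosedPointTo α) =
    (X'.residueFieldCongr e).hom ≫ X'.descResidueField (Scheme.stalkClosedPointTo β)
  ext x
  obtain ⟨y, rfl⟩ := hκ x
  exact ConcreteCategory.congr_hom h3 y

end Field

section Basic

variable {U X : Scheme.{u}} (j : U ⟶ X) [Etale j]

theorem gj_left : (gj j).left = j := by
  have h3 := MorphismProperty.Over.w (gj j)
  have h4 : (EtCoh.top X).hom = 𝟙 X := rfl
  have h5 : (Tj j).hom = 𝟙 U ≫ j := rfl
  rw [h4, h5] at h3
  exact ((Category.comp_id _).symm.trans h3).trans (Category.id_comp _)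

variable [IsOpenImmersion j]

/-- an étale `X`-scheme with image in `U` maps to `U` -/
noncomputable def toTj (W : X.Etale) (hW : Set.range W.hom.base ⊆ Set.range j.base) :
    W ⟶ Tj j :=
  MorphismProperty.Over.homMk (IsOpenImmersion.lift j W.hom hW) (by
    change _ ≫ (𝟙 U ≫ j) = W.hom
    rw [Category.id_comp, IsOpenImmersion.lift_fac]) trivial

theorem map_eq_zero_of_mem_Kfun (F : EtCoh.Ab X) (x : F.obj.obj (op (EtCoh.top X)))
    (hx : F.obj.map (gj j).op x = 0) {W : X.Etale} (r : W ⟶ EtCoh.top X)
    (hW : Set.range W.hom.base ⊆ Set.range j.base) : F.obj.map r.op x = 0 := by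
  have hr : r = toTj j W hW ≫ gj j := (EtCore.topIsTerminal X).hom_ext _ _
  rw [hr, op_comp, Functor.map_comp]
  change F.obj.map (toTj j W hW).op (F.obj.map (gj j).op x) = 0
  rw [hx, map_zero]

end Basic

section Glue

set_option backward.isDefEq.respectTransparency.types false in
/-- gluing sections of a sheaf over a covering by two objects -/
theorem exists_glue_two {X : Scheme.{u}} (P : EtCoh.Ab X) {T A B : X.Etale} (a : A ⟶ T)
    (b : B ⟶ T) (hcov : ∀ t : T.left, t ∈ Set.range a.left ∨ t ∈ Set.range b.left)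
    (xa : P.obj.obj (op A)) (xb : P.obj.obj (op B))
    (haa : ∀ {W : X.Etale} (p q : W ⟶ A), p ≫ a = q ≫ a →
      P.obj.map p.op xa = P.obj.map q.op xa)
    (hbb : ∀ {W : X.Etale} (p q : W ⟶ B), p ≫ b = q ≫ b →
      P.obj.map p.op xb = P.obj.map q.op xb)
    (hab : ∀ {W : X.Etale} (p : W ⟶ A) (q : W ⟶ B), p ≫ a = q ≫ b →
      P.obj.map p.op xa = P.obj.map q.op xb) :
    ∃ s : P.obj.obj (op T), P.obj.map a.op s = xa ∧ P.obj.map b.op s = xb := by
  have hP : Presieve.IsSheaf X.smallEtaleTopology (P.obj ⋙ forget AddCommGrpCat.{u + 1}) :=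
    (isSheaf_iff_isSheaf_of_type _ _).1
      ((Presheaf.isSheaf_iff_isSheaf_forget _ P.obj (forget AddCommGrpCat.{u + 1})).1 P.2)
  let Xs : Bool → X.Etale := fun c => cond c A B
  let π : ∀ c, Xs c ⟶ T := fun c => by
    cases c
    · exact b
    · exact a
  let x : ∀ c, P.obj.obj (op (Xs c)) := fun c => by
    cases c
    · exact xb
    · exact xa
  have hcov' : Sieve.ofArrows Xs π ∈ X.smallEtaleTopology T := by
    rw [Scheme.ofArrows_mem_smallEtaleTopology_iff]
    ext t
    simp only [Set.mem_iUnion, Set.mem_univ, iff_true]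
    rcases hcov t with h | h
    · exact ⟨true, h⟩
    · exact ⟨false, h⟩
  have h1 : Presieve.IsSheafFor (P.obj ⋙ forget AddCommGrpCat.{u + 1})
      (Presieve.ofArrows Xs π) :=
    (Presieve.isSheafFor_iff_generate _).2 (hP _ hcov')
  have hcompat : Presieve.Arrows.Compatible (P.obj ⋙ forget AddCommGrpCat.{u + 1}) π x := by
    intro i k W gi gk hg
    cases i <;> cases k
    · exact hbb gi gk hg
    · exact (hab gk gi hg.symm).symm
    · exact hab gi gk hg
    · exact haa gi gk hg
  obtain ⟨s, hs, -⟩ := (Presieve.isSheafFor_arrows_iff _ _).1 h1 x hcompat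
  exact ⟨s, hs true, hs false⟩

end Glue

section Excision

variable {X X' U U' : Scheme.{u}} (f : X' ⟶ X) [Etale f] (j : U ⟶ X) [IsOpenImmersion j]
  (j' : U' ⟶ X') [IsOpenImmersion j']

/-- `U' → X' → X` mapping to `X' → X` in the small étale site of `X` -/
noncomputable abbrev cj : (EtShriek.compEtale f).obj (Tj j') ⟶ Tj f :=
  (EtShriek.compEtale f).map (gj j')

theorem left_comp_f {W : X.Etale} (q : W ⟶ Tj f) : q.left ≫ f = W.hom := by
  have h := MorphismProperty.Over.w q
  have h2 : (Tj f).hom = 𝟙 X' ≫ f := rfl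
  rw [h2, Category.id_comp] at h
  exact h

variable (hU' : Set.range j'.base = f.base ⁻¹' Set.range j.base)

include hU' in
theorem map_eq_zero_of_range_subset (F : EtCoh.Ab X) (s' : F.obj.obj (op (Tj f)))
    (hs' : F.obj.map (cj f j').op s' = 0) {W : X.Etale} (q : W ⟶ Tj f)
    (hW : Set.range W.hom.base ⊆ Set.range j.base) : F.obj.map q.op s' = 0 := by
  have hqf : q.left ≫ f = W.hom := left_comp_f f q
  have hq : Set.range q.left ⊆ Set.range j' := by
    rintro _ ⟨w, rfl⟩
    have h1 : f (q.left w) = W.hom w := by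
      rw [← hqf]; rfl
    have h2 : q.left w ∈ f.base ⁻¹' Set.range j.base := by
      change f (q.left w) ∈ Set.range j.base
      rw [h1]
      exact hW ⟨w, rfl⟩
    rw [← hU'] at h2
    exact h2
  let l : W.left ⟶ U' := IsOpenImmersion.lift j' q.left hq
  have hl : l ≫ j' = q.left := IsOpenImmersion.lift_fac _ _ _
  let q' : W ⟶ (EtShriek.compEtale f).obj (Tj j') :=
    MorphismProperty.Over.homMk l (by
      change l ≫ (𝟙 U' ≫ j') ≫ f = W.hom
      rw [Category.id_comp, ← Category.assoc, hl, hqf]) trivial
  have hq' : q = q' ≫ cj f j' := by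
    apply hom_ext_of_left
    change q.left = l ≫ (gj j').left
    rw [← hl]
    congr 1
    have h3 := MorphismProperty.Over.w (gj j')
    have h4 : (EtCoh.top X').hom = 𝟙 X' := rfl
    have h5 : (Tj j').hom = 𝟙 U' ≫ j' := rfl
    rw [h4, h5] at h3
    exact ((Category.comp_id _).symm.trans h3).trans (Category.id_comp _) |>.symm
  rw [hq', op_comp, Functor.map_comp]
  change F.obj.map q'.op (F.obj.map (cj f j').op s') = 0
  rw [hs', map_zero]

variable (hZ : Set.InjOn f.base (Set.range j'.base)ᶜ)
  (hκ : ∀ x' : X', x' ∉ Set.range j'.base → Function.Surjective (f.residueFieldMap x'))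

include hU' hZ hκ in
theorem map_eq_map (F : EtCoh.Ab X) (s' : F.obj.obj (op (Tj f)))
    (hs' : F.obj.map (cj f j').op s' = 0) {W : X.Etale} (p q : W ⟶ Tj f) :
    F.obj.map p.op s' = F.obj.map q.op s' := by
  rw [← sub_eq_zero]
  apply Groth.Agent.Lib.Helper27.EtTransport.eq_zero_of_locally F
  intro w
  have hfp : f (p.left w) = W.hom w := by
    rw [← left_comp_f f p]; rfl
  have hfq : f (q.left w) = W.hom w := by
    rw [← left_comp_f f q]; rfl
  by_cases hw : p.left w ∈ Set.range j'.base
  · -- over `U`
    let O : W.left.Opens := W.hom ⁻¹ᵁ j.opensRange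
    have hwO : w ∈ O := by
      change W.hom w ∈ Set.range j
      rw [← hfp]
      rw [hU'] at hw
      exact hw
    have hO : Set.range (opn W O).hom.base ⊆ Set.range j.base := by
      rintro _ ⟨v, rfl⟩
      exact v.2
    refine ⟨opn W O, opnι W O, ⟨⟨w, hwO⟩, rfl⟩, ?_⟩
    rw [map_sub]
    have e1 : F.obj.map (opnι W O).op (F.obj.map p.op s') = F.obj.map (opnι W O ≫ p).op s' := by
      rw [op_comp, Functor.map_comp]; rfl
    have e2 : F.obj.map (opnι W O).op (F.obj.map q.op s') = F.obj.map (opnι W O ≫ q).op s' := by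
      rw [op_comp, Functor.map_comp]; rfl
    rw [e1, e2, map_eq_zero_of_range_subset f j j' hU' F s' hs' _ hO,
      map_eq_zero_of_range_subset f j j' hU' F s' hs' _ hO, sub_zero]
  · -- on the equaliser
    have hwq : q.left w ∈ (Set.range j'.base)ᶜ := by
      intro hq
      apply hw
      rw [hU'] at hq ⊢
      change f (p.left w) ∈ Set.range j.base
      rw [hfp, ← hfq]
      exact hq
    have hpq : p.left w = q.left w := hZ hw hwq (hfp.trans hfq.symm)
    refine ⟨eqObj p q, eqι p q, mem_range_eqι p q w ?_, ?_⟩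
    · let i : Spec (CommRingCat.of ↑(W.left.residueField w)) ⟶ W.left :=
        W.left.fromSpecResidueField w
      have hi : ∀ t, i t = w := fun t => Scheme.fromSpecResidueField_apply w t
      change i ≫ p.left = i ≫ q.left
      apply eq_of_residue_surjective f
      · rw [Category.assoc, Category.assoc, left_comp_f, left_comp_f]
      · change p.left (i _) = q.left (i _)
        rw [hi, hpq]
      · have : (i ≫ p.left) (IsLocalRing.closedPoint _) = p.left w := by
          change p.left (i _) = _
          rw [hi]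
        have key : ∀ y : X', y = p.left w →
            Function.Surjective (f.residueFieldMap y) := by
          rintro _ rfl
          exact hκ _ hw
        exact key _ this
    · rw [map_sub]
      have e1 : F.obj.map (eqι p q).op (F.obj.map p.op s') = F.obj.map (eqι p q ≫ p).op s' := by
        rw [op_comp, Functor.map_comp]; rfl
      have e2 : F.obj.map (eqι p q).op (F.obj.map q.op s') = F.obj.map (eqι p q ≫ q).op s' := by
        rw [op_comp, Functor.map_comp]; rfl
      rw [e1, e2, eqι_comp, sub_self]

include hU' in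
theorem range_cj_subset :
    Set.range ((EtShriek.compEtale f).obj (Tj j')).hom.base ⊆ Set.range j.base := by
  rintro _ ⟨u', rfl⟩
  have h1 : j' u' ∈ Set.range j'.base := ⟨u', rfl⟩
  rw [hU'] at h1
  exact h1

/-- restriction from `X` to `X'` on sections with support -/
noncomputable def τ₂ : Kfun (gj j) ⟶ EtShriek.restrAlong f ⋙ Kfun (gj j') where
  app F := AddCommGrpCat.ofHom
    (((F.obj.map (gj f).op).hom.comp (F.obj.map (gj j).op).hom.ker.subtype).codRestrict
      (F.obj.map (cj f j').op).hom.ker (fun x => by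
        rw [AddMonoidHom.mem_ker]
        change F.obj.map (cj f j').op (F.obj.map (gj f).op x.1) = 0
        have e1 : F.obj.map (cj f j').op (F.obj.map (gj f).op x.1) =
            F.obj.map (cj f j' ≫ gj f).op x.1 := by
          rw [op_comp, Functor.map_comp]; rfl
        rw [e1]
        exact map_eq_zero_of_mem_Kfun j F x.1 x.2 _ (range_cj_subset f j j' hU')))
  naturality F G φ := by
    ext x
    apply Subtype.ext
    have nat := ConcreteCategory.congr_hom (φ.hom.naturality (gj f).op) x.1
    simp only [ConcreteCategory.comp_apply] at nat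
    exact nat.symm

theorem τ₂_app_val (F : EtCoh.Ab X) (x : (Kfun (gj j)).obj F) :
    (((τ₂ f j j' hU').app F) x).1 = F.obj.map (gj f).op x.1 := rfl

include hZ hκ in
theorem isIso_τ₂_app (hZs : Set.SurjOn f.base (Set.range j'.base)ᶜ (Set.range j.base)ᶜ)
    (F : EtCoh.Ab X) : IsIso ((τ₂ f j j' hU').app F) := by
  have hcov : ∀ t : (EtCoh.top X).left,
      t ∈ Set.range (gj j).left ∨ t ∈ Set.range (gj f).left := by
    intro t
    rw [gj_left, gj_left]
    by_cases ht : t ∈ Set.range j.base
    · exact Or.inl ht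
    · obtain ⟨z', -, hz'⟩ := hZs ht
      exact Or.inr ⟨z', hz'⟩
  rw [ConcreteCategory.isIso_iff_bijective]
  constructor
  · intro a b hab
    apply Subtype.ext
    rw [← sub_eq_zero]
    apply Groth.Agent.Lib.Helper27.EtTransport.eq_zero_of_locally F
    intro t
    have ha : F.obj.map (gj j).op a.1 = 0 := a.2
    have hb : F.obj.map (gj j).op b.1 = 0 := b.2
    have hab' : F.obj.map (gj f).op a.1 = F.obj.map (gj f).op b.1 :=
      congrArg Subtype.val hab
    rcases hcov t with h | h
    · exact ⟨Tj j, gj j, h, by rw [map_sub, ha, hb, sub_zero]⟩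
    · exact ⟨Tj f, gj f, h, by rw [map_sub, hab', sub_self]⟩
  · intro s'
    have hs' : F.obj.map (cj f j').op s'.1 = 0 := s'.2
    obtain ⟨s, hs1, hs2⟩ := exists_glue_two F (gj j) (gj f) hcov 0 s'.1
      (fun p q _ => by rw [map_zero, map_zero])
      (fun p q _ => map_eq_map f j j' hU' hZ hκ F s'.1 hs' p q)
      (fun {W} p q _ => by
        rw [map_zero]
        refine (map_eq_zero_of_range_subset f j j' hU' F s'.1 hs' q ?_).symm
        rintro _ ⟨w, rfl⟩
        have h1 : W.hom = p.left ≫ j := by
          have h2 := MorphismProperty.Over.w p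
          have h3 : (Tj j).hom = 𝟙 U ≫ j := rfl
          rw [h3, Category.id_comp] at h2
          exact h2.symm
        rw [h1]
        exact ⟨p.left w, rfl⟩)
    exact ⟨⟨s, hs1⟩, Subtype.ext hs2⟩

end Excision

end Groth.Agent.Lib.Helper27.EtExc
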