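import Groth.Agent.Lib.Helper27.EtExc2
import Groth.Agent.Lib.Helper6.RDShift

/-!
# Étale excision for cohomology with support (helper27)
-/

set_option autoImplicit false
set_option backward.isDefEq.respectTransparency false
universe u
open CategoryTheory Limits Opposite AlgebraicGeometry Abelian
open Groth.Agent.Lib.Helper23.EtRestr Groth.Agent.Lib.Helper23.EtGlue
  Groth.Agent.Lib.Helper27.GabberCrit Groth.Agent.Lib.Helper27.EtTrace
  Groth.Agent.Lib.Helper27.EtH90
  Groth.Agent.Lib.Helper6.RDShift Groth.Agent.Lib.Helper6.DeltaCompare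

namespace Groth.Agent.Lib.Helper27.EtExc

section LeftExact

variable {U X : Scheme.{u}} (j : U ⟶ X) [Etale j]

/-- the inclusion of sections with support -/
noncomputable def suppι : EtDual.secSupp j ⟶ 𝟭 (EtCoh.Ab X) where
  app F := kernel.ι (EtDual.unitApp j F)
  naturality F G f := by
    simp

instance pfl_secSupp : PreservesFiniteLimits (EtDual.secSupp j) := by
  haveI : (EtCoh.pull j).Additive := (EtCoh.pullPushAdj j).left_adjoint_additive
  haveI : PreservesFiniteLimits (EtCoh.push j) :=
    have : PreservesLimitsOfSize.{0, 0} (EtCoh.push j) :=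
      (EtCoh.pullPushAdj j).rightAdjoint_preservesLimits
    PreservesLimitsOfSize.preservesFiniteLimits _
  have w : ∀ G : EtCoh.Ab X, (suppι j).app G ≫ (EtCoh.pullPushAdj j).unit.app G = 0 :=
    fun G => kernel.condition _
  have hΓ : ∀ G : EtCoh.Ab X, IsLimit (KernelFork.ofι ((suppι j).app G) (w G)) :=
    fun G => kernelIsKernel _
  exact Groth.Agent.Lib.Helper23.LocCohShift.preservesFiniteLimits_Γ
    (T := EtCoh.pull j ⋙ EtCoh.push j) (EtCoh.pullPushAdj j).unit (EtDual.secSupp j) (suppι j) w hΓ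

instance pfl_gammaSupp : PreservesFiniteLimits (EtDual.gammaSupp j) := by
  unfold EtDual.gammaSupp
  infer_instance

end LeftExact

section Main

variable {X X' U U' : Scheme.{u}} (f : X' ⟶ X) [Etale f] (j : U ⟶ X) [IsOpenImmersion j]
  (j' : U' ⟶ X') [IsOpenImmersion j']
  (hU' : Set.range j'.base = f.base ⁻¹' Set.range j.base)
  (hZ : Set.BijOn f.base (Set.range j'.base)ᶜ (Set.range j.base)ᶜ)
  (hκ : ∀ x' : X', x' ∉ Set.range j'.base → Function.Surjective (f.residueFieldMap x'))

include hU' hZ hκ in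
/-- étale excision on the level of sections with support -/
theorem nonempty_gammaSupp_iso :
    Nonempty (EtDual.gammaSupp j ≅ EtCoh.pull f ⋙ EtDual.gammaSupp j') := by
  haveI : ∀ F, IsIso ((τ₂ f j j' hU').app F) :=
    fun F => isIso_τ₂_app f j j' hU' hZ.injOn hκ hZ.surjOn F
  haveI : IsIso (τ₂ f j j' hU') := NatIso.isIso_of_isIso_app _
  exact ⟨θ₁ j ≪≫ asIso (τ₂ f j j' hU') ≪≫
    Functor.isoWhiskerRight (pullIsoRestr f).symm (Kfun (gj j')) ≪≫
    Functor.isoWhiskerLeft (EtCoh.pull f) (θ₁ j').symm⟩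

include hU' hZ hκ in
/-- étale excision for local cohomology groups -/
theorem nonempty_HY_iso (F : EtCoh.Ab X) (r : ℕ) :
    Nonempty ((EtDual.HY j r).obj F ≅ (EtDual.HY j' r).obj ((EtCoh.pull f).obj F)) := by
  obtain ⟨θ⟩ := nonempty_gammaSupp_iso f j j' hU' hZ hκ
  haveI : (EtCoh.pull f).Additive := (EtCoh.pullPushAdj f).left_adjoint_additive
  haveI : PreservesFiniteColimits (EtCoh.pull f) :=
    ⟨fun _ _ _ => (EtCoh.pullPushAdj f).leftAdjoint_preservesColimits.preservesColimitsOfShape⟩
  let S : ℕ → EtCoh.Ab X ⥤ AddCommGrpCat.{u + 1} := fun n => (EtDual.gammaSupp j).rightDerived n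
  let T : ℕ → EtCoh.Ab X ⥤ AddCommGrpCat.{u + 1} :=
    fun n => EtCoh.pull f ⋙ (EtDual.gammaSupp j').rightDerived n
  let θ0 : S 0 ≅ T 0 := (EtDual.gammaSupp j).rightDerivedZeroIsoSelf ≪≫ θ ≪≫
    Functor.isoWhiskerLeft (EtCoh.pull f) (EtDual.gammaSupp j').rightDerivedZeroIsoSelf.symm
  refine delta_compare S T θ0 (fun _ => True) ?_ r F trivial
  intro G _
  let E : ShortComplex (EtCoh.Ab X) :=
    ShortComplex.mk (Injective.ι G) (cokernel.π (Injective.ι G)) (cokernel.condition _)
  have hE : E.ShortExact := { exact := ShortComplex.exact_cokernel _ }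
  refine ⟨Injective.under G, cokernel (Injective.ι G), Injective.ι G, cokernel.π _, trivial, ?_, ?_⟩
  · exact hasShift_rightDerived (EtDual.gammaSupp j) E hE
      (fun n => Functor.isZero_rightDerived_obj_injective_succ _ n _)
  · haveI : Injective ((EtCoh.pull f).obj (Injective.under G)) :=
      (adjE f).map_injective _ inferInstance
    exact hasShift_comp_rightDerived (EtDual.gammaSupp j') (EtCoh.pull f) E
      (hE.map_of_exact (EtCoh.pull f))
      (fun n => Functor.isZero_rightDerived_obj_injective_succ _ n _)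

end Main

end Groth.Agent.Lib.Helper27.EtExc
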