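import Groth.Agent.Lib.Helper27.EtExc3
import Groth.Agent.Lib.Helper27.EtDouble3
import Groth.Agent.Lib.Helper27.AbsComp1
import Groth.Agent.S6658

/-!
# Sections with support over an arbitrary étale `X`-scheme; acyclicity of `Γ_Z(I)` (helper27)
-/

set_option autoImplicit false
set_option backward.isDefEq.respectTransparency false
universe u
open CategoryTheory Limits Opposite AlgebraicGeometry Abelian
open Groth.Agent.Lib.Helper23.EtRestr Groth.Agent.Lib.Helper23.EtGlue
  Groth.Agent.Lib.Helper27.GabberCrit Groth.Agent.Lib.Helper27.EtTrace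
  Groth.Agent.Lib.Helper27.EtH90 Groth.Agent.Lib.Helper27.AbsComp

namespace Groth.Agent.Lib.Helper27.EtExc

section GeneralW

variable {U X : Scheme.{u}} (j : U ⟶ X) [Etale j] (W : X.Etale)

/-- `W ×_X U → W` in the small étale site of `X` -/
noncomputable abbrev cW : (EtShriek.compEtale j).obj ((EtCoh.bc j).obj W) ⟶ W :=
  (adjSite j).counit.app W

theorem cW_left : (cW j W).left = pullback.fst W.hom j := rfl

variable (F : EtCoh.Ab X)

/-- the unit `F → j_* j^* F` on sections over `W` is restriction to `W ×_X U`, up to an
isomorphism -/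
theorem unit_app_W :
    ((EtCoh.pullPushAdj j).unit.app F).hom.app (op W) ≫
        ((pullIsoRestr j).hom.app F).hom.app (op ((EtCoh.bc j).obj W)) =
      F.obj.map (cW j W).op := by
  have hunit := Adjunction.unit_leftAdjointUniq_hom_app (EtCoh.pullPushAdj j)
    (restrPushAdj j) F
  have hunit' := congrArg (fun ψ : F ⟶ (EtCoh.push j).obj
    ((EtShriek.restrAlong j).obj F) => ψ.hom.app (op W)) hunit
  change ((EtCoh.pullPushAdj j).unit.app F ≫
            (EtCoh.push j).map
              (((EtCoh.pullPushAdj j).leftAdjointUniq (restrPushAdj j)).hom.app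
                F)).hom.app (op W) = _
  rw [hunit']
  rfl

theorem unit_app_W_eq_zero_iff (s : F.obj.obj (op W)) :
    ((EtCoh.pullPushAdj j).unit.app F).hom.app (op W) s = 0 ↔
      F.obj.map (cW j W).op s = 0 := by
  have h := ConcreteCategory.congr_hom (unit_app_W j W F) s
  simp only [ConcreteCategory.comp_apply] at h
  let e : ((EtCoh.push j).obj ((EtCoh.pull j).obj F)).obj.obj (op W) ≅
      F.obj.obj (op ((EtShriek.compEtale j).obj ((EtCoh.bc j).obj W))) :=
    ((sheafSections _ _).obj (op ((EtCoh.bc j).obj W))).mapIso ((pullIsoRestr j).app F)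
  have he : Function.Injective e.hom :=
    (ConcreteCategory.bijective_of_isIso e.hom).1
  constructor
  · intro h0
    have h' := h
    rw [h0, map_zero] at h'
    exact h'.symm
  · intro h0
    apply he
    rw [map_zero]
    exact h.trans h0

theorem ιΓW_injective :
    Function.Injective ((kernel.ι (EtDual.unitApp j F)).hom.app (op W)) := by
  haveI : Mono ((secT W).map (kernel.ι (EtDual.unitApp j F))) := inferInstance
  exact (AddCommGrpCat.mono_iff_injective _).1 ‹_›

theorem exists_ιΓW_eq (s : F.obj.obj (op W))
    (hs : (EtDual.unitApp j F).hom.app (op W) s = 0) :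
    ∃ y, (kernel.ι (EtDual.unitApp j F)).hom.app (op W) y = s := by
  have hex := (ShortComplex.exact_kernel (EtDual.unitApp j F)).map_of_mono_of_preservesKernel
    (secT W) inferInstance inferInstance
  rw [ShortComplex.ab_exact_iff] at hex
  exact hex s hs

theorem unit_ιΓW (y : (kernel (EtDual.unitApp j F)).obj.obj (op W)) :
    (EtDual.unitApp j F).hom.app (op W)
      ((kernel.ι (EtDual.unitApp j F)).hom.app (op W) y) = 0 := by
  have h := congrArg (fun φ => φ.hom.app (op W)) (kernel.condition (EtDual.unitApp j F))
  have h' := ConcreteCategory.congr_hom h y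
  exact h'

/-- sections of `Γ_Z(F)` over `W` are the sections of `F` over `W` vanishing on `W ×_X U` -/
noncomputable def τW : EtDual.secSupp j ⋙ secT W ⟶ Kfun (cW j W) where
  app F := AddCommGrpCat.ofHom
    (((kernel.ι (EtDual.unitApp j F)).hom.app (op W)).hom.codRestrict
      (F.obj.map (cW j W).op).hom.ker (fun y => by
        rw [AddMonoidHom.mem_ker]
        exact (unit_app_W_eq_zero_iff j W F _).1 (unit_ιΓW j W F y)))
  naturality F G φ := by
    ext y
    apply Subtype.ext
    have h : (EtDual.secSupp j).map φ ≫ kernel.ι (EtDual.unitApp j G) =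
        kernel.ι (EtDual.unitApp j F) ≫ φ := by
      simp
    have h' := ConcreteCategory.congr_hom
      (congrArg (fun ψ => ψ.hom.app (op W)) h) y
    exact h'

instance (F : EtCoh.Ab X) : IsIso ((τW j W).app F) := by
  rw [ConcreteCategory.isIso_iff_bijective]
  constructor
  · intro a b hab
    apply ιΓW_injective j W F
    have := congrArg Subtype.val hab
    exact this
  · intro x
    have hx : F.obj.map (cW j W).op x.1 = 0 := x.2
    obtain ⟨y, hy⟩ := exists_ιΓW_eq j W F x.1 ((unit_app_W_eq_zero_iff j W F _).2 hx)
    exact ⟨y, Subtype.ext hy⟩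

instance : IsIso (τW j W) := NatIso.isIso_of_isIso_app _

/-- `Γ(W, Γ_Z(-)) ≅` sections over `W` vanishing on `W ×_X U` -/
noncomputable def θW : EtDual.secSupp j ⋙ secT W ≅ Kfun (cW j W) := asIso (τW j W)

end GeneralW

section Acyclic

variable {U X : Scheme.{u}} (j : U ⟶ X) [IsOpenImmersion j] (W : X.Etale)

instance : IsOpenImmersion (cW j W).left :=
  inferInstanceAs (IsOpenImmersion (pullback.fst W.hom j))

/-- for injective `I`, the unit `I → j_* j^* I` is surjective on sections -/
theorem unit_app_W_surjective (I : EtCoh.Ab X) [Injective I] :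
    Function.Surjective (((EtCoh.pullPushAdj j).unit.app I).hom.app (op W)) := by
  intro t
  let e : ((EtCoh.push j).obj ((EtCoh.pull j).obj I)).obj.obj (op W) ≅
      I.obj.obj (op ((EtShriek.compEtale j).obj ((EtCoh.bc j).obj W))) :=
    ((sheafSections _ _).obj (op ((EtCoh.bc j).obj W))).mapIso ((pullIsoRestr j).app I)
  have he : Function.Injective e.hom :=
    (ConcreteCategory.bijective_of_isIso e.hom).1
  obtain ⟨s, hs⟩ := Groth.Agent.Lib.Helper27.EtDouble.map_surjective_of_injective (cW j W) I
    (e.hom t)
  refine ⟨s, he ?_⟩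
  have h := ConcreteCategory.congr_hom (unit_app_W j W I) s
  simp only [ConcreteCategory.comp_apply] at h
  exact h.trans hs

/-- `Γ_Z(I)` is acyclic for sections over any `W` when `I` is injective -/
theorem hAcyc_secSupp_of_injective (I : EtCoh.Ab X) [Injective I] :
    HAcyc (secT W) ((EtDual.secSupp j).obj I) := by
  let S : ShortComplex (EtCoh.Ab X) :=
    ShortComplex.mk (kernel.ι (EtDual.unitApp j I)) (EtDual.unitApp j I) (kernel.condition _)
  haveI : Epi (EtDual.unitApp j I) := Groth.Agent.S6658.epi_unit_of_injective j I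
  have hS : S.ShortExact :=
    { exact := ShortComplex.exact_kernel _
      mono_f := inferInstanceAs (Mono (kernel.ι (EtDual.unitApp j I)))
      epi_g := inferInstanceAs (Epi (EtDual.unitApp j I)) }
  haveI : Injective ((EtCoh.pull j).obj I) := Groth.Agent.S6658.injective_pull j I inferInstance
  haveI : Injective S.X₃ :=
    Injective.injective_of_adjoint (EtCoh.pullPushAdj j) ((EtCoh.pull j).obj I)
  haveI : Injective S.X₂ := inferInstanceAs (Injective I)
  intro p
  obtain ⟨δ, w₀, w₁, w₂, e₀, e₁, e₂⟩ :=
    Groth.Agent.Lib.Helper6.RDShift.rightDerived_les (secT W) hS p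
  have hz : IsZero (((secT W).rightDerived (p + 1)).obj S.X₂) :=
    Functor.isZero_rightDerived_obj_injective_succ _ p _
  cases p with
  | zero =>
    -- `δ` is both zero and an epimorphism
    haveI : Epi δ := e₂.epi_f (hz.eq_of_tgt _ _)
    have hepi : Epi (((secT W).rightDerived 0).map S.g) := by
      have hg : Epi ((secT W).map S.g) := by
        rw [AddCommGrpCat.epi_iff_surjective]
        exact unit_app_W_surjective j W I
      have nat := (secT W).rightDerivedZeroIsoSelf.hom.naturality S.g
      have h2 : ((secT W).rightDerived 0).map S.g = (secT W).rightDerivedZeroIsoSelf.hom.app S.X₂ ≫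
          (secT W).map S.g ≫ (secT W).rightDerivedZeroIsoSelf.inv.app S.X₃ := by
        rw [← Category.assoc, ← nat, Category.assoc, Iso.hom_inv_id_app, Category.comp_id]
      rw [h2]
      infer_instance
    have hδ : δ = 0 := by
      rw [← cancel_epi (((secT W).rightDerived 0).map S.g), w₁, comp_zero]
    rw [IsZero.iff_id_eq_zero, ← cancel_epi δ, hδ, zero_comp, comp_zero]
  | succ q =>
    exact e₂.isZero_of_both_isZero
      (Functor.isZero_rightDerived_obj_injective_succ _ q _) hz

end Acyclic

end Groth.Agent.Lib.Helper27.EtExc
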