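import Groth.Agent.Lib.Helper27.EtExc4

/-!
# `Kfun`: exactness, independence of the presentation, compatibility with restriction (helper27)
-/

set_option autoImplicit false
set_option backward.isDefEq.respectTransparency false
universe u
open CategoryTheory Limits Opposite AlgebraicGeometry Abelian
open Groth.Agent.Lib.Helper23.EtRestr Groth.Agent.Lib.Helper23.EtGlue
  Groth.Agent.Lib.Helper27.GabberCrit Groth.Agent.Lib.Helper27.EtTrace
  Groth.Agent.Lib.Helper27.EtH90 Groth.Agent.Lib.Helper27.AbsComp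

namespace Groth.Agent.Lib.Helper27.EtExc

section KfunBasic

variable {X : Scheme.{u}} {W W₁ W₂ : X.Etale}

instance (g : W₁ ⟶ W) : (Kfun g).Additive where
  map_add {F G φ ψ} := by
    ext x
    apply Subtype.ext
    rfl

instance (g : W₁ ⟶ W) : PreservesFiniteLimits (Kfun g) := by
  rw [Functor.preservesFiniteLimits_iff_forall_exact_map_and_mono]
  intro S hS
  constructor
  · rw [ShortComplex.ab_exact_iff]
    intro x hx
    have hx' : S.g.hom.app (op W) x.1 = 0 := congrArg Subtype.val hx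
    obtain ⟨y, hy⟩ := exists_of_g_app_eq_zero hS W x.1 hx'
    have hy0 : S.X₁.obj.map g.op y = 0 := by
      apply f_app_injective hS W₁
      have nat := ConcreteCategory.congr_hom (S.f.hom.naturality g.op) y
      simp only [ConcreteCategory.comp_apply] at nat
      rw [map_zero]
      refine nat.trans ?_
      rw [hy]
      exact x.2
    exact ⟨⟨y, hy0⟩, Subtype.ext hy⟩
  · rw [AddCommGrpCat.mono_iff_injective]
    intro a b hab
    apply Subtype.ext
    apply f_app_injective hS W
    exact congrArg Subtype.val hab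

/-- `Kfun g` only depends on the sieve generated by `g` -/
noncomputable def kfunIncl (g₁ : W₁ ⟶ W) (g₂ : W₂ ⟶ W) (a : W₁ ⟶ W₂) (ha : a ≫ g₂ = g₁) :
    Kfun g₂ ⟶ Kfun g₁ where
  app F := AddCommGrpCat.ofHom
    ((F.obj.map g₂.op).hom.ker.subtype.codRestrict (F.obj.map g₁.op).hom.ker (fun x => by
      rw [AddMonoidHom.mem_ker]
      change F.obj.map g₁.op x.1 = 0
      have e1 : F.obj.map g₁.op x.1 = F.obj.map a.op (F.obj.map g₂.op x.1) := by
        rw [← ha, op_comp, Functor.map_comp]; rfl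
      rw [e1]
      have hx : F.obj.map g₂.op x.1 = 0 := x.2
      rw [hx, map_zero]))
  naturality F G φ := by
    ext x
    apply Subtype.ext
    rfl

noncomputable def kfunIso (g₁ : W₁ ⟶ W) (g₂ : W₂ ⟶ W) (a : W₁ ⟶ W₂) (b : W₂ ⟶ W₁)
    (ha : a ≫ g₂ = g₁) (hb : b ≫ g₁ = g₂) : Kfun g₁ ≅ Kfun g₂ where
  hom := kfunIncl g₂ g₁ b hb
  inv := kfunIncl g₁ g₂ a ha
  hom_inv_id := by
    ext F x
    apply Subtype.ext
    rfl
  inv_hom_id := by
    ext F x
    apply Subtype.ext
    rfl

/-- an open immersion into `W` factors through any other one with bigger image -/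
theorem exists_factor_of_range_subset (g₁ : W₁ ⟶ W) (g₂ : W₂ ⟶ W) [IsOpenImmersion g₂.left]
    (h : Set.range g₁.left ⊆ Set.range g₂.left) : ∃ a : W₁ ⟶ W₂, a ≫ g₂ = g₁ := by
  let l : W₁.left ⟶ W₂.left := IsOpenImmersion.lift g₂.left g₁.left h
  have hl : l ≫ g₂.left = g₁.left := IsOpenImmersion.lift_fac _ _ _
  refine ⟨MorphismProperty.Over.homMk l ?_ trivial, ?_⟩
  · rw [← MorphismProperty.Over.w g₂, ← Category.assoc, hl, MorphismProperty.Over.w g₁]
  · apply hom_ext_of_left
    exact hl

theorem nonempty_kfunIso_of_range_eq (g₁ : W₁ ⟶ W) (g₂ : W₂ ⟶ W) [IsOpenImmersion g₁.left]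
    [IsOpenImmersion g₂.left] (h : Set.range g₁.left = Set.range g₂.left) :
    Nonempty (Kfun g₁ ≅ Kfun g₂) := by
  obtain ⟨a, ha⟩ := exists_factor_of_range_subset g₁ g₂ h.le
  obtain ⟨b, hb⟩ := exists_factor_of_range_subset g₂ g₁ h.ge
  exact ⟨kfunIso g₁ g₂ a b ha hb⟩

end KfunBasic

section Restr

variable {V X : Scheme.{u}} (v : V ⟶ X) [Etale v] {W' W'' : V.Etale} (g' : W'' ⟶ W')

/-- `Kfun` of a morphism coming from `V` is `Kfun` on `V` after restriction -/
noncomputable def kfunRestrIso :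
    Kfun ((EtShriek.compEtale v).map g') ≅ EtShriek.restrAlong v ⋙ Kfun g' :=
  NatIso.ofComponents (fun F => Iso.refl _) (by
    intro F G φ
    ext x
    apply Subtype.ext
    rfl)

end Restr

section Local

variable {U V X : Scheme.{u}} (j : U ⟶ X) [IsOpenImmersion j] (v : V ⟶ X) [Etale v]
  (W' : V.Etale)

/-- the preimage of `U` in an étale `V`-scheme -/
noncomputable abbrev preU : W'.left.Opens := (W'.hom ≫ v) ⁻¹ᵁ j.opensRange

instance : IsOpenImmersion ((EtShriek.compEtale v).map (opnι W' (preU j v W'))).left :=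
  inferInstanceAs (IsOpenImmersion (preU j v W').ι)

theorem range_cW_eq :
    Set.range (cW j ((EtShriek.compEtale v).obj W')).left =
      Set.range ((EtShriek.compEtale v).map (opnι W' (preU j v W'))).left := by
  have h1 : Set.range (pullback.fst (W'.hom ≫ v) j) = (W'.hom ≫ v) ⁻¹' Set.range j :=
    Scheme.Pullback.range_fst (f := W'.hom ≫ v) (g := j)
  have h2 : Set.range (preU j v W').ι = ((preU j v W' : W'.left.Opens) : Set W'.left) :=
    Scheme.Opens.range_ι _
  exact h1.trans h2.symm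

/-- sections with support over `W' → V → X`, computed on `V` -/
theorem nonempty_secSupp_secT_iso :
    Nonempty (EtDual.secSupp j ⋙ secT ((EtShriek.compEtale v).obj W') ≅
      EtCoh.pull v ⋙ Kfun (opnι W' (preU j v W'))) := by
  obtain ⟨κ⟩ := nonempty_kfunIso_of_range_eq _ _ (range_cW_eq j v W')
  exact ⟨θW j ((EtShriek.compEtale v).obj W') ≪≫ κ ≪≫
    kfunRestrIso v (opnι W' (preU j v W')) ≪≫
    Functor.isoWhiskerRight (pullIsoRestr v).symm (Kfun (opnι W' (preU j v W')))⟩

/-- the derived functors of sections with support over `W' → V → X` only depend on the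
restriction to `V` -/
theorem nonempty_rightDerived_iso_of_pull_iso {F F' : EtCoh.Ab X}
    (e : (EtCoh.pull v).obj F ≅ (EtCoh.pull v).obj F') (p : ℕ) :
    Nonempty (((EtDual.secSupp j ⋙ secT ((EtShriek.compEtale v).obj W')).rightDerived p).obj F ≅
      ((EtDual.secSupp j ⋙ secT ((EtShriek.compEtale v).obj W')).rightDerived p).obj F') := by
  obtain ⟨θ⟩ := nonempty_secSupp_secT_iso j v W'
  haveI : (EtCoh.pull v).Additive := (EtCoh.pullPushAdj v).left_adjoint_additive
  haveI : PreservesFiniteColimits (EtCoh.pull v) :=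
    ⟨fun _ _ _ => (EtCoh.pullPushAdj v).leftAdjoint_preservesColimits.preservesColimitsOfShape⟩
  have hinj : ∀ I : EtCoh.Ab X, Injective I → Injective ((EtCoh.pull v).obj I) :=
    fun I hI => (adjE v).map_injective I hI
  obtain ⟨e₁⟩ := nonempty_rightDerived_iso_of_iso _ (EtCoh.pull v) _ hinj θ p F
  obtain ⟨e₂⟩ := nonempty_rightDerived_iso_of_iso _ (EtCoh.pull v) _ hinj θ p F'
  exact ⟨e₁ ≪≫ ((Kfun (opnι W' (preU j v W'))).rightDerived p).mapIso e ≪≫ e₂.symm⟩

end Local

end Groth.Agent.Lib.Helper27.EtExc
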