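import Groth.Agent.Lib.Helper27.EtFlasque1
import Groth.Agent.S0649

/-!
# Direct images of étale-acyclic sheaves are étale-acyclic
-/

set_option autoImplicit false
set_option backward.isDefEq.respectTransparency false
universe u
open CategoryTheory Limits Opposite AlgebraicGeometry Abelian
open Groth.Agent.Lib.Helper27.GabberCrit Groth.Agent.Lib.Helper27.EtTrace
  Groth.Agent.Lib.Helper23.ExtAdj Groth.Agent.Lib.Helper23.ExtRestr

namespace Groth.Agent.Lib.Helper27.EtFlasque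

variable {X Y : Scheme.{u}} (f : X ⟶ Y)

theorem nonempty_Zj_bc_iso (W' : Y.Etale) :
    Nonempty (Zj ((EtCoh.bc f).obj W').hom ≅ (EtCoh.pull f).obj (Zj W'.hom)) := by
  obtain ⟨e⟩ := Groth.Agent.S0649.result W'.hom f (pullback.snd W'.hom f) (pullback.fst W'.hom f)
    (IsPullback.of_hasPullback W'.hom f).flip
  exact ⟨(EtShriek.extZero (pullback.snd W'.hom f)).mapIso
      (EtCore.pullConst (pullback.fst W'.hom f) ℤ).symm ≪≫ e.app (EtCoh.const W'.left ℤ)⟩

theorem etAcyclic_push (F : EtCoh.Ab X) (hF : EtAcyclic F) :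
    EtAcyclic ((EtCoh.push f).obj F) := by
  intro W' q x
  haveI : PreservesFiniteLimits (EtCoh.pull f) := Groth.Agent.S0101.result f
  apply (extAdj_push_bijective f (Zj W'.hom) F hF (q + 1)).1
  rw [map_zero]
  obtain ⟨e⟩ := nonempty_Zj_bc_iso f W'
  generalize extAdj (EtCoh.pullPushAdj f) (Zj W'.hom) F (q + 1) x = y
  have h0 : (Ext.mk₀ e.hom).comp y (zero_add (q + 1)) = 0 := hF ((EtCoh.bc f).obj W') q _
  have h1 : (Ext.mk₀ e.inv).comp ((Ext.mk₀ e.hom).comp y (zero_add (q + 1)))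
      (zero_add (q + 1)) = y := by
    rw [← Ext.comp_assoc_of_second_deg_zero, Ext.mk₀_comp_mk₀, Iso.inv_hom_id, Ext.mk₀_id_comp]
  rw [← h1, h0, Ext.comp_zero]

theorem subsingleton_H_pull_push (F : EtCoh.Ab X)
    (hF : ∀ (W : X.Etale) (q : ℕ), 0 < q →
      Subsingleton (EtCoh.H W.left ((EtCoh.pull W.hom).obj F) q))
    (W' : Y.Etale) (q : ℕ) (hq : 0 < q) :
    Subsingleton (EtCoh.H W'.left ((EtCoh.pull W'.hom).obj ((EtCoh.push f).obj F)) q) :=
  subsingleton_H_of_etAcyclic _ (etAcyclic_push f F (etAcyclic_of_H F hF)) W' q hq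

end Groth.Agent.Lib.Helper27.EtFlasque
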