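import Groth.Prelude.Def_EtLim

/-!
# Base change calculus for small étale sites (helper27)

Morphisms into a base change are determined by their first projection; the canonical
isomorphisms between iterated base changes.
-/

set_option autoImplicit false
set_option backward.isDefEq.respectTransparency false
set_option backward.isDefEq.respectTransparency.types false

universe u

open CategoryTheory CategoryTheory.Limits AlgebraicGeometry Opposite

namespace Groth.Agent.Lib.Helper27.EtLimA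

variable {X Y Z T : Scheme.{u}}

/-- the projection `W ×_Y X ⟶ W` -/
noncomputable abbrev prL (f : X ⟶ Y) (W : Y.Etale) : ((EtCoh.bc f).obj W).left ⟶ W.left :=
  pullback.fst W.hom f

lemma bc_obj_hom (f : X ⟶ Y) (W : Y.Etale) :
    ((EtCoh.bc f).obj W).hom = pullback.snd W.hom f := rfl

lemma prL_comp (f : X ⟶ Y) (W : Y.Etale) :
    prL f W ≫ W.hom = ((EtCoh.bc f).obj W).hom ≫ f := pullback.condition

/-- morphisms into a base change are determined by the first projection -/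
theorem bc_hom_ext {f : X ⟶ Y} {W : Y.Etale} {V : X.Etale} (a b : V ⟶ (EtCoh.bc f).obj W)
    (h : a.left ≫ prL f W = b.left ≫ prL f W) : a = b := by
  apply MorphismProperty.Over.Hom.ext
  apply pullback.hom_ext h
  have ha : a.left ≫ ((EtCoh.bc f).obj W).hom = V.hom := Over.w a.hom
  have hb : b.left ≫ ((EtCoh.bc f).obj W).hom = V.hom := Over.w b.hom
  exact ha.trans hb.symm

lemma bc_map_prL (f : X ⟶ Y) {W W' : Y.Etale} (k : W ⟶ W') :
    ((EtCoh.bc f).map k).left ≫ prL f W' = prL f W ≫ k.left :=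
  (EtCoh.isPullback_bc_map f k).w

/-- a morphism into a base change from its first component -/
noncomputable def bcLift (f : X ⟶ Y) (W : Y.Etale) (V : X.Etale) (a : V.left ⟶ W.left)
    (h : a ≫ W.hom = V.hom ≫ f) : V ⟶ (EtCoh.bc f).obj W :=
  MorphismProperty.Over.homMk (pullback.lift a V.hom h) (pullback.lift_snd _ _ _)

@[simp]
lemma bcLift_prL (f : X ⟶ Y) (W : Y.Etale) (V : X.Etale) (a : V.left ⟶ W.left)
    (h : a ≫ W.hom = V.hom ≫ f) : (bcLift f W V a h).left ≫ prL f W = a :=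
  pullback.lift_fst _ _ _

end Groth.Agent.Lib.Helper27.EtLimA

namespace Groth.Agent.Lib.Helper27.EtLimA

variable {X Y Z T : Scheme.{u}}

/-- the canonical isomorphism between an iterated base change and the base change along the
composite -/
noncomputable def triIso (f : X ⟶ Y) (g : Y ⟶ Z) (h : X ⟶ Z) (w : f ≫ g = h) :
    EtCoh.bc g ⋙ EtCoh.bc f ≅ EtCoh.bc h :=
  (MorphismProperty.Over.pullbackComp (P := EtCoh.etaleMP) (Q := ⊤) f g).symm ≪≫
    MorphismProperty.Over.pullbackCongr (P := EtCoh.etaleMP) (Q := ⊤) w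

lemma triIso_inv_prL (f : X ⟶ Y) (g : Y ⟶ Z) (h : X ⟶ Z) (w : f ≫ g = h) (W : Z.Etale) :
    ((triIso f g h w).inv.app W).left ≫ prL f ((EtCoh.bc g).obj W) ≫ prL g W = prL h W := by
  subst w
  have h1 := MorphismProperty.Over.pullbackComp_left_fst_fst (P := EtCoh.etaleMP) (Q := ⊤) f g W
  have h2 := MorphismProperty.Over.pullbackCongr_hom_app_left_fst (P := EtCoh.etaleMP) (Q := ⊤)
    (rfl : f ≫ g = f ≫ g) W
  have e : (triIso f g (f ≫ g) rfl).inv.app W =
      (MorphismProperty.Over.pullbackCongr (P := EtCoh.etaleMP) (Q := ⊤)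
        (rfl : f ≫ g = f ≫ g)).inv.app W ≫
      (MorphismProperty.Over.pullbackComp (P := EtCoh.etaleMP) (Q := ⊤) f g).hom.app W := rfl
  rw [e]
  have h3 : ((MorphismProperty.Over.pullbackCongr (P := EtCoh.etaleMP) (Q := ⊤)
        (rfl : f ≫ g = f ≫ g)).inv.app W).left ≫ pullback.fst W.hom (f ≫ g) =
      pullback.fst W.hom (f ≫ g) := by
    rw [← h2, ← Category.assoc, ← MorphismProperty.Comma.comp_left]
    erw [Iso.inv_hom_id_app]
    simp
  erw [MorphismProperty.Comma.comp_left, Category.assoc, h1]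
  exact h3

lemma triIso_hom_prL (f : X ⟶ Y) (g : Y ⟶ Z) (h : X ⟶ Z) (w : f ≫ g = h) (W : Z.Etale) :
    ((triIso f g h w).hom.app W).left ≫ prL h W = prL f ((EtCoh.bc g).obj W) ≫ prL g W := by
  rw [← triIso_inv_prL f g h w W, ← Category.assoc, ← MorphismProperty.Comma.comp_left]
  erw [Iso.hom_inv_id_app]
  simp


lemma left_hom_bc {f : X ⟶ Y} {W : Y.Etale} {V : X.Etale} (a : V ⟶ (EtCoh.bc f).obj W) :
    a.left ≫ pullback.snd W.hom f = V.hom := Over.w a.hom

lemma comp_left' {V V' V'' : X.Etale} (a : V ⟶ V') (b : V' ⟶ V'') :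
    (a ≫ b).left = a.left ≫ b.left := rfl

lemma left_prL_hom {f : X ⟶ Y} {W : Y.Etale} {V : X.Etale} (a : V ⟶ (EtCoh.bc f).obj W) :
    a.left ≫ prL f W ≫ W.hom = V.hom ≫ f := by
  rw [prL_comp, ← Category.assoc]
  exact congrArg (· ≫ f) (left_hom_bc a)

/-- scheme morphisms into a base change are determined by the two projections -/
lemma sch_ext {f : X ⟶ Y} {W : Y.Etale} {S : Scheme.{u}} (p q : S ⟶ ((EtCoh.bc f).obj W).left)
    (h1 : p ≫ prL f W = q ≫ prL f W)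
    (h2 : p ≫ ((EtCoh.bc f).obj W).hom = q ≫ ((EtCoh.bc f).obj W).hom) : p = q :=
  pullback.hom_ext h1 h2

/-- morphisms into a twofold base change are determined by the composite projection -/
theorem bc_hom_ext₂ {f : X ⟶ Y} {g : Z ⟶ X} {W : Y.Etale} {V : Z.Etale}
    (a b : V ⟶ (EtCoh.bc g).obj ((EtCoh.bc f).obj W))
    (h : a.left ≫ prL g ((EtCoh.bc f).obj W) ≫ prL f W =
      b.left ≫ prL g ((EtCoh.bc f).obj W) ≫ prL f W) : a = b := by
  apply bc_hom_ext
  apply sch_ext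
  · exact (Category.assoc _ _ _).trans (h.trans (Category.assoc _ _ _).symm)
  · exact (Category.assoc _ _ _).trans ((left_prL_hom a).trans
      ((left_prL_hom b).symm.trans (Category.assoc _ _ _).symm))

/-- morphisms into a threefold base change are determined by the composite projection -/
theorem bc_hom_ext₃ {f : X ⟶ Y} {g : Z ⟶ X} {k : T ⟶ Z} {W : Y.Etale} {V : T.Etale}
    (a b : V ⟶ (EtCoh.bc k).obj ((EtCoh.bc g).obj ((EtCoh.bc f).obj W)))
    (h : a.left ≫ prL k _ ≫ prL g ((EtCoh.bc f).obj W) ≫ prL f W =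
      b.left ≫ prL k _ ≫ prL g ((EtCoh.bc f).obj W) ≫ prL f W) : a = b := by
  apply bc_hom_ext
  have hk : ∀ c : V ⟶ (EtCoh.bc k).obj ((EtCoh.bc g).obj ((EtCoh.bc f).obj W)),
      (c.left ≫ prL k _) ≫ ((EtCoh.bc g).obj ((EtCoh.bc f).obj W)).hom = V.hom ≫ k := fun c =>
    (Category.assoc _ _ _).trans (left_prL_hom c)
  apply sch_ext
  · apply sch_ext
    · simpa only [Category.assoc] using h
    · have e : prL g ((EtCoh.bc f).obj W) ≫ ((EtCoh.bc f).obj W).hom =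
          ((EtCoh.bc g).obj ((EtCoh.bc f).obj W)).hom ≫ g := prL_comp g _
      have key : ∀ c : V ⟶ (EtCoh.bc k).obj ((EtCoh.bc g).obj ((EtCoh.bc f).obj W)),
          ((c.left ≫ prL k _) ≫ prL g ((EtCoh.bc f).obj W)) ≫ ((EtCoh.bc f).obj W).hom =
            (V.hom ≫ k) ≫ g := fun c => by
        rw [Category.assoc, e, ← Category.assoc, hk c]
      exact (key a).trans (key b).symm
  · exact (hk a).trans (hk b).symm

/-- the pentagon for the canonical isomorphisms of iterated base changes -/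
theorem triIso_pentagon {X₀ X₁ X₂ X₃ : Scheme.{u}} (f₁ : X₁ ⟶ X₀) (f₂ : X₂ ⟶ X₁) (f₃ : X₃ ⟶ X₂)
    (f₁₂ : X₂ ⟶ X₀) (f₂₃ : X₃ ⟶ X₁) (f₁₂₃ : X₃ ⟶ X₀) (w₁₂ : f₂ ≫ f₁ = f₁₂) (w₂₃ : f₃ ≫ f₂ = f₂₃)
    (w : f₃ ≫ f₁₂ = f₁₂₃) (w' : f₂₃ ≫ f₁ = f₁₂₃) (W : X₀.Etale) :
    (triIso f₃ f₁₂ f₁₂₃ w).inv.app W ≫ (EtCoh.bc f₃).map ((triIso f₂ f₁ f₁₂ w₁₂).inv.app W) =
      (triIso f₂₃ f₁ f₁₂₃ w').inv.app W ≫
        (triIso f₃ f₂ f₂₃ w₂₃).inv.app ((EtCoh.bc f₁).obj W) := by
  apply bc_hom_ext₃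
  have h1 := triIso_inv_prL f₃ f₁₂ f₁₂₃ w W
  have h2 := triIso_inv_prL f₂ f₁ f₁₂ w₁₂ W
  have h3 := triIso_inv_prL f₂₃ f₁ f₁₂₃ w' W
  have h4 := triIso_inv_prL f₃ f₂ f₂₃ w₂₃ ((EtCoh.bc f₁).obj W)
  have h5 := bc_map_prL f₃ ((triIso f₂ f₁ f₁₂ w₁₂).inv.app W)
  rw [comp_left', comp_left']
  calc (((triIso f₃ f₁₂ f₁₂₃ w).inv.app W).left ≫
        ((EtCoh.bc f₃).map ((triIso f₂ f₁ f₁₂ w₁₂).inv.app W)).left) ≫
          prL f₃ _ ≫ prL f₂ ((EtCoh.bc f₁).obj W) ≫ prL f₁ W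
      = ((triIso f₃ f₁₂ f₁₂₃ w).inv.app W).left ≫
          (((EtCoh.bc f₃).map ((triIso f₂ f₁ f₁₂ w₁₂).inv.app W)).left ≫ prL f₃ _) ≫
            prL f₂ ((EtCoh.bc f₁).obj W) ≫ prL f₁ W := by simp only [Category.assoc]
    _ = ((triIso f₃ f₁₂ f₁₂₃ w).inv.app W).left ≫ prL f₃ ((EtCoh.bc f₁₂).obj W) ≫
          ((triIso f₂ f₁ f₁₂ w₁₂).inv.app W).left ≫
            prL f₂ ((EtCoh.bc f₁).obj W) ≫ prL f₁ W := by rw [h5]; simp only [Category.assoc]
    _ = prL f₁₂₃ W := by rw [h2, h1]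
    _ = ((triIso f₂₃ f₁ f₁₂₃ w').inv.app W).left ≫
          (((triIso f₃ f₂ f₂₃ w₂₃).inv.app ((EtCoh.bc f₁).obj W)).left ≫ prL f₃ _ ≫
            prL f₂ ((EtCoh.bc f₁).obj W)) ≫ prL f₁ W := by rw [h4, h3]
    _ = _ := by simp only [Category.assoc]


/-- for `f = 𝟙`, the projection is a morphism of étale schemes -/
noncomputable def prE (f : X ⟶ X) (hf : f = 𝟙 X) (W : X.Etale) : (EtCoh.bc f).obj W ⟶ W :=
  MorphismProperty.Over.homMk (prL f W) (by
    have h1 := prL_comp f W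
    have h2 : ((EtCoh.bc f).obj W).hom ≫ f = ((EtCoh.bc f).obj W).hom := by
      rw [hf]; exact Category.comp_id _
    exact h1.trans h2)

lemma prE_left (f : X ⟶ X) (hf : f = 𝟙 X) (W : X.Etale) : (prE f hf W).left = prL f W := rfl

lemma prE_natural (f : X ⟶ X) (hf : f = 𝟙 X) {W W' : X.Etale} (k : W ⟶ W') :
    (EtCoh.bc f).map k ≫ prE f hf W' = prE f hf W ≫ k := by
  apply MorphismProperty.Over.Hom.ext
  rw [comp_left', comp_left', prE_left, prE_left]
  exact bc_map_prL f k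

lemma triIso_inv_prE_left (f : X ⟶ X) (hf : f = 𝟙 X) (g : Z ⟶ X) (w : g ≫ f = g) (W : X.Etale) :
    (triIso g f g w).inv.app W ≫ (EtCoh.bc g).map (prE f hf W) = 𝟙 _ := by
  apply bc_hom_ext
  have h1 := triIso_inv_prL g f g w W
  have h2 := bc_map_prL g (prE f hf W)
  rw [comp_left', Category.assoc, h2, prE_left, h1]
  exact (Category.id_comp _).symm

lemma triIso_inv_prE_right (f : X ⟶ Y) (g : X ⟶ X) (hg : g = 𝟙 X) (w : g ≫ f = f) (W : Y.Etale) :
    (triIso g f f w).inv.app W ≫ prE g hg ((EtCoh.bc f).obj W) = 𝟙 _ := by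
  apply bc_hom_ext
  have h1 := triIso_inv_prL g f f w W
  rw [comp_left', Category.assoc, prE_left, h1]
  exact (Category.id_comp _).symm

end Groth.Agent.Lib.Helper27.EtLimA
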