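import Groth.Agent.Lib.Helper27.EtLimA
import Groth.Agent.Lib.Helper23.FinBC0
import Groth.Agent.Lib.Helper23.HofPushBC

/-!
# Relative morphisms of abelian étale sheaves and their composition (helper27)
-/

set_option autoImplicit false
set_option backward.isDefEq.respectTransparency false
set_option backward.isDefEq.respectTransparency.types false

universe u

open CategoryTheory CategoryTheory.Limits AlgebraicGeometry Opposite

namespace Groth.Agent.Lib.Helper27.EtLimB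

open Groth.Agent.Lib.Helper27.EtLimA Groth.Agent.Lib.Helper23.FinBC0

variable {X Y Z T : Scheme.{u}}

/-- `g_* ⋙ f_* ≅ h_*` for `g ≫ f = h` -/
noncomputable def pushTri (f : X ⟶ Y) (g : Z ⟶ X) (h : Z ⟶ Y) (w : g ≫ f = h) :
    EtCoh.push g ⋙ EtCoh.push f ≅ EtCoh.push h :=
  EtCoh.pushComp f g ≪≫ EtCoh.pushCongr w

lemma pushTri_hom_app (f : X ⟶ Y) (g : Z ⟶ X) (h : Z ⟶ Y) (w : g ≫ f = h) (C : EtCoh.Ab Z)
    (W : Y.Etale) :
    ((pushTri f g h w).hom.app C).hom.app (op W) = C.obj.map ((triIso g f h w).inv.app W).op := by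
  change C.obj.map _ ≫ C.obj.map _ = _
  rw [← C.obj.map_comp]
  rfl

/-- composition of relative morphisms -/
noncomputable def relComp (f : X ⟶ Y) (g : Z ⟶ X) (h : Z ⟶ Y) (w : g ≫ f = h)
    {A : EtCoh.Ab Y} {B : EtCoh.Ab X} {C : EtCoh.Ab Z}
    (γ : A ⟶ (EtCoh.push f).obj B) (δ : B ⟶ (EtCoh.push g).obj C) : A ⟶ (EtCoh.push h).obj C :=
  γ ≫ (EtCoh.push f).map δ ≫ (pushTri f g h w).hom.app C

lemma relComp_sec (f : X ⟶ Y) (g : Z ⟶ X) (h : Z ⟶ Y) (w : g ≫ f = h)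
    {A : EtCoh.Ab Y} {B : EtCoh.Ab X} {C : EtCoh.Ab Z}
    (γ : A ⟶ (EtCoh.push f).obj B) (δ : B ⟶ (EtCoh.push g).obj C) (W : Y.Etale) :
    secMap h (relComp f g h w γ δ) W =
      secMap f γ W ≫ secMap g δ ((EtCoh.bc f).obj W) ≫
        C.obj.map ((triIso g f h w).inv.app W).op := by
  change γ.hom.app (op W) ≫ (δ.hom.app (op ((EtCoh.bc f).obj W)) ≫
    ((pushTri f g h w).hom.app C).hom.app (op W)) = _
  rw [pushTri_hom_app]
  rfl


/-- relative morphisms are determined by their components -/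
lemma rel_ext (f : X ⟶ Y) {A : EtCoh.Ab Y} {B : EtCoh.Ab X} (γ γ' : A ⟶ (EtCoh.push f).obj B)
    (h : ∀ W, secMap f γ W = secMap f γ' W) : γ = γ' := by
  apply ObjectProperty.hom_ext
  ext V : 2
  exact h V.unop

lemma relComp_pre (f : X ⟶ Y) (g : Z ⟶ X) (h : Z ⟶ Y) (w : g ≫ f = h)
    {A' A : EtCoh.Ab Y} {B : EtCoh.Ab X} {C : EtCoh.Ab Z} (a : A' ⟶ A)
    (γ : A ⟶ (EtCoh.push f).obj B) (δ : B ⟶ (EtCoh.push g).obj C) :
    relComp f g h w (a ≫ γ) δ = a ≫ relComp f g h w γ δ :=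
  Category.assoc _ _ _

lemma relComp_mid (f : X ⟶ Y) (g : Z ⟶ X) (h : Z ⟶ Y) (w : g ≫ f = h)
    {A : EtCoh.Ab Y} {B B' : EtCoh.Ab X} {C : EtCoh.Ab Z}
    (γ : A ⟶ (EtCoh.push f).obj B) (b : B ⟶ B') (δ : B' ⟶ (EtCoh.push g).obj C) :
    relComp f g h w (γ ≫ (EtCoh.push f).map b) δ = relComp f g h w γ (b ≫ δ) := by
  unfold relComp
  rw [Functor.map_comp, Category.assoc, Category.assoc]

lemma relComp_post (f : X ⟶ Y) (g : Z ⟶ X) (h : Z ⟶ Y) (w : g ≫ f = h)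
    {A : EtCoh.Ab Y} {B : EtCoh.Ab X} {C C' : EtCoh.Ab Z}
    (γ : A ⟶ (EtCoh.push f).obj B) (δ : B ⟶ (EtCoh.push g).obj C) (c : C ⟶ C') :
    relComp f g h w γ (δ ≫ (EtCoh.push g).map c) =
      relComp f g h w γ δ ≫ (EtCoh.push h).map c := by
  unfold relComp
  have := (pushTri f g h w).hom.naturality c
  rw [Functor.map_comp, Category.assoc, Category.assoc, Category.assoc]
  congr 2

/-- associativity of the composition of relative morphisms -/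
theorem relComp_assoc {X₀ X₁ X₂ X₃ : Scheme.{u}} (f₁ : X₁ ⟶ X₀) (f₂ : X₂ ⟶ X₁) (f₃ : X₃ ⟶ X₂)
    (f₁₂ : X₂ ⟶ X₀) (f₂₃ : X₃ ⟶ X₁) (f₁₂₃ : X₃ ⟶ X₀) (w₁₂ : f₂ ≫ f₁ = f₁₂) (w₂₃ : f₃ ≫ f₂ = f₂₃)
    (w : f₃ ≫ f₁₂ = f₁₂₃) (w' : f₂₃ ≫ f₁ = f₁₂₃)
    {A₀ : EtCoh.Ab X₀} {A₁ : EtCoh.Ab X₁} {A₂ : EtCoh.Ab X₂} {A₃ : EtCoh.Ab X₃}
    (γ : A₀ ⟶ (EtCoh.push f₁).obj A₁) (δ : A₁ ⟶ (EtCoh.push f₂).obj A₂)
    (ε : A₂ ⟶ (EtCoh.push f₃).obj A₃) :
    relComp f₁₂ f₃ f₁₂₃ w (relComp f₁ f₂ f₁₂ w₁₂ γ δ) ε =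
      relComp f₁ f₂₃ f₁₂₃ w' γ (relComp f₂ f₃ f₂₃ w₂₃ δ ε) := by
  apply rel_ext
  intro W
  rw [relComp_sec, relComp_sec, relComp_sec, relComp_sec]
  have hnat := secMap_naturality f₃ ε ((triIso f₂ f₁ f₁₂ w₁₂).inv.app W)
  have hpent := triIso_pentagon f₁ f₂ f₃ f₁₂ f₂₃ f₁₂₃ w₁₂ w₂₃ w w' W
  simp only [Category.assoc]
  congr 2
  rw [reassoc_of% hnat, ← A₃.obj.map_comp, ← A₃.obj.map_comp, ← op_comp, ← op_comp, hpent]

/-- the identity as a relative morphism over a morphism equal to the identity -/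
noncomputable def relId (f : X ⟶ X) (hf : f = 𝟙 X) (B : EtCoh.Ab X) :
    B ⟶ (EtCoh.push f).obj B :=
  ObjectProperty.homMk
    { app := fun W => B.obj.map (prE f hf W.unop).op
      naturality := fun W W' k => by
        change B.obj.map k ≫ B.obj.map (prE f hf W'.unop).op =
          B.obj.map (prE f hf W.unop).op ≫ B.obj.map ((EtCoh.bc f).map k.unop).op
        rw [← B.obj.map_comp, ← B.obj.map_comp]
        congr 1
        have := prE_natural f hf k.unop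
        exact congrArg Quiver.Hom.op this.symm }

lemma relId_sec (f : X ⟶ X) (hf : f = 𝟙 X) (B : EtCoh.Ab X) (W : X.Etale) :
    secMap f (relId f hf B) W = B.obj.map (prE f hf W).op := rfl

theorem relComp_relId_left (f : X ⟶ X) (hf : f = 𝟙 X) (g : Z ⟶ X) (w : g ≫ f = g)
    {B : EtCoh.Ab X} {C : EtCoh.Ab Z} (δ : B ⟶ (EtCoh.push g).obj C) :
    relComp f g g w (relId f hf B) δ = δ := by
  apply rel_ext
  intro W
  rw [relComp_sec, relId_sec]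
  have hnat := secMap_naturality g δ (prE f hf W)
  rw [reassoc_of% hnat, ← C.obj.map_comp, ← op_comp, triIso_inv_prE_left]
  erw [C.obj.map_id]
  exact Category.comp_id _

theorem relComp_relId_right (f : X ⟶ Y) (g : X ⟶ X) (hg : g = 𝟙 X) (w : g ≫ f = f)
    {A : EtCoh.Ab Y} {B : EtCoh.Ab X} (γ : A ⟶ (EtCoh.push f).obj B) :
    relComp f g f w γ (relId g hg B) = γ := by
  apply rel_ext
  intro W
  rw [relComp_sec, relId_sec, ← B.obj.map_comp, ← op_comp, triIso_inv_prE_right]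
  erw [B.obj.map_id]
  exact Category.comp_id _

end Groth.Agent.Lib.Helper27.EtLimB
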