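import Groth.Agent.Lib.Helper27.EtLimB
import Groth.Agent.Lib.Helper23.HpullComp

/-!
# Cohomology maps attached to relative morphisms (helper27)
-/

set_option autoImplicit false
set_option backward.isDefEq.respectTransparency false
set_option backward.isDefEq.respectTransparency.types false

universe u

open CategoryTheory CategoryTheory.Limits AlgebraicGeometry Opposite Abelian

namespace Groth.Agent.Lib.Helper27.EtLimC

open Groth.Agent.Lib.Helper27.EtLimA Groth.Agent.Lib.Helper27.EtLimB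
  Groth.Agent.Lib.Helper23.FinBC0 Groth.Agent.Lib.Helper23.HpullNat
  Groth.Agent.Lib.Helper23.HpullComp Groth.Agent.Lib.Helper23.HofPushBC

variable {X Y Z : Scheme.{u}}

/-- the adjoint of a relative morphism -/
noncomputable def toPull (f : X ⟶ Y) {A : EtCoh.Ab Y} {B : EtCoh.Ab X}
    (γ : A ⟶ (EtCoh.push f).obj B) : (EtCoh.pull f).obj A ⟶ B :=
  ((EtCoh.pullPushAdj f).homEquiv A B).symm γ

/-- the relative morphism adjoint to a morphism out of a pullback -/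
noncomputable def ofPull (f : X ⟶ Y) {A : EtCoh.Ab Y} {B : EtCoh.Ab X}
    (α : (EtCoh.pull f).obj A ⟶ B) : A ⟶ (EtCoh.push f).obj B :=
  (EtCoh.pullPushAdj f).homEquiv A B α

@[simp] lemma toPull_ofPull (f : X ⟶ Y) {A : EtCoh.Ab Y} {B : EtCoh.Ab X}
    (α : (EtCoh.pull f).obj A ⟶ B) : toPull f (ofPull f α) = α :=
  ((EtCoh.pullPushAdj f).homEquiv A B).symm_apply_apply α

@[simp] lemma ofPull_toPull (f : X ⟶ Y) {A : EtCoh.Ab Y} {B : EtCoh.Ab X}
    (γ : A ⟶ (EtCoh.push f).obj B) : ofPull f (toPull f γ) = γ :=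
  ((EtCoh.pullPushAdj f).homEquiv A B).apply_symm_apply γ

lemma ofPull_eq (f : X ⟶ Y) {A : EtCoh.Ab Y} {B : EtCoh.Ab X}
    (α : (EtCoh.pull f).obj A ⟶ B) :
    ofPull f α = unitG f A ≫ (EtCoh.push f).map α := rfl

lemma toPull_pre (f : X ⟶ Y) {A' A : EtCoh.Ab Y} {B : EtCoh.Ab X} (a : A' ⟶ A)
    (γ : A ⟶ (EtCoh.push f).obj B) : toPull f (a ≫ γ) = (EtCoh.pull f).map a ≫ toPull f γ :=
  Adjunction.homEquiv_naturality_left_symm _ _ _

lemma toPull_post (f : X ⟶ Y) {A : EtCoh.Ab Y} {B B' : EtCoh.Ab X}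
    (γ : A ⟶ (EtCoh.push f).obj B) (b : B ⟶ B') :
    toPull f (γ ≫ (EtCoh.push f).map b) = toPull f γ ≫ b :=
  Adjunction.homEquiv_naturality_right_symm _ _ _

lemma toPull_unitG (f : X ⟶ Y) (A : EtCoh.Ab Y) : toPull f (unitG f A) = 𝟙 _ := by
  have : unitG f A = ofPull f (𝟙 _) := by
    rw [ofPull_eq, (EtCoh.push f).map_id]; exact (Category.comp_id _).symm
  rw [this, toPull_ofPull]

lemma unitG_toPull (f : X ⟶ Y) {A : EtCoh.Ab Y} {B : EtCoh.Ab X}
    (γ : A ⟶ (EtCoh.push f).obj B) : unitG f A ≫ (EtCoh.push f).map (toPull f γ) = γ := by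
  have := ofPull_eq f (toPull f γ)
  rw [ofPull_toPull] at this
  exact this.symm

/-- the adjoint of a composite of relative morphisms -/
theorem toPull_relComp (f : X ⟶ Y) (g : Z ⟶ X) (h : Z ⟶ Y) (w : g ≫ f = h)
    {A : EtCoh.Ab Y} {B : EtCoh.Ab X} {C : EtCoh.Ab Z}
    (γ : A ⟶ (EtCoh.push f).obj B) (δ : B ⟶ (EtCoh.push g).obj C) :
    toPull h (relComp f g h w γ δ) =
      ((EtCore.pullComp g f).symm ≪≫ EtCore.pullCongr w).inv.app A ≫
        (EtCoh.pull g).map (toPull f γ) ≫ toPull g δ := by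
  subst w
  apply ((EtCoh.pullPushAdj (g ≫ f)).homEquiv A C).injective
  change ofPull (g ≫ f) (toPull (g ≫ f) _) = ofPull (g ≫ f) _
  rw [ofPull_toPull, ofPull_eq]
  have e0 : ((EtCore.pullComp g f).symm ≪≫ EtCore.pullCongr (rfl : g ≫ f = g ≫ f)).inv.app A =
      (EtCore.pullComp g f).hom.app A := by
    change 𝟙 _ ≫ (EtCore.pullComp g f).hom.app A = _
    exact Category.id_comp _
  rw [e0]
  symm
  have h1 : unitG (g ≫ f) A ≫ (EtCoh.push (g ≫ f)).map ((EtCore.pullComp g f).hom.app A) =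
      unitG f A ≫ (EtCoh.push f).map (unitG g ((EtCoh.pull f).obj A)) ≫
        (EtCoh.pushComp f g).hom.app ((EtCoh.pull g).obj ((EtCoh.pull f).obj A)) :=
    unit_pullComp g f A
  have h2 : (EtCoh.pushComp f g).hom.app ((EtCoh.pull g).obj ((EtCoh.pull f).obj A)) ≫
      (EtCoh.push (g ≫ f)).map ((EtCoh.pull g).map (toPull f γ) ≫ toPull g δ) =
      (EtCoh.push f).map ((EtCoh.push g).map ((EtCoh.pull g).map (toPull f γ) ≫ toPull g δ)) ≫
        (EtCoh.pushComp f g).hom.app C :=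
    ((EtCoh.pushComp f g).hom.naturality _).symm
  have h3 : unitG g ((EtCoh.pull f).obj A) ≫
      (EtCoh.push g).map ((EtCoh.pull g).map (toPull f γ) ≫ toPull g δ) =
      toPull f γ ≫ δ := by
    rw [(EtCoh.push g).map_comp, ← Category.assoc]
    have hn : toPull f γ ≫ unitG g B =
        unitG g ((EtCoh.pull f).obj A) ≫ (EtCoh.push g).map ((EtCoh.pull g).map (toPull f γ)) :=
      (EtCoh.pullPushAdj g).unit.naturality (toPull f γ)
    rw [← hn, Category.assoc, unitG_toPull]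
  have h6 : (pushTri f g (g ≫ f) rfl).hom.app C = (EtCoh.pushComp f g).hom.app C := by
    change (EtCoh.pushComp f g).hom.app C ≫ (EtCoh.pushCongr rfl).hom.app C = _
    rw [pushCongr_rfl_app]
    exact Category.comp_id _
  calc unitG (g ≫ f) A ≫ (EtCoh.push (g ≫ f)).map ((EtCore.pullComp g f).hom.app A ≫
          (EtCoh.pull g).map (toPull f γ) ≫ toPull g δ)
      = (unitG (g ≫ f) A ≫ (EtCoh.push (g ≫ f)).map ((EtCore.pullComp g f).hom.app A)) ≫
          (EtCoh.push (g ≫ f)).map ((EtCoh.pull g).map (toPull f γ) ≫ toPull g δ) := by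
        rw [(EtCoh.push (g ≫ f)).map_comp, Category.assoc]
    _ = unitG f A ≫ (EtCoh.push f).map (unitG g ((EtCoh.pull f).obj A)) ≫
          (EtCoh.push f).map ((EtCoh.push g).map ((EtCoh.pull g).map (toPull f γ) ≫ toPull g δ)) ≫
            (EtCoh.pushComp f g).hom.app C := by
        rw [h1, Category.assoc, Category.assoc, h2]
    _ = unitG f A ≫ (EtCoh.push f).map (toPull f γ ≫ δ) ≫ (EtCoh.pushComp f g).hom.app C := by
        rw [← Category.assoc ((EtCoh.push f).map _), ← (EtCoh.push f).map_comp, h3]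
    _ = relComp f g (g ≫ f) rfl γ δ := by
        unfold relComp
        rw [h6, (EtCoh.push f).map_comp, Category.assoc, ← Category.assoc (unitG f A),
          unitG_toPull]


/-- a commutative square of relative morphisms gives a commutative square of adjoints -/
lemma toPull_comm (f : X ⟶ Y) {A A' : EtCoh.Ab Y} {B B' : EtCoh.Ab X}
    (γ : A ⟶ (EtCoh.push f).obj B) (γ' : A' ⟶ (EtCoh.push f).obj B') (a : A ⟶ A') (b : B ⟶ B')
    (h : γ ≫ (EtCoh.push f).map b = a ≫ γ') :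
    toPull f γ ≫ b = (EtCoh.pull f).map a ≫ toPull f γ' := by
  rw [← toPull_post, ← toPull_pre, h]

/-- the map on cohomology induced by a relative morphism -/
noncomputable def Hrel (f : X ⟶ Y) {A : EtCoh.Ab Y} {B : EtCoh.Ab X}
    (γ : A ⟶ (EtCoh.push f).obj B) (n : ℕ) : EtCoh.H Y A n →+ EtCoh.H X B n :=
  EtLim.HpullThen f A (toPull f γ) n

lemma Hrel_apply (f : X ⟶ Y) {A : EtCoh.Ab Y} {B : EtCoh.Ab X}
    (γ : A ⟶ (EtCoh.push f).obj B) (n : ℕ) (x : EtCoh.H Y A n) :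
    Hrel f γ n x = (EtCore.Hpull f A n x).comp (Ext.mk₀ (toPull f γ)) (add_zero n) := rfl

lemma HpullThen_apply (f : X ⟶ Y) (A : EtCoh.Ab Y) {B : EtCoh.Ab X}
    (α : (EtCoh.pull f).obj A ⟶ B) (n : ℕ) (x : EtCoh.H Y A n) :
    EtLim.HpullThen f A α n x = (EtCore.Hpull f A n x).comp (Ext.mk₀ α) (add_zero n) := rfl

lemma Hrel_ofPull (f : X ⟶ Y) (A : EtCoh.Ab Y) {B : EtCoh.Ab X}
    (α : (EtCoh.pull f).obj A ⟶ B) (n : ℕ) :
    Hrel f (ofPull f α) n = EtLim.HpullThen f A α n := by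
  unfold Hrel
  rw [toPull_ofPull]

lemma Hrel_pre (f : X ⟶ Y) {A' A : EtCoh.Ab Y} {B : EtCoh.Ab X} (a : A' ⟶ A)
    (γ : A ⟶ (EtCoh.push f).obj B) (n : ℕ) (x : EtCoh.H Y A' n) :
    Hrel f (a ≫ γ) n x = Hrel f γ n (x.comp (Ext.mk₀ a) (add_zero n)) := by
  rw [Hrel_apply, Hrel_apply, toPull_pre, Hpull_comp_mk₀, Ext.comp_assoc_of_third_deg_zero,
    Ext.mk₀_comp_mk₀]

lemma Hrel_post (f : X ⟶ Y) {A : EtCoh.Ab Y} {B B' : EtCoh.Ab X}
    (γ : A ⟶ (EtCoh.push f).obj B) (b : B ⟶ B') (n : ℕ) (x : EtCoh.H Y A n) :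
    Hrel f (γ ≫ (EtCoh.push f).map b) n x = (Hrel f γ n x).comp (Ext.mk₀ b) (add_zero n) := by
  rw [Hrel_apply, Hrel_apply, toPull_post, Ext.comp_assoc_of_third_deg_zero, Ext.mk₀_comp_mk₀]

/-- compatibility with connecting homomorphisms -/
theorem HpullThen_extClass (f : X ⟶ Y) {S : ShortComplex (EtCoh.Ab Y)} (hS : S.ShortExact)
    {S' : ShortComplex (EtCoh.Ab X)} (hS' : S'.ShortExact) (φ : S.map (EtCoh.pull f) ⟶ S')
    (n : ℕ) (x : EtCoh.H Y S.X₃ n) :
    EtLim.HpullThen f S.X₁ φ.τ₁ (n + 1) (x.comp hS.extClass rfl) =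
      (EtLim.HpullThen f S.X₃ φ.τ₃ n x).comp hS'.extClass rfl := by
  rw [HpullThen_apply, HpullThen_apply, Hpull_comp_extClass f hS n (n + 1) rfl,
    Ext.comp_assoc_of_third_deg_zero, Ext.comp_assoc_of_second_deg_zero]
  congr 1
  exact ShortComplex.ShortExact.extClass_naturality (hS.map_of_exact (EtCoh.pull f)) hS' φ

/-- transitivity -/
theorem Hrel_relComp (f : X ⟶ Y) (g : Z ⟶ X) (h : Z ⟶ Y) (w : g ≫ f = h)
    {A : EtCoh.Ab Y} {B : EtCoh.Ab X} {C : EtCoh.Ab Z}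
    (γ : A ⟶ (EtCoh.push f).obj B) (δ : B ⟶ (EtCoh.push g).obj C) (n : ℕ) (x : EtCoh.H Y A n) :
    Hrel h (relComp f g h w γ δ) n x = Hrel g δ n (Hrel f γ n x) := by
  have hv := HpullVia_Hpull g f h w A n x
  have hv' : EtCore.HpullVia g f h w A n (EtCore.Hpull f A n x) =
      (EtCore.Hpull g _ n (EtCore.Hpull f A n x)).comp
        (Ext.mk₀ (((EtCore.pullComp g f).symm ≪≫ EtCore.pullCongr w).hom.app A)) (add_zero n) := rfl
  rw [Hrel_apply, toPull_relComp, ← hv, hv', Ext.comp_assoc_of_third_deg_zero, Ext.mk₀_comp_mk₀,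
    ← Category.assoc, Iso.hom_inv_id_app]
  erw [Category.id_comp]
  rw [Hrel_apply, Hrel_apply, Hpull_comp_mk₀, Ext.comp_assoc_of_third_deg_zero, Ext.mk₀_comp_mk₀]

end Groth.Agent.Lib.Helper27.EtLimC
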