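import Groth.Agent.Lib.Helper27.EtLimC

/-!
# Systems of abelian étale sheaves over an inverse system of schemes (helper27)
-/

set_option autoImplicit false
set_option backward.isDefEq.respectTransparency false
set_option backward.isDefEq.respectTransparency.types false

universe u

open CategoryTheory CategoryTheory.Limits AlgebraicGeometry Opposite Abelian

namespace Groth.Agent.Lib.Helper27.EtLimD

open Groth.Agent.Lib.Helper27.EtLimA Groth.Agent.Lib.Helper27.EtLimB
  Groth.Agent.Lib.Helper27.EtLimC Groth.Agent.Lib.Helper23.FinBC0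

variable {ι : Type u} [Preorder ι] (Xs : ιᵒᵖ ⥤ Scheme.{u})

/-- the transition morphisms -/
abbrev tr {j k : ι} (h : j ≤ k) : Xs.obj (op k) ⟶ Xs.obj (op j) := Xs.map (homOfLE h).op

lemma tr_comp {j k m : ι} (h1 : j ≤ k) (h2 : k ≤ m) :
    tr Xs h2 ≫ tr Xs h1 = tr Xs (h1.trans h2) := by
  unfold tr
  rw [← Xs.map_comp]
  rfl

lemma tr_refl (j : ι) : tr Xs (le_refl j) = 𝟙 _ := by
  have : (homOfLE (le_refl j)).op = 𝟙 (op j) := rfl
  unfold tr
  rw [this, Xs.map_id]

lemma relId_natural {X : Scheme.{u}} (f : X ⟶ X) (hf : f = 𝟙 X) {B B' : EtCoh.Ab X} (b : B ⟶ B') :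
    relId f hf B ≫ (EtCoh.push f).map b = b ≫ relId f hf B' := by
  apply rel_ext
  intro W
  rw [secMap_comp, secMap_comp', relId_sec, relId_sec]
  exact b.hom.naturality (prE f hf W).op

/-- a compatible system of abelian sheaves, written with direct images -/
structure Sys where
  /-- the sheaves -/
  F : ∀ j : ι, EtCoh.Ab (Xs.obj (op j))
  /-- the transition morphisms -/
  τ : ∀ {j k : ι} (h : j ≤ k), F j ⟶ (EtCoh.push (tr Xs h)).obj (F k)
  τ_refl : ∀ j : ι, τ (le_refl j) = relId (tr Xs (le_refl j)) (tr_refl Xs j) (F j)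
  τ_trans : ∀ {j k m : ι} (h1 : j ≤ k) (h2 : k ≤ m),
    relComp (tr Xs h1) (tr Xs h2) (tr Xs (h1.trans h2)) (tr_comp Xs h1 h2) (τ h1) (τ h2) =
      τ (h1.trans h2)

variable {Xs}

/-- morphisms of systems -/
structure Sys.Hom (S S' : Sys Xs) where
  /-- the components -/
  f : ∀ j : ι, S.F j ⟶ S'.F j
  comm : ∀ {j k : ι} (h : j ≤ k),
    S.τ h ≫ (EtCoh.push (tr Xs h)).map (f k) = f j ≫ S'.τ h

section Cone

variable (c : Cone Xs)

/-- the projections of the cone -/
abbrev pr (j : ι) : c.pt ⟶ Xs.obj (op j) := c.π.app (op j)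

lemma pr_tr {j k : ι} (h : j ≤ k) : pr c k ≫ tr Xs h = pr c j := c.w (homOfLE h).op

variable (S : Sys Xs)

/-- the relative morphism from a member to the pullback of a later member -/
noncomputable def Sys.σ {j k : ι} (h : j ≤ k) :
    S.F j ⟶ (EtCoh.push (pr c j)).obj ((EtCoh.pull (pr c k)).obj (S.F k)) :=
  relComp (tr Xs h) (pr c k) (pr c j) (pr_tr c h) (S.τ h) (unitG (pr c k) (S.F k))

lemma Sys.σ_refl (j : ι) : S.σ c (le_refl j) = unitG (pr c j) (S.F j) := by
  unfold Sys.σ
  rw [S.τ_refl, relComp_relId_left]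

lemma Sys.σ_trans {j k m : ι} (h1 : j ≤ k) (h2 : k ≤ m) :
    S.σ c h1 ≫ (EtCoh.push (pr c j)).map (toPull (pr c k) (S.σ c h2)) =
      S.σ c (h1.trans h2) := by
  unfold Sys.σ
  rw [← relComp_post, unitG_toPull,
    ← relComp_assoc (tr Xs h1) (tr Xs h2) (pr c m) (tr Xs (h1.trans h2)) (pr c k) (pr c j)
      (tr_comp Xs h1 h2) (pr_tr c h2) (pr_tr c (h1.trans h2)) (pr_tr c h1),
    S.τ_trans]

/-- the diagram of pullbacks to the vertex of the cone -/
noncomputable def Sys.G : ι ⥤ EtCoh.Ab c.pt where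
  obj j := (EtCoh.pull (pr c j)).obj (S.F j)
  map {j k} h := toPull (pr c j) (S.σ c (leOfHom h))
  map_id j := by
    change toPull (pr c j) (S.σ c (le_refl j)) = _
    rw [S.σ_refl, toPull_unitG]
  map_comp {j k m} h1 h2 := by
    change toPull (pr c j) (S.σ c ((leOfHom h1).trans (leOfHom h2))) = _
    rw [← S.σ_trans c (leOfHom h1) (leOfHom h2), toPull_post]

lemma Sys.G_map {j k : ι} (h : j ≤ k) :
    (S.G c).map (homOfLE h) = toPull (pr c j) (S.σ c h) := rfl

/-- the relative morphisms to the vertex of a cocone -/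
noncomputable def Sys.θ (cc : Cocone (S.G c)) (j : ι) :
    S.F j ⟶ (EtCoh.push (pr c j)).obj cc.pt :=
  ofPull (pr c j) (cc.ι.app j)

lemma Sys.toPull_θ (cc : Cocone (S.G c)) (j : ι) : toPull (pr c j) (S.θ c cc j) = cc.ι.app j :=
  toPull_ofPull _ _

lemma Sys.θ_eq (cc : Cocone (S.G c)) (j : ι) :
    S.θ c cc j = unitG (pr c j) (S.F j) ≫ (EtCoh.push (pr c j)).map (cc.ι.app j) := rfl

lemma Sys.τ_θ (cc : Cocone (S.G c)) {j k : ι} (h : j ≤ k) :
    relComp (tr Xs h) (pr c k) (pr c j) (pr_tr c h) (S.τ h) (S.θ c cc k) = S.θ c cc j := by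
  rw [S.θ_eq, relComp_post]
  change S.σ c h ≫ _ = _
  rw [← unitG_toPull (pr c j) (S.σ c h), Category.assoc, ← (EtCoh.push (pr c j)).map_comp,
    ← S.G_map c h, cc.w, S.θ_eq]

end Cone


section Functoriality

variable (c : Cone Xs) {S S' R : Sys Xs}

/-- the natural transformation induced by a morphism of systems -/
noncomputable def Sys.Hom.nat (a : Sys.Hom S S') : S.G c ⟶ S'.G c where
  app j := (EtCoh.pull (pr c j)).map (a.f j)
  naturality {j k} h := by
    change toPull (pr c j) (S.σ c _) ≫ _ = _ ≫ toPull (pr c j) (S'.σ c _)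
    rw [← toPull_post, ← toPull_pre]
    congr 1
    unfold Sys.σ
    rw [← relComp_post, ← relComp_pre, ← a.comm, relComp_mid]
    congr 1
    exact ((EtCoh.pullPushAdj (pr c k)).unit.naturality (a.f k)).symm

/-- the cokernel of a morphism of systems -/
noncomputable def Sys.coker (a : Sys.Hom S R) : Sys Xs where
  F j := cokernel (a.f j)
  τ {j k} h := cokernel.desc (a.f j)
    (R.τ h ≫ (EtCoh.push (tr Xs h)).map (cokernel.π (a.f k))) (by
      rw [← Category.assoc, ← a.comm, Category.assoc, ← (EtCoh.push (tr Xs h)).map_comp,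
        cokernel.condition, (EtCoh.push (tr Xs h)).map_zero, comp_zero])
  τ_refl j := by
    rw [← cancel_epi (cokernel.π (a.f j)), cokernel.π_desc, R.τ_refl, relId_natural]
  τ_trans {j k m} h1 h2 := by
    rw [← cancel_epi (cokernel.π (a.f j)), cokernel.π_desc, ← relComp_pre, cokernel.π_desc,
      relComp_mid, cokernel.π_desc, relComp_post, R.τ_trans]

/-- the projection to the cokernel -/
noncomputable def Sys.cokerπ (a : Sys.Hom S R) : Sys.Hom R (Sys.coker a) where
  f j := cokernel.π (a.f j)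
  comm {j k} h := (cokernel.π_desc _ _ _).symm

end Functoriality

theorem shortExact_of_forall {J : Type*} [Category J] {𝒜 : Type*} [Category 𝒜] [Abelian 𝒜]
    (S : ShortComplex (J ⥤ 𝒜))
    (h : ∀ j, (S.map ((evaluation J 𝒜).obj j)).ShortExact) : S.ShortExact where
  exact := by
    rw [S.exact_iff_isZero_homology, Functor.isZero_iff]
    intro j
    have := (h j).exact
    rw [ShortComplex.exact_iff_isZero_homology] at this
    exact this.of_iso (S.mapHomologyIso ((evaluation J 𝒜).obj j)).symm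
  mono_f := by
    have : ∀ j, Mono (S.f.app j) := fun j => (h j).mono_f
    exact NatTrans.mono_of_mono_app _
  epi_g := by
    have : ∀ j, Epi (S.g.app j) := fun j => (h j).epi_g
    exact NatTrans.epi_of_epi_app _

section SES

variable (c : Cone Xs) {S R : Sys Xs} (a : Sys.Hom S R)

/-- the stagewise sequences -/
noncomputable abbrev Sys.Hom.stage (j : ι) : ShortComplex (EtCoh.Ab (Xs.obj (op j))) :=
  ShortComplex.mk (a.f j) (cokernel.π (a.f j)) (cokernel.condition _)

theorem Sys.Hom.stage_shortExact [∀ j, Mono (a.f j)] (j : ι) : (a.stage j).ShortExact where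
  exact := ShortComplex.exact_cokernel _
  mono_f := inferInstanceAs (Mono (a.f j))
  epi_g := inferInstanceAs (Epi (cokernel.π (a.f j)))

/-- the sequence of diagrams on the vertex of the cone -/
noncomputable def Sys.Hom.sesG : ShortComplex (ι ⥤ EtCoh.Ab c.pt) :=
  ShortComplex.mk (a.nat c) ((Sys.cokerπ a).nat c) (by
    apply NatTrans.ext
    funext j
    change (EtCoh.pull (pr c j)).map (a.f j) ≫ (EtCoh.pull (pr c j)).map (cokernel.π (a.f j)) = 0
    rw [← (EtCoh.pull (pr c j)).map_comp, cokernel.condition, (EtCoh.pull (pr c j)).map_zero])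

theorem Sys.Hom.sesG_shortExact [∀ j, Mono (a.f j)] : (a.sesG c).ShortExact := by
  apply shortExact_of_forall
  intro j
  exact (a.stage_shortExact j).map_of_exact (EtCoh.pull (pr c j))

end SES

end Groth.Agent.Lib.Helper27.EtLimD
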