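import Groth.Agent.Lib.Helper27.EtLimD

/-!
# The cofree system of injective sheaves containing a system (helper27)
-/

set_option autoImplicit false
set_option backward.isDefEq.respectTransparency false
set_option backward.isDefEq.respectTransparency.types false

universe u

open CategoryTheory CategoryTheory.Limits AlgebraicGeometry Opposite Abelian

namespace Groth.Agent.Lib.Helper27.EtLimE

open Groth.Agent.Lib.Helper27.EtLimA Groth.Agent.Lib.Helper27.EtLimB
  Groth.Agent.Lib.Helper27.EtLimC Groth.Agent.Lib.Helper27.EtLimD Groth.Agent.Lib.Helper23.FinBC0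
  Groth.Agent.Lib.Helper23.HpullComp

section Pentagon

variable {X₀ X₁ X₂ X₃ : Scheme.{u}} (f₁ : X₁ ⟶ X₀) (f₂ : X₂ ⟶ X₁) (f₃ : X₃ ⟶ X₂)
    (f₁₂ : X₂ ⟶ X₀) (f₂₃ : X₃ ⟶ X₁) (f₁₂₃ : X₃ ⟶ X₀) (w₁₂ : f₂ ≫ f₁ = f₁₂) (w₂₃ : f₃ ≫ f₂ = f₂₃)
    (w : f₃ ≫ f₁₂ = f₁₂₃) (w' : f₂₃ ≫ f₁ = f₁₂₃)

theorem pushTri_pentagon (C : EtCoh.Ab X₃) :
    (pushTri f₁ f₂ f₁₂ w₁₂).hom.app ((EtCoh.push f₃).obj C) ≫ (pushTri f₁₂ f₃ f₁₂₃ w).hom.app C =
      (EtCoh.push f₁).map ((pushTri f₂ f₃ f₂₃ w₂₃).hom.app C) ≫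
        (pushTri f₁ f₂₃ f₁₂₃ w').hom.app C := by
  have h := relComp_assoc f₁ f₂ f₃ f₁₂ f₂₃ f₁₂₃ w₁₂ w₂₃ w w'
    (𝟙 ((EtCoh.push f₁).obj ((EtCoh.push f₂).obj ((EtCoh.push f₃).obj C))))
    (𝟙 ((EtCoh.push f₂).obj ((EtCoh.push f₃).obj C))) (𝟙 ((EtCoh.push f₃).obj C))
  unfold relComp at h
  simp only [Category.id_comp, CategoryTheory.Functor.map_id] at h
  exact h

theorem relComp_pushTri_inv (C : EtCoh.Ab X₃) :
    relComp f₁ f₂ f₁₂ w₁₂ ((pushTri f₁ f₂₃ f₁₂₃ w').inv.app C) ((pushTri f₂ f₃ f₂₃ w₂₃).inv.app C) =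
      (pushTri f₁₂ f₃ f₁₂₃ w).inv.app C := by
  have h := pushTri_pentagon f₁ f₂ f₃ f₁₂ f₂₃ f₁₂₃ w₁₂ w₂₃ w w' C
  unfold relComp
  rw [← cancel_mono ((pushTri f₁₂ f₃ f₁₂₃ w).hom.app C), Category.assoc, Category.assoc, h,
    ← (EtCoh.push f₁).map_comp_assoc, Iso.inv_hom_id_app, Iso.inv_hom_id_app,
    (EtCoh.push f₁).map_id, Category.id_comp, Iso.inv_hom_id_app]

end Pentagon

theorem pushTri_inv_eq_relId {X Z : Scheme.{u}} (f : X ⟶ X) (hf : f = 𝟙 X) (g : Z ⟶ X)
    (w : g ≫ f = g) (C : EtCoh.Ab Z) :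
    (pushTri f g g w).inv.app C = relId f hf ((EtCoh.push g).obj C) := by
  have h := relComp_relId_left f hf g w (𝟙 ((EtCoh.push g).obj C))
  unfold relComp at h
  rw [(EtCoh.push f).map_id, Category.id_comp] at h
  rw [← cancel_mono ((pushTri f g g w).hom.app C), Iso.inv_hom_id_app, h]

/-- the inverse of the projection `W ×_X X ⟶ W` -/
noncomputable def prEinv {X : Scheme.{u}} (f : X ⟶ X) (hf : f = 𝟙 X) (W : X.Etale) :
    W ⟶ (EtCoh.bc f).obj W :=
  bcLift f W W (𝟙 _) (by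
    subst hf
    exact (Category.id_comp _).trans (Category.comp_id _).symm)

lemma prEinv_prE {X : Scheme.{u}} (f : X ⟶ X) (hf : f = 𝟙 X) (W : X.Etale) :
    prEinv f hf W ≫ prE f hf W = 𝟙 W := by
  apply MorphismProperty.Over.Hom.ext
  rw [comp_left', prE_left]
  exact bcLift_prL _ _ _ _ _

instance mono_relId {X : Scheme.{u}} (f : X ⟶ X) (hf : f = 𝟙 X) (B : EtCoh.Ab X) :
    Mono (relId f hf B) := by
  have : Mono (relId f hf B).hom := by
    have : ∀ W, Mono ((relId f hf B).hom.app W) := by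
      intro W
      have h1 : (relId f hf B).hom.app W ≫ B.obj.map (prEinv f hf W.unop).op = 𝟙 _ := by
        change B.obj.map (prE f hf W.unop).op ≫ B.obj.map (prEinv f hf W.unop).op = 𝟙 _
        rw [← B.obj.map_comp, ← op_comp, prEinv_prE]
        exact B.obj.map_id _
      exact (SplitMono.mk _ h1).mono
    exact NatTrans.mono_of_mono_app _
  exact Sheaf.Hom.mono_of_presheaf_mono _ _ _


section Cofree

variable {ι : Type u} [Preorder ι] {Xs : ιᵒᵖ ⥤ Scheme.{u}} (S : Sys Xs)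

/-- the later stages -/
abbrev Later (j : ι) : Type u := {k : ι // j ≤ k}

/-- an injective sheaf containing a member of the system -/
noncomputable abbrev inj (k : ι) : EtCoh.Ab (Xs.obj (op k)) := Injective.under (S.F k)

/-- the factors of the cofree system -/
noncomputable abbrev fac (j : ι) (k : Later j) : EtCoh.Ab (Xs.obj (op j)) :=
  (EtCoh.push (tr Xs k.2)).obj (inj S k.1)

instance (j : ι) (k : Later j) : Injective (fac S j k) :=
  Injective.injective_of_adjoint (EtCoh.pullPushAdj (tr Xs k.2)) (inj S k.1)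

/-- the members of the cofree system -/
noncomputable abbrev cofreeF (j : ι) : EtCoh.Ab (Xs.obj (op j)) := ∏ᶜ (fac S j)

instance (j : ι) : Injective (cofreeF S j) := inferInstance

/-- the later stage seen from an earlier one -/
abbrev Later.trans {j m : ι} (h : j ≤ m) (k : Later m) : Later j := ⟨k.1, h.trans k.2⟩

/-- the canonical isomorphism used for the transition maps -/
noncomputable abbrev cofT {j m : ι} (h : j ≤ m) (k : Later m) :
    EtCoh.push (tr Xs k.2) ⋙ EtCoh.push (tr Xs h) ≅ EtCoh.push (tr Xs (h.trans k.2)) :=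
  pushTri (tr Xs h) (tr Xs k.2) (tr Xs (h.trans k.2)) (tr_comp Xs h k.2)

/-- the transition maps of the cofree system -/
noncomputable def cofreeτ {j m : ι} (h : j ≤ m) :
    cofreeF S j ⟶ (EtCoh.push (tr Xs h)).obj (cofreeF S m) :=
  ofPull (tr Xs h) (Pi.lift (fun k : Later m =>
    toPull (tr Xs h) (Pi.π (fac S j) (k.trans h) ≫ (cofT h k).inv.app (inj S k.1))))

lemma cofreeτ_π {j m : ι} (h : j ≤ m) (k : Later m) :
    cofreeτ S h ≫ (EtCoh.push (tr Xs h)).map (Pi.π (fac S m) k) =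
      Pi.π (fac S j) (k.trans h) ≫ (cofT h k).inv.app (inj S k.1) := by
  unfold cofreeτ
  rw [ofPull_eq, Category.assoc, ← (EtCoh.push (tr Xs h)).map_comp, Pi.lift_π, unitG_toPull]

/-- morphisms into a direct image of a member of the cofree system are determined by their
components -/
lemma cofree_ext {j m : ι} (h : j ≤ m) {A : EtCoh.Ab (Xs.obj (op j))}
    (γ γ' : A ⟶ (EtCoh.push (tr Xs h)).obj (cofreeF S m))
    (hγ : ∀ k : Later m, γ ≫ (EtCoh.push (tr Xs h)).map (Pi.π (fac S m) k) =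
      γ' ≫ (EtCoh.push (tr Xs h)).map (Pi.π (fac S m) k)) : γ = γ' := by
  rw [← ofPull_toPull (tr Xs h) γ, ← ofPull_toPull (tr Xs h) γ']
  congr 1
  apply Pi.hom_ext
  intro k
  rw [← toPull_post, ← toPull_post, hγ k]

/-- the cofree system -/
noncomputable def cofree : Sys Xs where
  F := cofreeF S
  τ h := cofreeτ S h
  τ_refl j := by
    apply cofree_ext
    intro k
    rw [cofreeτ_π, relId_natural]
    congr 1
    exact pushTri_inv_eq_relId (tr Xs (le_refl j)) (tr_refl Xs j) (tr Xs k.2)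
      (tr_comp Xs (le_refl j) k.2) (inj S k.1)
  τ_trans {j k m} h1 h2 := by
    apply cofree_ext
    intro l
    rw [← relComp_post, cofreeτ_π, ← relComp_mid, cofreeτ_π, relComp_pre, cofreeτ_π]
    congr 1
    exact relComp_pushTri_inv (tr Xs h1) (tr Xs h2) (tr Xs l.2) (tr Xs (h1.trans h2))
      (tr Xs (h2.trans l.2)) (tr Xs ((h1.trans h2).trans l.2)) (tr_comp Xs h1 h2)
      (tr_comp Xs h2 l.2) (tr_comp Xs (h1.trans h2) l.2) (tr_comp Xs h1 (h2.trans l.2)) (inj S l.1)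

/-- the components of the embedding -/
noncomputable def embF (j : ι) : S.F j ⟶ cofreeF S j :=
  Pi.lift (fun k : Later j => S.τ k.2 ≫ (EtCoh.push (tr Xs k.2)).map (Injective.ι (S.F k.1)))

lemma embF_π (j : ι) (k : Later j) :
    embF S j ≫ Pi.π (fac S j) k =
      S.τ k.2 ≫ (EtCoh.push (tr Xs k.2)).map (Injective.ι (S.F k.1)) :=
  Pi.lift_π _ _

lemma τ_cofT_inv {j m : ι} (h : j ≤ m) (k : Later m) :
    S.τ (h.trans k.2) ≫ (cofT h k).inv.app (S.F k.1) =
      S.τ h ≫ (EtCoh.push (tr Xs h)).map (S.τ k.2) := by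
  rw [← S.τ_trans h k.2]
  unfold relComp
  rw [Category.assoc, Category.assoc, Iso.hom_inv_id_app]
  erw [Category.comp_id]

/-- the embedding of a system into its cofree system -/
noncomputable def emb : Sys.Hom S (cofree S) where
  f := embF S
  comm {j m} h := by
    apply cofree_ext
    intro k
    change (S.τ h ≫ (EtCoh.push (tr Xs h)).map (embF S m)) ≫ _ = (embF S j ≫ cofreeτ S h) ≫ _
    rw [Category.assoc, ← (EtCoh.push (tr Xs h)).map_comp, embF_π, Category.assoc, cofreeτ_π,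
      ← Category.assoc, embF_π]
    change _ = (S.τ (h.trans k.2) ≫ _) ≫ _
    have hn := (cofT h k).inv.naturality (Injective.ι (S.F k.1))
    rw [Category.assoc]
    erw [hn]
    rw [← Category.assoc, τ_cofT_inv, Category.assoc, (EtCoh.push (tr Xs h)).map_comp]
    rfl

instance (j : ι) : Mono ((emb S).f j) := by
  change Mono (embF S j)
  have h : embF S j ≫ Pi.π (fac S j) ⟨j, le_refl j⟩ =
      Injective.ι (S.F j) ≫ relId (tr Xs (le_refl j)) (tr_refl Xs j) (inj S j) := by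
    rw [embF_π]
    change S.τ (le_refl j) ≫ _ = _
    rw [S.τ_refl, relId_natural]
  have : Mono (embF S j ≫ Pi.π (fac S j) ⟨j, le_refl j⟩) := by
    rw [h]
    infer_instance
  exact mono_of_mono (embF S j) (Pi.π (fac S j) ⟨j, le_refl j⟩)

end Cofree

end Groth.Agent.Lib.Helper27.EtLimE
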