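import Groth.Agent.Lib.Helper27.EtLimG4
import Groth.Agent.Lib.Helper23.FlcConn
import Groth.Agent.Lib.Helper23.LCPull

/-!
# Sections and stalks of the limit sheaf of a system (helper27)
-/

set_option autoImplicit false
set_option backward.isDefEq.respectTransparency false
set_option backward.isDefEq.respectTransparency.types false

universe u

open CategoryTheory CategoryTheory.Limits AlgebraicGeometry Opposite GrothendieckTopology

namespace Groth.Agent.Lib.Helper27.EtLimF

open Groth.Agent.Lib.Helper27.EtLimA Groth.Agent.Lib.Helper27.EtLimB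
  Groth.Agent.Lib.Helper27.EtLimC Groth.Agent.Lib.Helper27.EtLimD Groth.Agent.Lib.Helper27.EtLimG
  Groth.Agent.Lib.Helper23.FinBC0 Groth.Agent.Lib.Helper23.FinPushFiber
  Groth.Agent.Lib.Helper23.FinPushExact

section Points

variable {X Y : Scheme.{u}} {Ω : Type u} [Field Ω] [IsSepClosed Ω]

/-- geometric points of a base change are determined by their first projection -/
lemma fiber_bc_ext (f : X ⟶ Y) (ξ : Spec (CommRingCat.of Ω) ⟶ X) (W : Y.Etale)
    (v v' : (Scheme.pointSmallEtale ξ).fiber.obj ((EtCoh.bc f).obj W))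
    (h : (v.left : Spec (CommRingCat.of Ω) ⟶ ((EtCoh.bc f).obj W).left) ≫ prL f W =
      (v'.left : Spec (CommRingCat.of Ω) ⟶ ((EtCoh.bc f).obj W).left) ≫ prL f W) : v = v' := by
  apply Over.OverMorphism.ext
  apply sch_ext (f := f) (W := W) _ _ h
  have h1 : (v.left : Spec (CommRingCat.of Ω) ⟶ ((EtCoh.bc f).obj W).left) ≫
      ((EtCoh.bc f).obj W).hom = ξ := Over.w v
  have h2 : (v'.left : Spec (CommRingCat.of Ω) ⟶ ((EtCoh.bc f).obj W).left) ≫
      ((EtCoh.bc f).obj W).hom = ξ := Over.w v'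
  exact h1.trans h2.symm

lemma fiber_map_left {V V' : X.Etale} (ξ : Spec (CommRingCat.of Ω) ⟶ X) (g : V ⟶ V')
    (v : (Scheme.pointSmallEtale ξ).fiber.obj V) :
    (((Scheme.pointSmallEtale ξ).fiber.map g v).left : Spec (CommRingCat.of Ω) ⟶ V'.left) =
      (v.left : Spec (CommRingCat.of Ω) ⟶ V.left) ≫ g.left := rfl

end Points

variable {ι : Type u} [Preorder ι] {Xs : ιᵒᵖ ⥤ Scheme.{u}} (c : Cone Xs) (S : Sys Xs)

section Sections

variable (cc : Cocone (S.G c))

/-- sections of the transition morphisms compose -/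
lemma τ_sec_trans {j k m : ι} (h1 : j ≤ k) (h2 : k ≤ m) (W : (Xs.obj (op j)).Etale) :
    secMap (tr Xs (h1.trans h2)) (S.τ (h1.trans h2)) W =
      secMap (tr Xs h1) (S.τ h1) W ≫ secMap (tr Xs h2) (S.τ h2) ((EtCoh.bc (tr Xs h1)).obj W) ≫
        (S.F m).obj.map ((scan h1 h2).inv.app W).op := by
  rw [← S.τ_trans h1 h2, relComp_sec]

/-- sections of the morphisms to the limit are compatible with the transition morphisms -/
lemma θ_sec_trans {j k : ι} (h : j ≤ k) (W : (Xs.obj (op j)).Etale) :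
    secMap (pr c j) (S.θ c cc j) W =
      secMap (tr Xs h) (S.τ h) W ≫ secMap (pr c k) (S.θ c cc k) ((EtCoh.bc (tr Xs h)).obj W) ≫
        cc.pt.obj.map ((tcan c h).inv.app W).op := by
  rw [← S.τ_θ c cc h, relComp_sec]

end Sections

section Lift

variable {Ω : Type u} [Field Ω] [IsSepClosed Ω] (ξ : Spec (CommRingCat.of Ω) ⟶ c.pt)

lemma hξ {j k : ι} (h : j ≤ k) : (ξ ≫ pr c k) ≫ tr Xs h = ξ ≫ pr c j := by
  rw [Category.assoc, pr_tr]

/-- the lift of a point through the two-step base change -/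
lemma liftpt_tcan {j k : ι} (h : j ≤ k) (W : (Xs.obj (op j)).Etale)
    (w : (Scheme.pointSmallEtale (ξ ≫ pr c j)).fiber.obj W) :
    (Scheme.pointSmallEtale ξ).fiber.map ((tcan c h).hom.app W)
      (liftpt ξ rfl ((EtCoh.bc (tr Xs h)).obj W) (liftpt (ξ ≫ pr c k) (hξ c ξ h) W w)) =
      liftpt ξ rfl W w := by
  apply fiber_bc_ext
  rw [fiber_map_left, Category.assoc, triIso_hom_prL, ← Category.assoc]
  erw [liftpt_left_fst, liftpt_left_fst, liftpt_left_fst]

end Lift

end Groth.Agent.Lib.Helper27.EtLimF
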