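import Groth.Agent.Lib.Helper27.EtLimF

/-!
# Stalks of the limit sheaf of a system (helper27)
-/

set_option autoImplicit false
set_option backward.isDefEq.respectTransparency false
set_option backward.isDefEq.respectTransparency.types false

universe u

open CategoryTheory CategoryTheory.Limits AlgebraicGeometry Opposite GrothendieckTopology

namespace Groth.Agent.Lib.Helper27.EtLimF

open Groth.Agent.Lib.Helper27.EtLimA Groth.Agent.Lib.Helper27.EtLimB
  Groth.Agent.Lib.Helper27.EtLimC Groth.Agent.Lib.Helper27.EtLimD Groth.Agent.Lib.Helper27.EtLimG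
  Groth.Agent.Lib.Helper23.FinBC0 Groth.Agent.Lib.Helper23.FinPushFiber
  Groth.Agent.Lib.Helper23.FinPushExact

section Germ

variable {X : Scheme.{u}} {Ω : Type u} [Field Ω] [IsSepClosed Ω]
  (ξ : Spec (CommRingCat.of Ω) ⟶ X) (P : X.Etaleᵒᵖ ⥤ AddCommGrpCat.{u + 1})

/-- equal germs at two objects agree on a common refinement -/
lemma germ_eq₂ (V₁ V₂ : X.Etale) (v₁ : (Scheme.pointSmallEtale ξ).fiber.obj V₁)
    (v₂ : (Scheme.pointSmallEtale ξ).fiber.obj V₂) (z₁ : P.obj (op V₁)) (z₂ : P.obj (op V₂))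
    (h : (Scheme.pointSmallEtale ξ).toPresheafFiber V₁ v₁ P z₁ =
      (Scheme.pointSmallEtale ξ).toPresheafFiber V₂ v₂ P z₂) :
    ∃ (V : X.Etale) (a : V ⟶ V₁) (b : V ⟶ V₂) (v : (Scheme.pointSmallEtale ξ).fiber.obj V),
      (Scheme.pointSmallEtale ξ).fiber.map a v = v₁ ∧
      (Scheme.pointSmallEtale ξ).fiber.map b v = v₂ ∧ P.map a.op z₁ = P.map b.op z₂ := by
  let Φ := Scheme.pointSmallEtale ξ
  let e₁ : Φ.fiber.Elements := ⟨V₁, v₁⟩
  let e₂ : Φ.fiber.Elements := ⟨V₂, v₂⟩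
  let m := IsCofiltered.min e₁ e₂
  let f₁ : m ⟶ e₁ := IsCofiltered.minToLeft e₁ e₂
  let f₂ : m ⟶ e₂ := IsCofiltered.minToRight e₁ e₂
  have h1 : Φ.toPresheafFiber m.1 m.2 P (P.map f₁.1.op z₁) = Φ.toPresheafFiber V₁ v₁ P z₁ := by
    rw [Point.toPresheafFiber_w_apply]
    have e : Φ.fiber.map f₁.1 m.2 = v₁ := f₁.2
    rw [e]
  have h2 : Φ.toPresheafFiber m.1 m.2 P (P.map f₂.1.op z₂) = Φ.toPresheafFiber V₂ v₂ P z₂ := by
    rw [Point.toPresheafFiber_w_apply]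
    have e : Φ.fiber.map f₂.1 m.2 = v₂ := f₂.2
    rw [e]
  have h3 := (h1.trans h).trans h2.symm
  obtain ⟨V, f, v, hv, hf⟩ := (Φ.toPresheafFiber_eq_iff' m.1 m.2 _ _).1 h3
  refine ⟨V, f ≫ f₁.1, f ≫ f₂.1, v, ?_, ?_, ?_⟩
  · rw [Φ.fiber.map_comp]
    change Φ.fiber.map f₁.1 (Φ.fiber.map f v) = v₁
    rw [hv]
    exact f₁.2
  · rw [Φ.fiber.map_comp]
    change Φ.fiber.map f₂.1 (Φ.fiber.map f v) = v₂
    rw [hv]
    exact f₂.2
  · rw [op_comp, op_comp, P.map_comp, P.map_comp]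
    exact hf

end Germ

end Groth.Agent.Lib.Helper27.EtLimF

namespace Groth.Agent.Lib.Helper27.EtLimF

open Groth.Agent.Lib.Helper27.EtLimA Groth.Agent.Lib.Helper27.EtLimB
  Groth.Agent.Lib.Helper27.EtLimC Groth.Agent.Lib.Helper27.EtLimD Groth.Agent.Lib.Helper27.EtLimG
  Groth.Agent.Lib.Helper23.FinBC0 Groth.Agent.Lib.Helper23.FinPushFiber
  Groth.Agent.Lib.Helper23.FinPushExact

section Stalk

variable {ι : Type u} [Preorder ι] [IsDirected ι (· ≤ ·)] [Nonempty ι] {Xs : ιᵒᵖ ⥤ Scheme.{u}}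
  (c : Cone Xs) (S : Sys Xs) (cc : Cocone (S.G c)) (hcc : IsColimit cc)
variable {Ω : Type u} [Field Ω] [IsSepClosed Ω] (ξ : Spec (CommRingCat.of Ω) ⟶ c.pt)

/-- the stalk of the limit sheaf is the colimit of the stalks -/
noncomputable def stalkIsColimit :
    IsColimit ((Scheme.pointSmallEtale ξ).sheafFiber.mapCocone cc) :=
  isColimitOfPreserves (Scheme.pointSmallEtale ξ).sheafFiber hcc

include hcc in
lemma stalk_surj
    (y : ((Scheme.pointSmallEtale ξ).presheafFiber.obj cc.pt.obj : AddCommGrpCat.{u + 1})) :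
    ∃ (k : ι) (a : ((Scheme.pointSmallEtale ξ).presheafFiber.obj ((S.G c).obj k).obj :
        AddCommGrpCat.{u + 1})),
      (Scheme.pointSmallEtale ξ).presheafFiber.map (cc.ι.app k).hom a = y :=
  Concrete.isColimit_exists_rep (S.G c ⋙ (Scheme.pointSmallEtale ξ).sheafFiber)
    (stalkIsColimit c S cc hcc ξ) y

include hcc in
lemma stalk_inj (j : ι)
    (a : ((Scheme.pointSmallEtale ξ).presheafFiber.obj ((S.G c).obj j).obj :
      AddCommGrpCat.{u + 1}))
    (h : (Scheme.pointSmallEtale ξ).presheafFiber.map (cc.ι.app j).hom a = 0) :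
    ∃ (k : ι) (hjk : j ≤ k),
      (Scheme.pointSmallEtale ξ).presheafFiber.map ((S.G c).map (homOfLE hjk)).hom a = 0 := by
  have h' : ((Scheme.pointSmallEtale ξ).sheafFiber.mapCocone cc).ι.app j a =
      ((Scheme.pointSmallEtale ξ).sheafFiber.mapCocone cc).ι.app j 0 := by
    rw [map_zero]; exact h
  obtain ⟨k, f, g, hfg⟩ := (Concrete.isColimit_rep_eq_iff_exists
    (S.G c ⋙ (Scheme.pointSmallEtale ξ).sheafFiber) (stalkIsColimit c S cc hcc ξ) a 0).1 h'
  refine ⟨k, leOfHom f, ?_⟩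
  have : (S.G c ⋙ (Scheme.pointSmallEtale ξ).sheafFiber).map g 0 = 0 := map_zero _
  rw [this] at hfg
  exact hfg

end Stalk

end Groth.Agent.Lib.Helper27.EtLimF
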