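import Groth.Agent.Lib.Helper27.EtLimF2

/-!
# Sections of the limit sheaf near a point (helper27)
-/

set_option autoImplicit false
set_option backward.isDefEq.respectTransparency false
set_option backward.isDefEq.respectTransparency.types false

universe u

open CategoryTheory CategoryTheory.Limits AlgebraicGeometry Opposite GrothendieckTopology

namespace Groth.Agent.Lib.Helper27.EtLimF

open Groth.Agent.Lib.Helper27.EtLimA Groth.Agent.Lib.Helper27.EtLimB
  Groth.Agent.Lib.Helper27.EtLimC Groth.Agent.Lib.Helper27.EtLimD Groth.Agent.Lib.Helper27.EtLimG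
  Groth.Agent.Lib.Helper23.FinBC0 Groth.Agent.Lib.Helper23.FinPushFiber
  Groth.Agent.Lib.Helper23.FinPushExact

section Apply

variable {Y' Y : Scheme.{u}} (g : Y' ⟶ Y) {Ω : Type u} [Field Ω] [IsSepClosed Ω]
  (η' : Spec (CommRingCat.of Ω) ⟶ Y')

lemma germ_stk_apply {A : EtCoh.Ab Y} {B : EtCoh.Ab Y'} (γ : A ⟶ (EtCoh.push g).obj B)
    (V : Y.Etale) (v : (Scheme.pointSmallEtale (η' ≫ g)).fiber.obj V) (s : A.obj.obj (op V)) :
    stk g η' γ ((Scheme.pointSmallEtale (η' ≫ g)).toPresheafFiber V v A.obj s) =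
      (Scheme.pointSmallEtale η').toPresheafFiber ((EtCoh.bc g).obj V) (liftpt η' rfl V v) B.obj
        (secMap g γ V s) :=
  ConcreteCategory.congr_hom (germ_stk g η' γ V v) s

lemma stk_comp_apply {A : EtCoh.Ab Y} {B B' : EtCoh.Ab Y'} (γ : A ⟶ (EtCoh.push g).obj B)
    (b : B ⟶ B')
    (x : ((Scheme.pointSmallEtale (η' ≫ g)).presheafFiber.obj A.obj : AddCommGrpCat.{u + 1})) :
    stk g η' (γ ≫ (EtCoh.push g).map b) x =
      (Scheme.pointSmallEtale η').presheafFiber.map b.hom (stk g η' γ x) :=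
  ConcreteCategory.congr_hom (stk_comp g η' γ b) x

lemma stk_unit_injective (A : EtCoh.Ab Y)
    (x : ((Scheme.pointSmallEtale (η' ≫ g)).presheafFiber.obj A.obj : AddCommGrpCat.{u + 1}))
    (h : stk g η' (unitG g A) x = 0) : x = 0 := by
  haveI := isIso_stk_unit g η' A
  have := congrArg (inv (stk g η' (unitG g A))) h
  rw [map_zero] at this
  rw [← this]
  change x = (stk g η' (unitG g A) ≫ inv (stk g η' (unitG g A))) x
  rw [IsIso.hom_inv_id]
  rfl

lemma stk_unit_surjective (A : EtCoh.Ab Y)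
    (y : ((Scheme.pointSmallEtale η').presheafFiber.obj ((EtCoh.pull g).obj A).obj :
      AddCommGrpCat.{u + 1})) :
    ∃ x, stk g η' (unitG g A) x = y := by
  haveI := isIso_stk_unit g η' A
  refine ⟨inv (stk g η' (unitG g A)) y, ?_⟩
  change (inv (stk g η' (unitG g A)) ≫ stk g η' (unitG g A)) y = y
  rw [IsIso.inv_hom_id]
  rfl

end Apply

end Groth.Agent.Lib.Helper27.EtLimF

namespace Groth.Agent.Lib.Helper27.EtLimF

open Groth.Agent.Lib.Helper27.EtLimA Groth.Agent.Lib.Helper27.EtLimB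
  Groth.Agent.Lib.Helper27.EtLimC Groth.Agent.Lib.Helper27.EtLimD Groth.Agent.Lib.Helper27.EtLimG
  Groth.Agent.Lib.Helper23.FinBC0 Groth.Agent.Lib.Helper23.FinPushFiber
  Groth.Agent.Lib.Helper23.FinPushExact

section Main

variable {ι : Type u} [Preorder ι] [IsDirected ι (· ≤ ·)] [Nonempty ι] {Xs : ιᵒᵖ ⥤ Scheme.{u}}
  (c : Cone Xs) (S : Sys Xs) (cc : Cocone (S.G c)) (hcc : IsColimit cc)
variable {Ω : Type u} [Field Ω] [IsSepClosed Ω] (ξ : Spec (CommRingCat.of Ω) ⟶ c.pt)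

lemma liftpt_tcan_inv {j k : ι} (h : j ≤ k) (W : (Xs.obj (op j)).Etale)
    (w : (Scheme.pointSmallEtale (ξ ≫ pr c j)).fiber.obj W) :
    (Scheme.pointSmallEtale ξ).fiber.map ((tcan c h).inv.app W) (liftpt ξ rfl W w) =
      liftpt ξ rfl ((EtCoh.bc (tr Xs h)).obj W) (liftpt (ξ ≫ pr c k) (hξ c ξ h) W w) := by
  rw [← liftpt_tcan c ξ h W w]
  change ((Scheme.pointSmallEtale ξ).fiber.map ((tcan c h).hom.app W) ≫
    (Scheme.pointSmallEtale ξ).fiber.map ((tcan c h).inv.app W)) _ = _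
  rw [← (Scheme.pointSmallEtale ξ).fiber.map_comp, Iso.hom_inv_id_app]
  erw [(Scheme.pointSmallEtale ξ).fiber.map_id]
  rfl

/-- the germ of the image in the limit sheaf of a section at a finite stage -/
lemma germ_θ (j : ι) (W : (Xs.obj (op j)).Etale)
    (w : (Scheme.pointSmallEtale (ξ ≫ pr c j)).fiber.obj W) (s : (S.F j).obj.obj (op W)) :
    (Scheme.pointSmallEtale ξ).toPresheafFiber ((EtCoh.bc (pr c j)).obj W) (liftpt ξ rfl W w)
        cc.pt.obj (secMap (pr c j) (S.θ c cc j) W s) =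
      (Scheme.pointSmallEtale ξ).presheafFiber.map (cc.ι.app j).hom
        (stk (pr c j) ξ (unitG (pr c j) (S.F j))
          ((Scheme.pointSmallEtale (ξ ≫ pr c j)).toPresheafFiber W w (S.F j).obj s)) := by
  have e1 := stk_comp_apply (pr c j) ξ (unitG (pr c j) (S.F j)) (cc.ι.app j)
    ((Scheme.pointSmallEtale (ξ ≫ pr c j)).toPresheafFiber W w (S.F j).obj s)
  have e2 := germ_stk_apply (pr c j) ξ (S.θ c cc j) W w s
  exact e2.symm.trans e1

/-- the germ of the image at a later stage -/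
lemma germ_σ {j k : ι} (h : j ≤ k) (W : (Xs.obj (op j)).Etale)
    (w : (Scheme.pointSmallEtale (ξ ≫ pr c j)).fiber.obj W) (s : (S.F j).obj.obj (op W)) :
    (Scheme.pointSmallEtale ξ).presheafFiber.map ((S.G c).map (homOfLE h)).hom
        (stk (pr c j) ξ (unitG (pr c j) (S.F j))
          ((Scheme.pointSmallEtale (ξ ≫ pr c j)).toPresheafFiber W w (S.F j).obj s)) =
      stk (pr c k) ξ (unitG (pr c k) (S.F k))
        ((Scheme.pointSmallEtale (ξ ≫ pr c k)).toPresheafFiber ((EtCoh.bc (tr Xs h)).obj W)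
          (liftpt (ξ ≫ pr c k) (hξ c ξ h) W w) (S.F k).obj (secMap (tr Xs h) (S.τ h) W s)) := by
  have e1 := stk_comp_apply (pr c j) ξ (unitG (pr c j) (S.F j)) ((S.G c).map (homOfLE h))
    ((Scheme.pointSmallEtale (ξ ≫ pr c j)).toPresheafFiber W w (S.F j).obj s)
  have e0 : unitG (pr c j) (S.F j) ≫ (EtCoh.push (pr c j)).map ((S.G c).map (homOfLE h)) =
      S.σ c h := by
    rw [S.G_map c h, unitG_toPull]
  rw [e0] at e1
  refine e1.symm.trans ?_
  rw [germ_stk_apply, germ_stk_apply]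
  have e : secMap (pr c j) (S.σ c h) W s =
      ((S.G c).obj k).obj.map ((tcan c h).inv.app W).op
        (secMap (pr c k) (unitG (pr c k) (S.F k)) ((EtCoh.bc (tr Xs h)).obj W)
          (secMap (tr Xs h) (S.τ h) W s)) := by
    unfold Sys.σ
    rw [relComp_sec]
    rfl
  have e3 := ConcreteCategory.congr_hom ((Scheme.pointSmallEtale ξ).toPresheafFiber_w
    ((tcan c h).inv.app W) (liftpt ξ rfl W w) ((EtCoh.pull (pr c k)).obj (S.F k)).obj)
    (secMap (pr c k) (unitG (pr c k) (S.F k)) ((EtCoh.bc (tr Xs h)).obj W)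
          (secMap (tr Xs h) (S.τ h) W s))
  rw [liftpt_tcan_inv] at e3
  exact (congrArg _ e).trans e3

include hcc in
/-- a section dying in the limit dies at a finite stage, near a point -/
theorem stalkInj (j : ι) (W : (Xs.obj (op j)).Etale)
    (w : (Scheme.pointSmallEtale (ξ ≫ pr c j)).fiber.obj W) (s : (S.F j).obj.obj (op W))
    (hs : secMap (pr c j) (S.θ c cc j) W s = 0) :
    ∃ (k : ι) (h : j ≤ k) (N : (Xs.obj (op k)).Etale) (g : N ⟶ (EtCoh.bc (tr Xs h)).obj W)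
      (n : (Scheme.pointSmallEtale (ξ ≫ pr c k)).fiber.obj N),
      (Scheme.pointSmallEtale (ξ ≫ pr c k)).fiber.map g n =
        liftpt (ξ ≫ pr c k) (hξ c ξ h) W w ∧
      (S.F k).obj.map g.op (secMap (tr Xs h) (S.τ h) W s) = 0 := by
  have h1 := germ_θ c S cc ξ j W w s
  rw [hs, map_zero] at h1
  obtain ⟨k, h, h2⟩ := stalk_inj c S cc hcc ξ j _ h1.symm
  rw [germ_σ] at h2
  have h3 := stk_unit_injective (pr c k) ξ (S.F k) _ h2
  have h4 : (Scheme.pointSmallEtale (ξ ≫ pr c k)).toPresheafFiber ((EtCoh.bc (tr Xs h)).obj W)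
      (liftpt (ξ ≫ pr c k) (hξ c ξ h) W w) (S.F k).obj (secMap (tr Xs h) (S.τ h) W s) =
      (Scheme.pointSmallEtale (ξ ≫ pr c k)).toPresheafFiber ((EtCoh.bc (tr Xs h)).obj W)
      (liftpt (ξ ≫ pr c k) (hξ c ξ h) W w) (S.F k).obj 0 := by
    rw [h3, map_zero]
  obtain ⟨N, g, n, hn, hg⟩ := ((Scheme.pointSmallEtale (ξ ≫ pr c k)).toPresheafFiber_eq_iff'
    _ _ _ _).1 h4
  refine ⟨k, h, N, g, n, hn, ?_⟩
  rw [hg, map_zero]

include hcc in
/-- a section of the limit sheaf comes from a finite stage, near a point -/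
theorem stalkSurj (V : c.pt.Etale) (v : (Scheme.pointSmallEtale ξ).fiber.obj V)
    (t : cc.pt.obj.obj (op V)) :
    ∃ (k : ι) (N : (Xs.obj (op k)).Etale)
      (n : (Scheme.pointSmallEtale (ξ ≫ pr c k)).fiber.obj N) (s : (S.F k).obj.obj (op N))
      (V' : c.pt.Etale) (a : V' ⟶ V) (b : V' ⟶ (EtCoh.bc (pr c k)).obj N)
      (v' : (Scheme.pointSmallEtale ξ).fiber.obj V'),
      IsAffine N.left ∧
      (Scheme.pointSmallEtale ξ).fiber.map a v' = v ∧
      (Scheme.pointSmallEtale ξ).fiber.map b v' = liftpt ξ rfl N n ∧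
      cc.pt.obj.map a.op t = cc.pt.obj.map b.op (secMap (pr c k) (S.θ c cc k) N s) := by
  obtain ⟨k, a₀, ha₀⟩ := stalk_surj c S cc hcc ξ
    ((Scheme.pointSmallEtale ξ).toPresheafFiber V v cc.pt.obj t)
  obtain ⟨x, hx⟩ := stk_unit_surjective (pr c k) ξ (S.F k) a₀
  obtain ⟨N₁, n₁, s₁, hs₁⟩ :=
    (Scheme.pointSmallEtale (ξ ≫ pr c k)).toPresheafFiber_jointly_surjective x
  obtain ⟨N₀, hN₀, hn₀, -⟩ : ∃ N₀ : N₁.left.Opens, N₀ ∈ N₁.left.affineOpens ∧
      Groth.Agent.Lib.Helper23.LCPull.pt (ξ ≫ pr c k) N₁ n₁ ∈ N₀ ∧ N₀ ≤ ⊤ :=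
    TopologicalSpace.Opens.isBasis_iff_nbhd.1 N₁.left.isBasis_affineOpens
      (show Groth.Agent.Lib.Helper23.LCPull.pt (ξ ≫ pr c k) N₁ n₁ ∈ (⊤ : N₁.left.Opens) from trivial)
  obtain ⟨n, hn⟩ := Groth.Agent.Lib.Helper23.LCPull.exists_point_opn (ξ ≫ pr c k) N₁ n₁ N₀ hn₀
  let N := Groth.Agent.Lib.Helper23.EtGlue.opn N₁ N₀
  let s : (S.F k).obj.obj (op N) :=
    (S.F k).obj.map (Groth.Agent.Lib.Helper23.EtGlue.opnι N₁ N₀).op s₁
  have hs : (Scheme.pointSmallEtale (ξ ≫ pr c k)).toPresheafFiber N n (S.F k).obj s = x := by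
    have := ConcreteCategory.congr_hom ((Scheme.pointSmallEtale (ξ ≫ pr c k)).toPresheafFiber_w
      (Groth.Agent.Lib.Helper23.EtGlue.opnι N₁ N₀) n (S.F k).obj) s₁
    rw [hn] at this
    exact this.trans hs₁
  have h1 := germ_θ c S cc ξ k N n s
  rw [hs, hx, ha₀] at h1
  obtain ⟨V', a, b, v', hv1, hv2, hab⟩ := germ_eq₂ ξ cc.pt.obj V _ v _ t _ h1.symm
  have haff : IsAffine N.left := hN₀
  exact ⟨k, N, n, s, V', a, b, v', haff, hv1, hv2, hab⟩

end Main

end Groth.Agent.Lib.Helper27.EtLimF
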