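import Groth.Agent.Lib.Helper27.EtLimD
import Groth.Agent.S9207
import Mathlib.AlgebraicGeometry.IdealSheaf.Subscheme
import Mathlib.AlgebraicGeometry.Morphisms.ClosedImmersion

/-!
# Finite-stage pieces of étale schemes over a limit of schemes (helper27)
-/

set_option autoImplicit false
set_option backward.isDefEq.respectTransparency false
set_option backward.isDefEq.respectTransparency.types false

universe u

open CategoryTheory CategoryTheory.Limits AlgebraicGeometry Opposite

namespace Groth.Agent.Lib.Helper27.EtLimG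

open Groth.Agent.Lib.Helper27.EtLimA Groth.Agent.Lib.Helper27.EtLimD

variable {ι : Type u} [Preorder ι] {Xs : ιᵒᵖ ⥤ Scheme.{u}} (c : Cone Xs)

/-- the canonical isomorphism `(W ×_{X_j} X_k) ×_{X_k} X ≅ W ×_{X_j} X` -/
noncomputable abbrev tcan {j k : ι} (h : j ≤ k) :
    EtCoh.bc (tr Xs h) ⋙ EtCoh.bc (pr c k) ≅ EtCoh.bc (pr c j) :=
  triIso (pr c k) (tr Xs h) (pr c j) (pr_tr c h)

/-- the canonical isomorphism `(W ×_{X_j} X_k) ×_{X_k} X_m ≅ W ×_{X_j} X_m` -/
noncomputable abbrev scan {j k m : ι} (h1 : j ≤ k) (h2 : k ≤ m) :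
    EtCoh.bc (tr Xs h1) ⋙ EtCoh.bc (tr Xs h2) ≅ EtCoh.bc (tr Xs (h1.trans h2)) :=
  triIso (tr Xs h2) (tr Xs h1) (tr Xs (h1.trans h2)) (tr_comp Xs h1 h2)

/-- a finite-stage piece over an étale scheme of a member of the system -/
structure Piece {j : ι} (W : (Xs.obj (op j)).Etale) where
  /-- the stage -/
  k : ι
  /-- the stage is later -/
  h : j ≤ k
  /-- the étale scheme at the stage -/
  O : (Xs.obj (op k)).Etale
  /-- the structure morphism -/
  g : O ⟶ (EtCoh.bc (tr Xs h)).obj W

variable {j : ι} {W : (Xs.obj (op j)).Etale}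

/-- the realization of a piece over the limit -/
noncomputable def Piece.real (P : Piece W) :
    (EtCoh.bc (pr c P.k)).obj P.O ⟶ (EtCoh.bc (pr c j)).obj W :=
  (EtCoh.bc (pr c P.k)).map P.g ≫ (tcan c P.h).hom.app W

/-- the transport of a piece to a later stage -/
noncomputable def Piece.up (P : Piece W) {k' : ι} (h' : P.k ≤ k') : Piece W where
  k := k'
  h := P.h.trans h'
  O := (EtCoh.bc (tr Xs h')).obj P.O
  g := (EtCoh.bc (tr Xs h')).map P.g ≫ (scan P.h h').hom.app W

lemma Piece.up_real (P : Piece W) {k' : ι} (h' : P.k ≤ k') :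
    (P.up h').real c = (tcan c h').hom.app P.O ≫ P.real c := by
  apply bc_hom_ext
  unfold Piece.real
  change (((EtCoh.bc (pr c k')).map ((EtCoh.bc (tr Xs h')).map P.g ≫ (scan P.h h').hom.app W)) ≫
    (tcan c (P.h.trans h')).hom.app W).left ≫ _ = _
  rw [comp_left', comp_left', comp_left', Category.assoc, Category.assoc, Category.assoc,
    triIso_hom_prL, triIso_hom_prL]
  have h1 := bc_map_prL (pr c k') ((EtCoh.bc (tr Xs h')).map P.g ≫ (scan P.h h').hom.app W)
  have h2 := bc_map_prL (pr c P.k) P.g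
  have h3 := bc_map_prL (tr Xs h') P.g
  have h4 := triIso_hom_prL (pr c k') (tr Xs h') (pr c P.k) (pr_tr c h') P.O
  have h5 := triIso_hom_prL (tr Xs h') (tr Xs P.h) (tr Xs (P.h.trans h')) (tr_comp Xs P.h h') W
  rw [reassoc_of% h1, comp_left', Category.assoc, h5, reassoc_of% h3, reassoc_of% h2,
    reassoc_of% h4]

end Groth.Agent.Lib.Helper27.EtLimG
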