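import Groth.Agent.Lib.Helper27.EtLimG

/-!
# Joint surjectivity descends to a finite stage (helper27)
-/

set_option autoImplicit false
set_option backward.isDefEq.respectTransparency false
set_option backward.isDefEq.respectTransparency.types false

universe u

open CategoryTheory CategoryTheory.Limits AlgebraicGeometry Opposite

namespace Groth.Agent.Lib.Helper27.EtLimG

open Groth.Agent.Lib.Helper27.EtLimA Groth.Agent.Lib.Helper27.EtLimD

variable {ι : Type u} [Preorder ι] [IsDirected ι (· ≤ ·)] [Nonempty ι] {Xs : ιᵒᵖ ⥤ Scheme.{u}}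
  (c : Cone Xs) (hc : IsLimit c)
  [∀ (a b : ιᵒᵖ) (h : a ⟶ b), IsAffineHom (Xs.map h)] [∀ a, CompactSpace ↥(Xs.obj a)]
  [∀ a, QuasiSeparatedSpace ↥(Xs.obj a)]

lemma map_eq_tr {a b : ιᵒᵖ} (φ : a ⟶ b) : Xs.map φ = tr Xs (leOfHom φ.unop) := by
  have : φ = (homOfLE (leOfHom φ.unop)).op := Subsingleton.elim _ _
  rw [this]

/-- points of a base change over a given point -/
lemma exists_bc_point {X Y : Scheme.{u}} (f : X ⟶ Y) (W : Y.Etale) (w : W.left) (x : X)
    (h : W.hom w = f x) :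
    ∃ z : ((EtCoh.bc f).obj W).left, (prL f W) z = w ∧
      ((EtCoh.bc f).obj W).hom z = x :=
  Scheme.Pullback.exists_preimage_pullback (f := W.hom) (g := f) w x h

/-- points of a base change of a morphism -/
lemma exists_bc_map_point {X Y : Scheme.{u}} (f : X ⟶ Y) {N W : Y.Etale} (g : N ⟶ W)
    (w : ((EtCoh.bc f).obj W).left) (n : N.left) (h : g.left n = (prL f W) w) :
    ∃ z : ((EtCoh.bc f).obj N).left, ((EtCoh.bc f).map g).left z = w := by
  have sq := EtCoh.isPullback_bc_map f g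
  obtain ⟨z, hz1, -⟩ := Scheme.Pullback.exists_preimage_pullback
    (f := (pullback.fst W.hom f : ((EtCoh.bc f).obj W).left ⟶ W.left)) (g := g.left) w n h.symm
  refine ⟨sq.isoPullback.inv z, ?_⟩
  rw [← hz1, ← Scheme.Hom.comp_apply, IsPullback.isoPullback_inv_fst]
  rfl

include hc in
/-- **joint surjectivity over the limit descends to a finite stage** -/
theorem geoA {k : ι} (W : (Xs.obj (op k)).Etale) [CompactSpace W.left] {A : Type*}
    (N : A → (Xs.obj (op k)).Etale) (g : ∀ a, N a ⟶ W)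
    (hsurj : ∀ w : ((EtCoh.bc (pr c k)).obj W).left, ∃ (a : A) (n : ((EtCoh.bc (pr c k)).obj (N a)).left),
      ((EtCoh.bc (pr c k)).map (g a)).left n = w) :
    ∃ (k' : ι) (h : k ≤ k'), ∀ w : ((EtCoh.bc (tr Xs h)).obj W).left,
      ∃ (a : A) (n : ((EtCoh.bc (tr Xs h)).obj (N a)).left),
        ((EtCoh.bc (tr Xs h)).map (g a)).left n = w := by
  classical
  -- the open image and its closed complement
  have hopen : IsOpen (⋃ a, Set.range (g a).left) :=
    isOpen_iUnion fun a => (g a).left.isOpenMap.isOpen_range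
  let Z : TopologicalSpace.Closeds W.left := ⟨(⋃ a, Set.range (g a).left)ᶜ, hopen.isClosed_compl⟩
  let I := Scheme.IdealSheafData.vanishingIdeal Z
  have hrange : Set.range I.subschemeι = (Z : Set W.left) := by
    rw [Scheme.IdealSheafData.range_subschemeι]
    exact Scheme.IdealSheafData.coe_support_vanishingIdeal Z
  haveI : CompactSpace I.subscheme := QuasiCompact.compactSpace_of_compactSpace I.subschemeι
  have hempty : IsEmpty ↥(pullback (I.subschemeι ≫ W.hom) (c.π.app (op k))) := by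
    constructor
    intro z
    obtain ⟨t, ht⟩ : ∃ t, t = (pullback.fst (I.subschemeι ≫ W.hom) (c.π.app (op k))) z := ⟨_, rfl⟩
    obtain ⟨x, hx⟩ : ∃ x, x = (pullback.snd (I.subschemeι ≫ W.hom) (c.π.app (op k))) z := ⟨_, rfl⟩
    have hcond : W.hom (I.subschemeι t) = (c.π.app (op k)) x := by
      rw [ht, hx]
      have hmor : (pullback.fst (I.subschemeι ≫ W.hom) (c.π.app (op k)) ≫ I.subschemeι) ≫ W.hom =
          pullback.snd (I.subschemeι ≫ W.hom) (c.π.app (op k)) ≫ c.π.app (op k) := by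
        rw [Category.assoc]; exact pullback.condition
      exact congrArg (fun φ : _ ⟶ Xs.obj (op k) => φ z) hmor
    obtain ⟨w, hw1, -⟩ := exists_bc_point (pr c k) W _ x hcond
    obtain ⟨a, n, hn⟩ := hsurj w
    have h1 : (g a).left ((prL (pr c k) (N a)) n) = I.subschemeι t := by
      rw [← hw1, ← hn, ← Scheme.Hom.comp_apply, ← Scheme.Hom.comp_apply, bc_map_prL]
    have h2 : I.subschemeι t ∈ (Z : Set W.left) := by
      rw [← hrange]; exact ⟨t, rfl⟩
    exact h2 (Set.mem_iUnion.2 ⟨a, ⟨_, h1⟩⟩)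
  obtain ⟨i', φ, hφ⟩ := Groth.Agent.S9207.result Xs c hc (op k) (I.subschemeι ≫ W.hom) hempty
  refine ⟨i'.unop, leOfHom φ.unop, ?_⟩
  intro w
  have e : Xs.map φ = tr Xs (leOfHom φ.unop) := map_eq_tr φ
  by_cases hw : (prL (tr Xs (leOfHom φ.unop)) W) w ∈ (Z : Set W.left)
  · exfalso
    rw [← hrange] at hw
    obtain ⟨t, ht⟩ := hw
    have hcond : (I.subschemeι ≫ W.hom) t =
        (Xs.map φ) (((EtCoh.bc (tr Xs (leOfHom φ.unop))).obj W).hom w) := by
      rw [e, Scheme.Hom.comp_apply, ht]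
      exact congrArg (fun φ : _ ⟶ Xs.obj (op k) => φ w) (prL_comp (tr Xs (leOfHom φ.unop)) W)
    obtain ⟨z, -, -⟩ := Scheme.Pullback.exists_preimage_pullback
      (f := I.subschemeι ≫ W.hom) (g := Xs.map φ) t _ hcond
    exact hφ.false z
  · have hw' : (prL (tr Xs (leOfHom φ.unop)) W) w ∈ ⋃ a, Set.range (g a).left := by
      by_contra h
      exact hw h
    obtain ⟨a, n₀, hn₀⟩ := Set.mem_iUnion.1 hw'
    obtain ⟨z, hz⟩ := exists_bc_map_point (tr Xs (leOfHom φ.unop)) (g a) w n₀ hn₀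
    exact ⟨a, z, hz⟩

end Groth.Agent.Lib.Helper27.EtLimG
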