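import Groth.Agent.Lib.Helper27.EtLimG2
import Groth.Agent.S0591
import Groth.Agent.S9192
import Groth.Agent.S9218

/-!
# Étale schemes over a limit come from a finite stage, locally (helper27)
-/

set_option autoImplicit false
set_option backward.isDefEq.respectTransparency false
set_option backward.isDefEq.respectTransparency.types false

universe u

open CategoryTheory CategoryTheory.Limits AlgebraicGeometry Opposite

namespace Groth.Agent.Lib.Helper27.EtLimG

open Groth.Agent.Lib.Helper27.EtLimA Groth.Agent.Lib.Helper27.EtLimD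

variable {ι : Type u} [Preorder ι] [IsDirected ι (· ≤ ·)] [Nonempty ι] {Xs : ιᵒᵖ ⥤ Scheme.{u}}
  (c : Cone Xs) (hc : IsLimit c)
  [∀ (a b : ιᵒᵖ) (h : a ⟶ b), IsAffineHom (Xs.map h)] [∀ a, CompactSpace ↥(Xs.obj a)]
  [∀ a, QuasiSeparatedSpace ↥(Xs.obj a)]

include hc in
lemma compactSpace_pt : CompactSpace c.pt := Scheme.compactSpace_of_isLimit Xs c hc

include hc in
lemma quasiSeparatedSpace_pt : QuasiSeparatedSpace c.pt := by
  obtain ⟨i⟩ := IsCofiltered.nonempty (C := ιᵒᵖ)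
  have := isAffineHom_π_app Xs c hc i
  exact quasiSeparatedSpace_of_quasiSeparated (c.π.app i)

include hc in
/-- **every point of an étale scheme over the limit has a neighbourhood coming from a finite
stage** -/
theorem geoB (V : c.pt.Etale) (x : V.left) :
    ∃ (k : ι) (O : (Xs.obj (op k)).Etale) (e : (EtCoh.bc (pr c k)).obj O ⟶ V),
      CompactSpace O.left ∧ QuasiSeparatedSpace O.left ∧ x ∈ Set.range e.left := by
  haveI := compactSpace_pt c hc
  haveI := quasiSeparatedSpace_pt c hc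
  obtain ⟨V₀, hV₀, hx, -⟩ : ∃ V₀ : V.left.Opens, V₀ ∈ V.left.affineOpens ∧ x ∈ V₀ ∧ V₀ ≤ ⊤ :=
    TopologicalSpace.Opens.isBasis_iff_nbhd.1
      V.left.isBasis_affineOpens (show x ∈ (⊤ : V.left.Opens) from trivial)
  haveI : IsAffine (V₀ : Scheme) := hV₀
  let f : (V₀ : Scheme) ⟶ c.pt := V₀.ι ≫ V.hom
  haveI : Etale f := inferInstance
  obtain ⟨i, Xi, fi, g, hlfp, hqc, hqs, hpb⟩ := Groth.Agent.S0591.result Xs c hc (V₀ : Scheme) f
  haveI := hlfp
  haveI := hqc
  haveI := hqs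
  haveI : CompactSpace Xi := QuasiCompact.compactSpace_of_compactSpace fi
  haveI : QuasiSeparatedSpace Xi := quasiSeparatedSpace_of_quasiSeparated fi
  have hY : IsPullback (c.π.app i) (𝟙 c.pt) (𝟙 (Xs.obj i)) (c.π.app i) := by
    haveI : IsIso (𝟙 c.pt) := IsIso.id _
    haveI : IsIso (𝟙 (Xs.obj i)) := IsIso.id _
    exact IsPullback.of_vert_isIso ⟨by simp⟩
  obtain ⟨i', φ, Xi', Yi', fi', gi', pY, pX, h1, h2, het⟩ :=
    Groth.Agent.S9192.result Xs c hc i fi (𝟙 _) f (𝟙 c.pt) (c.π.app i) g hY hpb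
  haveI := het
  haveI : IsIso (𝟙 (Xs.obj i)) := IsIso.id _
  haveI : IsIso gi' := h1.isIso_snd_of_isIso
  haveI : QuasiCompact fi' := MorphismProperty.of_isPullback (P := @QuasiCompact) h2 hqc
  haveI : QuasiSeparated fi' := MorphismProperty.of_isPullback (P := @QuasiSeparated) h2 hqs
  let O : (Xs.obj i').Etale := Scheme.Etale.mk (fi' ≫ gi')
  -- the base change of `O` to the limit is `V₀`
  have hsq : IsPullback pX (fi' ≫ gi') (fi ≫ 𝟙 _) (Xs.map φ) := h2.paste_vert h1
  have hbig : IsPullback (pullback.fst (fi' ≫ gi') (c.π.app i') ≫ pX)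
      (pullback.snd (fi' ≫ gi') (c.π.app i')) (fi ≫ 𝟙 _) (c.π.app i' ≫ Xs.map φ) :=
    (IsPullback.of_hasPullback (fi' ≫ gi') (c.π.app i')).paste_horiz hsq
  rw [Category.comp_id, c.w] at hbig
  let e₀ : pullback (fi' ≫ gi') (c.π.app i') ≅ (V₀ : Scheme) := hbig.isoIsPullback _ _ hpb
  have he₀ : e₀.hom ≫ f = pullback.snd (fi' ≫ gi') (c.π.app i') :=
    IsPullback.isoIsPullback_hom_snd _ _ hbig hpb
  refine ⟨i'.unop, O, MorphismProperty.Over.homMk (e₀.hom ≫ V₀.ι) ?_, ?_, ?_, ?_⟩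
  · change (e₀.hom ≫ V₀.ι) ≫ V.hom = pullback.snd (fi' ≫ gi') (c.π.app i')
    rw [Category.assoc]
    exact he₀
  · change CompactSpace Xi'
    have : QuasiCompact (fi' ≫ gi') := inferInstance
    exact QuasiCompact.compactSpace_of_compactSpace (fi' ≫ gi')
  · change QuasiSeparatedSpace Xi'
    exact quasiSeparatedSpace_of_quasiSeparated (fi' ≫ gi')
  · change x ∈ Set.range (e₀.hom ≫ V₀.ι)
    rw [Scheme.Hom.comp_base, TopCat.coe_comp, Set.range_comp, Set.range_eq_univ.2 e₀.hom.surjective, Set.image_univ, Scheme.Opens.range_ι]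
    exact hx

end Groth.Agent.Lib.Helper27.EtLimG
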