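import Groth.Agent.Lib.Helper27.EtLimG3

/-!
# Morphisms between base changes to the limit come from a finite stage (helper27)
-/

set_option autoImplicit false
set_option backward.isDefEq.respectTransparency false
set_option backward.isDefEq.respectTransparency.types false

universe u

open CategoryTheory CategoryTheory.Limits AlgebraicGeometry Opposite

namespace Groth.Agent.Lib.Helper27.EtLimG

open Groth.Agent.Lib.Helper27.EtLimA Groth.Agent.Lib.Helper27.EtLimD

variable {ι : Type u} [Preorder ι] [IsDirected ι (· ≤ ·)] [Nonempty ι] {Xs : ιᵒᵖ ⥤ Scheme.{u}}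
  (c : Cone Xs) (hc : IsLimit c)
  [∀ (a b : ιᵒᵖ) (h : a ⟶ b), IsAffineHom (Xs.map h)] [∀ a, CompactSpace ↥(Xs.obj a)]
  [∀ a, QuasiSeparatedSpace ↥(Xs.obj a)]

/-- the isomorphism of underlying schemes -/
def leftIso {X : Scheme.{u}} {A B : X.Etale} (e : A ≅ B) : A.left ≅ B.left where
  hom := e.hom.left
  inv := e.inv.left
  hom_inv_id := by rw [← comp_left', e.hom_inv_id]; rfl
  inv_hom_id := by rw [← comp_left', e.inv_hom_id]; rfl

lemma isAffineHom_prL {X Y : Scheme.{u}} (f : X ⟶ Y) [IsAffineHom f] (W : Y.Etale) :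
    IsAffineHom (prL f W) :=
  MorphismProperty.pullback_fst (P := @IsAffineHom) _ _ inferInstance

instance compactSpace_bc_tr {j k : ι} (h : j ≤ k) (W : (Xs.obj (op j)).Etale) [CompactSpace W.left] :
    CompactSpace ((EtCoh.bc (tr Xs h)).obj W).left := by
  have := isAffineHom_prL (tr Xs h) W
  exact QuasiCompact.compactSpace_of_compactSpace (prL (tr Xs h) W)

instance quasiSeparatedSpace_bc_tr {j k : ι} (h : j ≤ k) (W : (Xs.obj (op j)).Etale)
    [QuasiSeparatedSpace W.left] : QuasiSeparatedSpace ((EtCoh.bc (tr Xs h)).obj W).left := by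
  have := isAffineHom_prL (tr Xs h) W
  exact quasiSeparatedSpace_of_quasiSeparated (prL (tr Xs h) W)

include hc in
/-- **morphisms over the limit descend to a finite stage** -/
theorem homDesc {j k : ι} (h : j ≤ k) (O : (Xs.obj (op k)).Etale) [CompactSpace O.left]
    [QuasiSeparatedSpace O.left] (W : (Xs.obj (op j)).Etale) [CompactSpace W.left]
    [QuasiSeparatedSpace W.left]
    (f : (EtCoh.bc (pr c k)).obj O ⟶ (EtCoh.bc (pr c j)).obj W) :
    ∃ (k' : ι) (h' : k ≤ k')
      (g : (EtCoh.bc (tr Xs h')).obj O ⟶ (EtCoh.bc (tr Xs (h.trans h'))).obj W),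
      (tcan c h').hom.app O ≫ f =
        (EtCoh.bc (pr c k')).map g ≫ (tcan c (h.trans h')).hom.app W := by
  let Wk := (EtCoh.bc (tr Xs h)).obj W
  let qY : ((EtCoh.bc (pr c j)).obj W).left ⟶ Wk.left :=
    ((tcan c h).inv.app W).left ≫ prL (pr c k) Wk
  have hY : IsPullback qY ((EtCoh.bc (pr c j)).obj W).hom Wk.hom (c.π.app (op k)) := by
    have h0 : IsPullback (prL (pr c k) Wk) ((EtCoh.bc (pr c k)).obj Wk).hom Wk.hom (c.π.app (op k)) :=
      IsPullback.of_hasPullback _ _
    refine IsPullback.of_iso h0 (leftIso ((tcan c h).app W)) (Iso.refl _)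
      (Iso.refl _) (Iso.refl _) ?_ ?_ (by simp) (by simp)
    · change prL (pr c k) Wk ≫ 𝟙 _ = ((tcan c h).hom.app W).left ≫ qY
      rw [Category.comp_id, ← Category.assoc, ← comp_left', Iso.hom_inv_id_app]
      exact (Category.id_comp _).symm
    · change _ ≫ 𝟙 _ = ((tcan c h).hom.app W).left ≫ ((EtCoh.bc (pr c j)).obj W).hom
      rw [Category.comp_id]
      exact (Over.w ((tcan c h).hom.app W).hom).symm
  haveI : CompactSpace Wk.left := compactSpace_bc_tr h W
  haveI : QuasiSeparatedSpace Wk.left := quasiSeparatedSpace_bc_tr h W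
  obtain ⟨j', φ, fj, sX, sY, e1, e2, e3, e4, e5, e6⟩ :=
    Groth.Agent.S9218.result Xs c hc (op k) (Xi := O.left) (Yi := Wk.left) O.hom Wk.hom
      (prL (pr c k) O) ((EtCoh.bc (pr c k)).obj O).hom (IsPullback.of_hasPullback _ _)
      qY ((EtCoh.bc (pr c j)).obj W).hom hY f.left (Over.w f.hom)
  obtain ⟨k', rfl⟩ : ∃ k', j' = op k' := ⟨j'.unop, rfl⟩
  have h' : k ≤ k' := leOfHom φ.unop
  obtain rfl : φ = (homOfLE h').op := Subsingleton.elim _ _
  let g₀ : (EtCoh.bc (tr Xs h')).obj O ⟶ (EtCoh.bc (tr Xs h')).obj Wk :=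
    MorphismProperty.Over.homMk fj e1
  refine ⟨k', h', g₀ ≫ (scan h h').hom.app W, ?_⟩
  apply bc_hom_ext
  have hq : qY ≫ prL (tr Xs h) W = prL (pr c j) W := by
    change (((tcan c h).inv.app W).left ≫ prL (pr c k) Wk) ≫ prL (tr Xs h) W = _
    rw [Category.assoc]
    exact triIso_inv_prL (pr c k) (tr Xs h) (pr c j) (pr_tr c h) W
  have key : ((tcan c h').hom.app O).left ≫ sX = prL (pr c k') ((EtCoh.bc (tr Xs h')).obj O) := by
    apply sch_ext (f := tr Xs h') (W := O)
    · rw [Category.assoc]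
      erw [e2]
      exact triIso_hom_prL (pr c k') (tr Xs h') (pr c k) (pr_tr c h') O
    · rw [Category.assoc]
      erw [e3]
      rw [← Category.assoc]
      have h1 : ((tcan c h').hom.app O).left ≫ ((EtCoh.bc (pr c k)).obj O).hom =
          ((EtCoh.bc (pr c k')).obj ((EtCoh.bc (tr Xs h')).obj O)).hom :=
        Over.w ((tcan c h').hom.app O).hom
      rw [h1]
      exact (prL_comp (pr c k') ((EtCoh.bc (tr Xs h')).obj O)).symm
  have hg₀ : g₀.left = fj := rfl
  calc ((tcan c h').hom.app O ≫ f).left ≫ prL (pr c j) W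
      = ((tcan c h').hom.app O).left ≫ f.left ≫ qY ≫ prL (tr Xs h) W := by
        rw [comp_left', Category.assoc, hq]
    _ = ((tcan c h').hom.app O).left ≫ (f.left ≫ sY) ≫ prL (tr Xs h') Wk ≫ prL (tr Xs h) W := by
        rw [← e4]; simp only [Category.assoc]
    _ = (((tcan c h').hom.app O).left ≫ sX) ≫ fj ≫ prL (tr Xs h') Wk ≫ prL (tr Xs h) W := by
        rw [← e6]; simp only [Category.assoc]
    _ = prL (pr c k') ((EtCoh.bc (tr Xs h')).obj O) ≫ g₀.left ≫
          ((scan h h').hom.app W).left ≫ prL (tr Xs (h.trans h')) W := by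
        rw [key, hg₀, triIso_hom_prL]
    _ = ((EtCoh.bc (pr c k')).map (g₀ ≫ (scan h h').hom.app W)).left ≫
          prL (pr c k') ((EtCoh.bc (tr Xs (h.trans h'))).obj W) ≫ prL (tr Xs (h.trans h')) W := by
        have hb := bc_map_prL (pr c k') (g₀ ≫ (scan h h').hom.app W)
        rw [reassoc_of% hb, comp_left', Category.assoc]
    _ = _ := by
        rw [comp_left', Category.assoc, triIso_hom_prL]

end Groth.Agent.Lib.Helper27.EtLimG
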