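import Groth.Agent.Lib.Helper27.EtLimG4

/-!
# Pieces of étale schemes over the limit (helper27)
-/

set_option autoImplicit false
set_option backward.isDefEq.respectTransparency false
set_option backward.isDefEq.respectTransparency.types false

universe u

open CategoryTheory CategoryTheory.Limits AlgebraicGeometry Opposite

namespace Groth.Agent.Lib.Helper27.EtLimG

open Groth.Agent.Lib.Helper27.EtLimA Groth.Agent.Lib.Helper27.EtLimD

variable {ι : Type u} [Preorder ι] {Xs : ιᵒᵖ ⥤ Scheme.{u}} (c : Cone Xs)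

/-- an étale scheme at a finite stage with a morphism from its base change to the limit -/
structure XPiece (V : c.pt.Etale) where
  /-- the stage -/
  k : ι
  /-- the étale scheme at the stage -/
  O : (Xs.obj (op k)).Etale
  /-- the morphism -/
  e : (EtCoh.bc (pr c k)).obj O ⟶ V

variable {c}
variable {V : c.pt.Etale}

/-- transport to a later stage -/
noncomputable def XPiece.up (Q : XPiece c V) {k' : ι} (h' : Q.k ≤ k') : XPiece c V where
  k := k'
  O := (EtCoh.bc (tr Xs h')).obj Q.O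
  e := (tcan c h').hom.app Q.O ≫ Q.e

lemma XPiece.up_range (Q : XPiece c V) {k' : ι} (h' : Q.k ≤ k') :
    Set.range (Q.up h').e.left = Set.range Q.e.left := by
  change Set.range (((tcan c h').hom.app Q.O).left ≫ Q.e.left) = _
  rw [Scheme.Hom.comp_base, TopCat.coe_comp, Set.range_comp]
  have : Function.Surjective ((tcan c h').hom.app Q.O).left := by
    have : IsIso ((tcan c h').hom.app Q.O).left :=
      (inferInstance : IsIso (leftIso ((tcan c h').app Q.O)).hom)
    exact ((tcan c h').hom.app Q.O).left.surjective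
  rw [Set.range_eq_univ.2 this, Set.image_univ]

section Desc

variable [IsDirected ι (· ≤ ·)] [Nonempty ι] (hc : IsLimit c)
  [∀ (a b : ιᵒᵖ) (h : a ⟶ b), IsAffineHom (Xs.map h)] [∀ a, CompactSpace ↥(Xs.obj a)]
  [∀ a, QuasiSeparatedSpace ↥(Xs.obj a)]

include hc in
/-- morphisms from a piece to a base change descend to a finite stage -/
theorem homDesc' (Q : XPiece c V) [CompactSpace Q.O.left] [QuasiSeparatedSpace Q.O.left] {j : ι}
    (W : (Xs.obj (op j)).Etale) [CompactSpace W.left] [QuasiSeparatedSpace W.left]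
    (a : V ⟶ (EtCoh.bc (pr c j)).obj W) :
    ∃ (k₁ : ι) (h₁ : Q.k ≤ k₁) (k₂ : ι) (h₂ : k₁ ≤ k₂) (hj : j ≤ k₂)
      (g : ((Q.up h₁).up h₂).O ⟶ (EtCoh.bc (tr Xs hj)).obj W),
      ((Q.up h₁).up h₂).e ≫ a = (EtCoh.bc (pr c k₂)).map g ≫ (tcan c hj).hom.app W := by
  obtain ⟨k₁, hj₁, h₁⟩ := exists_ge_ge j Q.k
  haveI : CompactSpace (Q.up h₁).O.left := compactSpace_bc_tr h₁ Q.O
  haveI : QuasiSeparatedSpace (Q.up h₁).O.left := quasiSeparatedSpace_bc_tr h₁ Q.O
  obtain ⟨k₂, h₂, g, hg⟩ := homDesc c hc hj₁ (Q.up h₁).O W ((Q.up h₁).e ≫ a)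
  refine ⟨k₁, h₁, k₂, h₂, hj₁.trans h₂, g, ?_⟩
  rw [← hg]
  exact Category.assoc _ _ _

end Desc

end Groth.Agent.Lib.Helper27.EtLimG
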