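import Groth.Agent.Lib.Helper27.EtLimF3

/-!
# Sections over pieces and their transport (helper27)
-/

set_option autoImplicit false
set_option backward.isDefEq.respectTransparency false
set_option backward.isDefEq.respectTransparency.types false

universe u

open CategoryTheory CategoryTheory.Limits AlgebraicGeometry Opposite GrothendieckTopology

namespace Groth.Agent.Lib.Helper27.EtLimH

open Groth.Agent.Lib.Helper27.EtLimA Groth.Agent.Lib.Helper27.EtLimB
  Groth.Agent.Lib.Helper27.EtLimC Groth.Agent.Lib.Helper27.EtLimD Groth.Agent.Lib.Helper27.EtLimG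
  Groth.Agent.Lib.Helper27.EtLimF Groth.Agent.Lib.Helper23.FinBC0

variable {ι : Type u} [Preorder ι] {Xs : ιᵒᵖ ⥤ Scheme.{u}} (c : Cone Xs) (S : Sys Xs)
  (cc : Cocone (S.G c))

lemma secMap_nat_apply {X Y : Scheme.{u}} (f : X ⟶ Y) {A : EtCoh.Ab Y} {B : EtCoh.Ab X}
    (γ : A ⟶ (EtCoh.push f).obj B) {U V : Y.Etale} (k : U ⟶ V) (s : A.obj.obj (op V)) :
    secMap f γ U (A.obj.map k.op s) = B.obj.map ((EtCoh.bc f).map k).op (secMap f γ V s) :=
  ConcreteCategory.congr_hom (secMap_naturality f γ k) s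

lemma map_comp_apply {X : Scheme.{u}} (A : EtCoh.Ab X) {U V T : X.Etale} (a : U ⟶ V) (b : V ⟶ T)
    (s : A.obj.obj (op T)) :
    A.obj.map (a ≫ b).op s = A.obj.map a.op (A.obj.map b.op s) := by
  rw [op_comp, A.obj.map_comp]
  rfl

lemma map_iso_apply {X : Scheme.{u}} (A : EtCoh.Ab X) {U V : X.Etale} (a : U ⟶ V) (b : V ⟶ U)
    (hab : a ≫ b = 𝟙 U) (s : A.obj.obj (op U)) :
    A.obj.map a.op (A.obj.map b.op s) = s := by
  rw [← map_comp_apply, hab]
  erw [A.obj.map_id]
  rfl

variable {j : ι} {W : (Xs.obj (op j)).Etale}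

lemma τ_trans_apply {j k m : ι} (h1 : j ≤ k) (h2 : k ≤ m) (W : (Xs.obj (op j)).Etale)
    (s : (S.F j).obj.obj (op W)) :
    secMap (tr Xs (h1.trans h2)) (S.τ (h1.trans h2)) W s =
      (S.F m).obj.map ((scan h1 h2).inv.app W).op
        (secMap (tr Xs h2) (S.τ h2) ((EtCoh.bc (tr Xs h1)).obj W)
          (secMap (tr Xs h1) (S.τ h1) W s)) :=
  ConcreteCategory.congr_hom (τ_sec_trans S h1 h2 W) s

lemma θ_trans_apply {j k : ι} (h : j ≤ k) (W : (Xs.obj (op j)).Etale)
    (s : (S.F j).obj.obj (op W)) :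
    secMap (pr c j) (S.θ c cc j) W s =
      cc.pt.obj.map ((tcan c h).inv.app W).op
        (secMap (pr c k) (S.θ c cc k) ((EtCoh.bc (tr Xs h)).obj W)
          (secMap (tr Xs h) (S.τ h) W s)) :=
  ConcreteCategory.congr_hom (θ_sec_trans c S cc h W) s

/-- the image in the limit of the transported section -/
lemma θ_up {j k : ι} (h : j ≤ k) (W : (Xs.obj (op j)).Etale) (s : (S.F j).obj.obj (op W)) :
    secMap (pr c k) (S.θ c cc k) ((EtCoh.bc (tr Xs h)).obj W) (secMap (tr Xs h) (S.τ h) W s) =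
      cc.pt.obj.map ((tcan c h).hom.app W).op (secMap (pr c j) (S.θ c cc j) W s) := by
  rw [θ_trans_apply c S cc h W s]
  exact (map_iso_apply cc.pt _ _ (Iso.hom_inv_id_app (tcan c h) W) _).symm

/-- restriction to a transported piece -/
lemma restr_up (P : Piece W) {k' : ι} (h' : P.k ≤ k') (s₀ : (S.F j).obj.obj (op W)) :
    (S.F k').obj.map (P.up h').g.op (secMap (tr Xs (P.h.trans h')) (S.τ (P.h.trans h')) W s₀) =
      secMap (tr Xs h') (S.τ h') P.O
        ((S.F P.k).obj.map P.g.op (secMap (tr Xs P.h) (S.τ P.h) W s₀)) := by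
  rw [τ_trans_apply S P.h h' W s₀, secMap_nat_apply]
  change (S.F k').obj.map ((EtCoh.bc (tr Xs h')).map P.g ≫ (scan P.h h').hom.app W).op _ = _
  rw [map_comp_apply]
  congr 1
  exact map_iso_apply (S.F k') _ _ (Iso.hom_inv_id_app (scan P.h h') W) _

/-- a section over a piece representing a section of the limit sheaf keeps doing so after
transport -/
lemma real_up (P : Piece W) {k' : ι} (h' : P.k ≤ k') (s : (S.F P.k).obj.obj (op P.O))
    (t : cc.pt.obj.obj (op ((EtCoh.bc (pr c j)).obj W)))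
    (hs : secMap (pr c P.k) (S.θ c cc P.k) P.O s = cc.pt.obj.map (P.real c).op t) :
    secMap (pr c k') (S.θ c cc k') (P.up h').O (secMap (tr Xs h') (S.τ h') P.O s) =
      cc.pt.obj.map ((P.up h').real c).op t := by
  change secMap (pr c k') (S.θ c cc k') ((EtCoh.bc (tr Xs h')).obj P.O) _ = _
  rw [θ_up, hs, P.up_real c h', map_comp_apply]
  rfl

end Groth.Agent.Lib.Helper27.EtLimH
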