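import Groth.Agent.Lib.Helper27.EtLimH

/-!
# Finite covers by pieces at a common stage (helper27)
-/

set_option autoImplicit false
set_option backward.isDefEq.respectTransparency false
set_option backward.isDefEq.respectTransparency.types false

universe u

open CategoryTheory CategoryTheory.Limits AlgebraicGeometry Opposite GrothendieckTopology

namespace Groth.Agent.Lib.Helper27.EtLimH

open Groth.Agent.Lib.Helper27.EtLimA Groth.Agent.Lib.Helper27.EtLimB
  Groth.Agent.Lib.Helper27.EtLimC Groth.Agent.Lib.Helper27.EtLimD Groth.Agent.Lib.Helper27.EtLimG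
  Groth.Agent.Lib.Helper27.EtLimF Groth.Agent.Lib.Helper23.FinBC0

variable {ι : Type u} [Preorder ι] [IsDirected ι (· ≤ ·)] [Nonempty ι] {Xs : ιᵒᵖ ⥤ Scheme.{u}}
  (c : Cone Xs) (hc : IsLimit c)
  [∀ (a b : ιᵒᵖ) (h : a ⟶ b), IsAffineHom (Xs.map h)] [∀ a, CompactSpace ↥(Xs.obj a)]
  [∀ a, QuasiSeparatedSpace ↥(Xs.obj a)]

include hc in
lemma compactSpace_bc_pr {j : ι} (W : (Xs.obj (op j)).Etale) [CompactSpace W.left] :
    CompactSpace ((EtCoh.bc (pr c j)).obj W).left := by
  have := isAffineHom_π_app Xs c hc (op j)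
  have := isAffineHom_prL (pr c j) W
  exact QuasiCompact.compactSpace_of_compactSpace (prL (pr c j) W)

include hc in
lemma quasiSeparatedSpace_bc_pr {j : ι} (W : (Xs.obj (op j)).Etale) [QuasiSeparatedSpace W.left] :
    QuasiSeparatedSpace ((EtCoh.bc (pr c j)).obj W).left := by
  have := isAffineHom_π_app Xs c hc (op j)
  have := isAffineHom_prL (pr c j) W
  exact quasiSeparatedSpace_of_quasiSeparated (prL (pr c j) W)

lemma left_inv_hom_apply {X : Scheme.{u}} {A B : X.Etale} (e : A ≅ B) (b : B.left) :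
    e.hom.left (e.inv.left b) = b := by
  have : e.inv.left ≫ e.hom.left = 𝟙 _ := by rw [← comp_left', e.inv_hom_id]; rfl
  exact congrArg (fun φ : B.left ⟶ B.left => φ b) this

lemma left_hom_inv_apply {X : Scheme.{u}} {A B : X.Etale} (e : A ≅ B) (a : A.left) :
    e.inv.left (e.hom.left a) = a := by
  have : e.hom.left ≫ e.inv.left = 𝟙 _ := by rw [← comp_left', e.hom_inv_id]; rfl
  exact congrArg (fun φ : A.left ⟶ A.left => φ a) this

lemma app_inv_hom_apply {X Y : Scheme.{u}} {F G : Y.Etale ⥤ X.Etale} (e : F ≅ G) (W : Y.Etale)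
    (b : (G.obj W).left) : (e.hom.app W).left ((e.inv.app W).left b) = b :=
  left_inv_hom_apply (e.app W) b

lemma app_hom_inv_apply {X Y : Scheme.{u}} {F G : Y.Etale ⥤ X.Etale} (e : F ≅ G) (W : Y.Etale)
    (a : (F.obj W).left) : (e.inv.app W).left ((e.hom.app W).left a) = a :=
  left_hom_inv_apply (e.app W) a

variable {j : ι} (W : (Xs.obj (op j)).Etale)

include hc in
/-- **pieces through every point give a finite cover at a finite stage** -/
theorem finCover [CompactSpace W.left]
    (P : ((EtCoh.bc (pr c j)).obj W).left → Piece W)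
    (hP : ∀ x, x ∈ Set.range ((P x).real c).left) :
    ∃ (t : Finset ((EtCoh.bc (pr c j)).obj W).left) (k' : ι) (hk : ∀ x ∈ t, (P x).k ≤ k')
      (hj : j ≤ k') (k'' : ι) (h'' : k' ≤ k''),
      ∀ w : ((EtCoh.bc (tr Xs (hj.trans h''))).obj W).left,
        ∃ (x : ((EtCoh.bc (pr c j)).obj W).left) (hx : x ∈ t)
          (n : (((P x).up (hk x hx)).up h'').O.left),
          (((P x).up (hk x hx)).up h'').g.left n = w := by
  classical
  haveI := compactSpace_bc_pr c hc W
  have hopen : ∀ x, IsOpen (Set.range ((P x).real c).left) := fun x =>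
    ((P x).real c).left.isOpenMap.isOpen_range
  obtain ⟨t, ht⟩ := isCompact_univ.elim_finite_subcover
    (fun x => Set.range ((P x).real c).left) hopen (fun x _ => Set.mem_iUnion.2 ⟨x, hP x⟩)
  obtain ⟨k', hk'⟩ := Finset.exists_le (insert j (t.image (fun x => (P x).k)))
  have hj : j ≤ k' := hk' j (Finset.mem_insert_self _ _)
  have hk : ∀ x ∈ t, (P x).k ≤ k' := fun x hx =>
    hk' _ (Finset.mem_insert_of_mem (Finset.mem_image_of_mem _ hx))
  let W' := (EtCoh.bc (tr Xs hj)).obj W
  let A := {x // x ∈ t}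
  let N : A → (Xs.obj (op k')).Etale := fun a => ((P a.1).up (hk a.1 a.2)).O
  let g : ∀ a : A, N a ⟶ W' := fun a => ((P a.1).up (hk a.1 a.2)).g
  have hsurj : ∀ w : ((EtCoh.bc (pr c k')).obj W').left,
      ∃ (a : A) (n : ((EtCoh.bc (pr c k')).obj (N a)).left),
        ((EtCoh.bc (pr c k')).map (g a)).left n = w := by
    intro w
    obtain ⟨x, hx⟩ := Set.mem_iUnion.1 (ht (Set.mem_univ (((tcan c hj).hom.app W).left w)))
    obtain ⟨hxt, o, ho⟩ := Set.mem_iUnion.1 hx
    refine ⟨⟨x, hxt⟩, ((tcan c (hk x hxt)).inv.app (P x).O).left o, ?_⟩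
    have e' : (((P x).up (hk x hxt)).real c).left =
        ((tcan c (hk x hxt)).hom.app (P x).O).left ≫ ((P x).real c).left := by
      rw [(P x).up_real c (hk x hxt)]; rfl
    have h1 : (((P x).up (hk x hxt)).real c).left (((tcan c (hk x hxt)).inv.app (P x).O).left o) =
        ((tcan c hj).hom.app W).left w :=
      calc (((P x).up (hk x hxt)).real c).left (((tcan c (hk x hxt)).inv.app (P x).O).left o)
          = (((tcan c (hk x hxt)).hom.app (P x).O).left ≫ ((P x).real c).left)
              (((tcan c (hk x hxt)).inv.app (P x).O).left o) :=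
            congrArg (fun φ : _ ⟶ ((EtCoh.bc (pr c j)).obj W).left => φ _) e'
        _ = ((P x).real c).left (((tcan c (hk x hxt)).hom.app (P x).O).left
              (((tcan c (hk x hxt)).inv.app (P x).O).left o)) := rfl
        _ = ((P x).real c).left o :=
            congrArg _ (app_inv_hom_apply (tcan c (hk x hxt)) (P x).O o)
        _ = _ := ho
    have h2 : (((P x).up (hk x hxt)).real c).left =
        ((EtCoh.bc (pr c k')).map (g ⟨x, hxt⟩)).left ≫ ((tcan c hj).hom.app W).left := rfl
    have h1' : ((tcan c hj).hom.app W).left (((EtCoh.bc (pr c k')).map (g ⟨x, hxt⟩)).left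
        (((tcan c (hk x hxt)).inv.app (P x).O).left o)) = ((tcan c hj).hom.app W).left w :=
      (congrArg (fun φ : _ ⟶ ((EtCoh.bc (pr c j)).obj W).left => φ _) h2).symm.trans h1
    have h3 := congrArg ((tcan c hj).inv.app W).left h1'
    exact ((app_hom_inv_apply (tcan c hj) W _).symm.trans h3).trans
      (app_hom_inv_apply (tcan c hj) W w)
  haveI : CompactSpace W'.left := compactSpace_bc_tr hj W
  obtain ⟨k'', h'', hcov⟩ := geoA c hc W' N g hsurj
  refine ⟨t, k', hk, hj, k'', h'', ?_⟩
  intro w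
  obtain ⟨a, n, hn⟩ := hcov (((scan hj h'').inv.app W).left w)
  refine ⟨a.1, a.2, n, ?_⟩
  change ((scan hj h'').hom.app W).left (((EtCoh.bc (tr Xs h'')).map (g a)).left n) = w
  exact (congrArg ((scan hj h'').hom.app W).left hn).trans (app_inv_hom_apply (scan hj h'') W w)

end Groth.Agent.Lib.Helper27.EtLimH
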