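import Groth.Agent.Lib.Helper27.EtLimH2
import Groth.Agent.Lib.Helper23.EtGlue2

/-!
# Sections dying in the limit die at a finite stage (helper27)
-/

set_option autoImplicit false
set_option backward.isDefEq.respectTransparency false
set_option backward.isDefEq.respectTransparency.types false

universe u

open CategoryTheory CategoryTheory.Limits AlgebraicGeometry Opposite GrothendieckTopology

namespace Groth.Agent.Lib.Helper27.EtLimH

open Groth.Agent.Lib.Helper27.EtLimA Groth.Agent.Lib.Helper27.EtLimB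
  Groth.Agent.Lib.Helper27.EtLimC Groth.Agent.Lib.Helper27.EtLimD Groth.Agent.Lib.Helper27.EtLimG
  Groth.Agent.Lib.Helper27.EtLimF Groth.Agent.Lib.Helper23.FinBC0
  Groth.Agent.Lib.Helper23.FinPushFiber

section Sheaf

variable {X : Scheme.{u}} (G : EtCoh.Ab X)

theorem isSheaf_forget : Presieve.IsSheaf X.smallEtaleTopology
    (G.obj ⋙ forget AddCommGrpCat.{u + 1}) :=
  (isSheaf_iff_isSheaf_of_type _ _).1
    ((Presheaf.isSheaf_iff_isSheaf_forget X.smallEtaleTopology G.obj
      (forget AddCommGrpCat.{u + 1})).1 G.property)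

/-- separatedness for jointly surjective families -/
theorem sheaf_sep {U : X.Etale} {A : Type*} (N : A → X.Etale) (g : ∀ a, N a ⟶ U)
    (hsurj : ∀ w : U.left, ∃ (a : A) (n : (N a).left), (g a).left n = w)
    (x y : G.obj.obj (op U)) (h : ∀ a, G.obj.map (g a).op x = G.obj.map (g a).op y) : x = y := by
  have hS : Sieve.ofArrows N g ∈ X.smallEtaleTopology U := by
    apply Groth.Agent.Lib.Helper23.EtGlue.sieve_mem_of_forall_point
    intro u
    obtain ⟨a, n, hn⟩ := hsurj u
    exact ⟨N a, g a, Sieve.ofArrows_mk _ _ a, ⟨n, hn⟩⟩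
  refine (isSheaf_forget G _ hS).isSeparatedFor.ext (fun V f hf => ?_)
  obtain ⟨T, b, _, ⟨a⟩, rfl⟩ := hf
  change G.obj.map (b ≫ g a).op x = G.obj.map (b ≫ g a).op y
  rw [map_comp_apply, map_comp_apply, h a]

end Sheaf

section Point

variable {X Y : Scheme.{u}} (f : X ⟶ Y)

/-- a geometric point through a given point of a base change -/
lemma exists_geom_point (W : Y.Etale) (x : ((EtCoh.bc f).obj W).left) :
    ∃ (Ω : Type u) (_ : Field Ω) (_ : IsSepClosed Ω) (ξ : Spec (CommRingCat.of Ω) ⟶ X)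
      (w : (Scheme.pointSmallEtale (ξ ≫ f)).fiber.obj W),
      Groth.Agent.Lib.Helper23.LCPull.pt ξ _ (liftpt ξ rfl W w) = x := by
  let x₀ := ((EtCoh.bc f).obj W).hom x
  let ξ := Groth.Agent.Lib.Helper23.FlcConn.geomPt x₀
  obtain ⟨v, hv⟩ := Scheme.pointSmallEtaleFiberObjToPreimage_surjective ξ
    (Groth.Agent.Lib.Helper23.FlcConn.geomPt_default x₀) ((EtCoh.bc f).obj W) ⟨x, rfl⟩
  have hvl : (v.left : Spec _ ⟶ ((EtCoh.bc f).obj W).left) ≫ ((EtCoh.bc f).obj W).hom = ξ :=
    Over.w v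
  let w : (Scheme.pointSmallEtale (ξ ≫ f)).fiber.obj W :=
    Over.homMk ((v.left : Spec _ ⟶ ((EtCoh.bc f).obj W).left) ≫ prL f W) (by
      change ((v.left : Spec _ ⟶ ((EtCoh.bc f).obj W).left) ≫ prL f W) ≫ W.hom = ξ ≫ f
      rw [Category.assoc, prL_comp, ← Category.assoc, hvl])
  refine ⟨_, inferInstance, inferInstance, ξ, w, ?_⟩
  have e : liftpt ξ rfl W w = v := by
    apply fiber_bc_ext
    erw [liftpt_left_fst]
    rfl
  rw [e]
  exact congrArg Subtype.val hv

end Point

end Groth.Agent.Lib.Helper27.EtLimH
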