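import Groth.Agent.Lib.Helper27.EtLimH3

/-!
# Sections dying in the limit die at a finite stage, II (helper27)
-/

set_option autoImplicit false
set_option backward.isDefEq.respectTransparency false
set_option backward.isDefEq.respectTransparency.types false

universe u

open CategoryTheory CategoryTheory.Limits AlgebraicGeometry Opposite GrothendieckTopology

namespace Groth.Agent.Lib.Helper27.EtLimH

open Groth.Agent.Lib.Helper27.EtLimA Groth.Agent.Lib.Helper27.EtLimB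
  Groth.Agent.Lib.Helper27.EtLimC Groth.Agent.Lib.Helper27.EtLimD Groth.Agent.Lib.Helper27.EtLimG
  Groth.Agent.Lib.Helper27.EtLimF Groth.Agent.Lib.Helper23.FinBC0
  Groth.Agent.Lib.Helper23.FinPushFiber Groth.Agent.Lib.Helper23.LCPull

variable {ι : Type u} [Preorder ι] [IsDirected ι (· ≤ ·)] [Nonempty ι] {Xs : ιᵒᵖ ⥤ Scheme.{u}}
  (c : Cone Xs) (hc : IsLimit c)
  [∀ (a b : ιᵒᵖ) (h : a ⟶ b), IsAffineHom (Xs.map h)] [∀ a, CompactSpace ↥(Xs.obj a)]
  [∀ a, QuasiSeparatedSpace ↥(Xs.obj a)]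
  (S : Sys Xs) (cc : Cocone (S.G c)) (hcc : IsColimit cc)

/-- the realization of a piece through a lifted geometric point -/
lemma real_liftpt {Ω : Type u} [Field Ω] [IsSepClosed Ω] (ξ : Spec (CommRingCat.of Ω) ⟶ c.pt)
    {j : ι} {W : (Xs.obj (op j)).Etale} (P : Piece W)
    (w : (Scheme.pointSmallEtale (ξ ≫ pr c j)).fiber.obj W)
    (n : (Scheme.pointSmallEtale (ξ ≫ pr c P.k)).fiber.obj P.O)
    (hn : (Scheme.pointSmallEtale (ξ ≫ pr c P.k)).fiber.map P.g n =
      liftpt (ξ ≫ pr c P.k) (hξ c ξ P.h) W w) :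
    (Scheme.pointSmallEtale ξ).fiber.map (P.real c) (liftpt ξ rfl P.O n) = liftpt ξ rfl W w := by
  unfold Piece.real
  rw [(Scheme.pointSmallEtale ξ).fiber.map_comp]
  change (Scheme.pointSmallEtale ξ).fiber.map ((tcan c P.h).hom.app W)
    ((Scheme.pointSmallEtale ξ).fiber.map ((EtCoh.bc (pr c P.k)).map P.g) (liftpt ξ rfl P.O n)) = _
  rw [liftpt_map, hn, liftpt_tcan]

include hcc in
/-- locally, a section dying in the limit dies at a finite stage -/
lemma P2_local {j : ι} (W : (Xs.obj (op j)).Etale) (s : (S.F j).obj.obj (op W))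
    (hs : secMap (pr c j) (S.θ c cc j) W s = 0) (x : ((EtCoh.bc (pr c j)).obj W).left) :
    ∃ P : Piece W, x ∈ Set.range (P.real c).left ∧
      (S.F P.k).obj.map P.g.op (secMap (tr Xs P.h) (S.τ P.h) W s) = 0 := by
  obtain ⟨Ω, hF, hS, ξ, w, hx⟩ := exists_geom_point (pr c j) W x
  obtain ⟨k, h, N, g, n, hn, hg⟩ := stalkInj c S cc hcc ξ j W w s hs
  refine ⟨⟨k, h, N, g⟩, ⟨pt ξ _ (liftpt ξ rfl N n), ?_⟩, hg⟩
  rw [← hx, ← real_liftpt c ξ ⟨k, h, N, g⟩ w n hn]
  rfl

include hc hcc in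
/-- **a section over a quasi-compact object dying in the limit dies at a finite stage** -/
theorem P2 {j : ι} (W : (Xs.obj (op j)).Etale) [CompactSpace W.left] (s : (S.F j).obj.obj (op W))
    (hs : secMap (pr c j) (S.θ c cc j) W s = 0) :
    ∃ (k : ι) (h : j ≤ k), secMap (tr Xs h) (S.τ h) W s = 0 := by
  choose P hP1 hP2 using P2_local c S cc hcc W s hs
  obtain ⟨t, k', hk, hj, k'', h'', hcov⟩ := finCover c hc W P hP1
  refine ⟨k'', hj.trans h'', ?_⟩
  refine sheaf_sep (S.F k'') (A := {x // x ∈ t}) (fun a => (((P a.1).up (hk a.1 a.2)).up h'').O)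
    (fun a => (((P a.1).up (hk a.1 a.2)).up h'').g) ?_ _ 0 ?_
  · intro w
    obtain ⟨x, hx, n, hn⟩ := hcov w
    exact ⟨⟨x, hx⟩, n, hn⟩
  · intro a
    rw [map_zero]
    have e1 := restr_up S ((P a.1).up (hk a.1 a.2)) h'' s
    have e2 := restr_up S (P a.1) (hk a.1 a.2) s
    rw [hP2 a.1, map_zero] at e2
    refine e1.trans ?_
    erw [e2]
    exact map_zero _

end Groth.Agent.Lib.Helper27.EtLimH
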