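import Groth.Agent.Lib.Helper27.EtLimH4
import Groth.Agent.Lib.Helper27.EtLimG5

/-!
# Sections of the limit sheaf come from a finite stage, locally (helper27)
-/

set_option autoImplicit false
set_option backward.isDefEq.respectTransparency false
set_option backward.isDefEq.respectTransparency.types false

universe u

open CategoryTheory CategoryTheory.Limits AlgebraicGeometry Opposite GrothendieckTopology

namespace Groth.Agent.Lib.Helper27.EtLimH

open Groth.Agent.Lib.Helper27.EtLimA Groth.Agent.Lib.Helper27.EtLimB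
  Groth.Agent.Lib.Helper27.EtLimC Groth.Agent.Lib.Helper27.EtLimD Groth.Agent.Lib.Helper27.EtLimG
  Groth.Agent.Lib.Helper27.EtLimF Groth.Agent.Lib.Helper23.FinBC0
  Groth.Agent.Lib.Helper23.FinPushFiber Groth.Agent.Lib.Helper23.LCPull

variable {ι : Type u} [Preorder ι] [IsDirected ι (· ≤ ·)] [Nonempty ι] {Xs : ιᵒᵖ ⥤ Scheme.{u}}
  (c : Cone Xs) (hc : IsLimit c)
  [∀ (a b : ιᵒᵖ) (h : a ⟶ b), IsAffineHom (Xs.map h)] [∀ a, CompactSpace ↥(Xs.obj a)]
  [∀ a, QuasiSeparatedSpace ↥(Xs.obj a)]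
  (S : Sys Xs) (cc : Cocone (S.G c)) (hcc : IsColimit cc)

include hc hcc in
/-- locally, a section of the limit sheaf comes from a finite stage -/
lemma P1_local {j : ι} (W : (Xs.obj (op j)).Etale) [CompactSpace W.left]
    [QuasiSeparatedSpace W.left] (t : cc.pt.obj.obj (op ((EtCoh.bc (pr c j)).obj W)))
    (x : ((EtCoh.bc (pr c j)).obj W).left) :
    ∃ (P : Piece W) (s : (S.F P.k).obj.obj (op P.O)), CompactSpace P.O.left ∧
      QuasiSeparatedSpace P.O.left ∧ x ∈ Set.range (P.real c).left ∧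
      secMap (pr c P.k) (S.θ c cc P.k) P.O s = cc.pt.obj.map (P.real c).op t := by
  obtain ⟨Ω, hF, hS, ξ, w, hx⟩ := exists_geom_point (pr c j) W x
  obtain ⟨kN, N, n, s₁, V', a, b, v', haff, hv1, hv2, hab⟩ :=
    stalkSurj c S cc hcc ξ ((EtCoh.bc (pr c j)).obj W) (liftpt ξ rfl W w) t
  obtain ⟨k₀, O₀, e₀, hO1, hO2, hxe⟩ := geoB c hc V' (pt ξ V' v')
  let Q₀ : XPiece c V' := ⟨k₀, O₀, e₀⟩
  haveI : CompactSpace Q₀.O.left := hO1
  haveI : QuasiSeparatedSpace Q₀.O.left := hO2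
  obtain ⟨k₁, h₁, k₂, h₂, hj, gW, hgW⟩ := homDesc' hc Q₀ W a
  let Q₂ := (Q₀.up h₁).up h₂
  haveI : CompactSpace (Q₀.up h₁).O.left := compactSpace_bc_tr h₁ Q₀.O
  haveI : QuasiSeparatedSpace (Q₀.up h₁).O.left := quasiSeparatedSpace_bc_tr h₁ Q₀.O
  haveI : CompactSpace Q₂.O.left := compactSpace_bc_tr h₂ (Q₀.up h₁).O
  haveI : QuasiSeparatedSpace Q₂.O.left := quasiSeparatedSpace_bc_tr h₂ (Q₀.up h₁).O
  haveI : CompactSpace N.left := inferInstance
  haveI : QuasiSeparatedSpace N.left := inferInstance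
  obtain ⟨k₃, h₃, k₄, h₄, hN, gN, hgN⟩ := homDesc' hc Q₂ N b
  let Q₄ := (Q₂.up h₃).up h₄
  let P₂ : Piece W := ⟨k₂, hj, Q₂.O, gW⟩
  let P : Piece W := (P₂.up h₃).up h₄
  have hreal : P.real c = Q₄.e ≫ a := by
    rw [(P₂.up h₃).up_real c h₄, P₂.up_real c h₃]
    change _ ≫ _ ≫ ((EtCoh.bc (pr c k₂)).map gW ≫ (tcan c hj).hom.app W) = _
    rw [← hgW]
    change _ = ((tcan c h₄).hom.app _ ≫ (tcan c h₃).hom.app _ ≫ Q₂.e) ≫ a
    simp only [Category.assoc]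
    rfl
  let s : (S.F k₄).obj.obj (op Q₄.O) := (S.F k₄).obj.map gN.op (secMap (tr Xs hN) (S.τ hN) N s₁)
  haveI : CompactSpace (Q₂.up h₃).O.left := compactSpace_bc_tr h₃ Q₂.O
  haveI : QuasiSeparatedSpace (Q₂.up h₃).O.left := quasiSeparatedSpace_bc_tr h₃ Q₂.O
  refine ⟨P, s, compactSpace_bc_tr h₄ (Q₂.up h₃).O, quasiSeparatedSpace_bc_tr h₄ (Q₂.up h₃).O,
    ?_, ?_⟩
  · -- the point
    have hr : Set.range Q₄.e.left = Set.range e₀.left := by
      rw [(Q₂.up h₃).up_range h₄, Q₂.up_range h₃, (Q₀.up h₁).up_range h₂, Q₀.up_range h₁]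
    rw [← hr] at hxe
    obtain ⟨o, ho⟩ := hxe
    refine ⟨o, ?_⟩
    rw [hreal]
    change a.left (Q₄.e.left o) = x
    rw [ho, ← hx, ← hv1]
    rfl
  · -- the section
    rw [hreal]
    change secMap (pr c k₄) (S.θ c cc k₄) Q₄.O s = _
    rw [map_comp_apply, hab, ← map_comp_apply, hgN, map_comp_apply]
    exact (secMap_nat_apply (pr c k₄) (S.θ c cc k₄) gN _).trans
      (congrArg _ (θ_up c S cc hN N s₁))

end Groth.Agent.Lib.Helper27.EtLimH
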