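import Groth.Agent.Lib.Helper27.EtLimH5

/-!
# Gluing sections at a finite stage (helper27)
-/

set_option autoImplicit false
set_option backward.isDefEq.respectTransparency false
set_option backward.isDefEq.respectTransparency.types false

universe u

open CategoryTheory CategoryTheory.Limits AlgebraicGeometry Opposite GrothendieckTopology

namespace Groth.Agent.Lib.Helper27.EtLimH

open Groth.Agent.Lib.Helper27.EtLimA Groth.Agent.Lib.Helper27.EtLimB
  Groth.Agent.Lib.Helper27.EtLimC Groth.Agent.Lib.Helper27.EtLimD Groth.Agent.Lib.Helper27.EtLimG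
  Groth.Agent.Lib.Helper27.EtLimF Groth.Agent.Lib.Helper23.FinBC0
  Groth.Agent.Lib.Helper23.FinPushFiber Groth.Agent.Lib.Helper23.LCPull

section Sheaf

variable {X : Scheme.{u}} (G : EtCoh.Ab X)

/-- gluing for jointly surjective families -/
theorem sheaf_glue {U : X.Etale} {A : Type*} (N : A → X.Etale) (g : ∀ a, N a ⟶ U)
    (hsurj : ∀ w : U.left, ∃ (a : A) (n : (N a).left), (g a).left n = w)
    (x : ∀ a, G.obj.obj (op (N a)))
    (hx : ∀ (a b : A) (T : X.Etale) (p : T ⟶ N a) (q : T ⟶ N b), p ≫ g a = q ≫ g b →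
      G.obj.map p.op (x a) = G.obj.map q.op (x b)) :
    ∃ t : G.obj.obj (op U), ∀ a, G.obj.map (g a).op t = x a := by
  have hS : Sieve.ofArrows N g ∈ X.smallEtaleTopology U := by
    apply Groth.Agent.Lib.Helper23.EtGlue.sieve_mem_of_forall_point
    intro u
    obtain ⟨a, n, hn⟩ := hsurj u
    exact ⟨N a, g a, Sieve.ofArrows_mk _ _ a, ⟨n, hn⟩⟩
  have h1 : Presieve.IsSheafFor (G.obj ⋙ forget AddCommGrpCat.{u + 1}) (Presieve.ofArrows N g) :=
    (Presieve.isSheafFor_iff_generate _).2 (isSheaf_forget G _ hS)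
  obtain ⟨t, ht, -⟩ := (Presieve.isSheafFor_arrows_iff _ _).1 h1 x
    (fun a b T p q hpq => hx a b T p q hpq)
  exact ⟨t, ht⟩

lemma compactSpace_pullback {A B U : X.Etale} (f : A ⟶ U) (g : B ⟶ U) [CompactSpace A.left]
    [CompactSpace B.left] [QuasiSeparatedSpace U.left] : CompactSpace (pullback f g).left := by
  have h : IsPullback (pullback.fst f g).left (pullback.snd f g).left f.left g.left :=
    ((IsPullback.of_hasPullback f g).map (Scheme.Etale.forget X)).map (Over.forget X)
  have hf : QuasiCompact f.left := inferInstance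
  have hs : QuasiCompact (pullback.snd f g).left :=
    MorphismProperty.of_isPullback (P := @QuasiCompact) h hf
  exact QuasiCompact.compactSpace_of_compactSpace (pullback.snd f g).left

/-- a morphism into a pullback of a functor preserving it -/
lemma exists_lift_bc {Y : Scheme.{u}} (f : Y ⟶ X) {A B U : X.Etale} (a : A ⟶ U) (b : B ⟶ U)
    {T : Y.Etale} (p : T ⟶ (EtCoh.bc f).obj A) (q : T ⟶ (EtCoh.bc f).obj B)
    (h : p ≫ (EtCoh.bc f).map a = q ≫ (EtCoh.bc f).map b) :
    ∃ l : T ⟶ (EtCoh.bc f).obj (pullback a b),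
      l ≫ (EtCoh.bc f).map (pullback.fst a b) = p ∧
      l ≫ (EtCoh.bc f).map (pullback.snd a b) = q := by
  have hp : IsPullback ((EtCoh.bc f).map (pullback.fst a b)) ((EtCoh.bc f).map (pullback.snd a b))
      ((EtCoh.bc f).map a) ((EtCoh.bc f).map b) := (IsPullback.of_hasPullback a b).map (EtCoh.bc f)
  exact ⟨hp.lift p q h, hp.lift_fst _ _ _, hp.lift_snd _ _ _⟩

end Sheaf

end Groth.Agent.Lib.Helper27.EtLimH
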