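import Groth.Agent.Lib.Helper27.EtLimH6

/-!
# Sections of the limit sheaf come from a finite stage (helper27)
-/

set_option autoImplicit false
set_option backward.isDefEq.respectTransparency false
set_option backward.isDefEq.respectTransparency.types false

universe u

open CategoryTheory CategoryTheory.Limits AlgebraicGeometry Opposite GrothendieckTopology

namespace Groth.Agent.Lib.Helper27.EtLimH

open Groth.Agent.Lib.Helper27.EtLimA Groth.Agent.Lib.Helper27.EtLimB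
  Groth.Agent.Lib.Helper27.EtLimC Groth.Agent.Lib.Helper27.EtLimD Groth.Agent.Lib.Helper27.EtLimG
  Groth.Agent.Lib.Helper27.EtLimF Groth.Agent.Lib.Helper23.FinBC0
  Groth.Agent.Lib.Helper23.FinPushFiber Groth.Agent.Lib.Helper23.LCPull

variable {ι : Type u} [Preorder ι] [IsDirected ι (· ≤ ·)] [Nonempty ι] {Xs : ιᵒᵖ ⥤ Scheme.{u}}
  (c : Cone Xs) (hc : IsLimit c)
  [∀ (a b : ιᵒᵖ) (h : a ⟶ b), IsAffineHom (Xs.map h)] [∀ a, CompactSpace ↥(Xs.obj a)]
  [∀ a, QuasiSeparatedSpace ↥(Xs.obj a)]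
  (S : Sys Xs) (cc : Cocone (S.G c)) (hcc : IsColimit cc)

include hc hcc in
/-- gluing compatible sections over a finite cover at a finite stage -/
theorem P1_glue {j k : ι} (hjk : j ≤ k) (W : (Xs.obj (op j)).Etale) [QuasiSeparatedSpace W.left]
    (t : cc.pt.obj.obj (op ((EtCoh.bc (pr c j)).obj W))) {A : Type*} [Finite A]
    (N : A → (Xs.obj (op k)).Etale) (g : ∀ a, N a ⟶ (EtCoh.bc (tr Xs hjk)).obj W)
    (hN : ∀ a, CompactSpace (N a).left)
    (hsurj : ∀ w : ((EtCoh.bc (tr Xs hjk)).obj W).left,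
      ∃ (a : A) (n : (N a).left), (g a).left n = w)
    (s : ∀ a, (S.F k).obj.obj (op (N a)))
    (hs : ∀ a, secMap (pr c k) (S.θ c cc k) (N a) (s a) =
      cc.pt.obj.map ((EtCoh.bc (pr c k)).map (g a) ≫ (tcan c hjk).hom.app W).op t) :
    ∃ (k₁ : ι) (h : j ≤ k₁) (s' : (S.F k₁).obj.obj (op ((EtCoh.bc (tr Xs h)).obj W))),
      secMap (pr c k₁) (S.θ c cc k₁) ((EtCoh.bc (tr Xs h)).obj W) s' =
        cc.pt.obj.map ((tcan c h).hom.app W).op t := by
  classical
  haveI := Fintype.ofFinite A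
  let Wk := (EtCoh.bc (tr Xs hjk)).obj W
  haveI : QuasiSeparatedSpace Wk.left := quasiSeparatedSpace_bc_tr hjk W
  -- the overlaps
  let O : A × A → (Xs.obj (op k)).Etale := fun ab => pullback (g ab.1) (g ab.2)
  let d : ∀ ab, (S.F k).obj.obj (op (O ab)) := fun ab =>
    (S.F k).obj.map (pullback.fst (g ab.1) (g ab.2)).op (s ab.1) -
      (S.F k).obj.map (pullback.snd (g ab.1) (g ab.2)).op (s ab.2)
  have hd : ∀ ab, secMap (pr c k) (S.θ c cc k) (O ab) (d ab) = 0 := by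
    intro ab
    have e1 := secMap_nat_apply (pr c k) (S.θ c cc k) (pullback.fst (g ab.1) (g ab.2)) (s ab.1)
    have e2 := secMap_nat_apply (pr c k) (S.θ c cc k) (pullback.snd (g ab.1) (g ab.2)) (s ab.2)
    rw [hs, ← map_comp_apply] at e1 e2
    have e3 : (EtCoh.bc (pr c k)).map (pullback.fst (g ab.1) (g ab.2)) ≫
        (EtCoh.bc (pr c k)).map (g ab.1) ≫ (tcan c hjk).hom.app W =
        (EtCoh.bc (pr c k)).map (pullback.snd (g ab.1) (g ab.2)) ≫
        (EtCoh.bc (pr c k)).map (g ab.2) ≫ (tcan c hjk).hom.app W := by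
      rw [← Category.assoc, ← Category.assoc, ← Functor.map_comp, ← Functor.map_comp,
        pullback.condition]
    rw [e3] at e1
    change secMap (pr c k) (S.θ c cc k) (O ab) (_ - _) = 0
    rw [map_sub, sub_eq_zero]
    exact e1.trans e2.symm
  have hO : ∀ ab, CompactSpace (O ab).left := fun ab => by
    haveI := hN ab.1
    haveI := hN ab.2
    exact compactSpace_pullback _ _
  have hP2 : ∀ ab, ∃ (k' : ι) (h' : k ≤ k'), secMap (tr Xs h') (S.τ h') (O ab) (d ab) = 0 :=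
    fun ab => by
      haveI := hO ab
      exact P2 c hc S cc hcc (O ab) (d ab) (hd ab)
  choose kk hkk hdk using hP2
  obtain ⟨k₁, hk₁⟩ := Finset.exists_le (insert k ((Finset.univ : Finset (A × A)).image kk))
  have h₁ : k ≤ k₁ := hk₁ k (Finset.mem_insert_self _ _)
  have hkk₁ : ∀ ab, kk ab ≤ k₁ := fun ab =>
    hk₁ _ (Finset.mem_insert_of_mem (Finset.mem_image_of_mem _ (Finset.mem_univ ab)))
  have hd₁ : ∀ ab, secMap (tr Xs h₁) (S.τ h₁) (O ab) (d ab) = 0 := by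
    intro ab
    have := τ_trans_apply S (hkk ab) (hkk₁ ab) (O ab) (d ab)
    rw [hdk ab, map_zero, map_zero] at this
    exact this
  -- gluing
  let u : ∀ a, (S.F k₁).obj.obj (op ((EtCoh.bc (tr Xs h₁)).obj (N a))) := fun a =>
    secMap (tr Xs h₁) (S.τ h₁) (N a) (s a)
  have hsurj₁ : ∀ w : ((EtCoh.bc (tr Xs h₁)).obj Wk).left,
      ∃ (a : A) (n : ((EtCoh.bc (tr Xs h₁)).obj (N a)).left),
        ((EtCoh.bc (tr Xs h₁)).map (g a)).left n = w := by
    intro w
    obtain ⟨a, n₀, hn₀⟩ := hsurj ((prL (tr Xs h₁) Wk) w)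
    obtain ⟨z, hz⟩ := exists_bc_map_point (tr Xs h₁) (g a) w n₀ hn₀
    exact ⟨a, z, hz⟩
  obtain ⟨u₀, hu₀⟩ := sheaf_glue (S.F k₁) (fun a => (EtCoh.bc (tr Xs h₁)).obj (N a))
    (fun a => (EtCoh.bc (tr Xs h₁)).map (g a)) hsurj₁ u (by
      intro a b T p q hpq
      obtain ⟨l, hl1, hl2⟩ := exists_lift_bc (tr Xs h₁) (g a) (g b) p q hpq
      rw [← hl1, ← hl2, map_comp_apply, map_comp_apply]
      congr 1
      have e1 := secMap_nat_apply (tr Xs h₁) (S.τ h₁) (pullback.fst (g a) (g b)) (s a)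
      have e2 := secMap_nat_apply (tr Xs h₁) (S.τ h₁) (pullback.snd (g a) (g b)) (s b)
      refine e1.symm.trans (Eq.trans ?_ e2)
      have := hd₁ (a, b)
      change secMap (tr Xs h₁) (S.τ h₁) (O (a, b)) (_ - _) = 0 at this
      rw [map_sub, sub_eq_zero] at this
      exact this)
  refine ⟨k₁, hjk.trans h₁, (S.F k₁).obj.map ((scan hjk h₁).inv.app W).op u₀, ?_⟩
  let Pa : A → Piece W := fun a => ⟨k, hjk, N a, g a⟩
  refine sheaf_sep cc.pt (fun a => (EtCoh.bc (pr c k₁)).obj ((Pa a).up h₁).O)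
    (fun a => (EtCoh.bc (pr c k₁)).map ((Pa a).up h₁).g) ?_ _ _ ?_
  · intro w
    obtain ⟨a, n, hn⟩ := hsurj₁ (((scan hjk h₁).inv.app W).left
      ((prL (pr c k₁) ((EtCoh.bc (tr Xs (hjk.trans h₁))).obj W)) w))
    have h2 : ((Pa a).up h₁).g.left n =
        (prL (pr c k₁) ((EtCoh.bc (tr Xs (hjk.trans h₁))).obj W)) w :=
      (congrArg ((scan hjk h₁).hom.app W).left hn).trans (app_inv_hom_apply (scan hjk h₁) W _)
    obtain ⟨z, hz⟩ := exists_bc_map_point (pr c k₁) ((Pa a).up h₁).g w n h2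
    exact ⟨a, z, hz⟩
  · intro a
    have e0 := secMap_nat_apply (pr c k₁) (S.θ c cc k₁) ((Pa a).up h₁).g
      ((S.F k₁).obj.map ((scan hjk h₁).inv.app W).op u₀)
    have e1 : (S.F k₁).obj.map ((Pa a).up h₁).g.op
        ((S.F k₁).obj.map ((scan hjk h₁).inv.app W).op u₀) = u a := by
      change (S.F k₁).obj.map
        ((EtCoh.bc (tr Xs h₁)).map (g a) ≫ (scan hjk h₁).hom.app W).op _ = _
      rw [map_comp_apply]
      exact (congrArg _ (map_iso_apply (S.F k₁) ((scan hjk h₁).hom.app W)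
        ((scan hjk h₁).inv.app W) (Iso.hom_inv_id_app _ _) u₀)).trans (hu₀ a)
    rw [e1] at e0
    have e2 := real_up c S cc (Pa a) h₁ (s a) t (hs a)
    refine e0.symm.trans (e2.trans ?_)
    exact map_comp_apply cc.pt ((EtCoh.bc (pr c k₁)).map ((Pa a).up h₁).g)
      ((tcan c (hjk.trans h₁)).hom.app W) t

end Groth.Agent.Lib.Helper27.EtLimH

namespace Groth.Agent.Lib.Helper27.EtLimH

open Groth.Agent.Lib.Helper27.EtLimA Groth.Agent.Lib.Helper27.EtLimB
  Groth.Agent.Lib.Helper27.EtLimC Groth.Agent.Lib.Helper27.EtLimD Groth.Agent.Lib.Helper27.EtLimG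
  Groth.Agent.Lib.Helper27.EtLimF Groth.Agent.Lib.Helper23.FinBC0
  Groth.Agent.Lib.Helper23.FinPushFiber Groth.Agent.Lib.Helper23.LCPull

variable {ι : Type u} [Preorder ι] [IsDirected ι (· ≤ ·)] [Nonempty ι] {Xs : ιᵒᵖ ⥤ Scheme.{u}}
  (c : Cone Xs) (hc : IsLimit c)
  [∀ (a b : ιᵒᵖ) (h : a ⟶ b), IsAffineHom (Xs.map h)] [∀ a, CompactSpace ↥(Xs.obj a)]
  [∀ a, QuasiSeparatedSpace ↥(Xs.obj a)]
  (S : Sys Xs) (cc : Cocone (S.G c)) (hcc : IsColimit cc)

include hc hcc in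
/-- **a section of the limit sheaf over a quasi-compact quasi-separated object comes from a
finite stage** -/
theorem P1 {j : ι} (W : (Xs.obj (op j)).Etale) [CompactSpace W.left] [QuasiSeparatedSpace W.left]
    (t : cc.pt.obj.obj (op ((EtCoh.bc (pr c j)).obj W))) :
    ∃ (k : ι) (h : j ≤ k) (s : (S.F k).obj.obj (op ((EtCoh.bc (tr Xs h)).obj W))),
      secMap (pr c k) (S.θ c cc k) ((EtCoh.bc (tr Xs h)).obj W) s =
        cc.pt.obj.map ((tcan c h).hom.app W).op t := by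
  choose P s hP1 hP2 hP3 hP4 using P1_local c hc S cc hcc W t
  obtain ⟨T, k', hk, hj, k'', h'', hcov⟩ := finCover c hc W P hP3
  refine P1_glue c hc S cc hcc (hj.trans h'') W t (A := {x // x ∈ T})
    (fun a => (((P a.1).up (hk a.1 a.2)).up h'').O)
    (fun a => (((P a.1).up (hk a.1 a.2)).up h'').g) ?_ ?_
    (fun a => secMap (tr Xs h'') (S.τ h'') ((P a.1).up (hk a.1 a.2)).O
      (secMap (tr Xs (hk a.1 a.2)) (S.τ (hk a.1 a.2)) (P a.1).O (s a.1))) ?_
  · intro a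
    haveI := hP1 a.1
    haveI : CompactSpace ((P a.1).up (hk a.1 a.2)).O.left := compactSpace_bc_tr (hk a.1 a.2) (P a.1).O
    exact compactSpace_bc_tr h'' ((P a.1).up (hk a.1 a.2)).O
  · intro w
    obtain ⟨x, hx, n, hn⟩ := hcov w
    exact ⟨⟨x, hx⟩, n, hn⟩
  · intro a
    have e1 := real_up c S cc (P a.1) (hk a.1 a.2) (s a.1) t (hP4 a.1)
    exact real_up c S cc ((P a.1).up (hk a.1 a.2)) h'' _ t e1

end Groth.Agent.Lib.Helper27.EtLimH
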