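import Mathlib.Algebra.Homology.DerivedCategory.Ext.ExactSequences
import Mathlib.Algebra.Homology.DerivedCategory.Ext.EnoughInjectives
import Mathlib.CategoryTheory.Abelian.GrothendieckAxioms.Basic
import Mathlib.CategoryTheory.Filtered.Basic
import Mathlib.CategoryTheory.Limits.FunctorCategory.Basic
import Mathlib.CategoryTheory.Abelian.FunctorCategory

/-!
# `Ext` groups out of a fixed object and filtered colimits: the dimension shifting argument
-/

set_option autoImplicit false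

universe w t' t v u

open CategoryTheory CategoryTheory.Limits Abelian

namespace Groth.Agent.Lib.Helper27.ExtFilt

variable {𝒜 : Type u} [Category.{v} 𝒜] [Abelian 𝒜] [HasExt.{w} 𝒜]
variable {I : Type t} [Category.{t'} I] [HasColimitsOfShape I 𝒜]

/-- every class in `Ext^p(Z, colim F)` comes from a member of the diagram -/
def SurjExt (Z : 𝒜) (p : ℕ) (F : I ⥤ 𝒜) : Prop :=
  ∀ y : Ext Z (colimit F) p, ∃ (i : I) (x : Ext Z (F.obj i) p),
    x.comp (Ext.mk₀ (colimit.ι F i)) (add_zero p) = y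

/-- a class in `Ext^p(Z, F i)` dying in the colimit dies further along the diagram -/
def InjExt (Z : 𝒜) (p : ℕ) (F : I ⥤ 𝒜) : Prop :=
  ∀ (i : I) (x : Ext Z (F.obj i) p), x.comp (Ext.mk₀ (colimit.ι F i)) (add_zero p) = 0 →
    ∃ (j : I) (u : i ⟶ j), x.comp (Ext.mk₀ (F.map u)) (add_zero p) = 0

theorem delta_naturality {Z : 𝒜} {S₁ S₂ : ShortComplex 𝒜} (h₁ : S₁.ShortExact)
    (h₂ : S₂.ShortExact) (φ : S₁ ⟶ S₂) {p : ℕ} (x : Ext Z S₁.X₃ p) :
    (x.comp h₁.extClass rfl).comp (Ext.mk₀ φ.τ₁) (add_zero (p + 1)) =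
      (x.comp (Ext.mk₀ φ.τ₃) (add_zero p)).comp h₂.extClass rfl := by
  rw [Ext.comp_assoc_of_third_deg_zero, ShortComplex.ShortExact.extClass_naturality h₁ h₂ φ,
    ← Ext.comp_assoc_of_second_deg_zero]

theorem comp_mk₀_comp_mk₀ {Z X Y W : 𝒜} {p : ℕ} (x : Ext Z X p) (f : X ⟶ Y) (g : Y ⟶ W) :
    (x.comp (Ext.mk₀ f) (add_zero p)).comp (Ext.mk₀ g) (add_zero p) =
      x.comp (Ext.mk₀ (f ≫ g)) (add_zero p) := by
  rw [Ext.comp_assoc_of_third_deg_zero, Ext.mk₀_comp_mk₀]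

section Step

variable [IsFiltered I] [HasExactColimitsOfShape I 𝒜]

variable (S : ShortComplex (I ⥤ 𝒜)) (hS : S.ShortExact)

/-- the members of a short exact sequence of diagrams -/
noncomputable abbrev memb (i : I) : ShortComplex 𝒜 :=
  ShortComplex.mk (S.f.app i) (S.g.app i) (by rw [← NatTrans.comp_app, S.zero]; rfl)

include hS in
theorem memb_shortExact (i : I) : (memb S i).ShortExact :=
  hS.map_of_exact ((evaluation I 𝒜).obj i)

/-- the colimit of a short exact sequence of diagrams -/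
noncomputable abbrev lim : ShortComplex 𝒜 :=
  ShortComplex.mk (colimMap S.f) (colimMap S.g) (by
    apply colimit.hom_ext
    intro i
    rw [ι_colimMap_assoc, ι_colimMap, ← Category.assoc, ← NatTrans.comp_app, S.zero]
    simp)

include hS in
theorem lim_shortExact : (lim S).ShortExact := by
  haveI : PreservesFiniteLimits (colim (J := I) (C := 𝒜)) :=
    HasExactColimitsOfShape.preservesFiniteLimits
  exact hS.map_of_exact colim

/-- the map from a member to the colimit -/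
noncomputable def toLim (i : I) : memb S i ⟶ lim S where
  τ₁ := colimit.ι S.X₁ i
  τ₂ := colimit.ι S.X₂ i
  τ₃ := colimit.ι S.X₃ i
  comm₁₂ := by
    change colimit.ι S.X₁ i ≫ colimMap S.f = S.f.app i ≫ colimit.ι S.X₂ i
    rw [ι_colimMap]
  comm₂₃ := by
    change colimit.ι S.X₂ i ≫ colimMap S.g = S.g.app i ≫ colimit.ι S.X₃ i
    rw [ι_colimMap]

/-- the transition maps between the members -/
noncomputable def trans {i j : I} (u : i ⟶ j) : memb S i ⟶ memb S j where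
  τ₁ := S.X₁.map u
  τ₂ := S.X₂.map u
  τ₃ := S.X₃.map u
  comm₁₂ := (S.f.naturality u)
  comm₂₃ := (S.g.naturality u)

variable (Z : 𝒜) (p : ℕ)

include hS in
theorem surjExt_succ (hacyc : ∀ y : Ext Z (colimit S.X₂) (p + 1), y = 0)
    (h3 : SurjExt Z p S.X₃) : SurjExt Z (p + 1) S.X₁ := by
  intro y
  have hl := lim_shortExact S hS
  obtain ⟨x, rfl⟩ := Ext.covariant_sequence_exact₁ Z hl y (hacyc _) (n₀ := p) rfl
  obtain ⟨i, xi, rfl⟩ := h3 x
  refine ⟨i, xi.comp (memb_shortExact S hS i).extClass rfl, ?_⟩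
  exact delta_naturality (memb_shortExact S hS i) hl (toLim S i) xi

include hS in
theorem injExt_succ (hinj : ∀ i, Injective (S.X₂.obj i))
    (h2 : SurjExt Z p S.X₂) (h3 : InjExt Z p S.X₃) : InjExt Z (p + 1) S.X₁ := by
  intro i y hy
  have hl := lim_shortExact S hS
  have hm := fun k => memb_shortExact S hS k
  haveI := hinj i
  -- `y` comes from `x` over `Q i`
  obtain ⟨x, rfl⟩ := Ext.covariant_sequence_exact₁ Z (hm i) y
    (Ext.eq_zero_of_injective _) (n₀ := p) rfl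
  have e1 : (x.comp (Ext.mk₀ (colimit.ι S.X₃ i)) (add_zero p)).comp hl.extClass rfl = 0 :=
    (delta_naturality (hm i) hl (toLim S i) x).symm.trans hy
  obtain ⟨w, hw⟩ := Ext.covariant_sequence_exact₃ Z hl _ rfl e1
  obtain ⟨k, wk, rfl⟩ := h2 w
  -- move to a common index
  obtain ⟨j, u, v, -⟩ : ∃ (j : I) (u : i ⟶ j) (v : k ⟶ j), True :=
    ⟨IsFiltered.max i k, IsFiltered.leftToMax i k, IsFiltered.rightToMax i k, trivial⟩
  have hmor : S.X₂.map v ≫ S.g.app j ≫ colimit.ι S.X₃ j =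
      colimit.ι S.X₂ k ≫ colimMap S.g := by
    rw [ι_colimMap, S.g.naturality_assoc, colimit.w]
  have e2 : (x.comp (Ext.mk₀ (S.X₃.map u)) (add_zero p)).comp
      (Ext.mk₀ (colimit.ι S.X₃ j)) (add_zero p) =
      x.comp (Ext.mk₀ (colimit.ι S.X₃ i)) (add_zero p) := by
    rw [comp_mk₀_comp_mk₀, colimit.w]
  have e3 : ((wk.comp (Ext.mk₀ (S.X₂.map v)) (add_zero p)).comp (Ext.mk₀ (S.g.app j))
      (add_zero p)).comp (Ext.mk₀ (colimit.ι S.X₃ j)) (add_zero p) =
      x.comp (Ext.mk₀ (colimit.ι S.X₃ i)) (add_zero p) := by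
    have l : ((wk.comp (Ext.mk₀ (S.X₂.map v)) (add_zero p)).comp (Ext.mk₀ (S.g.app j))
        (add_zero p)).comp (Ext.mk₀ (colimit.ι S.X₃ j)) (add_zero p) =
        wk.comp (Ext.mk₀ (S.X₂.map v ≫ S.g.app j ≫ colimit.ι S.X₃ j)) (add_zero p) := by
      rw [comp_mk₀_comp_mk₀, comp_mk₀_comp_mk₀]
    rw [l, hmor, ← hw]
    exact (comp_mk₀_comp_mk₀ wk _ _).symm
  have e4 : (x.comp (Ext.mk₀ (S.X₃.map u)) (add_zero p) -
      (wk.comp (Ext.mk₀ (S.X₂.map v)) (add_zero p)).comp (Ext.mk₀ (S.g.app j))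
      (add_zero p)).comp (Ext.mk₀ (colimit.ι S.X₃ j)) (add_zero p) = 0 := by
    rw [sub_eq_add_neg, Ext.add_comp, Ext.neg_comp, e2, e3, add_neg_cancel]
  obtain ⟨j', u', hu'⟩ := h3 j _ e4
  rw [sub_eq_add_neg, Ext.add_comp, Ext.neg_comp, add_neg_eq_zero] at hu'
  refine ⟨j', u ≫ u', ?_⟩
  have e5 := delta_naturality (hm i) (hm j') (trans S (u ≫ u')) x
  refine e5.trans ?_
  change (x.comp (Ext.mk₀ (S.X₃.map (u ≫ u'))) (add_zero p)).comp (hm j').extClass rfl = 0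
  have hmor2 : S.X₂.map v ≫ S.g.app j ≫ S.X₃.map u' =
      S.X₂.map v ≫ S.X₂.map u' ≫ S.g.app j' := by
    rw [S.g.naturality]
  have e6 : x.comp (Ext.mk₀ (S.X₃.map (u ≫ u'))) (add_zero p) =
      ((wk.comp (Ext.mk₀ (S.X₂.map v)) (add_zero p)).comp (Ext.mk₀ (S.X₂.map u'))
        (add_zero p)).comp (Ext.mk₀ (S.g.app j')) (add_zero p) := by
    rw [S.X₃.map_comp, ← comp_mk₀_comp_mk₀]
    refine hu'.trans ?_
    have l : ((wk.comp (Ext.mk₀ (S.X₂.map v)) (add_zero p)).comp (Ext.mk₀ (S.g.app j))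
        (add_zero p)).comp (Ext.mk₀ (S.X₃.map u')) (add_zero p) =
        wk.comp (Ext.mk₀ (S.X₂.map v ≫ S.g.app j ≫ S.X₃.map u')) (add_zero p) := by
      rw [comp_mk₀_comp_mk₀, comp_mk₀_comp_mk₀]
    have r : ((wk.comp (Ext.mk₀ (S.X₂.map v)) (add_zero p)).comp (Ext.mk₀ (S.X₂.map u'))
        (add_zero p)).comp (Ext.mk₀ (S.g.app j')) (add_zero p) =
        wk.comp (Ext.mk₀ (S.X₂.map v ≫ S.X₂.map u' ≫ S.g.app j')) (add_zero p) := by
      rw [comp_mk₀_comp_mk₀, comp_mk₀_comp_mk₀]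
    rw [l, r, hmor2]
  rw [e6, Ext.comp_assoc_of_second_deg_zero]
  have e7 : (Ext.mk₀ (S.g.app j')).comp (hm j').extClass (zero_add 1) = 0 :=
    (hm j').comp_extClass
  rw [e7, Ext.comp_zero]

end Step

/-- **Ext out of `Z` commutes with filtered colimits** as soon as `Hom(Z, -)` does, filtered
colimits of injectives are acyclic for `Z`, and diagrams embed into diagrams of injectives -/
theorem surjExt_injExt [IsFiltered I] [HasExactColimitsOfShape I 𝒜] (Z : 𝒜)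
    (H0 : ∀ F : I ⥤ 𝒜, SurjExt Z 0 F ∧ InjExt Z 0 F)
    (Hres : ∀ F : I ⥤ 𝒜, ∃ (S : ShortComplex (I ⥤ 𝒜)), S.ShortExact ∧ S.X₁ = F ∧
      ∀ i, Injective (S.X₂.obj i))
    (Hacyc : ∀ G : I ⥤ 𝒜, (∀ i, Injective (G.obj i)) →
      ∀ (p : ℕ) (y : Ext Z (colimit G) (p + 1)), y = 0) :
    ∀ (p : ℕ) (F : I ⥤ 𝒜), SurjExt Z p F ∧ InjExt Z p F := by
  intro p
  induction p with
  | zero => exact H0
  | succ p ih =>
    intro F
    obtain ⟨S, hS, rfl, hinj⟩ := Hres F
    exact ⟨surjExt_succ S hS Z p (Hacyc S.X₂ hinj p) (ih S.X₃).1,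
      injExt_succ S hS Z p hinj (ih S.X₂).1 (ih S.X₃).2⟩

end Groth.Agent.Lib.Helper27.ExtFilt
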