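import Groth.Agent.Lib.Helper27.EtLimE
import Groth.Agent.Lib.Helper27.ExtFilt1

/-!
# The dimension shifting argument for systems of sheaves on an inverse system of schemes (helper27)
-/

set_option autoImplicit false
set_option backward.isDefEq.respectTransparency false
set_option backward.isDefEq.respectTransparency.types false

universe u

open CategoryTheory CategoryTheory.Limits AlgebraicGeometry Opposite Abelian

namespace Groth.Agent.Lib.Helper27.EtLimI

open Groth.Agent.Lib.Helper27.EtLimA Groth.Agent.Lib.Helper27.EtLimB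
  Groth.Agent.Lib.Helper27.EtLimC Groth.Agent.Lib.Helper27.EtLimD Groth.Agent.Lib.Helper27.EtLimE
  Groth.Agent.Lib.Helper23.FinBC0 Groth.Agent.Lib.Helper23.HpullComp
  Groth.Agent.Lib.Helper23.HpullNat Groth.Agent.Lib.Helper27.ExtFilt

variable {ι : Type u} [Preorder ι] {Xs : ιᵒᵖ ⥤ Scheme.{u}} (c : Cone Xs)

/-- the transition morphisms in inverse image form -/
noncomputable abbrev Sys.φ (S : Sys Xs) {j k : ι} (h : j ≤ k) :
    (EtCoh.pull (tr Xs h)).obj (S.F j) ⟶ S.F k := toPull (tr Xs h) (S.τ h)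

/-- every class on the limit comes from a stage -/
def SurjS (S : Sys Xs) (n : ℕ) : Prop :=
  ∀ y : EtCoh.H c.pt (colimit (S.G c)) n, ∃ (j : ι) (x : EtCoh.H (Xs.obj (op j)) (S.F j) n),
    EtLim.HpullThen (pr c j) (S.F j) (colimit.ι (S.G c) j) n x = y

/-- a class dying on the limit dies at a later stage -/
def InjS (S : Sys Xs) (n : ℕ) : Prop :=
  ∀ (j : ι) (x : EtCoh.H (Xs.obj (op j)) (S.F j) n),
    EtLim.HpullThen (pr c j) (S.F j) (colimit.ι (S.G c) j) n x = 0 →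
      ∃ (k : ι) (h : j ≤ k), EtLim.HpullThen (tr Xs h) (S.F j) (Sys.φ S h) n x = 0

section Lemmas

variable {X Y : Scheme.{u}} (f : X ⟶ Y)

lemma HpullThen_post (A : EtCoh.Ab Y) {B B' : EtCoh.Ab X} (α : (EtCoh.pull f).obj A ⟶ B)
    (b : B ⟶ B') (n : ℕ) (x : EtCoh.H Y A n) :
    EtLim.HpullThen f A (α ≫ b) n x =
      (EtLim.HpullThen f A α n x).comp (Ext.mk₀ b) (add_zero n) := by
  rw [HpullThen_apply, HpullThen_apply, Ext.comp_assoc_of_third_deg_zero, Ext.mk₀_comp_mk₀]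

lemma HpullThen_pre {A' A : EtCoh.Ab Y} {B : EtCoh.Ab X} (a : A' ⟶ A)
    (α : (EtCoh.pull f).obj A ⟶ B) (n : ℕ) (x : EtCoh.H Y A' n) :
    EtLim.HpullThen f A' ((EtCoh.pull f).map a ≫ α) n x =
      EtLim.HpullThen f A α n (x.comp (Ext.mk₀ a) (add_zero n)) := by
  rw [HpullThen_apply, HpullThen_apply, Hpull_comp_mk₀, Ext.comp_assoc_of_third_deg_zero,
    Ext.mk₀_comp_mk₀]

/-- a commutative square gives a commutative square on cohomology -/
lemma HpullThen_square {A A' : EtCoh.Ab Y} {B B' : EtCoh.Ab X} (a : A ⟶ A') (b : B ⟶ B')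
    (α : (EtCoh.pull f).obj A ⟶ B) (α' : (EtCoh.pull f).obj A' ⟶ B')
    (h : α ≫ b = (EtCoh.pull f).map a ≫ α') (n : ℕ) (x : EtCoh.H Y A n) :
    (EtLim.HpullThen f A α n x).comp (Ext.mk₀ b) (add_zero n) =
      EtLim.HpullThen f A' α' n (x.comp (Ext.mk₀ a) (add_zero n)) := by
  rw [← HpullThen_post, h, HpullThen_pre]

end Lemmas

section Trans

variable (S : Sys Xs)

lemma HpullThen_trans {j k m : ι} (h1 : j ≤ k) (h2 : k ≤ m) (n : ℕ)
    (x : EtCoh.H (Xs.obj (op j)) (S.F j) n) :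
    EtLim.HpullThen (tr Xs h2) (S.F k) (Sys.φ S h2) n
      (EtLim.HpullThen (tr Xs h1) (S.F j) (Sys.φ S h1) n x) =
      EtLim.HpullThen (tr Xs (h1.trans h2)) (S.F j) (Sys.φ S (h1.trans h2)) n x := by
  have := Hrel_relComp (tr Xs h1) (tr Xs h2) (tr Xs (h1.trans h2)) (tr_comp Xs h1 h2)
    (S.τ h1) (S.τ h2) n x
  rw [S.τ_trans] at this
  exact this.symm

lemma HpullThen_cocone {j k : ι} (h : j ≤ k) (n : ℕ)
    (x : EtCoh.H (Xs.obj (op j)) (S.F j) n) :
    EtLim.HpullThen (pr c k) (S.F k) (colimit.ι (S.G c) k) n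
      (EtLim.HpullThen (tr Xs h) (S.F j) (Sys.φ S h) n x) =
      EtLim.HpullThen (pr c j) (S.F j) (colimit.ι (S.G c) j) n x := by
  have := Hrel_relComp (tr Xs h) (pr c k) (pr c j) (pr_tr c h)
    (S.τ h) (S.θ c (colimit.cocone (S.G c)) k) n x
  rw [S.τ_θ] at this
  unfold Hrel at this
  rw [S.toPull_θ, S.toPull_θ] at this
  exact this.symm

end Trans


section Step

variable [IsDirected ι (· ≤ ·)] [Nonempty ι] [HasExactColimitsOfShape ι (EtCoh.Ab c.pt)]
variable {S R : Sys Xs} (a : Sys.Hom S R) [∀ j, Mono (a.f j)]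

/-- the limit sequence -/
noncomputable abbrev limSeq : ShortComplex (EtCoh.Ab c.pt) := lim (a.sesG c)

theorem limSeq_shortExact : (limSeq c a).ShortExact := lim_shortExact _ (a.sesG_shortExact c)

/-- the map from a stage to the limit -/
noncomputable abbrev stageToLim (j : ι) :
    (a.stage j).map (EtCoh.pull (pr c j)) ⟶ limSeq c a := toLim (a.sesG c) j

/-- the map between stages -/
noncomputable def stageTrans {j k : ι} (h : j ≤ k) :
    (a.stage j).map (EtCoh.pull (tr Xs h)) ⟶ a.stage k where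
  τ₁ := Sys.φ S h
  τ₂ := Sys.φ R h
  τ₃ := Sys.φ (Sys.coker a) h
  comm₁₂ := toPull_comm (tr Xs h) (S.τ h) (R.τ h) (a.f j) (a.f k) (a.comm h)
  comm₂₃ := toPull_comm (tr Xs h) (R.τ h) ((Sys.coker a).τ h) (cokernel.π (a.f j))
    (cokernel.π (a.f k)) ((Sys.cokerπ a).comm h)

theorem surjS_succ (n : ℕ)
    (hacyc : ∀ y : EtCoh.H c.pt (colimit (R.G c)) (n + 1), y = 0)
    (h3 : SurjS c (Sys.coker a) n) : SurjS c S (n + 1) := by
  intro y
  have hl := limSeq_shortExact c a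
  obtain ⟨w, rfl⟩ := Ext.covariant_sequence_exact₁ _ hl y (hacyc _) (n₀ := n) rfl
  obtain ⟨j, x, rfl⟩ := h3 w
  refine ⟨j, x.comp (a.stage_shortExact j).extClass rfl, ?_⟩
  exact HpullThen_extClass (pr c j) (a.stage_shortExact j) hl (stageToLim c a j) n x

theorem injS_succ (n : ℕ) (hinj : ∀ j, Injective (R.F j))
    (h2 : SurjS c R n) (h3 : InjS c (Sys.coker a) n) : InjS c S (n + 1) := by
  intro j y hy
  have hl := limSeq_shortExact c a
  have hm := fun k => a.stage_shortExact k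
  have := hinj j
  obtain ⟨x, rfl⟩ := Ext.covariant_sequence_exact₁ _ (hm j) y
    (Ext.eq_zero_of_injective _) (n₀ := n) rfl
  have e1 : (EtLim.HpullThen (pr c j) ((Sys.coker a).F j) (colimit.ι ((Sys.coker a).G c) j) n
      x).comp hl.extClass rfl = 0 :=
    (HpullThen_extClass (pr c j) (hm j) hl (stageToLim c a j) n x).symm.trans hy
  obtain ⟨w, hw⟩ := Ext.covariant_sequence_exact₃ _ hl _ rfl e1
  obtain ⟨k, wk, rfl⟩ := h2 w
  obtain ⟨m, hjm, hkm⟩ := exists_ge_ge j k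
  -- transport to stage `m`
  have e2 := HpullThen_cocone c (Sys.coker a) hjm n x
  have e3 := HpullThen_cocone c R hkm n wk
  have sq : colimit.ι (R.G c) m ≫ (limSeq c a).g =
      (EtCoh.pull (pr c m)).map (cokernel.π (a.f m)) ≫ colimit.ι ((Sys.coker a).G c) m :=
    ι_colimMap _ _
  have e4 := HpullThen_square (pr c m) (cokernel.π (a.f m)) (limSeq c a).g
    (colimit.ι (R.G c) m) (colimit.ι ((Sys.coker a).G c) m) sq n
    (EtLim.HpullThen (tr Xs hkm) (R.F k) (Sys.φ R hkm) n wk)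
  obtain ⟨zQ, hzQ⟩ : ∃ zQ : EtCoh.H (Xs.obj (op m)) ((Sys.coker a).F m) n, zQ =
      (EtLim.HpullThen (tr Xs hkm) (R.F k) (Sys.φ R hkm) n wk).comp
          (Ext.mk₀ (cokernel.π (a.f m))) (add_zero n) := ⟨_, rfl⟩
  have e4' : EtLim.HpullThen (pr c m) ((Sys.coker a).F m) (colimit.ι ((Sys.coker a).G c) m) n zQ =
      EtLim.HpullThen (pr c j) ((Sys.coker a).F j) (colimit.ι ((Sys.coker a).G c) j) n x := by
    rw [hzQ]
    exact e4.symm.trans
      ((congrArg (fun t => t.comp (Ext.mk₀ (limSeq c a).g) (add_zero n)) e3).trans hw)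
  have e5 : EtLim.HpullThen (pr c m) ((Sys.coker a).F m) (colimit.ι ((Sys.coker a).G c) m) n
      (EtLim.HpullThen (tr Xs hjm) ((Sys.coker a).F j) (Sys.φ (Sys.coker a) hjm) n x - zQ) = 0 := by
    rw [map_sub]
    exact sub_eq_zero.2 (e2.trans e4'.symm)
  obtain ⟨p, hmp, hp⟩ := h3 m _ e5
  rw [map_sub, sub_eq_zero, HpullThen_trans] at hp
  refine ⟨p, hjm.trans hmp, ?_⟩
  have e6 := HpullThen_extClass (tr Xs (hjm.trans hmp)) (hm j) (hm p)
    (stageTrans a (hjm.trans hmp)) n x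
  refine e6.trans ?_
  change (EtLim.HpullThen (tr Xs (hjm.trans hmp)) ((Sys.coker a).F j)
    (Sys.φ (Sys.coker a) (hjm.trans hmp)) n x).comp (hm p).extClass rfl = 0
  have sq' : Sys.φ R hmp ≫ cokernel.π (a.f p) =
      (EtCoh.pull (tr Xs hmp)).map (cokernel.π (a.f m)) ≫ Sys.φ (Sys.coker a) hmp :=
    toPull_comm (tr Xs hmp) (R.τ hmp) ((Sys.coker a).τ hmp) (cokernel.π (a.f m))
      (cokernel.π (a.f p)) ((Sys.cokerπ a).comm hmp)
  have e8 := HpullThen_square (tr Xs hmp) (cokernel.π (a.f m)) (cokernel.π (a.f p))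
    (Sys.φ R hmp) (Sys.φ (Sys.coker a) hmp) sq' n
    (EtLim.HpullThen (tr Xs hkm) (R.F k) (Sys.φ R hkm) n wk)
  have e9 : EtLim.HpullThen (tr Xs hmp) ((Sys.coker a).F m) (Sys.φ (Sys.coker a) hmp) n zQ =
      (EtLim.HpullThen (tr Xs hmp) (R.F m) (Sys.φ R hmp) n
        (EtLim.HpullThen (tr Xs hkm) (R.F k) (Sys.φ R hkm) n wk)).comp
          (Ext.mk₀ (cokernel.π (a.f p))) (add_zero n) := by
    rw [hzQ]
    exact e8.symm
  rw [hp, e9, Ext.comp_assoc_of_second_deg_zero]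
  have e7 : (Ext.mk₀ (cokernel.π (a.f p))).comp (hm p).extClass (zero_add 1) = 0 :=
    (hm p).comp_extClass
  rw [e7, Ext.comp_zero]

end Step

/-- **the limit theorem, by dimension shifting** -/
theorem main [IsDirected ι (· ≤ ·)] [Nonempty ι] [HasExactColimitsOfShape ι (EtCoh.Ab c.pt)]
    (hbase : ∀ S : Sys Xs, SurjS c S 0 ∧ InjS c S 0)
    (hacyc : ∀ (S : Sys Xs) (n : ℕ) (y : EtCoh.H c.pt (colimit ((cofree S).G c)) (n + 1)), y = 0) :
    ∀ (n : ℕ) (S : Sys Xs), SurjS c S n ∧ InjS c S n := by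
  intro n
  induction n with
  | zero => exact hbase
  | succ n ih =>
    intro S
    exact ⟨surjS_succ c (emb S) n (hacyc S n) (ih _).1,
      injS_succ c (emb S) n (fun j => inferInstanceAs (Injective (cofreeF S j))) (ih _).1 (ih _).2⟩

end Groth.Agent.Lib.Helper27.EtLimI
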