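import Groth.Agent.Lib.Helper27.EtLimH7
import Groth.Agent.Lib.Helper27.EtLimI

/-!
# Degree zero: global sections of the limit sheaf (helper27)
-/

set_option autoImplicit false
set_option backward.isDefEq.respectTransparency false
set_option backward.isDefEq.respectTransparency.types false

universe u

open CategoryTheory CategoryTheory.Limits AlgebraicGeometry Opposite Abelian

namespace Groth.Agent.Lib.Helper27.EtLimJ

open Groth.Agent.Lib.Helper27.EtLimA Groth.Agent.Lib.Helper27.EtLimB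
  Groth.Agent.Lib.Helper27.EtLimC Groth.Agent.Lib.Helper27.EtLimD Groth.Agent.Lib.Helper27.EtLimG
  Groth.Agent.Lib.Helper27.EtLimH Groth.Agent.Lib.Helper23.FinBC0
  Groth.Agent.Lib.Helper23.HpullNat

section Sec

variable {X Y : Scheme.{u}}

/-- the generator of the integers -/
abbrev one' : (AddCommGrpCat.of (ULift.{u + 1} ℤ) : AddCommGrpCat.{u + 1}) := ULift.up 1

/-- the global section attached to a morphism from the constant sheaf -/
noncomputable def sec {B : EtCoh.Ab X} (g : EtCoh.const X ℤ ⟶ B) :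
    B.obj.obj (op (EtCoh.top X)) :=
  ((EtCore.constAdj X).homEquiv (AddCommGrpCat.of (ULift.{u + 1} ℤ)) B g) one'

lemma hom_ext_one {A : AddCommGrpCat.{u + 1}} (a b : AddCommGrpCat.of (ULift.{u + 1} ℤ) ⟶ A)
    (h : a one' = b one') : a = b := by
  ext ⟨n⟩
  have e : (ULift.up n : ULift.{u + 1} ℤ) = n • (ULift.up 1 : ULift.{u + 1} ℤ) := by
    apply ULift.ext
    simp
  change a.hom (ULift.up n) = b.hom (ULift.up n)
  rw [e, map_zsmul, map_zsmul]
  exact congrArg _ h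

lemma sec_injective {B : EtCoh.Ab X} (g g' : EtCoh.const X ℤ ⟶ B) (h : sec g = sec g') :
    g = g' := by
  apply ((EtCore.constAdj X).homEquiv (AddCommGrpCat.of (ULift.{u + 1} ℤ)) B).injective
  exact hom_ext_one _ _ h

lemma sec_surjective {B : EtCoh.Ab X} (b : B.obj.obj (op (EtCoh.top X))) :
    ∃ g : EtCoh.const X ℤ ⟶ B, sec g = b := by
  let a : AddCommGrpCat.of (ULift.{u + 1} ℤ) ⟶ (EtCore.gsec X).obj B :=
    AddCommGrpCat.ofHom ((zmultiplesHom _ b).comp AddEquiv.ulift.toAddMonoidHom)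
  refine ⟨((EtCore.constAdj X).homEquiv _ B).symm a, ?_⟩
  unfold sec
  rw [Equiv.apply_symm_apply]
  change (zmultiplesHom _ b) (1 : ℤ) = b
  simp

lemma sec_zero {B : EtCoh.Ab X} : sec (0 : EtCoh.const X ℤ ⟶ B) = 0 := by
  unfold sec
  have : (EtCore.constAdj X).homEquiv (AddCommGrpCat.of (ULift.{u + 1} ℤ)) B 0 = 0 := by
    rw [Adjunction.homEquiv_unit, Functor.map_zero, comp_zero]
  rw [this]
  rfl

lemma sec_comp {B B' : EtCoh.Ab X} (g : EtCoh.const X ℤ ⟶ B) (b : B ⟶ B') :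
    sec (g ≫ b) = b.hom.app (op (EtCoh.top X)) (sec g) := by
  unfold sec
  rw [Adjunction.homEquiv_naturality_right]
  rfl

end Sec

end Groth.Agent.Lib.Helper27.EtLimJ

namespace Groth.Agent.Lib.Helper27.EtLimJ

open Groth.Agent.Lib.Helper27.EtLimA Groth.Agent.Lib.Helper27.EtLimB
  Groth.Agent.Lib.Helper27.EtLimC Groth.Agent.Lib.Helper27.EtLimD Groth.Agent.Lib.Helper27.EtLimG
  Groth.Agent.Lib.Helper27.EtLimH Groth.Agent.Lib.Helper23.FinBC0
  Groth.Agent.Lib.Helper23.HpullNat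

section Pull

variable {X Y : Scheme.{u}} (f : X ⟶ Y)

/-- the adjunction used to define the pullback of constant sheaves -/
noncomputable abbrev adj1 :
    constantSheaf Y.smallEtaleTopology AddCommGrpCat.{u + 1} ⋙ EtCoh.pull f ⊣ EtCore.gsec X :=
  ((EtCore.constAdj Y).comp (EtCoh.pullPushAdj f)).ofNatIsoRight (EtCore.pushGsecIso f)

lemma homEquiv_pullConst_inv {B : EtCoh.Ab X}
    (h' : (EtCoh.pull f).obj (EtCoh.const Y ℤ) ⟶ B) :
    (EtCore.constAdj X).homEquiv (AddCommGrpCat.of (ULift.{u + 1} ℤ)) B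
        ((EtCore.pullConst f ℤ).inv ≫ h') =
      (adj1 f).homEquiv (AddCommGrpCat.of (ULift.{u + 1} ℤ)) B h' := by
  rw [Adjunction.homEquiv_unit, Adjunction.homEquiv_unit, Functor.map_comp, ← Category.assoc]
  congr 1
  have h1 := Adjunction.unit_leftAdjointUniq_hom_app (EtCore.constAdj X) (adj1 f)
    (AddCommGrpCat.of (ULift.{u + 1} ℤ))
  rw [← Adjunction.leftAdjointUniq_inv_app] at h1
  exact h1

/-- the global section of the adjoint of a relative morphism -/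
theorem sec_pull {A : EtCoh.Ab Y} {B : EtCoh.Ab X} (g : EtCoh.const Y ℤ ⟶ A)
    (γ : A ⟶ (EtCoh.push f).obj B) :
    sec ((EtCore.pullConst f ℤ).inv ≫ (EtCoh.pull f).map g ≫ toPull f γ) =
      B.obj.map (EtCore.bcTopIso f).inv.op (secMap f γ (EtCoh.top Y) (sec g)) := by
  unfold sec
  rw [homEquiv_pullConst_inv, ← toPull_pre, Adjunction.homEquiv_ofNatIsoRight_apply,
    Adjunction.comp_homEquiv]
  change ((EtCore.constAdj Y).homEquiv _ _ ((EtCoh.pullPushAdj f).homEquiv _ _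
    (toPull f (g ≫ γ))) ≫ (EtCore.pushGsecIso f).hom.app B) one' = _
  have e : (EtCoh.pullPushAdj f).homEquiv _ _ (toPull f (g ≫ γ)) = g ≫ γ := ofPull_toPull f _
  rw [e, Adjunction.homEquiv_naturality_right]
  rfl

end Pull

end Groth.Agent.Lib.Helper27.EtLimJ

namespace Groth.Agent.Lib.Helper27.EtLimJ

open Groth.Agent.Lib.Helper27.EtLimA Groth.Agent.Lib.Helper27.EtLimB
  Groth.Agent.Lib.Helper27.EtLimC Groth.Agent.Lib.Helper27.EtLimD Groth.Agent.Lib.Helper27.EtLimG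
  Groth.Agent.Lib.Helper27.EtLimH Groth.Agent.Lib.Helper23.FinBC0
  Groth.Agent.Lib.Helper23.HpullNat Groth.Agent.Lib.Helper27.EtLimI

section Deg0

variable {X Y : Scheme.{u}} (f : X ⟶ Y)

lemma HpullThen_mk₀ (A : EtCoh.Ab Y) {B : EtCoh.Ab X} (α : (EtCoh.pull f).obj A ⟶ B)
    (g : EtCoh.const Y ℤ ⟶ A) :
    EtLim.HpullThen f A α 0 (Ext.mk₀ g) =
      Ext.mk₀ ((EtCore.pullConst f ℤ).inv ≫ (EtCoh.pull f).map g ≫ α) := by
  rw [HpullThen_apply, Hpull_apply, Ext.mapExactFunctor_mk₀, Ext.mk₀_comp_mk₀, Ext.mk₀_comp_mk₀,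
    Category.assoc]

/-- the section of a pulled back class of degree zero -/
lemma sec_HpullThen {A : EtCoh.Ab Y} {B : EtCoh.Ab X} (γ : A ⟶ (EtCoh.push f).obj B)
    (g : EtCoh.const Y ℤ ⟶ A) (g' : EtCoh.const X ℤ ⟶ B)
    (h : EtLim.HpullThen f A (toPull f γ) 0 (Ext.mk₀ g) = Ext.mk₀ g') :
    sec g' = B.obj.map (EtCore.bcTopIso f).inv.op (secMap f γ (EtCoh.top Y) (sec g)) := by
  rw [HpullThen_mk₀] at h
  rw [← (Ext.mk₀_bijective _ _).1 h]
  exact sec_pull f g γ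

end Deg0

section Base

variable {ι : Type u} [Preorder ι] [IsDirected ι (· ≤ ·)] [Nonempty ι] {Xs : ιᵒᵖ ⥤ Scheme.{u}}
  (c : Cone Xs) (hc : IsLimit c)
  [∀ (a b : ιᵒᵖ) (h : a ⟶ b), IsAffineHom (Xs.map h)] [∀ a, CompactSpace ↥(Xs.obj a)]
  [∀ a, QuasiSeparatedSpace ↥(Xs.obj a)]
  (S : Sys Xs)

instance compactSpace_top (X : Scheme.{u}) [CompactSpace X] : CompactSpace (EtCoh.top X).left :=
  inferInstanceAs (CompactSpace X)

instance quasiSeparatedSpace_top (X : Scheme.{u}) [QuasiSeparatedSpace X] :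
    QuasiSeparatedSpace (EtCoh.top X).left :=
  inferInstanceAs (QuasiSeparatedSpace X)

include hc in
theorem injS_zero : InjS c S 0 := by
  intro j x hx
  obtain ⟨g, rfl⟩ := (Ext.mk₀_bijective _ _).2 x
  let cc := colimit.cocone (S.G c)
  have hcc : IsColimit cc := colimit.isColimit _
  have h0 : colimit.ι (S.G c) j = toPull (pr c j) (S.θ c cc j) := (S.toPull_θ c cc j).symm
  rw [h0, ← Ext.mk₀_zero] at hx
  have h1 := sec_HpullThen (pr c j) (S.θ c cc j) g 0 hx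
  rw [sec_zero] at h1
  have h2 : secMap (pr c j) (S.θ c cc j) (EtCoh.top _) (sec g) = 0 := by
    have := congrArg (cc.pt.obj.map (EtCore.bcTopIso (pr c j)).hom.op) h1
    rw [map_zero, map_iso_apply cc.pt _ _ (EtCore.bcTopIso (pr c j)).hom_inv_id] at this
    exact this.symm
  obtain ⟨k, h, hk⟩ := P2 c hc S cc hcc (EtCoh.top _) (sec g) h2
  refine ⟨k, h, ?_⟩
  rw [HpullThen_mk₀, ← Ext.mk₀_zero]
  congr 1
  apply sec_injective
  rw [sec_zero]
  change sec (_ ≫ _ ≫ toPull (tr Xs h) (S.τ h)) = 0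
  rw [sec_pull, hk, map_zero]

include hc in
theorem surj0 (cc : Cocone (S.G c)) (hcc : IsColimit cc) (gy : EtCoh.const c.pt ℤ ⟶ cc.pt) :
    ∃ (k : ι) (g : EtCoh.const (Xs.obj (op k)) ℤ ⟶ S.F k),
      (EtCore.pullConst (pr c k) ℤ).inv ≫ (EtCoh.pull (pr c k)).map g ≫ cc.ι.app k = gy := by
  obtain ⟨j₀⟩ := ‹Nonempty ι›
  obtain ⟨t, ht⟩ : ∃ t : cc.pt.obj.obj (op ((EtCoh.bc (pr c j₀)).obj (EtCoh.top (Xs.obj (op j₀))))),
      t = cc.pt.obj.map (EtCore.bcTopIso (pr c j₀)).hom.op (sec gy) := ⟨_, rfl⟩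
  obtain ⟨k, h, s, hs⟩ := P1 c hc S cc hcc (EtCoh.top (Xs.obj (op j₀))) t
  obtain ⟨g, hg⟩ := sec_surjective ((S.F k).obj.map (EtCore.bcTopIso (tr Xs h)).inv.op s)
  refine ⟨k, g, ?_⟩
  rw [← S.toPull_θ c cc k]
  apply sec_injective (B := cc.pt)
  rw [sec_pull, hg, secMap_nat_apply, hs, ht]
  change cc.pt.obj.map _ (cc.pt.obj.map _ (cc.pt.obj.map _ (cc.pt.obj.map _ (sec gy)))) = sec gy
  rw [← map_comp_apply, ← map_comp_apply, ← map_comp_apply]
  have e : (((EtCore.bcTopIso (pr c k)).inv ≫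
      (EtCoh.bc (pr c k)).map (EtCore.bcTopIso (tr Xs h)).inv) ≫
        (tcan c h).hom.app (EtCoh.top (Xs.obj (op j₀)))) ≫
        (EtCore.bcTopIso (pr c j₀)).hom = 𝟙 _ := (EtCore.topIsTerminal c.pt).hom_ext _ _
  rw [e]
  erw [cc.pt.obj.map_id]
  rfl

include hc in
theorem surjS_zero : SurjS c S 0 := by
  intro y
  obtain ⟨gy, rfl⟩ := (Ext.mk₀_bijective _ _).2 y
  obtain ⟨k, g, hg⟩ := surj0 c hc S (colimit.cocone (S.G c)) (colimit.isColimit _) gy
  refine ⟨k, Ext.mk₀ g, ?_⟩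
  rw [HpullThen_mk₀]
  exact congrArg _ hg

end Base

end Groth.Agent.Lib.Helper27.EtLimJ
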