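import Groth.Agent.Lib.Helper27.ExtFiltCech

/-!
# Vanishing of Čech cohomology passes to cocones over filtered diagrams indexed in any universe
-/

set_option autoImplicit false

universe w w' u

open CategoryTheory CategoryTheory.Limits Opposite Simplicial

namespace Groth.Agent.Lib.Helper27.EtLimK

open Groth.Agent.Lib.Helper6.CechFamLES Groth.Agent.Lib.Helper27.ToposFP
  Groth.Agent.Lib.Helper27.ExtFilt

section

variable {I : Type w} [Category.{w'} I] [IsFiltered I]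

theorem exists_common_obj' {κ : Type*} [Finite κ] (k : κ → I) :
    ∃ (k₀ : I), ∀ j, Nonempty (k j ⟶ k₀) := by
  classical
  haveI := Fintype.ofFinite κ
  obtain ⟨S, hS⟩ := IsFiltered.sup_objs_exists (Finset.univ.image k)
  exact ⟨S, fun j => hS (Finset.mem_image_of_mem k (Finset.mem_univ j))⟩

theorem exists_common' {κ : Type*} (s : Finset κ) (k₀ : I)
    (P : κ → ∀ l : I, (k₀ ⟶ l) → Prop)
    (hP : ∀ (j : κ) (l : I) (w : k₀ ⟶ l) (l' : I) (t : l ⟶ l'), P j l w → P j l' (w ≫ t))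
    (h : ∀ j ∈ s, ∃ (l : I) (w : k₀ ⟶ l), P j l w) :
    ∃ (l : I) (w : k₀ ⟶ l), ∀ j ∈ s, P j l w := by
  classical
  induction s using Finset.induction_on with
  | empty => exact ⟨k₀, 𝟙 _, by simp⟩
  | insert a s ha ih =>
    obtain ⟨l₁, w₁, h₁⟩ := ih (fun j hj => h j (Finset.mem_insert_of_mem hj))
    obtain ⟨l₂, w₂, h₂⟩ := h a (Finset.mem_insert_self a s)
    obtain ⟨m, t₁, t₂, ht⟩ := IsFiltered.span w₁ w₂
    refine ⟨m, w₁ ≫ t₁, ?_⟩
    intro j hj
    rcases Finset.mem_insert.1 hj with rfl | hj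
    · rw [ht]
      exact hP _ _ _ _ _ h₂
    · exact hP _ _ _ _ _ (h₁ j hj)

end

variable {D : Type u} [SmallCategory D] (E : SimplicialObject (FormalCoproduct.{u} D))

section

variable {I : Type w} [Category.{w'} I] [IsFiltered I] (P : I ⥤ (Dᵒᵖ ⥤ AddCommGrpCat.{u}))
  (c : Cocone P)

theorem Cc_ι_apply' (i : I) (m : ℕ) (z : ((Cc E).obj (P.obj i)).X m) (a : (E.obj (op ⦋m⦌)).I) :
    Concrete.productEquiv (fun a : (E.obj (op ⦋m⦌)).I => c.pt.obj (op ((E.obj (op ⦋m⦌)).obj a)))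
      (((Cc E).map (c.ι.app i)).f m z) a =
      (c.ι.app i).app (op ((E.obj (op ⦋m⦌)).obj a)) (Concrete.productEquiv _ z a) :=
  Cc_map_apply E (c.ι.app i) m z a

variable (hfin : ∀ m : ℕ, Finite (E.obj (op ⦋m⦌)).I)
  (hsurj : ∀ (m : ℕ) (a : (E.obj (op ⦋m⦌)).I) (z : c.pt.obj (op ((E.obj (op ⦋m⦌)).obj a))),
    ∃ (i : I) (s : (P.obj i).obj (op ((E.obj (op ⦋m⦌)).obj a))), (c.ι.app i).app _ s = z)
  (hinj : ∀ (m : ℕ) (a : (E.obj (op ⦋m⦌)).I) (i : I)
    (s : (P.obj i).obj (op ((E.obj (op ⦋m⦌)).obj a))), (c.ι.app i).app _ s = 0 →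
    ∃ (j : I) (u : i ⟶ j), (P.map u).app _ s = 0)

include hfin hsurj in
theorem cech_surj' (m : ℕ) (z : ((Cc E).obj c.pt).X m) :
    ∃ (i : I) (zi : ((Cc E).obj (P.obj i)).X m), ((Cc E).map (c.ι.app i)).f m zi = z := by
  classical
  haveI := hfin m
  choose ia sa hsa using fun a => hsurj m a (Concrete.productEquiv _ z a)
  obtain ⟨i₀, hi₀⟩ := exists_common_obj' ia
  let t : ∀ a, ia a ⟶ i₀ := fun a => (hi₀ a).some
  refine ⟨i₀, (Concrete.productEquiv _).symm (fun a => (P.map (t a)).app _ (sa a)), ?_⟩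
  apply (Concrete.productEquiv
    (fun a : (E.obj (op ⦋m⦌)).I => c.pt.obj (op ((E.obj (op ⦋m⦌)).obj a)))).injective
  funext a
  refine (Cc_ι_apply' E P c i₀ m _ a).trans ?_
  rw [Equiv.apply_symm_apply]
  refine Eq.trans ?_ (hsa a)
  have := c.w (t a)
  rw [← this]
  rfl

include hfin hinj in
theorem cech_inj' (m : ℕ) (i : I) (zi : ((Cc E).obj (P.obj i)).X m)
    (h : ((Cc E).map (c.ι.app i)).f m zi = 0) :
    ∃ (j : I) (u : i ⟶ j), ((Cc E).map (P.map u)).f m zi = 0 := by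
  classical
  haveI := hfin m
  haveI := Fintype.ofFinite (E.obj (op ⦋m⦌)).I
  have ha : ∀ a : (E.obj (op ⦋m⦌)).I, ∃ (l : I) (w : i ⟶ l),
      (P.map w).app (op ((E.obj (op ⦋m⦌)).obj a)) (Concrete.productEquiv _ zi a) = 0 := by
    intro a
    apply hinj m a i
    refine (Cc_ι_apply' E P c i m zi a).symm.trans ?_
    rw [h, Concrete.productEquiv_apply_apply]
    exact map_zero _
  obtain ⟨j, u, hu⟩ := exists_common' (Finset.univ : Finset (E.obj (op ⦋m⦌)).I) i
    (fun a l w => (P.map w).app (op ((E.obj (op ⦋m⦌)).obj a)) (Concrete.productEquiv _ zi a) = 0)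
    (by
      intro a l w l' t hh
      rw [P.map_comp]
      change (P.map t).app _ ((P.map w).app _ _) = 0
      rw [hh, map_zero])
    (fun a _ => ha a)
  refine ⟨j, u, ?_⟩
  apply (Concrete.productEquiv _).injective
  funext a
  rw [Cc_map_apply, hu a (Finset.mem_univ (α := (E.obj (op ⦋m⦌)).I) a),
    Concrete.productEquiv_apply_apply]
  exact (map_zero _).symm

include hfin hsurj hinj in
/-- vanishing of Čech cohomology passes to the cocone -/
theorem isZero_homology_cocone' (q : ℕ)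
    (hex : ∀ i, IsZero (((Cc E).obj (P.obj i)).homology (q + 1))) :
    IsZero (((Cc E).obj c.pt).homology (q + 1)) := by
  rw [isZero_homology_iff]
  intro z hz
  obtain ⟨i, zi, rfl⟩ := cech_surj' E P c hfin hsurj (q + 1) z
  have h1 : ((Cc E).map (c.ι.app i)).f (q + 2) (((Cc E).obj (P.obj i)).d (q + 1) (q + 2) zi) =
      0 := by
    have := ConcreteCategory.congr_hom (((Cc E).map (c.ι.app i)).comm (q + 1) (q + 2)) zi
    exact this.symm.trans hz
  obtain ⟨j, u, hu⟩ := cech_inj' E P c hfin hinj (q + 2) i _ h1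
  have h2 : ((Cc E).obj (P.obj j)).d (q + 1) (q + 2) (((Cc E).map (P.map u)).f (q + 1) zi) =
      0 := by
    have := ConcreteCategory.congr_hom (((Cc E).map (P.map u)).comm (q + 1) (q + 2)) zi
    exact this.trans hu
  obtain ⟨w, hw⟩ := (isZero_homology_iff _ q).1 (hex j) _ h2
  refine ⟨((Cc E).map (c.ι.app j)).f q w, ?_⟩
  have h3 := ConcreteCategory.congr_hom (((Cc E).map (c.ι.app j)).comm q (q + 1)) w
  refine h3.trans ?_
  change ((Cc E).map (c.ι.app j)).f (q + 1) (((Cc E).obj (P.obj j)).d q (q + 1) w) = _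
  rw [hw]
  have h4 : (Cc E).map (P.map u) ≫ (Cc E).map (c.ι.app j) = (Cc E).map (c.ι.app i) := by
    rw [← Functor.map_comp, c.w]
  have h5 := ConcreteCategory.congr_hom (congrArg (fun φ => φ.f (q + 1)) h4) zi
  exact h5

end

end Groth.Agent.Lib.Helper27.EtLimK
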