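import Groth.Agent.Lib.Helper6.CechFamThin

/-!
# Čech complexes along a functor compatible with the products of the family (helper27)
-/

set_option autoImplicit false

universe u

open CategoryTheory Limits Opposite Simplicial AlgebraicTopology Abelian

namespace Groth.Agent.Lib.Helper27.EtLimK

open Groth.Agent.Lib.Helper6 Groth.Agent.Lib.Helper6.CechFamThin

section

variable {D D' : Type u} [SmallCategory D] [SmallCategory D'] [HasFiniteProducts D]
  [HasFiniteProducts D']
  (π : D ⥤ D') {κ : Type u} (Y : κ → D)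
  (e : ∀ (n : SimplexCategory) (a : ToType n → κ),
    π.obj (∏ᶜ (Y ∘ a)) ≅ ∏ᶜ ((fun k => π.obj (Y k)) ∘ a))
  (he : ∀ (n : SimplexCategory) (a : ToType n → κ) (k : ToType n),
    (e n a).hom ≫ Pi.π ((fun k => π.obj (Y k)) ∘ a) k = π.map (Pi.π (Y ∘ a) k))
  (P : D'ᵒᵖ ⥤ AddCommGrpCat.{u})

include he in
/-- comparison of Čech cosimplicial groups along a functor compatible with products -/
noncomputable def cosimpIso :
    ((FormalCoproduct.mk _ Y).cech.rightOp ⋙
      (FormalCoproduct.evalOp.{u} D AddCommGrpCat.{u}).obj (π.op ⋙ P) : SimplexCategory ⥤ _) ≅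
    ((FormalCoproduct.mk _ (fun k => π.obj (Y k))).cech.rightOp ⋙
      (FormalCoproduct.evalOp.{u} D' AddCommGrpCat.{u}).obj P : SimplexCategory ⥤ _) :=
  NatIso.ofComponents
    (fun n => Limits.Pi.mapIso (fun a : ToType n → κ => P.mapIso (e n a).op.symm)) (by
      intro n m f
      apply Limits.Pi.hom_ext
      intro b
      have hA : ((FormalCoproduct.mk _ Y).cech.rightOp ⋙
          (FormalCoproduct.evalOp.{u} D AddCommGrpCat.{u}).obj (π.op ⋙ P)).map f ≫ Pi.π _ b =
          Pi.π _ (b ∘ f.toOrderHom) ≫ (π.op ⋙ P).map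
            (Pi.lift (fun k => Pi.π (Y ∘ b) (f.toOrderHom k)) :
              ∏ᶜ (Y ∘ b) ⟶ ∏ᶜ (Y ∘ b ∘ f.toOrderHom)).op :=
        Limits.Pi.lift_π _ _
      have hA' : ((FormalCoproduct.mk _ (fun k => π.obj (Y k))).cech.rightOp ⋙
          (FormalCoproduct.evalOp.{u} D' AddCommGrpCat.{u}).obj P).map f ≫ Pi.π _ b =
          Pi.π _ (b ∘ f.toOrderHom) ≫ P.map
            (Pi.lift (fun k => Pi.π ((fun k => π.obj (Y k)) ∘ b) (f.toOrderHom k)) :
              ∏ᶜ ((fun k => π.obj (Y k)) ∘ b) ⟶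
                ∏ᶜ ((fun k => π.obj (Y k)) ∘ b ∘ f.toOrderHom)).op :=
        Limits.Pi.lift_π _ _
      have hM : ∀ (k : SimplexCategory) (c : ToType k → κ),
          (Pi.mapIso fun a : ToType k → κ => P.mapIso (e k a).op.symm).hom ≫ Pi.π _ c =
            Pi.π _ c ≫ P.map (e k c).inv.op := fun k c =>
        Limits.Pi.map_π (fun a : ToType k → κ => (P.mapIso (e k a).op.symm).hom) c
      refine aux _ _ _ _ _ _ _ _ _ _ _ _ hA hA' (hM m b) (hM n (b ∘ f.toOrderHom)) ?_
      change P.map (π.map _).op ≫ P.map _ = P.map _ ≫ P.map _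
      rw [← P.map_comp, ← P.map_comp]
      congr 1
      apply Quiver.Hom.unop_inj
      change (e m b).inv ≫ π.map _ = _ ≫ (e n (b ∘ f.toOrderHom)).inv
      rw [Iso.inv_comp_eq, ← Category.assoc, Iso.eq_comp_inv]
      apply Limits.Pi.hom_ext
      intro k
      change (π.map (Pi.lift fun k => Pi.π (Y ∘ b) (f.toOrderHom k)) ≫
        (e n (b ∘ f.toOrderHom)).hom) ≫ Pi.π _ k =
        ((e m b).hom ≫ (Pi.lift fun k => Pi.π ((fun k => π.obj (Y k)) ∘ b) (f.toOrderHom k))) ≫
          Pi.π _ k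
      rw [Category.assoc, Category.assoc, Limits.Pi.lift_π, he, he, ← π.map_comp]
      exact congrArg π.map (Limits.Pi.lift_π _ _))

include he in
/-- comparison of Čech complexes along a functor compatible with products -/
noncomputable def cxIso :
    (cechComplexFunctor Y).obj (π.op ⋙ P) ≅ (cechComplexFunctor (fun k => π.obj (Y k))).obj P :=
  (alternatingCofaceMapComplex AddCommGrpCat.{u}).mapIso (cosimpIso π Y e he P)

end

end Groth.Agent.Lib.Helper27.EtLimK
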