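import Groth.Agent.Lib.Helper27.EtLimE

/-!
# The system of direct images to a fixed stage and its cocone (helper27)
-/

set_option autoImplicit false
set_option backward.isDefEq.respectTransparency false
set_option backward.isDefEq.respectTransparency.types false

universe u

open CategoryTheory CategoryTheory.Limits AlgebraicGeometry Opposite Abelian

namespace Groth.Agent.Lib.Helper27.EtLimK

open Groth.Agent.Lib.Helper27.EtLimA Groth.Agent.Lib.Helper27.EtLimB
  Groth.Agent.Lib.Helper27.EtLimC Groth.Agent.Lib.Helper27.EtLimD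
  Groth.Agent.Lib.Helper27.EtLimE Groth.Agent.Lib.Helper23.FinBC0

variable {ι : Type u} [Preorder ι] {Xs : ιᵒᵖ ⥤ Scheme.{u}} (c : Cone Xs) (S : Sys Xs) {k : ι}

/-- the transition maps between the direct images to the stage `k` -/
noncomputable def pushT {k' k'' : ι} (h : k ≤ k') (h' : k' ≤ k'') :
    (EtCoh.push (tr Xs h)).obj (S.F k') ⟶ (EtCoh.push (tr Xs (h.trans h'))).obj (S.F k'') :=
  relComp (tr Xs h) (tr Xs h') (tr Xs (h.trans h')) (tr_comp Xs h h') (𝟙 _) (S.τ h')

lemma pushT_refl {k' : ι} (h : k ≤ k') : pushT S h (le_refl k') = 𝟙 _ := by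
  unfold pushT
  rw [S.τ_refl, relComp_relId_right]

lemma pushT_trans {k' k'' k''' : ι} (h : k ≤ k') (h' : k' ≤ k'') (h'' : k'' ≤ k''') :
    pushT S h h' ≫ pushT S (h.trans h') h'' = pushT S h (h'.trans h'') := by
  have h1 : pushT S h h' ≫ pushT S (h.trans h') h'' =
      relComp (tr Xs (h.trans h')) (tr Xs h'') (tr Xs ((h.trans h').trans h''))
        (tr_comp Xs (h.trans h') h'') (pushT S h h') (S.τ h'') := by
    unfold pushT relComp
    simp only [Category.assoc, Category.id_comp]
  rw [h1]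
  unfold pushT
  rw [relComp_assoc (tr Xs h) (tr Xs h') (tr Xs h'') (tr Xs (h.trans h')) (tr Xs (h'.trans h''))
    (tr Xs ((h.trans h').trans h'')) (tr_comp Xs h h') (tr_comp Xs h' h'')
    (tr_comp Xs (h.trans h') h'') (tr_comp Xs h (h'.trans h'')), S.τ_trans]

variable (k) in
/-- the system of direct images to the stage `k` -/
noncomputable def pushSys : Later k ⥤ EtCoh.Ab (Xs.obj (op k)) where
  obj k' := (EtCoh.push (tr Xs k'.2)).obj (S.F k'.1)
  map {a b} f := pushT S a.2 (show a.1 ≤ b.1 from leOfHom f)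
  map_id a := pushT_refl S a.2
  map_comp {a b d} f g := (pushT_trans S a.2 (show a.1 ≤ b.1 from leOfHom f)
    (show b.1 ≤ d.1 from leOfHom g)).symm

/-- the legs of the cocone -/
noncomputable def pushL (cc : Cocone (S.G c)) {k' : ι} (h : k ≤ k') :
    (EtCoh.push (tr Xs h)).obj (S.F k') ⟶ (EtCoh.push (pr c k)).obj cc.pt :=
  relComp (tr Xs h) (pr c k') (pr c k) (pr_tr c h) (𝟙 _) (S.θ c cc k')

lemma pushT_pushL (cc : Cocone (S.G c)) {k' k'' : ι} (h : k ≤ k') (h' : k' ≤ k'') :
    pushT S h h' ≫ pushL c S cc (h.trans h') = pushL c S cc h := by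
  have h1 : pushT S h h' ≫ pushL c S cc (h.trans h') =
      relComp (tr Xs (h.trans h')) (pr c k'') (pr c k) (pr_tr c (h.trans h'))
        (pushT S h h') (S.θ c cc k'') := by
    unfold pushL relComp
    simp only [Category.assoc, Category.id_comp]
  rw [h1]
  unfold pushT pushL
  rw [relComp_assoc (tr Xs h) (tr Xs h') (pr c k'') (tr Xs (h.trans h')) (pr c k') (pr c k)
    (tr_comp Xs h h') (pr_tr c h') (pr_tr c (h.trans h')) (pr_tr c h), S.τ_θ]

variable (k) in
/-- the cocone of direct images to the stage `k` -/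
noncomputable def pushCocone (cc : Cocone (S.G c)) : Cocone (pushSys S k) where
  pt := (EtCoh.push (pr c k)).obj cc.pt
  ι :=
    { app := fun k' => pushL c S cc k'.2
      naturality := fun a b f => by
        change pushT S a.2 (show a.1 ≤ b.1 from leOfHom f) ≫ pushL c S cc b.2 = pushL c S cc a.2 ≫ 𝟙 _
        rw [Category.comp_id]
        exact pushT_pushL c S cc a.2 (show a.1 ≤ b.1 from leOfHom f) }

/-- the sections of the transition maps -/
lemma pushT_sec {k' k'' : ι} (h : k ≤ k') (h' : k' ≤ k'') (W : (Xs.obj (op k)).Etale) :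
    (pushT S h h').hom.app (op W) =
      secMap (tr Xs h') (S.τ h') ((EtCoh.bc (tr Xs h)).obj W) ≫
        (S.F k'').obj.map ((triIso (tr Xs h') (tr Xs h) (tr Xs (h.trans h'))
          (tr_comp Xs h h')).inv.app W).op := by
  have := relComp_sec (tr Xs h) (tr Xs h') (tr Xs (h.trans h')) (tr_comp Xs h h') (𝟙 _) (S.τ h') W
  refine this.trans ?_
  exact Category.id_comp _

/-- the sections of the legs -/
lemma pushL_sec (cc : Cocone (S.G c)) {k' : ι} (h : k ≤ k') (W : (Xs.obj (op k)).Etale) :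
    (pushL c S cc h).hom.app (op W) =
      secMap (pr c k') (S.θ c cc k') ((EtCoh.bc (tr Xs h)).obj W) ≫
        cc.pt.obj.map ((triIso (pr c k') (tr Xs h) (pr c k) (pr_tr c h)).inv.app W).op := by
  have := relComp_sec (tr Xs h) (pr c k') (pr c k) (pr_tr c h) (𝟙 _) (S.θ c cc k') W
  refine this.trans ?_
  exact Category.id_comp _

instance [IsDirected ι (· ≤ ·)] (k : ι) : IsDirected (Later k) (· ≤ ·) :=
  ⟨fun a b => by
    obtain ⟨m, h1, h2⟩ := exists_ge_ge a.1 b.1
    exact ⟨⟨m, a.2.trans h1⟩, h1, h2⟩⟩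

instance (k : ι) : Nonempty (Later k) := ⟨⟨k, le_refl k⟩⟩

instance [IsDirected ι (· ≤ ·)] (k : ι) : IsFiltered (Later k) :=
  isFiltered_of_directed_le_nonempty _

end Groth.Agent.Lib.Helper27.EtLimK
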