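import Groth.Agent.Lib.Helper27.EtLimK0
import Groth.Agent.Lib.Helper27.EtLimK2
import Groth.Agent.Lib.Helper27.EtLimH7
import Groth.Agent.Lib.Helper27.EtTransport6

/-!
# Čech cohomology of the limit of a system of injective sheaves, at a finite stage (helper27)
-/

set_option autoImplicit false
set_option backward.isDefEq.respectTransparency false
set_option backward.isDefEq.respectTransparency.types false

universe u

open CategoryTheory CategoryTheory.Limits AlgebraicGeometry Opposite Abelian Simplicial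

namespace Groth.Agent.Lib.Helper27.EtLimK

open Groth.Agent.Lib.Helper27.EtLimA Groth.Agent.Lib.Helper27.EtLimB
  Groth.Agent.Lib.Helper27.EtLimC Groth.Agent.Lib.Helper27.EtLimD
  Groth.Agent.Lib.Helper27.EtLimE Groth.Agent.Lib.Helper27.EtLimG
  Groth.Agent.Lib.Helper27.EtLimH Groth.Agent.Lib.Helper23.FinBC0
  Groth.Agent.Lib.Helper27.EtTransport Groth.Agent.Lib.Helper6

section Theta

variable {X : Scheme.{u}} (W₀ : DE X)

/-- sections over the objects of the small model over `W₀` -/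
noncomputable abbrev Θ : EtCoh.Ab X ⥤ ((Over W₀)ᵒᵖ ⥤ AddCommGrpCat.{u + 1}) :=
  ΦE X ⋙ CechFamSurj.Φ (KE X) (U := W₀)

lemma Θ_obj_obj (A : EtCoh.Ab X) (T : (Over W₀)ᵒᵖ) :
    ((Θ W₀).obj A).obj T = A.obj.obj (op ((GE X).obj T.unop.left)) := rfl

lemma Θ_map_app (A B : EtCoh.Ab X) (f : A ⟶ B) (T : (Over W₀)ᵒᵖ) :
    ((Θ W₀).map f).app T = f.hom.app (op ((GE X).obj T.unop.left)) := rfl

instance (A : EtCoh.Ab X) [Injective A] : Injective ((ΦE X).obj A) :=
  Injective.injective_of_adjoint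
    (Functor.IsDenseSubsite.sheafEquiv (KE X) X.smallEtaleTopology (GE X)
      AddCommGrpCat.{u + 1}).toAdjunction A

instance (A : EtCoh.Ab X) [Injective A] : Injective ((Θ W₀).obj A) := by
  haveI := CohSiteOver.injective_R (KE X) W₀ ((ΦE X).obj A)
  exact Injective.injective_of_adjoint
    (sheafificationAdjunction ((KE X).over W₀) AddCommGrpCat.{u + 1})
    ((CohSiteOver.R (KE X) W₀).obj ((ΦE X).obj A))

end Theta

lemma map_map_apply_of_eq_id {C : Type*} [Category C] (A : Cᵒᵖ ⥤ AddCommGrpCat.{u + 1})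
    {U V : C} (f : U ⟶ V) (g : V ⟶ U) (h : g ≫ f = 𝟙 V) (z : A.obj (op V)) :
    A.map g.op (A.map f.op z) = z := by
  have : A.map f.op ≫ A.map g.op = 𝟙 _ := by
    rw [← A.map_comp, ← op_comp, h, op_id, A.map_id]
  exact ConcreteCategory.congr_hom this z

section BE

variable {X : Scheme.{u}}

lemma compactSpace_of_mem_BE [CompactSpace X] (V : DE X) (hV : V ∈ BE X) :
    CompactSpace ((GE X).obj V).left := by
  have := hV.1
  exact QuasiCompact.compactSpace_of_compactSpace (str V)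

lemma quasiSeparatedSpace_of_mem_BE [QuasiSeparatedSpace X] (V : DE X) (hV : V ∈ BE X) :
    QuasiSeparatedSpace ((GE X).obj V).left := by
  have := hV.2
  exact quasiSeparatedSpace_of_quasiSeparated (str V)

end BE

variable {ι : Type u} [Preorder ι] [IsDirected ι (· ≤ ·)] [Nonempty ι] {Xs : ιᵒᵖ ⥤ Scheme.{u}}
  (c : Cone Xs) (hc : IsLimit c)
  [∀ (a b : ιᵒᵖ) (h : a ⟶ b), IsAffineHom (Xs.map h)] [∀ a, CompactSpace ↥(Xs.obj a)]
  [∀ a, QuasiSeparatedSpace ↥(Xs.obj a)]
  (S : Sys Xs) (cc : Cocone (S.G c)) (hcc : IsColimit cc)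

include hc hcc in
/-- the Čech cohomology, for a finite family of qcqs objects at a finite stage, of the direct
image of the limit of a system of injective sheaves vanishes -/
theorem cech_isZero (hS : ∀ j, Injective (S.F j)) (k : ι) (W₀ : DE (Xs.obj (op k)))
    (hW₀ : W₀ ∈ BE (Xs.obj (op k))) {κ : Type (u + 1)} [Finite κ] (Y₀ : κ → Over W₀)
    (hY₀ : ∀ i, (Y₀ i).left ∈ BE (Xs.obj (op k))) (q : ℕ) :
    IsZero (((cechComplexFunctor Y₀).obj
      ((Θ W₀).obj ((EtCoh.push (pr c k)).obj cc.pt))).homology (q + 1)) := by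
  have hprod : ∀ (m : ℕ) (a : Fin (m + 1) → κ), (∏ᶜ fun i => Y₀ (a i)).left ∈ BE (Xs.obj (op k)) :=
    fun m a => prod_mem_BE W₀ hW₀ Y₀ hY₀ m a
  refine isZero_homology_cocone' (FormalCoproduct.mk κ Y₀).cech (pushSys S k ⋙ Θ W₀)
    ((Θ W₀).mapCocone (pushCocone c S k cc)) ?_ ?_ ?_ q ?_
  · intro m
    exact (inferInstance : Finite (Fin (m + 1) → κ))
  · intro m a z
    haveI := compactSpace_of_mem_BE _ (hprod m a)
    haveI := quasiSeparatedSpace_of_mem_BE _ (hprod m a)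
    obtain ⟨k', h, s, hs⟩ := P1 c hc S cc hcc
      ((GE (Xs.obj (op k))).obj (∏ᶜ fun i => Y₀ (a i)).left) z
    refine ⟨⟨k', h⟩, s, ?_⟩
    change (pushL c S cc h).hom.app (op ((GE (Xs.obj (op k))).obj (∏ᶜ fun i => Y₀ (a i)).left)) s = z
    rw [pushL_sec]
    change cc.pt.obj.map _ (secMap (pr c k') (S.θ c cc k') _ s) = z
    rw [hs]
    exact map_map_apply_of_eq_id cc.pt.obj _ _ (Iso.inv_hom_id_app (tcan c h) _) z
  · intro m a i s hs
    haveI := compactSpace_of_mem_BE _ (hprod m a)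
    haveI := quasiSeparatedSpace_of_mem_BE _ (hprod m a)
    change (pushL c S cc i.2).hom.app
      (op ((GE (Xs.obj (op k))).obj (∏ᶜ fun i => Y₀ (a i)).left)) s = 0 at hs
    rw [pushL_sec] at hs
    have hs' : secMap (pr c i.1) (S.θ c cc i.1)
        ((EtCoh.bc (tr Xs i.2)).obj ((GE (Xs.obj (op k))).obj (∏ᶜ fun i => Y₀ (a i)).left)) s =
        0 := by
      have h1 := congrArg (cc.pt.obj.map ((tcan c i.2).hom.app
        ((GE (Xs.obj (op k))).obj (∏ᶜ fun i => Y₀ (a i)).left)).op) hs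
      rw [map_zero] at h1
      refine Eq.trans ?_ h1
      exact (map_map_apply_of_eq_id cc.pt.obj _ _ (Iso.hom_inv_id_app (tcan c i.2) _) _).symm
    obtain ⟨k'', h', hk''⟩ := P2 c hc S cc hcc
      ((EtCoh.bc (tr Xs i.2)).obj ((GE (Xs.obj (op k))).obj (∏ᶜ fun i => Y₀ (a i)).left)) s hs'
    refine ⟨⟨k'', i.2.trans h'⟩, homOfLE h', ?_⟩
    change (pushT S i.2 h').hom.app
      (op ((GE (Xs.obj (op k))).obj (∏ᶜ fun i => Y₀ (a i)).left)) s = 0
    rw [pushT_sec]
    change (S.F k'').obj.map _ (secMap (tr Xs h') (S.τ h')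
      ((EtCoh.bc (tr Xs i.2)).obj ((GE (Xs.obj (op k))).obj (∏ᶜ fun i => Y₀ (a i)).left)) s) = 0
    rw [hk'', map_zero]
  · intro i
    haveI := hS i.1
    haveI : Injective ((pushSys S k).obj i) :=
      Injective.injective_of_adjoint (EtCoh.pullPushAdj (tr Xs i.2)) (S.F i.1)
    exact CechFamRes.isZero_homology (FormalCoproduct.mk κ Y₀) ((Θ W₀).obj ((pushSys S k).obj i)) q

end Groth.Agent.Lib.Helper27.EtLimK
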