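import Groth.Agent.Lib.Helper27.EtLimK1
import Groth.Agent.Lib.Helper27.EtLimK3
import Groth.Agent.Lib.Helper6.CechFamCartan
import Mathlib.CategoryTheory.Limits.Preserves.Shapes.Over

/-!
# The covering families coming from finite stages, and Čech-acyclicity (helper27)
-/

set_option autoImplicit false
set_option backward.isDefEq.respectTransparency false
set_option backward.isDefEq.respectTransparency.types false

universe u

open CategoryTheory CategoryTheory.Limits AlgebraicGeometry Opposite Abelian Simplicial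

namespace Groth.Agent.Lib.Helper27.EtLimK

open Groth.Agent.Lib.Helper27.EtLimA Groth.Agent.Lib.Helper27.EtLimB
  Groth.Agent.Lib.Helper27.EtLimC Groth.Agent.Lib.Helper27.EtLimD
  Groth.Agent.Lib.Helper27.EtLimE Groth.Agent.Lib.Helper27.EtLimG
  Groth.Agent.Lib.Helper27.EtLimH Groth.Agent.Lib.Helper23.FinBC0
  Groth.Agent.Lib.Helper27.EtTransport Groth.Agent.Lib.Helper6

variable {ι : Type u} [Preorder ι] {Xs : ιᵒᵖ ⥤ Scheme.{u}} (c : Cone Xs)

/-- base change from the small model of a stage to the small model of the limit -/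
noncomputable abbrev βE (k : ι) : DE (Xs.obj (op k)) ⥤ DE c.pt :=
  GE (Xs.obj (op k)) ⋙ EtCoh.bc (pr c k) ⋙ (eE c.pt).functor

instance (k : ι) : PreservesFiniteLimits (βE c k) := by
  haveI : PreservesFiniteLimits (GE (Xs.obj (op k))) := inferInstance
  haveI : PreservesFiniteLimits (eE c.pt).functor := inferInstance
  infer_instance

variable {c}

/-- the induced functor on slices -/
noncomputable abbrev πE {k : ι} {W₀ : DE (Xs.obj (op k))} {U : DE c.pt}
    (e : (βE c k).obj W₀ ≅ U) : Over W₀ ⥤ Over U :=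
  Over.post (βE c k) ⋙ Over.map e.hom

instance {k : ι} {W₀ : DE (Xs.obj (op k))} {U : DE c.pt} (e : (βE c k).obj W₀ ≅ U) :
    PreservesFiniteLimits (πE e) := by
  haveI : PreservesFiniteLimits (Over.map e.hom) := by
    have : (Over.map e.hom).IsEquivalence := (Over.mapIso e).isEquivalence_functor
    infer_instance
  infer_instance

lemma πE_obj_left {k : ι} {W₀ : DE (Xs.obj (op k))} {U : DE c.pt}
    (e : (βE c k).obj W₀ ≅ U) (T : Over W₀) : ((πE e).obj T).left = (βE c k).obj T.left := rfl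

lemma πE_obj_hom {k : ι} {W₀ : DE (Xs.obj (op k))} {U : DE c.pt}
    (e : (βE c k).obj W₀ ≅ U) (T : Over W₀) :
    ((πE e).obj T).hom = (βE c k).map T.hom ≫ e.hom := rfl

/-- the sections of a sheaf on the limit over base changes from a finite stage -/
noncomputable def compIso {k : ι} {W₀ : DE (Xs.obj (op k))} {U : DE c.pt}
    (e : (βE c k).obj W₀ ≅ U) (M : EtCoh.Ab c.pt) :
    (πE e).op ⋙ (Over.forget U).op ⋙ ((ΦE c.pt).obj M).obj ≅
      (Θ W₀).obj ((EtCoh.push (pr c k)).obj M) :=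
  NatIso.ofComponents (fun T => Iso.refl _) (by
    intro T T' f
    rw [Iso.refl_hom, Iso.refl_hom, Category.comp_id, Category.id_comp]
    rfl)

variable (c)

/-- the objects coming from qcqs objects at a finite stage -/
def BL : Set (DE c.pt) :=
  {U | ∃ (k : ι) (W₀ : DE (Xs.obj (op k))), W₀ ∈ BE (Xs.obj (op k)) ∧
    Nonempty ((βE c k).obj W₀ ≅ U)}

/-- the covering families coming from finite covering families of qcqs objects at a finite
stage -/
def CovL (U : DE c.pt) (κ : Type (u + 1)) (Y : κ → Over U) : Prop :=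
  Finite κ ∧ ∃ (k : ι) (W₀ : DE (Xs.obj (op k))) (e : (βE c k).obj W₀ ≅ U) (Y₀ : κ → Over W₀),
    W₀ ∈ BE (Xs.obj (op k)) ∧ (∀ i, (Y₀ i).left ∈ BE (Xs.obj (op k))) ∧
    (∀ w : sch W₀, ∃ i, w ∈ Set.range (schMap (Y₀ i).hom)) ∧ Y = fun i => (πE e).obj (Y₀ i)

section Acyc

variable [IsDirected ι (· ≤ ·)] [Nonempty ι] (hc : IsLimit c)
  [∀ (a b : ιᵒᵖ) (h : a ⟶ b), IsAffineHom (Xs.map h)] [∀ a, CompactSpace ↥(Xs.obj a)]
  [∀ a, QuasiSeparatedSpace ↥(Xs.obj a)]
  (S : Sys Xs) (cc : Cocone (S.G c)) (hcc : IsColimit cc)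

include hc hcc in
/-- the limit of a system of injective sheaves is Čech-acyclic for the families in `CovL` -/
theorem cechAcyc (hS : ∀ j, Injective (S.F j)) :
    CechFamCartan.CechAcyc (KE c.pt) (CovL c) ((ΦE c.pt).obj cc.pt) := by
  intro U κ Y hCov q
  obtain ⟨hfin, k, W₀, e, Y₀, hW₀, hY₀, -, rfl⟩ := hCov
  have h0 := cech_isZero c hc S cc hcc hS k W₀ hW₀ Y₀ hY₀ q
  refine h0.of_iso ((HomologicalComplex.homologyFunctor _ _ (q + 1)).mapIso ?_)
  exact (cxIso (πE e) Y₀ (fun n a => PreservesProduct.iso (πE e) (Y₀ ∘ a))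
    (fun n a j => piComparison_comp_π (πE e) (Y₀ ∘ a) j)
    ((Over.forget U).op ⋙ ((ΦE c.pt).obj cc.pt).obj)).symm ≪≫
    (cechComplexFunctor Y₀).mapIso (compIso e cc.pt)

end Acyc

end Groth.Agent.Lib.Helper27.EtLimK
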