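import Groth.Agent.Lib.Helper27.EtLimK4

/-!
# The covering families coming from finite stages: first axiom (helper27)
-/

set_option autoImplicit false
set_option backward.isDefEq.respectTransparency false
set_option backward.isDefEq.respectTransparency.types false

universe u

open CategoryTheory CategoryTheory.Limits AlgebraicGeometry Opposite Abelian Simplicial

namespace Groth.Agent.Lib.Helper27.EtLimK

open Groth.Agent.Lib.Helper27.EtLimA Groth.Agent.Lib.Helper27.EtLimB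
  Groth.Agent.Lib.Helper27.EtLimC Groth.Agent.Lib.Helper27.EtLimD
  Groth.Agent.Lib.Helper27.EtLimE Groth.Agent.Lib.Helper27.EtLimG
  Groth.Agent.Lib.Helper27.EtLimH Groth.Agent.Lib.Helper23.FinBC0
  Groth.Agent.Lib.Helper27.EtTransport Groth.Agent.Lib.Helper6

lemma schMap_inv_hom_apply {X : Scheme.{u}} {V W : DE X} (e : V ≅ W) (w : sch W) :
    schMap e.hom (schMap e.inv w) = w := by
  have h : schMap e.inv ≫ schMap e.hom = 𝟙 _ := by
    rw [← schMap_comp, e.inv_hom_id]; rfl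
  rw [← Scheme.Hom.comp_apply, h]
  rfl

lemma schMap_hom_inv_apply {X : Scheme.{u}} {V W : DE X} (e : V ≅ W) (v : sch V) :
    schMap e.inv (schMap e.hom v) = v := by
  have h : schMap e.hom ≫ schMap e.inv = 𝟙 _ := by
    rw [← schMap_comp, e.hom_inv_id]; rfl
  rw [← Scheme.Hom.comp_apply, h]
  rfl

variable {ι : Type u} [Preorder ι] {Xs : ιᵒᵖ ⥤ Scheme.{u}} (c : Cone Xs)

theorem covL_h1 (U : DE c.pt) (κ : Type (u + 1)) (Y : κ → Over U) (h : CovL c U κ Y) :
    U ∈ BL c ∧ Sieve.ofArrows (fun i => (Y i).left) (fun i => (Y i).hom) ∈ KE c.pt U ∧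
      ∀ (p : ℕ) (a : Fin (p + 1) → κ), (∏ᶜ fun j => Y (a j)).left ∈ BL c := by
  obtain ⟨hfin, k, W₀, e, Y₀, hW₀, hY₀, hcov, rfl⟩ := h
  refine ⟨⟨k, W₀, hW₀, ⟨e⟩⟩, ?_, ?_⟩
  · rw [mem_KE_iff]
    intro u
    obtain ⟨i, n, hn⟩ := hcov (prL (pr c k) ((GE _).obj W₀) (schMap e.inv u))
    obtain ⟨z, hz⟩ := exists_bc_map_point (pr c k) ((Y₀ i).hom.down) (schMap e.inv u) n hn
    refine ⟨((πE e).obj (Y₀ i)).left, ((πE e).obj (Y₀ i)).hom, Sieve.ofArrows_mk _ _ i, z, ?_⟩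
    change schMap e.hom (((EtCoh.bc (pr c k)).map (Y₀ i).hom.down).left z) = u
    rw [hz]
    exact schMap_inv_hom_apply e u
  · intro p a
    refine ⟨k, (∏ᶜ fun j => Y₀ (a j)).left, prod_mem_BE W₀ hW₀ Y₀ hY₀ p a, ⟨?_⟩⟩
    exact (Over.forget U).mapIso (PreservesProduct.iso (πE e) (fun j => Y₀ (a j)))

end Groth.Agent.Lib.Helper27.EtLimK
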