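import Groth.Agent.Lib.Helper27.EtLimK5

/-!
# The covering families coming from finite stages: second axiom (helper27)
-/

set_option autoImplicit false
set_option backward.isDefEq.respectTransparency false
set_option backward.isDefEq.respectTransparency.types false

universe u

open CategoryTheory CategoryTheory.Limits AlgebraicGeometry Opposite Abelian Simplicial

namespace Groth.Agent.Lib.Helper27.EtLimK

open Groth.Agent.Lib.Helper27.EtLimA Groth.Agent.Lib.Helper27.EtLimB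
  Groth.Agent.Lib.Helper27.EtLimC Groth.Agent.Lib.Helper27.EtLimD
  Groth.Agent.Lib.Helper27.EtLimE Groth.Agent.Lib.Helper27.EtLimG
  Groth.Agent.Lib.Helper27.EtLimH Groth.Agent.Lib.Helper23.FinBC0
  Groth.Agent.Lib.Helper27.EtTransport Groth.Agent.Lib.Helper6

lemma mem_BE_of_qcqs {X : Scheme.{u}} [QuasiSeparatedSpace X] (V : X.Etale) [CompactSpace V.left]
    [QuasiSeparatedSpace V.left] : (eE X).functor.obj V ∈ BE X := by
  constructor
  · exact (inferInstance : QuasiCompact (show V.left ⟶ X from V.hom))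
  · exact (inferInstance : QuasiSeparated (show V.left ⟶ X from V.hom))

variable {ι : Type u} [Preorder ι] [IsDirected ι (· ≤ ·)] [Nonempty ι] {Xs : ιᵒᵖ ⥤ Scheme.{u}}
  (c : Cone Xs) (hc : IsLimit c)
  [∀ (a b : ιᵒᵖ) (h : a ⟶ b), IsAffineHom (Xs.map h)] [∀ a, CompactSpace ↥(Xs.obj a)]
  [∀ a, QuasiSeparatedSpace ↥(Xs.obj a)]

include hc in
/-- locally, a covering sieve of a base change contains the realization of a qcqs piece -/
lemma h2_local {k : ι} (W : (Xs.obj (op k)).Etale) [CompactSpace W.left]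
    [QuasiSeparatedSpace W.left] {U : DE c.pt}
    (e : (eE c.pt).functor.obj ((EtCoh.bc (pr c k)).obj W) ≅ U) (T : Sieve U)
    (hT : T ∈ KE c.pt U) (x : ((EtCoh.bc (pr c k)).obj W).left) :
    ∃ P : Piece W, x ∈ Set.range (P.real c).left ∧ CompactSpace P.O.left ∧
      QuasiSeparatedSpace P.O.left ∧ T.arrows ((eE c.pt).functor.map (P.real c) ≫ e.hom) := by
  rw [mem_KE_iff] at hT
  obtain ⟨V, g, hg, v, hv⟩ := hT (schMap e.hom x)
  obtain ⟨k₁, O, e₁, hO1, hO2, o, ho⟩ := geoB c hc ((GE c.pt).obj V) v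
  let Q : XPiece c ((GE c.pt).obj V) := ⟨k₁, O, e₁⟩
  haveI : CompactSpace Q.O.left := hO1
  haveI : QuasiSeparatedSpace Q.O.left := hO2
  obtain ⟨k₁', h₁, k₂, h₂, hj, g', hg'⟩ := homDesc' hc Q W (g.down ≫ e.inv.down)
  haveI : CompactSpace (Q.up h₁).O.left := compactSpace_bc_tr h₁ Q.O
  haveI : QuasiSeparatedSpace (Q.up h₁).O.left := quasiSeparatedSpace_bc_tr h₁ Q.O
  have hreal : (⟨k₂, hj, ((Q.up h₁).up h₂).O, g'⟩ : Piece W).real c =
      ((Q.up h₁).up h₂).e ≫ (g.down ≫ e.inv.down) := hg'.symm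
  refine ⟨⟨k₂, hj, ((Q.up h₁).up h₂).O, g'⟩, ?_, compactSpace_bc_tr h₂ (Q.up h₁).O,
    quasiSeparatedSpace_bc_tr h₂ (Q.up h₁).O, ?_⟩
  · have hr : v ∈ Set.range ((Q.up h₁).up h₂).e.left := by
      rw [XPiece.up_range, XPiece.up_range]
      exact ⟨o, ho⟩
    obtain ⟨o', ho'⟩ := hr
    refine ⟨o', ?_⟩
    rw [hreal]
    change schMap e.inv (schMap g (((Q.up h₁).up h₂).e.left o')) = x
    rw [ho', hv]
    exact schMap_hom_inv_apply e x
  · rw [hreal]
    have : (eE c.pt).functor.map (((Q.up h₁).up h₂).e ≫ (g.down ≫ e.inv.down)) ≫ e.hom =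
        (eE c.pt).functor.map ((Q.up h₁).up h₂).e ≫ g := by
      have h1 : (eE c.pt).functor.map (((Q.up h₁).up h₂).e ≫ (g.down ≫ e.inv.down)) =
          (eE c.pt).functor.map ((Q.up h₁).up h₂).e ≫ g ≫ e.inv := rfl
      rw [h1, Category.assoc, Category.assoc, e.inv_hom_id, Category.comp_id]
    rw [this]
    exact T.downward_closed hg _

include hc in
theorem covL_h2 (U : DE c.pt) (hU : U ∈ BL c) (T : Sieve U) (hT : T ∈ KE c.pt U) :
    ∃ (κ : Type (u + 1)) (Y : κ → Over U), CovL c U κ Y ∧ ∀ i, T.arrows (Y i).hom := by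
  classical
  obtain ⟨k, W₀, hW₀, ⟨e⟩⟩ := hU
  haveI := compactSpace_of_mem_BE _ hW₀
  haveI := quasiSeparatedSpace_of_mem_BE _ hW₀
  choose P hP1 hPc hPq hPT using
    h2_local c hc ((GE (Xs.obj (op k))).obj W₀) e T hT
  obtain ⟨t, k', hk, hj, k'', h'', hcov⟩ := finCover c hc ((GE (Xs.obj (op k))).obj W₀) P hP1
  -- the new base object
  let W' : (Xs.obj (op k'')).Etale :=
    (EtCoh.bc (tr Xs (hj.trans h''))).obj ((GE (Xs.obj (op k))).obj W₀)
  let W₀' : DE (Xs.obj (op k'')) := (eE (Xs.obj (op k''))).functor.obj W'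
  let e' : (βE c k'').obj W₀' ≅ U :=
    (eE c.pt).functor.mapIso ((tcan c (hj.trans h'')).app ((GE (Xs.obj (op k))).obj W₀)) ≪≫ e
  have hPc' : ∀ (x : _) (hx : x ∈ t), CompactSpace (((P x).up (hk x hx)).up h'').O.left := by
    intro x hx
    haveI := hPc x
    haveI : CompactSpace ((P x).up (hk x hx)).O.left := compactSpace_bc_tr (hk x hx) (P x).O
    exact compactSpace_bc_tr h'' ((P x).up (hk x hx)).O
  have hPq' : ∀ (x : _) (hx : x ∈ t),
      QuasiSeparatedSpace (((P x).up (hk x hx)).up h'').O.left := by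
    intro x hx
    haveI := hPq x
    haveI : QuasiSeparatedSpace ((P x).up (hk x hx)).O.left :=
      quasiSeparatedSpace_bc_tr (hk x hx) (P x).O
    exact quasiSeparatedSpace_bc_tr h'' ((P x).up (hk x hx)).O
  let Y₀ : ULift.{u + 1} {x // x ∈ t} → Over W₀' := fun a =>
    Over.mk ((eE (Xs.obj (op k''))).functor.map (((P a.down.1).up (hk a.down.1 a.down.2)).up h'').g)
  refine ⟨ULift.{u + 1} {x // x ∈ t}, fun a => (πE e').obj (Y₀ a),
    ⟨inferInstance, k'', W₀', e', Y₀, ?_, ?_, ?_, rfl⟩, ?_⟩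
  · haveI : CompactSpace W'.left := compactSpace_bc_tr _ _
    haveI : QuasiSeparatedSpace W'.left := quasiSeparatedSpace_bc_tr _ _
    exact mem_BE_of_qcqs W'
  · intro a
    haveI := hPc' a.down.1 a.down.2
    haveI := hPq' a.down.1 a.down.2
    exact mem_BE_of_qcqs (((P a.down.1).up (hk a.down.1 a.down.2)).up h'').O
  · intro w
    obtain ⟨x, hx, n, hn⟩ := hcov w
    exact ⟨⟨⟨x, hx⟩⟩, n, hn⟩
  · intro a
    have key : ((πE e').obj (Y₀ a)).hom =
        (eE c.pt).functor.map ((((P a.down.1).up (hk a.down.1 a.down.2)).up h'').real c) ≫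
          e.hom := by
      rw [πE_obj_hom]
      change (eE c.pt).functor.map _ ≫ (eE c.pt).functor.map _ ≫ e.hom = _
      rw [← Category.assoc, ← Functor.map_comp]
      rfl
    rw [key, Piece.up_real, Piece.up_real, Functor.map_comp, Functor.map_comp, Category.assoc,
      Category.assoc]
    exact T.downward_closed (T.downward_closed (hPT a.down.1) _) _

end Groth.Agent.Lib.Helper27.EtLimK
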