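import Groth.Agent.Lib.Helper27.EtLimK6

/-!
# The limit of a system of injective sheaves is acyclic (helper27)
-/

set_option autoImplicit false
set_option backward.isDefEq.respectTransparency false
set_option backward.isDefEq.respectTransparency.types false

universe u

open CategoryTheory CategoryTheory.Limits AlgebraicGeometry Opposite Abelian Simplicial

namespace Groth.Agent.Lib.Helper27.EtLimK

open Groth.Agent.Lib.Helper27.EtLimA Groth.Agent.Lib.Helper27.EtLimB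
  Groth.Agent.Lib.Helper27.EtLimC Groth.Agent.Lib.Helper27.EtLimD
  Groth.Agent.Lib.Helper27.EtLimE Groth.Agent.Lib.Helper27.EtLimG
  Groth.Agent.Lib.Helper27.EtLimH Groth.Agent.Lib.Helper23.FinBC0
  Groth.Agent.Lib.Helper27.EtTransport Groth.Agent.Lib.Helper6

variable {ι : Type u} [Preorder ι] [IsDirected ι (· ≤ ·)] [Nonempty ι] {Xs : ιᵒᵖ ⥤ Scheme.{u}}
  (c : Cone Xs) (hc : IsLimit c)
  [∀ (a b : ιᵒᵖ) (h : a ⟶ b), IsAffineHom (Xs.map h)] [∀ a, CompactSpace ↥(Xs.obj a)]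
  [∀ a, QuasiSeparatedSpace ↥(Xs.obj a)]

lemma TE_mem_BL : TE c.pt ∈ BL c := by
  obtain ⟨k⟩ := (inferInstance : Nonempty ι)
  refine ⟨k, TE (Xs.obj (op k)), TE_mem _, ⟨?_⟩⟩
  exact ((isTerminalTE (Xs.obj (op k))).isTerminalObj (βE c k) _).uniqueUpToIso
    (isTerminalTE c.pt)

include hc in
/-- **the limit of a system of injective sheaves has no higher cohomology** -/
theorem hacyc (S : Sys Xs) (hS : ∀ j, Injective (S.F j)) (cc : Cocone (S.G c))
    (hcc : IsColimit cc) (n : ℕ) (y : EtCoh.H c.pt cc.pt (n + 1)) : y = 0 := by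
  have hbij := (ΦE c.pt).mapExt_bijective_of_preservesInjectiveObjects (constZ c.pt) cc.pt (n + 1)
  apply hbij.1
  rw [map_zero]
  generalize (ΦE c.pt).mapExtAddHom (constZ c.pt) cc.pt (n + 1) y = y'
  have h0 : (Ext.mk₀ (zfreeIsoΦ c.pt).hom).comp y' (zero_add (n + 1)) = 0 :=
    CechFamCartan.cartan (KE c.pt) (BL c) (CovL c) (covL_h1 c) (covL_h2 c hc) n
      ((ΦE c.pt).obj cc.pt) (cechAcyc c hc S cc hcc hS) (TE c.pt) (TE_mem_BL c) _
  have h1 : y' = (Ext.mk₀ (zfreeIsoΦ c.pt).inv).comp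
      ((Ext.mk₀ (zfreeIsoΦ c.pt).hom).comp y' (zero_add (n + 1))) (zero_add (n + 1)) := by
    rw [Ext.mk₀_comp_mk₀_assoc, Iso.inv_hom_id, Ext.mk₀_id_comp]
  rw [h1, h0, Ext.comp_zero]

end Groth.Agent.Lib.Helper27.EtLimK
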