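import Groth.Agent.Lib.Helper27.EtLimK7
import Groth.Agent.Lib.Helper27.EtLimJ
import Groth.Agent.Lib.Helper27.EtLimI
import Mathlib.CategoryTheory.Abelian.GrothendieckAxioms.Sheaf

/-!
# The limit theorem for étale cohomology (helper27)
-/

set_option autoImplicit false
set_option backward.isDefEq.respectTransparency false
set_option backward.isDefEq.respectTransparency.types false

universe u

open CategoryTheory CategoryTheory.Limits AlgebraicGeometry Opposite Abelian

namespace Groth.Agent.Lib.Helper27.EtLimL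

open Groth.Agent.Lib.Helper27.EtLimA Groth.Agent.Lib.Helper27.EtLimB
  Groth.Agent.Lib.Helper27.EtLimC Groth.Agent.Lib.Helper27.EtLimD
  Groth.Agent.Lib.Helper27.EtLimE Groth.Agent.Lib.Helper27.EtLimI
  Groth.Agent.Lib.Helper27.EtLimJ Groth.Agent.Lib.Helper27.EtLimK

variable {ι : Type u} [Preorder ι] [IsDirected ι (· ≤ ·)] [Nonempty ι] {Xs : ιᵒᵖ ⥤ Scheme.{u}}
  (c : Cone Xs) (hc : IsLimit c)
  [∀ (a b : ιᵒᵖ) (h : a ⟶ b), IsAffineHom (Xs.map h)] [∀ a, CompactSpace ↥(Xs.obj a)]
  [∀ a, QuasiSeparatedSpace ↥(Xs.obj a)]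

instance : HasExactColimitsOfShape ι (EtCoh.Ab c.pt) := by
  haveI : IsFiltered ι := isFiltered_of_directed_le_nonempty _
  infer_instance

include hc in
/-- the limit theorem for the chosen colimit -/
theorem limS (S : Sys Xs) (n : ℕ) : SurjS c S n ∧ InjS c S n :=
  main c (fun S => ⟨surjS_zero c hc S, injS_zero c hc S⟩)
    (fun S n y => hacyc c hc (cofree S) (fun j => inferInstanceAs (Injective (cofreeF S j)))
      (colimit.cocone _) (colimit.isColimit _) n y) n S

include hc in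
/-- **the limit theorem for étale cohomology**, for an arbitrary colimit cocone -/
theorem limThm (S : Sys Xs) (cc : Cocone (S.G c)) (hcc : IsColimit cc) (n : ℕ) :
    (∀ y : EtCoh.H c.pt cc.pt n, ∃ (j : ι) (x : EtCoh.H (Xs.obj (op j)) (S.F j) n),
      EtLim.HpullThen (pr c j) (S.F j) (cc.ι.app j) n x = y) ∧
    (∀ (j : ι) (x : EtCoh.H (Xs.obj (op j)) (S.F j) n),
      EtLim.HpullThen (pr c j) (S.F j) (cc.ι.app j) n x = 0 →
        ∃ (k : ι) (h : j ≤ k), EtLim.HpullThen (tr Xs h) (S.F j) (Sys.φ S h) n x = 0) := by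
  obtain ⟨h1, h2⟩ := limS c hc S n
  let e : colimit (S.G c) ≅ cc.pt := (colimit.isColimit (S.G c)).coconePointUniqueUpToIso hcc
  have he : ∀ j, colimit.ι (S.G c) j ≫ e.hom = cc.ι.app j := fun j =>
    (colimit.isColimit (S.G c)).comp_coconePointUniqueUpToIso_hom hcc j
  have key : ∀ (j : ι) (x : EtCoh.H (Xs.obj (op j)) (S.F j) n),
      EtLim.HpullThen (pr c j) (S.F j) (cc.ι.app j) n x =
        (EtLim.HpullThen (pr c j) (S.F j) (colimit.ι (S.G c) j) n x).comp (Ext.mk₀ e.hom)
          (add_zero n) := by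
    intro j x
    rw [← he j, HpullThen_post]
  constructor
  · intro y
    obtain ⟨j, x, hx⟩ := h1 (y.comp (Ext.mk₀ e.inv) (add_zero n))
    refine ⟨j, x, ?_⟩
    rw [key, hx, Ext.comp_assoc_of_third_deg_zero, Ext.mk₀_comp_mk₀, e.inv_hom_id,
      Ext.comp_mk₀_id]
  · intro j x hx
    apply h2 j x
    rw [key] at hx
    have := congrArg (fun z => z.comp (Ext.mk₀ e.inv) (add_zero n)) hx
    simp only [Ext.comp_assoc_of_third_deg_zero, Ext.mk₀_comp_mk₀, e.hom_inv_id,
      Ext.comp_mk₀_id, Ext.zero_comp] at this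
    exact this

end Groth.Agent.Lib.Helper27.EtLimL
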