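import Groth.Agent.Lib.Helper27.EtLimD

/-!
# The system of inverse images of a sheaf on a base scheme (helper27)
-/

set_option autoImplicit false
set_option backward.isDefEq.respectTransparency false
set_option backward.isDefEq.respectTransparency.types false

universe u

open CategoryTheory CategoryTheory.Limits AlgebraicGeometry Opposite Abelian

namespace Groth.Agent.Lib.Helper27.EtLimL

open Groth.Agent.Lib.Helper27.EtLimA Groth.Agent.Lib.Helper27.EtLimB
  Groth.Agent.Lib.Helper27.EtLimC Groth.Agent.Lib.Helper27.EtLimD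
  Groth.Agent.Lib.Helper23.FinBC0

section Uniq

variable {X Y Z : Scheme.{u}}

/-- a relative morphism out of an inverse image is determined by its composite with the unit -/
lemma relComp_unit_injective (f : X ⟶ Y) (g : Z ⟶ X) (h : Z ⟶ Y) (w : g ≫ f = h)
    {A : EtCoh.Ab Y} {C : EtCoh.Ab Z} (δ δ' : (EtCoh.pull f).obj A ⟶ (EtCoh.push g).obj C)
    (hδ : relComp f g h w (unitG f A) δ = relComp f g h w (unitG f A) δ') : δ = δ' := by
  unfold relComp at hδ
  rw [← Category.assoc, ← Category.assoc, cancel_mono] at hδ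
  exact ((EtCoh.pullPushAdj f).homEquiv A _).injective hδ

/-- the relative morphism out of an inverse image with prescribed composite with the unit -/
noncomputable def relLift (f : X ⟶ Y) (g : Z ⟶ X) (h : Z ⟶ Y) (w : g ≫ f = h)
    {A : EtCoh.Ab Y} {C : EtCoh.Ab Z} (γ : A ⟶ (EtCoh.push h).obj C) :
    (EtCoh.pull f).obj A ⟶ (EtCoh.push g).obj C :=
  toPull f (γ ≫ (pushTri f g h w).inv.app C)

lemma relComp_relLift (f : X ⟶ Y) (g : Z ⟶ X) (h : Z ⟶ Y) (w : g ≫ f = h)
    {A : EtCoh.Ab Y} {C : EtCoh.Ab Z} (γ : A ⟶ (EtCoh.push h).obj C) :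
    relComp f g h w (unitG f A) (relLift f g h w γ) = γ := by
  unfold relComp relLift
  rw [← Category.assoc, unitG_toPull, Category.assoc, Iso.inv_hom_id_app]
  exact Category.comp_id _

/-- the adjoint of the lift of the unit is the canonical isomorphism -/
lemma toPull_relLift_unit (f : X ⟶ Y) (g : Z ⟶ X) (h : Z ⟶ Y) (w : g ≫ f = h) (A : EtCoh.Ab Y) :
    toPull g (relLift f g h w (unitG h A)) =
      ((EtCore.pullComp g f).symm ≪≫ EtCore.pullCongr w).hom.app A := by
  have h1 := toPull_relComp f g h w (unitG f A) (relLift f g h w (unitG h A))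
  rw [relComp_relLift, toPull_unitG, toPull_unitG, (EtCoh.pull g).map_id] at h1
  have h2 : ((EtCore.pullComp g f).symm ≪≫ EtCore.pullCongr w).inv.app A ≫
      toPull g (relLift f g h w (unitG h A)) = 𝟙 _ := by
    refine Eq.trans ?_ h1.symm
    congr 1
  have h3 := congrArg (fun φ => ((EtCore.pullComp g f).symm ≪≫ EtCore.pullCongr w).hom.app A ≫ φ) h2
  simp only [Iso.hom_inv_id_app_assoc, Category.comp_id] at h3
  exact h3

end Uniq

section System

variable {ι : Type u} [Preorder ι] {Xs : ιᵒᵖ ⥤ Scheme.{u}} {Z : Scheme.{u}}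
  (t : ∀ j : ι, Xs.obj (op j) ⟶ Z) (ht : ∀ {j k : ι} (h : j ≤ k), tr Xs h ≫ t j = t k)
  (F₀ : EtCoh.Ab Z)

/-- the transition morphisms of the system of inverse images -/
noncomputable def pbτ {j k : ι} (h : j ≤ k) :
    (EtCoh.pull (t j)).obj F₀ ⟶ (EtCoh.push (tr Xs h)).obj ((EtCoh.pull (t k)).obj F₀) :=
  relLift (t j) (tr Xs h) (t k) (ht h) (unitG (t k) F₀)

/-- the system of inverse images of a sheaf on a base scheme -/
noncomputable def pbSys : Sys Xs where
  F j := (EtCoh.pull (t j)).obj F₀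
  τ h := pbτ t ht F₀ h
  τ_refl j := by
    apply relComp_unit_injective (t j) (tr Xs (le_refl j)) (t j) (ht (le_refl j))
    unfold pbτ
    rw [relComp_relLift, relComp_relId_right]
  τ_trans {j k m} h1 h2 := by
    apply relComp_unit_injective (t j) (tr Xs (h1.trans h2)) (t m) (ht (h1.trans h2))
    unfold pbτ
    rw [relComp_relLift,
      ← relComp_assoc (t j) (tr Xs h1) (tr Xs h2) (t k) (tr Xs (h1.trans h2)) (t m) (ht h1)
        (tr_comp Xs h1 h2) (ht h2) (ht (h1.trans h2)),
      relComp_relLift, relComp_relLift]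

lemma pbSys_φ {j k : ι} (h : j ≤ k) :
    toPull (tr Xs h) ((pbSys t ht F₀).τ h) =
      ((EtCore.pullComp (tr Xs h) (t j)).symm ≪≫ EtCore.pullCongr (ht h)).hom.app F₀ :=
  toPull_relLift_unit (t j) (tr Xs h) (t k) (ht h) F₀

variable (c : Cone Xs) (t' : c.pt ⟶ Z) (ht' : ∀ j : ι, pr c j ≫ t j = t')

/-- the relative morphisms to the inverse image on the vertex of the cone -/
noncomputable def pbθ (j : ι) :
    (EtCoh.pull (t j)).obj F₀ ⟶ (EtCoh.push (pr c j)).obj ((EtCoh.pull t').obj F₀) :=
  relLift (t j) (pr c j) t' (ht' j) (unitG t' F₀)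

lemma pbτ_pbθ {j k : ι} (h : j ≤ k) :
    relComp (tr Xs h) (pr c k) (pr c j) (pr_tr c h) (pbτ t ht F₀ h) (pbθ t F₀ c t' ht' k) =
      pbθ t F₀ c t' ht' j := by
  apply relComp_unit_injective (t j) (pr c j) t' (ht' j)
  unfold pbτ pbθ
  rw [relComp_relLift,
    ← relComp_assoc (t j) (tr Xs h) (pr c k) (t k) (pr c j) t' (ht h) (pr_tr c h) (ht' k) (ht' j),
    relComp_relLift, relComp_relLift]

/-- the cocone of inverse images -/
noncomputable def pbCocone : Cocone ((pbSys t ht F₀).G c) where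
  pt := (EtCoh.pull t').obj F₀
  ι :=
    { app := fun j => toPull (pr c j) (pbθ t F₀ c t' ht' j)
      naturality := fun j k f => by
        have h : j ≤ k := leOfHom f
        change toPull (pr c j) ((pbSys t ht F₀).σ c h) ≫ toPull (pr c k) (pbθ t F₀ c t' ht' k) =
          toPull (pr c j) (pbθ t F₀ c t' ht' j) ≫ 𝟙 _
        rw [Category.comp_id, ← toPull_post]
        congr 1
        unfold Sys.σ
        rw [← relComp_post, unitG_toPull]
        exact pbτ_pbθ t ht F₀ c t' ht' h }

lemma pbCocone_ι (j : ι) :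
    (pbCocone t ht F₀ c t' ht').ι.app j =
      ((EtCore.pullComp (pr c j) (t j)).symm ≪≫ EtCore.pullCongr (ht' j)).hom.app F₀ :=
  toPull_relLift_unit (t j) (pr c j) t' (ht' j) F₀

instance (j : ι) : IsIso ((pbCocone t ht F₀ c t' ht').ι.app j) := by
  rw [pbCocone_ι]
  infer_instance

end System

section IsoCocone

/-- a cocone over a nonempty directed preorder all of whose legs are isomorphisms is a colimit -/
noncomputable def isColimitOfIsIso {ι : Type u} [Preorder ι] [IsDirected ι (· ≤ ·)] [Nonempty ι]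
    {𝒜 : Type*} [Category 𝒜] {G : ι ⥤ 𝒜} (cc : Cocone G) [∀ j, IsIso (cc.ι.app j)] :
    IsColimit cc where
  desc s := inv (cc.ι.app (Classical.arbitrary ι)) ≫ s.ι.app (Classical.arbitrary ι)
  fac s j := by
    obtain ⟨m, h1, h2⟩ := exists_ge_ge j (Classical.arbitrary ι)
    have e1 := cc.w (homOfLE h1)
    have e2 := cc.w (homOfLE h2)
    have e3 := s.w (homOfLE h1)
    have e4 := s.w (homOfLE h2)
    rw [← e3, ← e1, ← e4, Category.assoc]
    congr 1
    have e5 : inv (cc.ι.app (Classical.arbitrary ι)) ≫ G.map (homOfLE h2) = inv (cc.ι.app m) := by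
      rw [IsIso.inv_comp_eq, ← e2, Category.assoc, IsIso.hom_inv_id, Category.comp_id]
    rw [← Category.assoc (inv _), e5, IsIso.hom_inv_id_assoc]
  uniq s m hm := by
    rw [IsIso.eq_inv_comp]
    exact hm _

end IsoCocone

end Groth.Agent.Lib.Helper27.EtLimL
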