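import Groth.Agent.Lib.Helper27.EtLimL1
import Groth.Agent.Lib.Helper27.EtLimL2
import Mathlib.CategoryTheory.Filtered.Final

/-!
# The limit theorem for a sheaf pulled back from one stage (helper27)
-/

set_option autoImplicit false
set_option backward.isDefEq.respectTransparency false
set_option backward.isDefEq.respectTransparency.types false

universe u

open CategoryTheory CategoryTheory.Limits AlgebraicGeometry Opposite Abelian

namespace Groth.Agent.Lib.Helper27.EtLimL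

open Groth.Agent.Lib.Helper27.EtLimA Groth.Agent.Lib.Helper27.EtLimB
  Groth.Agent.Lib.Helper27.EtLimC Groth.Agent.Lib.Helper27.EtLimD
  Groth.Agent.Lib.Helper27.EtLimE Groth.Agent.Lib.Helper27.EtLimI
  Groth.Agent.Lib.Helper27.EtLimJ Groth.Agent.Lib.Helper27.EtLimK

variable {ι : Type u} [Preorder ι] (i₀ : ι)

/-- the inclusion of the later stages -/
def incl : Later i₀ ⥤ ι := (Subtype.mono_coe (fun k : ι => i₀ ≤ k)).functor

instance [IsDirected ι (· ≤ ·)] : (incl i₀).Final := by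
  haveI : Nonempty ι := ⟨i₀⟩
  haveI : IsFiltered ι := isFiltered_of_directed_le_nonempty _
  apply Functor.final_of_exists_of_isFiltered
  · intro d
    obtain ⟨m, h1, h2⟩ := exists_ge_ge d i₀
    exact ⟨⟨m, h2⟩, ⟨homOfLE h1⟩⟩
  · intro d c s s'
    exact ⟨c, 𝟙 _, Subsingleton.elim _ _⟩

variable (Xs : ιᵒᵖ ⥤ Scheme.{u})

/-- the restriction of the system to the later stages -/
abbrev XsL : (Later i₀)ᵒᵖ ⥤ Scheme.{u} := (incl i₀).op ⋙ Xs

variable {Xs}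

/-- the restriction of a cone to the later stages -/
abbrev coneL (c : Cone Xs) : Cone (XsL i₀ Xs) := c.whisker (incl i₀).op

/-- the restriction of a limit cone is a limit cone -/
noncomputable def isLimitConeL [IsDirected ι (· ≤ ·)] {c : Cone Xs} (hc : IsLimit c) :
    IsLimit (coneL i₀ c) :=
  (Functor.Initial.isLimitWhiskerEquiv (incl i₀).op c).symm hc

section Main

variable [IsDirected ι (· ≤ ·)] (Xs)
  (haff : ∀ ⦃a b : ιᵒᵖ⦄ (h : a ⟶ b), IsAffineHom (Xs.map h))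
  (hqc : ∀ a, CompactSpace ↥(Xs.obj a)) (hqs : ∀ a, QuasiSeparatedSpace ↥(Xs.obj a))
  (c : Cone Xs) (hc : IsLimit c) (F₀ : EtCoh.Ab (Xs.obj (op i₀))) (p : ℕ)

/-- the morphisms to the base stage -/
abbrev tL (j : Later i₀) : (XsL i₀ Xs).obj (op j) ⟶ Xs.obj (op i₀) := Xs.map (homOfLE j.2).op

lemma tL_comp {j k : Later i₀} (h : j ≤ k) : tr (XsL i₀ Xs) h ≫ tL i₀ Xs j = tL i₀ Xs k := by
  change Xs.map _ ≫ Xs.map _ = Xs.map _
  rw [← Xs.map_comp]
  rfl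

include haff hqc hqs hc in
theorem limit_of_pullback :
    (∀ ξ : EtCoh.H c.pt ((EtCoh.pull (c.π.app (op i₀))).obj F₀) p,
      ∃ (j : ι) (hj : i₀ ≤ j)
        (ξj : EtCoh.H (Xs.obj (op j)) ((EtCoh.pull (Xs.map (homOfLE hj).op)).obj F₀) p),
        EtCore.HpullVia (c.π.app (op j)) (Xs.map (homOfLE hj).op) (c.π.app (op i₀))
          (c.w (homOfLE hj).op) F₀ p ξj = ξ) ∧
    (∀ (j : ι) (hj : i₀ ≤ j)
      (ξj : EtCoh.H (Xs.obj (op j)) ((EtCoh.pull (Xs.map (homOfLE hj).op)).obj F₀) p),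
      EtCore.HpullVia (c.π.app (op j)) (Xs.map (homOfLE hj).op) (c.π.app (op i₀))
        (c.w (homOfLE hj).op) F₀ p ξj = 0 →
        ∃ (k : ι) (hk : j ≤ k), EtCore.Hpull (Xs.map (homOfLE hk).op) _ p ξj = 0) := by
  haveI : ∀ (a b : (Later i₀)ᵒᵖ) (h : a ⟶ b), IsAffineHom ((XsL i₀ Xs).map h) :=
    fun a b h => haff _
  haveI : ∀ a : (Later i₀)ᵒᵖ, CompactSpace ↥((XsL i₀ Xs).obj a) := fun a => hqc _
  haveI : ∀ a : (Later i₀)ᵒᵖ, QuasiSeparatedSpace ↥((XsL i₀ Xs).obj a) := fun a => hqs _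
  have ht' : ∀ j : Later i₀, pr (coneL i₀ c) j ≫ tL i₀ Xs j = c.π.app (op i₀) :=
    fun j => c.w (homOfLE j.2).op
  obtain ⟨h1, h2⟩ := limThm (coneL i₀ c) (isLimitConeL i₀ hc)
    (pbSys (tL i₀ Xs) (tL_comp i₀ Xs) F₀)
    (pbCocone (tL i₀ Xs) (tL_comp i₀ Xs) F₀ (coneL i₀ c) (c.π.app (op i₀)) ht')
    (isColimitOfIsIso _) p
  constructor
  · intro ξ
    obtain ⟨j, x, hx⟩ := h1 ξ
    refine ⟨j.1, j.2, x, ?_⟩
    rw [pbCocone_ι] at hx
    exact hx
  · intro j hj ξj h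
    obtain ⟨k, hk, hk'⟩ := h2 ⟨j, hj⟩ ξj (by rw [pbCocone_ι]; exact h)
    refine ⟨k.1, hk, ?_⟩
    rw [HpullThen_apply] at hk'
    haveI : IsIso (Sys.φ (pbSys (tL i₀ Xs) (tL_comp i₀ Xs) F₀) hk) := by
      change IsIso (toPull (tr (XsL i₀ Xs) hk) ((pbSys (tL i₀ Xs) (tL_comp i₀ Xs) F₀).τ hk))
      rw [pbSys_φ]
      infer_instance
    have := congrArg (fun z => z.comp
      (Ext.mk₀ (inv (Sys.φ (pbSys (tL i₀ Xs) (tL_comp i₀ Xs) F₀) hk))) (add_zero p)) hk'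
    simp only [Ext.comp_assoc_of_third_deg_zero, Ext.mk₀_comp_mk₀, IsIso.hom_inv_id,
      Ext.comp_mk₀_id, Ext.zero_comp] at this
    exact this

end Main

end Groth.Agent.Lib.Helper27.EtLimL
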