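import Groth.Agent.Lib.Helper27.EtLimL1
import Mathlib.CategoryTheory.Sites.EpiMono

/-!
# A criterion for a cocone of a system of étale sheaves over a limit to be a colimit (helper27)
-/

set_option autoImplicit false
set_option backward.isDefEq.respectTransparency false
set_option backward.isDefEq.respectTransparency.types false

universe u

open CategoryTheory CategoryTheory.Limits AlgebraicGeometry Opposite Abelian

namespace Groth.Agent.Lib.Helper27.EtLimM

open Groth.Agent.Lib.Helper27.EtLimA Groth.Agent.Lib.Helper27.EtLimB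
  Groth.Agent.Lib.Helper27.EtLimC Groth.Agent.Lib.Helper27.EtLimD
  Groth.Agent.Lib.Helper27.EtLimG Groth.Agent.Lib.Helper27.EtLimH
  Groth.Agent.Lib.Helper23.FinBC0

section Iso

variable {X : Scheme.{u}} {M M' : EtCoh.Ab X} (ε : M ⟶ M')

/-- a morphism of abelian étale sheaves which is injective on sections and locally surjective is an
isomorphism -/
theorem isIso_of_sections
    (hinj : ∀ (V : X.Etale) (m : M.obj.obj (op V)), ε.hom.app (op V) m = 0 → m = 0)
    (hsurj : ∀ (V : X.Etale) (t : M'.obj.obj (op V)) (v : V.left),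
      ∃ (V' : X.Etale) (g : V' ⟶ V) (m : M.obj.obj (op V')), v ∈ Set.range g.left ∧
        ε.hom.app (op V') m = M'.obj.map g.op t) : IsIso ε := by
  haveI : Mono ε := by
    haveI : ∀ V : X.Etaleᵒᵖ, Mono (ε.hom.app V) := by
      intro V
      rw [AddCommGrpCat.mono_iff_injective, injective_iff_map_eq_zero]
      intro m hm
      exact hinj V.unop m hm
    haveI : Mono ε.hom := NatTrans.mono_of_mono_app _
    exact Sheaf.Hom.mono_of_presheaf_mono _ _ ε
  haveI : Epi ε := by
    rw [← Sheaf.isLocallySurjective_iff_epi']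
    refine ⟨fun {V} t => ?_⟩
    apply Groth.Agent.Lib.Helper23.EtGlue.sieve_mem_of_forall_point
    intro v
    obtain ⟨V', g, m, hv, hm⟩ := hsurj V t v
    exact ⟨V', g, ⟨m, hm⟩, hv⟩
  exact isIso_of_mono_of_epi ε

end Iso

variable {ι : Type u} [Preorder ι] [IsDirected ι (· ≤ ·)] [Nonempty ι] {Xs : ιᵒᵖ ⥤ Scheme.{u}}
  (c : Cone Xs) (hc : IsLimit c)
  [∀ (a b : ιᵒᵖ) (h : a ⟶ b), IsAffineHom (Xs.map h)] [∀ a, CompactSpace ↥(Xs.obj a)]
  [∀ a, QuasiSeparatedSpace ↥(Xs.obj a)]
  (S : Sys Xs) (cc : Cocone (S.G c))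

/-- the relative morphisms to the vertex of a cocone, in terms of those of another cocone -/
lemma θ_desc (cc₀ : Cocone (S.G c)) (ε : cc₀.pt ⟶ cc.pt)
    (hε : ∀ k, cc₀.ι.app k ≫ ε = cc.ι.app k) (k : ι) :
    S.θ c cc k = S.θ c cc₀ k ≫ (EtCoh.push (pr c k)).map ε := by
  rw [S.θ_eq, S.θ_eq, Category.assoc, ← (EtCoh.push (pr c k)).map_comp, hε]

lemma θ_desc_apply (cc₀ : Cocone (S.G c)) (ε : cc₀.pt ⟶ cc.pt)
    (hε : ∀ k, cc₀.ι.app k ≫ ε = cc.ι.app k) (k : ι) (W : (Xs.obj (op k)).Etale)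
    (s : (S.F k).obj.obj (op W)) :
    secMap (pr c k) (S.θ c cc k) W s =
      ε.hom.app (op ((EtCoh.bc (pr c k)).obj W)) (secMap (pr c k) (S.θ c cc₀ k) W s) := by
  rw [θ_desc c S cc cc₀ ε hε k]
  rfl

include hc in
theorem isIso_of_sections_cocone (cc₀ : Cocone (S.G c)) (hcc₀ : IsColimit cc₀)
    (ε : cc₀.pt ⟶ cc.pt) (hε : ∀ k, cc₀.ι.app k ≫ ε = cc.ι.app k)
    (hsurj : ∀ (k : ι) (W : (Xs.obj (op k)).Etale) [CompactSpace W.left]
      [QuasiSeparatedSpace W.left] (m : cc.pt.obj.obj (op ((EtCoh.bc (pr c k)).obj W))),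
      ∃ (k' : ι) (h : k ≤ k') (s : (S.F k').obj.obj (op ((EtCoh.bc (tr Xs h)).obj W))),
        secMap (pr c k') (S.θ c cc k') ((EtCoh.bc (tr Xs h)).obj W) s =
          cc.pt.obj.map ((tcan c h).hom.app W).op m)
    (hinj : ∀ (k : ι) (W : (Xs.obj (op k)).Etale) [CompactSpace W.left]
      [QuasiSeparatedSpace W.left] (s : (S.F k).obj.obj (op W)),
      secMap (pr c k) (S.θ c cc k) W s = 0 → ∃ (k' : ι) (h : k ≤ k'),
        secMap (tr Xs h) (S.τ h) W s = 0) : IsIso ε := by
  have hnat : ∀ {U V : c.pt.Etale} (g : U ⟶ V) (m : cc₀.pt.obj.obj (op V)),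
      ε.hom.app (op U) (cc₀.pt.obj.map g.op m) = cc.pt.obj.map g.op (ε.hom.app (op V) m) :=
    fun g m => ConcreteCategory.congr_hom (ε.hom.naturality g.op) m
  apply isIso_of_sections
  · intro V m hm
    have key : ∀ v : V.left, ∃ (N : c.pt.Etale) (g : N ⟶ V), v ∈ Set.range g.left ∧
        cc₀.pt.obj.map g.op m = 0 := by
      intro v
      obtain ⟨k, O, e, hO1, hO2, hv⟩ := geoB c hc V v
      refine ⟨_, e, hv, ?_⟩
      obtain ⟨k', h, s, hs⟩ := P1 c hc S cc₀ hcc₀ O (cc₀.pt.obj.map e.op m)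
      haveI : CompactSpace ((EtCoh.bc (tr Xs h)).obj O).left := compactSpace_bc_tr h O
      haveI : QuasiSeparatedSpace ((EtCoh.bc (tr Xs h)).obj O).left :=
        quasiSeparatedSpace_bc_tr h O
      have h1 : secMap (pr c k') (S.θ c cc k') ((EtCoh.bc (tr Xs h)).obj O) s = 0 := by
        rw [θ_desc_apply c S cc cc₀ ε hε, hs]
        have e1 := hnat ((tcan c h).hom.app O) (cc₀.pt.obj.map e.op m)
        have e2 := hnat e m
        exact e1.trans (by rw [e2, hm, map_zero, map_zero])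
      obtain ⟨k'', h', h2⟩ := hinj k' ((EtCoh.bc (tr Xs h)).obj O) s h1
      have h3 : secMap (pr c k') (S.θ c cc₀ k') ((EtCoh.bc (tr Xs h)).obj O) s = 0 := by
        rw [θ_trans_apply c S cc₀ h' _ s, h2, map_zero, map_zero]
      rw [h3] at hs
      have h4 := congrArg (cc₀.pt.obj.map ((tcan c h).inv.app O).op) hs
      rw [map_zero, map_iso_apply cc₀.pt _ _ (Iso.inv_hom_id_app (tcan c h) O)] at h4
      exact h4.symm
    choose N g hg1 hg2 using key
    refine sheaf_sep cc₀.pt N g ?_ m 0 ?_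
    · intro w
      obtain ⟨n, hn⟩ := hg1 w
      exact ⟨w, n, hn⟩
    · intro a
      rw [hg2 a, map_zero]
  · intro V t v
    obtain ⟨k, O, e, hO1, hO2, hv⟩ := geoB c hc V v
    obtain ⟨k', h, s, hs⟩ := hsurj k O (cc.pt.obj.map e.op t)
    refine ⟨_, (tcan c h).hom.app O ≫ e,
      secMap (pr c k') (S.θ c cc₀ k') ((EtCoh.bc (tr Xs h)).obj O) s, ?_, ?_⟩
    · obtain ⟨o, ho⟩ := hv
      refine ⟨((tcan c h).inv.app O).left o, ?_⟩
      rw [comp_left']
      change e.left (((tcan c h).hom.app O).left (((tcan c h).inv.app O).left o)) = v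
      rw [app_inv_hom_apply, ho]
    · have := θ_desc_apply c S cc cc₀ ε hε k' ((EtCoh.bc (tr Xs h)).obj O) s
      refine this.symm.trans ?_
      rw [hs, map_comp_apply]

include hc in
/-- **a cocone which computes the sections over the qcqs objects coming from finite stages is a
colimit cocone** -/
theorem isColimit_of_sections
    (hsurj : ∀ (k : ι) (W : (Xs.obj (op k)).Etale) [CompactSpace W.left]
      [QuasiSeparatedSpace W.left] (m : cc.pt.obj.obj (op ((EtCoh.bc (pr c k)).obj W))),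
      ∃ (k' : ι) (h : k ≤ k') (s : (S.F k').obj.obj (op ((EtCoh.bc (tr Xs h)).obj W))),
        secMap (pr c k') (S.θ c cc k') ((EtCoh.bc (tr Xs h)).obj W) s =
          cc.pt.obj.map ((tcan c h).hom.app W).op m)
    (hinj : ∀ (k : ι) (W : (Xs.obj (op k)).Etale) [CompactSpace W.left]
      [QuasiSeparatedSpace W.left] (s : (S.F k).obj.obj (op W)),
      secMap (pr c k) (S.θ c cc k) W s = 0 → ∃ (k' : ι) (h : k ≤ k'),
        secMap (tr Xs h) (S.τ h) W s = 0) :
    Nonempty (IsColimit cc) := by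
  haveI : IsIso ((colimit.isColimit (S.G c)).desc cc) :=
    isIso_of_sections_cocone c hc S cc (colimit.cocone (S.G c)) (colimit.isColimit _) _
      (fun k => (colimit.isColimit (S.G c)).fac cc k) hsurj hinj
  exact ⟨IsColimit.ofPointIso (colimit.isColimit (S.G c))⟩

end Groth.Agent.Lib.Helper27.EtLimM
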