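import Groth.Agent.Lib.Helper27.EtLimM1

/-!
# The limit theorem for the direct images of a sheaf on the limit (helper27)
-/

set_option autoImplicit false
set_option backward.isDefEq.respectTransparency false
set_option backward.isDefEq.respectTransparency.types false

universe u

open CategoryTheory CategoryTheory.Limits AlgebraicGeometry Opposite Abelian

namespace Groth.Agent.Lib.Helper27.EtLimM

open Groth.Agent.Lib.Helper27.EtLimA Groth.Agent.Lib.Helper27.EtLimB
  Groth.Agent.Lib.Helper27.EtLimC Groth.Agent.Lib.Helper27.EtLimD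
  Groth.Agent.Lib.Helper27.EtLimG Groth.Agent.Lib.Helper27.EtLimH
  Groth.Agent.Lib.Helper27.EtLimI Groth.Agent.Lib.Helper27.EtLimL
  Groth.Agent.Lib.Helper23.FinBC0

section CoconeOfθ

variable {ι : Type u} [Preorder ι] {Xs : ιᵒᵖ ⥤ Scheme.{u}} (c : Cone Xs) (S : Sys Xs)
  (M : EtCoh.Ab c.pt) (θ : ∀ j : ι, S.F j ⟶ (EtCoh.push (pr c j)).obj M)
  (hθ : ∀ {j k : ι} (h : j ≤ k),
    relComp (tr Xs h) (pr c k) (pr c j) (pr_tr c h) (S.τ h) (θ k) = θ j)

/-- the cocone attached to a compatible family of relative morphisms -/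
noncomputable def coconeOfθ : Cocone (S.G c) where
  pt := M
  ι :=
    { app := fun j => toPull (pr c j) (θ j)
      naturality := fun j k f => by
        have h : j ≤ k := leOfHom f
        change toPull (pr c j) (S.σ c h) ≫ toPull (pr c k) (θ k) = toPull (pr c j) (θ j) ≫ 𝟙 _
        rw [Category.comp_id, ← toPull_post]
        congr 1
        unfold Sys.σ
        rw [← relComp_post, unitG_toPull]
        exact hθ h }

lemma θ_coconeOfθ (j : ι) : S.θ c (coconeOfθ c S M θ hθ) j = θ j :=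
  ofPull_toPull _ _

end CoconeOfθ

section PushSys

variable {ι : Type u} [Preorder ι] {Xs : ιᵒᵖ ⥤ Scheme.{u}} (c : Cone Xs) (F : EtCoh.Ab c.pt)

/-- a relative morphism into a direct image is determined by its composite with the identity -/
lemma relComp_id_injective {X Y Z : Scheme.{u}} (f : X ⟶ Y) (g : Z ⟶ X) (h : Z ⟶ Y)
    (w : g ≫ f = h) {A : EtCoh.Ab Y} {C : EtCoh.Ab Z}
    (γ γ' : A ⟶ (EtCoh.push f).obj ((EtCoh.push g).obj C))
    (hγ : relComp f g h w γ (𝟙 _) = relComp f g h w γ' (𝟙 _)) : γ = γ' := by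
  unfold relComp at hγ
  rw [(EtCoh.push f).map_id, Category.id_comp, cancel_mono] at hγ
  exact hγ

/-- the transition morphisms of the system of direct images -/
noncomputable def psτ {j k : ι} (h : j ≤ k) :
    (EtCoh.push (pr c j)).obj F ⟶
      (EtCoh.push (tr Xs h)).obj ((EtCoh.push (pr c k)).obj F) :=
  (pushTri (tr Xs h) (pr c k) (pr c j) (pr_tr c h)).inv.app F

lemma relComp_psτ_id {j k : ι} (h : j ≤ k) :
    relComp (tr Xs h) (pr c k) (pr c j) (pr_tr c h) (psτ c F h) (𝟙 _) = 𝟙 _ := by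
  unfold relComp psτ
  rw [(EtCoh.push (tr Xs h)).map_id, Category.id_comp, Iso.inv_hom_id_app]

/-- the system of direct images of a sheaf on the limit -/
noncomputable def psSys : Sys Xs where
  F j := (EtCoh.push (pr c j)).obj F
  τ h := psτ c F h
  τ_refl j := by
    apply relComp_id_injective (tr Xs (le_refl j)) (pr c j) (pr c j) (pr_tr c (le_refl j))
    rw [relComp_psτ_id, relComp_relId_left]
  τ_trans {j k m} h1 h2 := by
    apply relComp_id_injective (tr Xs (h1.trans h2)) (pr c m) (pr c j) (pr_tr c (h1.trans h2))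
    rw [relComp_psτ_id,
      relComp_assoc (tr Xs h1) (tr Xs h2) (pr c m) (tr Xs (h1.trans h2)) (pr c k) (pr c j)
        (tr_comp Xs h1 h2) (pr_tr c h2) (pr_tr c (h1.trans h2)) (pr_tr c h1),
      relComp_psτ_id, relComp_psτ_id]

/-- the cocone of the counits -/
noncomputable def psCocone : Cocone ((psSys c F).G c) :=
  coconeOfθ c (psSys c F) F (fun j => 𝟙 _) (fun h => relComp_psτ_id c F h)

lemma psCocone_ι (j : ι) :
    (psCocone c F).ι.app j = (EtCoh.pullPushAdj (pr c j)).counit.app F := by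
  change toPull (pr c j) (𝟙 _) = _
  unfold toPull
  rw [Adjunction.homEquiv_counit, (EtCoh.pull (pr c j)).map_id, Category.id_comp]

end PushSys

section Main

variable {ι : Type u} [Preorder ι] [IsDirected ι (· ≤ ·)] [Nonempty ι] {Xs : ιᵒᵖ ⥤ Scheme.{u}}
  (c : Cone Xs) (hc : IsLimit c)
  [∀ (a b : ιᵒᵖ) (h : a ⟶ b), IsAffineHom (Xs.map h)] [∀ a, CompactSpace ↥(Xs.obj a)]
  [∀ a, QuasiSeparatedSpace ↥(Xs.obj a)] (F : EtCoh.Ab c.pt)

include hc in
/-- `F` is the colimit of the inverse images of its direct images to the stages -/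
theorem psCocone_isColimit : Nonempty (IsColimit (psCocone c F)) := by
  apply isColimit_of_sections c hc
  · intro k W _ _ m
    refine ⟨k, le_refl k, F.obj.map ((tcan c (le_refl k)).hom.app W).op m, ?_⟩
    unfold psCocone
    rw [θ_coconeOfθ]
    rfl
  · intro k W _ _ s hs
    refine ⟨k, le_refl k, ?_⟩
    unfold psCocone at hs
    rw [θ_coconeOfθ] at hs
    have : s = 0 := hs
    rw [this, map_zero]

lemma psτ_eq {j k : ι} (h : j ≤ k) :
    psτ c F h = ((EtCoh.pushCongr (pr_tr c h).symm).app F).hom ≫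
      (EtCoh.pushComp (tr Xs h) (pr c k)).inv.app F := by
  unfold psτ pushTri
  change (EtCoh.pushCongr (pr_tr c h)).inv.app F ≫ _ = _
  congr 1
  have h1 := Groth.Agent.Lib.Helper23.HofPushBC.pushCongr_symm (pr_tr c h) F
  rw [← cancel_epi ((EtCoh.pushCongr (pr_tr c h)).hom.app F), Iso.hom_inv_id_app]
  exact h1.symm

lemma HpushTrans_eq {j k : ι} (h : j ≤ k) (n : ℕ)
    [PreservesFiniteLimits (EtCoh.pull (tr Xs h))]
    (x : EtCoh.H (Xs.obj (op j)) ((EtCoh.push (pr c j)).obj F) n) :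
    EtLim.HpushTrans (tr Xs h) (pr c k) (pr c j) (pr_tr c h) F n x =
      EtLim.HpullThen (tr Xs h) ((EtCoh.push (pr c j)).obj F)
        (toPull (tr Xs h) (psτ c F h)) n x := by
  have h1 : toPull (tr Xs h) (psτ c F h) =
      (EtCoh.pull (tr Xs h)).map (psτ c F h) ≫
        (EtCoh.pullPushAdj (tr Xs h)).counit.app ((EtCoh.push (pr c k)).obj F) := by
    unfold toPull
    rw [Adjunction.homEquiv_counit]
  rw [h1, HpullThen_pre, psτ_eq]
  rfl

include hc in
/-- **the limit theorem for the direct images of a sheaf on the limit** -/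
theorem limit_of_push (n : ℕ)
    [∀ a, PreservesFiniteLimits (EtCoh.pull (c.π.app a))]
    [∀ ⦃a b : ιᵒᵖ⦄ (h : a ⟶ b), PreservesFiniteLimits (EtCoh.pull (Xs.map h))] :
    (∀ ξ : EtCoh.H c.pt F n,
      ∃ (j : ι) (ξj : EtCoh.H (Xs.obj (op j)) ((EtCoh.push (c.π.app (op j))).obj F) n),
        EtLim.HofPush (c.π.app (op j)) F n ξj = ξ) ∧
    (∀ (j : ι) (ξj : EtCoh.H (Xs.obj (op j)) ((EtCoh.push (c.π.app (op j))).obj F) n),
      EtLim.HofPush (c.π.app (op j)) F n ξj = 0 →
        ∃ (k : ι) (hk : j ≤ k),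
          EtLim.HpushTrans (Xs.map (homOfLE hk).op) (c.π.app (op k)) (c.π.app (op j))
            (c.w (homOfLE hk).op) F n ξj = 0) := by
  obtain ⟨hcc⟩ := psCocone_isColimit c hc F
  obtain ⟨h1, h2⟩ := limThm c hc (psSys c F) (psCocone c F) hcc n
  constructor
  · intro ξ
    obtain ⟨j, x, hx⟩ := h1 ξ
    refine ⟨j, x, ?_⟩
    rw [psCocone_ι] at hx
    exact hx
  · intro j ξj hξ
    obtain ⟨k, hk, hk'⟩ := h2 j ξj (by rw [psCocone_ι]; exact hξ)
    refine ⟨k, hk, ?_⟩
    have := HpushTrans_eq c F hk n ξj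
    exact this.trans hk'

end Main

end Groth.Agent.Lib.Helper27.EtLimM
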