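import Groth.Agent.Lib.Helper27.EtLimM2
import Mathlib.CategoryTheory.Idempotents.Basic

/-!
# Systems of sheaves without the unit axiom, and their unitalization (helper27)
-/

set_option autoImplicit false
set_option backward.isDefEq.respectTransparency false
set_option backward.isDefEq.respectTransparency.types false

universe u

open CategoryTheory CategoryTheory.Limits AlgebraicGeometry Opposite Abelian

namespace Groth.Agent.Lib.Helper27.EtLimN

open Groth.Agent.Lib.Helper27.EtLimA Groth.Agent.Lib.Helper27.EtLimB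
  Groth.Agent.Lib.Helper27.EtLimC Groth.Agent.Lib.Helper27.EtLimD
  Groth.Agent.Lib.Helper23.FinBC0

section RelIdInv

variable {X : Scheme.{u}}

/-- the inverse of the projection `W ×_X X ⟶ W` -/
lemma prEinv_aux (f : X ⟶ X) (hf : f = 𝟙 X) (W : X.Etale) :
    𝟙 W.left ≫ W.hom = W.hom ≫ f := by
  rw [hf]
  exact (Category.id_comp _).trans (Category.comp_id _).symm

noncomputable def prEinv (f : X ⟶ X) (hf : f = 𝟙 X) (W : X.Etale) : W ⟶ (EtCoh.bc f).obj W :=
  bcLift f W W (𝟙 _) (prEinv_aux f hf W)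

lemma prEinv_prE (f : X ⟶ X) (hf : f = 𝟙 X) (W : X.Etale) :
    prEinv f hf W ≫ prE f hf W = 𝟙 W := by
  apply MorphismProperty.Over.Hom.ext
  rw [comp_left', prE_left]
  exact bcLift_prL _ _ _ _ _

lemma prE_prEinv (f : X ⟶ X) (hf : f = 𝟙 X) (W : X.Etale) :
    prE f hf W ≫ prEinv f hf W = 𝟙 _ := by
  apply bc_hom_ext
  rw [comp_left', Category.assoc]
  have := bcLift_prL f W W (𝟙 _) (prEinv_aux f hf W)
  unfold prEinv
  rw [this, Category.comp_id]
  exact (Category.id_comp _).symm

lemma prEinv_natural (f : X ⟶ X) (hf : f = 𝟙 X) {W W' : X.Etale} (k : W ⟶ W') :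
    k ≫ prEinv f hf W' = prEinv f hf W ≫ (EtCoh.bc f).map k := by
  have h := prE_natural f hf k
  calc k ≫ prEinv f hf W' = (prEinv f hf W ≫ prE f hf W) ≫ k ≫ prEinv f hf W' := by
        rw [prEinv_prE, Category.id_comp]
    _ = prEinv f hf W ≫ ((EtCoh.bc f).map k ≫ prE f hf W') ≫ prEinv f hf W' := by
        rw [h]; simp only [Category.assoc]
    _ = _ := by
        rw [Category.assoc, prE_prEinv, Category.comp_id]

/-- the inverse of `relId` -/
noncomputable def relIdInv (f : X ⟶ X) (hf : f = 𝟙 X) (B : EtCoh.Ab X) :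
    (EtCoh.push f).obj B ⟶ B :=
  ObjectProperty.homMk
    { app := fun W => B.obj.map (prEinv f hf W.unop).op
      naturality := fun W W' k => by
        change B.obj.map ((EtCoh.bc f).map k.unop).op ≫ B.obj.map (prEinv f hf W'.unop).op =
          B.obj.map (prEinv f hf W.unop).op ≫ B.obj.map k
        rw [← B.obj.map_comp, ← B.obj.map_comp]
        congr 1
        have := prEinv_natural f hf k.unop
        exact congrArg Quiver.Hom.op this.symm }

lemma relId_relIdInv (f : X ⟶ X) (hf : f = 𝟙 X) (B : EtCoh.Ab X) :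
    relId f hf B ≫ relIdInv f hf B = 𝟙 _ := by
  apply ObjectProperty.hom_ext
  ext W : 2
  change B.obj.map (prE f hf W.unop).op ≫ B.obj.map (prEinv f hf W.unop).op = 𝟙 _
  rw [← B.obj.map_comp, ← op_comp, prEinv_prE, op_id, B.obj.map_id]

lemma relIdInv_relId (f : X ⟶ X) (hf : f = 𝟙 X) (B : EtCoh.Ab X) :
    relIdInv f hf B ≫ relId f hf B = 𝟙 _ := by
  apply ObjectProperty.hom_ext
  ext W : 2
  change B.obj.map (prEinv f hf W.unop).op ≫ B.obj.map (prE f hf W.unop).op = 𝟙 _
  rw [← B.obj.map_comp, ← op_comp, prE_prEinv, op_id, B.obj.map_id]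

end RelIdInv

variable {ι : Type u} [Preorder ι] (Xs : ιᵒᵖ ⥤ Scheme.{u})

/-- a system of sheaves satisfying the cocycle condition but not necessarily the unit axiom -/
structure NSys where
  /-- the sheaves -/
  F : ∀ j : ι, EtCoh.Ab (Xs.obj (op j))
  /-- the transition morphisms -/
  τ : ∀ {j k : ι} (h : j ≤ k), F j ⟶ (EtCoh.push (tr Xs h)).obj (F k)
  τ_trans : ∀ {j k m : ι} (h1 : j ≤ k) (h2 : k ≤ m),
    relComp (tr Xs h1) (tr Xs h2) (tr Xs (h1.trans h2)) (tr_comp Xs h1 h2) (τ h1) (τ h2) =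
      τ (h1.trans h2)

variable {Xs} (N : NSys Xs)

/-- the idempotent endomorphisms -/
noncomputable def NSys.e (j : ι) : N.F j ⟶ N.F j :=
  N.τ (le_refl j) ≫ relIdInv (tr Xs (le_refl j)) (tr_refl Xs j) (N.F j)

lemma NSys.τ_refl_eq (j : ι) :
    N.τ (le_refl j) = N.e j ≫ relId (tr Xs (le_refl j)) (tr_refl Xs j) (N.F j) := by
  unfold NSys.e
  rw [Category.assoc, relIdInv_relId, Category.comp_id]

lemma NSys.e_τ {i j : ι} (h : i ≤ j) : N.e i ≫ N.τ h = N.τ h := by
  have h1 := N.τ_trans (le_refl i) h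
  rw [N.τ_refl_eq, relComp_pre, relComp_relId_left] at h1
  exact h1

lemma NSys.τ_e {i j : ι} (h : i ≤ j) :
    N.τ h ≫ (EtCoh.push (tr Xs h)).map (N.e j) = N.τ h := by
  have h1 := N.τ_trans h (le_refl j)
  rw [N.τ_refl_eq, ← relComp_mid, relComp_relId_right] at h1
  exact h1

lemma NSys.e_e (j : ι) : N.e j ≫ N.e j = N.e j := by
  have h1 := N.e_τ (le_refl j)
  have h2 := congrArg (fun φ => φ ≫ relIdInv (tr Xs (le_refl j)) (tr_refl Xs j) (N.F j)) h1
  simp only [Category.assoc] at h2
  exact h2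

/-- the images of the idempotents -/
noncomputable def NSys.Y (j : ι) : EtCoh.Ab (Xs.obj (op j)) :=
  (IsIdempotentComplete.idempotents_split (N.F j) (N.e j) (N.e_e j)).choose

/-- the inclusions of the images -/
noncomputable def NSys.incl (j : ι) : N.Y j ⟶ N.F j :=
  (IsIdempotentComplete.idempotents_split (N.F j) (N.e j) (N.e_e j)).choose_spec.choose

/-- the projections to the images -/
noncomputable def NSys.proj (j : ι) : N.F j ⟶ N.Y j :=
  (IsIdempotentComplete.idempotents_split (N.F j) (N.e j)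
    (N.e_e j)).choose_spec.choose_spec.choose

lemma NSys.incl_proj (j : ι) : N.incl j ≫ N.proj j = 𝟙 _ :=
  (IsIdempotentComplete.idempotents_split (N.F j) (N.e j)
    (N.e_e j)).choose_spec.choose_spec.choose_spec.1

lemma NSys.proj_incl (j : ι) : N.proj j ≫ N.incl j = N.e j :=
  (IsIdempotentComplete.idempotents_split (N.F j) (N.e j)
    (N.e_e j)).choose_spec.choose_spec.choose_spec.2

/-- the unital system of the images of the idempotents -/
noncomputable def NSys.unital : Sys Xs where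
  F := N.Y
  τ {j k} h := N.incl j ≫ N.τ h ≫ (EtCoh.push (tr Xs h)).map (N.proj k)
  τ_refl j := by
    have key : N.incl j ≫ N.e j ≫ N.proj j = 𝟙 _ := by
      rw [← N.proj_incl, Category.assoc, N.incl_proj, Category.comp_id, N.incl_proj]
    calc N.incl j ≫ N.τ (le_refl j) ≫ (EtCoh.push (tr Xs (le_refl j))).map (N.proj j)
        = N.incl j ≫ N.e j ≫ (relId (tr Xs (le_refl j)) (tr_refl Xs j) (N.F j) ≫
            (EtCoh.push (tr Xs (le_refl j))).map (N.proj j)) := by
          rw [N.τ_refl_eq, Category.assoc]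
      _ = (N.incl j ≫ N.e j ≫ N.proj j) ≫ relId (tr Xs (le_refl j)) (tr_refl Xs j) (N.Y j) := by
          rw [relId_natural]; simp only [Category.assoc]
      _ = _ := by rw [key, Category.id_comp]
  τ_trans {j k m} h1 h2 := by
    have e1 : N.proj k ≫ N.incl k ≫ N.τ h2 ≫ (EtCoh.push (tr Xs h2)).map (N.proj m) =
        N.τ h2 ≫ (EtCoh.push (tr Xs h2)).map (N.proj m) := by
      rw [← Category.assoc, N.proj_incl, ← Category.assoc, N.e_τ]
    rw [relComp_pre, relComp_mid, e1, relComp_post, N.τ_trans]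

end Groth.Agent.Lib.Helper27.EtLimN
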