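import Groth.Agent.Lib.Helper27.EtLimN1

/-!
# The limit theorem for a system of sheaves given by inverse image transition maps (helper27)
-/

set_option autoImplicit false
set_option backward.isDefEq.respectTransparency false
set_option backward.isDefEq.respectTransparency.types false

universe u

open CategoryTheory CategoryTheory.Limits AlgebraicGeometry Opposite Abelian

namespace Groth.Agent.Lib.Helper27.EtLimN

open Groth.Agent.Lib.Helper27.EtLimA Groth.Agent.Lib.Helper27.EtLimB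
  Groth.Agent.Lib.Helper27.EtLimC Groth.Agent.Lib.Helper27.EtLimD
  Groth.Agent.Lib.Helper27.EtLimI Groth.Agent.Lib.Helper27.EtLimL
  Groth.Agent.Lib.Helper23.FinBC0

variable {ι : Type u} [Preorder ι] (Xs : ιᵒᵖ ⥤ Scheme.{u})
  (F : ∀ i : ι, EtCoh.Ab (Xs.obj (op i)))
  (φ : ∀ ⦃i j : ι⦄ (h : i ≤ j), (EtCoh.pull (Xs.map (homOfLE h).op)).obj (F i) ⟶ F j)
  (hφ : ∀ ⦃i j k : ι⦄ (hij : i ≤ j) (hjk : j ≤ k),
    φ (hij.trans hjk) = (EtLim.pullTrans Xs hij hjk).hom.app (F i) ≫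
      (EtCoh.pull (Xs.map (homOfLE hjk).op)).map (φ hij) ≫ φ hjk)

lemma pullTrans_eq {i j k : ι} (hij : i ≤ j) (hjk : j ≤ k) (A : EtCoh.Ab (Xs.obj (op i))) :
    (EtLim.pullTrans Xs hij hjk).hom.app A =
      ((EtCore.pullComp (tr Xs hjk) (tr Xs hij)).symm ≪≫
        EtCore.pullCongr (tr_comp Xs hij hjk)).inv.app A := rfl

lemma pullTransCone_eq (c : Cone Xs) {i j : ι} (hij : i ≤ j) (A : EtCoh.Ab (Xs.obj (op i))) :
    (EtLim.pullTransCone Xs c hij).hom.app A =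
      ((EtCore.pullComp (pr c j) (tr Xs hij)).symm ≪≫
        EtCore.pullCongr (pr_tr c hij)).inv.app A := rfl

/-- the (possibly non-unital) system in direct image form -/
noncomputable def nsys : NSys Xs where
  F := F
  τ h := ofPull (tr Xs h) (φ h)
  τ_trans {j k m} h1 h2 := by
    apply ((EtCoh.pullPushAdj (tr Xs (h1.trans h2))).homEquiv _ _).symm.injective
    change toPull _ _ = toPull _ (ofPull _ _)
    rw [toPull_relComp, toPull_ofPull, toPull_ofPull, toPull_ofPull, hφ h1 h2, pullTrans_eq]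

section Cone

variable (c : Cone Xs) (G : ι ⥤ EtCoh.Ab c.pt)
  (ψ : ∀ i : ι, (EtCoh.pull (c.π.app (op i))).obj (F i) ≅ G.obj i)
  (hψ : ∀ ⦃i j : ι⦄ (hij : i ≤ j), (ψ i).hom ≫ G.map (homOfLE hij) =
    (EtLim.pullTransCone Xs c hij).hom.app (F i) ≫
      (EtCoh.pull (c.π.app (op j))).map (φ hij) ≫ (ψ j).hom)

/-- the relative morphisms to the given diagram -/
noncomputable def κ (j : ι) : F j ⟶ (EtCoh.push (pr c j)).obj (G.obj j) :=
  ofPull (pr c j) (ψ j).hom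

include hψ in
lemma τ_κ {j k : ι} (h : j ≤ k) :
    relComp (tr Xs h) (pr c k) (pr c j) (pr_tr c h) ((nsys Xs F φ hφ).τ h) (κ Xs F c G ψ k) =
      κ Xs F c G ψ j ≫ (EtCoh.push (pr c j)).map (G.map (homOfLE h)) := by
  apply ((EtCoh.pullPushAdj (pr c j)).homEquiv _ _).symm.injective
  change toPull _ _ = toPull _ _
  unfold κ
  rw [toPull_relComp, toPull_post, toPull_ofPull, toPull_ofPull, hψ h, pullTransCone_eq]
  change _ ≫ (EtCoh.pull (pr c k)).map (toPull (tr Xs h) (ofPull (tr Xs h) (φ h))) ≫ _ = _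
  rw [toPull_ofPull]
  rfl

include hψ in
lemma e_κ (j : ι) : (nsys Xs F φ hφ).e j ≫ κ Xs F c G ψ j = κ Xs F c G ψ j := by
  have h1 := τ_κ Xs F φ hφ c G ψ hψ (le_refl j)
  have h2 : G.map (homOfLE (le_refl j)) = 𝟙 _ := G.map_id j
  rw [(nsys Xs F φ hφ).τ_refl_eq, relComp_pre, relComp_relId_left, h2,
    (EtCoh.push (pr c j)).map_id, Category.comp_id] at h1
  exact h1

include hψ in
lemma pull_e (j : ι) : (EtCoh.pull (pr c j)).map ((nsys Xs F φ hφ).e j) = 𝟙 _ := by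
  have h1 := congrArg (toPull (pr c j)) (e_κ Xs F φ hφ c G ψ hψ j)
  unfold κ at h1
  rw [toPull_pre, toPull_ofPull] at h1
  have h2 := congrArg (fun α => α ≫ (ψ j).inv) h1
  simp only [Category.assoc, Iso.hom_inv_id, Category.comp_id] at h2
  exact h2

/-- the comparison isomorphisms between the diagram of the unitalized system and the given one -/
noncomputable def νIso (j : ι) :
    (EtCoh.pull (pr c j)).obj ((nsys Xs F φ hφ).Y j) ≅ G.obj j where
  hom := (EtCoh.pull (pr c j)).map ((nsys Xs F φ hφ).incl j) ≫ (ψ j).hom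
  inv := (ψ j).inv ≫ (EtCoh.pull (pr c j)).map ((nsys Xs F φ hφ).proj j)
  hom_inv_id := by
    rw [Category.assoc, Iso.hom_inv_id_assoc, ← (EtCoh.pull (pr c j)).map_comp, NSys.incl_proj,
      (EtCoh.pull (pr c j)).map_id]
  inv_hom_id := by
    have h1 : (EtCoh.pull (pr c j)).map ((nsys Xs F φ hφ).proj j) ≫
        (EtCoh.pull (pr c j)).map ((nsys Xs F φ hφ).incl j) = 𝟙 _ := by
      rw [← (EtCoh.pull (pr c j)).map_comp, NSys.proj_incl]
      exact pull_e Xs F φ hφ c G ψ hψ j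
    calc ((ψ j).inv ≫ (EtCoh.pull (pr c j)).map ((nsys Xs F φ hφ).proj j)) ≫
          (EtCoh.pull (pr c j)).map ((nsys Xs F φ hφ).incl j) ≫ (ψ j).hom
        = (ψ j).inv ≫ ((EtCoh.pull (pr c j)).map ((nsys Xs F φ hφ).proj j) ≫
          (EtCoh.pull (pr c j)).map ((nsys Xs F φ hφ).incl j)) ≫ (ψ j).hom := by
          simp only [Category.assoc]
      _ = (ψ j).inv ≫ (ψ j).hom := by
          rw [h1]
          exact congrArg (fun α => (ψ j).inv ≫ α) (Category.id_comp (ψ j).hom)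
      _ = 𝟙 _ := Iso.inv_hom_id _

include hψ in
lemma ν_natural {j k : ι} (h : j ≤ k) :
    ((nsys Xs F φ hφ).unital.G c).map (homOfLE h) ≫ (νIso Xs F φ hφ c G ψ hψ k).hom =
      (νIso Xs F φ hφ c G ψ hψ j).hom ≫ G.map (homOfLE h) := by
  change toPull (pr c j) ((nsys Xs F φ hφ).unital.σ c h) ≫
    ((EtCoh.pull (pr c k)).map ((nsys Xs F φ hφ).incl k) ≫ (ψ k).hom) =
    ((EtCoh.pull (pr c j)).map ((nsys Xs F φ hφ).incl j) ≫ (ψ j).hom) ≫ G.map (homOfLE h)
  rw [← toPull_post]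
  have h1 : (nsys Xs F φ hφ).unital.σ c h ≫ (EtCoh.push (pr c j)).map
      ((EtCoh.pull (pr c k)).map ((nsys Xs F φ hφ).incl k) ≫ (ψ k).hom) =
      (nsys Xs F φ hφ).incl j ≫ κ Xs F c G ψ j ≫
        (EtCoh.push (pr c j)).map (G.map (homOfLE h)) := by
    unfold Sys.σ
    rw [← relComp_post]
    have h2 : unitG (pr c k) ((nsys Xs F φ hφ).unital.F k) ≫ (EtCoh.push (pr c k)).map
        ((EtCoh.pull (pr c k)).map ((nsys Xs F φ hφ).incl k) ≫ (ψ k).hom) =
        (nsys Xs F φ hφ).incl k ≫ κ Xs F c G ψ k := by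
      rw [(EtCoh.push (pr c k)).map_comp, ← Category.assoc]
      have hn : (nsys Xs F φ hφ).incl k ≫ unitG (pr c k) (F k) =
          unitG (pr c k) ((nsys Xs F φ hφ).Y k) ≫
            (EtCoh.push (pr c k)).map ((EtCoh.pull (pr c k)).map ((nsys Xs F φ hφ).incl k)) :=
        (EtCoh.pullPushAdj (pr c k)).unit.naturality ((nsys Xs F φ hφ).incl k)
      change (unitG (pr c k) ((nsys Xs F φ hφ).Y k) ≫ _) ≫ _ = _
      rw [← hn, Category.assoc]
      rfl
    rw [h2]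
    change relComp (tr Xs h) (pr c k) (pr c j) (pr_tr c h)
      ((nsys Xs F φ hφ).incl j ≫ (nsys Xs F φ hφ).τ h ≫
        (EtCoh.push (tr Xs h)).map ((nsys Xs F φ hφ).proj k))
      ((nsys Xs F φ hφ).incl k ≫ κ Xs F c G ψ k) = _
    rw [relComp_pre, relComp_mid, ← Category.assoc ((nsys Xs F φ hφ).proj k), NSys.proj_incl,
      e_κ Xs F φ hφ c G ψ hψ, τ_κ Xs F φ hφ c G ψ hψ h]
  rw [h1, toPull_pre, toPull_post]
  unfold κ
  rw [toPull_ofPull]
  simp only [Category.assoc]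

/-- the natural isomorphism between the diagram of the unitalized system and the given one -/
noncomputable def νNat : (nsys Xs F φ hφ).unital.G c ≅ G :=
  NatIso.ofComponents (fun j => νIso Xs F φ hφ c G ψ hψ j) (by
    intro j k f
    have h : j ≤ k := leOfHom f
    exact ν_natural Xs F φ hφ c G ψ hψ h)

include hψ in
lemma φ_eq {j k : ι} (h : j ≤ k) :
    φ h = (EtCoh.pull (tr Xs h)).map ((nsys Xs F φ hφ).proj j) ≫
      Sys.φ (nsys Xs F φ hφ).unital h ≫ (nsys Xs F φ hφ).incl k := by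
  have h1 : Sys.φ (nsys Xs F φ hφ).unital h =
      (EtCoh.pull (tr Xs h)).map ((nsys Xs F φ hφ).incl j) ≫ φ h ≫ (nsys Xs F φ hφ).proj k := by
    change toPull (tr Xs h) ((nsys Xs F φ hφ).incl j ≫ ofPull (tr Xs h) (φ h) ≫
      (EtCoh.push (tr Xs h)).map ((nsys Xs F φ hφ).proj k)) = _
    rw [toPull_pre, toPull_post, toPull_ofPull]
  have h2 : (EtCoh.pull (tr Xs h)).map ((nsys Xs F φ hφ).e j) ≫ φ h = φ h := by
    have := congrArg (toPull (tr Xs h)) ((nsys Xs F φ hφ).e_τ h)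
    change toPull (tr Xs h) ((nsys Xs F φ hφ).e j ≫ ofPull (tr Xs h) (φ h)) =
      toPull (tr Xs h) (ofPull (tr Xs h) (φ h)) at this
    rw [toPull_pre, toPull_ofPull] at this
    exact this
  have h3 : φ h ≫ (nsys Xs F φ hφ).e k = φ h := by
    have := congrArg (toPull (tr Xs h)) ((nsys Xs F φ hφ).τ_e h)
    change toPull (tr Xs h) (ofPull (tr Xs h) (φ h) ≫
      (EtCoh.push (tr Xs h)).map ((nsys Xs F φ hφ).e k)) =
      toPull (tr Xs h) (ofPull (tr Xs h) (φ h)) at this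
    rw [toPull_post, toPull_ofPull] at this
    exact this
  rw [h1]
  simp only [Category.assoc]
  rw [NSys.proj_incl, h3, ← Category.assoc, ← (EtCoh.pull (tr Xs h)).map_comp, NSys.proj_incl, h2]

end Cone

section Main

variable [IsDirected ι (· ≤ ·)] [Nonempty ι]
  [∀ (a b : ιᵒᵖ) (h : a ⟶ b), IsAffineHom (Xs.map h)] [∀ a, CompactSpace ↥(Xs.obj a)]
  [∀ a, QuasiSeparatedSpace ↥(Xs.obj a)]
  (c : Cone Xs) (hc : IsLimit c) (G : ι ⥤ EtCoh.Ab c.pt)
  (ψ : ∀ i : ι, (EtCoh.pull (c.π.app (op i))).obj (F i) ≅ G.obj i)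
  (hψ : ∀ ⦃i j : ι⦄ (hij : i ≤ j), (ψ i).hom ≫ G.map (homOfLE hij) =
    (EtLim.pullTransCone Xs c hij).hom.app (F i) ≫
      (EtCoh.pull (c.π.app (op j))).map (φ hij) ≫ (ψ j).hom)

include hφ hc hψ in
/-- **the limit theorem for a system of sheaves given by inverse image transition maps** -/
theorem limit_of_system (n : ℕ)
    [∀ a, PreservesFiniteLimits (EtCoh.pull (c.π.app a))]
    [∀ ⦃a b : ιᵒᵖ⦄ (h : a ⟶ b), PreservesFiniteLimits (EtCoh.pull (Xs.map h))] :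
    (∀ ξ : EtCoh.H c.pt (colimit G) n, ∃ (j : ι) (ξj : EtCoh.H (Xs.obj (op j)) (F j) n),
        EtLim.HpullThen (c.π.app (op j)) (F j) ((ψ j).hom ≫ colimit.ι G j) n ξj = ξ) ∧
    (∀ (j : ι) (ξj : EtCoh.H (Xs.obj (op j)) (F j) n),
      EtLim.HpullThen (c.π.app (op j)) (F j) ((ψ j).hom ≫ colimit.ι G j) n ξj = 0 →
        ∃ (k : ι) (hk : j ≤ k),
          EtLim.HpullThen (Xs.map (homOfLE hk).op) (F j) (φ hk) n ξj = 0) := by
  obtain ⟨h1, h2⟩ := limThm c hc (nsys Xs F φ hφ).unital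
    ((Cocone.precompose (νNat Xs F φ hφ c G ψ hψ).hom).obj (colimit.cocone G))
    ((IsColimit.precomposeHomEquiv (νNat Xs F φ hφ c G ψ hψ) (colimit.cocone G)).symm
      (colimit.isColimit G)) n
  have hι : ∀ j, ((Cocone.precompose (νNat Xs F φ hφ c G ψ hψ).hom).obj
      (colimit.cocone G)).ι.app j =
      (EtCoh.pull (pr c j)).map ((nsys Xs F φ hφ).incl j) ≫ (ψ j).hom ≫ colimit.ι G j :=
    fun j => Category.assoc _ _ _
  constructor
  · intro ξ
    obtain ⟨j, x, hx⟩ := h1 ξ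
    refine ⟨j, x.comp (Ext.mk₀ ((nsys Xs F φ hφ).incl j)) (add_zero n), ?_⟩
    rw [hι, HpullThen_pre] at hx
    exact hx
  · intro j ξj hξ
    obtain ⟨k, hk, hk'⟩ := h2 j (ξj.comp (Ext.mk₀ ((nsys Xs F φ hφ).proj j)) (add_zero n)) (by
      rw [hι, ← HpullThen_pre, ← Category.assoc, ← (EtCoh.pull (pr c j)).map_comp,
        NSys.proj_incl, pull_e Xs F φ hφ c G ψ hψ]
      refine Eq.trans ?_ hξ
      congr 1)
    refine ⟨k, hk, ?_⟩
    rw [φ_eq Xs F φ hφ c G ψ hψ hk]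
    have e1 := HpullThen_pre (tr Xs hk) ((nsys Xs F φ hφ).proj j)
      (Sys.φ (nsys Xs F φ hφ).unital hk ≫ (nsys Xs F φ hφ).incl k) n ξj
    have e2 := HpullThen_post (tr Xs hk) ((nsys Xs F φ hφ).unital.F j)
      (Sys.φ (nsys Xs F φ hφ).unital hk) ((nsys Xs F φ hφ).incl k) n
      (ξj.comp (Ext.mk₀ ((nsys Xs F φ hφ).proj j)) (add_zero n))
    refine e1.trans (e2.trans ?_)
    rw [hk', Ext.zero_comp]

end Main

end Groth.Agent.Lib.Helper27.EtLimN
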