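import Groth.Agent.Lib.Helper27.EtLimM2
import Groth.Agent.Lib.Helper23.RpushTors
import Mathlib.CategoryTheory.Presentable.Directed

/-!
# Cohomological dimension of a cofiltered limit of qcqs schemes with affine transition maps
(helper27)
-/

set_option autoImplicit false
set_option backward.isDefEq.respectTransparency false
set_option backward.isDefEq.respectTransparency.types false

universe u

open CategoryTheory CategoryTheory.Limits AlgebraicGeometry Opposite Abelian

namespace Groth.Agent.Lib.Helper27.EtLimP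

open Groth.Agent.Lib.Helper27.EtLimD Groth.Agent.Lib.Helper27.EtLimM

section Directed

variable {ι : Type u} [Preorder ι] [IsDirected ι (· ≤ ·)] [Nonempty ι] {Xs : ιᵒᵖ ⥤ Scheme.{u}}
  (c : Cone Xs) (hc : IsLimit c)
  [∀ (a b : ιᵒᵖ) (h : a ⟶ b), IsAffineHom (Xs.map h)] [∀ a, CompactSpace ↥(Xs.obj a)]
  [∀ a, QuasiSeparatedSpace ↥(Xs.obj a)]

include hc in
theorem cohDimLE_of_directed (d : ℕ) (h : ∀ j : ι, EtCoh.CohDimLE (Xs.obj (op j)) d) :
    EtCoh.CohDimLE c.pt d := by
  intro F hF q hq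
  haveI : IsCofiltered ιᵒᵖ := by
    haveI : IsFiltered ι := isFiltered_of_directed_le_nonempty _
    infer_instance
  haveI : ∀ {i j : ιᵒᵖ} (f : i ⟶ j), IsAffineHom (Xs.map f) := fun f => inferInstance
  refine ⟨fun ξ ξ' => ?_⟩
  have key : ∀ ξ : EtCoh.H c.pt F q, ξ = 0 := by
    intro ξ
    obtain ⟨j, ξj, rfl⟩ := (limit_of_push c hc F q).1 ξ
    haveI : IsAffineHom (c.π.app (op j)) := isAffineHom_π_app Xs c hc (op j)
    haveI := h j _ (Groth.Agent.Lib.Helper23.RpushTors.isTorsion_push (c.π.app (op j)) F hF) q hq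
    rw [Subsingleton.elim ξj 0, map_zero]
  rw [key ξ, key ξ']

end Directed

section Cofiltered

variable {I : Type u} [SmallCategory I] [IsCofiltered I] (D : I ⥤ Scheme.{u})
  [∀ {i j : I} (a : i ⟶ j), IsAffineHom (D.map a)]
  [∀ i, CompactSpace (D.obj i)] [∀ i, QuasiSeparatedSpace (D.obj i)]
  (c : Cone D) (hc : IsLimit c)

include hc in
/-- **S0149** -/
theorem cohDimLE_of_cofiltered (d : ℕ) (h : ∀ i, EtCoh.CohDimLE (D.obj i) d) :
    EtCoh.CohDimLE c.pt d := by
  obtain ⟨α, _, _, _, Fα, hfin⟩ := IsFiltered.exists_directed Iᵒᵖ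
  let R : αᵒᵖ ⥤ I := Fα.op ⋙ unopUnop I
  haveI : R.Initial := by
    haveI : Fα.op.Initial := inferInstance
    haveI : (unopUnop I).Initial := inferInstance
    exact Functor.initial_comp _ _
  haveI : ∀ (a b : αᵒᵖ) (f : a ⟶ b), IsAffineHom ((R ⋙ D).map f) := fun a b f =>
    (inferInstance : IsAffineHom (D.map (R.map f)))
  haveI : ∀ a : αᵒᵖ, CompactSpace ↥((R ⋙ D).obj a) := fun a =>
    (inferInstance : CompactSpace (D.obj (R.obj a)))
  haveI : ∀ a : αᵒᵖ, QuasiSeparatedSpace ↥((R ⋙ D).obj a) := fun a =>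
    (inferInstance : QuasiSeparatedSpace (D.obj (R.obj a)))
  exact cohDimLE_of_directed (c.whisker R) ((Functor.Initial.isLimitWhiskerEquiv R c).symm hc) d
    (fun j => h _)

end Cofiltered

end Groth.Agent.Lib.Helper27.EtLimP
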