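import Groth.Agent.Lib.Helper27.EtLimM2
import Groth.Agent.Lib.Helper22.LimBaseChange

/-!
# Global functions on a base change to the limit come from a finite stage (helper27)
-/

set_option autoImplicit false
set_option backward.isDefEq.respectTransparency false
set_option backward.isDefEq.respectTransparency.types false

universe u

open CategoryTheory CategoryTheory.Limits AlgebraicGeometry Opposite

namespace Groth.Agent.Lib.Helper27.EtLimQ

open Groth.Agent.Lib.Helper27.EtLimA Groth.Agent.Lib.Helper27.EtLimD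
  Groth.Agent.Lib.Helper27.EtLimG Groth.Agent.Lib.Helper22

section QG

variable {T X Y : Scheme.{u}}

/-- the canonical morphism `W ×_Y T ⟶ W ×_Y X` for `T ⟶ X ⟶ Y` -/
noncomputable def qG (f : X ⟶ Y) (p' : T ⟶ X) (p : T ⟶ Y) (w : p' ≫ f = p) (W : Y.Etale) :
    ((EtCoh.bc p).obj W).left ⟶ ((EtCoh.bc f).obj W).left :=
  ((triIso p' f p w).inv.app W).left ≫ prL p' ((EtCoh.bc f).obj W)

lemma qG_prL (f : X ⟶ Y) (p' : T ⟶ X) (p : T ⟶ Y) (w : p' ≫ f = p) (W : Y.Etale) :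
    qG f p' p w W ≫ prL f W = prL p W := by
  unfold qG
  rw [Category.assoc]
  exact triIso_inv_prL p' f p w W

lemma qG_hom (f : X ⟶ Y) (p' : T ⟶ X) (p : T ⟶ Y) (w : p' ≫ f = p) (W : Y.Etale) :
    qG f p' p w W ≫ ((EtCoh.bc f).obj W).hom = ((EtCoh.bc p).obj W).hom ≫ p' := by
  unfold qG
  rw [Category.assoc, prL_comp, ← Category.assoc]
  congr 1
  exact Over.w ((triIso p' f p w).inv.app W).hom

/-- transitivity -/
lemma qG_qG {T' : Scheme.{u}} (f : X ⟶ Y) (p' : T ⟶ X) (p : T ⟶ Y) (w : p' ≫ f = p)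
    (t : T' ⟶ T) (p'' : T' ⟶ X) (p₀ : T' ⟶ Y) (w' : t ≫ p' = p'') (w'' : p'' ≫ f = p₀)
    (w₀ : t ≫ p = p₀) (W : Y.Etale) :
    qG p t p₀ w₀ W ≫ qG f p' p w W = qG f p'' p₀ w'' W := by
  apply sch_ext
  · rw [Category.assoc, qG_prL, qG_prL, qG_prL]
  · rw [Category.assoc, qG_hom, ← Category.assoc, qG_hom, qG_hom, Category.assoc, w']

lemma appTop_comp_apply {A B C : Scheme.{u}} (f : A ⟶ B) (g : B ⟶ C) (x : Γ(C, ⊤)) :
    (f ≫ g).appTop x = f.appTop (g.appTop x) := by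
  rw [Scheme.Hom.comp_appTop]
  rfl

lemma appTop_iso_hom_inv {A B : Scheme.{u}} (e : A ≅ B) (x : Γ(A, ⊤)) :
    e.hom.appTop (e.inv.appTop x) = x := by
  rw [← appTop_comp_apply, e.hom_inv_id]
  simp

lemma appTop_iso_inv_hom {A B : Scheme.{u}} (e : A ≅ B) (x : Γ(B, ⊤)) :
    e.inv.appTop (e.hom.appTop x) = x := by
  rw [← appTop_comp_apply, e.inv_hom_id]
  simp

end QG

section Lim

variable {ι : Type u} [Preorder ι] [IsDirected ι (· ≤ ·)] [Nonempty ι] {Xs : ιᵒᵖ ⥤ Scheme.{u}}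
  (c : Cone Xs) (hc : IsLimit c)
  [∀ (a b : ιᵒᵖ) (h : a ⟶ b), IsAffineHom (Xs.map h)] [∀ a, CompactSpace ↥(Xs.obj a)]
  [∀ a, QuasiSeparatedSpace ↥(Xs.obj a)]
  {k : ι} (W : (Xs.obj (op k)).Etale)

/-- the symmetry isomorphism for the objects of the base changed diagram -/
noncomputable def σD (j : Over (op k)) :
    ((EtCoh.bc (Xs.map j.hom)).obj W).left ≅ (bcDiag Xs (op k) W.hom).obj j :=
  pullbackSymmetry W.hom (Xs.map j.hom)

/-- the symmetry isomorphism for the vertex of the base changed cone -/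
noncomputable def σP :
    ((EtCoh.bc (c.π.app (op k))).obj W).left ≅ (bcCone Xs c (op k) W.hom).pt :=
  pullbackSymmetry W.hom (c.π.app (op k))

omit [IsDirected ι (· ≤ ·)] [Nonempty ι] [∀ (a b : ιᵒᵖ) (h : a ⟶ b), IsAffineHom (Xs.map h)]
  [∀ a, CompactSpace ↥(Xs.obj a)] [∀ a, QuasiSeparatedSpace ↥(Xs.obj a)] in
lemma bcDiag_hom_ext {S : Scheme.{u}} {j : Over (op k)}
    (p q : S ⟶ (bcDiag Xs (op k) W.hom).obj j)
    (h1 : p ≫ pullback.fst (Xs.map j.hom) W.hom = q ≫ pullback.fst (Xs.map j.hom) W.hom)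
    (h2 : p ≫ pullback.snd (Xs.map j.hom) W.hom = q ≫ pullback.snd (Xs.map j.hom) W.hom) :
    p = q :=
  pullback.hom_ext h1 h2

omit [IsDirected ι (· ≤ ·)] [Nonempty ι] [∀ (a b : ιᵒᵖ) (h : a ⟶ b), IsAffineHom (Xs.map h)]
  [∀ a, CompactSpace ↥(Xs.obj a)] [∀ a, QuasiSeparatedSpace ↥(Xs.obj a)] in
lemma σ_cone (j : Over (op k)) :
    (σP c W).hom ≫ (bcCone Xs c (op k) W.hom).π.app j =
      qG (Xs.map j.hom) (c.π.app j.left) (c.π.app (op k)) (c.w j.hom) W ≫ (σD W j).hom := by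
  apply bcDiag_hom_ext
  · rw [Category.assoc, bcCone_π_fst, Category.assoc]
    unfold σP σD
    rw [pullbackSymmetry_hom_comp_fst_assoc, pullbackSymmetry_hom_comp_fst]
    exact (qG_hom (Xs.map j.hom) (c.π.app j.left) (c.π.app (op k)) (c.w j.hom) W).symm
  · rw [Category.assoc, bcCone_π_snd, Category.assoc]
    unfold σP σD
    rw [pullbackSymmetry_hom_comp_snd, pullbackSymmetry_hom_comp_snd]
    exact (qG_prL (Xs.map j.hom) (c.π.app j.left) (c.π.app (op k)) (c.w j.hom) W).symm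

omit [IsDirected ι (· ≤ ·)] [Nonempty ι] [∀ (a b : ιᵒᵖ) (h : a ⟶ b), IsAffineHom (Xs.map h)]
  [∀ a, CompactSpace ↥(Xs.obj a)] [∀ a, QuasiSeparatedSpace ↥(Xs.obj a)] in
lemma over_w {j' j : Over (op k)} (f : j' ⟶ j) : Xs.map f.left ≫ Xs.map j.hom = Xs.map j'.hom := by
  rw [← Xs.map_comp, Over.w f]

omit [IsDirected ι (· ≤ ·)] [Nonempty ι] [∀ (a b : ιᵒᵖ) (h : a ⟶ b), IsAffineHom (Xs.map h)]
  [∀ a, CompactSpace ↥(Xs.obj a)] [∀ a, QuasiSeparatedSpace ↥(Xs.obj a)] in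
lemma σ_map {j' j : Over (op k)} (f : j' ⟶ j) :
    (σD W j').hom ≫ (bcDiag Xs (op k) W.hom).map f =
      qG (Xs.map j.hom) (Xs.map f.left) (Xs.map j'.hom) (over_w f) W ≫ (σD W j).hom := by
  apply bcDiag_hom_ext
  · rw [Category.assoc, bcDiag_map_fst, Category.assoc]
    unfold σD
    rw [pullbackSymmetry_hom_comp_fst_assoc, pullbackSymmetry_hom_comp_fst]
    exact (qG_hom (Xs.map j.hom) (Xs.map f.left) (Xs.map j'.hom) (over_w f) W).symm
  · rw [Category.assoc, bcDiag_map_snd, Category.assoc]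
    unfold σD
    rw [pullbackSymmetry_hom_comp_snd, pullbackSymmetry_hom_comp_snd]
    exact (qG_prL (Xs.map j.hom) (Xs.map f.left) (Xs.map j'.hom) (over_w f) W).symm

instance quasiSeparatedSpace_bcDiag [QuasiSeparatedSpace W.left] (j : Over (op k)) :
    QuasiSeparatedSpace ((bcDiag Xs (op k) W.hom).obj j) := by
  rw [bcDiag_obj]
  have : IsAffineHom (pullback.snd (Xs.map j.hom) W.hom) :=
    MorphismProperty.pullback_snd (P := @IsAffineHom) _ _ inferInstance
  haveI : QuasiSeparatedSpace ↥((𝟭 Scheme).obj W.left) := ‹QuasiSeparatedSpace W.left›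
  exact quasiSeparatedSpace_of_quasiSeparated (pullback.snd (Xs.map j.hom) W.hom)

include hc in
/-- every global function on the base change to the limit comes from a finite stage -/
theorem Γ_surj [CompactSpace W.left] [QuasiSeparatedSpace W.left]
    (m : Γ(((EtCoh.bc (c.π.app (op k))).obj W).left, ⊤)) :
    ∃ (j : Over (op k)) (s : Γ(((EtCoh.bc (Xs.map j.hom)).obj W).left, ⊤)),
      (qG (Xs.map j.hom) (c.π.app j.left) (c.π.app (op k)) (c.w j.hom) W).appTop s = m := by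
  haveI : IsCofiltered ιᵒᵖ := by
    haveI : IsFiltered ι := isFiltered_of_directed_le_nonempty _
    infer_instance
  haveI : ∀ {i j : Over (op k)} (f : i ⟶ j), IsAffineHom ((bcDiag Xs (op k) W.hom).map f) :=
    fun f => inferInstance
  haveI : CompactSpace ↥((𝟭 Scheme).obj W.left) := ‹CompactSpace W.left›
  haveI : ∀ i : Over (op k), CompactSpace ((bcDiag Xs (op k) W.hom).obj i) :=
    fun i => inferInstance
  haveI : ∀ i : Over (op k), QuasiSeparatedSpace ((bcDiag Xs (op k) W.hom).obj i) :=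
    fun i => quasiSeparatedSpace_bcDiag W i
  obtain ⟨j, t, ht⟩ := exists_appTop_π_eq_of_isLimit (bcDiag Xs (op k) W.hom)
    (bcCone Xs c (op k) W.hom) (bcIsLimit Xs hc (op k) W.hom) ((σP c W).inv.appTop m)
  refine ⟨j, (σD W j).hom.appTop t, ?_⟩
  have e1 := congrArg (fun φ => Scheme.Hom.appTop φ t) (σ_cone c W j)
  have e2 := appTop_comp_apply (σP c W).hom ((bcCone Xs c (op k) W.hom).π.app j) t
  have e3 := appTop_comp_apply
    (qG (Xs.map j.hom) (c.π.app j.left) (c.π.app (op k)) (c.w j.hom) W) (σD W j).hom t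
  refine e3.symm.trans (e1.symm.trans (e2.trans ?_))
  exact (congrArg (fun x => (σP c W).hom.appTop x) ht.symm).trans (appTop_iso_hom_inv _ m)

include hc in
/-- a global function at a finite stage dying on the limit dies at a later stage -/
theorem Γ_inj [CompactSpace W.left] (j : Over (op k))
    (s : Γ(((EtCoh.bc (Xs.map j.hom)).obj W).left, ⊤))
    (hs : (qG (Xs.map j.hom) (c.π.app j.left) (c.π.app (op k)) (c.w j.hom) W).appTop s = 0) :
    ∃ (j' : Over (op k)) (f : j' ⟶ j),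
      (qG (Xs.map j.hom) (Xs.map f.left) (Xs.map j'.hom) (over_w f) W).appTop s = 0 := by
  haveI : IsCofiltered ιᵒᵖ := by
    haveI : IsFiltered ι := isFiltered_of_directed_le_nonempty _
    infer_instance
  haveI : ∀ {i j : Over (op k)} (f : i ⟶ j), IsAffineHom ((bcDiag Xs (op k) W.hom).map f) :=
    fun f => inferInstance
  haveI : CompactSpace ↥((𝟭 Scheme).obj W.left) := ‹CompactSpace W.left›
  haveI : CompactSpace ((bcDiag Xs (op k) W.hom).obj j) := inferInstance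
  have h0 : ((bcCone Xs c (op k) W.hom).π.app j).appTop ((σD W j).inv.appTop s) = 0 := by
    have e1 : (bcCone Xs c (op k) W.hom).π.app j =
        (σP c W).inv ≫ qG (Xs.map j.hom) (c.π.app j.left) (c.π.app (op k)) (c.w j.hom) W ≫
          (σD W j).hom := by
      rw [← σ_cone, Iso.inv_hom_id_assoc]
    rw [e1, appTop_comp_apply, appTop_comp_apply, appTop_iso_hom_inv, hs, map_zero]
  obtain ⟨j', f, hf⟩ := exists_appTop_map_eq_zero_of_isLimit (bcDiag Xs (op k) W.hom)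
    (bcCone Xs c (op k) W.hom) (bcIsLimit Xs hc (op k) W.hom) ((σD W j).inv.appTop s) h0
  refine ⟨j', f, ?_⟩
  have e2 : qG (Xs.map j.hom) (Xs.map f.left) (Xs.map j'.hom) (over_w f) W =
      (σD W j').hom ≫ (bcDiag Xs (op k) W.hom).map f ≫ (σD W j).inv := by
    rw [← Category.assoc, σ_map, Category.assoc, Iso.hom_inv_id, Category.comp_id]
  rw [e2, appTop_comp_apply, appTop_comp_apply, hf, map_zero]

include hc in
theorem Γ_surj' [CompactSpace W.left] [QuasiSeparatedSpace W.left]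
    (m : Γ(((EtCoh.bc (pr c k)).obj W).left, ⊤)) :
    ∃ (k' : ι) (h : k ≤ k') (s : Γ(((EtCoh.bc (tr Xs h)).obj W).left, ⊤)),
      (qG (tr Xs h) (pr c k') (pr c k) (pr_tr c h) W).appTop s = m := by
  obtain ⟨j, s, hs⟩ := Γ_surj c hc W m
  exact ⟨j.left.unop, leOfHom j.hom.unop, s, hs⟩

include hc in
theorem Γ_inj' [CompactSpace W.left] {k' : ι} (h : k ≤ k')
    (s : Γ(((EtCoh.bc (tr Xs h)).obj W).left, ⊤))
    (hs : (qG (tr Xs h) (pr c k') (pr c k) (pr_tr c h) W).appTop s = 0) :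
    ∃ (k'' : ι) (h' : k' ≤ k''),
      (qG (tr Xs h) (tr Xs h') (tr Xs (h.trans h')) (tr_comp Xs h h') W).appTop s = 0 := by
  obtain ⟨j', f, hf⟩ := Γ_inj c hc W (Over.mk (homOfLE h).op) s hs
  exact ⟨j'.left.unop, leOfHom f.left.unop, hf⟩

end Lim

end Groth.Agent.Lib.Helper27.EtLimQ
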