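import Groth.Agent.Lib.Helper27.EtLimQ2

/-!
# The limit theorem for `G_a` (helper27)
-/

set_option autoImplicit false
set_option backward.isDefEq.respectTransparency false
set_option backward.isDefEq.respectTransparency.types false

universe u

open CategoryTheory CategoryTheory.Limits AlgebraicGeometry Opposite

namespace Groth.Agent.Lib.Helper27.EtLimQ

open Groth.Agent.Lib.Helper27.EtLimA Groth.Agent.Lib.Helper27.EtLimB
  Groth.Agent.Lib.Helper27.EtLimC Groth.Agent.Lib.Helper27.EtLimD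
  Groth.Agent.Lib.Helper27.EtLimG Groth.Agent.Lib.Helper27.EtLimM

lemma ΓAdd_map_down {A B : Scheme.{u}} (f : A ⟶ B) (s : EtCoh.ΓAdd.obj (op B)) :
    (EtCoh.ΓAdd.map f.op s).down = f.appTop s.down := rfl

lemma ΓAdd_zero_down (A : Scheme.{u}) : (0 : EtCoh.ΓAdd.obj (op A)).down = 0 := rfl

lemma ΓAdd_ext {A : Scheme.{u}} (a b : EtCoh.ΓAdd.obj (op A)) (h : a.down = b.down) : a = b :=
  ULift.ext _ _ h

section Main

variable {ι : Type u} [Preorder ι] [IsDirected ι (· ≤ ·)] [Nonempty ι] {Xs : ιᵒᵖ ⥤ Scheme.{u}}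
  (c : Cone Xs) (hc : IsLimit c)
  [∀ (a b : ιᵒᵖ) (h : a ⟶ b), IsAffineHom (Xs.map h)] [∀ a, CompactSpace ↥(Xs.obj a)]
  [∀ a, QuasiSeparatedSpace ↥(Xs.obj a)]

include hc in
theorem limSurj_ΓAdd : LimSurj EtCoh.ΓAdd c := by
  intro k W _ _ m
  obtain ⟨k', h, s, hs⟩ := Γ_surj' c hc W m.down
  refine ⟨k', h, ⟨s⟩, ?_⟩
  apply ΓAdd_ext
  rw [ΓAdd_map_down]
  exact hs

include hc in
theorem limInj_ΓAdd : LimInj EtCoh.ΓAdd c := by
  intro k W _ _ k' h s hs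
  have hs' : (qG (tr Xs h) (pr c k') (pr c k) (pr_tr c h) W).appTop s.down = 0 := by
    rw [← ΓAdd_map_down, hs]
    rfl
  obtain ⟨k'', h', h2⟩ := Γ_inj' c hc W h s.down hs'
  refine ⟨k'', h', ?_⟩
  apply ΓAdd_ext
  rw [ΓAdd_map_down, h2]
  rfl

open Abelian in
include hc in
/-- **the limit theorem for `G_a`** -/
theorem limit_Ga (n : ℕ)
    [∀ a, PreservesFiniteLimits (EtCoh.pull (c.π.app a))]
    [∀ ⦃a b : ιᵒᵖ⦄ (h : a ⟶ b), PreservesFiniteLimits (EtCoh.pull (Xs.map h))] :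
    (∀ ξ : EtCoh.H c.pt (EtCoh.Ga c.pt) n,
      ∃ (j : ι) (ξj : EtCoh.H (Xs.obj (op j)) (EtCoh.Ga (Xs.obj (op j))) n),
        EtLim.HGaPull (c.π.app (op j)) n ξj = ξ) ∧
    (∀ (j : ι) (ξj : EtCoh.H (Xs.obj (op j)) (EtCoh.Ga (Xs.obj (op j))) n),
      EtLim.HGaPull (c.π.app (op j)) n ξj = 0 →
        ∃ (k : ι) (hk : j ≤ k), EtLim.HGaPull (Xs.map (homOfLE hk).op) n ξj = 0) :=
  limit_P EtCoh.ΓAdd EtCoh.isSheaf_ΓAdd c hc (limSurj_ΓAdd c hc) (limInj_ΓAdd c hc) n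

end Main

end Groth.Agent.Lib.Helper27.EtLimQ
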