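import Groth.Agent.Lib.Helper27.EtLimQ3

/-!
# The limit theorem for `G_m` (helper27)
-/

set_option autoImplicit false
set_option backward.isDefEq.respectTransparency false
set_option backward.isDefEq.respectTransparency.types false

universe u

open CategoryTheory CategoryTheory.Limits AlgebraicGeometry Opposite

namespace Groth.Agent.Lib.Helper27.EtLimQ

open Groth.Agent.Lib.Helper27.EtLimA Groth.Agent.Lib.Helper27.EtLimB
  Groth.Agent.Lib.Helper27.EtLimC Groth.Agent.Lib.Helper27.EtLimD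
  Groth.Agent.Lib.Helper27.EtLimG Groth.Agent.Lib.Helper27.EtLimM

/-- the underlying function of a section of `ΓUnits` -/
def uval {A : Scheme.{u}} (m : EtCoh.ΓUnits.obj (op A)) : Γ(A, ⊤) :=
  (Additive.toMul m.down : (Γ(A, ⊤))ˣ).val

/-- the section of `ΓUnits` of a unit -/
def umk {A : Scheme.{u}} (x : (Γ(A, ⊤))ˣ) : EtCoh.ΓUnits.obj (op A) :=
  ⟨Additive.ofMul x⟩

lemma uval_umk {A : Scheme.{u}} (x : (Γ(A, ⊤))ˣ) : uval (umk x) = x.val := rfl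

lemma uval_map {A B : Scheme.{u}} (f : A ⟶ B) (s : EtCoh.ΓUnits.obj (op B)) :
    uval (EtCoh.ΓUnits.map f.op s) = f.appTop (uval s) := rfl

lemma uval_zero (A : Scheme.{u}) : uval (0 : EtCoh.ΓUnits.obj (op A)) = 1 := rfl

lemma uval_neg_mul {A : Scheme.{u}} (m : EtCoh.ΓUnits.obj (op A)) :
    uval m * uval (-m) = 1 := by
  change (Additive.toMul m.down : (Γ(A, ⊤))ˣ).val * ((Additive.toMul m.down : (Γ(A, ⊤))ˣ)⁻¹).val = 1
  exact Units.mul_inv _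

lemma uval_ext {A : Scheme.{u}} (a b : EtCoh.ΓUnits.obj (op A)) (h : uval a = uval b) : a = b := by
  apply ULift.ext
  exact Units.ext h

section Main

variable {ι : Type u} [Preorder ι] [IsDirected ι (· ≤ ·)] [Nonempty ι] {Xs : ιᵒᵖ ⥤ Scheme.{u}}
  (c : Cone Xs) (hc : IsLimit c)
  [∀ (a b : ιᵒᵖ) (h : a ⟶ b), IsAffineHom (Xs.map h)] [∀ a, CompactSpace ↥(Xs.obj a)]
  [∀ a, QuasiSeparatedSpace ↥(Xs.obj a)]

lemma Q_R {k k' k'' : ι} (W : (Xs.obj (op k)).Etale) (h : k ≤ k') (h' : k' ≤ k'') :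
    qG (tr Xs (h.trans h')) (pr c k'') (pr c k) (pr_tr c (h.trans h')) W ≫
      qG (tr Xs h) (tr Xs h') (tr Xs (h.trans h')) (tr_comp Xs h h') W =
    qG (tr Xs h) (pr c k') (pr c k) (pr_tr c h) W :=
  qG_qG (tr Xs h) (tr Xs h') (tr Xs (h.trans h')) (tr_comp Xs h h') (pr c k'') (pr c k')
    (pr c k) (pr_tr c h') (pr_tr c h) (pr_tr c (h.trans h')) W

lemma Q_R_apply {k k' k'' : ι} (W : (Xs.obj (op k)).Etale) (h : k ≤ k') (h' : k' ≤ k'')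
    (s : Γ(((EtCoh.bc (tr Xs h)).obj W).left, ⊤)) :
    (qG (tr Xs (h.trans h')) (pr c k'') (pr c k) (pr_tr c (h.trans h')) W).appTop
      ((qG (tr Xs h) (tr Xs h') (tr Xs (h.trans h')) (tr_comp Xs h h') W).appTop s) =
    (qG (tr Xs h) (pr c k') (pr c k) (pr_tr c h) W).appTop s := by
  rw [← appTop_comp_apply, Q_R]

include hc in
theorem limInj_ΓUnits : LimInj EtCoh.ΓUnits c := by
  intro k W _ _ k' h s hs
  have hs' : (qG (tr Xs h) (pr c k') (pr c k) (pr_tr c h) W).appTop (uval s - 1) = 0 := by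
    rw [map_sub, map_one, ← uval_map, hs, uval_zero, sub_self]
  obtain ⟨k'', h', h2⟩ := Γ_inj' c hc W h (uval s - 1) hs'
  refine ⟨k'', h', ?_⟩
  apply uval_ext
  rw [uval_map, uval_zero]
  rw [map_sub, map_one, sub_eq_zero] at h2
  exact h2

include hc in
theorem limSurj_ΓUnits : LimSurj EtCoh.ΓUnits c := by
  intro k W _ _ m
  obtain ⟨k₁, h₁, s₁, hs₁⟩ := Γ_surj' c hc W (uval m)
  obtain ⟨k₂, h₂, s₂, hs₂⟩ := Γ_surj' c hc W (uval (-m))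
  obtain ⟨k₃, h₁₃, h₂₃⟩ := exists_ge_ge k₁ k₂
  have h₃ : k ≤ k₃ := h₁.trans h₁₃
  let t₁ : Γ(((EtCoh.bc (tr Xs h₃)).obj W).left, ⊤) :=
    (qG (tr Xs h₁) (tr Xs h₁₃) (tr Xs h₃) (tr_comp Xs h₁ h₁₃) W).appTop s₁
  let t₂ : Γ(((EtCoh.bc (tr Xs h₃)).obj W).left, ⊤) :=
    (qG (tr Xs h₂) (tr Xs h₂₃) (tr Xs h₃) (tr_comp Xs h₂ h₂₃) W).appTop s₂
  have ht₁ : (qG (tr Xs h₃) (pr c k₃) (pr c k) (pr_tr c h₃) W).appTop t₁ = uval m :=
    (Q_R_apply c W h₁ h₁₃ s₁).trans hs₁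
  have ht₂ : (qG (tr Xs h₃) (pr c k₃) (pr c k) (pr_tr c h₃) W).appTop t₂ = uval (-m) :=
    (Q_R_apply c W h₂ h₂₃ s₂).trans hs₂
  have h0 : (qG (tr Xs h₃) (pr c k₃) (pr c k) (pr_tr c h₃) W).appTop (t₁ * t₂ - 1) = 0 := by
    rw [map_sub, map_mul, map_one, ht₁, ht₂, uval_neg_mul, sub_self]
  obtain ⟨k₄, h₃₄, h4⟩ := Γ_inj' c hc W h₃ (t₁ * t₂ - 1) h0
  rw [map_sub, map_mul, map_one, sub_eq_zero] at h4
  refine ⟨k₄, h₃.trans h₃₄, umk (Units.mkOfMulEqOne _ _ h4), ?_⟩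
  apply uval_ext
  rw [uval_map, uval_umk, Units.val_mkOfMulEqOne]
  exact (Q_R_apply c W h₃ h₃₄ t₁).trans ht₁

open Abelian in
include hc in
/-- **the limit theorem for `G_m`** -/
theorem limit_Gm (n : ℕ)
    [∀ a, PreservesFiniteLimits (EtCoh.pull (c.π.app a))]
    [∀ ⦃a b : ιᵒᵖ⦄ (h : a ⟶ b), PreservesFiniteLimits (EtCoh.pull (Xs.map h))] :
    (∀ ξ : EtCoh.H c.pt (EtCoh.Gm c.pt) n,
      ∃ (j : ι) (ξj : EtCoh.H (Xs.obj (op j)) (EtCoh.Gm (Xs.obj (op j))) n),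
        EtLim.HGmPull (c.π.app (op j)) n ξj = ξ) ∧
    (∀ (j : ι) (ξj : EtCoh.H (Xs.obj (op j)) (EtCoh.Gm (Xs.obj (op j))) n),
      EtLim.HGmPull (c.π.app (op j)) n ξj = 0 →
        ∃ (k : ι) (hk : j ≤ k), EtLim.HGmPull (Xs.map (homOfLE hk).op) n ξj = 0) :=
  limit_P EtCoh.ΓUnits EtCoh.isSheaf_ΓUnits c hc (limSurj_ΓUnits c hc) (limInj_ΓUnits c hc) n

end Main

end Groth.Agent.Lib.Helper27.EtLimQ
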