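import Groth.Agent.Lib.Helper27.EtNorm6

set_option autoImplicit false
set_option backward.isDefEq.respectTransparency false
universe u
open CategoryTheory Limits Opposite AlgebraicGeometry Abelian
open Groth.Agent.Lib.Helper23.EtGlue Groth.Agent.Lib.Helper27.EtTrace

namespace Groth.Agent.Lib.Helper27.EtNorm

variable {X X' : Scheme.{u}} (f : X' ⟶ X) [IsFinite f] [Etale f]

/-- a finite étale morphism of constant degree `d` is trivialised with `d` sheets étale-locally
around every point -/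
theorem exists_triv (d : ℕ)
    (hd : ∀ (Ω : Type u) [Field Ω] [IsSepClosed Ω] (ξ : Spec (CommRingCat.of Ω) ⟶ X),
      Nat.card ↥(pullback f ξ) = d) (x : X) :
    ∃ t : Triv f, x ∈ Set.range t.g ∧ t.n = d := by
  obtain ⟨U, g, hg, u, hu, n, V, c, hc, e, he⟩ := Groth.Agent.Lib.Helper19.FinEtTriv.main f x
  refine ⟨⟨U, g, hg, n, V, c, hc, e, he⟩, ⟨u, hu⟩, ?_⟩
  let Ω : Type u := SeparableClosure (U.residueField u)
  let ξ : Spec (CommRingCat.of Ω) ⟶ U :=
    Spec.map (CommRingCat.ofHom (algebraMap (U.residueField u) Ω)) ≫ U.fromSpecResidueField u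
  have h1 : Nat.card ↥(pullback f (ξ ≫ g)) = n := card_pullback_eq f g V c e he ξ
  have h2 := hd Ω (ξ ≫ g)
  exact h1.symm.trans h2

/-- **Restriction–corestriction** for a finite étale cover of constant degree prime to the
torsion of the coefficients. -/
theorem H_subsingleton (d : ℕ)
    (hd : ∀ (Ω : Type u) [Field Ω] [IsSepClosed Ω] (ξ : Spec (CommRingCat.of Ω) ⟶ X),
      Nat.card ↥(pullback f ξ) = d)
    (L : Set ℕ) (hL : ∀ p : ℕ, p.Prime → p ∈ L → ¬ p ∣ d) (F : EtCoh.Ab X)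
    (hF : EtAcyc.IsLTorsion L F) [PreservesFiniteLimits (EtCoh.pull f)] (q : ℕ)
    (h : Subsingleton (EtCoh.H X' ((EtCoh.pull f).obj F) q)) :
    Subsingleton (EtCoh.H X F q) := by
  obtain ⟨N, hN⟩ := exists_norm f d (exists_triv f d hd)
  haveI : IsIso (d • 𝟙 F) := by
    apply isIso_nsmul_id
    intro U s x
    obtain ⟨V, g, m, ⟨v, hv⟩, hm, hs⟩ := hF U s x
    exact ⟨V, g, m, ⟨v, hv⟩, coprime_of_primesIn L d m hL hm, hs⟩
  refine ⟨fun a b => ?_⟩
  have key : ∀ x : EtCoh.H X F q, x = 0 := by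
    intro x
    apply eq_zero_of_nsmul_eq_zero F d q x
    exact nsmul_eq_zero_of_norm f d N hN F q x (Subsingleton.elim _ _)
  rw [key a, key b]

end Groth.Agent.Lib.Helper27.EtNorm
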