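import Groth.Agent.Lib.Helper27.EtTrace10
import Groth.Agent.Lib.Helper27.EtTorsion3

/-!
# `H^i(Spec k, ℤ) ≃ H^{i-1}(Spec k, ℚ/ℤ)` for `i ≥ 2`
-/

set_option autoImplicit false
set_option backward.isDefEq.respectTransparency false
universe u
open CategoryTheory Limits Opposite AlgebraicGeometry Abelian

namespace Groth.Agent.Lib.Helper27.EtQZ

section Const

variable (X : Scheme.{u})

instance pfl_const : PreservesFiniteLimits
    (constantSheaf X.smallEtaleTopology AddCommGrpCat.{u + 1}) := by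
  unfold constantSheaf
  infer_instance

instance pfc_const : PreservesFiniteColimits
    (constantSheaf X.smallEtaleTopology AddCommGrpCat.{u + 1}) :=
  have : PreservesColimitsOfSize.{0, 0} (constantSheaf X.smallEtaleTopology AddCommGrpCat.{u + 1}) :=
    (EtCore.constAdj X).leftAdjoint_preservesColimits
  PreservesColimitsOfSize.preservesFiniteColimits _

end Const

/-- `ℤ → ℚ` on `ULift`s -/
def fZQ : ULift.{u + 1} ℤ →+ ULift.{u + 1} ℚ :=
  (AddEquiv.ulift.symm : ℚ ≃+ ULift.{u + 1} ℚ).toAddMonoidHom.comp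
    ((Int.castAddHom ℚ).comp (AddEquiv.ulift : ULift.{u + 1} ℤ ≃+ ℤ).toAddMonoidHom)

/-- `ℚ → ℚ/ℤ` on `ULift`s -/
def gQZ : ULift.{u + 1} ℚ →+ ULift.{u + 1} (ℚ ⧸ AddSubgroup.zmultiples (1 : ℚ)) :=
  (AddEquiv.ulift.symm : _ ≃+ ULift.{u + 1} (ℚ ⧸ AddSubgroup.zmultiples (1 : ℚ))).toAddMonoidHom.comp
    ((QuotientAddGroup.mk' (AddSubgroup.zmultiples (1 : ℚ))).comp
      (AddEquiv.ulift : ULift.{u + 1} ℚ ≃+ ℚ).toAddMonoidHom)

theorem fZQ_apply (a : ULift.{u + 1} ℤ) : (fZQ a).down = (a.down : ℚ) := rfl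

theorem gQZ_apply (q : ULift.{u + 1} ℚ) :
    (gQZ q).down = QuotientAddGroup.mk' (AddSubgroup.zmultiples (1 : ℚ)) q.down := rfl

/-- the short complex `0 → ℤ → ℚ → ℚ/ℤ → 0` -/
noncomputable def SZQ : ShortComplex AddCommGrpCat.{u + 1} :=
  ShortComplex.mk (AddCommGrpCat.ofHom fZQ.{u}) (AddCommGrpCat.ofHom gQZ.{u}) (by
    ext a
    change (gQZ (fZQ a)).down = 0
    rw [gQZ_apply, fZQ_apply]
    change ((a.down : ℚ) : ℚ ⧸ AddSubgroup.zmultiples (1 : ℚ)) = 0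
    rw [QuotientAddGroup.eq_zero_iff]
    exact ⟨a.down, by simp⟩)

theorem SZQ_shortExact : SZQ.{u}.ShortExact := by
  have hmono : Mono SZQ.{u}.f := by
    rw [AddCommGrpCat.mono_iff_injective]
    intro a b hab
    have h1 : (fZQ a).down = (fZQ b).down := congrArg ULift.down hab
    rw [fZQ_apply, fZQ_apply] at h1
    exact ULift.ext _ _ (Int.cast_injective h1)
  have hepi : Epi SZQ.{u}.g := by
    rw [AddCommGrpCat.epi_iff_surjective]
    intro y
    obtain ⟨q, hq⟩ := QuotientAddGroup.mk'_surjective _ y.down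
    exact ⟨⟨q⟩, ULift.ext _ _ hq⟩
  refine { exact := ?_, mono_f := hmono, epi_g := hepi }
  rw [ShortComplex.ab_exact_iff]
  intro q hq
  have h1 : (gQZ q).down = 0 := congrArg ULift.down hq
  rw [gQZ_apply] at h1
  change ((q.down : ℚ) : ℚ ⧸ AddSubgroup.zmultiples (1 : ℚ)) = 0 at h1
  rw [QuotientAddGroup.eq_zero_iff] at h1
  obtain ⟨a, ha⟩ := h1
  refine ⟨⟨a⟩, ULift.ext _ _ ?_⟩
  change (fZQ.{u} ⟨a⟩).down = q.down
  rw [fZQ_apply, ← ha]
  simp

end Groth.Agent.Lib.Helper27.EtQZ
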