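import Groth.Agent.Lib.Helper23.ExtAdj

/-!
# Bijectivity of the adjunction map on `Ext` for a class of objects stable under cosyzygies

For an adjunction `L ⊣ R` with `L` exact and a class `P` of objects of the target containing the
injectives such that, for every short exact sequence `0 → F → I → Q → 0` with `P F` and `I`
injective, `R` keeps the sequence exact and `P Q`, the map `Ext^n(A, R F) → Ext^n(L A, F)` is
bijective for every `F` in the class.
-/

set_option autoImplicit false
set_option backward.isDefEq.respectTransparency false

namespace Groth.Agent.Lib.Helper27.EtRat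

open CategoryTheory Limits Abelian
open Groth.Agent.Lib.Helper23.ExtAdj

universe w w' v v' u u'

variable {C : Type u} [Category.{v} C] [Abelian C] {D : Type u'} [Category.{v'} D] [Abelian D]
  {L : C ⥤ D} {R : D ⥤ C} (adj : L ⊣ R) [L.Additive] [PreservesFiniteLimits L]
  [PreservesFiniteColimits L] [HasExt.{w} C] [HasExt.{w'} D] [R.Additive] [EnoughInjectives D]

attribute [local instance] Ext.subsingleton_of_injective in
theorem extAdj_bijective_of_class (P : D → Prop) (hinj : ∀ J : D, Injective J → P J)
    (hstep : ∀ S : ShortComplex D, S.ShortExact → P S.X₁ → Injective S.X₂ →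
      (S.map R).ShortExact ∧ P S.X₃) (A : C) (n : ℕ) :
    ∀ F : D, P F → Function.Bijective (extAdj adj A F n) := by
  induction n with
  | zero => exact fun F _ => extAdj_zero_bijective adj A F
  | succ n ih =>
    intro F hF
    let I : InjectivePresentation F := Classical.arbitrary _
    let S := ShortComplex.mk _ _ (cokernel.condition I.f)
    have hS : S.ShortExact := { exact := ShortComplex.exact_cokernel I.f }
    haveI : Injective S.X₂ := I.injective
    obtain ⟨hRS, hQ⟩ := hstep S hS hF I.injective
    haveI : Injective (S.map R).X₂ := adj.map_injective _ I.injective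
    exact AddMonoidHom.bijective_of_surjective_of_bijective_of_right_exact
      ((Ext.mk₀ (S.map R).g).postcomp A (add_zero n)) (hRS.extClass.postcomp A rfl)
      ((Ext.mk₀ S.g).postcomp (L.obj A) (add_zero n)) (hS.extClass.postcomp (L.obj A) rfl)
      (extAdj adj A S.X₂ n) (extAdj adj A S.X₃ n) (extAdj adj A S.X₁ (n + 1))
      (by
        ext e
        exact (extAdj_naturality adj A S.g n e).symm)
      (by
        ext x
        exact (extAdj_extClass adj A hS hRS n x).symm)
      ((ShortComplex.ab_exact_iff_function_exact _).mp
        (Ext.covariant_sequence_exact₃' A hRS n (n + 1) rfl))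
      ((ShortComplex.ab_exact_iff_function_exact _).mp
        (Ext.covariant_sequence_exact₃' (L.obj A) hS n (n + 1) rfl))
      (ih S.X₂ (hinj _ I.injective)).surjective (ih S.X₃ hQ)
      (fun x₁ ↦ Ext.covariant_sequence_exact₁ _ hRS x₁ (by subsingleton) rfl)
      (fun y₁ ↦ Ext.covariant_sequence_exact₁ _ hS y₁ (by subsingleton) rfl)

end Groth.Agent.Lib.Helper27.EtRat
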