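import Groth.Agent.Lib.Helper27.EtTrace9

/-!
# Points of étale schemes over a field, as objects of the small étale site

For `T` étale over `Spec K` and `t : T`, the residue field `κ(t)` is a finite separable extension
of `K` and `Spec κ(t) ⟶ T` is a monomorphism of the small étale site with image `{t}`.
-/

set_option autoImplicit false
set_option backward.isDefEq.respectTransparency false
universe u
open CategoryTheory Limits Opposite AlgebraicGeometry Abelian
open Groth.Agent.Lib.Helper18.GalFibre Groth.Agent.Lib.Helper23.EtGlue
  Groth.Agent.Lib.Helper27.GabberCrit Groth.Agent.Lib.Helper27.EtTrace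

namespace Groth.Agent.Lib.Helper27.EtRat

variable {K : Type u} [Field K] (T : (Spec (CommRingCat.of K)).Etale) (t : T.left)

/-- the structure map `K → κ(t)` -/
noncomputable def ptRingHom : CommRingCat.of K ⟶ T.left.residueField t :=
  Spec.preimage (T.left.fromSpecResidueField t ≫ T.hom)

theorem ptRingHom_map :
    Spec.map (ptRingHom T t) = T.left.fromSpecResidueField t ≫ T.hom :=
  Spec.map_preimage _

/-- `κ(t)` as a `K`-algebra -/
@[reducible] noncomputable def ptAlgebra : Algebra K (T.left.residueField t) :=
  (ptRingHom T t).hom.toAlgebra

attribute [local instance] ptAlgebra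

theorem ptFinite : FiniteDimensional K (T.left.residueField t) := by
  have hess : Algebra.EssFiniteType K (T.left.residueField t) := by
    rw [← RingHom.essFiniteType_algebraMap, RingHom.algebraMap_toAlgebra]
    exact essFiniteType_preimage T.hom t
  have hunr : Algebra.FormallyUnramified K (T.left.residueField t) := by
    rw [← RingHom.formallyUnramified_algebraMap, RingHom.algebraMap_toAlgebra]
    have h0 : FormallyUnramified (T.left.fromSpecResidueField t) := by
      have : Mono (T.left.fromSpecResidueField t) := inferInstance
      have : IsIso (pullback.diagonal (T.left.fromSpecResidueField t)) := inferInstance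
      infer_instance
    have h1 : FormallyUnramified (T.left.fromSpecResidueField t ≫ T.hom) :=
      MorphismProperty.comp_mem (W := @FormallyUnramified) _ _ h0 inferInstance
    rw [← ptRingHom_map] at h1
    exact (HasRingHomProperty.Spec_iff (P := @FormallyUnramified)).1 h1
  exact Algebra.FormallyUnramified.finite_of_free K _

theorem ptSeparable : Algebra.IsSeparable K (T.left.residueField t) := by
  have hess : Algebra.EssFiniteType K (T.left.residueField t) := by
    rw [← RingHom.essFiniteType_algebraMap, RingHom.algebraMap_toAlgebra]
    exact essFiniteType_preimage T.hom t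
  have hunr : Algebra.FormallyUnramified K (T.left.residueField t) := by
    rw [← RingHom.formallyUnramified_algebraMap, RingHom.algebraMap_toAlgebra]
    have h0 : FormallyUnramified (T.left.fromSpecResidueField t) := by
      have : Mono (T.left.fromSpecResidueField t) := inferInstance
      have : IsIso (pullback.diagonal (T.left.fromSpecResidueField t)) := inferInstance
      infer_instance
    have h1 : FormallyUnramified (T.left.fromSpecResidueField t ≫ T.hom) :=
      MorphismProperty.comp_mem (W := @FormallyUnramified) _ _ h0 inferInstance
    rw [← ptRingHom_map] at h1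
    exact (HasRingHomProperty.Spec_iff (P := @FormallyUnramified)).1 h1
  exact Algebra.FormallyUnramified.isSeparable K _

attribute [local instance] ptFinite ptSeparable

/-- `Spec κ(t)` as an object of the small étale site of `Spec K` -/
noncomputable def ptY : (Spec (CommRingCat.of K)).Etale := YM K (T.left.residueField t)

/-- the inclusion of the point `t` -/
noncomputable def ptι : ptY T t ⟶ T :=
  MorphismProperty.Over.homMk (T.left.fromSpecResidueField t)
    (by
      change _ = (YM K (T.left.residueField t)).hom
      rw [YM_hom]
      exact (ptRingHom_map T t).symm) trivial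

theorem ptι_left : (ptι T t).left = T.left.fromSpecResidueField t := rfl

instance : Mono (ptι T t).left := by
  rw [ptι_left]; infer_instance

theorem range_ptι : Set.range (ptι T t).left = {t} := by
  rw [ptι_left]
  exact Scheme.range_fromSpecResidueField t

theorem ptι_apply (y : (ptY T t).left) : (ptι T t).left y = t := by
  have h : (ptι T t).left y ∈ Set.range (ptι T t).left := ⟨y, rfl⟩
  rw [range_ptι] at h
  exact h

/-- gluing sections given on all points -/
theorem exists_glue_points (B : EtCoh.Ab (Spec (CommRingCat.of K)))
    (b : ∀ t : T.left, B.obj.obj (op (ptY T t))) :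
    ∃ s : B.obj.obj (op T), ∀ t, B.obj.map (ptι T t).op s = b t := by
  have hB : Presieve.IsSheaf (Spec (CommRingCat.of K)).smallEtaleTopology
      (B.obj ⋙ forget AddCommGrpCat.{u + 1}) :=
    (isSheaf_iff_isSheaf_of_type _ _).1
      ((Presheaf.isSheaf_iff_isSheaf_forget _ B.obj (forget AddCommGrpCat.{u + 1})).1 B.2)
  have hcov : Sieve.ofArrows (fun t => ptY T t) (fun t => ptι T t) ∈
      (Spec (CommRingCat.of K)).smallEtaleTopology T := by
    rw [Scheme.ofArrows_mem_smallEtaleTopology_iff]
    ext t
    simp only [Set.mem_iUnion, Set.mem_univ, iff_true]
    refine ⟨t, ?_⟩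
    rw [range_ptι]
    rfl
  have h1 : Presieve.IsSheafFor (B.obj ⋙ forget AddCommGrpCat.{u + 1})
      (Presieve.ofArrows (fun t => ptY T t) (fun t => ptι T t)) :=
    (Presieve.isSheafFor_iff_generate _).2 (hB _ hcov)
  have hcompat : Presieve.Arrows.Compatible (B.obj ⋙ forget AddCommGrpCat.{u + 1})
      (fun t => ptι T t) b := by
    intro i j Z gi gj hg
    have hl : gi.left ≫ (ptι T i).left = gj.left ≫ (ptι T j).left :=
      congrArg (fun φ : Z ⟶ T => φ.left) hg
    by_cases hij : i = j
    · subst hij
      have : gi = gj := by
        apply hom_ext_of_left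
        exact (cancel_mono (ptι T i).left).1 hl
      rw [this]
    · have : IsEmpty Z.left := ⟨fun z => by
        have h2 := congrArg (fun φ : Z.left ⟶ T.left => φ z) hl
        simp only [Scheme.Hom.comp_apply] at h2
        rw [ptι_apply, ptι_apply] at h2
        exact hij h2⟩
      have hsub : Subsingleton (B.obj.obj (op Z)) := by
        have hterm := Sheaf.isTerminalOfBotCover B Z (bot_mem_of_isEmpty Z)
        refine ⟨fun a c => ?_⟩
        have h0 : ∀ x : B.obj.obj (op Z), x = 0 := by
          intro x
          have := hterm.hom_ext (AddCommGrpCat.ofHom (AddMonoidHom.id _)) 0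
          have h := ConcreteCategory.congr_hom this x
          exact h
        rw [h0 a, h0 c]
      exact hsub.elim _ _
  obtain ⟨s, hs, -⟩ := (Presieve.isSheafFor_arrows_iff _ _).1 h1 b hcompat
  exact ⟨s, hs⟩

end Groth.Agent.Lib.Helper27.EtRat
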