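import Groth.Agent.Lib.Helper27.EtRat2

/-!
# Sheaves on `Spec K` acyclic at all points: sections of quotients lift
-/

set_option autoImplicit false
set_option backward.isDefEq.respectTransparency false
universe u
open CategoryTheory Limits Opposite AlgebraicGeometry Abelian
open Groth.Agent.Lib.Helper18.GalFibre Groth.Agent.Lib.Helper23.EtGlue
  Groth.Agent.Lib.Helper27.GabberCrit Groth.Agent.Lib.Helper27.EtTrace

namespace Groth.Agent.Lib.Helper27.EtRat

variable {K : Type u} [Field K]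

/-- sheaves on `Spec K` with vanishing higher cohomology over every finite separable extension -/
def PtAcyclic (G : EtCoh.Ab (Spec (CommRingCat.of K))) : Prop :=
  ∀ (L : Type u) [Field L] [Algebra K L] [FiniteDimensional K L] [Algebra.IsSeparable K L]
    (q : ℕ) (x : Ext (Zj (sK K L)) G (q + 1)), x = 0

theorem ptAcyclic_of_injective (J : EtCoh.Ab (Spec (CommRingCat.of K))) [Injective J] :
    PtAcyclic J := by
  intro L _ _ _ _ q x
  exact Ext.eq_zero_of_injective x

theorem exists_lift_YM {S : ShortComplex (EtCoh.Ab (Spec (CommRingCat.of K)))}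
    (hS : S.ShortExact) (L : Type u) [Field L] [Algebra K L] [FiniteDimensional K L]
    [Algebra.IsSeparable K L] (h1 : ∀ x : Ext (Zj (sK K L)) S.X₁ 1, x = 0)
    (c : S.X₃.obj.obj (op (YM K L))) :
    ∃ b : S.X₂.obj.obj (op (YM K L)), S.g.hom.app _ b = c := by
  obtain ⟨φ, hφ⟩ := (sMorE_bijective (sK K L) S.X₃).2 ((ev1 _).symm c)
  have h0 : (Ext.mk₀ φ).comp hS.extClass (zero_add 1) = 0 := h1 _
  obtain ⟨x₂, hx₂⟩ := Ext.covariant_sequence_exact₃ _ hS (Ext.mk₀ φ) (zero_add 1) h0
  obtain ⟨ψ, rfl⟩ := (Ext.mk₀_bijective _ _).2 x₂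
  rw [Ext.mk₀_comp_mk₀] at hx₂
  have hψ : ψ ≫ S.g = φ := (Ext.mk₀_bijective _ _).1 hx₂
  refine ⟨ev1 _ (sMorE (sK K L) S.X₂ ψ), ?_⟩
  rw [← ev1_comp, ← sMorE_naturality, hψ, hφ, AddEquiv.apply_symm_apply]

attribute [local instance] ptAlgebra ptFinite ptSeparable

theorem exists_lift_sections {S : ShortComplex (EtCoh.Ab (Spec (CommRingCat.of K)))}
    (hS : S.ShortExact) (hG : PtAcyclic S.X₁) (T : (Spec (CommRingCat.of K)).Etale)
    (c : S.X₃.obj.obj (op T)) : ∃ b : S.X₂.obj.obj (op T), S.g.hom.app _ b = c := by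
  have hpt : ∀ t : T.left, ∃ b : S.X₂.obj.obj (op (ptY T t)),
      S.g.hom.app _ b = S.X₃.obj.map (ptι T t).op c := by
    intro t
    exact exists_lift_YM hS (T.left.residueField t) (fun x => hG _ 0 x) _
  choose b hb using hpt
  obtain ⟨s, hs⟩ := exists_glue_points T S.X₂ b
  refine ⟨s, ?_⟩
  rw [← sub_eq_zero]
  apply Groth.Agent.Lib.Helper27.EtTransport.eq_zero_of_locally
  intro t
  refine ⟨ptY T t, ptι T t, ?_, ?_⟩
  · rw [range_ptι]; rfl
  · rw [map_sub, sub_eq_zero]
    have nat := ConcreteCategory.congr_hom (S.g.hom.naturality (ptι T t).op) s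
    simp only [ConcreteCategory.comp_apply] at nat
    rw [← nat, hs, hb]

end Groth.Agent.Lib.Helper27.EtRat
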