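import Groth.Agent.Lib.Helper27.EtTrace9

/-!
# Galois cohomology is torsion in positive degrees
-/

set_option autoImplicit false
set_option backward.isDefEq.respectTransparency false
universe u
open CategoryTheory Limits Opposite AlgebraicGeometry Abelian
open Groth.Agent.Lib.Helper18.GalFibre Groth.Agent.Lib.Helper23.EtGlue
  Groth.Agent.Lib.Helper27.GabberCrit

namespace Groth.Agent.Lib.Helper27.EtTrace

variable {K : Type u} [Field K]

/-- every class of positive degree on `Spec K` is killed by a positive integer -/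
theorem exists_pos_nsmul_eq_zero (F : EtCoh.Ab (Spec (CommRingCat.of K))) (n : ℕ)
    (ξ : EtCoh.H (Spec (CommRingCat.of K)) F (n + 1)) :
    ∃ d : ℕ, 0 < d ∧ d • ξ = 0 := by
  obtain ⟨L, iF, iA, iFD, iS, hL⟩ := exists_finite_separable_kill F n ξ
  obtain ⟨N, hN⟩ := exists_norm_finrank K L
  exact ⟨Module.finrank K L, Module.finrank_pos,
    nsmul_eq_zero_of_comp_eq_nsmul (εj (sK K L)) N _ hN _ ξ hL⟩

theorem isOfFinAddOrder_of_pos (F : EtCoh.Ab (Spec (CommRingCat.of K))) (i : ℕ) (hi : 0 < i)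
    (x : EtCoh.H (Spec (CommRingCat.of K)) F i) : IsOfFinAddOrder x := by
  obtain ⟨n, rfl⟩ : ∃ n, i = n + 1 := ⟨i - 1, by omega⟩
  obtain ⟨d, hd, hdx⟩ := exists_pos_nsmul_eq_zero F n x
  exact isOfFinAddOrder_iff_nsmul_eq_zero.2 ⟨d, hd, hdx⟩

theorem subsingleton_of_uniquely_divisible (F : EtCoh.Ab (Spec (CommRingCat.of K)))
    (hdiv : ∀ n : ℕ, 0 < n → IsIso (n • 𝟙 F))
    (i : ℕ) (hi : 0 < i) : Subsingleton (EtCoh.H (Spec (CommRingCat.of K)) F i) := by
  obtain ⟨n, rfl⟩ : ∃ n, i = n + 1 := ⟨i - 1, by omega⟩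
  have key : ∀ x : EtCoh.H (Spec (CommRingCat.of K)) F (n + 1), x = 0 := by
    intro x
    obtain ⟨d, hd, hdx⟩ := exists_pos_nsmul_eq_zero F n x
    have := hdiv d hd
    have h1 : x.comp (Ext.mk₀ (d • 𝟙 F)) (add_zero (n + 1)) = 0 := by
      rw [mk₀_nsmul, comp_nsmul, Ext.comp_mk₀_id, hdx]
    have h2 : (x.comp (Ext.mk₀ (d • 𝟙 F)) (add_zero (n + 1))).comp
        (Ext.mk₀ (inv (d • 𝟙 F))) (add_zero (n + 1)) = x := by
      rw [Ext.comp_assoc_of_third_deg_zero, Ext.mk₀_comp_mk₀, IsIso.hom_inv_id,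
        Ext.comp_mk₀_id]
    rw [← h2, h1, Ext.zero_comp]
  exact ⟨fun a b => (key a).trans (key b).symm⟩

end Groth.Agent.Lib.Helper27.EtTrace
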