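import Groth.Agent.Lib.Helper27.EtRat1
import Groth.Agent.Lib.Helper27.EtRat3
import Groth.Agent.Lib.Helper27.EtTrace10
import Groth.Agent.S0101

/-!
# Push-forward from the spectrum of a field: point-acyclic sheaves are push-forward acyclic
-/

set_option autoImplicit false
set_option backward.isDefEq.respectTransparency false
universe u
open CategoryTheory Limits Opposite AlgebraicGeometry Abelian
open Groth.Agent.Lib.Helper18.GalFibre Groth.Agent.Lib.Helper23.EtGlue
  Groth.Agent.Lib.Helper27.GabberCrit Groth.Agent.Lib.Helper27.EtTrace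
  Groth.Agent.Lib.Helper23.ExtAdj Groth.Agent.Lib.Helper23.ExtRestr

namespace Groth.Agent.Lib.Helper27.EtRat

variable {K : Type u} [Field K] {X : Scheme.{u}} (g : Spec (CommRingCat.of K) ⟶ X)

theorem shortExact_map_push {S : ShortComplex (EtCoh.Ab (Spec (CommRingCat.of K)))}
    (hS : S.ShortExact) (hG : PtAcyclic S.X₁) : (S.map (EtCoh.push g)).ShortExact := by
  haveI : PreservesFiniteLimits (EtCoh.push g) := by
    have := (EtCoh.pullPushAdj g).rightAdjoint_preservesLimits
    infer_instance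
  haveI := hS.mono_f
  exact
    { exact := hS.exact.map_of_mono_of_preservesKernel (EtCoh.push g) hS.mono_f inferInstance
      mono_f := inferInstanceAs (Mono ((EtCoh.push g).map S.f))
      epi_g := by
        change Epi ((EtCoh.push g).map S.g)
        have : Sheaf.IsLocallySurjective ((EtCoh.push g).map S.g) := by
          apply Presheaf.isLocallySurjective_of_surjective
          intro U c
          exact exists_lift_sections hS hG ((EtCoh.bc g).obj U.unop) c
        infer_instance }

theorem ptAcyclic_X₃ {S : ShortComplex (EtCoh.Ab (Spec (CommRingCat.of K)))}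
    (hS : S.ShortExact) (hG : PtAcyclic S.X₁) (hI : Injective S.X₂) : PtAcyclic S.X₃ := by
  intro L _ _ _ _ q x
  have h0 : x.comp hS.extClass rfl = 0 := hG L (q + 1) _
  obtain ⟨x₂, hx₂⟩ := Ext.covariant_sequence_exact₃ _ hS x rfl h0
  rw [← hx₂, Ext.eq_zero_of_injective x₂, Ext.zero_comp]

theorem extAdj_push_bijective (A : EtCoh.Ab X) (G : EtCoh.Ab (Spec (CommRingCat.of K)))
    (hG : PtAcyclic G) (n : ℕ) :
    haveI : PreservesFiniteLimits (EtCoh.pull g) := Groth.Agent.S0101.result g
    Function.Bijective (extAdj (EtCoh.pullPushAdj g) A G n) := by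
  haveI : PreservesFiniteLimits (EtCoh.pull g) := Groth.Agent.S0101.result g
  exact extAdj_bijective_of_class (EtCoh.pullPushAdj g) PtAcyclic
    (fun J hJ => ptAcyclic_of_injective J)
    (fun S hS h1 h2 => ⟨shortExact_map_push g hS h1, ptAcyclic_X₃ hS h1 h2⟩) A n G hG

theorem subsingleton_H_push (G : EtCoh.Ab (Spec (CommRingCat.of K))) (hG : PtAcyclic G) (n : ℕ)
    (hsub : Subsingleton (EtCoh.H (Spec (CommRingCat.of K)) G n)) :
    Subsingleton (EtCoh.H X ((EtCoh.push g).obj G) n) := by
  haveI : PreservesFiniteLimits (EtCoh.pull g) := Groth.Agent.S0101.result g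
  have hinj := (extAdj_push_bijective g (EtCoh.const X ℤ) G hG n).1
  refine ⟨fun a b => hinj ?_⟩
  have key : ∀ y : Ext ((EtCoh.pull g).obj (EtCoh.const X ℤ)) G n, y = 0 := by
    intro y
    have h1 : (Ext.mk₀ (EtCore.pullConst g ℤ).hom).comp
        ((Ext.mk₀ (EtCore.pullConst g ℤ).inv).comp y (zero_add n)) (zero_add n) = y := by
      rw [← Ext.comp_assoc_of_second_deg_zero, Ext.mk₀_comp_mk₀, Iso.hom_inv_id, Ext.mk₀_id_comp]
    rw [← h1, hsub.elim ((Ext.mk₀ (EtCore.pullConst g ℤ).inv).comp y (zero_add n)) 0,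
      Ext.comp_zero]
  rw [key (extAdj (EtCoh.pullPushAdj g) (EtCoh.const X ℤ) G n a),
    key (extAdj (EtCoh.pullPushAdj g) (EtCoh.const X ℤ) G n b)]

theorem ptAcyclic_of_uniquely_divisible (G : EtCoh.Ab (Spec (CommRingCat.of K)))
    (hdiv : ∀ n : ℕ, 0 < n → IsIso (n • 𝟙 G)) : PtAcyclic G := by
  intro L _ _ _ _ q x
  have hdiv' : ∀ n : ℕ, 0 < n → IsIso (n • 𝟙 ((EtCoh.pull (sK K L)).obj G)) := by
    intro n hn
    haveI := hdiv n hn
    have h : (EtCoh.pull (sK K L)).map (n • 𝟙 G) = n • 𝟙 _ := by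
      rw [Functor.map_nsmul, CategoryTheory.Functor.map_id]
    rw [← h]
    infer_instance
  have hsub := subsingleton_of_uniquely_divisible ((EtCoh.pull (sK K L)).obj G) hdiv' (q + 1)
    (by omega)
  obtain ⟨y, rfl⟩ := (extAdj_bijective_of_exact (adjE (sK K L))
    (EtCoh.const (Spec (CommRingCat.of L)) ℤ) G (q + 1)).2 x
  rw [hsub.elim y 0, map_zero]

theorem subsingleton_H_push_of_uniquely_divisible (G : EtCoh.Ab (Spec (CommRingCat.of K)))
    (hdiv : ∀ n : ℕ, 0 < n → IsIso (n • 𝟙 G)) (i : ℕ) (hi : 0 < i) :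
    Subsingleton (EtCoh.H X ((EtCoh.push g).obj G) i) :=
  subsingleton_H_push g G (ptAcyclic_of_uniquely_divisible G hdiv) i
    (subsingleton_of_uniquely_divisible G hdiv i hi)

end Groth.Agent.Lib.Helper27.EtRat
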