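import Groth.Agent.Lib.Helper27.GabberCrit8
import Groth.Agent.Lib.helper19.HensFinPart2
import Groth.Agent.Lib.Helper12.HenselUnique

/-!
# Gabber's criterion: translation to the cohomological statement
-/

set_option autoImplicit false
set_option backward.isDefEq.respectTransparency false

universe u

namespace Groth.Agent.Lib.Helper27.GabberCrit

open CategoryTheory Limits Opposite AlgebraicGeometry Abelian TopologicalSpace
open Groth.Agent.Lib.Helper23.EtRestr Groth.Agent.Lib.Helper23.ExtRestr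
  Groth.Agent.Lib.Helper23.ExtAdj Groth.Agent.Lib.Helper23.MVOpen
  Groth.Agent.Lib.Helper23.MVAbstract

/-- the local rings of `Spec R` are strictly henselian if the localizations of `R` are -/
theorem stalk_strictlyHenselian (R : Type u) [CommRing R]
    (hR : ∀ p : PrimeSpectrum R,
      EtCoh.IsStrictlyHenselianLocalRing (Localization.AtPrime p.asIdeal))
    (s : Spec (CommRingCat.of R)) :
    EtCoh.IsStrictlyHenselianLocalRing ((Spec (CommRingCat.of R)).presheaf.stalk s) := by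
  obtain ⟨h1, h2⟩ := hR s
  let e : Localization.AtPrime (PrimeSpectrum.asIdeal s) ≃+*
      ((Spec (CommRingCat.of R)).presheaf.stalk s) :=
    (StructureSheaf.stalkIso R s).toRingEquiv
  have h1' : HenselianLocalRing ((Spec (CommRingCat.of R)).presheaf.stalk s) :=
    Groth.Agent.Lib.Helper19.HensFinPart2.henselianLocalRing_of_ringEquiv e
  refine ⟨h1', ?_⟩
  exact Groth.Agent.Lib.Helper12.isSepClosed_of_ringEquiv (IsLocalRing.ResidueField.mapEquiv e)

variable {X : Scheme.{u}}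

/-- `H^n(U, F|_U) ≃ Ext^n(j_! ℤ_U, F)` -/
noncomputable abbrev Θ (U : X.Opens) (F : EtCoh.Ab X) (n : ℕ) :
    EtCoh.H ↑U ((EtCoh.pull U.ι).obj F) n ≃+ Ext (ZU U) F n :=
  AddEquiv.ofBijective
    (extAdj (adjP (Scheme.Opens.ι U)) (EtCoh.const (Scheme.Opens.toScheme U) ℤ) F n)
    (extAdj_bijective_of_exact (adjP (Scheme.Opens.ι U)) _ F n)

theorem Θ_HpullVia {U V : X.Opens} (h : V ≤ U) (F : EtCoh.Ab X) (n : ℕ)
    (y : EtCoh.H ↑U ((EtCoh.pull U.ι).obj F) n) :
    Θ V F n (EtCore.HpullVia (X.homOfLE h) U.ι V.ι (X.homOfLE_ι h) F n y) =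
      (Ext.mk₀ (ρm h)).comp (Θ U F n y) (zero_add n) :=
  theta_HpullVia h F n y

instance isIso_εm_top : IsIso (εm (⊤ : X.Opens)) := by
  have hS := ses (⊤ : X.Opens) ⊤ (sup_idem _)
  have hepi := hS.epi_g
  have : Epi (εm (⊤ : X.Opens)) := by
    have e : biprod.desc (εm (⊤ : X.Opens)) (εm (⊤ : X.Opens)) =
        biprod.desc (𝟙 _) (𝟙 _) ≫ εm (⊤ : X.Opens) := by
      apply biprod.hom_ext'
      · rw [biprod.inl_desc, biprod.inl_desc_assoc, Category.id_comp]
      · rw [biprod.inr_desc, biprod.inr_desc_assoc, Category.id_comp]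
    have : Epi (biprod.desc (𝟙 _) (𝟙 _) ≫ εm (⊤ : X.Opens)) := by
      rw [← e]; exact hepi
    exact epi_of_epi (biprod.desc (𝟙 _) (𝟙 _)) _
  exact isIso_of_mono_of_epi _

/-- vanishing of `Ext^q(j_! ℤ_⊤, F)` implies vanishing of `H^q(X, F)` -/
theorem subsingleton_H_of_top (F : EtCoh.Ab X) (q : ℕ)
    (h : ∀ ξ : Ext (ZU (⊤ : X.Opens)) F q, ξ = 0) : Subsingleton (EtCoh.H X F q) := by
  refine subsingleton_of_forall_eq 0 fun x => ?_
  have h0 := h ((Ext.mk₀ (εm (⊤ : X.Opens))).comp x (zero_add q))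
  have := congrArg (fun y => (Ext.mk₀ (inv (εm (⊤ : X.Opens)))).comp y (zero_add q)) h0
  simp only [Ext.comp_zero] at this
  rw [← Ext.comp_assoc_of_second_deg_zero, Ext.mk₀_comp_mk₀, IsIso.inv_hom_id,
    Ext.mk₀_id_comp] at this
  exact this

end Groth.Agent.Lib.Helper27.GabberCrit
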