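import Groth.Agent.Lib.Helper27.EtRat5
import Groth.Agent.Lib.Helper27.GabberCrit9
import Groth.Agent.Lib.Helper24.Cat.NormalComponents

/-!
# `H^i(X_et, ℚ) = 0` for `i > 0` on a Noetherian normal scheme
-/

set_option autoImplicit false
set_option backward.isDefEq.respectTransparency false
universe u
open CategoryTheory Limits Opposite AlgebraicGeometry Abelian TopologicalSpace
open Groth.Agent.Lib.Helper27.EtTrace Groth.Agent.Lib.Helper27.GabberCrit

namespace Groth.Agent.Lib.Helper27.EtRat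

variable {X : Scheme.{u}}

/-- all higher `Ext` groups out of `ℤ_V` into `F` vanish -/
def Acyc (F : EtCoh.Ab X) (V : X.Opens) : Prop :=
  ∀ (q : ℕ) (ξ : Ext (ZU V) F (q + 1)), ξ = 0

theorem ext_eq_zero_of_isZero {A F : EtCoh.Ab X} (hA : IsZero A) {n : ℕ} (y : Ext A F n) :
    y = 0 := by
  rw [← Ext.mk₀_id_comp y, hA.eq_of_src (𝟙 A) 0, Ext.mk₀_zero, Ext.zero_comp]

theorem acyc_bot (F : EtCoh.Ab X) : Acyc F ⊥ :=
  fun _ ξ => ext_eq_zero_of_isZero isZero_ZU_bot ξ

theorem Acyc.sup {F : EtCoh.Ab X} {U V : X.Opens} (hU : Acyc F U) (hV : Acyc F V)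
    (hUV : U ⊓ V = ⊥) : Acyc F (U ⊔ V) := by
  intro q ξ
  have hz : IsZero (ZU (U ⊓ V)) := by rw [hUV]; exact isZero_ZU_bot
  exact mv_vanishing U V (U ⊔ V) rfl le_sup_left le_sup_right F q
    (fun y => ext_eq_zero_of_isZero hz y) ξ (hU q _) (hV q _)

theorem acyc_finset_sup (F : EtCoh.Ab X) {ι : Type*} [DecidableEq ι] (s : Finset ι)
    (V : ι → X.Opens) (hdisj : ∀ a ∈ s, ∀ b ∈ s, a ≠ b → V a ⊓ V b = ⊥)
    (hP : ∀ a ∈ s, Acyc F (V a)) : Acyc F (s.sup V) := by
  induction s using Finset.induction_on with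
  | empty => rw [Finset.sup_empty]; exact acyc_bot F
  | insert a s ha ih =>
    rw [Finset.sup_insert]
    refine Acyc.sup (hP a (Finset.mem_insert_self a s))
      (ih (fun b hb c hc hbc => hdisj b (Finset.mem_insert_of_mem hb) c
        (Finset.mem_insert_of_mem hc) hbc) (fun b hb => hP b (Finset.mem_insert_of_mem hb))) ?_
    rw [Finset.sup_inf_distrib_left, Finset.sup_eq_bot_iff]
    intro b hb
    exact hdisj a (Finset.mem_insert_self a s) b (Finset.mem_insert_of_mem hb)
      (fun h => ha (h ▸ hb))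

theorem acyc_constQ_of_integral_normal (V : X.Opens) [IsIntegral ↑V]
    (hN : ∀ x : ↑V, IsIntegrallyClosed ((↑V : Scheme.{u}).presheaf.stalk x)) :
    Acyc (EtCoh.const X ℚ) V := by
  intro q ξ
  have h1 : Subsingleton (EtCoh.H ↑V (EtCoh.const ↑V ℚ) (q + 1)) :=
    subsingleton_H_constQ_of_integral_normal ↑V hN (q + 1) (by omega)
  have h2 : Subsingleton (EtCoh.H ↑V ((EtCoh.pull V.ι).obj (EtCoh.const X ℚ)) (q + 1)) :=
    subsingleton_H_of_iso (EtCore.pullConst V.ι ℚ) (q + 1) h1
  obtain ⟨y, rfl⟩ := (Θ V (EtCoh.const X ℚ) (q + 1)).surjective ξ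
  rw [h2.elim y 0, map_zero]

theorem subsingleton_H_constQ_of_normal (X : Scheme.{u}) [IsLocallyNoetherian X] [CompactSpace X]
    (hN : ∀ x : X, IsDomain (X.presheaf.stalk x) ∧ IsIntegrallyClosed (X.presheaf.stalk x))
    (i : ℕ) (hi : 0 < i) : Subsingleton (EtCoh.H X (EtCoh.const X ℚ) i) := by
  classical
  obtain ⟨q, rfl⟩ : ∃ q, i = q + 1 := ⟨i - 1, by omega⟩
  haveI : IsNoetherian X := {}
  haveI : NoetherianSpace X := inferInstance
  have hfin : (irreducibleComponents X).Finite := NoetherianSpace.finite_irreducibleComponents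
  obtain ⟨hopen, hdisj⟩ := Groth.Agent.Lib.Helper24.NormalComponents.main X
    (fun U _ => by
      haveI : NoetherianSpace ↥U := NoetherianSpace.set (U : Set X)
      exact NoetherianSpace.finite_irreducibleComponents) (fun x => (hN x).1)
  haveI : Fintype ↥(irreducibleComponents X) := hfin.fintype
  let V : ↥(irreducibleComponents X) → X.Opens := fun Z => ⟨Z.1, hopen Z.1 Z.2⟩
  haveI : ∀ x : X, _root_.IsReduced (X.presheaf.stalk x) := fun x => by
    haveI := (hN x).1
    infer_instance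
  haveI : IsReduced X := isReduced_of_isReduced_stalk X
  have hV : ∀ Z, Acyc (EtCoh.const X ℚ) (V Z) := by
    intro Z
    haveI : IrreducibleSpace (↑(V Z) : Scheme.{u}) := by
      have h := Subtype.irreducibleSpace Z.2.1
      exact h
    haveI : IsReduced ↑(V Z) := isReduced_of_isOpenImmersion (V Z).ι
    haveI : IsIntegral ↑(V Z) := isIntegral_of_irreducibleSpace_of_isReduced _
    apply acyc_constQ_of_integral_normal
    intro x
    haveI := (hN x.1).2
    exact IsIntegrallyClosed.of_equiv ((V Z).stalkIso x).symm.commRingCatIsoToRingEquiv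
  have htop : (Finset.univ.sup V) = ⊤ := by
    rw [eq_top_iff]
    intro x _
    have hx : x ∈ ⋃₀ irreducibleComponents X := by
      rw [sUnion_irreducibleComponents]; trivial
    obtain ⟨Z, hZ, hxZ⟩ := hx
    have hle : V ⟨Z, hZ⟩ ≤ Finset.univ.sup V := Finset.le_sup (Finset.mem_univ _)
    exact hle hxZ
  have hacyc : Acyc (EtCoh.const X ℚ) (Finset.univ.sup V) := by
    apply acyc_finset_sup
    · intro a _ b _ hab
      have hne : a.1 ≠ b.1 := fun h => hab (Subtype.ext h)
      have := hdisj a.1 a.2 b.1 b.2 hne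
      ext x
      simp only [Opens.coe_inf, Opens.coe_bot, Set.mem_empty_iff_false, iff_false]
      exact fun hx => Set.disjoint_left.1 this hx.1 hx.2
    · intro a _
      exact hV a
  rw [htop] at hacyc
  exact subsingleton_H_of_top _ (q + 1) (hacyc q)

end Groth.Agent.Lib.Helper27.EtRat
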