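import Groth.Agent.Lib.Helper27.EtTorsion1

/-!
# Étale cohomology of a torsion sheaf on a qcqs scheme is torsion, part 2 (helper27)
-/

set_option autoImplicit false

universe u

open CategoryTheory CategoryTheory.Limits Opposite AlgebraicGeometry Abelian

namespace Groth.Agent.Lib.Helper27.EtTransport

variable {X : Scheme.{u}} (F : EtCoh.Ab X)

lemma nsmul_id_app (c : ℕ) (V : X.Etale) (s : F.obj.obj (op V)) :
    ((c • 𝟙 F : F ⟶ F).hom.app (op V)) s = c • s := by
  induction c with
  | zero => simp
  | succ c ih =>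
    rw [succ_nsmul, succ_nsmul]
    simp [ih]

/-- multiplication by `(m + 1)!` -/
noncomputable def mulFact (m : ℕ) : F ⟶ F := ((m + 1).factorial : ℕ) • 𝟙 F

/-- the diagram `F ⟶ F ⟶ F ⟶ ...` with transition maps multiplication by `(m + 1)!` -/
noncomputable def torDiag : ℕ ⥤ EtCoh.Ab X :=
  Functor.ofSequence (X := fun _ => F) (fun m => mulFact F m)

lemma torDiag_map_succ (m : ℕ) :
    (torDiag F).map (homOfLE (Nat.le_add_right m 1)) = mulFact F m :=
  Functor.ofSequence_map_homOfLE_succ _ m

/-- the legs of the colimit cocone, with source retyped as `F` -/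
noncomputable def leg (m : ℕ) : F ⟶ colimit (torDiag F) := colimit.ι (torDiag F) m

lemma leg_succ (m : ℕ) : leg F m = mulFact F m ≫ leg F (m + 1) := by
  have := colimit.w (torDiag F) (homOfLE (Nat.le_add_right m 1))
  rw [torDiag_map_succ] at this
  exact this.symm

lemma leg_app_succ (m : ℕ) (V : X.Etale) (s : F.obj.obj (op V)) :
    (leg F m).hom.app (op V) s = (leg F (m + 1)).hom.app (op V) ((m + 1).factorial • s) := by
  rw [leg_succ]
  change (leg F (m + 1)).hom.app (op V) ((mulFact F m).hom.app (op V) s) = _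
  rw [mulFact, nsmul_id_app]

/-- sections of finite order die in the colimit -/
lemma leg_app_eq_zero (V : X.Etale) (s : F.obj.obj (op V)) (hs : IsOfFinAddOrder s) :
    ∀ (d m : ℕ), addOrderOf s ≤ m + d + 1 → (leg F m).hom.app (op V) s = 0 := by
  intro d
  induction d with
  | zero =>
    intro m hm
    rw [leg_app_succ]
    have hdvd : addOrderOf s ∣ (m + 1).factorial :=
      Nat.dvd_factorial hs.addOrderOf_pos (by omega)
    rw [addOrderOf_dvd_iff_nsmul_eq_zero.1 hdvd, map_zero]
  | succ d ih =>
    intro m hm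
    rw [leg_app_succ, map_nsmul, ih (m + 1) (by omega), smul_zero]

/-- for a torsion sheaf all legs vanish -/
lemma leg_eq_zero (hF : EtCoh.IsTorsion F) (m : ℕ) : leg F m = 0 := by
  ext U s
  induction U with
  | op U =>
  change (leg F m).hom.app (op U) s = 0
  apply eq_zero_of_locally
  intro x
  obtain ⟨V, g, ⟨v, hv⟩, hfin⟩ := hF U s x
  refine ⟨V, g, ⟨v, hv⟩, ?_⟩
  have hnat := congrArg (fun φ => φ.hom s) ((leg F m).hom.naturality g.op).symm
  change (colimit (torDiag F)).obj.map g.op ((leg F m).hom.app (op U) s) =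
    (leg F m).hom.app (op V) (F.obj.map g.op s) at hnat
  rw [hnat]
  exact leg_app_eq_zero F V _ hfin (addOrderOf (F.obj.map g.op s)) m (by omega)

/-- the colimit of the diagram is zero for a torsion sheaf -/
lemma isZero_colimit_torDiag (hF : EtCoh.IsTorsion F) : IsZero (colimit (torDiag F)) := by
  rw [IsZero.iff_id_eq_zero]
  apply colimit.hom_ext
  intro m
  rw [Category.comp_id, comp_zero]
  exact leg_eq_zero F hF m

end Groth.Agent.Lib.Helper27.EtTransport
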