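import Groth.Agent.Lib.Helper27.EtRat3
import Groth.Agent.Lib.Helper27.EtTrace10
import Groth.Agent.Lib.Helper27.EtTorsion2
import Groth.Agent.Lib.Helper3.FinFib

/-!
# Sections of a quotient sheaf on a finite étale `K`-scheme lift after multiplication by an integer
-/

set_option autoImplicit false
set_option backward.isDefEq.respectTransparency false
universe u
open CategoryTheory Limits Opposite AlgebraicGeometry Abelian
open Groth.Agent.Lib.Helper18.GalFibre Groth.Agent.Lib.Helper23.EtGlue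
  Groth.Agent.Lib.Helper27.GabberCrit Groth.Agent.Lib.Helper27.EtTrace
  Groth.Agent.Lib.Helper23.ExtAdj Groth.Agent.Lib.Helper23.ExtRestr
  Groth.Agent.Lib.Helper27.EtTransport

namespace Groth.Agent.Lib.Helper27.EtRat

variable {K : Type u} [Field K]

theorem exists_nsmul_lift_YM {S : ShortComplex (EtCoh.Ab (Spec (CommRingCat.of K)))}
    (hS : S.ShortExact) (L : Type u) [Field L] [Algebra K L] [FiniteDimensional K L]
    [Algebra.IsSeparable K L] (c : S.X₃.obj.obj (op (YM K L))) :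
    ∃ d : ℕ, 0 < d ∧ ∃ b : S.X₂.obj.obj (op (YM K L)), S.g.hom.app _ b = d • c := by
  obtain ⟨φ, hφ⟩ := (sMorE_bijective (sK K L) S.X₃).2 ((ev1 _).symm c)
  obtain ⟨y, hy⟩ := (extAdj_bijective_of_exact (adjE (sK K L))
    (EtCoh.const (Spec (CommRingCat.of L)) ℤ) S.X₁ 1).2
      ((Ext.mk₀ φ).comp hS.extClass (zero_add 1))
  obtain ⟨d, hd, hdy⟩ := exists_pos_nsmul_eq_zero ((EtCoh.pull (sK K L)).obj S.X₁) 0 y
  have hdξ : d • (Ext.mk₀ φ).comp hS.extClass (zero_add 1) = 0 := by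
    rw [← hy, ← map_nsmul, hdy, map_zero]
  have h0 : (Ext.mk₀ (φ ≫ (d • 𝟙 S.X₃))).comp hS.extClass (zero_add 1) = 0 := by
    rw [Preadditive.comp_nsmul, Category.comp_id, mk₀_nsmul, nsmul_comp]
    exact hdξ
  obtain ⟨x₂, hx₂⟩ := Ext.covariant_sequence_exact₃ _ hS _ (zero_add 1) h0
  obtain ⟨ψ, rfl⟩ := (Ext.mk₀_bijective _ _).2 x₂
  rw [Ext.mk₀_comp_mk₀] at hx₂
  have hψ : ψ ≫ S.g = φ ≫ (d • 𝟙 S.X₃) := (Ext.mk₀_bijective _ _).1 hx₂
  refine ⟨d, hd, ev1 _ (sMorE (sK K L) S.X₂ ψ), ?_⟩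
  rw [← ev1_comp, ← sMorE_naturality, hψ, sMorE_naturality, ev1_comp, hφ,
    AddEquiv.apply_symm_apply, nsmul_id_app]

attribute [local instance] ptAlgebra ptFinite ptSeparable

theorem exists_nsmul_lift_sections {S : ShortComplex (EtCoh.Ab (Spec (CommRingCat.of K)))}
    (hS : S.ShortExact) (T : (Spec (CommRingCat.of K)).Etale) [Finite T.left]
    (c : S.X₃.obj.obj (op T)) :
    ∃ d : ℕ, 0 < d ∧ ∃ b : S.X₂.obj.obj (op T), S.g.hom.app _ b = d • c := by
  have hpt : ∀ t : T.left, ∃ d : ℕ, 0 < d ∧ ∃ b : S.X₂.obj.obj (op (ptY T t)),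
      S.g.hom.app _ b = d • S.X₃.obj.map (ptι T t).op c :=
    fun t => exists_nsmul_lift_YM hS (T.left.residueField t) _
  choose d hd b hb using hpt
  haveI := Fintype.ofFinite T.left
  have hD : 0 < ∏ t, d t := Finset.prod_pos (fun t _ => hd t)
  have hdvd : ∀ t, d t ∣ ∏ t, d t := fun t => Finset.dvd_prod_of_mem d (Finset.mem_univ t)
  obtain ⟨s, hs⟩ := exists_glue_points T S.X₂ (fun t => ((∏ t, d t) / d t) • b t)
  refine ⟨∏ t, d t, hD, s, ?_⟩
  rw [← sub_eq_zero]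
  apply eq_zero_of_locally
  intro t
  refine ⟨ptY T t, ptι T t, by rw [range_ptι]; rfl, ?_⟩
  rw [map_sub, sub_eq_zero, map_nsmul]
  have nat := ConcreteCategory.congr_hom (S.g.hom.naturality (ptι T t).op) s
  simp only [ConcreteCategory.comp_apply] at nat
  rw [← nat, hs, map_nsmul, hb, ← mul_nsmul, Nat.mul_div_cancel' (hdvd t)]

end Groth.Agent.Lib.Helper27.EtRat
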