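import Groth.Agent.Lib.Helper27.EtRat7

/-!
# The cokernel of the push-forward of an epimorphism from a point is a torsion sheaf
-/

set_option autoImplicit false
set_option backward.isDefEq.respectTransparency false
universe u
open CategoryTheory Limits Opposite AlgebraicGeometry Abelian
open Groth.Agent.Lib.Helper18.GalFibre Groth.Agent.Lib.Helper23.EtGlue
  Groth.Agent.Lib.Helper27.GabberCrit Groth.Agent.Lib.Helper27.EtTrace
  Groth.Agent.Lib.Helper27.EtTransport

namespace Groth.Agent.Lib.Helper27.EtRat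

variable {K : Type u} [Field K]

theorem finite_bc_left {X : Scheme.{u}} [QuasiSeparatedSpace X]
    (i : Spec (CommRingCat.of K) ⟶ X) (V : X.Etale) [CompactSpace V.left] :
    Finite ((EtCoh.bc i).obj V).left := by
  haveI : QuasiCompact V.hom := quasiCompact_of_compactSpace (X := V.left) (Y := X) V.hom
  haveI : QuasiCompact (pullback.snd V.hom i) := inferInstance
  haveI : CompactSpace ↥(pullback V.hom i) :=
    QuasiCompact.compactSpace_of_compactSpace (pullback.snd V.hom i)
  haveI : Etale (pullback.snd V.hom i) := by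
    haveI : Etale V.hom := V.prop
    infer_instance
  have h := Groth.Agent.Lib.Helper3.finite_of_etale_of_compactSpace (pullback.snd V.hom i)
  exact h

theorem isTorsion_of_epi_from_push {X : Scheme.{u}} [QuasiSeparatedSpace X]
    (i : Spec (CommRingCat.of K) ⟶ X) {S : ShortComplex (EtCoh.Ab (Spec (CommRingCat.of K)))}
    (hS : S.ShortExact) {𝒦 : EtCoh.Ab X} (π : (EtCoh.push i).obj S.X₃ ⟶ 𝒦) [Epi π]
    (hπ : (EtCoh.push i).map S.g ≫ π = 0) : EtCoh.IsTorsion 𝒦 := by
  intro U s x
  have hls : Sheaf.IsLocallySurjective π :=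
    (Sheaf.isLocallySurjective_iff_epi' AddCommGrpCat.{u + 1} π).2 inferInstance
  have hcov := hls.imageSieve_mem (U := U) s
  obtain ⟨V, g, ⟨c, hc⟩, v, hv⟩ := exists_arrow_of_mem _ hcov x
  obtain ⟨W, hW, hvW, -⟩ := exists_isAffineOpen_mem_and_subset (x := v) (U := ⊤) trivial
  refine ⟨opn V W, opnι V W ≫ g, ⟨⟨v, hvW⟩, ?_⟩, ?_⟩
  · rw [← hv]
    rfl
  · haveI : CompactSpace (opn V W).left := isCompact_iff_compactSpace.1 hW.isCompact
    haveI : Finite ((EtCoh.bc i).obj (opn V W)).left := finite_bc_left i (opn V W)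
    obtain ⟨d, hd, b, hb⟩ := exists_nsmul_lift_sections hS ((EtCoh.bc i).obj (opn V W))
      (((EtCoh.push i).obj S.X₃).obj.map (opnι V W).op c)
    apply isOfFinAddOrder_iff_nsmul_eq_zero.2 ⟨d, hd, ?_⟩
    have h1 : 𝒦.obj.map (opnι V W ≫ g).op s =
        π.hom.app _ (((EtCoh.push i).obj S.X₃).obj.map (opnι V W).op c) := by
      have nat := ConcreteCategory.congr_hom (π.hom.naturality (opnι V W).op) c
      simp only [ConcreteCategory.comp_apply] at nat
      rw [nat, hc, op_comp, Functor.map_comp]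
      rfl
    rw [h1, ← map_nsmul, ← hb]
    have h2 := congrArg (fun φ => φ.hom.app (op (opn V W))) hπ
    exact ConcreteCategory.congr_hom h2 b

end Groth.Agent.Lib.Helper27.EtRat
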