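import Groth.Agent.Lib.Helper23.EtGlue2
import Mathlib.AlgebraicGeometry.Sites.Small
import Mathlib.CategoryTheory.Sites.Hypercover.SheafOfTypes

/-!
# Sheaf criterion on the small étale site: basic objects and maps
-/

set_option autoImplicit false

universe w u

namespace Groth.Agent.Lib.Helper27.EtSheafCrit

open CategoryTheory Limits Opposite AlgebraicGeometry
open Groth.Agent.Lib.Helper23.EtGlue

variable {X : Scheme.{u}}

/-- the Zariski topology on the small étale site -/
abbrev Jz (X : Scheme.{u}) : GrothendieckTopology X.Etale :=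
  X.smallGrothendieckTopology (P := @IsOpenImmersion)

theorem le_etale : (@IsOpenImmersion : MorphismProperty Scheme.{u}) ≤ @Etale :=
  fun _ _ _ hf => by haveI := hf; infer_instance

theorem mem_Jz_iff (U : X.Etale) (R : Sieve U) :
    R ∈ Jz X U ↔ ∀ x : U.left, ∃ (Y : X.Etale) (f : Y ⟶ U) (y : Y.left),
      R f ∧ IsOpenImmersion f.left ∧ f.left y = x := by
  rw [Jz, Scheme.smallGrothendieckTopology_eq_toGrothendieck_smallPretopology X le_etale]
  exact Scheme.mem_toGrothendieck_smallPretopology U R

theorem Jz_le : Jz X ≤ X.smallEtaleTopology := by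
  intro U R hR
  rw [mem_Jz_iff] at hR
  refine sieve_mem_of_forall_point R (fun u => ?_)
  obtain ⟨Y, f, y, hf, -, hy⟩ := hR u
  exact ⟨Y, f, hf, y, hy⟩

/-- a morphism landing in an open subscheme lifts to it -/
noncomputable def liftOpn {Z U : X.Etale} (a : Z ⟶ U) (W : U.left.Opens)
    (h : Set.range a.left ⊆ (W : Set U.left)) : Z ⟶ opn U W :=
  MorphismProperty.Over.homMk
    (show Z.left ⟶ W.toScheme from IsOpenImmersion.lift W.ι a.left
      (by rw [Scheme.Opens.range_ι]; exact h))
    (by
      change IsOpenImmersion.lift W.ι a.left _ ≫ W.ι ≫ U.hom = Z.hom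
      rw [← Category.assoc, IsOpenImmersion.lift_fac]
      exact MorphismProperty.Over.w a) trivial

theorem liftOpn_comp {Z U : X.Etale} (a : Z ⟶ U) (W : U.left.Opens)
    (h : Set.range a.left ⊆ (W : Set U.left)) : liftOpn a W h ≫ opnι U W = a := by
  apply hom_ext_of_left
  change IsOpenImmersion.lift W.ι a.left _ ≫ W.ι = a.left
  exact IsOpenImmersion.lift_fac _ _ _

instance mono_opnι (U : X.Etale) (W : U.left.Opens) : Mono (opnι U W) where
  right_cancellation {Z} a b h := by
    apply hom_ext_of_left
    have h' : a.left ≫ W.ι = b.left ≫ W.ι := congrArg (fun φ : Z ⟶ U => φ.left) h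
    exact (cancel_mono W.ι).1 h'

theorem range_opnι (U : X.Etale) (W : U.left.Opens) :
    Set.range (opnι U W).left = (W : Set U.left) :=
  Scheme.Opens.range_ι W

end Groth.Agent.Lib.Helper27.EtSheafCrit
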