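import Groth.Agent.Lib.Helper27.EtSheafCrit1
import Mathlib.AlgebraicGeometry.Limits
import Mathlib.AlgebraicGeometry.Morphisms.Etale

/-!
# Sheaf criterion on the small étale site: coproducts of objects
-/

set_option autoImplicit false

universe w u

namespace Groth.Agent.Lib.Helper27.EtSheafCrit

open CategoryTheory Limits Opposite AlgebraicGeometry
open Groth.Agent.Lib.Helper23.EtGlue

variable {X : Scheme.{u}} {ι : Type u} (W : ι → X.Etale)

instance etale_sigmaDesc : Etale (Sigma.desc (fun k => (W k).hom)) :=
  IsZariskiLocalAtSource.sigmaDesc (P := @Etale) (fun k => (W k).prop)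

/-- the coproduct of a family of objects of the small étale site -/
noncomputable def sig : X.Etale := Scheme.Etale.mk (Sigma.desc (fun k => (W k).hom))

/-- the coprojections -/
noncomputable def sigι (k : ι) : W k ⟶ sig W :=
  MorphismProperty.Over.homMk (Sigma.ι (fun k => (W k).left) k)
    (by
      change Sigma.ι (fun k => (W k).left) k ≫ Sigma.desc (fun k => (W k).hom) = (W k).hom
      exact Sigma.ι_desc _ _) trivial

instance (k : ι) : IsOpenImmersion (sigι W k).left :=
  inferInstanceAs (IsOpenImmersion (Sigma.ι (fun k => (W k).left) k))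

theorem exists_sigι_eq (x : (sig W).left) : ∃ (k : ι) (y : (W k).left), (sigι W k).left y = x := by
  obtain ⟨y, hy⟩ := (sigmaOpenCover (fun k => (W k).left)).covers x
  exact ⟨_, y, hy⟩

variable {W} {U : X.Etale} (g : ∀ k, W k ⟶ U)

/-- the induced map out of the coproduct -/
noncomputable def sigDesc : sig W ⟶ U :=
  MorphismProperty.Over.homMk (Sigma.desc (fun k => (g k).left))
    (by
      change Sigma.desc (fun k => (g k).left) ≫ U.hom = Sigma.desc (fun k => (W k).hom)
      apply Sigma.hom_ext
      intro k
      rw [Sigma.ι_desc_assoc, Sigma.ι_desc]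
      exact MorphismProperty.Over.w (g k)) trivial

theorem sigι_sigDesc (k : ι) : sigι W k ≫ sigDesc g = g k := by
  apply hom_ext_of_left
  change Sigma.ι (fun k => (W k).left) k ≫ Sigma.desc (fun k => (g k).left) = (g k).left
  exact Sigma.ι_desc _ _

theorem sigDesc_surjective (hg : ∀ x : U.left, ∃ (k : ι) (y : (W k).left), (g k).left y = x) :
    Function.Surjective (sigDesc g).left := by
  intro x
  obtain ⟨k, y, hy⟩ := hg x
  refine ⟨(sigι W k).left y, ?_⟩
  rw [← Scheme.Hom.comp_apply]
  have := congrArg (fun φ : W k ⟶ U => φ.left) (sigι_sigDesc g k)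
  change (sigι W k).left ≫ (sigDesc g).left = (g k).left at this
  rw [this, hy]

instance isAffine_sig [Finite ι] [∀ k, IsAffine (W k).left] : IsAffine (sig W).left :=
  inferInstanceAs (IsAffine (∐ fun k => (W k).left))

end Groth.Agent.Lib.Helper27.EtSheafCrit
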