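import Groth.Agent.Lib.Helper27.EtSheafCrit2
import Mathlib.AlgebraicGeometry.Morphisms.UniversallyOpen

/-!
# Sheaf criterion on the small étale site: finite affine refinements of coverings of affines
-/

set_option autoImplicit false

universe w u

namespace Groth.Agent.Lib.Helper27.EtSheafCrit

open CategoryTheory Limits Opposite AlgebraicGeometry
open Groth.Agent.Lib.Helper23.EtGlue

variable {X : Scheme.{u}}

theorem exists_finite_affine_refinement {U : X.Etale} [IsAffine U.left] (S : Sieve U)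
    (hS : S ∈ X.smallEtaleTopology U) :
    ∃ (ι : Type u) (_ : Finite ι) (W : ι → X.Etale) (g : ∀ k, W k ⟶ U),
      (∀ k, IsAffine (W k).left) ∧ (∀ k, S (g k)) ∧
      ∀ x : U.left, ∃ (k : ι) (y : (W k).left), (g k).left y = x := by
  have hx : ∀ x : U.left, ∃ (T : X.Etale) (g : T ⟶ U) (W₀ : T.left.Opens),
      S g ∧ IsAffineOpen W₀ ∧ ∃ y : T.left, y ∈ W₀ ∧ g.left y = x := by
    intro x
    obtain ⟨T, g, hg, y, hy⟩ := exists_arrow_of_mem S hS x
    obtain ⟨W₀, hW₀, hyW, -⟩ := TopologicalSpace.Opens.isBasis_iff_nbhd.1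
      T.left.isBasis_affineOpens (show y ∈ (⊤ : T.left.Opens) from trivial)
    exact ⟨T, g, W₀, hg, hW₀, y, hyW, hy⟩
  choose T g W₀ hg hW₀ y hyW hy using hx
  have hopen : ∀ x, IsOpen ((g x).left '' (W₀ x : Set (T x).left)) := fun x =>
    (g x).left.isOpenMap _ (W₀ x).isOpen
  haveI : CompactSpace U.left := inferInstance
  obtain ⟨t, ht⟩ := isCompact_univ.elim_finite_subcover
    (fun x : U.left => (g x).left '' (W₀ x : Set (T x).left)) hopen
    (fun x _ => Set.mem_iUnion.2 ⟨x, y x, hyW x, hy x⟩)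
  refine ⟨{x : U.left // x ∈ t}, inferInstance, fun k => opn (T k.1) (W₀ k.1),
    fun k => opnι (T k.1) (W₀ k.1) ≫ g k.1, fun k => hW₀ k.1,
    fun k => S.downward_closed (hg k.1) _, fun x => ?_⟩
  obtain ⟨k, hk⟩ := Set.mem_iUnion.1 (ht (Set.mem_univ x))
  obtain ⟨hkt, z, hz, hzx⟩ := Set.mem_iUnion.1 hk
  exact ⟨⟨k, hkt⟩, ⟨z, hz⟩, hzx⟩

end Groth.Agent.Lib.Helper27.EtSheafCrit
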