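import Groth.Agent.Lib.Helper27.EtSheafCrit3

/-!
# Sheaf criterion on the small étale site: separatedness
-/

set_option autoImplicit false

universe w u

namespace Groth.Agent.Lib.Helper27.EtSheafCrit

open CategoryTheory Limits Opposite AlgebraicGeometry
open Groth.Agent.Lib.Helper23.EtGlue

variable {X : Scheme.{u}}

theorem sigι_mem_Jz {ι : Type u} (W : ι → X.Etale) :
    Sieve.ofArrows W (sigι W) ∈ Jz X (sig W) := by
  rw [mem_Jz_iff]
  intro x
  obtain ⟨k, y, hy⟩ := exists_sigι_eq W x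
  exact ⟨W k, sigι W k, y, Sieve.ofArrows_mk _ _ k, inferInstance, hy⟩

/-- the affine opens of an object, as a Zariski covering -/
theorem affineOpens_mem_Jz (U : X.Etale) :
    Sieve.ofArrows (fun W : {W : U.left.Opens // IsAffineOpen W} => opn U W.1)
      (fun W => opnι U W.1) ∈ Jz X U := by
  rw [mem_Jz_iff]
  intro x
  obtain ⟨W, hW, hxW, -⟩ := TopologicalSpace.Opens.isBasis_iff_nbhd.1
    U.left.isBasis_affineOpens (show x ∈ (⊤ : U.left.Opens) from trivial)
  exact ⟨opn U W, opnι U W, ⟨x, hxW⟩,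
    Sieve.ofArrows_mk (fun W : {W : U.left.Opens // IsAffineOpen W} => opn U W.1)
      (fun W => opnι U W.1) ⟨W, hW⟩,
    inferInstanceAs (IsOpenImmersion (Scheme.Opens.ι W)), rfl⟩

variable (F : X.Etaleᵒᵖ ⥤ Type w)

/-- the hypothesis on affine surjective singletons -/
def AffSingle : Prop :=
  ∀ (U V : X.Etale) [IsAffine U.left] [IsAffine V.left] (f : V ⟶ U) [Surjective f.left],
    Presieve.IsSheafFor F (Presieve.singleton f)

variable {F} (hzar : Presieve.IsSheaf (Jz X) F) (hff : AffSingle F)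

include hzar hff in
theorem isSeparatedFor_of_affine {U : X.Etale} [IsAffine U.left] (S : Sieve U)
    (hS : S ∈ X.smallEtaleTopology U) : Presieve.IsSeparatedFor F S.arrows := by
  obtain ⟨ι, _, W, g, hW, hg, hsurj⟩ := exists_finite_affine_refinement S hS
  intro x t₁ t₂ h₁ h₂
  have hV : F.map (sigDesc g).op t₁ = F.map (sigDesc g).op t₂ := by
    apply (hzar.isSeparated _ (sigι_mem_Jz W)).ext
    rintro Y f ⟨_, a, _, ⟨k⟩, rfl⟩
    have e : ∀ t : F.obj (op U), F.map (a ≫ sigι W k).op (F.map (sigDesc g).op t) =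
        F.map a.op (F.map (g k).op t) := by
      intro t
      rw [← Functor.map_comp_apply, ← Functor.map_comp_apply, ← op_comp, ← op_comp,
        Category.assoc, sigι_sigDesc]
    rw [e, e, h₁ (g k) (hg k), h₂ (g k) (hg k)]
  have : Surjective (sigDesc g).left := ⟨sigDesc_surjective g hsurj⟩
  apply (hff U (sig W) (sigDesc g)).isSeparatedFor.ext
  rintro Y f ⟨⟩
  exact hV

include hzar hff in
theorem isSeparatedFor {U : X.Etale} (S : Sieve U)
    (hS : S ∈ X.smallEtaleTopology U) : Presieve.IsSeparatedFor F S.arrows := by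
  intro x t₁ t₂ h₁ h₂
  apply (hzar.isSeparated _ (affineOpens_mem_Jz U)).ext
  rintro Y f ⟨_, a, _, ⟨W⟩, rfl⟩
  rw [op_comp, Functor.map_comp_apply, Functor.map_comp_apply]
  congr 1
  have : IsAffine (opn U W.1).left := W.2
  apply (isSeparatedFor_of_affine hzar hff (S.pullback (opnι U W.1))
    (X.smallEtaleTopology.pullback_stable _ hS)).ext
  intro Z b hb
  rw [← Functor.map_comp_apply, ← Functor.map_comp_apply, ← op_comp]
  rw [h₁ (b ≫ opnι U W.1) hb, h₂ (b ≫ opnι U W.1) hb]

end Groth.Agent.Lib.Helper27.EtSheafCrit
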