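import Groth.Agent.Lib.Helper27.EtSheafCrit4

/-!
# Sheaf criterion on the small étale site: the sheaf condition over affine objects
-/

set_option autoImplicit false

universe w u

namespace Groth.Agent.Lib.Helper27.EtSheafCrit

open CategoryTheory Limits Opposite AlgebraicGeometry
open Groth.Agent.Lib.Helper23.EtGlue

variable {X : Scheme.{u}}

/-- a morphism landing in the image of an open immersion lifts along it -/
noncomputable def liftOI {Z Y U : X.Etale} (j : Y ⟶ U) [IsOpenImmersion j.left] (a : Z ⟶ U)
    (h : Set.range a.left ⊆ Set.range j.left) : Z ⟶ Y :=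
  MorphismProperty.Over.homMk (IsOpenImmersion.lift j.left a.left h)
    (by
      have e : IsOpenImmersion.lift j.left a.left h ≫ j.left ≫ U.hom = Z.hom := by
        rw [← Category.assoc, IsOpenImmersion.lift_fac]
        exact MorphismProperty.Over.w a
      rw [← e]
      congr 1
      exact (MorphismProperty.Over.w j).symm) trivial

theorem liftOI_comp {Z Y U : X.Etale} (j : Y ⟶ U) [IsOpenImmersion j.left] (a : Z ⟶ U)
    (h : Set.range a.left ⊆ Set.range j.left) : liftOI j a h ≫ j = a := by
  apply hom_ext_of_left
  change IsOpenImmersion.lift j.left a.left h ≫ j.left = a.left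
  exact IsOpenImmersion.lift_fac _ _ _

/-- the preimage of an open under a morphism of the small étale site -/
noncomputable def preim {Z U : X.Etale} (a : Z ⟶ U) (W : U.left.Opens) : Z.left.Opens :=
  a.left ⁻¹ᵁ W

theorem mem_preim {Z U : X.Etale} (a : Z ⟶ U) (W : U.left.Opens) (z : Z.left) :
    z ∈ preim a W ↔ a.left z ∈ W := Iff.rfl

end Groth.Agent.Lib.Helper27.EtSheafCrit
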