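import Groth.Agent.Lib.Helper27.EtSheafCrit5

/-!
# Sheaf criterion on the small étale site: the sheaf condition over affine objects
-/

set_option autoImplicit false

universe w u

namespace Groth.Agent.Lib.Helper27.EtSheafCrit

open CategoryTheory Limits Opposite AlgebraicGeometry
open Groth.Agent.Lib.Helper23.EtGlue

variable {X : Scheme.{u}} {F : X.Etaleᵒᵖ ⥤ Type w}

section

variable (hzar : Presieve.IsSheaf (Jz X) F)

include hzar in
/-- a Zariski sheaf sends coproducts to products: gluing -/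
theorem exists_glue_sig {ι : Type u} (W : ι → X.Etale) {U : X.Etale} (g : ∀ k, W k ⟶ U)
    (x : ∀ k, F.obj (op (W k))) (hx : Presieve.Arrows.Compatible F g x) :
    ∃ y : F.obj (op (sig W)), ∀ k, F.map (sigι W k).op y = x k := by
  have hsh : Presieve.IsSheafFor F (Presieve.ofArrows W (sigι W)) := by
    rw [Presieve.isSheafFor_iff_generate]
    exact hzar _ (sigι_mem_Jz W)
  have hc : Presieve.Arrows.Compatible F (sigι W) x := by
    intro k l Z a b hab
    apply hx
    rw [← sigι_sigDesc g k, ← sigι_sigDesc g l, ← Category.assoc, hab, Category.assoc]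
  obtain ⟨y, hy, -⟩ := (Presieve.isSheafFor_arrows_iff _ _).1 hsh x hc
  exact ⟨y, hy⟩

/-- the open of `Z` where `a` lands in the `k`-th and `b` in the `l`-th summand -/
noncomputable def Zkl {ι : Type u} (W : ι → X.Etale) {Z : X.Etale} (a b : Z ⟶ sig W)
    (kl : ι × ι) : Z.left.Opens :=
  preim a (sigι W kl.1).left.opensRange ⊓ preim b (sigι W kl.2).left.opensRange

theorem Zkl_mem_Jz {ι : Type u} (W : ι → X.Etale) {Z : X.Etale} (a b : Z ⟶ sig W) :
    Sieve.ofArrows (fun kl : ι × ι => opn Z (Zkl W a b kl)) (fun kl => opnι Z (Zkl W a b kl)) ∈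
      Jz X Z := by
  rw [mem_Jz_iff]
  intro z
  obtain ⟨k, y, hy⟩ := exists_sigι_eq W (a.left z)
  obtain ⟨l, y', hy'⟩ := exists_sigι_eq W (b.left z)
  have hz : z ∈ Zkl W a b (k, l) := ⟨⟨y, hy⟩, ⟨y', hy'⟩⟩
  exact ⟨opn Z (Zkl W a b (k, l)), opnι Z (Zkl W a b (k, l)), ⟨z, hz⟩,
    Sieve.ofArrows_mk (fun kl : ι × ι => opn Z (Zkl W a b kl))
      (fun kl => opnι Z (Zkl W a b kl)) (k, l),
    inferInstanceAs (IsOpenImmersion (Scheme.Opens.ι (Zkl W a b (k, l)))), rfl⟩

theorem opnι_mem {Z : X.Etale} (V : Z.left.Opens) (z : (opn Z V).left) :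
    (opnι Z V).left z ∈ V := by
  have h := range_opnι Z V
  rw [← SetLike.mem_coe, ← h]
  exact ⟨z, rfl⟩

include hzar in
theorem glue_compatible {ι : Type u} (W : ι → X.Etale) {U : X.Etale} (g : ∀ k, W k ⟶ U)
    (x : ∀ k, F.obj (op (W k))) (hx : Presieve.Arrows.Compatible F g x)
    (y : F.obj (op (sig W))) (hy : ∀ k, F.map (sigι W k).op y = x k)
    {Z : X.Etale} (a b : Z ⟶ sig W) (hab : a ≫ sigDesc g = b ≫ sigDesc g) :
    F.map a.op y = F.map b.op y := by
  apply (hzar.isSeparated _ (Zkl_mem_Jz W a b)).ext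
  rintro Y f ⟨_, c, _, ⟨kl⟩, rfl⟩
  rw [op_comp, Functor.map_comp_apply, Functor.map_comp_apply]
  congr 1
  have h₁ : Set.range (opnι Z (Zkl W a b kl) ≫ a).left ⊆ Set.range (sigι W kl.1).left := by
    rintro _ ⟨z', rfl⟩
    exact (opnι_mem (Zkl W a b kl) z').1
  have h₂ : Set.range (opnι Z (Zkl W a b kl) ≫ b).left ⊆ Set.range (sigι W kl.2).left := by
    rintro _ ⟨z', rfl⟩
    exact (opnι_mem (Zkl W a b kl) z').2
  have e₁ := liftOI_comp (sigι W kl.1) (opnι Z (Zkl W a b kl) ≫ a) h₁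
  have e₂ := liftOI_comp (sigι W kl.2) (opnι Z (Zkl W a b kl) ≫ b) h₂
  rw [← Functor.map_comp_apply, ← Functor.map_comp_apply, ← op_comp, ← op_comp, ← e₁, ← e₂,
    op_comp, op_comp, Functor.map_comp_apply, Functor.map_comp_apply, hy, hy]
  apply hx
  rw [← sigι_sigDesc g kl.1, ← sigι_sigDesc g kl.2, ← Category.assoc, ← Category.assoc, e₁, e₂,
    Category.assoc, Category.assoc, hab]

end

section

variable (hzar : Presieve.IsSheaf (Jz X) F) (hff : AffSingle F)

include hzar hff in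
theorem isSheafFor_ofArrows_affine {ι : Type u} [Finite ι] (W : ι → X.Etale)
    [∀ k, IsAffine (W k).left] {U : X.Etale} [IsAffine U.left] (g : ∀ k, W k ⟶ U)
    (hsurj : ∀ x : U.left, ∃ (k : ι) (y : (W k).left), (g k).left y = x) :
    Presieve.IsSheafFor F (Presieve.ofArrows W g) := by
  rw [Presieve.isSheafFor_arrows_iff]
  intro x hx
  obtain ⟨y, hy⟩ := exists_glue_sig hzar W g x hx
  have : Surjective (sigDesc g).left := ⟨sigDesc_surjective g hsurj⟩
  obtain ⟨t, ht, -⟩ := Presieve.isSheafFor_singleton.1 (hff U (sig W) (sigDesc g)) y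
    (fun a b hab => glue_compatible hzar W g x hx y hy a b hab)
  have h1 : ∀ k, F.map (g k).op t = x k := by
    intro k
    rw [← hy k, ← ht, ← Functor.map_comp_apply, ← op_comp, sigι_sigDesc]
  refine ⟨t, h1, fun t' ht' => ?_⟩
  have hmem : Sieve.generate (Presieve.ofArrows W g) ∈ X.smallEtaleTopology U :=
    sieve_mem_of_forall_point _ (fun u => by
      obtain ⟨k, y, hy⟩ := hsurj u
      exact ⟨W k, g k, Sieve.ofArrows_mk _ _ k, y, hy⟩)
  apply (isSeparatedFor_of_affine hzar hff _ hmem).ext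
  rintro Y f ⟨_, c, _, ⟨k⟩, rfl⟩
  rw [op_comp, Functor.map_comp_apply, Functor.map_comp_apply, ht' k, h1 k]

include hzar hff in
theorem isSheafFor_of_affine {U : X.Etale} [IsAffine U.left] (S : Sieve U)
    (hS : S ∈ X.smallEtaleTopology U) : Presieve.IsSheafFor F S.arrows := by
  obtain ⟨ι, _, W, g, hW, hg, hsurj⟩ := exists_finite_affine_refinement S hS
  have h0 : Presieve.IsSheafFor F (Sieve.generate (Presieve.ofArrows W g)).arrows := by
    rw [← Presieve.isSheafFor_iff_generate]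
    exact isSheafFor_ofArrows_affine hzar hff W g hsurj
  have hle : (Sieve.generate (Presieve.ofArrows W g)).arrows ≤ S.arrows := by
    rintro Y f ⟨_, c, _, ⟨k⟩, rfl⟩
    exact S.downward_closed (hg k) c
  have hmem : Sieve.generate (Presieve.ofArrows W g) ∈ X.smallEtaleTopology U :=
    sieve_mem_of_forall_point _ (fun u => by
      obtain ⟨k, y, hy⟩ := hsurj u
      exact ⟨W k, g k, Sieve.ofArrows_mk _ _ k, y, hy⟩)
  exact Presieve.isSheafFor_subsieve_aux F hle h0
    (fun Y f _ => isSeparatedFor hzar hff _ (X.smallEtaleTopology.pullback_stable f hmem))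

end

end Groth.Agent.Lib.Helper27.EtSheafCrit
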