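import Groth.Agent.Lib.Helper27.EtQZ2
import Mathlib.CategoryTheory.Sites.LocallyBijective

/-!
# Global sections of constant sheaves on `Spec k`, and `H¹(Spec k, M) = 0` for torsion-free `M`
-/

set_option autoImplicit false
set_option backward.isDefEq.respectTransparency false
universe u
open CategoryTheory Limits Opposite AlgebraicGeometry Abelian
open Groth.Agent.Lib.Helper23.EtGlue Groth.Agent.Lib.Helper27.EtTransport

namespace Groth.Agent.Lib.Helper27.EtSky

section Sections

variable (K : Type u) [Field K] (G : AddCommGrpCat.{u + 1})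

/-- the constant presheaf -/
noncomputable abbrev cP : (Spec (CommRingCat.of K)).Etaleᵒᵖ ⥤ AddCommGrpCat.{u + 1} :=
  (Functor.const _).obj G

/-- the constant sheaf -/
noncomputable abbrev cS : EtCoh.Ab (Spec (CommRingCat.of K)) :=
  (constantSheaf (Spec (CommRingCat.of K)).smallEtaleTopology AddCommGrpCat.{u + 1}).obj G

/-- sections of constants -/
noncomputable abbrev tS (T : (Spec (CommRingCat.of K)).Etale) : G ⟶ (cS K G).obj.obj (op T) :=
  (toSheafify (Spec (CommRingCat.of K)).smallEtaleTopology (cP K G)).app (op T)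

theorem tS_map {T T' : (Spec (CommRingCat.of K)).Etale} (a : T' ⟶ T) (p : G) :
    (cS K G).obj.map a.op (tS K G T p) = tS K G T' p := by
  have nat := ConcreteCategory.congr_hom
    ((toSheafify (Spec (CommRingCat.of K)).smallEtaleTopology (cP K G)).naturality a.op) p
  simp only [ConcreteCategory.comp_apply] at nat
  exact nat.symm

/-- every global section of a constant sheaf on `Spec K` is constant -/
theorem exists_eq_tS (σ : (cS K G).obj.obj (op (EtCoh.top (Spec (CommRingCat.of K))))) :
    ∃ p : G, σ = tS K G (EtCoh.top _) p := by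
  have hcov := Presheaf.imageSieve_mem (Spec (CommRingCat.of K)).smallEtaleTopology
    (toSheafify (Spec (CommRingCat.of K)).smallEtaleTopology (cP K G)) σ
  obtain ⟨T, a, ⟨p, hp⟩, t, ht⟩ := exists_arrow_of_mem _ hcov
    (show (EtCoh.top (Spec (CommRingCat.of K))).left from (⊥ : PrimeSpectrum K))
  refine ⟨p, ?_⟩
  rw [← sub_eq_zero]
  apply eq_zero_of_locally
  intro x
  refine ⟨T, a, ⟨t, ?_⟩, ?_⟩
  · exact (inferInstance : Subsingleton (PrimeSpectrum K)).elim _ _
  · rw [map_sub, tS_map, sub_eq_zero]
    exact hp.symm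

end Sections

end Groth.Agent.Lib.Helper27.EtSky
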