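import Mathlib

/-!
# Vanishing of `Ext(X₃, Y)` in low degrees in terms of `Ext(X₂, Y) → Ext(X₁, Y)` (helper27)
-/

set_option autoImplicit false
universe w v u
open CategoryTheory Limits Abelian

namespace Groth.Agent.Lib.Helper27.ExtVan

variable {C : Type u} [Category.{v} C] [Abelian C] [HasExt.{w} C]
  {S : ShortComplex C} (hS : S.ShortExact) (Y : C)

/-- restriction `Ext(X₂, Y) → Ext(X₁, Y)` -/
noncomputable def res (p : ℕ) : Ext S.X₂ Y p →+ Ext S.X₁ Y p :=
  (Ext.mk₀ S.f).precomp Y (zero_add p)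

omit hS in
theorem res_apply (p : ℕ) (x : Ext S.X₂ Y p) : res (S := S) Y p x = (Ext.mk₀ S.f).comp x (zero_add p) := rfl

include hS in
theorem ext_vanishing_iff (n : ℕ) :
    (∀ p, p < n → ∀ x : Ext S.X₃ Y p, x = 0) ↔
      (∀ p, p + 1 < n → Function.Bijective (res (S := S) Y p)) ∧
        (∀ p, p + 1 = n → Function.Injective (res (S := S) Y p)) := by
  constructor
  · intro h
    have hinj : ∀ p, p < n → Function.Injective (res (S := S) Y p) := by
      intro p hp
      rw [injective_iff_map_eq_zero]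
      intro x hx
      obtain ⟨x₃, rfl⟩ := Ext.contravariant_sequence_exact₂ hS Y x hx
      rw [h p hp x₃, Ext.comp_zero]
    refine ⟨fun p hp => ⟨hinj p (by omega), ?_⟩, fun p hp => hinj p (by omega)⟩
    intro x₁
    have h0 : hS.extClass.comp x₁ (add_comm 1 p) = 0 := h (p + 1) hp _
    exact Ext.contravariant_sequence_exact₁ hS Y x₁ (add_comm 1 p) h0
  · rintro ⟨hbij, hinj⟩ p hp x₃
    have hinj' : Function.Injective (res (S := S) Y p) := by
      by_cases h1 : p + 1 < n
      · exact (hbij p h1).1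
      · exact hinj p (by omega)
    have hy : (Ext.mk₀ S.g).comp x₃ (zero_add p) = 0 := by
      apply hinj'
      rw [map_zero, res_apply, ← Ext.comp_assoc_of_second_deg_zero, Ext.mk₀_comp_mk₀, S.zero,
        Ext.mk₀_zero, Ext.zero_comp]
    cases p with
    | zero =>
      haveI : Epi S.g := hS.epi_g
      exact Ext.precomp_mk₀_injective_of_epi Y S.g (by
        change (Ext.mk₀ S.g).comp x₃ (zero_add 0) = (Ext.mk₀ S.g).comp 0 (zero_add 0)
        rw [hy, Ext.comp_zero])
    | succ q =>
      obtain ⟨x₁, rfl⟩ := Ext.contravariant_sequence_exact₃ hS Y x₃ hy (add_comm 1 q)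
      obtain ⟨x₂, rfl⟩ := (hbij q (by omega)).2 x₁
      rw [res_apply]
      exact hS.extClass_comp_assoc x₂

end Groth.Agent.Lib.Helper27.ExtVan
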