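import Groth.Agent.Lib.Helper27.EtTri1
import Groth.Agent.Lib.Helper27.ExtVan
import Groth.Agent.Lib.Helper23.MVOpen2
import Groth.Agent.Lib.Helper23.FlcLoc
import Groth.Agent.Lib.Helper6.ExtRD
import Groth.Agent.Lib.Helper6.CechFamSieve
import Groth.Prelude.Def_EtDepth

/-!
# `Ext^p(ℤ_X / j_! ℤ_U, F) ≅ H^p_Y(X, F)` (helper27)
-/

set_option autoImplicit false
set_option backward.isDefEq.respectTransparency false
universe u
open CategoryTheory Limits Opposite AlgebraicGeometry Abelian
open Groth.Agent.Lib.Helper23.EtRestr Groth.Agent.Lib.Helper23.EtGlue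
  Groth.Agent.Lib.Helper27.EtTrace Groth.Agent.Lib.Helper27.EtExc
  Groth.Agent.Lib.Helper27.EtH90 Groth.Agent.Lib.Helper27.AbsComp
  Groth.Agent.Lib.Helper23.FlcLoc Groth.Agent.Lib.Helper23.MVOpen
  Groth.Agent.Lib.Helper23.ExtRestr

namespace Groth.Agent.Lib.Helper27.EtSuppExt

section Ev

variable {X : Scheme.{u}}

/-- the unit section of `ℤ_X` -/
noncomputable def one (X : Scheme.{u}) : (EtCoh.const X ℤ).obj.obj (op (EtCoh.top X)) :=
  ts (AddCommGrpCat.of (ULift.{u + 1} ℤ)) (EtCoh.top X) (ULift.up 1)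

/-- evaluation of a morphism `ℤ_X → F` at the unit section -/
noncomputable def ev {F : EtCoh.Ab X} (ψ : EtCoh.const X ℤ ⟶ F) : F.obj.obj (op (EtCoh.top X)) :=
  ψ.hom.app (op (EtCoh.top X)) (one X)

theorem ev_comp {F G : EtCoh.Ab X} (ψ : EtCoh.const X ℤ ⟶ F) (f : F ⟶ G) :
    ev (ψ ≫ f) = f.hom.app (op (EtCoh.top X)) (ev ψ) := rfl

theorem ev_add {F : EtCoh.Ab X} (ψ ψ' : EtCoh.const X ℤ ⟶ F) : ev (ψ + ψ') = ev ψ + ev ψ' := rfl

theorem homEquiv_apply {F : EtCoh.Ab X} (ψ : EtCoh.const X ℤ ⟶ F) :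
    ((EtCore.constAdj X).homEquiv _ _ ψ) (ULift.up 1) = ev ψ := by
  rw [Adjunction.homEquiv_unit]
  rfl

theorem ev_eq_zero_iff {F : EtCoh.Ab X} (ψ : EtCoh.const X ℤ ⟶ F) : ev ψ = 0 ↔ ψ = 0 := by
  constructor
  · intro h
    apply ((EtCore.constAdj X).homEquiv _ _).injective
    have h0 : (EtCore.constAdj X).homEquiv (AddCommGrpCat.of (ULift.{u + 1} ℤ)) F 0 = 0 := by
      rw [Adjunction.homEquiv_unit, Functor.map_zero, comp_zero]
    rw [h0]
    ext x
    obtain ⟨k⟩ := x
    have hk : (ULift.up k : ULift.{u + 1} ℤ) = k • ULift.up 1 := by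
      apply ULift.ext
      change k = k • (1 : ℤ)
      simp
    rw [hk, map_zsmul, homEquiv_apply, h, smul_zero]
    rfl
  · rintro rfl
    rfl

theorem exists_ev_eq {F : EtCoh.Ab X} (s : F.obj.obj (op (EtCoh.top X))) :
    ∃ ψ : EtCoh.const X ℤ ⟶ F, ev ψ = s := by
  let h : AddCommGrpCat.of (ULift.{u + 1} ℤ) ⟶ (EtCore.gsec X).obj F :=
    AddCommGrpCat.ofHom ((zmultiplesHom _ s).comp AddEquiv.ulift.toAddMonoidHom)
  refine ⟨((EtCore.constAdj X).homEquiv _ _).symm h, ?_⟩
  rw [← homEquiv_apply, Equiv.apply_symm_apply]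
  change (1 : ℤ) • s = s
  rw [one_smul]

end Ev

section Eps

variable {U X : Scheme.{u}} (j : U ⟶ X) [IsOpenImmersion j]

/-- `ε : j_! ℤ_U → ℤ_X` -/
noncomputable abbrev ε : (EtShriek.extZero j).obj (EtCoh.const U ℤ) ⟶ EtCoh.const X ℤ :=
  eps (adjP j) (EtCore.pullConst j ℤ)

theorem eps_comp_eq_zero_iff {F : EtCoh.Ab X} (ψ : EtCoh.const X ℤ ⟶ F) :
    ε j ≫ ψ = 0 ↔ F.obj.map (gj j).op (ev ψ) = 0 := by
  -- step 1
  have h1 : ε j ≫ ψ = 0 ↔ (EtCoh.pull j).map ψ = 0 := by
    have hE : (adjP j).homEquiv _ _ (ε j ≫ ψ) = (EtCore.pullConst j ℤ).inv ≫ (EtCoh.pull j).map ψ := by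
      rw [Adjunction.homEquiv_unit, Functor.map_comp, ← Category.assoc, unit_map_eps]
    constructor
    · intro h
      rw [h] at hE
      have h0 : (adjP j).homEquiv (EtCoh.const U ℤ) F 0 = 0 := by
        rw [Adjunction.homEquiv_unit, Functor.map_zero, comp_zero]
      rw [h0] at hE
      have := congrArg (fun t => (EtCore.pullConst j ℤ).hom ≫ t) hE
      simp only [comp_zero, Iso.hom_inv_id_assoc] at this
      exact this.symm
    · intro h
      apply ((adjP j).homEquiv _ _).injective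
      rw [hE, h, comp_zero, Adjunction.homEquiv_unit, Functor.map_zero, comp_zero]
  -- step 2
  have h2 : (EtCoh.pull j).map ψ = 0 ↔ ψ ≫ (EtCoh.pullPushAdj j).unit.app F = 0 := by
    have hE : (EtCoh.pullPushAdj j).homEquiv _ _ ((EtCoh.pull j).map ψ) =
        ψ ≫ (EtCoh.pullPushAdj j).unit.app F := by
      rw [Adjunction.homEquiv_unit]
      exact ((EtCoh.pullPushAdj j).unit.naturality ψ).symm
    constructor
    · intro h
      rw [← hE, h, Adjunction.homEquiv_unit, Functor.map_zero, comp_zero]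
    · intro h
      apply ((EtCoh.pullPushAdj j).homEquiv _ _).injective
      rw [hE, h, Adjunction.homEquiv_unit, Functor.map_zero, comp_zero]
  rw [h1, h2, ← ev_eq_zero_iff, ev_comp]
  exact unit_app_top_eq_zero_iff j F (ev ψ)

end Eps

section Theta

variable {U X : Scheme.{u}} (j : U ⟶ X) [IsOpenImmersion j]

/-- the quotient `ℤ_X / j_! ℤ_U` -/
noncomputable abbrev Q : EtCoh.Ab X := cokernel (ε j)

/-- `Hom(ℤ_X / j_! ℤ_U, F) → Γ_Y(X, F)` -/
noncomputable def homToK (F : EtCoh.Ab X) : (Q j ⟶ F) →+ (Kfun (gj j)).obj F where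
  toFun φ := ⟨ev (cokernel.π (ε j) ≫ φ), by
    rw [AddMonoidHom.mem_ker]
    exact (eps_comp_eq_zero_iff j _).1 (by rw [← Category.assoc, cokernel.condition, zero_comp])⟩
  map_zero' := Subtype.ext (by
    change ev (cokernel.π (ε j) ≫ 0) = 0
    rw [comp_zero]
    rfl)
  map_add' φ φ' := Subtype.ext (by
    change ev (cokernel.π (ε j) ≫ (φ + φ')) = ev (cokernel.π (ε j) ≫ φ) + ev (cokernel.π (ε j) ≫ φ')
    rw [Preadditive.comp_add]
    rfl)

theorem homToK_val (F : EtCoh.Ab X) (φ : Q j ⟶ F) :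
    (homToK j F φ).1 = ev (cokernel.π (ε j) ≫ φ) := rfl

theorem homToK_bijective (F : EtCoh.Ab X) : Function.Bijective (homToK j F) := by
  constructor
  · rw [injective_iff_map_eq_zero]
    intro φ hφ
    have h1 : ev (cokernel.π (ε j) ≫ φ) = 0 := congrArg Subtype.val hφ
    rw [ev_eq_zero_iff] at h1
    rw [← cancel_epi (cokernel.π (ε j)), h1, comp_zero]
  · rintro ⟨s, hs⟩
    obtain ⟨ψ, rfl⟩ := exists_ev_eq s
    have h0 : ε j ≫ ψ = 0 := (eps_comp_eq_zero_iff j ψ).2 hs
    refine ⟨cokernel.desc (ε j) ψ h0, Subtype.ext ?_⟩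
    rw [homToK_val, cokernel.π_desc]

/-- `Hom(ℤ_X / j_! ℤ_U, -) ≅ Γ_Y(X, -)` -/
noncomputable def θ₀' : preadditiveCoyoneda.obj (op (Q j)) ≅ Kfun (gj j) :=
  NatIso.ofComponents
    (fun F => (AddEquiv.ofBijective (homToK j F) (homToK_bijective j F)).toAddCommGrpIso)
    (fun {F G} f => by
      ext φ
      apply Subtype.ext
      rfl)

/-- `Ext^p(ℤ_X / j_! ℤ_U, F) ≅ H^p_Y(X, F)` -/
theorem nonempty_ext_iso_HY (F : EtCoh.Ab X) (p : ℕ) :
    Nonempty ((extFunctorObj (Q j) p).obj F ≅ (EtDual.HY j p).obj F) := by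
  obtain ⟨e⟩ := Groth.Agent.Lib.Helper6.ExtRD.nonempty_ext_iso_rightDerived (Q j) (Kfun (gj j))
    (Groth.Agent.Lib.Helper6.CechFamSieve.θ0 (Q j) ≪≫ θ₀' j) F p
  exact ⟨e ≪≫ ((Groth.Agent.Lib.Helper27.EtTri.rightDerivedIso (θ₁ j) p).app F).symm⟩

theorem ext_eq_zero_iff (F : EtCoh.Ab X) (p : ℕ) :
    (∀ x : Ext (Q j) F p, x = 0) ↔ IsZero ((EtDual.HY j p).obj F) := by
  obtain ⟨e⟩ := nonempty_ext_iso_HY j F p
  constructor
  · intro h
    haveI : Subsingleton (Ext (Q j) F p) := ⟨fun a b => (h a).trans (h b).symm⟩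
    exact (AddCommGrpCat.isZero_of_subsingleton (AddCommGrpCat.of (Ext (Q j) F p))).of_iso e.symm
  · intro h x
    have hs : Subsingleton (Ext (Q j) F p) :=
      AddCommGrpCat.subsingleton_of_isZero (h.of_iso e)
    exact hs.elim x 0

end Theta

section LemmaA

variable {U X : Scheme.{u}} (j : U ⟶ X) [IsOpenImmersion j]

open Groth.Agent.Lib.Helper23.ExtAdj in
/-- vanishing of the cohomology with support below `n` in terms of the restriction maps -/
theorem HY_isZero_iff_Hpull (F : EtCoh.Ab X) (n : ℕ) [PreservesFiniteLimits (EtCoh.pull j)] :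
    (∀ p, p < n → IsZero ((EtDual.HY j p).obj F)) ↔
      (∀ p, p + 1 < n → Function.Bijective (EtCore.Hpull j F p)) ∧
        (∀ p, p + 1 = n → Function.Injective (EtCore.Hpull j F p)) := by
  let S : ShortComplex (EtCoh.Ab X) :=
    ShortComplex.mk (ε j) (cokernel.π (ε j)) (cokernel.condition _)
  have hS : S.ShortExact := { exact := ShortComplex.exact_cokernel (ε j) }
  have hΘ : ∀ p, Function.Bijective (extAdj (adjP j) (EtCoh.const U ℤ) F p) :=
    fun p => extAdj_bijective_of_exact (adjP j) _ F p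
  have hcomp : ∀ p, (extAdj (adjP j) (EtCoh.const U ℤ) F p) ∘ (EtCore.Hpull j F p) =
      Groth.Agent.Lib.Helper27.ExtVan.res (S := S) F p := by
    intro p
    funext x
    exact extAdj_hp (adjP j) (EtCore.pullConst j ℤ) F p x
  have key := Groth.Agent.Lib.Helper27.ExtVan.ext_vanishing_iff hS F n
  have hL : (∀ p, p < n → ∀ x : Ext S.X₃ F p, x = 0) ↔
      (∀ p, p < n → IsZero ((EtDual.HY j p).obj F)) :=
    forall_congr' fun p => imp_congr_right fun _ => ext_eq_zero_iff j F p
  rw [← hL, key]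
  refine and_congr (forall_congr' fun p => imp_congr_right fun _ => ?_)
    (forall_congr' fun p => imp_congr_right fun _ => ?_)
  · rw [← hcomp p]
    exact Function.Bijective.of_comp_iff' (hΘ p) _
  · rw [← hcomp p]
    exact Function.Injective.of_comp_iff (hΘ p).1 _

end LemmaA

section LemmaB

variable {U X : Scheme.{u}} (j : U ⟶ X) [IsOpenImmersion j] {X' : Scheme.{u}} (g : X' ⟶ X)
  [Etale g]

/-- sections with support over `X' → X`, computed on `X'` -/
theorem nonempty_secSupp_secT_iso_gammaSupp :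
    Nonempty (EtDual.secSupp j ⋙ secT ((EtShriek.compEtale g).obj (EtCoh.top X')) ≅
      EtCoh.pull g ⋙ EtDual.gammaSupp (pullback.snd j g)) := by
  obtain ⟨θ⟩ := nonempty_secSupp_secT_iso j g (EtCoh.top X')
  haveI : IsOpenImmersion (opnι (EtCoh.top X') (preU j g (EtCoh.top X'))).left :=
    inferInstanceAs (IsOpenImmersion (preU j g (EtCoh.top X')).ι)
  haveI : IsOpenImmersion (gj (pullback.snd j g)).left := by
    rw [gj_left]; infer_instance
  have hr : Set.range (opnι (EtCoh.top X') (preU j g (EtCoh.top X'))).left =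
      Set.range (gj (pullback.snd j g)).left := by
    have h1 : Set.range (preU j g (EtCoh.top X')).ι =
        ((preU j g (EtCoh.top X') : (EtCoh.top X').left.Opens) : Set (EtCoh.top X').left) :=
      Scheme.Opens.range_ι _
    have h2 : Set.range (pullback.snd j g) = g ⁻¹' Set.range j :=
      Scheme.Pullback.range_snd (f := j) (g := g)
    have h3 : (gj (pullback.snd j g)).left = pullback.snd j g := gj_left _
    have h4 : ((preU j g (EtCoh.top X') : (EtCoh.top X').left.Opens) :
        Set (EtCoh.top X').left) = g ⁻¹' Set.range j := by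
      ext x
      change (𝟙 X' ≫ g) x ∈ Set.range j ↔ g x ∈ Set.range j
      rw [Category.id_comp]
    refine h1.trans (h4.trans ?_)
    rw [h3]
    exact h2.symm
  obtain ⟨κ⟩ := nonempty_kfunIso_of_range_eq _ _ hr
  exact ⟨θ ≪≫ Functor.isoWhiskerLeft (EtCoh.pull g) (κ ≪≫ (θ₁ (pullback.snd j g)).symm)⟩

/-- the derived functors of sections with support over `X' → X` are the cohomology groups with
support of the inverse image -/
theorem nonempty_rightDerived_iso_HY (F : EtCoh.Ab X) (p : ℕ) :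
    Nonempty (((EtDual.secSupp j ⋙
        secT ((EtShriek.compEtale g).obj (EtCoh.top X'))).rightDerived p).obj F ≅
      (EtDual.HY (pullback.snd j g) p).obj ((EtCoh.pull g).obj F)) := by
  obtain ⟨θ⟩ := nonempty_secSupp_secT_iso_gammaSupp j g
  haveI : (EtCoh.pull g).Additive := (EtCoh.pullPushAdj g).left_adjoint_additive
  haveI : PreservesFiniteColimits (EtCoh.pull g) :=
    ⟨fun _ _ _ => (EtCoh.pullPushAdj g).leftAdjoint_preservesColimits.preservesColimitsOfShape⟩
  have hinj : ∀ I : EtCoh.Ab X, Injective I → Injective ((EtCoh.pull g).obj I) :=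
    fun I hI => (adjE g).map_injective I hI
  exact nonempty_rightDerived_iso_of_iso _ (EtCoh.pull g) _ hinj θ p F

end LemmaB

section LemmaB'

variable {U X : Scheme.{u}} (j : U ⟶ X) [IsOpenImmersion j]

/-- étale depth in terms of the cohomology groups with support on étale `X`-schemes -/
theorem locCoh_isZero_iff_HY (F : EtCoh.Ab X) (n : ℕ) :
    (∀ p, p < n → IsZero ((EtDual.locCoh j p).obj F)) ↔
      ∀ (X' : Scheme.{u}) (g : X' ⟶ X) [Etale g], ∀ p, p < n →
        IsZero ((EtDual.HY (pullback.snd j g) p).obj ((EtCoh.pull g).obj F)) := by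
  constructor
  · intro h X' g _ p hp
    obtain ⟨e⟩ := nonempty_rightDerived_iso_HY j g F p
    exact ((comp_rightDerived_secSupp j _ n F h).1 p hp).of_iso e.symm
  · intro h p
    induction p using Nat.strong_induction_on with
    | _ p ih =>
      intro hp
      apply isZero_of_sections_eq_zero
      intro T s
      haveI : Etale T.hom := T.prop
      let W : X.Etale := (EtShriek.compEtale T.hom).obj (EtCoh.top T.left)
      let a : W ⟶ T := MorphismProperty.Over.homMk (𝟙 T.left) (by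
        change 𝟙 T.left ≫ T.hom = 𝟙 T.left ≫ T.hom
        rfl) trivial
      let b : T ⟶ W := MorphismProperty.Over.homMk (𝟙 T.left) (by
        change 𝟙 T.left ≫ (𝟙 T.left ≫ T.hom) = T.hom
        rw [Category.id_comp, Category.id_comp]) trivial
      have hba : b ≫ a = 𝟙 T := by
        apply hom_ext_of_left
        change 𝟙 T.left ≫ 𝟙 T.left = 𝟙 T.left
        rw [Category.id_comp]
      obtain ⟨e₁⟩ := (comp_rightDerived_secSupp j W p F (fun q hq => ih q hq (hq.trans hp))).2
      obtain ⟨e₂⟩ := nonempty_rightDerived_iso_HY j T.hom F p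
      have hz : IsZero (((EtDual.locCoh j p).obj F).obj.obj (op W)) :=
        ((h T.left T.hom p hp).of_iso e₂).of_iso e₁.symm
      haveI := AddCommGrpCat.subsingleton_of_isZero hz
      have h1 : ((EtDual.locCoh j p).obj F).obj.map b.op
          (((EtDual.locCoh j p).obj F).obj.map a.op s) = s := by
        have := ConcreteCategory.congr_hom
          ((((EtDual.locCoh j p).obj F).obj.map_comp a.op b.op).symm) s
        rw [← op_comp, hba, op_id, CategoryTheory.Functor.map_id] at this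
        exact this
      rw [← h1, Subsingleton.elim (((EtDual.locCoh j p).obj F).obj.map a.op s) 0, map_zero]

end LemmaB'

section Main

variable {U X : Scheme.{u}} (j : U ⟶ X) [IsOpenImmersion j]

/-- étale depth in terms of restriction maps on étale cohomology -/
theorem depthGE_iff (F : EtCoh.Ab X) (n : ℕ) :
    EtDepth.DepthGE j F n ↔
      ∀ (X' : Scheme.{u}) (g : X' ⟶ X) [Etale g]
        [PreservesFiniteLimits (EtCoh.pull (pullback.snd j g))],
        (∀ p : ℕ, p + 1 < n →
          Function.Bijective (EtCore.Hpull (pullback.snd j g) ((EtCoh.pull g).obj F) p)) ∧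
        (∀ p : ℕ, p + 1 = n →
          Function.Injective (EtCore.Hpull (pullback.snd j g) ((EtCoh.pull g).obj F) p)) := by
  unfold EtDepth.DepthGE
  rw [locCoh_isZero_iff_HY j F n]
  constructor
  · intro h X' g _ _
    exact (HY_isZero_iff_Hpull (pullback.snd j g) ((EtCoh.pull g).obj F) n).1 (h X' g)
  · intro h X' g _
    haveI : PreservesFiniteLimits (EtCoh.pull (pullback.snd j g)) := pull_pfl _
    exact (HY_isZero_iff_Hpull (pullback.snd j g) ((EtCoh.pull g).obj F) n).2 (h X' g)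

end Main

end Groth.Agent.Lib.Helper27.EtSuppExt
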