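import Groth.Agent.Lib.Helper23.IrredNhd

/-!
# A point outside the image of a quasi-compact morphism has a locally closed neighbourhood
missing the image (helper27)
-/

set_option autoImplicit false
set_option backward.isDefEq.respectTransparency false
universe u
open CategoryTheory Limits Opposite AlgebraicGeometry

namespace Groth.Agent.Lib.Helper27.EtSurj

variable {X Y : Scheme.{u}} (g : X ⟶ Y)

/-- for an affine open of `X` over an affine open of `Y` missing the point `y`, some function not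
vanishing at `y` lies in the extension of the prime of `y` -/
theorem exists_elt {W₀ : Y.Opens} (hW₀ : IsAffineOpen W₀) (y : Y) (hyW : y ∈ W₀)
    (hy : y ∉ Set.range g.base) (V : X.Opens) (hV : IsAffineOpen V) (e : V ≤ g ⁻¹ᵁ W₀) :
    ∃ a : Γ(Y, W₀), a ∉ (hW₀.primeIdealOf ⟨y, hyW⟩).asIdeal ∧
      (g.appLE W₀ V e).hom a ∈ (hW₀.primeIdealOf ⟨y, hyW⟩).asIdeal.map (g.appLE W₀ V e).hom := by
  by_contra hcon
  push_neg at hcon
  apply hy
  have hmem : hW₀.primeIdealOf ⟨y, hyW⟩ ∈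
      Set.range (PrimeSpectrum.comap (g.appLE W₀ V e).hom) := by
    rw [PrimeSpectrum.mem_range_comap_iff]
    apply le_antisymm
    · intro a ha
      by_contra hna
      exact hcon a hna ha
    · exact Ideal.le_comap_map
  obtain ⟨Q, hQ⟩ := hmem
  -- `Q` is the prime of a point of `V`
  let x' : ↥V := hV.isoSpec.inv Q
  have hx' : hV.primeIdealOf x' = Q := by
    change hV.isoSpec.hom (hV.isoSpec.inv Q) = Q
    rw [← Scheme.Hom.comp_apply, Iso.inv_hom_id]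
    rfl
  have h1 := IsAffineOpen.comap_primeIdealOf_appLE (f := g) W₀ hW₀ V hV e x'.2
  have h2 : hW₀.primeIdealOf ⟨g x'.1, e x'.2⟩ = hW₀.primeIdealOf ⟨y, hyW⟩ := by
    rw [← h1]
    change (hV.primeIdealOf x').comap _ = _
    rw [hx']
    exact hQ
  have hinj : Function.Injective hW₀.primeIdealOf := by
    intro a b hab
    have := congrArg hW₀.isoSpec.inv hab
    change hW₀.isoSpec.inv (hW₀.isoSpec.hom a) = hW₀.isoSpec.inv (hW₀.isoSpec.hom b) at this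
    rw [← Scheme.Hom.comp_apply, ← Scheme.Hom.comp_apply, Iso.hom_inv_id] at this
    exact this
  have h3 := congrArg Subtype.val (hinj h2)
  exact ⟨x'.1, h3⟩

end Groth.Agent.Lib.Helper27.EtSurj

namespace Groth.Agent.Lib.Helper27.EtSurj

open Groth.Agent.Lib.Helper23

variable {X Y : Scheme.{u}} (g : X ⟶ Y)

/-- a point outside the image of a quasi-compact morphism: there are opens `E ≤ W` with
`y ∈ W`, `y ∉ E` and `g⁻¹ W ≤ g⁻¹ E` -/
theorem exists_opens [QuasiCompact g] (y : Y) (hy : y ∉ Set.range g.base) :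
    ∃ W E : Y.Opens, E ≤ W ∧ y ∈ W ∧ y ∉ E ∧ g ⁻¹ᵁ W ≤ g ⁻¹ᵁ E := by
  classical
  obtain ⟨_, ⟨W₀, hW₀, rfl⟩, hyW₀, -⟩ :=
    Y.isBasis_affineOpens.exists_subset_of_mem_open (Set.mem_univ y) isOpen_univ
  have hcomp : IsCompact ((g ⁻¹ᵁ W₀ : X.Opens) : Set X) := g.isCompact_preimage hW₀.isCompact
  obtain ⟨s, hsfin, hs⟩ := isCompact_iff_finite_and_eq_biUnion_affineOpens.1 hcomp
  have hle : ∀ V ∈ s, (V : X.Opens) ≤ g ⁻¹ᵁ W₀ := fun V hV => by
    rw [hs]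
    exact le_iSup₂ (f := fun (i : X.affineOpens) (_ : i ∈ s) => (i : X.Opens)) V hV
  let 𝔭 := hW₀.primeIdealOf ⟨y, hyW₀⟩
  let a : X.affineOpens → Γ(Y, W₀) := fun V =>
    if h : (V : X.Opens) ≤ g ⁻¹ᵁ W₀ then (exists_elt g hW₀ y hyW₀ hy V.1 V.2 h).choose else 1
  have ha1 : ∀ V, a V ∉ 𝔭.asIdeal := by
    intro V
    by_cases h : (V : X.Opens) ≤ g ⁻¹ᵁ W₀
    · simp only [a, dif_pos h]
      exact (exists_elt g hW₀ y hyW₀ hy V.1 V.2 h).choose_spec.1
    · simp only [a, dif_neg h]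
      exact fun h1 => 𝔭.isPrime.ne_top ((Ideal.eq_top_iff_one _).2 h1)
  have ha2 : ∀ (V : X.affineOpens) (h : (V : X.Opens) ≤ g ⁻¹ᵁ W₀),
      (g.appLE W₀ V.1 h).hom (a V) ∈ 𝔭.asIdeal.map (g.appLE W₀ V.1 h).hom := by
    intro V h
    simp only [a, dif_pos h]
    exact (exists_elt g hW₀ y hyW₀ hy V.1 V.2 h).choose_spec.2
  let A : Γ(Y, W₀) := ∏ V ∈ hsfin.toFinset, a V
  have hA : A ∉ 𝔭.asIdeal := by
    intro h
    obtain ⟨V, -, hV⟩ := (Ideal.IsPrime.prod_mem_iff (hp := 𝔭.isPrime)).1 h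
    exact ha1 V hV
  refine ⟨Y.basicOpen A, ⨆ b : 𝔭.asIdeal, Y.basicOpen (A * b.1), ?_, ?_, ?_, ?_⟩
  · apply iSup_le
    intro b
    rw [Scheme.basicOpen_mul]
    exact inf_le_left
  · exact (mem_basicOpen_iff_notMem_primeIdealOf hW₀ y hyW₀ A).2 hA
  · intro h
    obtain ⟨b, hb⟩ := TopologicalSpace.Opens.mem_iSup.1 h
    have := (mem_basicOpen_iff_notMem_primeIdealOf hW₀ y hyW₀ (A * b.1)).1 hb
    exact this (𝔭.asIdeal.mul_mem_left A b.2)
  · intro x hx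
    have hxA : g x ∈ Y.basicOpen A := hx
    have hxW₀ : g x ∈ W₀ := Y.basicOpen_le A hxA
    have hx' : x ∈ g ⁻¹ᵁ W₀ := hxW₀
    rw [hs] at hx'
    obtain ⟨V, hx''⟩ := TopologicalSpace.Opens.mem_iSup.1 hx'
    obtain ⟨hVs, hxV⟩ := TopologicalSpace.Opens.mem_iSup.1 hx''
    have hq := IsAffineOpen.comap_primeIdealOf_appLE (f := g) W₀ hW₀ V.1 V.2 (hle V hVs) hxV
    have hAq : A ∉ (hW₀.primeIdealOf ⟨g x, hxW₀⟩).asIdeal :=
      (mem_basicOpen_iff_notMem_primeIdealOf hW₀ (g x) hxW₀ A).1 hxA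
    by_contra hnE
    have hpq : 𝔭.asIdeal ≤ (hW₀.primeIdealOf ⟨g x, hxW₀⟩).asIdeal := by
      intro b hb
      by_contra hbq
      apply hnE
      change g x ∈ ⨆ b : 𝔭.asIdeal, Y.basicOpen (A * b.1)
      apply TopologicalSpace.Opens.mem_iSup.2
      refine ⟨⟨b, hb⟩, ?_⟩
      rw [mem_basicOpen_iff_notMem_primeIdealOf hW₀ (g x) hxW₀]
      intro hAb
      rcases (hW₀.primeIdealOf ⟨g x, hxW₀⟩).isPrime.mem_or_mem hAb with h | h
      exacts [hAq h, hbq h]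
    have haq : a V ∈ (hW₀.primeIdealOf ⟨g x, hxW₀⟩).asIdeal := by
      rw [← hq]
      change (g.appLE W₀ V.1 (hle V hVs)).hom (a V) ∈ (V.2.primeIdealOf ⟨x, hxV⟩).asIdeal
      refine (Ideal.map_le_iff_le_comap.2 ?_) (ha2 V (hle V hVs))
      have : (V.2.primeIdealOf ⟨x, hxV⟩).asIdeal.comap (g.appLE W₀ V.1 (hle V hVs)).hom =
          (hW₀.primeIdealOf ⟨g x, hxW₀⟩).asIdeal := congrArg PrimeSpectrum.asIdeal hq
      rw [this]
      exact hpq
    apply hAq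
    exact Ideal.mem_of_dvd _ (Finset.dvd_prod_of_mem a (hsfin.mem_toFinset.2 hVs)) haq

end Groth.Agent.Lib.Helper27.EtSurj
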