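import Groth.Agent.S0644
import Groth.Agent.Lib.Helper23.EtSubcanonical
import Groth.Agent.Lib.Helper23.EtGlue2
import Groth.Prelude.Def_EtAcyc

/-!
# A faithful inverse image functor on sheaves of sets forces surjectivity (helper27)
-/

set_option autoImplicit false
set_option backward.isDefEq.respectTransparency false
universe u
open CategoryTheory Limits Opposite AlgebraicGeometry
open Groth.Agent.Lib.Helper23.EtGlue Groth.Agent.Lib.Helper23.EtSubcanonical

namespace Groth.Agent.Lib.Helper27.EtSurj

set_option backward.isDefEq.respectTransparency.types false in
/-- sections of a sheaf of sets agreeing after restriction along a surjective morphism are equal -/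
theorem eq_of_map_eq_of_surjective {X : Scheme.{u}} (G : EtDesc.Sh X) {T T' : X.Etale} (m : T' ⟶ T)
    (hm : Function.Surjective m.left) (a b : G.obj.obj (op T))
    (h : G.obj.map m.op a = G.obj.map m.op b) : a = b := by
  let R : Sieve T :=
    { arrows := fun V k => G.obj.map k.op a = G.obj.map k.op b
      downward_closed := by
        intro V V' k hk c
        rw [op_comp, Functor.map_comp]
        simp only [types_comp_apply]
        rw [hk] }
  have hR : R ∈ X.smallEtaleTopology T := by
    apply sieve_mem_of_forall_point
    intro t
    obtain ⟨t', ht'⟩ := hm t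
    exact ⟨T', m, h, ⟨t', ht'⟩⟩
  have hsep := ((isSheaf_iff_isSheaf_of_type _ _).1 G.2).isSeparated _ hR
  apply hsep.ext
  intro V k hk
  exact hk

end Groth.Agent.Lib.Helper27.EtSurj
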