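import Groth.Agent.Lib.Helper27.EtSurj2
import Groth.Prelude.Def_EtOpen

set_option autoImplicit false
set_option backward.isDefEq.respectTransparency false
universe u
open CategoryTheory Limits Opposite AlgebraicGeometry
open Groth.Agent.Lib.Helper23.EtGlue Groth.Agent.Lib.Helper23.EtSubcanonical

namespace Groth.Agent.Lib.Helper27.EtSurj

variable {S X' : Scheme.{u}} (g' : X' ⟶ S) (E' : S.Opens)

/-- the open `E'` as an object of the small étale site, mapping to the terminal object -/
noncomputable def mE : EtDesc.ofOpen E' ⟶ EtCoh.top S :=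
  MorphismProperty.Over.homMk E'.ι (by
    change E'.ι ≫ 𝟙 S = E'.ι
    rw [Category.comp_id]) trivial

/-- the inclusion of the subterminal sheaf attached to `E'` -/
noncomputable def ιE : (S.smallEtaleTopology.uliftYoneda.{u + 1}).obj (EtDesc.ofOpen E') ⟶
    (S.smallEtaleTopology.uliftYoneda.{u + 1}).obj (EtCoh.top S) :=
  (S.smallEtaleTopology.uliftYoneda.{u + 1}).map (mE E')

instance mono_ιE : Mono (ιE E') := by
  constructor
  intro Z a b _
  apply Sheaf.hom_ext
  ext T s
  apply ULift.ext
  exact @Subsingleton.elim _ (Groth.Agent.S0644.subsingleton_hom E' T.unop) _ _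

variable {g' E'}

set_option backward.isDefEq.respectTransparency.types false in
theorem surjective_bc_mE (hE : ∀ x' : X', g' x' ∈ E') :
    Function.Surjective ((EtCoh.bc g').map (mE E')).left := by
  intro z
  let x' : X' := (pullback.snd (EtCoh.top S).hom g') z
  obtain ⟨e, he⟩ : ∃ e : E'.toScheme, E'.ι e = g' x' := by
    have h : g' x' ∈ Set.range E'.ι := by
      rw [Scheme.Opens.range_ι]
      exact hE x'
    exact h
  obtain ⟨z', hz1, hz2⟩ := Scheme.Pullback.exists_preimage_pullback (f := E'.ι) (g := g') e x' he
  refine ⟨z', ?_⟩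
  have hinj : Function.Injective (pullback.snd (EtCoh.top S).hom g') := by
    haveI : IsIso (EtCoh.top S).hom := by
      change IsIso (𝟙 S)
      infer_instance
    haveI : IsIso (pullback.snd (EtCoh.top S).hom g') := inferInstance
    exact (Scheme.homeoOfIso (asIso (pullback.snd (EtCoh.top S).hom g'))).injective
  apply hinj
  have h1 : ((EtCoh.bc g').map (mE E')).left ≫ pullback.snd (EtCoh.top S).hom g' =
      pullback.snd (EtDesc.ofOpen E').hom g' :=
    MorphismProperty.Over.w ((EtCoh.bc g').map (mE E'))
  change (((EtCoh.bc g').map (mE E')).left ≫ pullback.snd (EtCoh.top S).hom g') z' = x'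
  rw [h1]
  exact hz2

end Groth.Agent.Lib.Helper27.EtSurj
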