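import Groth.Agent.Lib.Helper27.EtSurj3

set_option autoImplicit false
set_option backward.isDefEq.respectTransparency false
universe u
open CategoryTheory Limits Opposite AlgebraicGeometry
open Groth.Agent.Lib.Helper23.EtGlue Groth.Agent.Lib.Helper23.EtSubcanonical

namespace Groth.Agent.Lib.Helper27.EtSurj

variable {S X' : Scheme.{u}} {g' : X' ⟶ S} {E' : S.Opens}

set_option backward.isDefEq.respectTransparency.types false in
/-- after pulling back along a morphism landing in `E'`, the inclusion `h_{E'} ⟶ h_S` is epi -/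
theorem epi_pull_ιE (hE : ∀ x' : X', g' x' ∈ E') : Epi ((EtDesc.pullSh g').map (ιE E')) := by
  constructor
  intro G u v huv
  apply ((EtDesc.adjSh g').homEquiv _ _).injective
  have h1 := (EtDesc.adjSh g').homEquiv_naturality_left (ιE E') u
  have h2 := (EtDesc.adjSh g').homEquiv_naturality_left (ιE E') v
  have h3 : ιE E' ≫ (EtDesc.adjSh g').homEquiv _ _ u = ιE E' ≫ (EtDesc.adjSh g').homEquiv _ _ v := by
    rw [← h1, ← h2, huv]
  apply (S.smallEtaleTopology.uliftYonedaEquiv.{u + 1}).injective
  have h4 := congrArg (S.smallEtaleTopology.uliftYonedaEquiv.{u + 1}) h3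
  unfold ιE at h4
  rw [← GrothendieckTopology.uliftYonedaEquiv_naturality,
    ← GrothendieckTopology.uliftYonedaEquiv_naturality] at h4
  exact eq_of_map_eq_of_surjective G ((EtCoh.bc g').map (mE E')) (surjective_bc_mE hE) _ _ h4

set_option backward.isDefEq.respectTransparency.types false in
/-- if the inverse image functor along `g'` is faithful, an open containing the image of `g'` is
everything -/
theorem eq_top_of_faithful (hE : ∀ x' : X', g' x' ∈ E') [(EtDesc.pullSh g').Faithful] : E' = ⊤ := by
  haveI := epi_pull_ιE hE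
  haveI : Epi (ιE E') := Functor.epi_of_epi_map (EtDesc.pullSh g') inferInstance
  haveI : IsIso (ιE E') := isIso_of_mono_of_epi _
  let r : ULift.{u + 1} (EtCoh.top S ⟶ EtDesc.ofOpen E') :=
    S.smallEtaleTopology.uliftYonedaEquiv.{u + 1} (inv (ιE E'))
  let φ : EtCoh.top S ⟶ EtDesc.ofOpen E' := r.down
  have hφ : φ.left ≫ E'.ι = 𝟙 S := MorphismProperty.Over.w φ
  rw [eq_top_iff]
  intro s _
  have h1 : s = E'.ι (φ.left s) := by
    change s = (φ.left ≫ E'.ι) s
    rw [hφ]
    rfl
  rw [h1]
  have : E'.ι (φ.left s) ∈ Set.range E'.ι := ⟨_, rfl⟩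
  rw [Scheme.Opens.range_ι] at this
  exact this

end Groth.Agent.Lib.Helper27.EtSurj
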