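import Groth.Agent.Lib.Helper27.EtSurj1
import Groth.Agent.Lib.Helper27.EtSurj4
import Groth.Agent.S3047

set_option autoImplicit false
set_option backward.isDefEq.respectTransparency false
universe u
open CategoryTheory Limits Opposite AlgebraicGeometry

namespace Groth.Agent.Lib.Helper27.EtSurj

variable {X Y : Scheme.{u}} (g : X ⟶ Y)

theorem minusOneAcyclic_of_surjective (hg : Function.Surjective g.base) :
    EtAcyc.IsMinusOneAcyclic g := by
  intro V F
  haveI : Surjective g := ⟨hg⟩
  haveI : Surjective (EtAcyc.prj g V) := inferInstance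
  haveI := (Groth.Agent.S3047.result (EtAcyc.prj g V)).1
  infer_instance

theorem surjective_of_minusOneAcyclic [QuasiCompact g] (h : EtAcyc.IsMinusOneAcyclic g) :
    Function.Surjective g.base := by
  intro y
  by_contra hy
  obtain ⟨W, E, -, hyW, hyE, hpre⟩ := exists_opens g y hy
  let V : Y.Etale := EtDesc.ofOpen W
  haveI : ∀ F, Mono ((EtDesc.adjSh (EtAcyc.prj g V)).unit.app F) := h V
  haveI : (EtDesc.pullSh (EtAcyc.prj g V)).Faithful :=
    (EtDesc.adjSh (EtAcyc.prj g V)).faithful_L_of_mono_unit_app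
  let E' : (W.toScheme).Opens := W.ι ⁻¹ᵁ E
  have hE : ∀ x' : ↥(pullback V.hom g), (EtAcyc.prj g V) x' ∈ E' := by
    intro x'
    change W.ι ((pullback.fst W.ι g) x') ∈ E
    have h1 : W.ι ((pullback.fst W.ι g) x') = g ((pullback.snd W.ι g) x') := by
      change (pullback.fst W.ι g ≫ W.ι) x' = (pullback.snd W.ι g ≫ g) x'
      rw [pullback.condition]
    rw [h1]
    apply hpre
    change g ((pullback.snd W.ι g) x') ∈ W
    rw [← h1]
    have : W.ι ((pullback.fst W.ι g) x') ∈ Set.range W.ι := ⟨_, rfl⟩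
    rw [Scheme.Opens.range_ι] at this
    exact this
  have htop : E' = ⊤ := eq_top_of_faithful (g' := EtAcyc.prj g V) hE
  apply hyE
  have h2 : (⟨y, hyW⟩ : ↥W) ∈ E' := by
    rw [htop]
    trivial
  exact h2

end Groth.Agent.Lib.Helper27.EtSurj
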