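import Groth.Agent.Lib.Helper27.EtExc6
import Mathlib.CategoryTheory.Sites.CoverLifting

/-!
# Tensor products of abelian étale sheaves: functoriality and restriction to étale schemes (helper27)
-/

set_option autoImplicit false
set_option backward.isDefEq.respectTransparency false
universe u
open CategoryTheory Limits Opposite AlgebraicGeometry Abelian TensorProduct
open Groth.Agent.Lib.Helper23.EtRestr Groth.Agent.Lib.Helper23.EtGlue

namespace Groth.Agent.Lib.Helper27.EtTate

section Funct

variable {X : Scheme.{u}} {F F' F'' G G' G'' : EtCoh.Ab X}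

/-- the ℤ-linear map underlying a component of a morphism of sheaves -/
noncomputable abbrev appLin (φ : F ⟶ F') (U : X.Etaleᵒᵖ) : F.obj.obj U →ₗ[ℤ] F'.obj.obj U :=
  (φ.hom.app U).hom.toIntLinearMap

theorem appLin_comp_resLin (φ : F ⟶ F') {U V : X.Etaleᵒᵖ} (f : U ⟶ V) :
    (appLin φ V).comp (EtDual.resLin F f) = (EtDual.resLin F' f).comp (appLin φ U) := by
  ext a
  have nat := ConcreteCategory.congr_hom (φ.hom.naturality f) a
  simp only [ConcreteCategory.comp_apply] at nat
  exact nat

/-- functoriality of the presheaf tensor product -/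
noncomputable def tensorPreMap (φ : F ⟶ F') (ψ : G ⟶ G') :
    EtDual.tensorPre F G ⟶ EtDual.tensorPre F' G' where
  app U := AddCommGrpCat.ofHom (TensorProduct.map (appLin φ U) (appLin ψ U)).toAddMonoidHom
  naturality U V f := by
    have h : (TensorProduct.map (appLin φ V) (appLin ψ V)).comp
        (TensorProduct.map (EtDual.resLin F f) (EtDual.resLin G f)) =
        (TensorProduct.map (EtDual.resLin F' f) (EtDual.resLin G' f)).comp
          (TensorProduct.map (appLin φ U) (appLin ψ U)) := by
      rw [← TensorProduct.map_comp, ← TensorProduct.map_comp, appLin_comp_resLin,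
        appLin_comp_resLin]
    ext t
    exact LinearMap.congr_fun h t

theorem tensorPreMap_id : tensorPreMap (𝟙 F) (𝟙 G) = 𝟙 (EtDual.tensorPre F G) := by
  ext U t
  have h1 : appLin (𝟙 F) U = LinearMap.id := by ext a; rfl
  have h2 : appLin (𝟙 G) U = LinearMap.id := by ext a; rfl
  change (TensorProduct.map (appLin (𝟙 F) U) (appLin (𝟙 G) U)) t = t
  rw [h1, h2, TensorProduct.map_id]
  rfl

theorem tensorPreMap_comp (φ : F ⟶ F') (ψ : G ⟶ G') (φ' : F' ⟶ F'') (ψ' : G' ⟶ G'') :
    tensorPreMap φ ψ ≫ tensorPreMap φ' ψ' = tensorPreMap (φ ≫ φ') (ψ ≫ ψ') := by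
  ext U t
  have h1 : appLin (φ ≫ φ') U = (appLin φ' U).comp (appLin φ U) := by ext a; rfl
  have h2 : appLin (ψ ≫ ψ') U = (appLin ψ' U).comp (appLin ψ U) := by ext a; rfl
  change (TensorProduct.map (appLin φ' U) (appLin ψ' U))
    ((TensorProduct.map (appLin φ U) (appLin ψ U)) t) =
      (TensorProduct.map (appLin (φ ≫ φ') U) (appLin (ψ ≫ ψ') U)) t
  rw [h1, h2, TensorProduct.map_comp]
  rfl

/-- the presheaf tensor product of isomorphisms -/
noncomputable def tensorPreIso (e₁ : F ≅ F') (e₂ : G ≅ G') :
    EtDual.tensorPre F G ≅ EtDual.tensorPre F' G' where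
  hom := tensorPreMap e₁.hom e₂.hom
  inv := tensorPreMap e₁.inv e₂.inv
  hom_inv_id := by rw [tensorPreMap_comp, Iso.hom_inv_id, Iso.hom_inv_id, tensorPreMap_id]
  inv_hom_id := by rw [tensorPreMap_comp, Iso.inv_hom_id, Iso.inv_hom_id, tensorPreMap_id]

/-- the tensor product of isomorphisms -/
noncomputable def tensorAbIso (e₁ : F ≅ F') (e₂ : G ≅ G') :
    EtDual.tensorAb F G ≅ EtDual.tensorAb F' G' :=
  (presheafToSheaf X.smallEtaleTopology AddCommGrpCat.{u + 1}).mapIso (tensorPreIso e₁ e₂)

end Funct

section Restr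

variable {V X : Scheme.{u}} (v : V ⟶ X) [Etale v]

set_option backward.isDefEq.respectTransparency.types false in
instance cocont_compEtale :
    (EtShriek.compEtale v).IsCocontinuous V.smallEtaleTopology X.smallEtaleTopology where
  cover_lift {W'} S hS := by
    apply sieve_mem_of_forall_point
    intro w
    obtain ⟨T, g, hg, hw⟩ := exists_arrow_of_mem S hS w
    have e0 : g.left ≫ W'.hom ≫ v = T.hom := MorphismProperty.Over.w g
    have hW : EtCoh.etaleMP ((g.left ≫ W'.hom) ≫ v) := by
      rw [Category.assoc, e0]; exact T.prop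
    have hv : EtCoh.etaleMP v := ‹Etale v›
    let T' : V.Etale := MorphismProperty.Over.mk ⊤ (g.left ≫ W'.hom)
      (EtCoh.etaleMP.of_postcomp (W' := EtCoh.etaleMP) (g.left ≫ W'.hom) v hv hW)
    let g' : T' ⟶ W' := MorphismProperty.Over.homMk g.left rfl trivial
    let e : (EtShriek.compEtale v).obj T' ≅ T :=
      MorphismProperty.Over.isoMk (Iso.refl _)
        ((Category.id_comp T.hom).trans (e0.symm.trans (Category.assoc _ _ _).symm))
    have he : (EtShriek.compEtale v).map g' = e.hom ≫ g := by
      apply hom_ext_of_left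
      change g.left = 𝟙 _ ≫ g.left
      rw [Category.id_comp]
    refine ⟨T', g', ?_, hw⟩
    change S ((EtShriek.compEtale v).map g')
    rw [he]
    exact S.downward_closed hg _

/-- restriction commutes with the presheaf tensor product -/
noncomputable def restrTensorPreIso (F G : EtCoh.Ab X) :
    (EtShriek.compEtale v).op ⋙ EtDual.tensorPre F G ≅
      EtDual.tensorPre ((EtShriek.restrAlong v).obj F) ((EtShriek.restrAlong v).obj G) :=
  NatIso.ofComponents (fun _ => Iso.refl _) (by
    intro U U' f
    ext t
    rfl)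

/-- restriction to an étale `X`-scheme commutes with the tensor product of sheaves -/
noncomputable def restrTensorIso (F G : EtCoh.Ab X) :
    (EtShriek.restrAlong v).obj (EtDual.tensorAb F G) ≅
      EtDual.tensorAb ((EtShriek.restrAlong v).obj F) ((EtShriek.restrAlong v).obj G) :=
  ((EtShriek.compEtale v).pushforwardContinuousSheafificationCompatibility AddCommGrpCat.{u + 1}
    V.smallEtaleTopology X.smallEtaleTopology).symm.app (EtDual.tensorPre F G) ≪≫
  (presheafToSheaf V.smallEtaleTopology AddCommGrpCat.{u + 1}).mapIso (restrTensorPreIso v F G)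

/-- inverse image along an étale morphism commutes with the tensor product of sheaves -/
noncomputable def pullTensorIso (F G : EtCoh.Ab X) :
    (EtCoh.pull v).obj (EtDual.tensorAb F G) ≅
      EtDual.tensorAb ((EtCoh.pull v).obj F) ((EtCoh.pull v).obj G) :=
  (pullIsoRestr v).app _ ≪≫ restrTensorIso v F G ≪≫
    tensorAbIso ((pullIsoRestr v).app F).symm ((pullIsoRestr v).app G).symm

end Restr

end Groth.Agent.Lib.Helper27.EtTate
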