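import Mathlib.AlgebraicGeometry.ResidueField
import Mathlib.RingTheory.RootsOfUnity.PrimitiveRoots
import Mathlib.Topology.LocallyConstant.Algebra

/-!
# Roots of unity on a scheme with a "good" primitive root of unity (helper27)

`ζ ∈ Γ(T, ⊤)` with `ζⁿ = 1`, `ζᵏ - 1` invertible for `0 < k < n` and `n` invertible.  Then every
`x` with `xⁿ = 1` is, locally on `T`, a power of `ζ`; the exponent is a locally constant function
`T → ZMod n`.
-/

set_option autoImplicit false
universe u
open CategoryTheory AlgebraicGeometry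

namespace Groth.Agent.Lib.Helper27.EtTate

/-- a good primitive `n`-th root of unity on a scheme -/
structure Good (T : Scheme.{u}) (n : ℕ) (ζ : Γ(T, ⊤)) : Prop where
  pos : 0 < n
  pow : ζ ^ n = 1
  unit_sub : ∀ k, 0 < k → k < n → IsUnit (ζ ^ k - 1)
  unit_n : IsUnit (n : Γ(T, ⊤))

section

variable {T : Scheme.{u}} {n : ℕ} {ζ : Γ(T, ⊤)}

theorem Good.map (h : Good T n ζ) {T' : Scheme.{u}} (g : T' ⟶ T) :
    Good T' n (g.appTop ζ) where
  pos := h.pos
  pow := by rw [← map_pow, h.pow, map_one]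
  unit_sub k hk hk' := by
    have := (h.unit_sub k hk hk').map g.appTop.hom
    rwa [map_sub, map_pow, map_one] at this
  unit_n := by
    have := h.unit_n.map g.appTop.hom
    rwa [map_natCast] at this

/-- the value of a global function at a point -/
noncomputable abbrev ev (t : T) : Γ(T, ⊤) →+* T.residueField t := (T.Γevaluation t).hom

theorem Good.isPrimitiveRoot (h : Good T n ζ) (t : T) : IsPrimitiveRoot (ev t ζ) n := by
  refine IsPrimitiveRoot.mk_of_lt _ h.pos ?_ ?_
  · rw [← map_pow, h.pow, map_one]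
  · intro l hl hl' h1
    have hu := (h.unit_sub l hl hl').map (ev t)
    rw [map_sub, map_pow, map_one, h1, sub_self] at hu
    exact not_isUnit_zero hu

theorem isUnit_of_forall_ev_ne_zero (f : Γ(T, ⊤)) (hf : ∀ t : T, ev t f ≠ 0) : IsUnit f := by
  apply T.toRingedSpace.isUnit_of_isUnit_germ ⊤ f
  intro t ht
  have h1 : t ∈ T.basicOpen f :=
    (T.evaluation_ne_zero_iff_mem_basicOpen (U := ⊤) t trivial f).1 (hf t)
  exact (T.mem_basicOpen f t ht).1 h1

/-- the exponent of `x` with respect to `ζ` at the point `t` -/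
noncomputable def idx (n : ℕ) [NeZero n] (ζ x : Γ(T, ⊤)) (t : T) : ZMod n :=
  Classical.epsilon fun a : ZMod n => ev t x = ev t ζ ^ a.val

variable [NeZero n]

theorem Good.exists_idx (h : Good T n ζ) {x : Γ(T, ⊤)} (hx : x ^ n = 1) (t : T) :
    ∃ a : ZMod n, ev t x = ev t ζ ^ a.val := by
  have hx' : ev t x ^ n = 1 := by rw [← map_pow, hx, map_one]
  obtain ⟨i, hi, hi'⟩ := (h.isPrimitiveRoot t).eq_pow_of_pow_eq_one hx'
  exact ⟨(i : ZMod n), by rw [ZMod.val_cast_of_lt hi, hi']⟩

theorem Good.idx_spec (h : Good T n ζ) {x : Γ(T, ⊤)} (hx : x ^ n = 1) (t : T) :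
    ev t x = ev t ζ ^ (idx n ζ x t).val :=
  Classical.epsilon_spec (h.exists_idx hx t)

theorem Good.idx_eq_iff (h : Good T n ζ) {x : Γ(T, ⊤)} (hx : x ^ n = 1) (t : T) (a : ZMod n) :
    idx n ζ x t = a ↔ ev t x = ev t ζ ^ a.val := by
  constructor
  · rintro rfl
    exact h.idx_spec hx t
  · intro ha
    apply ZMod.val_injective n
    apply (h.isPrimitiveRoot t).pow_inj (ZMod.val_lt _) (ZMod.val_lt _)
    rw [← h.idx_spec hx t, ha]

theorem pow_val_add {R : Type*} [Monoid R] {z : R} (hz : z ^ n = 1) (a b : ZMod n) :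
    z ^ (a + b).val = z ^ a.val * z ^ b.val := by
  rw [ZMod.val_add, ← pow_add, pow_eq_pow_mod (a.val + b.val) hz]

theorem Good.idx_mul (h : Good T n ζ) {x y : Γ(T, ⊤)} (hx : x ^ n = 1) (hy : y ^ n = 1) (t : T) :
    idx n ζ (x * y) t = idx n ζ x t + idx n ζ y t := by
  have hxy : (x * y) ^ n = 1 := by rw [mul_pow, hx, hy, one_mul]
  rw [h.idx_eq_iff hxy]
  have hz : ev t ζ ^ n = 1 := by rw [← map_pow, h.pow, map_one]
  rw [pow_val_add hz, map_mul, ← h.idx_spec hx t, ← h.idx_spec hy t]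

theorem Good.idx_pow (h : Good T n ζ) (k : ℕ) (t : T) :
    idx n ζ (ζ ^ k) t = (k : ZMod n) := by
  have hk : (ζ ^ k) ^ n = 1 := by rw [← pow_mul, mul_comm, pow_mul, h.pow, one_pow]
  rw [h.idx_eq_iff hk]
  have hz : ev t ζ ^ n = 1 := by rw [← map_pow, h.pow, map_one]
  rw [map_pow, ZMod.val_natCast, ← pow_eq_pow_mod k hz]

theorem Good.idx_map (h : Good T n ζ) {x : Γ(T, ⊤)} (hx : x ^ n = 1) {T' : Scheme.{u}}
    (g : T' ⟶ T) (t' : T') :
    idx n (g.appTop ζ) (g.appTop x) t' = idx n ζ x (g t') := by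
  have hx' : (g.appTop x) ^ n = 1 := by rw [← map_pow, hx, map_one]
  rw [(h.map g).idx_eq_iff hx']
  have e1 : ∀ a : Γ(T, ⊤), ev t' (g.appTop a) = g.residueFieldMap t' (ev (g t') a) :=
    fun a => (Scheme.Γevaluation_naturality_apply g t' a).symm
  rw [e1, e1, h.idx_spec hx (g t'), map_pow]

/-- the fibres of the exponent are closed -/
theorem Good.isClosed_fiber (h : Good T n ζ) {x : Γ(T, ⊤)} (hx : x ^ n = 1) (a : ZMod n) :
    IsClosed {t : T | idx n ζ x t = a} := by
  have : {t : T | idx n ζ x t = a} = ((T.basicOpen (x - ζ ^ a.val) : T.Opens) : Set T)ᶜ := by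
    ext t
    simp only [Set.mem_ofPred_eq, Set.mem_compl_iff, SetLike.mem_coe]
    rw [h.idx_eq_iff hx, ← T.evaluation_eq_zero_iff_notMem_basicOpen (U := ⊤) t trivial]
    change _ ↔ ev t (x - ζ ^ a.val) = 0
    rw [map_sub, map_pow, sub_eq_zero]
  rw [this]
  exact (T.basicOpen _).isOpen.isClosed_compl

theorem Good.isLocallyConstant_idx (h : Good T n ζ) {x : Γ(T, ⊤)} (hx : x ^ n = 1) :
    IsLocallyConstant (idx n ζ x) := by
  rw [IsLocallyConstant.iff_isOpen_fiber]
  intro a
  have : idx n ζ x ⁻¹' {a} = (⋃ b ∈ (Finset.univ.erase a : Finset (ZMod n)),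
      {t : T | idx n ζ x t = b})ᶜ := by
    ext t
    simp only [Set.mem_preimage, Set.mem_singleton_iff, Finset.mem_erase, Finset.mem_univ,
      and_true, Set.mem_compl_iff, Set.mem_iUnion, Set.mem_ofPred_eq, exists_prop, not_exists,
      not_and]
    constructor
    · intro ht b hb hb'
      exact hb (hb'.symm.trans ht)
    · intro ht
      by_contra hne
      exact ht _ hne rfl
  rw [this]
  exact (isClosed_biUnion_finset (fun b _ => h.isClosed_fiber hx b)).isOpen_compl

/-- if the exponent of `x` vanishes identically then `x = 1` -/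
theorem Good.eq_one_of_idx_eq_zero (h : Good T n ζ) {x : Γ(T, ⊤)} (hx : x ^ n = 1)
    (h0 : ∀ t, idx n ζ x t = 0) : x = 1 := by
  have hev : ∀ t, ev t x = 1 := by
    intro t
    have := (h.idx_eq_iff hx t 0).1 (h0 t)
    rwa [ZMod.val_zero, pow_zero] at this
  have hs : IsUnit (∑ i ∈ Finset.range n, x ^ i) := by
    apply isUnit_of_forall_ev_ne_zero
    intro t
    rw [map_sum]
    simp only [map_pow, hev t, one_pow, Finset.sum_const, Finset.card_range, nsmul_eq_mul,
      mul_one]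
    have hu := h.unit_n.map (ev t)
    rw [map_natCast] at hu
    exact hu.ne_zero
  have hmul : (x - 1) * ∑ i ∈ Finset.range n, x ^ i = 0 := by
    rw [mul_comm, geom_sum_mul, hx, sub_self]
  have := hs.mul_left_eq_zero.1 hmul
  exact sub_eq_zero.1 this

end

end Groth.Agent.Lib.Helper27.EtTate
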