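import Groth.Agent.Lib.Helper27.EtTate1
import Groth.Agent.Lib.Helper27.EtTate2
import Groth.Agent.Lib.Helper27.EtTorsion2
import Groth.Agent.Lib.Helper23.LCSheaf

/-!
# `μ_n ≅ ℤ/n` on a scheme with a good primitive root of unity (helper27)
-/

set_option autoImplicit false
set_option backward.isDefEq.respectTransparency false
universe u
open CategoryTheory Limits Opposite AlgebraicGeometry Abelian
open Groth.Agent.Lib.Helper23.EtRestr Groth.Agent.Lib.Helper23.EtGlue
  Groth.Agent.Lib.Helper27.EtH90 Groth.Agent.Lib.Helper23.LCSheaf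

namespace Groth.Agent.Lib.Helper27.EtTate

section Mu

variable {V : Scheme.{u}} (n : ℕ) {W W' : V.Etale}

/-- sections of `G_m`, unfolded -/
noncomputable def gmVal (z : (EtCoh.Gm V).obj.obj (op W)) : (Γ(W.left, ⊤))ˣ :=
  Additive.toMul ((z : ULift.{u + 1} (Additive (Γ(W.left, ⊤))ˣ)).down)

/-- units as sections of `G_m` -/
noncomputable def gmOf (a : (Γ(W.left, ⊤))ˣ) : (EtCoh.Gm V).obj.obj (op W) :=
  (ULift.up (Additive.ofMul a) : ULift.{u + 1} (Additive (Γ(W.left, ⊤))ˣ))

theorem gmVal_gmOf (a : (Γ(W.left, ⊤))ˣ) : gmVal (V := V) (gmOf a) = a := rfl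

theorem gmOf_gmVal (z : (EtCoh.Gm V).obj.obj (op W)) : gmOf (gmVal z) = z := rfl

theorem gmVal_add (z z' : (EtCoh.Gm V).obj.obj (op W)) : gmVal (z + z') = gmVal z * gmVal z' := rfl

theorem gmVal_zero : gmVal (0 : (EtCoh.Gm V).obj.obj (op W)) = 1 := rfl

theorem gmVal_nsmul (k : ℕ) (z : (EtCoh.Gm V).obj.obj (op W)) : gmVal (k • z) = gmVal z ^ k := by
  induction k with
  | zero => rw [zero_nsmul, pow_zero]; rfl
  | succ k ih => rw [succ_nsmul, pow_succ, gmVal_add, ih]

theorem gmVal_injective : Function.Injective (gmVal (V := V) (W := W)) := by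
  intro z z' h
  have : gmOf (gmVal z) = gmOf (gmVal z') := by rw [h]
  exact this

theorem gmVal_map (g : W' ⟶ W) (z : (EtCoh.Gm V).obj.obj (op W)) :
    gmVal ((EtCoh.Gm V).obj.map g.op z) = Units.map g.left.appTop.hom.toMonoidHom (gmVal z) := rfl

/-- sections of `μ_n` as units -/
noncomputable def muVal (y : (EtCoh.mu V n).obj.obj (op W)) : (Γ(W.left, ⊤))ˣ :=
  gmVal ((EtCoh.muι V n).hom.app (op W) y)

theorem powMap_app (z : (EtCoh.Gm V).obj.obj (op W)) :
    (EtCoh.powMap V n).hom.app (op W) z = n • z :=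
  Groth.Agent.Lib.Helper27.EtTransport.nsmul_id_app (EtCoh.Gm V) n W z

theorem muVal_pow (y : (EtCoh.mu V n).obj.obj (op W)) : muVal n y ^ n = 1 := by
  have h := congrArg (fun φ => φ.hom.app (op W)) (kernel.condition (EtCoh.powMap V n))
  have h' := ConcreteCategory.congr_hom h y
  have h2 : (EtCoh.powMap V n).hom.app (op W) ((EtCoh.muι V n).hom.app (op W) y) = 0 := h'
  rw [powMap_app] at h2
  have h3 := congrArg gmVal h2
  rw [gmVal_nsmul, gmVal_zero] at h3
  exact h3

theorem muVal_add (y y' : (EtCoh.mu V n).obj.obj (op W)) :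
    muVal n (y + y') = muVal n y * muVal n y' := by
  unfold muVal
  rw [map_add, gmVal_add]

theorem muVal_map (g : W' ⟶ W) (y : (EtCoh.mu V n).obj.obj (op W)) :
    muVal n ((EtCoh.mu V n).obj.map g.op y) =
      Units.map g.left.appTop.hom.toMonoidHom (muVal n y) := by
  unfold muVal
  have nat := ConcreteCategory.congr_hom ((EtCoh.muι V n).hom.naturality g.op) y
  simp only [ConcreteCategory.comp_apply] at nat
  rw [nat, gmVal_map]

theorem muVal_injective : Function.Injective (muVal (V := V) n (W := W)) := by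
  intro y y' h
  have hm : Mono ((secT W).map (EtCoh.muι V n)) := by
    haveI : Mono (EtCoh.muι V n) := inferInstanceAs (Mono (kernel.ι (EtCoh.powMap V n)))
    infer_instance
  exact (AddCommGrpCat.mono_iff_injective _).1 hm (gmVal_injective h)

theorem exists_muVal_eq (a : (Γ(W.left, ⊤))ˣ) (ha : a ^ n = 1) :
    ∃ y : (EtCoh.mu V n).obj.obj (op W), muVal n y = a := by
  have hex := (ShortComplex.exact_kernel (EtCoh.powMap V n)).map_of_mono_of_preservesKernel
    (secT W) inferInstance inferInstance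
  rw [ShortComplex.ab_exact_iff] at hex
  have h0 : (EtCoh.powMap V n).hom.app (op W) (gmOf a) = 0 := by
    rw [powMap_app]
    apply gmVal_injective
    rw [gmVal_nsmul, gmVal_gmOf, ha, gmVal_zero]
  obtain ⟨y, hy⟩ := hex (gmOf a) h0
  refine ⟨y, ?_⟩
  have : (EtCoh.muι V n).hom.app (op W) y = gmOf a := hy
  unfold muVal
  rw [this, gmVal_gmOf]

end Mu

section Psi

variable {V : Scheme.{u}} {n : ℕ} [NeZero n] {ζ : Γ(V, ⊤)} (h : Good V n ζ)

/-- the root of unity `ζ` on an étale `V`-scheme -/
noncomputable abbrev ζW (ζ : Γ(V, ⊤)) (W : V.Etale) : Γ(W.left, ⊤) := W.hom.appTop ζ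

theorem ζW_map {W W' : V.Etale} (g : W' ⟶ W) : g.left.appTop (ζW ζ W) = ζW ζ W' := by
  have hw : g.left ≫ W.hom = W'.hom := MorphismProperty.Over.w g
  change (W.hom.appTop ≫ g.left.appTop) ζ = _
  rw [← Scheme.Hom.comp_appTop, hw]
  rfl

omit [NeZero n] in
theorem muVal_pow' {W : V.Etale} (y : (EtCoh.mu V n).obj.obj (op W)) :
    ((muVal n y : (Γ(W.left, ⊤))ˣ) : Γ(W.left, ⊤)) ^ n = 1 := by
  have := congrArg Units.val (muVal_pow n y)
  rwa [Units.val_pow_eq_pow_val] at this

/-- the exponent of a section of `μ_n`, as a locally constant function -/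
noncomputable def psiFun {W : V.Etale} (y : (EtCoh.mu V n).obj.obj (op W)) :
    ULift.{u + 1} (LocallyConstant W.left (ZMod n)) :=
  ULift.up ⟨idx n (ζW ζ W) ((muVal n y : (Γ(W.left, ⊤))ˣ) : Γ(W.left, ⊤)),
    (h.map W.hom).isLocallyConstant_idx (muVal_pow' y)⟩

theorem psiFun_apply {W : V.Etale} (y : (EtCoh.mu V n).obj.obj (op W)) (t : W.left) :
    (psiFun h y).down t = idx n (ζW ζ W) ((muVal n y : (Γ(W.left, ⊤))ˣ) : Γ(W.left, ⊤)) t := rfl

/-- `μ_n → ℤ/n`, the exponent with respect to `ζ` -/
noncomputable def psi : EtCoh.mu V n ⟶ LC V (ZMod n) where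
  hom :=
    { app := fun W => AddCommGrpCat.ofHom
        (AddMonoidHom.mk' (psiFun h (W := W.unop)) (by
          intro y y'
          apply ULift.ext
          apply LocallyConstant.ext
          intro t
          change idx n _ _ t = idx n _ _ t + idx n _ _ t
          rw [muVal_add, Units.val_mul]
          exact (h.map W.unop.hom).idx_mul (muVal_pow' y) (muVal_pow' y') t))
      naturality := by
        intro W W' g
        ext y
        apply ULift.ext
        apply LocallyConstant.ext
        intro t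
        have e1 : muVal n ((EtCoh.mu V n).obj.map g y) =
            Units.map g.unop.left.appTop.hom.toMonoidHom (muVal n y) := muVal_map n g.unop y
        have e2 := (h.map W.unop.hom).idx_map (muVal_pow' y) g.unop.left t
        have hζ : g.unop.left.appTop (W.unop.hom.appTop ζ) = W'.unop.hom.appTop ζ :=
          ζW_map g.unop
        have e3 : idx n (W'.unop.hom.appTop ζ)
            (g.unop.left.appTop ((muVal n y : (Γ(W.unop.left, ⊤))ˣ) : Γ(W.unop.left, ⊤))) t =
            idx n (g.unop.left.appTop (W.unop.hom.appTop ζ))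
              (g.unop.left.appTop ((muVal n y : (Γ(W.unop.left, ⊤))ˣ) : Γ(W.unop.left, ⊤))) t :=
          congrArg (fun z => idx n z
            (g.unop.left.appTop ((muVal n y : (Γ(W.unop.left, ⊤))ˣ) : Γ(W.unop.left, ⊤))) t)
            hζ.symm
        change idx n (ζW ζ W'.unop)
          ((muVal n ((EtCoh.mu V n).obj.map g y) : (Γ(W'.unop.left, ⊤))ˣ) : Γ(W'.unop.left, ⊤)) t =
            idx n (ζW ζ W.unop) _ (g.unop.left t)
        rw [e1]
        exact e3.trans e2 }

theorem psi_app_apply {W : V.Etale} (y : (EtCoh.mu V n).obj.obj (op W)) :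
    (psi h).hom.app (op W) y = psiFun h y := rfl

instance mono_psi : Mono (psi h) := by
  haveI : ∀ W : V.Etaleᵒᵖ, Mono ((psi h).hom.app W) := by
    intro W
    rw [AddCommGrpCat.mono_iff_injective]
    intro y y' hyy
    have h1 : psiFun h y = psiFun h y' := hyy
    -- `y - y'` has exponent zero
    have h2 : ∀ t, idx n (ζW ζ W.unop)
        ((muVal n (y - y') : (Γ(W.unop.left, ⊤))ˣ) : Γ(W.unop.left, ⊤)) t = 0 := by
      intro t
      have e1 : psiFun h (y - y') = psiFun h y - psiFun h y' :=
        map_sub ((psi h).hom.app W).hom y y'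
      have e2 := congrArg (fun s => s.down t) e1
      rw [h1, sub_self] at e2
      exact e2
    have h3 := (h.map W.unop.hom).eq_one_of_idx_eq_zero (muVal_pow' (y - y')) h2
    have h4 : muVal n (y - y') = 1 := Units.ext h3
    have h5 : muVal n (y - y') = muVal n 0 := by
      rw [h4]
      unfold muVal
      rw [map_zero]
      rfl
    exact sub_eq_zero.1 (muVal_injective n h5)
  haveI : Mono (psi h).hom := NatTrans.mono_of_mono_app _
  exact Sheaf.Hom.mono_of_presheaf_mono _ _ _

instance epi_psi : Epi (psi h) := by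
  have hls : Presheaf.IsLocallySurjective V.smallEtaleTopology (psi h).hom := by
    constructor
    intro W s
    apply sieve_mem_of_forall_point
    intro w
    let s' : ULift.{u + 1} (LocallyConstant W.left (ZMod n)) := s
    let a : ZMod n := s'.down w
    let O : W.left.Opens := ⟨s'.down ⁻¹' {a}, (s'.down.isLocallyConstant).isOpen_fiber a⟩
    refine ⟨opn W O, opnι W O, ?_, ⟨⟨w, rfl⟩, rfl⟩⟩
    -- the section `ζ ^ a` of `μ_n` over `O`
    have hG := h.map (opn W O).hom
    let z : (Γ((opn W O).left, ⊤))ˣ :=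
      Units.ofPowEqOne (ζW ζ (opn W O)) n hG.pow hG.pos.ne'
    have hz : (z ^ a.val) ^ n = 1 := by
      rw [← pow_mul, mul_comm, pow_mul]
      have : z ^ n = 1 := Units.ext (by rw [Units.val_pow_eq_pow_val]; exact hG.pow)
      rw [this, one_pow]
    obtain ⟨y, hy⟩ := exists_muVal_eq n (z ^ a.val) hz
    refine ⟨y, ?_⟩
    change psiFun h y = (LC V (ZMod n)).obj.map (opnι W O).op s
    apply ULift.ext
    apply LocallyConstant.ext
    intro t
    rw [psiFun_apply, hy]
    have e1 : ((z ^ a.val : (Γ((opn W O).left, ⊤))ˣ) : Γ((opn W O).left, ⊤)) =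
        (ζW ζ (opn W O)) ^ a.val := by
      rw [Units.val_pow_eq_pow_val]
      rfl
    rw [e1]
    refine (hG.idx_pow a.val t).trans ?_
    rw [ZMod.natCast_zmod_val]
    change a = s'.down ((opnι W O).left t)
    exact (t.2 : s'.down t.1 = a).symm
  have hls' : Sheaf.IsLocallySurjective (psi h) := hls
  exact (Sheaf.isLocallySurjective_iff_epi' AddCommGrpCat.{u + 1} (psi h)).1 hls'

instance isIso_psi : IsIso (psi h) := isIso_of_mono_of_epi _

/-- `μ_n ≅ ℤ/n` on a scheme with a good primitive `n`-th root of unity -/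
noncomputable def muIsoConst : EtCoh.mu V n ≅ EtCoh.const V (ZMod n) :=
  asIso (psi h) ≪≫ (constIso V (ZMod n)).symm

end Psi

end Groth.Agent.Lib.Helper27.EtTate
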