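import Groth.Agent.Lib.Helper27.EtTate3

/-!
# `ℤ/n ⊗ ℤ/n ≅ ℤ/n` for constant étale sheaves (helper27)
-/

set_option autoImplicit false
set_option backward.isDefEq.respectTransparency false
universe u
open CategoryTheory Limits Opposite AlgebraicGeometry Abelian TensorProduct
open Groth.Agent.Lib.Helper23.EtRestr Groth.Agent.Lib.Helper23.EtGlue
  Groth.Agent.Lib.Helper23.LCSheaf

namespace Groth.Agent.Lib.Helper27.EtTate

section LCMul

variable (V : Scheme.{u}) (n : ℕ)

/-- the sheaf of locally constant `ℤ/n`-valued functions -/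
noncomputable abbrev An : EtCoh.Ab V := LC V (ZMod n)

variable {V n}

/-- the constant function `1` -/
noncomputable def one (W : V.Etale) : (An V n).obj.obj (op W) :=
  (ULift.up 1 : ULift.{u + 1} (LocallyConstant W.left (ZMod n)))

theorem one_down (W : V.Etale) (t : W.left) :
    ((one W : (An V n).obj.obj (op W)) : ULift.{u + 1} (LocallyConstant W.left (ZMod n))).down t =
      1 := rfl

theorem map_one' {W W' : V.Etale} (g : W' ⟶ W) : (An V n).obj.map g.op (one W) = one W' := by
  apply ULift.ext
  apply LocallyConstant.ext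
  intro t
  rfl

/-- multiplication of locally constant functions, as a bilinear map -/
noncomputable def mulLin (W : V.Etale) :
    (An V n).obj.obj (op W) →ₗ[ℤ] (An V n).obj.obj (op W) →ₗ[ℤ] (An V n).obj.obj (op W) :=
  LinearMap.mk₂ ℤ
    (fun s s' => (ULift.up ((s : ULift.{u + 1} (LocallyConstant W.left (ZMod n))).down *
      (s' : ULift.{u + 1} (LocallyConstant W.left (ZMod n))).down) :
        ULift.{u + 1} (LocallyConstant W.left (ZMod n))))
    (fun a b c => by
      apply ULift.ext
      apply LocallyConstant.ext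
      intro t
      exact add_mul _ _ _)
    (fun k a b => by
      apply ULift.ext
      apply LocallyConstant.ext
      intro t
      exact smul_mul_assoc _ _ _)
    (fun a b c => by
      apply ULift.ext
      apply LocallyConstant.ext
      intro t
      exact mul_add _ _ _)
    (fun k a b => by
      apply ULift.ext
      apply LocallyConstant.ext
      intro t
      exact mul_smul_comm _ _ _)

theorem mulLin_apply (W : V.Etale) (s s' : (An V n).obj.obj (op W)) (t : W.left) :
    ((mulLin W s s' : (An V n).obj.obj (op W)) :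
      ULift.{u + 1} (LocallyConstant W.left (ZMod n))).down t =
      (s : ULift.{u + 1} (LocallyConstant W.left (ZMod n))).down t *
        (s' : ULift.{u + 1} (LocallyConstant W.left (ZMod n))).down t := rfl

/-- multiplication `ℤ/n ⊗ ℤ/n → ℤ/n` on the presheaf level -/
noncomputable def mPre : EtDual.tensorPre (An V n) (An V n) ⟶ lcPre V (ZMod n) where
  app W := AddCommGrpCat.ofHom (TensorProduct.lift (mulLin W.unop)).toAddMonoidHom
  naturality W W' g := by
    have h : (TensorProduct.lift (mulLin W'.unop)).comp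
        (TensorProduct.map (EtDual.resLin (An V n) g) (EtDual.resLin (An V n) g)) =
        (EtDual.resLin (An V n) g).comp (TensorProduct.lift (mulLin W.unop)) := by
      apply TensorProduct.ext'
      intro a b
      apply ULift.ext
      apply LocallyConstant.ext
      intro t
      rfl
    ext x
    exact LinearMap.congr_fun h x

theorem mPre_tmul (W : V.Etale) (a b : (An V n).obj.obj (op W)) :
    (mPre (V := V) (n := n)).app (op W) (a ⊗ₜ[ℤ] b) = mulLin W a b := rfl

/-- multiplication `ℤ/n ⊗ ℤ/n → ℤ/n` -/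
noncomputable def mulMap : EtDual.tensorAb (An V n) (An V n) ⟶ An V n :=
  ⟨sheafifyLift V.smallEtaleTopology mPre (An V n).property⟩

theorem toSheafify_mulMap :
    CategoryTheory.toSheafify V.smallEtaleTopology (EtDual.tensorPre (An V n) (An V n)) ≫
      (mulMap (V := V) (n := n)).hom = mPre :=
  toSheafify_sheafifyLift _ _ _

/-- the section `1 ⊗ 1` of the presheaf tensor product -/
noncomputable def oneTone (W : V.Etale) : (EtDual.tensorPre (An V n) (An V n)).obj (op W) :=
  (one W ⊗ₜ[ℤ] one W : (An V n).obj.obj (op W) ⊗[ℤ] (An V n).obj.obj (op W))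

theorem tensorPre_map_tmul {W W' : V.Etale} (g : W' ⟶ W) (a b : (An V n).obj.obj (op W)) :
    (EtDual.tensorPre (An V n) (An V n)).map g.op
      (a ⊗ₜ[ℤ] b : (An V n).obj.obj (op W) ⊗[ℤ] (An V n).obj.obj (op W)) =
      ((An V n).obj.map g.op a ⊗ₜ[ℤ] (An V n).obj.map g.op b :
        (An V n).obj.obj (op W') ⊗[ℤ] (An V n).obj.obj (op W')) := rfl

theorem map_oneTone {W W' : V.Etale} (g : W' ⟶ W) :
    (EtDual.tensorPre (An V n) (An V n)).map g.op (oneTone W) = oneTone W' := by
  unfold oneTone
  rw [tensorPre_map_tmul, map_one']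

variable [NeZero n]

/-- locally, every section of the presheaf tensor product is a multiple of `1 ⊗ 1` -/
theorem exists_local_form {W : V.Etale}
    (d : (EtDual.tensorPre (An V n) (An V n)).obj (op W)) (p : W.left) :
    ∃ (W' : V.Etale) (g : W' ⟶ W), p ∈ Set.range g.left ∧ ∃ N : ℤ,
      (EtDual.tensorPre (An V n) (An V n)).map g.op d = N • oneTone W' := by
  induction d using TensorProduct.induction_on with
  | zero =>
    refine ⟨W, 𝟙 W, ⟨p, rfl⟩, 0, ?_⟩
    rw [map_zero, zero_smul]
  | tmul a b =>
    let a' : ULift.{u + 1} (LocallyConstant W.left (ZMod n)) := a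
    let b' : ULift.{u + 1} (LocallyConstant W.left (ZMod n)) := b
    let O : W.left.Opens :=
      ⟨a'.down ⁻¹' {a'.down p}, (a'.down.isLocallyConstant).isOpen_fiber _⟩ ⊓
        ⟨b'.down ⁻¹' {b'.down p}, (b'.down.isLocallyConstant).isOpen_fiber _⟩
    have hp : p ∈ O := ⟨rfl, rfl⟩
    refine ⟨opn W O, opnι W O, ⟨⟨p, hp⟩, rfl⟩,
      ((a'.down p).val : ℤ) * ((b'.down p).val : ℤ), ?_⟩
    have ha : (An V n).obj.map (opnι W O).op a = ((a'.down p).val : ℤ) • one (opn W O) := by
      apply ULift.ext
      apply LocallyConstant.ext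
      intro t
      change a'.down t.1 = ((a'.down p).val : ℤ) • (1 : ZMod n)
      rw [zsmul_eq_mul, mul_one, Int.cast_natCast, ZMod.natCast_zmod_val]
      exact t.2.1
    have hb : (An V n).obj.map (opnι W O).op b = ((b'.down p).val : ℤ) • one (opn W O) := by
      apply ULift.ext
      apply LocallyConstant.ext
      intro t
      change b'.down t.1 = ((b'.down p).val : ℤ) • (1 : ZMod n)
      rw [zsmul_eq_mul, mul_one, Int.cast_natCast, ZMod.natCast_zmod_val]
      exact t.2.2
    rw [tensorPre_map_tmul, ha, hb, TensorProduct.smul_tmul_smul]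
    rfl
  | add d₁ d₂ h₁ h₂ =>
    obtain ⟨W₁, g₁, ⟨t₁, ht₁⟩, N₁, e₁⟩ := h₁
    obtain ⟨W₂, g₂, ⟨t₂, ht₂⟩, N₂, e₂⟩ := h₂
    obtain ⟨Z, p₁, p₂, z, hpp, hz₁, hz₂⟩ := exists_fiberProd g₁ g₂ t₁ t₂ (ht₁.trans ht₂.symm)
    refine ⟨Z, p₁ ≫ g₁, ⟨z, ?_⟩, N₁ + N₂, ?_⟩
    · change g₁.left (p₁.left z) = p
      rw [hz₁, ht₁]
    · rw [map_add, add_smul]
      congr 1
      · rw [op_comp, Functor.map_comp]
        change (EtDual.tensorPre (An V n) (An V n)).map p₁.op
          ((EtDual.tensorPre (An V n) (An V n)).map g₁.op d₁) = _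
        rw [e₁, map_zsmul, map_oneTone]
      · rw [hpp, op_comp, Functor.map_comp]
        change (EtDual.tensorPre (An V n) (An V n)).map p₂.op
          ((EtDual.tensorPre (An V n) (An V n)).map g₂.op d₂) = _
        rw [e₂, map_zsmul, map_oneTone]

theorem mPre_oneTone (W : V.Etale) :
    (mPre (V := V) (n := n)).app (op W) (oneTone W) = one W := by
  unfold oneTone
  rw [mPre_tmul]
  apply ULift.ext
  apply LocallyConstant.ext
  intro t
  exact mul_one _

theorem zsmul_oneTone_eq_zero (W : V.Etale) (N : ℤ) (hN : (n : ℤ) ∣ N) :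
    N • oneTone (n := n) W = 0 := by
  obtain ⟨k, rfl⟩ := hN
  have h0 : ((n : ℤ) • one W : (An V n).obj.obj (op W)) = 0 := by
    apply ULift.ext
    apply LocallyConstant.ext
    intro t
    change ((n : ℤ) • (1 : ZMod n)) = 0
    rw [zsmul_eq_mul, mul_one, Int.cast_natCast, ZMod.natCast_self]
  have key : ((n : ℤ) • (one W ⊗ₜ[ℤ] one W) :
      (An V n).obj.obj (op W) ⊗[ℤ] (An V n).obj.obj (op W)) = 0 := by
    rw [TensorProduct.smul_tmul', h0, TensorProduct.zero_tmul]
  have key' : (n : ℤ) • oneTone (n := n) W = 0 := key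
  rw [mul_comm, mul_smul, key', smul_zero]

set_option backward.isDefEq.respectTransparency.types false in
theorem mPre_locInj :
    Presheaf.IsLocallyInjective V.smallEtaleTopology (mPre (V := V) (n := n)) where
  equalizerSieve_mem {U} x y hxy := by
    apply sieve_mem_of_forall_point
    intro p
    obtain ⟨W', g, hp, N, hN⟩ := exists_local_form (x - y) p
    refine ⟨W', g, ?_, hp⟩
    change (EtDual.tensorPre (An V n) (An V n)).map g.op x =
      (EtDual.tensorPre (An V n) (An V n)).map g.op y
    rw [← sub_eq_zero, ← map_sub, hN]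
    apply zsmul_oneTone_eq_zero
    -- apply the multiplication map
    have h1 : (mPre (V := V) (n := n)).app (op W')
        ((EtDual.tensorPre (An V n) (An V n)).map g.op (x - y)) = 0 := by
      have nat := ConcreteCategory.congr_hom ((mPre (V := V) (n := n)).naturality g.op) (x - y)
      simp only [ConcreteCategory.comp_apply] at nat
      rw [nat, map_sub, hxy, sub_self, map_zero]
    rw [hN, map_zsmul, mPre_oneTone] at h1
    obtain ⟨t, -⟩ := hp
    have h2 := congrArg (fun s : ULift.{u + 1} (LocallyConstant W'.left (ZMod n)) => s.down t) h1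
    change (N • (1 : ZMod n)) = 0 at h2
    rw [zsmul_eq_mul, mul_one] at h2
    exact (ZMod.intCast_zmod_eq_zero_iff_dvd N n).1 h2

omit [NeZero n] in
theorem mPre_locSurj :
    Presheaf.IsLocallySurjective V.smallEtaleTopology (mPre (V := V) (n := n)) where
  imageSieve_mem {U} s := by
    refine V.smallEtaleTopology.superset_covering ?_ (V.smallEtaleTopology.top_mem U)
    intro W g _
    refine ⟨((An V n).obj.map g.op s ⊗ₜ[ℤ] one W :
      (An V n).obj.obj (op W) ⊗[ℤ] (An V n).obj.obj (op W)), ?_⟩
    rw [mPre_tmul]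
    apply ULift.ext
    apply LocallyConstant.ext
    intro t
    exact mul_one _

theorem isIso_mulMap : IsIso (mulMap (V := V) (n := n)) := by
  haveI := mPre_locInj (V := V) (n := n)
  haveI := mPre_locSurj (V := V) (n := n)
  have h1 : Presheaf.IsLocallyInjective V.smallEtaleTopology (mulMap (V := V) (n := n)).hom :=
    Presheaf.isLocallyInjective_of_isLocallyInjective_of_isLocallySurjective_fac
      V.smallEtaleTopology mPre toSheafify_mulMap
  have h2 : Presheaf.IsLocallySurjective V.smallEtaleTopology (mulMap (V := V) (n := n)).hom :=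
    haveI := mPre_locSurj (V := V) (n := n)
    Presheaf.isLocallySurjective_of_isLocallySurjective_fac V.smallEtaleTopology
      toSheafify_mulMap
  exact (Sheaf.isLocallyBijective_iff_isIso (A := AddCommGrpCat.{u + 1}) mulMap).1 ⟨h1, h2⟩

/-- `ℤ/n ⊗ ℤ/n ≅ ℤ/n` -/
noncomputable def tensorConstIso :
    EtDual.tensorAb (EtCoh.const V (ZMod n)) (EtCoh.const V (ZMod n)) ≅ EtCoh.const V (ZMod n) :=
  haveI := isIso_mulMap (V := V) (n := n)
  tensorAbIso (constIso V (ZMod n)) (constIso V (ZMod n)) ≪≫ asIso mulMap ≪≫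
    (constIso V (ZMod n)).symm

end LCMul

end Groth.Agent.Lib.Helper27.EtTate
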