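import Groth.Agent.Lib.Helper27.EtTate4
import Groth.Agent.Lib.Helper27.EtH90d

/-!
# The Tate twists `ℤ/n(c)` are constant over a scheme with a good primitive root of unity
(helper27)
-/

set_option autoImplicit false
set_option backward.isDefEq.respectTransparency false
universe u
open CategoryTheory Limits Opposite AlgebraicGeometry Abelian TensorProduct
open Groth.Agent.Lib.Helper23.EtRestr Groth.Agent.Lib.Helper23.EtGlue
  Groth.Agent.Lib.Helper23.LCSheaf Groth.Agent.Lib.Helper27.EtTrace
  Groth.Agent.Lib.Helper27.EtH90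

namespace Groth.Agent.Lib.Helper27.EtTate

section PullMu

variable {V X : Scheme.{u}} (v : V ⟶ X) [Etale v] (n : ℕ)

/-- the inverse image of `μ_n` along an étale morphism is `μ_n` -/
noncomputable def pullMuIso : (EtCoh.pull v).obj (EtCoh.mu X n) ≅ EtCoh.mu V n :=
  PreservesKernel.iso (EtCoh.pull v) (EtCoh.powMap X n) ≪≫
    kernel.mapIso ((EtCoh.pull v).map (EtCoh.powMap X n)) (EtCoh.powMap V n) (pullGmIso v)
      (pullGmIso v) (by
        unfold EtCoh.powMap
        rw [Functor.map_nsmul, CategoryTheory.Functor.map_id, Preadditive.nsmul_comp,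
          Preadditive.comp_nsmul, Category.id_comp, Category.comp_id])

end PullMu

section Tate

variable {V X : Scheme.{u}} (v : V ⟶ X) [Etale v] {n : ℕ} [NeZero n] {ζ : Γ(V, ⊤)}
  (h : Good V n ζ)

include h in
/-- the Tate twists are constant over a scheme with a good primitive root of unity -/
theorem nonempty_pull_tate_iso (c : ℕ) :
    Nonempty ((EtCoh.pull v).obj (EtDual.tate X n c) ≅ EtCoh.const V (ZMod n)) := by
  induction c with
  | zero => exact ⟨EtCore.pullConst v (ZMod n)⟩
  | succ c ih =>
    obtain ⟨e⟩ := ih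
    exact ⟨pullTensorIso v (EtDual.tate X n c) (EtCoh.mu X n) ≪≫
      tensorAbIso e (pullMuIso v n ≪≫ muIsoConst h) ≪≫ tensorConstIso⟩

end Tate

end Groth.Agent.Lib.Helper27.EtTate
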