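import Mathlib.RingTheory.Etale.StandardEtale
import Mathlib.RingTheory.RootsOfUnity.AlgebraicallyClosed
import Mathlib.RingTheory.LocalRing.ResidueField.Ideal
import Mathlib.RingTheory.Spectrum.Prime.RingHom

/-!
# The standard étale algebra adjoining a good primitive `n`-th root of unity (helper27)
-/

set_option autoImplicit false
universe u
open Polynomial

namespace Groth.Agent.Lib.Helper27.EtTate

section Cyc

variable (R : Type u) [CommRing R] (n : ℕ) (hn : IsUnit (n : R)) (hpos : 0 < n)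

/-- the standard étale pair `(Xⁿ - 1, ∏_{0<k<n} (Xᵏ - 1))` -/
noncomputable def cycPair : StandardEtalePair R where
  f := X ^ n - 1
  monic_f := by
    have := monic_X_pow_sub_C (1 : R) hpos.ne'
    rwa [map_one] at this
  g := ∏ k ∈ Finset.Ico 1 n, (X ^ k - 1)
  cond := by
    refine ⟨C (↑hn.unit⁻¹ : R) * X, -1, 0, ?_⟩
    obtain ⟨m, rfl⟩ : ∃ m, n = m + 1 := ⟨n - 1, by omega⟩
    rw [pow_zero, derivative_sub, derivative_X_pow, derivative_one, sub_zero]
    have h1 : C ((m + 1 : ℕ) : R) * C (↑hn.unit⁻¹ : R) = 1 := by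
      rw [← C_mul, IsUnit.mul_val_inv, map_one]
    have h2 : C ((m + 1 : ℕ) : R) * X ^ (m + 1 - 1) * (C (↑hn.unit⁻¹ : R) * X) =
        C ((m + 1 : ℕ) : R) * C (↑hn.unit⁻¹ : R) * X ^ (m + 1) := by
      rw [Nat.add_sub_cancel, pow_succ]; ring
    rw [h2, h1]
    ring

variable {R n}

theorem cyc_pow : (cycPair R n hn hpos).X ^ n = 1 := by
  have h := (StandardEtalePair.hasMap_X (P := cycPair R n hn hpos)).1
  change aeval _ (X ^ n - 1 : R[X]) = 0 at h
  rw [map_sub, map_pow, aeval_X, map_one, sub_eq_zero] at h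
  exact h

theorem cyc_unit_sub (k : ℕ) (hk : 0 < k) (hk' : k < n) :
    IsUnit ((cycPair R n hn hpos).X ^ k - 1) := by
  have h := (StandardEtalePair.hasMap_X (P := cycPair R n hn hpos)).2
  change IsUnit (aeval _ (∏ k ∈ Finset.Ico 1 n, (X ^ k - 1) : R[X])) at h
  rw [map_prod] at h
  have h2 := (IsUnit.prod_iff.1 h) k (Finset.mem_Ico.2 ⟨hk, hk'⟩)
  rwa [map_sub, map_pow, aeval_X, map_one] at h2

theorem cyc_unit_n : IsUnit ((n : ℕ) : (cycPair R n hn hpos).Ring) := by
  have := hn.map (algebraMap R (cycPair R n hn hpos).Ring)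
  rwa [map_natCast] at this

/-- every prime of `R` lifts to the cyclotomic standard étale algebra -/
theorem cyc_surjective (𝔭 : PrimeSpectrum R) :
    ∃ 𝔮 : PrimeSpectrum (cycPair R n hn hpos).Ring,
      𝔮.comap (algebraMap R (cycPair R n hn hpos).Ring) = 𝔭 := by
  let κ := 𝔭.asIdeal.ResidueField
  let Ω := AlgebraicClosure κ
  have hnΩ : IsUnit ((n : ℕ) : Ω) := by
    have := hn.map (algebraMap R Ω)
    rwa [map_natCast] at this
  haveI : NeZero ((n : ℕ) : Ω) := ⟨hnΩ.ne_zero⟩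
  haveI : NeZero n := ⟨hpos.ne'⟩
  obtain ⟨ω, hω⟩ := HasEnoughRootsOfUnity.exists_primitiveRoot Ω n
  have hmap : (cycPair R n hn hpos).HasMap ω := by
    constructor
    · change aeval ω (X ^ n - 1 : R[X]) = 0
      rw [map_sub, map_pow, aeval_X, map_one, hω.pow_eq_one, sub_self]
    · change IsUnit (aeval ω (∏ k ∈ Finset.Ico 1 n, (X ^ k - 1) : R[X]))
      rw [map_prod, IsUnit.prod_iff]
      intro k hk
      rw [map_sub, map_pow, aeval_X, map_one, isUnit_iff_ne_zero, sub_ne_zero]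
      exact hω.pow_ne_one_of_pos_of_lt (Nat.pos_iff_ne_zero.1 (Finset.mem_Ico.1 hk).1)
        (Finset.mem_Ico.1 hk).2
  let φ : (cycPair R n hn hpos).Ring →ₐ[R] Ω := (cycPair R n hn hpos).lift ω hmap
  refine ⟨⟨RingHom.ker φ.toRingHom, RingHom.ker_isPrime _⟩, ?_⟩
  apply PrimeSpectrum.ext
  change Ideal.comap (algebraMap R _) (RingHom.ker φ.toRingHom) = 𝔭.asIdeal
  have h1 : φ.toRingHom.comp (algebraMap R (cycPair R n hn hpos).Ring) = algebraMap R Ω :=
    φ.comp_algebraMap
  rw [RingHom.comap_ker, h1]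
  ext x
  rw [RingHom.mem_ker, IsScalarTower.algebraMap_apply R κ Ω,
    map_eq_zero_iff _ (FaithfulSMul.algebraMap_injective κ Ω),
    Ideal.algebraMap_residueField_eq_zero]

end Cyc

end Groth.Agent.Lib.Helper27.EtTate
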