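import Groth.Agent.Lib.Helper27.EtTate5
import Groth.Agent.Lib.Helper27.EtTate6
import Mathlib.AlgebraicGeometry.Morphisms.Etale

/-!
# Étale covers with a good primitive root of unity; the Tate twists are locally constant
(helper27)
-/

set_option autoImplicit false
set_option backward.isDefEq.respectTransparency false
universe u
open CategoryTheory Limits Opposite AlgebraicGeometry

namespace Groth.Agent.Lib.Helper27.EtTate

theorem Good.of_ringHom {T : Scheme.{u}} {n : ℕ} {A : Type u} [CommRing A] (φ : A →+* Γ(T, ⊤))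
    (z : A) (hpos : 0 < n) (hpow : z ^ n = 1) (hsub : ∀ k, 0 < k → k < n → IsUnit (z ^ k - 1))
    (hn : IsUnit ((n : ℕ) : A)) : Good T n (φ z) where
  pos := hpos
  pow := by rw [← map_pow, hpow, map_one]
  unit_sub k hk hk' := by
    have := (hsub k hk hk').map φ
    rwa [map_sub, map_pow, map_one] at this
  unit_n := by
    have := hn.map φ
    rwa [map_natCast] at this

/-- if `n` is invertible on `X`, then `X` has an étale covering by schemes with a good primitive
`n`-th root of unity -/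
theorem exists_good_cover (X : Scheme.{u}) (n : ℕ) (hpos : 0 < n) (hn : IsUnit ((n : ℕ) : Γ(X, ⊤))) :
    ∃ (V : X → Scheme.{u}) (v : ∀ x, V x ⟶ X) (_ : ∀ x, Etale (v x)) (ζ : ∀ x, Γ(V x, ⊤)),
      (∀ x, Good (V x) n (ζ x)) ∧ ∀ x : X, ∃ i, x ∈ Set.range (v i) := by
  choose R f hf y hy using X.exists_Spec_apply_eq
  have hnR : ∀ x, IsUnit ((n : ℕ) : R x) := by
    intro x
    have := (hn.map (f x).appTop.hom).map (Scheme.ΓSpecIso (R x)).hom.hom
    rwa [map_natCast, map_natCast] at this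
  let P := fun x => cycPair (R x) n (hnR x) hpos
  let V : X → Scheme.{u} := fun x => Spec (CommRingCat.of (P x).Ring)
  let g : ∀ x, V x ⟶ Spec (R x) :=
    fun x => Spec.map (CommRingCat.ofHom (algebraMap (R x) (P x).Ring))
  have hg : ∀ x, Etale (g x) := by
    intro x
    rw [HasRingHomProperty.Spec_iff (P := @Etale)]
    change (algebraMap (R x) (P x).Ring).Etale
    rw [RingHom.etale_algebraMap]
    infer_instance
  refine ⟨V, fun x => g x ≫ f x, fun x => inferInstance,
    fun x => (Scheme.ΓSpecIso (CommRingCat.of (P x).Ring)).inv.hom (P x).X, ?_, ?_⟩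
  · intro x
    exact Good.of_ringHom _ _ hpos (cyc_pow (hnR x) hpos) (cyc_unit_sub (hnR x) hpos)
      (cyc_unit_n (hnR x) hpos)
  · intro x
    obtain ⟨𝔮, h𝔮⟩ := cyc_surjective (hnR x) hpos (y x)
    refine ⟨x, 𝔮, ?_⟩
    change (f x) ((g x) 𝔮) = x
    have : (g x) 𝔮 = y x := h𝔮
    rw [this]
    exact hy x

/-- if `n > 0` is invertible on `X`, the Tate twist `ℤ/n(c)` is étale locally isomorphic to `ℤ/n` -/
theorem exists_cover_tate_iso (X : Scheme.{u}) (n : ℕ) (hpos : 0 < n)
    (hn : IsUnit ((n : ℕ) : Γ(X, ⊤))) (c : ℕ) :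
    ∃ (V : X → Scheme.{u}) (v : ∀ x, V x ⟶ X) (_ : ∀ x, Etale (v x)),
      (∀ x : X, ∃ i, x ∈ Set.range (v i)) ∧
      ∀ i, Nonempty ((EtCoh.pull (v i)).obj (EtCoh.const X (ZMod n)) ≅
        (EtCoh.pull (v i)).obj (EtDual.tate X n c)) := by
  haveI : NeZero n := ⟨hpos.ne'⟩
  obtain ⟨V, v, hv, ζ, hζ, hcov⟩ := exists_good_cover X n hpos hn
  refine ⟨V, v, hv, hcov, fun i => ?_⟩
  obtain ⟨e⟩ := nonempty_pull_tate_iso (v i) (hζ i) c
  exact ⟨EtCore.pullConst (v i) (ZMod n) ≪≫ e.symm⟩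

/-- a scheme on which `0` is invertible is empty -/
theorem isEmpty_of_isUnit_zero (X : Scheme.{u}) (h : IsUnit ((0 : ℕ) : Γ(X, ⊤))) : IsEmpty X := by
  constructor
  intro x
  have h1 := h.map (ev x)
  rw [Nat.cast_zero, map_zero] at h1
  exact not_isUnit_zero h1

end Groth.Agent.Lib.Helper27.EtTate
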