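import Groth.Agent.Lib.Helper27.GabberCrit6

/-!
# Gabber's criterion: Mayer–Vietoris vanishing and the opens on which a class dies
-/

set_option autoImplicit false
set_option backward.isDefEq.respectTransparency false

universe u

namespace Groth.Agent.Lib.Helper27.GabberCrit

open CategoryTheory Limits Opposite AlgebraicGeometry Abelian TopologicalSpace
open Groth.Agent.Lib.Helper23.EtRestr Groth.Agent.Lib.Helper23.ExtRestr
  Groth.Agent.Lib.Helper23.ExtAdj Groth.Agent.Lib.Helper23.MVOpen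
  Groth.Agent.Lib.Helper23.MVAbstract

variable {X : Scheme.{u}}

/-- Mayer–Vietoris vanishing: a class of degree `q + 1` on `W = U ∪ V` dying on `U` and on `V`
is zero as soon as `Ext^q` of `ℤ_{U ∩ V}` vanishes -/
theorem mv_vanishing (U V W : X.Opens) (hUV : U ⊔ V = W) (hU : U ≤ W) (hV : V ≤ W)
    (F : EtCoh.Ab X) (q : ℕ) (hq : ∀ y : Ext (ZU (U ⊓ V)) F q, y = 0)
    (η : Ext (ZU W) F (q + 1))
    (h1 : (Ext.mk₀ (ρm hU)).comp η (zero_add (q + 1)) = 0)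
    (h2 : (Ext.mk₀ (ρm hV)).comp η (zero_add (q + 1)) = 0) : η = 0 := by
  have hS := ses₃ U V W hUV hU hV
  have h : (Ext.mk₀ (biprod.desc (ρm hU) (ρm hV))).comp η (zero_add (q + 1)) = 0 :=
    (comp_desc_eq_zero_iff _ _ η).2 ⟨h1, h2⟩
  obtain ⟨x₁, hx₁⟩ := Ext.contravariant_sequence_exact₃ hS F η h (show 1 + q = q + 1 by omega)
  rw [← hx₁, hq x₁, Ext.comp_zero]

/-- every abelian sheaf on an empty scheme vanishes -/
theorem isZero_of_isEmpty {Y : Scheme.{u}} [IsEmpty Y] (G : EtCoh.Ab Y) : IsZero G := by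
  apply Groth.Agent.S0622.isZero_of_stalks
  intro Ω _ _ ξ
  exact (IsEmpty.false (ξ.base default)).elim

theorem isZero_ZU_bot : IsZero (ZU (⊥ : X.Opens)) := by
  have : IsEmpty ↑(⊥ : X.Opens) := by
    constructor
    intro x
    exact x.2
  have h : IsZero (EtCoh.const ↑(⊥ : X.Opens) ℤ) := isZero_of_isEmpty _
  have := (adjP (⊥ : X.Opens).ι).isLeftAdjoint
  have : (EtShriek.extZero (⊥ : X.Opens).ι).PreservesZeroMorphisms :=
    Functor.preservesZeroMorphisms_of_isLeftAdjoint _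
  exact (EtShriek.extZero (⊥ : X.Opens).ι).map_isZero h

variable {U : X.Opens} {F : EtCoh.Ab X} {q : ℕ}

/-- the opens `V ≤ U` on which the class `ξ` dies -/
def Dies (ξ : Ext (ZU U) F q) (V : X.Opens) : Prop :=
  ∃ h : V ≤ U, (Ext.mk₀ (ρm h)).comp ξ (zero_add q) = 0

theorem Dies.le {ξ : Ext (ZU U) F q} {V : X.Opens} (h : Dies ξ V) : V ≤ U := h.1

theorem Dies.mono {ξ : Ext (ZU U) F q} {V V' : X.Opens} (h : Dies ξ V) (h' : V' ≤ V) :
    Dies ξ V' := by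
  obtain ⟨hV, h0⟩ := h
  refine ⟨h'.trans hV, ?_⟩
  rw [← ρ_trans hV h', ← Ext.mk₀_comp_mk₀, Ext.comp_assoc_of_second_deg_zero, h0, Ext.comp_zero]

theorem dies_bot (ξ : Ext (ZU U) F q) : Dies ξ ⊥ := by
  refine ⟨bot_le, ?_⟩
  rw [isZero_ZU_bot.eq_of_src (ρm (bot_le : (⊥ : X.Opens) ≤ U)) 0, Ext.mk₀_zero, Ext.zero_comp]

theorem eq_zero_of_dies_self {ξ : Ext (ZU U) F q} (h : Dies ξ U) : ξ = 0 := by
  obtain ⟨hV, h0⟩ := h
  rw [ρ_refl, Ext.mk₀_id_comp] at h0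
  exact h0

/-- restriction of a class to a smaller open -/
noncomputable def res {V : X.Opens} (h : V ≤ U) (ξ : Ext (ZU U) F q) : Ext (ZU V) F q :=
  (Ext.mk₀ (ρm h)).comp ξ (zero_add q)

theorem dies_res_iff {V V' : X.Opens} (h : V ≤ U) (ξ : Ext (ZU U) F q) (h' : V' ≤ V) :
    Dies (res h ξ) V' ↔ Dies ξ V' := by
  have key : (Ext.mk₀ (ρm h')).comp (res h ξ) (zero_add q) =
      (Ext.mk₀ (ρm (h'.trans h))).comp ξ (zero_add q) := by
    rw [res, ← Ext.comp_assoc_of_second_deg_zero, Ext.mk₀_comp_mk₀, ρ_trans]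
  constructor
  · rintro ⟨_, h0⟩
    exact ⟨h'.trans h, by rw [← key]; exact h0⟩
  · rintro ⟨_, h0⟩
    exact ⟨h', by rw [key]; exact h0⟩

/-- Mayer–Vietoris gluing for `Dies` -/
theorem Dies.sup {ξ : Ext (ZU U) F (q + 1)} {V₁ V₂ : X.Opens} (h₁ : Dies ξ V₁) (h₂ : Dies ξ V₂)
    (hq : ∀ y : Ext (ZU (V₁ ⊓ V₂)) F q, y = 0) : Dies ξ (V₁ ⊔ V₂) := by
  have hle : V₁ ⊔ V₂ ≤ U := sup_le h₁.le h₂.le
  refine ⟨hle, ?_⟩
  have e1 : Dies (res hle ξ) V₁ := (dies_res_iff hle ξ le_sup_left).2 h₁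
  have e2 : Dies (res hle ξ) V₂ := (dies_res_iff hle ξ le_sup_right).2 h₂
  exact mv_vanishing V₁ V₂ (V₁ ⊔ V₂) rfl le_sup_left le_sup_right F q hq (res hle ξ) e1.2 e2.2

/-- local vanishing for `Dies` -/
theorem exists_dies
    (hS : ∀ s : X, EtCoh.IsStrictlyHenselianLocalRing (X.presheaf.stalk s))
    (ξ : Ext (ZU U) F (q + 1)) (x : X) (hx : x ∈ U) : ∃ V : X.Opens, x ∈ V ∧ Dies ξ V := by
  obtain ⟨V, hxV, h, h0⟩ := exists_local_vanishing hS U F q ξ x hx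
  exact ⟨V, hxV, h, h0⟩

end Groth.Agent.Lib.Helper27.GabberCrit
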