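import Groth.Agent.Lib.Helper27.EtTate7
import Groth.Agent.Lib.Helper27.GabberCrit7

/-!
# Semi-purity: `H^{2c}_Y(X, ℤ/n(c)) ≅ Γ(X, H^{2c}_Y(ℤ/n(c)))` (helper27)
-/

set_option autoImplicit false
set_option backward.isDefEq.respectTransparency false
universe u
open CategoryTheory Limits Opposite AlgebraicGeometry
open Groth.Agent.Lib.Helper27.EtExc Groth.Agent.Lib.Helper27.EtH90

namespace Groth.Agent.Lib.Helper27.EtTate

variable {X U : Scheme.{u}} (j : U ⟶ X) [IsOpenImmersion j]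

/-- vanishing of the local cohomology sheaves of `ℤ/n` below `N` implies the same for `ℤ/n(c)` -/
theorem locCoh_tate_isZero (n : ℕ) (hpos : 0 < n) (hn : IsUnit ((n : ℕ) : Γ(X, ⊤))) (c N : ℕ)
    (h : ∀ p, p < N → IsZero ((EtDual.locCoh j p).obj (EtCoh.const X (ZMod n)))) :
    ∀ p, p < N → IsZero ((EtDual.locCoh j p).obj (EtDual.tate X n c)) := by
  obtain ⟨V, v, hv, hcov, e⟩ := exists_cover_tate_iso X n hpos hn c
  exact locCoh_isZero_of_locally_iso j V v hcov _ _ e N h

/-- semi-purity -/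
theorem nonempty_HY_tate_iso (n : ℕ) (hn : IsUnit ((n : ℕ) : Γ(X, ⊤))) (c : ℕ)
    (h : ∀ p : ℕ, p < 2 * c →
      IsZero ((EtDual.locCoh j p).obj (EtCoh.const X (ZMod n)))) :
    Nonempty ((EtDual.HY j (2 * c)).obj (EtDual.tate X n c) ≅
      ((EtDual.locCoh j (2 * c)).obj (EtDual.tate X n c)).obj.obj (op (EtCoh.top X))) := by
  rcases Nat.eq_zero_or_pos n with rfl | hpos
  · -- `X` is empty
    haveI := isEmpty_of_isUnit_zero X hn
    have hz : ∀ F : EtCoh.Ab X, IsZero F :=
      fun F => Groth.Agent.Lib.Helper27.GabberCrit.isZero_of_isEmpty F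
    have h1 : IsZero ((EtDual.HY j (2 * c)).obj (EtDual.tate X 0 c)) := by
      haveI : ((EtDual.gammaSupp j).rightDerived (2 * c)).Additive :=
        Groth.Agent.Lib.Helper6.RDShift.rightDerived_additive _ _
      exact ((EtDual.gammaSupp j).rightDerived (2 * c)).map_isZero (hz _)
    have h2 : IsZero (((EtDual.locCoh j (2 * c)).obj (EtDual.tate X 0 c)).obj.obj
        (op (EtCoh.top X))) := (secT (EtCoh.top X)).map_isZero (hz _)
    exact ⟨h1.iso h2⟩
  · exact (comp_rightDerived_secSupp j (EtCoh.top X) (2 * c) (EtDual.tate X n c)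
      (locCoh_tate_isZero j n hpos hn c (2 * c) h)).2

end Groth.Agent.Lib.Helper27.EtTate
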