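import Groth.Agent.Lib.Helper27.EtTrace12

/-!
# Period and index have the same prime factors
-/

set_option autoImplicit false
set_option backward.isDefEq.respectTransparency false
universe u
open CategoryTheory Limits Opposite AlgebraicGeometry Abelian
open Groth.Agent.Lib.Helper18.GalFibre Groth.Agent.Lib.Helper23.EtGlue
  Groth.Agent.Lib.Helper27.GabberCrit

namespace Groth.Agent.Lib.Helper27.EtTrace

variable (K : Type u) [Field K]

theorem exists_separable_ext_finrank_not_dvd (F : EtCoh.Ab (Spec (CommRingCat.of K))) (i : ℕ)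
    (hi : 0 < i) (α : EtCoh.H (Spec (CommRingCat.of K)) F i) (L : Type u) [Field L]
    [Algebra K L] [FiniteDimensional K L] [Algebra.IsSeparable K L]
    (hα : EtCore.Hpull (sK K L) F i α = 0) (p : ℕ) (hp : p.Prime)
    (hpα : ¬ p ∣ addOrderOf α) :
    ∃ (L' : Type u) (_ : Field L') (_ : Algebra K L') (_ : FiniteDimensional K L')
      (_ : Algebra.IsSeparable K L'),
      ¬ p ∣ Module.finrank K L' ∧ EtCore.Hpull (sK K L') F i α = 0 := by
  haveI : Fact p.Prime := ⟨hp⟩
  obtain ⟨M, iF, iA, iFD, iG, τ, L', hdeg, a, ha⟩ := exists_sylow_tower K L p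
  haveI : Algebra.IsSeparable K M := inferInstance
  haveI : Algebra.IsSeparable K L' := Algebra.isSeparable_tower_bot_of_isSeparable K L' M
  haveI : Algebra.IsSeparable L' M := Algebra.isSeparable_tower_top_of_isSeparable K L' M
  refine ⟨L', inferInstance, inferInstance, inferInstance, inferInstance, hdeg, ?_⟩
  -- the class dies on `M`
  have hM : EtCore.Hpull (sK K M) F i α = 0 := by
    apply Hpull_eq_zero_of_comp_eq_zero
    exact comp_εj_eq_zero_of_hom (sK K L) (sK K M) (tE τ) F i α
      (comp_eq_zero_of_Hpull_eq_zero _ F i α hα)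
  have hw : sK L' M ≫ sK K L' = sK K M := by
    change Spec.map _ ≫ Spec.map _ = Spec.map _
    rw [← Spec.map_comp, ← CommRingCat.ofHom_comp, ← IsScalarTower.algebraMap_eq]
  have h1 := Hpull_Hpull_eq_zero (sK L' M) (sK K L') (sK K M) hw F i α hM
  have h2 : p ^ a • EtCore.Hpull (sK K L') F i α = 0 := by
    rw [← ha]
    exact finrank_nsmul_eq_zero L' M _ i _ h1
  have h3 : addOrderOf α • EtCore.Hpull (sK K L') F i α = 0 := by
    rw [← map_nsmul, addOrderOf_nsmul_eq_zero, map_zero]
  refine eq_zero_of_coprime_nsmul _ _ _ ?_ h2 h3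
  exact Nat.Coprime.pow_left a ((Nat.Prime.coprime_iff_not_dvd hp).2 hpα)

end Groth.Agent.Lib.Helper27.EtTrace
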