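import Groth.Agent.Lib.Helper27.EtTrace2

/-!
# A norm morphism from a global section of `j_! ℤ_U`
-/

set_option autoImplicit false
set_option backward.isDefEq.respectTransparency false
universe u
open CategoryTheory Limits Opposite AlgebraicGeometry Abelian
open Groth.Agent.Lib.Helper27.GabberCrit

namespace Groth.Agent.Lib.Helper27.EtTrace

variable {X : Scheme.{u}}

/-- a morphism `ℤ_X → A` from a global section of `A` -/
noncomputable def ofSection (A : EtCoh.Ab X) (s : MZ.{u} ⟶ A.obj.obj (op (EtCoh.top X))) :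
    EtCoh.const X ℤ ⟶ A :=
  ((EtCore.constAdj X).homEquiv MZ A).symm s

theorem ofSection_comp {A B : EtCoh.Ab X} (s : MZ.{u} ⟶ A.obj.obj (op (EtCoh.top X)))
    (g : A ⟶ B) : ofSection A s ≫ g = ofSection B (s ≫ g.hom.app (op (EtCoh.top X))) := by
  unfold ofSection
  rw [← Adjunction.homEquiv_naturality_right_symm]
  rfl

theorem ofSection_nsmul_uY (d : ℕ) :
    ofSection (EtCoh.const X ℤ) (d • uY X) = d • 𝟙 _ := by
  unfold ofSection
  rw [Equiv.symm_apply_eq, Adjunction.homEquiv_unit]
  have : (EtCore.gsec X).Additive := (EtCore.constAdj X).right_adjoint_additive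
  rw [Functor.map_nsmul, Preadditive.comp_nsmul, (EtCore.gsec X).map_id]
  congr 1

/-- a norm morphism from a global section with augmentation `d` -/
theorem exists_norm_of_section {U : Scheme.{u}} (j : U ⟶ X) [Etale j] (d : ℕ)
    (s : MZ.{u} ⟶ (Zj j).obj.obj (op (EtCoh.top X)))
    (hs : s ≫ (εj j).hom.app (op (EtCoh.top X)) = d • uY X) :
    ∃ N : EtCoh.const X ℤ ⟶ Zj j, N ≫ εj j = d • 𝟙 _ :=
  ⟨ofSection _ s, by rw [ofSection_comp, hs, ofSection_nsmul_uY]⟩

end Groth.Agent.Lib.Helper27.EtTrace
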