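import Groth.Agent.Lib.Helper27.EtTrace3
import Mathlib.AlgebraicGeometry.Morphisms.FormallyUnramified

/-!
# The open equaliser of two morphisms of étale `X`-schemes
-/

set_option autoImplicit false
universe u
open CategoryTheory Limits Opposite AlgebraicGeometry

namespace Groth.Agent.Lib.Helper27.EtTrace

variable {X : Scheme.{u}} {W Y : X.Etale} (a b : W ⟶ Y)

theorem left_comp_hom : a.left ≫ Y.hom = b.left ≫ Y.hom :=
  (MorphismProperty.Over.w a).trans (MorphismProperty.Over.w b).symm

/-- the pair `(a, b) : W ⟶ Y ×_X Y` -/
noncomputable abbrev pairMap : W.left ⟶ pullback Y.hom Y.hom :=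
  pullback.lift a.left b.left (left_comp_hom a b)

/-- the equaliser of `a` and `b` as a scheme -/
noncomputable abbrev eqSch : Scheme.{u} := pullback (pullback.diagonal Y.hom) (pairMap a b)

/-- the inclusion of the equaliser -/
noncomputable abbrev eqInc : eqSch a b ⟶ W.left := pullback.snd (pullback.diagonal Y.hom) (pairMap a b)

instance : IsOpenImmersion (eqInc a b) := inferInstance

theorem eqInc_comp : eqInc a b ≫ a.left = eqInc a b ≫ b.left := by
  have h := pullback.condition (f := pullback.diagonal Y.hom) (g := pairMap a b)
  have h1 := congrArg (fun φ => φ ≫ pullback.fst Y.hom Y.hom) h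
  have h2 := congrArg (fun φ => φ ≫ pullback.snd Y.hom Y.hom) h
  simp only [Category.assoc, pullback.diagonal_fst, pullback.diagonal_snd, pullback.lift_fst,
    pullback.lift_snd, Category.comp_id] at h1 h2
  rw [← h1, ← h2]

/-- the equaliser as an object of the small étale site -/
noncomputable def eqObj : X.Etale := Scheme.Etale.mk (eqInc a b ≫ W.hom)

/-- the inclusion of the equaliser in the small étale site -/
noncomputable def eqι : eqObj a b ⟶ W :=
  MorphismProperty.Over.homMk (eqInc a b) rfl trivial

theorem eqι_comp : eqι a b ≫ a = eqι a b ≫ b := by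
  apply MorphismProperty.Over.Hom.ext
  exact eqInc_comp a b

instance : IsOpenImmersion (eqι a b).left := inferInstanceAs (IsOpenImmersion (eqInc a b))

/-- a morphism equalising `a` and `b` factors through the equaliser -/
theorem exists_lift_eqInc {T : Scheme.{u}} (s : T ⟶ W.left) (hs : s ≫ a.left = s ≫ b.left) :
    ∃ l : T ⟶ eqSch a b, l ≫ eqInc a b = s := by
  refine ⟨pullback.lift (s ≫ a.left) s ?_, pullback.lift_snd _ _ _⟩
  apply pullback.hom_ext
  · simp only [Category.assoc, pullback.diagonal_fst, pullback.lift_fst, Category.comp_id]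
  · simp only [Category.assoc, pullback.diagonal_snd, pullback.lift_snd, Category.comp_id, hs]

theorem mem_range_eqι (w : W.left)
    (h : W.left.fromSpecResidueField w ≫ a.left = W.left.fromSpecResidueField w ≫ b.left) :
    w ∈ Set.range (eqι a b).left := by
  obtain ⟨l, hl⟩ := exists_lift_eqInc a b _ h
  refine ⟨l (IsLocalRing.closedPoint _), ?_⟩
  change (eqInc a b) (l (IsLocalRing.closedPoint _)) = w
  rw [← Scheme.Hom.comp_apply, hl, Scheme.fromSpecResidueField_apply]

end Groth.Agent.Lib.Helper27.EtTrace
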