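import Groth.Agent.Lib.Helper27.EtTrace4
import Groth.Agent.Lib.Helper27.EtTorsion1
import Groth.Agent.Lib.Helper18.GalDesc

/-!
# Galois descent of sections of étale sheaves on `Spec K`
-/

set_option autoImplicit false
set_option backward.isDefEq.respectTransparency false
universe u
open CategoryTheory Limits Opposite AlgebraicGeometry
open Groth.Agent.Lib.Helper18.GalFibre Groth.Agent.Lib.Helper23.EtGlue

namespace Groth.Agent.Lib.Helper27.EtTrace

variable {K M : Type u} [Field K] [Field M] [Algebra K M] [FiniteDimensional K M]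
  [Algebra.IsSeparable K M]

/-- `Spec M` as an object of the small étale site of `Spec K` -/
noncomputable abbrev YM (K M : Type u) [Field K] [Field M] [Algebra K M] [FiniteDimensional K M]
    [Algebra.IsSeparable K M] : (Spec (CommRingCat.of K)).Etale := Tj (sK K M)

theorem YM_hom : (YM K M).hom = sK K M := Category.id_comp _

/-- the action of an automorphism on `Spec M` in the small étale site -/
noncomputable def σE (σ : M ≃ₐ[K] M) : YM K M ⟶ YM K M :=
  MorphismProperty.Over.homMk (specσ σ) (by rw [YM_hom, specσ_sK]) trivial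

/-- the structure morphism to the terminal object -/
noncomputable abbrev πM (K M : Type u) [Field K] [Field M] [Algebra K M] [FiniteDimensional K M]
    [Algebra.IsSeparable K M] : YM K M ⟶ EtCoh.top (Spec (CommRingCat.of K)) :=
  (EtCore.topIsTerminal _).from _

theorem πM_left : (πM K M).left = sK K M := by
  have h := MorphismProperty.Over.w (πM K M)
  rw [YM_hom] at h
  rw [← h]
  exact (Category.comp_id _).symm

theorem left_comp_sK {Z : (Spec (CommRingCat.of K)).Etale} (p : Z ⟶ YM K M) :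
    p.left ≫ sK K M = Z.hom := by
  rw [← YM_hom]; exact MorphismProperty.Over.w p

/-- two morphisms to `Spec M` differ locally by an automorphism of `M` -/
theorem exists_open_twist [Normal K M] {Z : (Spec (CommRingCat.of K)).Etale}
    (p₁ p₂ : Z ⟶ YM K M) (z : Z.left) :
    ∃ (W : Z.left.Opens) (_ : z ∈ W) (σ : M ≃ₐ[K] M),
      opnι Z W ≫ p₂ = opnι Z W ≫ p₁ ≫ σE σ := by
  let c : Z.left ⟶ pullback (sK K M) (sK K M) :=
    pullback.lift p₁.left p₂.left ((left_comp_sK p₁).trans (left_comp_sK p₂).symm)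
  have hc1 : c ≫ pullback.fst _ _ = p₁.left := pullback.lift_fst _ _ _
  have hc2 : c ≫ pullback.snd _ _ = p₂.left := pullback.lift_snd _ _ _
  obtain ⟨σ, hσ⟩ := exists_mem_range_jσ (c.base z)
  let W : Z.left.Opens := c ⁻¹ᵁ (jσ σ).opensRange
  refine ⟨W, hσ, σ, ?_⟩
  have hrange : Set.range (W.ι ≫ c).base ⊆ Set.range (jσ σ).base := by
    rintro _ ⟨y, rfl⟩
    rw [Scheme.Hom.comp_apply]
    exact y.2
  let b : (W : Scheme) ⟶ Spec (CommRingCat.of M) := IsOpenImmersion.lift (jσ σ) (W.ι ≫ c) hrange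
  have hb : b ≫ jσ σ = W.ι ≫ c := IsOpenImmersion.lift_fac _ _ _
  have h1 : W.ι ≫ p₁.left = b := by
    rw [← hc1, ← Category.assoc, ← hb, Category.assoc, jσ_fst, Category.comp_id]
  have h2 : W.ι ≫ p₂.left = b ≫ specσ σ := by
    rw [← hc2, ← Category.assoc, ← hb, Category.assoc, jσ_snd]
  apply hom_ext_of_left
  change W.ι ≫ p₂.left = W.ι ≫ p₁.left ≫ specσ σ
  rw [h2, ← h1, Category.assoc]

/-- Galois descent: an invariant section over `Spec M` comes from a unique global section -/
theorem galois_descent [Normal K M] (A : EtCoh.Ab (Spec (CommRingCat.of K)))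
    (a : A.obj.obj (op (YM K M))) (ha : ∀ σ : M ≃ₐ[K] M, A.obj.map (σE σ).op a = a) :
    ∃! b : A.obj.obj (op (EtCoh.top (Spec (CommRingCat.of K)))),
      A.obj.map (πM K M).op b = a := by
  have hF : Presieve.IsSheaf (Spec (CommRingCat.of K)).smallEtaleTopology
      (A.obj ⋙ forget AddCommGrpCat.{u + 1}) :=
    (isSheaf_iff_isSheaf_of_type _ _).1
      ((Presheaf.isSheaf_iff_isSheaf_forget _ A.obj (forget AddCommGrpCat.{u + 1})).1 A.2)
  have hS : Sieve.generate (Presieve.singleton (πM K M)) ∈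
      (Spec (CommRingCat.of K)).smallEtaleTopology (EtCoh.top _) := by
    apply sieve_mem_of_forall_point
    intro x
    refine ⟨YM K M, πM K M, ⟨_, 𝟙 _, πM K M, Presieve.singleton_self _, Category.id_comp _⟩, ?_⟩
    rw [πM_left]
    exact (sK K M).surjective x
  have h1 : Presieve.IsSheafFor (A.obj ⋙ forget AddCommGrpCat.{u + 1})
      (Presieve.singleton (πM K M)) :=
    (Presieve.isSheafFor_iff_generate _).2 (hF _ hS)
  refine Presieve.isSheafFor_singleton.1 h1 a ?_
  intro Z p₁ p₂ _
  change A.obj.map p₁.op a = A.obj.map p₂.op a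
  rw [← sub_eq_zero]
  apply Groth.Agent.Lib.Helper27.EtTransport.eq_zero_of_locally
  intro z
  obtain ⟨W, hz, σ, hσ⟩ := exists_open_twist p₁ p₂ z
  refine ⟨opn Z W, opnι Z W, ⟨⟨z, hz⟩, rfl⟩, ?_⟩
  rw [map_sub, sub_eq_zero]
  have e1 : A.obj.map (opnι Z W).op (A.obj.map p₁.op a) = A.obj.map (opnι Z W ≫ p₁).op a := by
    rw [op_comp, A.obj.map_comp]; rfl
  have e2 : A.obj.map (opnι Z W).op (A.obj.map p₂.op a) = A.obj.map (opnι Z W ≫ p₂).op a := by
    rw [op_comp, A.obj.map_comp]; rfl
  have e3 : A.obj.map (opnι Z W ≫ p₁ ≫ σE σ).op a =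
      A.obj.map (opnι Z W ≫ p₁).op (A.obj.map (σE σ).op a) := by
    rw [← Category.assoc, op_comp, A.obj.map_comp]; rfl
  rw [e1, e2, hσ, e3, ha]

end Groth.Agent.Lib.Helper27.EtTrace
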