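import Groth.Agent.Lib.Helper27.EtTrace6

/-!
# The norm morphism `ℤ → f_! ℤ` for a finite separable extension, and torsion of cohomology classes
-/

set_option autoImplicit false
set_option backward.isDefEq.respectTransparency false
universe u
open CategoryTheory Limits Opposite AlgebraicGeometry
open Groth.Agent.Lib.Helper18.GalFibre Groth.Agent.Lib.Helper23.EtGlue
  Groth.Agent.Lib.Helper27.GabberCrit

namespace Groth.Agent.Lib.Helper27.EtTrace

variable (K L M : Type u) [Field K] [Field L] [Field M] [Algebra K L] [Algebra K M]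
  [FiniteDimensional K L] [Algebra.IsSeparable K L]
  [FiniteDimensional K M] [Algebra.IsSeparable K M]

theorem map_πM_injective [Normal K M] (A : EtCoh.Ab (Spec (CommRingCat.of K)))
    (x y : A.obj.obj (op (EtCoh.top (Spec (CommRingCat.of K)))))
    (h : A.obj.map (πM K M).op x = A.obj.map (πM K M).op y) : x = y := by
  have hinv : ∀ σ : M ≃ₐ[K] M,
      A.obj.map (σE σ).op (A.obj.map (πM K M).op y) = A.obj.map (πM K M).op y := by
    intro σ
    change (A.obj.map (πM K M).op ≫ A.obj.map (σE σ).op) y = _
    rw [← A.obj.map_comp, ← op_comp]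
    congr 3
    exact congrArg Quiver.Hom.op ((EtCore.topIsTerminal _).hom_ext _ _)
  obtain ⟨b, -, huniq⟩ := galois_descent A (A.obj.map (πM K M).op y) hinv
  rw [huniq x h, huniq y rfl]

/-- the norm morphism -/
theorem exists_norm [Normal K M] :
    ∃ N : EtCoh.const (Spec (CommRingCat.of K)) ℤ ⟶ Zj (sK K L),
      N ≫ εj (sK K L) = Fintype.card (L →ₐ[K] M) • 𝟙 _ := by
  obtain ⟨N₀, hN₀, -⟩ := galois_descent (Zj (sK K L)) (normSec K L M) (normSec_invariant K L M)
  have hε : (εj (sK K L)).hom.app (op (EtCoh.top _)) N₀ =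
      Fintype.card (L →ₐ[K] M) • oneSec (Spec (CommRingCat.of K)) := by
    apply map_πM_injective K M
    have nat := ConcreteCategory.congr_hom ((εj (sK K L)).hom.naturality (πM K M).op) N₀
    simp only [ConcreteCategory.comp_apply] at nat
    rw [← nat, hN₀, ε_normSec, map_nsmul]
  refine exists_norm_of_section (sK K L) _ ((ev1 _).symm N₀) ?_
  apply (ev1 _).injective
  rw [ev1_comp, AddEquiv.apply_symm_apply, hε, map_nsmul]
  rfl

end Groth.Agent.Lib.Helper27.EtTrace
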