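import Groth.Agent.Lib.Helper27.EtTrace7

/-!
# A class dying over a finite separable extension is killed by the degree
-/

set_option autoImplicit false
set_option backward.isDefEq.respectTransparency false
universe u
open CategoryTheory Limits Opposite AlgebraicGeometry
open Groth.Agent.Lib.Helper18.GalFibre

namespace Groth.Agent.Lib.Helper27.EtTrace

variable (K L : Type u) [Field K] [Field L] [Algebra K L]
  [FiniteDimensional K L] [Algebra.IsSeparable K L]

/-- the norm `N : ℤ → f_! ℤ` with `N ≫ ε = [L : K]` -/
theorem exists_norm_finrank :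
    ∃ N : EtCoh.const (Spec (CommRingCat.of K)) ℤ ⟶ Zj (sK K L),
      N ≫ εj (sK K L) = Module.finrank K L • 𝟙 _ := by
  let pb := Field.powerBasisOfFiniteOfSeparable K L
  let p := minpoly K pb.gen
  have hp : p.Separable := Algebra.IsSeparable.isSeparable K pb.gen
  let M := p.SplittingField
  have : FiniteDimensional K M := Polynomial.IsSplittingField.finiteDimensional M p
  have : IsGalois K M := IsGalois.of_separable_splitting_field hp
  have hcard : Fintype.card (L →ₐ[K] M) = Module.finrank K L := by
    rw [Fintype.card_eq_nat_card, AlgHom.natCard_of_powerBasis pb hp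
      (Polynomial.SplittingField.splits p), PowerBasis.finrank]
  obtain ⟨N, hN⟩ := exists_norm K L M
  exact ⟨N, by rw [hN, hcard]⟩

/-- restriction–corestriction for a finite separable extension of fields -/
theorem finrank_nsmul_eq_zero (F : EtCoh.Ab (Spec (CommRingCat.of K))) (i : ℕ)
    (α : EtCoh.H (Spec (CommRingCat.of K)) F i)
    (hα : EtCore.Hpull (sK K L) F i α = 0) : Module.finrank K L • α = 0 := by
  obtain ⟨N, hN⟩ := exists_norm_finrank K L
  exact nsmul_eq_zero_of_norm (sK K L) _ N hN F i α hα

end Groth.Agent.Lib.Helper27.EtTrace
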