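import Groth.Agent.Lib.Helper27.EtTrace8

/-!
# Every positive-degree class on `Spec K` dies over a finite separable extension
-/

set_option autoImplicit false
set_option backward.isDefEq.respectTransparency false
universe u
open CategoryTheory Limits Opposite AlgebraicGeometry Abelian
open Groth.Agent.Lib.Helper18.GalFibre Groth.Agent.Lib.Helper23.EtGlue
  Groth.Agent.Lib.Helper27.GabberCrit

namespace Groth.Agent.Lib.Helper27.EtTrace

variable {K : Type u} [Field K]

/-- a point of an étale `K`-scheme gives a finite separable extension `L` with `Spec L ⟶ T` -/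
theorem exists_finite_separable_point (T : (Spec (CommRingCat.of K)).Etale) (t : T.left) :
    ∃ (L : Type u) (_ : Field L) (_ : Algebra K L) (_ : FiniteDimensional K L)
      (_ : Algebra.IsSeparable K L), Nonempty (YM K L ⟶ T) := by
  let g := T.left.fromSpecResidueField t ≫ T.hom
  let φ : CommRingCat.of K ⟶ T.left.residueField t := Spec.preimage g
  have hφ : Spec.map φ = g := Spec.map_preimage g
  letI : Algebra K (T.left.residueField t) := φ.hom.toAlgebra
  have hess : Algebra.EssFiniteType K (T.left.residueField t) := by
    rw [← RingHom.essFiniteType_algebraMap, RingHom.algebraMap_toAlgebra]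
    exact essFiniteType_preimage T.hom t
  have hunr : Algebra.FormallyUnramified K (T.left.residueField t) := by
    rw [← RingHom.formallyUnramified_algebraMap, RingHom.algebraMap_toAlgebra]
    have h0 : FormallyUnramified (T.left.fromSpecResidueField t) := by
      have : Mono (T.left.fromSpecResidueField t) := inferInstance
      have : IsIso (pullback.diagonal (T.left.fromSpecResidueField t)) := inferInstance
      infer_instance
    have h1 : FormallyUnramified g :=
      MorphismProperty.comp_mem (W := @FormallyUnramified) _ _ h0 inferInstance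
    rw [← hφ] at h1
    exact (HasRingHomProperty.Spec_iff (P := @FormallyUnramified)).1 h1
  have hfin : Module.Finite K (T.left.residueField t) :=
    Algebra.FormallyUnramified.finite_of_free K _
  have hsep : Algebra.IsSeparable K (T.left.residueField t) :=
    Algebra.FormallyUnramified.isSeparable K _
  refine ⟨T.left.residueField t, inferInstance, inferInstance, hfin, hsep, ⟨?_⟩⟩
  refine MorphismProperty.Over.homMk (T.left.fromSpecResidueField t) ?_ trivial
  rw [YM_hom]
  exact hφ.symm

/-- every class of positive degree on `Spec K` is killed over a finite separable extension -/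
theorem exists_finite_separable_kill (F : EtCoh.Ab (Spec (CommRingCat.of K))) (n : ℕ)
    (ξ : EtCoh.H (Spec (CommRingCat.of K)) F (n + 1)) :
    ∃ (L : Type u) (_ : Field L) (_ : Algebra K L) (_ : FiniteDimensional K L)
      (_ : Algebra.IsSeparable K L),
      (Ext.mk₀ (εj (sK K L))).comp ξ (zero_add (n + 1)) = 0 := by
  obtain ⟨P, π, hπ, h0⟩ := exists_epi_comp_eq_zero n ξ
  have hls : Sheaf.IsLocallySurjective π :=
    (Sheaf.isLocallySurjective_iff_epi' AddCommGrpCat.{u + 1} π).2 inferInstance
  have hcov := hls.imageSieve_mem (U := EtCoh.top _) (oneSec _)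
  obtain ⟨T, a, ⟨p, hp⟩, t, -⟩ := exists_arrow_of_mem _ hcov
    (show (EtCoh.top (Spec (CommRingCat.of K))).left from (⊥ : PrimeSpectrum K))
  obtain ⟨L, iF, iA, iFD, iS, ⟨tL⟩⟩ := exists_finite_separable_point T t
  refine ⟨L, iF, iA, iFD, iS, ?_⟩
  obtain ⟨m, hm⟩ := (sMorE_bijective (sK K L) P).2 ((ev1 _).symm (P.obj.map tL.op p))
  have hmπ : m ≫ π = εj (sK K L) := by
    apply (sMorE_bijective (sK K L) (EtCoh.const _ ℤ)).1
    rw [sMorE_naturality, hm, sMorE_εj]
    apply (ev1 _).injective
    rw [ev1_comp, AddEquiv.apply_symm_apply, ev1_comp]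
    have nat := ConcreteCategory.congr_hom (π.hom.naturality tL.op) p
    simp only [ConcreteCategory.comp_apply] at nat
    rw [nat, hp]
    change ((EtCoh.const _ ℤ).obj.map a.op ≫ (EtCoh.const _ ℤ).obj.map tL.op) (oneSec _) = _
    rw [← Functor.map_comp, ← op_comp]
    congr 3
    exact congrArg Quiver.Hom.op ((EtCore.topIsTerminal _).hom_ext _ _)
  rw [← hmπ, ← Ext.mk₀_comp_mk₀, Ext.comp_assoc_of_second_deg_zero, h0, Ext.comp_zero]

end Groth.Agent.Lib.Helper27.EtTrace
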