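import Mathlib.Algebra.Homology.DerivedCategory.Ext.MapBijective
import Mathlib.CategoryTheory.Sites.Equivalence
import Mathlib.CategoryTheory.Sites.SheafCohomology.Basic

/-!
# Transport of Ext functors along an equivalence of abelian categories (helper27)
-/

set_option autoImplicit false

universe w v v' u u'

open CategoryTheory CategoryTheory.Limits Opposite Abelian

namespace Groth.Agent.Lib.Helper27.EtTransport

section Ext

variable {𝒜 : Type u} [Category.{v} 𝒜] [Abelian 𝒜] {ℬ : Type u'} [Category.{v'} ℬ] [Abelian ℬ]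
  [HasExt.{w} 𝒜] [HasExt.{w} ℬ] [EnoughInjectives 𝒜]
  (Φ : 𝒜 ⥤ ℬ) [Φ.IsEquivalence] [Φ.Additive]

/-- Ext functors correspond under an equivalence of abelian categories -/
noncomputable def extFunctorObjIso (Z : 𝒜) (n : ℕ) :
    extFunctorObj Z n ≅ Φ ⋙ extFunctorObj (Φ.obj Z) n :=
  NatIso.ofComponents
    (fun Y => (AddEquiv.ofBijective (Φ.mapExtAddHom Z Y n)
      (Φ.mapExt_bijective_of_preservesInjectiveObjects Z Y n)).toAddCommGrpIso)
    (by
      intro Y Y' f
      ext x
      change Ext.mapExactFunctor Φ (x.comp (Ext.mk₀ f) (add_zero n)) =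
        (Ext.mapExactFunctor Φ x).comp (Ext.mk₀ (Φ.map f)) (add_zero n)
      rw [Ext.mapExactFunctor_comp, Ext.mapExactFunctor_mk₀])

/-- transport of preservation of colimits along an equivalence -/
theorem preservesColimitsOfShape_extFunctorObj (Z : 𝒜) (n : ℕ) (I : Type*) [Category I]
    [PreservesColimitsOfShape I (extFunctorObj (Φ.obj Z) n)] :
    PreservesColimitsOfShape I (extFunctorObj Z n) :=
  preservesColimitsOfShape_of_natIso (extFunctorObjIso Φ Z n).symm

end Ext

end Groth.Agent.Lib.Helper27.EtTransport
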