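import Groth.Agent.Lib.Helper27.EtTransport1
import Groth.Agent.Lib.Helper23.EtGlue2
import Groth.Prelude.Def_EtBase

/-!
# A small model of the small étale site (helper27)

`DE X := ULiftHom X.Etale` is a small category (in universe `u + 1`) equivalent to `X.Etale`; we
transport the étale topology to it and characterize covering sieves pointwise.
-/

set_option autoImplicit false

universe u

open CategoryTheory CategoryTheory.Limits Opposite AlgebraicGeometry

namespace Groth.Agent.Lib.Helper27.EtTransport

variable (X : Scheme.{u})

/-- the small model of the étale site -/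
abbrev DE : Type (u + 1) := ULiftHom.{u + 1} X.Etale

/-- the equivalence with the étale site -/
abbrev eE : X.Etale ≌ DE X := ULiftHom.equiv

/-- the transported topology -/
abbrev KE : GrothendieckTopology (DE X) := (eE X).inverse.inducedTopology X.smallEtaleTopology

instance : HasPullbacks (DE X) := Adjunction.hasLimitsOfShape_of_equivalence (eE X).inverse

variable {X}

/-- the underlying scheme of an object of the small model -/
abbrev sch (V : DE X) : Scheme.{u} := (ULiftHom.objDown V).left

/-- the underlying scheme morphism of a morphism of the small model -/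
abbrev schMap {V W : DE X} (g : V ⟶ W) : sch V ⟶ sch W := g.down.left

/-- the structure morphism -/
abbrev str (V : DE X) : sch V ⟶ X := (ULiftHom.objDown V).hom

lemma schMap_comp {V W Z : DE X} (g : V ⟶ W) (h : W ⟶ Z) :
    schMap (g ≫ h) = schMap g ≫ schMap h := rfl

lemma schMap_str {V W : DE X} (g : V ⟶ W) : schMap g ≫ str W = str V :=
  CategoryTheory.Over.w g.down.hom

lemma mem_KE_iff (U : DE X) (S : Sieve U) :
    S ∈ KE X U ↔ ∀ x : sch U, ∃ (V : DE X) (g : V ⟶ U), S g ∧ x ∈ Set.range (schMap g) := by
  rw [Functor.mem_inducedTopology_iff_of_isCoverDense]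
  constructor
  · intro h x
    obtain ⟨T, g', ⟨V, g, k, hg, rfl⟩, y, hy⟩ :=
      Groth.Agent.Lib.Helper23.EtGlue.exists_arrow_of_mem _ h x
    refine ⟨V, g, hg, ⟨k.left y, ?_⟩⟩
    exact hy
  · intro h
    apply Groth.Agent.Lib.Helper23.EtGlue.sieve_mem_of_forall_point
    intro x
    obtain ⟨V, g, hg, hx⟩ := h x
    exact ⟨ULiftHom.objDown V, g.down, ⟨V, g, 𝟙 _, hg, (Category.id_comp _).symm⟩, hx⟩

end Groth.Agent.Lib.Helper27.EtTransport
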