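import Groth.Agent.Lib.Helper27.EtTransport2
import Mathlib.CategoryTheory.Limits.Constructions.FiniteProductsOfBinaryProducts
import Mathlib.CategoryTheory.Limits.Constructions.Over.Products

/-!
# Quasi-compact quasi-separated objects of the small étale site (helper27)
-/

set_option autoImplicit false

universe u

open CategoryTheory CategoryTheory.Limits Opposite AlgebraicGeometry

namespace Groth.Agent.Lib.Helper27.EtTransport

variable {X : Scheme.{u}}

/-- the functor to schemes -/
noncomputable abbrev Ψ (X : Scheme.{u}) : DE X ⥤ Scheme.{u} :=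
  (eE X).inverse ⋙ Scheme.Etale.forget X ⋙ Over.forget X

lemma Ψ_obj (V : DE X) : (Ψ X).obj V = sch V := rfl

lemma Ψ_map {V W : DE X} (g : V ⟶ W) : (Ψ X).map g = schMap g := rfl

/-- objects which are quasi-compact and quasi-separated over `X` -/
def BE (X : Scheme.{u}) : Set (DE X) := {V | QuasiCompact (str V) ∧ QuasiSeparated (str V)}

lemma mem_BE_of_iso {V W : DE X} (i : V ≅ W) (hV : V ∈ BE X) : W ∈ BE X := by
  obtain ⟨h1, h2⟩ := hV
  have hw : str W = schMap i.inv ≫ str V := (schMap_str i.inv).symm
  have hiso : IsIso (schMap i.inv) :=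
    (inferInstance : IsIso ((Ψ X).mapIso i).inv)
  constructor
  · rw [hw]; infer_instance
  · rw [hw]; infer_instance

/-- the fibre product of two qcqs objects over a qcqs object is qcqs -/
lemma mem_BE_of_isPullback {P A B U : DE X} {fst : P ⟶ A} {snd : P ⟶ B} {f : A ⟶ U} {g : B ⟶ U}
    (h : IsPullback fst snd f g) (hA : A ∈ BE X) (hB : B ∈ BE X) (hU : U ∈ BE X) :
    P ∈ BE X := by
  obtain ⟨hA1, hA2⟩ := hA
  obtain ⟨hB1, hB2⟩ := hB
  obtain ⟨hU1, hU2⟩ := hU
  have h' : IsPullback (schMap fst) (schMap snd) (schMap f) (schMap g) := h.map (Ψ X)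
  -- `B ⟶ U` is qcqs
  have hg1 : QuasiCompact (schMap g) := by
    have : QuasiCompact (schMap g ≫ str U) := by rw [schMap_str]; exact hB1
    exact QuasiCompact.of_comp (schMap g) (str U)
  have hg2 : QuasiSeparated (schMap g) := by
    have : QuasiSeparated (schMap g ≫ str U) := by rw [schMap_str]; exact hB2
    exact QuasiSeparated.of_comp (schMap g) (str U)
  have hf1 : QuasiCompact (schMap fst) :=
    MorphismProperty.of_isPullback (P := @QuasiCompact) h'.flip hg1
  have hf2 : QuasiSeparated (schMap fst) :=
    MorphismProperty.of_isPullback (P := @QuasiSeparated) h'.flip hg2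
  have hw : str P = schMap fst ≫ str A := (schMap_str fst).symm
  constructor
  · rw [hw]; infer_instance
  · rw [hw]; infer_instance

end Groth.Agent.Lib.Helper27.EtTransport
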