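import Groth.Agent.Lib.Helper27.ToposFP2
import Groth.Agent.Lib.Helper13.ToposQC8

/-!
# Coherent objects are finitely presentable (when quasi-compact objects generate)
-/

set_option autoImplicit false
set_option backward.isDefEq.respectTransparency false
set_option backward.isDefEq.respectTransparency.types false

universe w u

open CategoryTheory CategoryTheory.Limits Opposite

namespace Groth.Agent.Lib.Helper27.ToposFP

open ToposFin Groth.Agent.Lib.Helper13.ToposQC Groth.Agent.Lib.Helper27.ToposColim

variable {C : Type u} [SmallCategory C] {J : GrothendieckTopology C}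

section

variable {I : Type u} [SmallCategory I] [IsFiltered I]

/-- finitely many objects of a filtered category map to a common object -/
theorem exists_common_obj {κ : Type w} [Finite κ] (k : κ → I) :
    ∃ (k₀ : I), ∀ j, Nonempty (k j ⟶ k₀) := by
  classical
  haveI := Fintype.ofFinite κ
  obtain ⟨S, hS⟩ := IsFiltered.sup_objs_exists (Finset.univ.image k)
  exact ⟨S, fun j => hS (Finset.mem_image_of_mem k (Finset.mem_univ j))⟩

/-- a map from a quasi-separated object to a filtered colimit which factors through members of the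
diagram on a finite cover by quasi-compact objects factors through a member of the diagram -/
theorem exists_factor_of_finite_cover {X : Sh J} (hXs : IsQS X) {κ : Type w} [Finite κ]
    (G : κ → Sh J) (hG : ∀ j, IsQC (G j)) (p : ∀ j, G j ⟶ X) (hp : JLS p)
    {D : I ⥤ Sh J} {c : Cocone D} (hc : IsColimit c) (h : X ⟶ c.pt)
    (k : κ → I) (q : ∀ j, G j ⟶ D.obj (k j)) (hq : ∀ j, p j ≫ h = q j ≫ c.ι.app (k j)) :
    ∃ (i : I) (f : X ⟶ D.obj i), f ≫ c.ι.app i = h := by
  classical
  haveI := Fintype.ofFinite κ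
  obtain ⟨k₀, hk₀⟩ := exists_common_obj k
  let t : ∀ j, k j ⟶ k₀ := fun j => (hk₀ j).some
  obtain ⟨q', hq'⟩ : ∃ q' : ∀ j, G j ⟶ D.obj k₀, ∀ j, p j ≫ h = q' j ≫ c.ι.app k₀ := by
    refine ⟨fun j => q j ≫ D.map (t j), ?_⟩
    intro j
    rw [hq j, Category.assoc, c.w]
  -- the overlaps
  have hW : ∀ jj : κ × κ, IsQC (pullback (p jj.1) (p jj.2)) := fun jj =>
    hXs _ _ _ _ (hG jj.1) (hG jj.2)
  have hinj : ∀ jj : κ × κ, ∃ (l : I) (w : k₀ ⟶ l),
      pullback.fst (p jj.1) (p jj.2) ≫ q' jj.1 ≫ D.map w =
        pullback.snd (p jj.1) (p jj.2) ≫ q' jj.2 ≫ D.map w := by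
    intro jj
    have e : (pullback.fst (p jj.1) (p jj.2) ≫ q' jj.1) ≫ c.ι.app k₀ =
        (pullback.snd (p jj.1) (p jj.2) ≫ q' jj.2) ≫ c.ι.app k₀ := by
      rw [Category.assoc, Category.assoc, ← hq', ← hq', ← Category.assoc, ← Category.assoc,
        pullback.condition]
    obtain ⟨l, w, hw⟩ := injAt_of_isQC (hW jj) hc k₀ _ _ e
    exact ⟨l, w, by simpa only [Category.assoc] using hw⟩
  obtain ⟨k₁, w₁, hw₁⟩ := exists_common (Finset.univ : Finset (κ × κ)) k₀
    (fun jj l w => pullback.fst (p jj.1) (p jj.2) ≫ q' jj.1 ≫ D.map w =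
        pullback.snd (p jj.1) (p jj.2) ≫ q' jj.2 ≫ D.map w)
    (by
      intro jj l w l' t' hh
      have := hh =≫ D.map t'
      simpa only [Category.assoc, D.map_comp] using this)
    (fun jj _ => hinj jj)
  let g : ∀ j, G j ⟶ D.obj k₁ := fun j => q' j ≫ D.map w₁
  have hcompat : DescCompat p g := by
    intro j j' U a b hab
    obtain ⟨z, hz1, hz2⟩ := exists_section_of_isPullback
      (IsPullback.of_hasPullback (p j) (p j')) (op U) a b hab
    have := congrArg (fun φ => φ.hom.app (op U) z) (hw₁ (j, j') (Finset.mem_univ _))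
    simp only [comp_app_apply] at this
    rw [hz1, hz2] at this
    exact this
  obtain ⟨φ, hφ, -⟩ := existsUnique_desc hp hcompat
  refine ⟨k₁, φ, ?_⟩
  apply hom_ext_of_jls hp
  intro j
  rw [← Category.assoc, hφ j, hq' j]
  change (q' j ≫ D.map w₁) ≫ c.ι.app k₁ = _
  rw [Category.assoc, c.w]

/-- a coherent object, in a topos generated by quasi-compact objects: every map to a filtered
colimit factors through a member of the diagram -/
theorem surjAt_of_isCoherent (hE : HasQCGenerators J) {X : Sh J} (hX : IsCoherent X)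
    {D : I ⥤ Sh J} {c : Cocone D} (hc : IsColimit c) : SurjAt X c := by
  intro h
  have hfst : JLS (fun k : I => pullback.fst h (c.ι.app k)) :=
    jls_of_isPullback (fun k => c.ι.app k) (jls_legs hc) h _
      (fun k => pullback.snd h (c.ι.app k))
      (fun k => (IsPullback.of_hasPullback h (c.ι.app k)).flip)
  choose M G ρ hG hρ using fun k : I => hE (pullback h (c.ι.app k))
  have hρ' : ∀ k, JLS (ρ k) := fun k => jls_of_epi _ (hρ k)
  have hjls := jls_comp_family _ hfst G ρ hρ'
  obtain ⟨s, hs⟩ := (isQC_iff X).1 hX.1 _ _ _ hjls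
  exact exists_factor_of_finite_cover hX.2 (fun j : s => G j.1.1 j.1.2) (fun j => hG _ _)
    (fun j : s => ρ j.1.1 j.1.2 ≫ pullback.fst h (c.ι.app j.1.1)) hs hc h
    (fun j => j.1.1) (fun j => ρ j.1.1 j.1.2 ≫ pullback.snd h (c.ι.app j.1.1))
    (fun j => by rw [Category.assoc, Category.assoc, pullback.condition])

end

/-- a coherent object of a topos generated by quasi-compact objects is finitely presentable -/
theorem isFP_of_isCoherent (hE : HasQCGenerators J) {X : Sh J} (hX : IsCoherent X) : IsFP X := by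
  intro I _ _ D
  rw [bijective_post_iff]
  exact ⟨injAt_of_isQC hX.1 (colimit.isColimit D), surjAt_of_isCoherent hE hX (colimit.isColimit D)⟩

end Groth.Agent.Lib.Helper27.ToposFP
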