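import Groth.Agent.Lib.Helper6.CechFamLES
import Groth.Agent.Lib.Helper27.ToposFP3
import Mathlib.Algebra.Homology.ShortComplex.Ab
import Mathlib.Algebra.Homology.ShortComplex.HomologicalComplex

/-!
# Vanishing of Čech cohomology passes to suitable cocones over filtered diagrams of presheaves
-/

set_option autoImplicit false

universe u

open CategoryTheory CategoryTheory.Limits Opposite Simplicial

namespace Groth.Agent.Lib.Helper27.ExtFilt

open Groth.Agent.Lib.Helper6.CechFamLES Groth.Agent.Lib.Helper27.ToposFP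

variable {D : Type u} [SmallCategory D] (E : SimplicialObject (FormalCoproduct.{u} D))

/-- the Čech complex functor of a simplicial formal coproduct -/
noncomputable abbrev Cc : (Dᵒᵖ ⥤ AddCommGrpCat.{u}) ⥤ CochainComplex AddCommGrpCat.{u} ℕ :=
  FormalCoproduct.cochainComplexFunctor (A := AddCommGrpCat.{u}) E

/-- elementwise exactness of a cochain complex of abelian groups -/
theorem isZero_homology_iff (K : CochainComplex AddCommGrpCat.{u} ℕ) (q : ℕ) :
    IsZero (K.homology (q + 1)) ↔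
      ∀ z : K.X (q + 1), K.d (q + 1) (q + 2) z = 0 → ∃ w : K.X q, K.d q (q + 1) w = z := by
  rw [← HomologicalComplex.exactAt_iff_isZero_homology,
    HomologicalComplex.exactAt_iff' K q (q + 1) (q + 2) (by simp) (by simp),
    ShortComplex.ab_exact_iff]
  rfl

section

variable {I : Type u} [SmallCategory I] [IsFiltered I] (P : I ⥤ (Dᵒᵖ ⥤ AddCommGrpCat.{u}))
  (c : Cocone P)

theorem Cc_map_apply {Q Q' : Dᵒᵖ ⥤ AddCommGrpCat.{u}} (φ : Q ⟶ Q') (m : ℕ)
    (z : ((Cc E).obj Q).X m) (a : (E.obj (op ⦋m⦌)).I) :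
    Concrete.productEquiv _ (((Cc E).map φ).f m z) a =
      φ.app (op ((E.obj (op ⦋m⦌)).obj a)) (Concrete.productEquiv _ z a) :=
  piMap_apply (fun i : (E.obj (op ⦋m⦌)).I => φ.app (op ((E.obj (op ⦋m⦌)).obj i))) z a

theorem Cc_ι_apply (i : I) (m : ℕ) (z : ((Cc E).obj (P.obj i)).X m) (a : (E.obj (op ⦋m⦌)).I) :
    Concrete.productEquiv (fun a : (E.obj (op ⦋m⦌)).I => c.pt.obj (op ((E.obj (op ⦋m⦌)).obj a)))
      (((Cc E).map (c.ι.app i)).f m z) a =
      (c.ι.app i).app (op ((E.obj (op ⦋m⦌)).obj a)) (Concrete.productEquiv _ z a) :=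
  Cc_map_apply E (c.ι.app i) m z a

variable (hfin : ∀ m : ℕ, Finite (E.obj (op ⦋m⦌)).I)
  (hsurj : ∀ (m : ℕ) (a : (E.obj (op ⦋m⦌)).I) (z : c.pt.obj (op ((E.obj (op ⦋m⦌)).obj a))),
    ∃ (i : I) (s : (P.obj i).obj (op ((E.obj (op ⦋m⦌)).obj a))), (c.ι.app i).app _ s = z)
  (hinj : ∀ (m : ℕ) (a : (E.obj (op ⦋m⦌)).I) (i : I)
    (s : (P.obj i).obj (op ((E.obj (op ⦋m⦌)).obj a))), (c.ι.app i).app _ s = 0 →
    ∃ (j : I) (u : i ⟶ j), (P.map u).app _ s = 0)

include hfin hsurj in
theorem cech_surj (m : ℕ) (z : ((Cc E).obj c.pt).X m) :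
    ∃ (i : I) (zi : ((Cc E).obj (P.obj i)).X m), ((Cc E).map (c.ι.app i)).f m zi = z := by
  classical
  haveI := hfin m
  choose ia sa hsa using fun a => hsurj m a (Concrete.productEquiv _ z a)
  obtain ⟨i₀, hi₀⟩ := exists_common_obj ia
  let t : ∀ a, ia a ⟶ i₀ := fun a => (hi₀ a).some
  refine ⟨i₀, (Concrete.productEquiv _).symm (fun a => (P.map (t a)).app _ (sa a)), ?_⟩
  apply (Concrete.productEquiv
    (fun a : (E.obj (op ⦋m⦌)).I => c.pt.obj (op ((E.obj (op ⦋m⦌)).obj a)))).injective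
  funext a
  refine (Cc_ι_apply E P c i₀ m _ a).trans ?_
  rw [Equiv.apply_symm_apply]
  refine Eq.trans ?_ (hsa a)
  have := c.w (t a)
  rw [← this]
  rfl

include hfin hinj in
theorem cech_inj (m : ℕ) (i : I) (zi : ((Cc E).obj (P.obj i)).X m)
    (h : ((Cc E).map (c.ι.app i)).f m zi = 0) :
    ∃ (j : I) (u : i ⟶ j), ((Cc E).map (P.map u)).f m zi = 0 := by
  classical
  haveI := hfin m
  haveI := Fintype.ofFinite (E.obj (op ⦋m⦌)).I
  have ha : ∀ a : (E.obj (op ⦋m⦌)).I, ∃ (l : I) (w : i ⟶ l),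
      (P.map w).app (op ((E.obj (op ⦋m⦌)).obj a)) (Concrete.productEquiv _ zi a) = 0 := by
    intro a
    apply hinj m a i
    refine (Cc_ι_apply E P c i m zi a).symm.trans ?_
    rw [h, Concrete.productEquiv_apply_apply]
    exact map_zero _
  obtain ⟨j, u, hu⟩ := exists_common (Finset.univ : Finset (E.obj (op ⦋m⦌)).I) i
    (fun a l w => (P.map w).app (op ((E.obj (op ⦋m⦌)).obj a)) (Concrete.productEquiv _ zi a) = 0)
    (by
      intro a l w l' t hh
      rw [P.map_comp]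
      change (P.map t).app _ ((P.map w).app _ _) = 0
      rw [hh, map_zero])
    (fun a _ => ha a)
  refine ⟨j, u, ?_⟩
  apply (Concrete.productEquiv _).injective
  funext a
  rw [Cc_map_apply, hu a (Finset.mem_univ (α := (E.obj (op ⦋m⦌)).I) a),
    Concrete.productEquiv_apply_apply]
  exact (map_zero _).symm

include hfin hsurj hinj in
/-- vanishing of Čech cohomology passes to the cocone -/
theorem isZero_homology_cocone (q : ℕ)
    (hex : ∀ i, IsZero (((Cc E).obj (P.obj i)).homology (q + 1))) :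
    IsZero (((Cc E).obj c.pt).homology (q + 1)) := by
  rw [isZero_homology_iff]
  intro z hz
  obtain ⟨i, zi, rfl⟩ := cech_surj E P c hfin hsurj (q + 1) z
  have h1 : ((Cc E).map (c.ι.app i)).f (q + 2) (((Cc E).obj (P.obj i)).d (q + 1) (q + 2) zi) =
      0 := by
    have := ConcreteCategory.congr_hom (((Cc E).map (c.ι.app i)).comm (q + 1) (q + 2)) zi
    exact this.symm.trans hz
  obtain ⟨j, u, hu⟩ := cech_inj E P c hfin hinj (q + 2) i _ h1
  have h2 : ((Cc E).obj (P.obj j)).d (q + 1) (q + 2) (((Cc E).map (P.map u)).f (q + 1) zi) =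
      0 := by
    have := ConcreteCategory.congr_hom (((Cc E).map (P.map u)).comm (q + 1) (q + 2)) zi
    exact this.trans hu
  obtain ⟨w, hw⟩ := (isZero_homology_iff _ q).1 (hex j) _ h2
  refine ⟨((Cc E).map (c.ι.app j)).f q w, ?_⟩
  have h3 := ConcreteCategory.congr_hom (((Cc E).map (c.ι.app j)).comm q (q + 1)) w
  refine h3.trans ?_
  change ((Cc E).map (c.ι.app j)).f (q + 1) (((Cc E).obj (P.obj j)).d q (q + 1) w) = _
  rw [hw]
  have h4 : (Cc E).map (P.map u) ≫ (Cc E).map (c.ι.app j) = (Cc E).map (c.ι.app i) := by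
    rw [← Functor.map_comp, c.w]
  have h5 := ConcreteCategory.congr_hom (congrArg (fun φ => φ.f (q + 1)) h4) zi
  exact h5

end

end Groth.Agent.Lib.Helper27.ExtFilt
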