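import Groth.Agent.Lib.Helper27.ExtFiltSite
import Groth.Agent.Lib.Helper27.ExtFiltCech
import Groth.Agent.Lib.Helper6.CechFamCartan

/-!
# Cohomology over members of a collection of quasi-compact objects commutes with filtered
colimits of abelian sheaves
-/

set_option autoImplicit false

universe v u

open CategoryTheory CategoryTheory.Limits Opposite Abelian Simplicial

namespace Groth.Agent.Lib.Helper27.ExtFilt

open ToposFin Groth.Agent.Lib.Helper6 Groth.Agent.Lib.Helper6.SheafCoh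

section Pullback

variable {C : Type u} [Category.{v} C] {U : C}

/-- a family of morphisms indexed by `Fin 2` -/
def famHom {T : Over U} (Z : Fin 2 → Over U) (x : T ⟶ Z 0) (y : T ⟶ Z 1) : ∀ b, T ⟶ Z b
  | 0 => x
  | 1 => y

theorem isPullback_pi_two (Z : Fin 2 → Over U) [HasProduct Z] :
    IsPullback (Pi.π Z 0).left (Pi.π Z 1).left (Z 0).hom (Z 1).hom := by
  have hw : (Pi.π Z 0).left ≫ (Z 0).hom = (Pi.π Z 1).left ≫ (Z 1).hom := by
    rw [Over.w, Over.w]
  refine ⟨⟨hw⟩, ⟨PullbackCone.IsLimit.mk _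
    (fun s => (Pi.lift (famHom (T := Over.mk (s.fst ≫ (Z 0).hom)) Z (Over.homMk s.fst rfl)
      (Over.homMk s.snd s.condition.symm))).left) ?_ ?_ ?_⟩⟩
  · intro s
    rw [← Over.comp_left, Pi.lift_π]
    rfl
  · intro s
    rw [← Over.comp_left, Pi.lift_π]
    rfl
  · intro s m h0 h1
    have hm : m ≫ (∏ᶜ Z).hom = s.fst ≫ (Z 0).hom := by
      rw [← h0, Category.assoc, Over.w]
    have : (Over.homMk m hm : Over.mk (s.fst ≫ (Z 0).hom) ⟶ ∏ᶜ Z) =
        Pi.lift (famHom (T := Over.mk (s.fst ≫ (Z 0).hom)) Z (Over.homMk s.fst rfl)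
          (Over.homMk s.snd s.condition.symm)) := by
      apply Pi.hom_ext
      intro b
      rw [Pi.lift_π]
      apply Over.OverMorphism.ext
      fin_cases b
      · exact h0
      · exact h1
    exact congrArg (fun φ => φ.left) this

end Pullback

variable {C : Type u} [SmallCategory C] [HasPullbacks C]
  (J : GrothendieckTopology C) (B : Set C) (Cov : ∀ (U : C) (ι : Type u), (ι → Over U) → Prop)
  (h1 : ∀ (U : C) (ι : Type u) (Y : ι → Over U), Cov U ι Y → Finite ι ∧ U ∈ B ∧
      Sieve.ofArrows (fun i => (Y i).left) (fun i => (Y i).hom) ∈ J U ∧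
      ∀ (p : ℕ) (a : Fin (p + 1) → ι), (∏ᶜ fun k => Y (a k)).left ∈ B)
  (h2 : ∀ U ∈ B, ∀ T ∈ J U, ∃ (ι : Type u) (Y : ι → Over U), Cov U ι Y ∧ ∀ i, T.arrows (Y i).hom)

include h1 h2 in
theorem isQCSite_of_mem (U : C) (hU : U ∈ B) : IsQCSite J U := by
  intro T hT
  obtain ⟨ι, Y, hCov, hYT⟩ := h2 U hU T hT
  obtain ⟨hfin, -, hcov, -⟩ := h1 U ι Y hCov
  haveI := hfin
  let e := Finite.equivFin ι
  refine ⟨Nat.card ι, fun k => (Y (e.symm k)).left, fun k => (Y (e.symm k)).hom,
    fun k => hYT _, ?_⟩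
  have key : ∀ (k : Fin (Nat.card ι)) (i : ι), e.symm k = i →
      Sieve.ofArrows (fun k => (Y (e.symm k)).left) (fun k => (Y (e.symm k)).hom) (Y i).hom := by
    rintro k _ rfl
    exact Sieve.ofArrows_mk (fun k => (Y (e.symm k)).left) (fun k => (Y (e.symm k)).hom) k
  refine J.superset_covering ?_ hcov
  rw [Sieve.ofArrows, Sieve.generate_le_iff]
  rintro W f ⟨i⟩
  exact key (e i) i (e.symm_apply_apply i)

include h1 h2 in
theorem isQCQSSite_of_mem (U : C) (hU : U ∈ B) : IsQCQSSite J U := by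
  intro T hT
  obtain ⟨ι, Y, hCov, hYT⟩ := h2 U hU T hT
  obtain ⟨hfin, -, hcov, hprod⟩ := h1 U ι Y hCov
  haveI := hfin
  let e := Finite.equivFin ι
  refine ⟨Nat.card ι, fun k => (Y (e.symm k)).left, fun k => (Y (e.symm k)).hom,
    fun k => hYT _, ?_, ?_⟩
  · have key : ∀ (k : Fin (Nat.card ι)) (i : ι), e.symm k = i →
        Sieve.ofArrows (fun k => (Y (e.symm k)).left) (fun k => (Y (e.symm k)).hom)
          (Y i).hom := by
      rintro k _ rfl
      exact Sieve.ofArrows_mk (fun k => (Y (e.symm k)).left) (fun k => (Y (e.symm k)).hom) k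
    refine J.superset_covering ?_ hcov
    rw [Sieve.ofArrows, Sieve.generate_le_iff]
    rintro W f ⟨i⟩
    exact key (e i) i (e.symm_apply_apply i)
  · intro k k'
    have hmem := hprod 1 ![e.symm k, e.symm k']
    refine ⟨_, _, _, isPullback_pi_two (fun b : Fin 2 => Y (![e.symm k, e.symm k'] b)),
      isQCSite_of_mem J B Cov h1 h2 _ hmem⟩

variable {I : Type u} [SmallCategory I] [IsFiltered I]

include h1 h2 in
/-- a filtered colimit of injective abelian sheaves is Čech-acyclic for the families in `Cov` -/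
theorem cechAcyc_colimit (G : I ⥤ Sheaf J AddCommGrpCat.{u}) (hG : ∀ i, Injective (G.obj i)) :
    CechFamCartan.CechAcyc J Cov (colimit G) := by
  intro V ι Y hCov q
  obtain ⟨hfin, -, -, hprod⟩ := h1 V ι Y hCov
  haveI := hfin
  have hQS : ∀ (m : ℕ) (a : Fin (m + 1) → ι), IsQCQSSite J (∏ᶜ fun k => Y (a k)).left :=
    fun m a => isQCQSSite_of_mem J B Cov h1 h2 _ (hprod m a)
  refine isZero_homology_cocone (FormalCoproduct.mk ι Y).cech (G ⋙ CechFamSurj.Φ J (U := V))
    ((CechFamSurj.Φ J (U := V)).mapCocone (colimit.cocone G)) ?_ ?_ ?_ q ?_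
  · intro m
    exact (inferInstance : Finite (Fin (m + 1) → ι))
  · intro m a z
    exact sections_surj (colimit.isColimit G) (hQS m a) z
  · intro m a i s hs
    exact sections_inj (colimit.isColimit G) (hQS m a).isQCSite i s hs
  · intro i
    haveI := hG i
    haveI := CohSiteOver.injective_R J V (G.obj i)
    haveI : Injective ((CechFamSurj.Φ J (U := V)).obj (G.obj i)) :=
      Injective.injective_of_adjoint (sheafificationAdjunction (J.over V) AddCommGrpCat.{u})
        ((CohSiteOver.R J V).obj (G.obj i))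
    exact CechFamRes.isZero_homology (FormalCoproduct.mk ι Y)
      ((CechFamSurj.Φ J (U := V)).obj (G.obj i)) q

include h1 h2 in
theorem ext_colimit_eq_zero (G : I ⥤ Sheaf J AddCommGrpCat.{u}) (hG : ∀ i, Injective (G.obj i))
    (U : C) (hU : U ∈ B) (p : ℕ) (y : Ext (Zfree J U) (colimit G) (p + 1)) : y = 0 :=
  CechFamCartan.cartan J B Cov
    (fun U ι Y h => ⟨(h1 U ι Y h).2.1, (h1 U ι Y h).2.2.1, (h1 U ι Y h).2.2.2⟩) h2 p (colimit G)
    (cechAcyc_colimit J B Cov h1 h2 G hG) U hU y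

include h1 h2 in
/-- **cohomology over a member of `B` commutes with filtered colimits** -/
theorem preservesColimit_ext (U : C) (hU : U ∈ B) (p : ℕ) (F : I ⥤ Sheaf J AddCommGrpCat.{u}) :
    PreservesColimit F (extFunctorObj (Zfree J U) p) := by
  have H := surjExt_injExt (I := I) (Zfree J U)
    (fun F => ⟨surjExt_zero (isQCQSSite_of_mem J B Cov h1 h2 U hU) F,
      injExt_zero (isQCSite_of_mem J B Cov h1 h2 U hU) F⟩)
    (fun F => exists_res F)
    (fun G hG p y => ext_colimit_eq_zero J B Cov h1 h2 G hG U hU p y) p F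
  exact preservesColimit_extFunctorObj _ p F H.1 H.2

end Groth.Agent.Lib.Helper27.ExtFilt
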