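import Groth.Agent.Lib.Helper27.EtTransport3
import Groth.Agent.Lib.Helper27.ExtFiltMain

/-!
# Finite products of qcqs objects over a qcqs object of the small étale site (helper27)
-/

set_option autoImplicit false

universe u

open CategoryTheory CategoryTheory.Limits Opposite AlgebraicGeometry

namespace Groth.Agent.Lib.Helper27.EtTransport

variable {X : Scheme.{u}}

/-- limit fans with qcqs point -/
theorem exists_fan (U : DE X) (hU : U ∈ BE X) : ∀ (n : ℕ) (W : Fin n → Over U),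
    (∀ k, (W k).left ∈ BE X) → ∃ (c : Fan W), Nonempty (IsLimit c) ∧ c.pt.left ∈ BE X
  | 0, W, _ => by
    refine ⟨Fan.mk (Over.mk (𝟙 U)) (fun k => Fin.elim0 k), ⟨?_⟩, hU⟩
    refine mkFanLimit _ (fun s => Over.homMk s.pt.hom) (fun s k => Fin.elim0 k) ?_
    intro s m _
    ext
    have := Over.w m
    simpa using this
  | n + 1, W, h => by
    obtain ⟨c₁, ⟨hc₁⟩, h₁⟩ := exists_fan U hU n (fun i => W i.succ) (fun i => h i.succ)
    let c₂ : BinaryFan (W 0) c₁.pt := BinaryFan.mk prod.fst prod.snd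
    have hc₂ : IsLimit c₂ := prodIsProd (W 0) c₁.pt
    refine ⟨extendFan c₁ c₂, ⟨extendFanIsLimit W hc₁ hc₂⟩, ?_⟩
    have hp := Over.isPullback_of_binaryFan_isLimit c₂ hc₂
    exact mem_BE_of_isPullback hp (h 0) h₁ hU

/-- finite products (in `Over U`) of qcqs objects over a qcqs object are qcqs -/
theorem prod_mem_BE (U : DE X) (hU : U ∈ BE X) {ι : Type*} (Y : ι → Over U)
    (hY : ∀ i, (Y i).left ∈ BE X) (p : ℕ) (a : Fin (p + 1) → ι) :
    (∏ᶜ fun k => Y (a k)).left ∈ BE X := by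
  obtain ⟨c, ⟨hc⟩, h⟩ := exists_fan U hU (p + 1) (fun k => Y (a k)) (fun k => hY (a k))
  have i : c.pt ≅ ∏ᶜ fun k => Y (a k) :=
    hc.conePointUniqueUpToIso (limit.isLimit _)
  exact mem_BE_of_iso ((Over.forget U).mapIso i) h

end Groth.Agent.Lib.Helper27.EtTransport
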