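import Groth.Agent.Lib.Helper27.EtTransport4
import Mathlib.AlgebraicGeometry.Morphisms.UniversallyOpen

/-!
# The qcqs objects of the small étale site of a qcqs scheme form a "coherent" family (helper27)
-/

set_option autoImplicit false

universe u

open CategoryTheory CategoryTheory.Limits Opposite AlgebraicGeometry

namespace Groth.Agent.Lib.Helper27.EtTransport

variable {X : Scheme.{u}}

/-- the covering families: finite jointly surjective families of qcqs objects over a qcqs object -/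
def CovE (X : Scheme.{u}) (U : DE X) (ι : Type (u + 1)) (Y : ι → Over U) : Prop :=
  Finite ι ∧ U ∈ BE X ∧ (∀ i, (Y i).left ∈ BE X) ∧
    ∀ x : sch U, ∃ i, x ∈ Set.range (schMap (Y i).hom)

theorem covE_h1 (U : DE X) (ι : Type (u + 1)) (Y : ι → Over U) (h : CovE X U ι Y) :
    Finite ι ∧ U ∈ BE X ∧
      Sieve.ofArrows (fun i => (Y i).left) (fun i => (Y i).hom) ∈ KE X U ∧
      ∀ (p : ℕ) (a : Fin (p + 1) → ι), (∏ᶜ fun k => Y (a k)).left ∈ BE X := by
  obtain ⟨hfin, hU, hY, hcov⟩ := h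
  refine ⟨hfin, hU, ?_, fun p a => prod_mem_BE U hU Y hY p a⟩
  rw [mem_KE_iff]
  intro x
  obtain ⟨i, hi⟩ := hcov x
  exact ⟨(Y i).left, (Y i).hom, Sieve.ofArrows_mk _ _ i, hi⟩

/-- an open subscheme of an object, as an object of the small model -/
noncomputable abbrev opnD (V : DE X) (W : (sch V).Opens) : DE X :=
  ULiftHom.objUp (Groth.Agent.Lib.Helper23.EtGlue.opn (ULiftHom.objDown V) W)

/-- the inclusion of an open subscheme -/
noncomputable abbrev opnDι (V : DE X) (W : (sch V).Opens) : opnD V W ⟶ V :=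
  ⟨Groth.Agent.Lib.Helper23.EtGlue.opnι (ULiftHom.objDown V) W⟩

lemma schMap_opnDι (V : DE X) (W : (sch V).Opens) : schMap (opnDι V W) = W.ι := rfl

lemma opnD_mem_BE [QuasiSeparatedSpace X] (V : DE X) (W : (sch V).Opens) (hW : IsAffineOpen W) :
    opnD V W ∈ BE X := by
  have : IsAffine (W : Scheme) := hW
  constructor
  · change QuasiCompact (W.ι ≫ str V)
    infer_instance
  · change QuasiSeparated (W.ι ≫ str V)
    infer_instance

theorem covE_h2 [CompactSpace X] [QuasiSeparatedSpace X] (U : DE X) (hU : U ∈ BE X)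
    (T : Sieve U) (hT : T ∈ KE X U) :
    ∃ (ι : Type (u + 1)) (Y : ι → Over U), CovE X U ι Y ∧ ∀ i, T.arrows (Y i).hom := by
  classical
  have hUc : CompactSpace (sch U) := by
    have := hU.1
    exact QuasiCompact.compactSpace_of_compactSpace (str U)
  rw [mem_KE_iff] at hT
  -- choose an arrow of the sieve through each point, and an affine neighbourhood upstairs
  have hx : ∀ x : sch U, ∃ (V : DE X) (g : V ⟶ U) (W : (sch V).Opens), T g ∧ IsAffineOpen W ∧
      x ∈ schMap g '' (W : Set (sch V)) := by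
    intro x
    obtain ⟨V, g, hg, y, hy⟩ := hT x
    obtain ⟨W, hW, hyW, -⟩ := TopologicalSpace.Opens.isBasis_iff_nbhd.1
      (sch V).isBasis_affineOpens (show y ∈ (⊤ : (sch V).Opens) from trivial)
    exact ⟨V, g, W, hg, hW, y, hyW, hy⟩
  choose V g W hg hW hxW using hx
  have hopen : ∀ x, IsOpen (schMap (g x) '' (W x : Set (sch (V x)))) := fun x =>
    (schMap (g x)).isOpenMap _ (W x).isOpen
  obtain ⟨t, ht⟩ := isCompact_univ.elim_finite_subcover
    (fun x : sch U => schMap (g x) '' (W x : Set (sch (V x)))) hopen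
    (fun y _ => Set.mem_iUnion.2 ⟨y, hxW y⟩)
  refine ⟨ULift.{u + 1} {x : sch U // x ∈ t},
    fun i => Over.mk (opnDι (V i.down.1) (W i.down.1) ≫ g i.down.1),
    ⟨inferInstance, hU, fun i => opnD_mem_BE _ _ (hW i.down.1), ?_⟩,
    fun i => T.downward_closed (hg i.down.1) _⟩
  intro y
  obtain ⟨x, hx⟩ := Set.mem_iUnion.1 (ht (Set.mem_univ y))
  obtain ⟨hxt, w, hw, hwy⟩ := Set.mem_iUnion.1 hx
  refine ⟨⟨⟨x, hxt⟩⟩, ⟨w, hw⟩, ?_⟩
  exact hwy

end Groth.Agent.Lib.Helper27.EtTransport
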