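import Groth.Agent.Lib.Helper27.EtTate8
import Groth.Agent.Lib.Helper6.RDSesLES

/-!
# The long exact sequence of a triple for cohomology with support (helper27)

`U ⊆ X' ⊆ X` opens, `Y = X - U`, `Z = X - X'`, `V = X' - U`.  If `H^r_Z(X, F) = H^{r+1}_Z(X, F) = 0`
then `H^r_Y(X, F) ≅ H^r_V(X', F|X')`.
-/

set_option autoImplicit false
set_option backward.isDefEq.respectTransparency false
universe u
open CategoryTheory Limits Opposite AlgebraicGeometry
open Groth.Agent.Lib.Helper23.EtRestr Groth.Agent.Lib.Helper23.EtGlue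
  Groth.Agent.Lib.Helper27.EtTrace Groth.Agent.Lib.Helper27.EtExc
  Groth.Agent.Lib.Helper27.EtH90 Groth.Agent.Lib.Helper27.AbsComp
  Groth.Agent.Lib.Helper6.RDSes

namespace Groth.Agent.Lib.Helper27.EtTri

variable {X X' U : Scheme.{u}} (j : U ⟶ X) [IsOpenImmersion j] (k' : X' ⟶ X) [IsOpenImmersion k']
  (j' : U ⟶ X') [IsOpenImmersion j'] (hfac : j' ≫ k' = j)

include hfac in
theorem range_eq : Set.range j'.base = k'.base ⁻¹' Set.range j.base := by
  ext x'
  constructor
  · rintro ⟨u, rfl⟩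
    exact ⟨u, by rw [← hfac]; rfl⟩
  · rintro ⟨u, hu⟩
    refine ⟨u, ?_⟩
    have hinj : Function.Injective k'.base := k'.isOpenEmbedding.injective
    apply hinj
    rw [← hu, ← hfac]
    rfl

/-- `U → X'` in the small étale site of `X` -/
noncomputable def aU : Tj j ⟶ Tj k' :=
  MorphismProperty.Over.homMk j' (by
    change j' ≫ (𝟙 X' ≫ k') = 𝟙 U ≫ j
    rw [Category.id_comp, Category.id_comp, hfac]) trivial

theorem aU_comp : aU j k' j' hfac ≫ gj k' = gj j := (EtCore.topIsTerminal X).hom_ext _ _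

/-- sections with support in `Z` have support in `Y` -/
noncomputable def α : Kfun (gj k') ⟶ Kfun (gj j) :=
  kfunIncl (gj j) (gj k') (aU j k' j' hfac) (aU_comp j k' j' hfac)

/-- restriction to `X'` of sections with support in `Y` -/
noncomputable def β : Kfun (gj j) ⟶ EtShriek.restrAlong k' ⋙ Kfun (gj j') :=
  τ₂ k' j j' (range_eq j k' j' hfac)

theorem α_app_val (F : EtCoh.Ab X) (x : (Kfun (gj k')).obj F) :
    ((α j k' j' hfac).app F x).1 = x.1 := rfl

theorem β_app_val (F : EtCoh.Ab X) (x : (Kfun (gj j)).obj F) :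
    ((β j k' j' hfac).app F x).1 = F.obj.map (gj k').op x.1 := rfl

theorem hw : α j k' j' hfac ≫ β j k' j' hfac = 0 := by
  ext F x
  apply Subtype.ext
  change F.obj.map (gj k').op x.1 = 0
  exact x.2

theorem hses (I : EtCoh.Ab X) (hI : Injective I) :
    (sc (α j k' j' hfac) (β j k' j' hfac) (hw j k' j' hfac) I).ShortExact := by
  have hex : (sc (α j k' j' hfac) (β j k' j' hfac) (hw j k' j' hfac) I).Exact := by
    rw [ShortComplex.ab_exact_iff]
    intro x hx
    have hx' : I.obj.map (gj k').op x.1 = 0 := congrArg Subtype.val hx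
    exact ⟨⟨x.1, hx'⟩, Subtype.ext rfl⟩
  have hm : Mono (sc (α j k' j' hfac) (β j k' j' hfac) (hw j k' j' hfac) I).f := by
    rw [AddCommGrpCat.mono_iff_injective]
    intro a b hab
    apply Subtype.ext
    have h2 := congrArg Subtype.val hab
    exact h2
  have he : Epi (sc (α j k' j' hfac) (β j k' j' hfac) (hw j k' j' hfac) I).g := by
    rw [AddCommGrpCat.epi_iff_surjective]
    intro s'
    have hs' : I.obj.map (cj k' j').op s'.1 = 0 := s'.2
    haveI : IsOpenImmersion (gj k').left := by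
      rw [gj_left]; infer_instance
    obtain ⟨x, hx⟩ := Groth.Agent.Lib.Helper27.EtDouble.map_surjective_of_injective (gj k') I s'.1
    have hx0 : I.obj.map (gj j).op x = 0 := by
      rw [← aU_comp j k' j' hfac, op_comp, Functor.map_comp]
      change I.obj.map (aU j k' j' hfac).op (I.obj.map (gj k').op x) = 0
      rw [hx]
      refine map_eq_zero_of_range_subset k' j j' (range_eq j k' j' hfac) I s'.1 hs' _ ?_
      rintro _ ⟨u, rfl⟩
      exact ⟨u, by
        change j.base u = (𝟙 U ≫ j).base u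
        rw [Category.id_comp]⟩
    exact ⟨⟨x, hx0⟩, Subtype.ext hx⟩
  exact { exact := hex, mono_f := hm, epi_g := he }


section Abstract

universe v₁ u₁ v₂ u₂
variable {𝒜 : Type u₁} [Category.{v₁} 𝒜] [Abelian 𝒜] [HasInjectiveResolutions 𝒜]
  {ℬ : Type u₂} [Category.{v₂} ℬ] [Abelian ℬ]
  {A B C : 𝒜 ⥤ ℬ} [A.Additive] [B.Additive] [C.Additive] (a : A ⟶ B) (b : B ⟶ C)
  (hab : a ≫ b = 0) (hs : ∀ I : 𝒜, Injective I → (sc a b hab I).ShortExact)

include hs in
/-- in the long exact sequence, `RʳB X ⟶ RʳC X` is an isomorphism if `RʳA X = Rʳ⁺¹A X = 0` -/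
theorem isIso_rightDerived_app (r : ℕ) (X : 𝒜) (h1 : IsZero ((A.rightDerived r).obj X))
    (h2 : IsZero ((A.rightDerived (r + 1)).obj X)) :
    IsIso ((NatTrans.rightDerived b r).app X) := by
  haveI : Mono ((NatTrans.rightDerived b r).app X) :=
    (exact_at_B a b hab hs r X).mono_g (h1.eq_of_src _ _)
  haveI : Epi ((NatTrans.rightDerived b r).app X) :=
    (exact_at_C a b hab hs r X).epi_f (h2.eq_of_tgt _ _)
  exact isIso_of_mono_of_epi _

/-- isomorphic functors have isomorphic right derived functors -/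
noncomputable def rightDerivedIso {Φ Φ' : 𝒜 ⥤ ℬ} [Φ.Additive] [Φ'.Additive] (θ : Φ ≅ Φ') (n : ℕ) :
    Φ.rightDerived n ≅ Φ'.rightDerived n where
  hom := NatTrans.rightDerived θ.hom n
  inv := NatTrans.rightDerived θ.inv n
  hom_inv_id := by rw [← NatTrans.rightDerived_comp, θ.hom_inv_id, NatTrans.rightDerived_id]
  inv_hom_id := by rw [← NatTrans.rightDerived_comp, θ.inv_hom_id, NatTrans.rightDerived_id]

end Abstract

section Triple

/-- the comparison of the third term with sections with support on `X'` -/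
noncomputable def θC : EtShriek.restrAlong k' ⋙ Kfun (gj j') ≅ EtCoh.pull k' ⋙ EtDual.gammaSupp j' :=
  Functor.isoWhiskerRight (pullIsoRestr k').symm (Kfun (gj j')) ≪≫
    Functor.isoWhiskerLeft (EtCoh.pull k') (θ₁ j').symm

include hfac in
/-- if `H^r_Z = H^{r+1}_Z = 0` then `H^r_Y(X, F) ≅ H^r_{Y ∩ X'}(X', F|X')` -/
theorem nonempty_HY_iso_of_isZero (F : EtCoh.Ab X) (r : ℕ)
    (h1 : IsZero ((EtDual.HY k' r).obj F)) (h2 : IsZero ((EtDual.HY k' (r + 1)).obj F)) :
    Nonempty ((EtDual.HY j r).obj F ≅ (EtDual.HY j' r).obj ((EtCoh.pull k').obj F)) := by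
  haveI : (EtCoh.pull k').Additive := (EtCoh.pullPushAdj k').left_adjoint_additive
  haveI : PreservesFiniteColimits (EtCoh.pull k') :=
    ⟨fun _ _ _ => (EtCoh.pullPushAdj k').leftAdjoint_preservesColimits.preservesColimitsOfShape⟩
  have hinj : ∀ I : EtCoh.Ab X, Injective I → Injective ((EtCoh.pull k').obj I) :=
    fun I hI => (adjE k').map_injective I hI
  haveI : PreservesFiniteLimits (EtShriek.restrAlong k' ⋙ Kfun (gj j')) :=
    preservesFiniteLimits_of_natIso (θC k' j').symm
  -- identify the three derived functors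
  have eA : ∀ p, (EtDual.HY k' p).obj F ≅ ((Kfun (gj k')).rightDerived p).obj F :=
    fun p => (rightDerivedIso (θ₁ k') p).app F
  have eB : (EtDual.HY j r).obj F ≅ ((Kfun (gj j)).rightDerived r).obj F :=
    (rightDerivedIso (θ₁ j) r).app F
  obtain ⟨eC⟩ := nonempty_rightDerived_iso_of_iso (EtShriek.restrAlong k' ⋙ Kfun (gj j'))
    (EtCoh.pull k') (EtDual.gammaSupp j') hinj (θC k' j') r F
  haveI := isIso_rightDerived_app (α j k' j' hfac) (β j k' j' hfac) (hw j k' j' hfac)
    (hses j k' j' hfac) r F (h1.of_iso (eA r).symm) (h2.of_iso (eA (r + 1)).symm)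
  exact ⟨eB ≪≫ asIso ((NatTrans.rightDerived (β j k' j' hfac) r).app F) ≪≫ eC⟩

end Triple

section Tate

open Groth.Agent.Lib.Helper27.EtTate

/-- the Tate twists are compatible with étale inverse images -/
theorem nonempty_pull_tate_iso {V Y : Scheme.{u}} (v : V ⟶ Y) [Etale v] (n c : ℕ) :
    Nonempty ((EtCoh.pull v).obj (EtDual.tate Y n c) ≅ EtDual.tate V n c) := by
  induction c with
  | zero => exact ⟨EtCore.pullConst v (ZMod n)⟩
  | succ c ih =>
    obtain ⟨e⟩ := ih
    exact ⟨pullTensorIso v (EtDual.tate Y n c) (EtCoh.mu Y n) ≪≫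
      tensorAbIso e (pullMuIso v n)⟩

include hfac in
/-- removing a closed subset `Z` off which ... : `H^{2c}_Y(X, ℤ/n(c)) ≅ H^{2c}_{Y - Z}(X - Z, ℤ/n(c))`
if the local cohomology sheaves `H^p_Z(ℤ/n)` vanish for `p ≤ 2c + 1` -/
theorem nonempty_HY_tate_iso_off_closed (n : ℕ) (hn : IsUnit ((n : ℕ) : Γ(X, ⊤))) (c : ℕ)
    (hZ : ∀ p : ℕ, p ≤ 2 * c + 1 →
      IsZero ((EtDual.locCoh k' p).obj (EtCoh.const X (ZMod n)))) :
    Nonempty ((EtDual.HY j (2 * c)).obj (EtDual.tate X n c) ≅
      (EtDual.HY j' (2 * c)).obj (EtDual.tate X' n c)) := by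
  rcases Nat.eq_zero_or_pos n with rfl | hpos
  · -- `X` and `X'` are empty
    haveI := isEmpty_of_isUnit_zero X hn
    haveI : IsEmpty X' := ⟨fun x => IsEmpty.false (k'.base x)⟩
    have hz : ∀ F : EtCoh.Ab X, IsZero F :=
      fun F => Groth.Agent.Lib.Helper27.GabberCrit.isZero_of_isEmpty F
    have hz' : ∀ F : EtCoh.Ab X', IsZero F :=
      fun F => Groth.Agent.Lib.Helper27.GabberCrit.isZero_of_isEmpty F
    have h1 : IsZero ((EtDual.HY j (2 * c)).obj (EtDual.tate X 0 c)) := by
      haveI : ((EtDual.gammaSupp j).rightDerived (2 * c)).Additive :=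
        Groth.Agent.Lib.Helper6.RDShift.rightDerived_additive _ _
      exact ((EtDual.gammaSupp j).rightDerived (2 * c)).map_isZero (hz _)
    have h2 : IsZero ((EtDual.HY j' (2 * c)).obj (EtDual.tate X' 0 c)) := by
      haveI : ((EtDual.gammaSupp j').rightDerived (2 * c)).Additive :=
        Groth.Agent.Lib.Helper6.RDShift.rightDerived_additive _ _
      exact ((EtDual.gammaSupp j').rightDerived (2 * c)).map_isZero (hz' _)
    exact ⟨h1.iso h2⟩
  · have hvan := (comp_rightDerived_secSupp k' (EtCoh.top X) (2 * c + 2) (EtDual.tate X n c)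
      (locCoh_tate_isZero k' n hpos hn c (2 * c + 2) (fun p hp => hZ p (by omega)))).1
    have h1 : IsZero ((EtDual.HY k' (2 * c)).obj (EtDual.tate X n c)) := hvan (2 * c) (by omega)
    have h2 : IsZero ((EtDual.HY k' (2 * c + 1)).obj (EtDual.tate X n c)) :=
      hvan (2 * c + 1) (by omega)
    obtain ⟨e⟩ := nonempty_HY_iso_of_isZero j k' j' hfac (EtDual.tate X n c) (2 * c) h1 h2
    obtain ⟨t⟩ := nonempty_pull_tate_iso k' n c
    exact ⟨e ≪≫ ((EtDual.HY j' (2 * c)).mapIso t)⟩

end Tate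

end Groth.Agent.Lib.Helper27.EtTri
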