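import Groth.Agent.Lib.Helper27.EtTri1
import Groth.Agent.Lib.Helper27.EtSuppExt

/-!
# Étale depth is monotone in the closed subset (helper27)
-/

set_option autoImplicit false
set_option backward.isDefEq.respectTransparency false
universe u
open CategoryTheory Limits Opposite AlgebraicGeometry
open Groth.Agent.Lib.Helper23.EtRestr Groth.Agent.Lib.Helper23.EtGlue
  Groth.Agent.Lib.Helper27.EtTrace Groth.Agent.Lib.Helper27.EtExc
  Groth.Agent.Lib.Helper27.EtH90 Groth.Agent.Lib.Helper27.AbsComp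
  Groth.Agent.Lib.Helper6.RDSes

namespace Groth.Agent.Lib.Helper27.EtTri

section RangeEq

variable {X U₁ U₂ : Scheme.{u}} (j₁ : U₁ ⟶ X) (j₂ : U₂ ⟶ X) [IsOpenImmersion j₁]
  [IsOpenImmersion j₂]

/-- cohomology with support only depends on the image of the open immersion -/
theorem nonempty_HY_iso_of_range_eq (h : Set.range j₁.base = Set.range j₂.base) (p : ℕ) :
    Nonempty (EtDual.HY j₁ p ≅ EtDual.HY j₂ p) := by
  haveI : IsOpenImmersion (gj j₁).left := by rw [gj_left]; infer_instance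
  haveI : IsOpenImmersion (gj j₂).left := by rw [gj_left]; infer_instance
  have hr : Set.range (gj j₁).left = Set.range (gj j₂).left := by
    rw [gj_left, gj_left]
    exact h
  obtain ⟨κ⟩ := nonempty_kfunIso_of_range_eq (gj j₁) (gj j₂) hr
  exact ⟨rightDerivedIso (θ₁ j₁ ≪≫ κ ≪≫ (θ₁ j₂).symm) p⟩

end RangeEq

section Triple

variable {X X' U : Scheme.{u}} (j : U ⟶ X) [IsOpenImmersion j] (k' : X' ⟶ X) [IsOpenImmersion k']
  (j' : U ⟶ X') [IsOpenImmersion j'] (hfac : j' ≫ k' = j)

include hfac in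
/-- if `H^p_Y(X, F) = 0` for `p < n` and `H^p_{Y ∩ X'}(X', F|X') = 0` for `p + 1 < n` then
`H^p_Z(X, F) = 0` for `p < n` -/
theorem isZero_HY_of_triple (F : EtCoh.Ab X) (n : ℕ)
    (hB : ∀ p, p < n → IsZero ((EtDual.HY j p).obj F))
    (hC : ∀ p, p + 1 < n → IsZero ((EtDual.HY j' p).obj ((EtCoh.pull k').obj F))) :
    ∀ p, p < n → IsZero ((EtDual.HY k' p).obj F) := by
  haveI : (EtCoh.pull k').Additive := (EtCoh.pullPushAdj k').left_adjoint_additive
  haveI : PreservesFiniteColimits (EtCoh.pull k') :=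
    ⟨fun _ _ _ => (EtCoh.pullPushAdj k').leftAdjoint_preservesColimits.preservesColimitsOfShape⟩
  have hinj : ∀ I : EtCoh.Ab X, Injective I → Injective ((EtCoh.pull k').obj I) :=
    fun I hI => (adjE k').map_injective I hI
  haveI : PreservesFiniteLimits (EtShriek.restrAlong k' ⋙ Kfun (gj j')) :=
    preservesFiniteLimits_of_natIso (θC k' j').symm
  have eA : ∀ p, (EtDual.HY k' p).obj F ≅ ((Kfun (gj k')).rightDerived p).obj F :=
    fun p => (rightDerivedIso (θ₁ k') p).app F
  have eB : ∀ p, (EtDual.HY j p).obj F ≅ ((Kfun (gj j)).rightDerived p).obj F :=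
    fun p => (rightDerivedIso (θ₁ j) p).app F
  have eC : ∀ p, Nonempty (((EtShriek.restrAlong k' ⋙ Kfun (gj j')).rightDerived p).obj F ≅
      (EtDual.HY j' p).obj ((EtCoh.pull k').obj F)) := fun p =>
    nonempty_rightDerived_iso_of_iso (EtShriek.restrAlong k' ⋙ Kfun (gj j'))
      (EtCoh.pull k') (EtDual.gammaSupp j') hinj (θC k' j') p F
  intro p hp
  refine IsZero.of_iso ?_ (eA p)
  cases p with
  | zero =>
    haveI := mono_rightDerived_zero_app (α j k' j' hfac) (β j k' j' hfac) (hw j k' j' hfac)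
      (hses j k' j' hfac) F
    exact IsZero.of_mono ((NatTrans.rightDerived (α j k' j' hfac) 0).app F)
      ((hB 0 hp).of_iso (eB 0).symm)
  | succ r =>
    have hex := exact_at_A (α j k' j' hfac) (β j k' j' hfac) (hw j k' j' hfac)
      (hses j k' j' hfac) r F
    obtain ⟨e⟩ := eC r
    have h1 : IsZero (((EtShriek.restrAlong k' ⋙ Kfun (gj j')).rightDerived r).obj F) :=
      (hC r hp).of_iso e
    have h3 : IsZero (((Kfun (gj j)).rightDerived (r + 1)).obj F) :=
      (hB (r + 1) hp).of_iso (eB (r + 1)).symm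
    exact hex.isZero_X₂ (h1.eq_of_src _ _) (h3.eq_of_tgt _ _)

end Triple

end Groth.Agent.Lib.Helper27.EtTri
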