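import Groth.Agent.Lib.Helper27.EtTri2

set_option autoImplicit false
set_option backward.isDefEq.respectTransparency false
universe u
open CategoryTheory Limits Opposite AlgebraicGeometry

namespace Groth.Agent.Lib.Helper27.EtTri

/-- étale depth is monotone in the closed subset -/
theorem depthGE_mono {X U V : Scheme.{u}} (j : U ⟶ X) [IsOpenImmersion j] (k : V ⟶ X)
    [IsOpenImmersion k] (hUV : Set.range j.base ⊆ Set.range k.base) (F : EtCoh.Ab X) (n : ℕ)
    (h : EtDepth.DepthGE j F n) : EtDepth.DepthGE k F n := by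
  unfold EtDepth.DepthGE at h ⊢
  rw [Groth.Agent.Lib.Helper27.EtSuppExt.locCoh_isZero_iff_HY] at h ⊢
  intro X' g _
  have hrj : Set.range (pullback.snd j g).base = g.base ⁻¹' Set.range j.base :=
    Scheme.Pullback.range_snd (f := j) (g := g)
  have hrk : Set.range (pullback.snd k g).base = g.base ⁻¹' Set.range k.base :=
    Scheme.Pullback.range_snd (f := k) (g := g)
  have hr : Set.range (pullback.snd j g).base ⊆ Set.range (pullback.snd k g).base := by
    rw [hrj, hrk]
    exact Set.preimage_mono hUV
  let i₁ : pullback j g ⟶ pullback k g :=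
    IsOpenImmersion.lift (pullback.snd k g) (pullback.snd j g) hr
  have hfac : i₁ ≫ pullback.snd k g = pullback.snd j g := IsOpenImmersion.lift_fac _ _ _
  haveI : IsOpenImmersion i₁ := by
    haveI : IsOpenImmersion (i₁ ≫ pullback.snd k g) := by rw [hfac]; infer_instance
    exact IsOpenImmersion.of_comp i₁ (pullback.snd k g)
  refine isZero_HY_of_triple (pullback.snd j g) (pullback.snd k g) i₁ hfac
    ((EtCoh.pull g).obj F) n (h X' g) ?_
  intro p hp
  have h1 := h (pullback k g) (pullback.snd k g ≫ g) p (by omega)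
  have hrange : Set.range (pullback.snd j (pullback.snd k g ≫ g)).base = Set.range i₁.base := by
    have h2 : Set.range (pullback.snd j (pullback.snd k g ≫ g)).base =
        (pullback.snd k g ≫ g).base ⁻¹' Set.range j.base :=
      Scheme.Pullback.range_snd (f := j) (g := pullback.snd k g ≫ g)
    rw [h2, range_eq (pullback.snd j g) (pullback.snd k g) i₁ hfac, hrj]
    rfl
  obtain ⟨e⟩ := nonempty_HY_iso_of_range_eq (pullback.snd j (pullback.snd k g ≫ g)) i₁ hrange p
  let e2 : (EtCoh.pull (pullback.snd k g ≫ g)).obj F ≅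
      (EtCoh.pull (pullback.snd k g)).obj ((EtCoh.pull g).obj F) :=
    (EtCore.pullComp (pullback.snd k g) g).app F
  exact h1.of_iso ((EtDual.HY i₁ p).mapIso e2.symm ≪≫ (e.symm.app _))

end Groth.Agent.Lib.Helper27.EtTri
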