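import Groth.Agent.S2135
import Groth.Agent.S2787
import Groth.Agent.Lib.Helper12.StrictHenselization
import Groth.Agent.Lib.Helper23.LCPull
import Groth.Agent.Lib.Helper23.LCTop
import Groth.Agent.Lib.Helper27.EtSky4

/-!
# `H¹(X, M) = 0` for a torsion-free constant sheaf on an irreducible geometrically unibranch
scheme (helper27)
-/

set_option autoImplicit false
set_option backward.isDefEq.respectTransparency false
universe u
open CategoryTheory Limits Opposite AlgebraicGeometry Abelian

namespace Groth.Agent.Lib.Helper27.EtUnibr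

/-- a ring with irreducible spectrum has a unique minimal prime -/
theorem hasUniqueMinimalPrime_of_irreducibleSpace (R : Type u) [CommRing R]
    [h : IrreducibleSpace (PrimeSpectrum R)] : CAlgX.HasUniqueMinimalPrime R := by
  have hN : (nilradical R).IsPrime := PrimeSpectrum.irreducibleSpace_iff_isPrime_nilradical.1 h
  have hle : ∀ P : Ideal R, P.IsPrime → nilradical R ≤ P := by
    intro P hP
    rw [nilradical_eq_sInf]
    exact sInf_le hP
  refine ⟨nilradical R, ?_, ?_⟩
  · refine ⟨⟨hN, bot_le⟩, ?_⟩
    rintro Q ⟨hQ, -⟩ -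
    exact hle Q hQ
  · rintro P ⟨⟨hP, -⟩, hmin⟩
    exact le_antisymm (hmin ⟨hN, bot_le⟩ (hle P hP)) (hle P hP)

section

variable (X : Scheme.{u})
  (hX : ∀ (x : X) (R : Type u) [CommRing R] [IsLocalRing R] [Algebra (X.presheaf.stalk x) R]
      [IsLocalHom (algebraMap (X.presheaf.stalk x) R)]
      [Hensel.IsStrictHenselization (X.presheaf.stalk x) R],
      IrreducibleSpace (PrimeSpectrum R))

include hX in
theorem isGeomUnibranch_stalk (x : X) : CAlg2.IsGeomUnibranch (X.presheaf.stalk x) := by
  haveI := hX x (Groth.Agent.Lib.Helper12.StrictHenselization (X.presheaf.stalk x))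
  exact (Groth.Agent.S2135.result (A := X.presheaf.stalk x)
    (Ash := Groth.Agent.Lib.Helper12.StrictHenselization (X.presheaf.stalk x))).2
    (hasUniqueMinimalPrime_of_irreducibleSpace _)

include hX in
theorem locIrr_of_etale [IrreducibleSpace X] {W : Scheme.{u}} (p : W ⟶ X) [Etale p] :
    Groth.Agent.Lib.Helper23.LCTop.LocIrr W := by
  have h := Groth.Agent.S2787.result p (isGeomUnibranch_stalk X hX)
  intro w
  obtain ⟨Z, ⟨hZ, hwZ⟩, -⟩ := h.1 w
  exact ⟨Z, (h.2 Z hZ).1, hwZ, hZ.1.isPreirreducible⟩

end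

end Groth.Agent.Lib.Helper27.EtUnibr
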