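import Groth.Agent.Lib.Helper27.EtUnibr1

set_option autoImplicit false
set_option backward.isDefEq.respectTransparency false
universe u
open CategoryTheory Limits Opposite AlgebraicGeometry Abelian

namespace Groth.Agent.Lib.Helper27.EtUnibr

theorem subsingleton_H_of_iso {X : Scheme.{u}} {F F' : EtCoh.Ab X} (e : F ≅ F') (n : ℕ)
    (h : Subsingleton (EtCoh.H X F' n)) : Subsingleton (EtCoh.H X F n) := by
  refine ⟨fun a b => ?_⟩
  have key : ∀ x : EtCoh.H X F n, x = 0 := by
    intro x
    have h1 : (x.comp (Ext.mk₀ e.hom) (add_zero n)).comp (Ext.mk₀ e.inv) (add_zero n) = x := by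
      rw [Ext.comp_assoc_of_third_deg_zero, Ext.mk₀_comp_mk₀, e.hom_inv_id, Ext.comp_mk₀_id]
    rw [← h1, h.elim (x.comp (Ext.mk₀ e.hom) (add_zero n)) 0, Ext.zero_comp]
  rw [key a, key b]

variable (X : Scheme.{u}) [IrreducibleSpace X]
  (hX : ∀ (x : X) (R : Type u) [CommRing R] [IsLocalRing R] [Algebra (X.presheaf.stalk x) R]
      [IsLocalHom (algebraMap (X.presheaf.stalk x) R)]
      [Hensel.IsStrictHenselization (X.presheaf.stalk x) R],
      IrreducibleSpace (PrimeSpectrum R))

include hX in
/-- the constant sheaf is the direct image of the constant sheaf on the generic point -/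
theorem isIso_unit_const_generic (M : Type) [AddCommGroup M] :
    IsIso ((EtCoh.pullPushAdj (X.fromSpecResidueField (genericPoint X))).unit.app
      (EtCoh.const X M)) := by
  open Groth.Agent.Lib.Helper23 in
  apply LCPull.isIso_unit_const M (X.fromSpecResidueField (genericPoint X))
  intro W
  haveI : Etale W.hom := W.prop
  exact LCTop.lcMap_bijective_generic M (X.fromSpecResidueField (genericPoint X)) (genericPoint X)
    (genericPoint_spec X) (Scheme.range_fromSpecResidueField _) W.hom (locIrr_of_etale X hX W.hom)

include hX in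
theorem subsingleton_H_one_const (M : Type) [AddCommGroup M] [IsAddTorsionFree M] :
    Subsingleton (EtCoh.H X (EtCoh.const X M) 1) := by
  let g := X.fromSpecResidueField (genericPoint X)
  haveI := isIso_unit_const_generic X hX M
  let e : EtCoh.const X M ≅ (Dix.skyPush X (genericPoint X)).obj
      (EtCoh.const (Spec (X.residueField (genericPoint X))) M) :=
    asIso ((EtCoh.pullPushAdj g).unit.app (EtCoh.const X M)) ≪≫
      (EtCoh.push g).mapIso (EtCore.pullConst g M)
  exact subsingleton_H_of_iso e 1
    (Groth.Agent.Lib.Helper27.EtSky.subsingleton_H_one_skyPush X (genericPoint X) M)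

end Groth.Agent.Lib.Helper27.EtUnibr
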