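import Mathlib.Algebra.Homology.DerivedCategory.Ext.ExactSequences
import Mathlib.Algebra.Homology.DerivedCategory.Ext.EnoughInjectives
import Mathlib.CategoryTheory.Preadditive.Injective.Basic

/-!
# An abstract dimension-shifting lemma

`R : 𝒜 ⥤ ℬ` a functor between abelian categories, `Z : ℬ`, `P` a class of objects of `𝒜`.
Suppose that for every short exact sequence `0 → G → I → Q → 0` in `𝒜` with `G ∈ P` and `I`
injective: `Q ∈ P`, the image sequence under `R` is short exact, `Hom(Z, R I) → Hom(Z, R Q)` is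
surjective, and `Ext^{n+1}(Z, R I) = 0`. Then `Ext^{n+1}(Z, R G) = 0` for every `G ∈ P`.
-/

set_option autoImplicit false

universe w v₁ u₁ v₂ u₂

namespace Groth.Agent.Lib.Helper27.EtZarAcyc

open CategoryTheory Limits Abelian

variable {𝒜 : Type u₁} [Category.{v₁} 𝒜] [Abelian 𝒜] [EnoughInjectives 𝒜]
  {ℬ : Type u₂} [Category.{v₂} ℬ] [Abelian ℬ] [HasExt.{w} ℬ]
  (R : 𝒜 ⥤ ℬ) [R.PreservesZeroMorphisms] (Z : ℬ) (P : 𝒜 → Prop)

/-- the canonical short exact sequence `0 → G → I → Q → 0` with `I` injective -/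
noncomputable def injSeq (G : 𝒜) : ShortComplex 𝒜 :=
  ShortComplex.mk (Injective.ι G) (cokernel.π (Injective.ι G)) (cokernel.condition _)

theorem injSeq_shortExact (G : 𝒜) : (injSeq G).ShortExact where
  exact := ShortComplex.exact_of_g_is_cokernel _ (cokernelIsCokernel _)
  mono_f := by dsimp [injSeq]; infer_instance
  epi_g := by dsimp [injSeq]; infer_instance

instance (G : 𝒜) : Injective (injSeq G).X₂ := by dsimp [injSeq]; infer_instance

theorem mk₀_comp_extClass_eq_zero {T : ShortComplex ℬ} (hT : T.ShortExact) (x₀ : Z ⟶ T.X₂) :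
    (Ext.mk₀ (x₀ ≫ T.g)).comp hT.extClass (zero_add 1) = 0 := by
  rw [← Ext.mk₀_comp_mk₀, Ext.comp_assoc_of_second_deg_zero, hT.comp_extClass, Ext.comp_zero]

/-- every class of positive degree which dies in `T.X₂` and whose degree-`0` sources lift is zero -/
theorem eq_zero_of_lift {T : ShortComplex ℬ} (hT : T.ShortExact)
    (hlift : ∀ y : Z ⟶ T.X₃, ∃ x : Z ⟶ T.X₂, x ≫ T.g = y)
    (hinj : ∀ x : Ext Z T.X₂ 1, x = 0) (x : Ext Z T.X₁ 1) : x = 0 := by
  obtain ⟨y, rfl⟩ := Ext.covariant_sequence_exact₁ Z hT x (hinj _) (n₀ := 0) rfl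
  obtain ⟨y₀, rfl⟩ := (Ext.mk₀_bijective _ _).2 y
  obtain ⟨x₀, rfl⟩ := hlift y₀
  exact mk₀_comp_extClass_eq_zero Z hT x₀

theorem eq_zero_of_shift {T : ShortComplex ℬ} (hT : T.ShortExact) (n : ℕ)
    (h3 : ∀ y : Ext Z T.X₃ (n + 1), y = 0)
    (hinj : ∀ x : Ext Z T.X₂ (n + 1 + 1), x = 0) (x : Ext Z T.X₁ (n + 1 + 1)) : x = 0 := by
  obtain ⟨y, rfl⟩ := Ext.covariant_sequence_exact₁ Z hT x (hinj _) (n₀ := n + 1) rfl
  rw [h3 y, Ext.zero_comp]

theorem ext_eq_zero_of_class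
    (h : ∀ (S : ShortComplex 𝒜), S.ShortExact → P S.X₁ → Injective S.X₂ →
      P S.X₃ ∧ (S.map R).ShortExact ∧
      (∀ y : Z ⟶ R.obj S.X₃, ∃ x : Z ⟶ R.obj S.X₂, x ≫ R.map S.g = y) ∧
      ∀ (n : ℕ) (x : Ext Z (R.obj S.X₂) (n + 1)), x = 0) :
    ∀ (n : ℕ) (G : 𝒜), P G → ∀ x : Ext Z (R.obj G) (n + 1), x = 0 := by
  intro n
  induction n with
  | zero =>
    intro G hG x
    obtain ⟨-, hRS, hlift, hinj⟩ := h (injSeq G) (injSeq_shortExact G) hG inferInstance
    exact eq_zero_of_lift Z hRS hlift (hinj 0) x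
  | succ n ih =>
    intro G hG x
    obtain ⟨hQ, hRS, -, hinj⟩ := h (injSeq G) (injSeq_shortExact G) hG inferInstance
    exact eq_zero_of_shift Z hRS n (ih _ hQ) (hinj (n + 1)) x

end Groth.Agent.Lib.Helper27.EtZarAcyc
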