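import Groth.Agent.Lib.Helper27.EtZarAcyc2
import Mathlib.CategoryTheory.Adjunction.Restrict
import Mathlib.CategoryTheory.Preadditive.Injective.Preserves
import Mathlib.CategoryTheory.Sites.Limits

/-!
# `resZar` has a mono-preserving left adjoint, hence preserves injectives
-/

set_option autoImplicit false

universe u

namespace Groth.Agent.Lib.Helper27.EtZarAcyc

open CategoryTheory Limits AlgebraicGeometry TopologicalSpace Opposite

variable (S : Scheme.{u})

/-- presheaf-level adjunction: precomposition with the image functor is left adjoint to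
precomposition with `zarToEt` -/
noncomputable def preAdj :
    (Functor.whiskeringLeft _ _ AddCommGrpCat.{u + 1}).obj (im S).op ⊣
      (Functor.whiskeringLeft _ _ AddCommGrpCat.{u + 1}).obj (EtZar.zarToEt S).op :=
  Adjunction.whiskerLeft AddCommGrpCat.{u + 1} (imAdj S).op

/-- the inverse image functor from Zariski to étale sheaves -/
noncomputable def invZar : EtZar.Ab S ⥤ EtCoh.Ab S :=
  sheafToPresheaf (Opens.grothendieckTopology S) AddCommGrpCat.{u + 1} ⋙
    ((Functor.whiskeringLeft _ _ AddCommGrpCat.{u + 1}).obj (im S).op ⋙
      presheafToSheaf S.smallEtaleTopology AddCommGrpCat.{u + 1})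

variable [EtZar.ZarCont S]

/-- `invZar ⊣ resZar` -/
noncomputable def invResAdj : invZar S ⊣ EtZar.resZar S :=
  ((preAdj S).comp (sheafificationAdjunction S.smallEtaleTopology
      AddCommGrpCat.{u + 1})).restrictFullyFaithful
    (fullyFaithfulSheafToPresheaf _ _) (Functor.FullyFaithful.id _)
    (Functor.rightUnitor _).symm
    (NatIso.ofComponents (fun _ => Iso.refl _))

instance : (invZar S).PreservesMonomorphisms := by
  unfold invZar
  infer_instance

instance (I : EtCoh.Ab S) [Injective I] : Injective ((EtZar.resZar S).obj I) :=
  Injective.injective_of_adjoint (invResAdj S) I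

instance : PreservesLimitsOfSize.{0, 0} (EtZar.resZar S) :=
  (invResAdj S).rightAdjoint_preservesLimits

instance : PreservesFiniteLimits (EtZar.resZar S) :=
  PreservesLimitsOfSize.preservesFiniteLimits _

end Groth.Agent.Lib.Helper27.EtZarAcyc
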