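import Groth.Agent.Lib.Helper27.EtZarAcyc3
import Groth.Agent.Lib.Helper23.MVOpen

/-!
# Étale side: acyclicity on an open passes to the cokernel of an injective embedding
-/

set_option autoImplicit false

universe u

namespace Groth.Agent.Lib.Helper27.EtZarAcyc

open CategoryTheory Limits AlgebraicGeometry TopologicalSpace Opposite Abelian
open Groth.Agent.Lib.Helper23.EtRestr Groth.Agent.Lib.Helper23.MVOpen

variable {S : Scheme.{u}} (V : S.Opens)

instance pull_preservesFiniteColimits : PreservesFiniteColimits (EtCoh.pull V.ι) :=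
  have : PreservesColimitsOfSize.{0, 0} (EtCoh.pull V.ι) :=
    (EtCoh.pullPushAdj V.ι).leftAdjoint_preservesColimits
  PreservesColimitsOfSize.preservesFiniteColimits _

instance pull_additive : (EtCoh.pull V.ι).Additive :=
  (EtCoh.pullPushAdj V.ι).left_adjoint_additive

instance pull_injective (I : EtCoh.Ab S) [Injective I] : Injective ((EtCoh.pull V.ι).obj I) :=
  Injective.injective_of_adjoint (adjP V.ι) I

/-- the terminal object of the small étale site -/
noncomputable def isTerminalTop (X : Scheme.{u}) : IsTerminal (EtCoh.top X) :=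
  MorphismProperty.Over.mkIdTerminal _ X

variable (T : ShortComplex (EtCoh.Ab S)) (hT : T.ShortExact)

include hT in
theorem pull_shortExact : (T.map (EtCoh.pull V.ι)).ShortExact :=
  hT.map_of_exact (EtCoh.pull V.ι)

include hT in
/-- acyclicity passes to the quotient -/
theorem subsingleton_H_X₃ [Injective T.X₂]
    (h1 : ∀ i : ℕ, 1 ≤ i → Subsingleton (EtCoh.H V ((EtCoh.pull V.ι).obj T.X₁) i))
    (i : ℕ) (hi : 1 ≤ i) : Subsingleton (EtCoh.H V ((EtCoh.pull V.ι).obj T.X₃) i) := by
  have hT' := pull_shortExact V T hT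
  refine subsingleton_of_forall_eq 0 (fun x => ?_)
  have hx : x.comp hT'.extClass (rfl : i + 1 = i + 1) = 0 :=
    (h1 (i + 1) (by omega)).elim _ _
  obtain ⟨y, rfl⟩ := Ext.covariant_sequence_exact₃ _ hT' x rfl hx
  obtain ⟨k, rfl⟩ : ∃ k, i = k + 1 := ⟨i - 1, by omega⟩
  haveI : Injective (T.map (EtCoh.pull V.ι)).X₂ := pull_injective V T.X₂
  have hy : y = 0 := Ext.eq_zero_of_injective y
  rw [hy, Ext.zero_comp]
  rfl

include hT in
/-- `H^0` of the pullbacks is right exact -/
theorem H0_surjective (h1 : Subsingleton (EtCoh.H V ((EtCoh.pull V.ι).obj T.X₁) 1))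
    (x : EtCoh.H V ((EtCoh.pull V.ι).obj T.X₃) 0) :
    ∃ y : EtCoh.H V ((EtCoh.pull V.ι).obj T.X₂) 0,
      Sheaf.H.map ((EtCoh.pull V.ι).map T.g) 0 y = x := by
  have hT' := pull_shortExact V T hT
  have hx : x.comp hT'.extClass (rfl : 0 + 1 = 0 + 1) = 0 := h1.elim _ _
  obtain ⟨y, rfl⟩ := Ext.covariant_sequence_exact₃ _ hT' x rfl hx
  exact ⟨y, rfl⟩

end Groth.Agent.Lib.Helper27.EtZarAcyc
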