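import Groth.Agent.Lib.Helper27.EtZarAcyc4

/-!
# Étale side: surjectivity on sections over an open with vanishing `H^1`
-/

set_option autoImplicit false

universe u

namespace Groth.Agent.Lib.Helper27.EtZarAcyc

open CategoryTheory Limits AlgebraicGeometry TopologicalSpace Opposite Abelian
open Groth.Agent.Lib.Helper23.EtRestr Groth.Agent.Lib.Helper23.MVOpen

/-- surjectivity on sections is invariant under isomorphism of the object -/
theorem surjective_app_of_iso {C : Type*} [Category C] {F G : Cᵒᵖ ⥤ AddCommGrpCat.{u + 1}}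
    (φ : F ⟶ G) {A B : C} (e : A ≅ B) (h : Function.Surjective (φ.app (op A))) :
    Function.Surjective (φ.app (op B)) := by
  intro s
  obtain ⟨t, ht⟩ := h (G.map e.hom.op s)
  refine ⟨F.map e.inv.op t, ?_⟩
  have h1 := ConcreteCategory.congr_hom (φ.naturality e.inv.op) t
  simp only [ConcreteCategory.comp_apply] at h1
  rw [h1, ht, ← ConcreteCategory.comp_apply, ← G.map_comp, ← op_comp, e.inv_hom_id, op_id,
    G.map_id]
  rfl

theorem sheaf_comp_app_apply {C : Type*} [Category C] {J : GrothendieckTopology C}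
    {F G H : Sheaf J AddCommGrpCat.{u + 1}} (a : F ⟶ G) (b : G ⟶ H) (U : Cᵒᵖ)
    (t : F.obj.obj U) : (a ≫ b).hom.app U t = b.hom.app U (a.hom.app U t) := rfl

variable {S : Scheme.{u}} (V : S.Opens)

/-- `V` as an étale `S`-scheme, in the two available forms -/
noncomputable def compTopIso :
    (EtShriek.compEtale V.ι).obj (EtCoh.top V) ≅ (EtZar.zarToEt S).obj V :=
  MorphismProperty.Over.isoMk (Iso.refl _) (by
    change 𝟙 _ ≫ V.ι = 𝟙 _ ≫ V.ι
    rfl)

variable (T : ShortComplex (EtCoh.Ab S)) (hT : T.ShortExact)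

include hT in
theorem pull_app_top_surjective
    (h1 : Subsingleton (EtCoh.H V ((EtCoh.pull V.ι).obj T.X₁) 1)) :
    Function.Surjective (((EtCoh.pull V.ι).map T.g).hom.app (op (EtCoh.top V))) := by
  intro s
  obtain ⟨y, hy⟩ := H0_surjective V T hT h1
    ((Sheaf.H.equiv₀ ((EtCoh.pull V.ι).obj T.X₃) (isTerminalTop V)).symm s)
  refine ⟨Sheaf.H.equiv₀ ((EtCoh.pull V.ι).obj T.X₂) (isTerminalTop V) y, ?_⟩
  rw [Sheaf.H.equiv₀_naturality, hy, AddEquiv.apply_symm_apply]

include hT in
theorem restr_app_top_surjective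
    (h1 : Subsingleton (EtCoh.H V ((EtCoh.pull V.ι).obj T.X₁) 1)) :
    Function.Surjective (((EtShriek.restrAlong V.ι).map T.g).hom.app (op (EtCoh.top V))) := by
  intro s
  obtain ⟨t, ht⟩ := pull_app_top_surjective V T hT h1
    (((pullIsoRestr V.ι).inv.app T.X₃).hom.app (op (EtCoh.top V)) s)
  refine ⟨((pullIsoRestr V.ι).hom.app T.X₂).hom.app (op (EtCoh.top V)) t, ?_⟩
  have nat := (pullIsoRestr V.ι).hom.naturality T.g
  have nat' := congrArg (fun (φ : (EtCoh.pull V.ι).obj T.X₂ ⟶ (EtShriek.restrAlong V.ι).obj T.X₃) =>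
    φ.hom.app (op (EtCoh.top V)) t) nat
  simp only [sheaf_comp_app_apply] at nat'
  rw [← nat', ht, ← sheaf_comp_app_apply, Iso.inv_hom_id_app]
  rfl

include hT in
/-- **sections over `V` of `I → Q` are surjective when `H^1(V, G|_V) = 0`** -/
theorem app_zarToEt_surjective
    (h1 : Subsingleton (EtCoh.H V ((EtCoh.pull V.ι).obj T.X₁) 1)) :
    Function.Surjective (T.g.hom.app (op ((EtZar.zarToEt S).obj V))) :=
  surjective_app_of_iso T.g.hom (compTopIso V) (restr_app_top_surjective V T hT h1)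

end Groth.Agent.Lib.Helper27.EtZarAcyc
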