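import Groth.Agent.Lib.Helper27.EtZarAcyc1
import Groth.Agent.Lib.Helper27.EtZarAcyc5
import Mathlib.CategoryTheory.Sites.LocallySurjective

/-!
# Zariski cohomology of the restriction of an étale sheaf acyclic on affines
-/

set_option autoImplicit false

universe u

namespace Groth.Agent.Lib.Helper27.EtZarAcyc

open CategoryTheory Limits AlgebraicGeometry TopologicalSpace Opposite Abelian

variable (S : Scheme.{u}) [EtZar.ZarCont S]

instance resZar_additive : (EtZar.resZar S).Additive where

/-- the constant Zariski sheaf `ℤ` -/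
noncomputable abbrev zarZ : EtZar.Ab S :=
  (constantSheaf (Opens.grothendieckTopology S) AddCommGrpCat.{u + 1}).obj
    (AddCommGrpCat.of (ULift.{u + 1} ℤ))

variable {S}
variable (T : ShortComplex (EtCoh.Ab S)) (hT : T.ShortExact)

/-- local surjectivity on affine opens gives an epimorphism of Zariski sheaves -/
theorem epi_resZar_map_g
    (h : ∀ V : S.Opens, IsAffineOpen V →
      Function.Surjective (T.g.hom.app (op ((EtZar.zarToEt S).obj V)))) :
    Epi ((EtZar.resZar S).map T.g) := by
  haveI : Sheaf.IsLocallySurjective ((EtZar.resZar S).map T.g) := by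
    constructor
    intro U s
    rw [Opens.mem_grothendieckTopology]
    intro x hx
    obtain ⟨W, hW, hxW, hWU⟩ := TopologicalSpace.Opens.isBasis_iff_nbhd.1
      S.isBasis_affineOpens hx
    refine ⟨W, homOfLE hWU, ?_, hxW⟩
    obtain ⟨t, ht⟩ := h W hW
      (((EtZar.resZar S).obj T.X₃).obj.map (homOfLE hWU).op s)
    exact ⟨t, ht⟩
  exact Sheaf.epi_of_isLocallySurjective _

include hT in
theorem resZar_shortExact
    (h : ∀ V : S.Opens, IsAffineOpen V →
      Function.Surjective (T.g.hom.app (op ((EtZar.zarToEt S).obj V)))) :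
    (T.map (EtZar.resZar S)).ShortExact := by
  haveI := hT.mono_f
  haveI : Mono ((EtZar.resZar S).map T.f) := inferInstance
  haveI : Epi ((EtZar.resZar S).map T.g) := epi_resZar_map_g T h
  exact
    { exact := hT.exact.map_of_mono_of_preservesKernel _ hT.mono_f inferInstance
      mono_f := ‹Mono ((EtZar.resZar S).map T.f)›
      epi_g := ‹Epi ((EtZar.resZar S).map T.g)› }

/-- global sections lift -/
theorem exists_lift_zarZ
    (h : Function.Surjective (T.g.hom.app (op ((EtZar.zarToEt S).obj ⊤))))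
    (y : zarZ S ⟶ (EtZar.resZar S).obj T.X₃) :
    ∃ x : zarZ S ⟶ (EtZar.resZar S).obj T.X₂, x ≫ (EtZar.resZar S).map T.g = y := by
  have hTop : IsTerminal (⊤ : S.Opens) := CategoryTheory.Limits.isTerminalTop
  obtain ⟨t, ht⟩ := h (Sheaf.H.equiv₀ ((EtZar.resZar S).obj T.X₃) hTop (Ext.mk₀ y))
  obtain ⟨x, hx⟩ := (Ext.mk₀_bijective _ _).2
    ((Sheaf.H.equiv₀ ((EtZar.resZar S).obj T.X₂) hTop).symm t)
  refine ⟨x, (Ext.mk₀_bijective _ _).1 ?_⟩
  have e1 := Sheaf.H.equiv₀_symm_naturality (hT := hTop) ((EtZar.resZar S).map T.g) t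
  rw [← hx, Sheaf.H.map_apply, Ext.mk₀_comp_mk₀] at e1
  refine e1.trans ?_
  have e2 : (ConcreteCategory.hom (((EtZar.resZar S).map T.g).hom.app (op ⊤))) t =
      (Sheaf.H.equiv₀ ((EtZar.resZar S).obj T.X₃) hTop) (Ext.mk₀ y) := ht
  rw [e2, AddEquiv.symm_apply_apply]

end Groth.Agent.Lib.Helper27.EtZarAcyc
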