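import Groth.Agent.Lib.Helper27.EtZarAcyc6

/-!
# Zariski cohomology of the restriction of an étale sheaf acyclic on affine opens vanishes
-/

set_option autoImplicit false

universe u

namespace Groth.Agent.Lib.Helper27.EtZarAcyc

open CategoryTheory Limits AlgebraicGeometry TopologicalSpace Opposite Abelian

variable (S : Scheme.{u}) [EtZar.ZarCont S]

/-- étale-acyclic on every affine open -/
def AffAcyc (G : EtCoh.Ab S) : Prop :=
  ∀ V : S.Opens, IsAffineOpen V → ∀ i : ℕ, 1 ≤ i →
    Subsingleton (EtCoh.H V ((EtCoh.pull V.ι).obj G) i)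

theorem zariskiH_eq_zero [IsAffine S] (n : ℕ) (G : EtCoh.Ab S) (hG : AffAcyc S G)
    (x : Ext (zarZ S) ((EtZar.resZar S).obj G) (n + 1)) : x = 0 := by
  refine ext_eq_zero_of_class (EtZar.resZar S) (zarZ S) (AffAcyc S) ?_ n G hG x
  intro T hT h1 hI
  have hsurj : ∀ V : S.Opens, IsAffineOpen V →
      Function.Surjective (T.g.hom.app (op ((EtZar.zarToEt S).obj V))) :=
    fun V hV => app_zarToEt_surjective V T hT (h1 V hV 1 le_rfl)
  refine ⟨fun V hV => subsingleton_H_X₃ V T hT (h1 V hV), resZar_shortExact T hT hsurj,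
    exists_lift_zarZ T (hsurj ⊤ (isAffineOpen_top S)), fun k y => ?_⟩
  haveI : Injective ((EtZar.resZar S).obj T.X₂) := inferInstance
  exact Ext.eq_zero_of_injective y

end Groth.Agent.Lib.Helper27.EtZarAcyc
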