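import Groth.Agent.Lib.helper19.HensSec1
import Groth.Agent.Lib.Helper13.SpreadFP
import Groth.Prelude.Def_EtZar

/-!
# Étale maps to a scheme with strictly henselian local rings have Zariski-local sections
-/

set_option autoImplicit false

universe u

namespace Groth.Agent.Lib.Helper27.EtZarHens

open CategoryTheory Limits AlgebraicGeometry TopologicalSpace Opposite

/-- an étale map has a section over the spectrum of a strictly henselian local ring of the base,
through any given point of the fibre -/
theorem exists_fromSpecStalk_lift {S T : Scheme.{u}} (s : S)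
    (hs : EtCoh.IsStrictlyHenselianLocalRing (S.presheaf.stalk s)) (f : T ⟶ S) [Etale f]
    (t : T) (ht : f t = s) :
    ∃ φ : Spec (S.presheaf.stalk s) ⟶ T, φ ≫ f = S.fromSpecStalk s := by
  obtain ⟨hH, hK⟩ := hs
  obtain ⟨p, hp1, hp2⟩ := Scheme.Pullback.exists_preimage_pullback (f := f)
    (g := S.fromSpecStalk s) t (IsLocalRing.closedPoint (S.presheaf.stalk s))
    (by rw [ht, Scheme.fromSpecStalk_closedPoint])
  obtain ⟨v, hv, -⟩ := @Groth.Agent.Lib.Helper19.HensSec1.exists_section_through
    (S.presheaf.stalk s) _ hH hK _ (pullback.snd f (S.fromSpecStalk s)) _ p hp2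
  exact ⟨v ≫ pullback.fst _ _, by
    rw [Category.assoc, pullback.condition, ← Category.assoc, hv]
    exact Category.id_comp _⟩

/-- an étale `S`-scheme has a section over an open neighbourhood of any point of its image
whose local ring is strictly henselian -/
theorem exists_open_section {S : Scheme.{u}} (s : S)
    (hs : EtCoh.IsStrictlyHenselianLocalRing (S.presheaf.stalk s)) (T : S.Etale) (t : T.left)
    (ht : T.hom t = s) :
    ∃ V : S.Opens, s ∈ V ∧ Nonempty ((EtZar.zarToEt S).obj V ⟶ T) := by
  have : Etale T.hom := T.prop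
  obtain ⟨φ, hφ⟩ := exists_fromSpecStalk_lift s hs T.hom t ht
  obtain ⟨U, hsU, f, -, hf⟩ :=
    Groth.Agent.Lib.Helper13.SpreadFP.spread_out_of_finitePresentation' (𝟙 S) T.hom φ
      (by rw [hφ, Category.comp_id])
  have hf' : f ≫ T.hom = U.ι := by simpa using hf
  exact ⟨U, hsU, ⟨MorphismProperty.Over.homMk (show ((EtZar.zarToEt S).obj U).left ⟶ T.left from f)
    hf' trivial⟩⟩

end Groth.Agent.Lib.Helper27.EtZarHens
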