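import Groth.Agent.Lib.Helper27.EtZarHens1
import Groth.Agent.Lib.Helper27.EtZarAcyc6
import Mathlib.CategoryTheory.Sites.EpiMono

/-!
# `resZar` is exact when all local rings are strictly henselian
-/

set_option autoImplicit false

universe u

namespace Groth.Agent.Lib.Helper27.EtZarHens

open CategoryTheory Limits AlgebraicGeometry TopologicalSpace Opposite
open Groth.Agent.Lib.Helper27.EtZarAcyc Groth.Agent.Lib.Helper23.EtGlue

variable {S : Scheme.{u}} [EtZar.ZarCont S]

theorem le_of_hom_zarToEt {V U : S.Opens} (g : (EtZar.zarToEt S).obj V ⟶ (EtZar.zarToEt S).obj U) :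
    V ≤ U := by
  intro x hx
  refine le_of_hom S _ U g ⟨⟨x, hx⟩, rfl⟩

theorem epi_resZar_map
    (hS : ∀ s : S, EtCoh.IsStrictlyHenselianLocalRing (S.presheaf.stalk s))
    {F G : EtCoh.Ab S} (φ : F ⟶ G) [Epi φ] : Epi ((EtZar.resZar S).map φ) := by
  have hφ : Sheaf.IsLocallySurjective φ :=
    (Sheaf.isLocallySurjective_iff_epi' AddCommGrpCat.{u + 1} φ).2 inferInstance
  have : Sheaf.IsLocallySurjective ((EtZar.resZar S).map φ) := by
    constructor
    intro U g
    rw [Opens.mem_grothendieckTopology]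
    intro x hx
    have hcov := hφ.imageSieve_mem (U := (EtZar.zarToEt S).obj U) g
    obtain ⟨T', a, ha, t, hta⟩ := exists_arrow_of_mem _ hcov (show ((EtZar.zarToEt S).obj U).left from ⟨x, hx⟩)
    have hT' : T'.hom t = x := by
      have h1 : a.left ≫ ((EtZar.zarToEt S).obj U).hom = T'.hom := MorphismProperty.Over.w a
      rw [← h1, Scheme.Hom.comp_apply, hta]
      rfl
    obtain ⟨V, hxV, ⟨σ⟩⟩ := exists_open_section x (hS x) T' t hT'
    have hVU : V ≤ U := le_of_hom_zarToEt (σ ≫ a)
    refine ⟨V, homOfLE hVU, ?_, hxV⟩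
    obtain ⟨f', hf'⟩ := ha
    refine ⟨F.obj.map σ.op f', ?_⟩
    have e : (EtZar.zarToEt S).map (homOfLE hVU) = σ ≫ a := Subsingleton.elim _ _
    have nat := ConcreteCategory.congr_hom (φ.hom.naturality σ.op) f'
    simp only [ConcreteCategory.comp_apply] at nat
    change φ.hom.app (op ((EtZar.zarToEt S).obj V)) (F.obj.map σ.op f') =
      G.obj.map ((EtZar.zarToEt S).map (homOfLE hVU)).op g
    rw [e, nat, hf', op_comp, G.obj.map_comp]
    rfl
  exact Sheaf.epi_of_isLocallySurjective _

theorem resZar_shortExact'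
    (hS : ∀ s : S, EtCoh.IsStrictlyHenselianLocalRing (S.presheaf.stalk s))
    (T : ShortComplex (EtCoh.Ab S)) (hT : T.ShortExact) :
    (T.map (EtZar.resZar S)).ShortExact := by
  have := hT.mono_f
  have := hT.epi_g
  have : Mono ((EtZar.resZar S).map T.f) := inferInstance
  have : Epi ((EtZar.resZar S).map T.g) := epi_resZar_map hS T.g
  exact
    { exact := hT.exact.map_of_mono_of_preservesKernel _ hT.mono_f inferInstance
      mono_f := ‹Mono ((EtZar.resZar S).map T.f)›
      epi_g := ‹Epi ((EtZar.resZar S).map T.g)› }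

end Groth.Agent.Lib.Helper27.EtZarHens
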