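import Groth.Agent.Lib.Helper27.ExtFilt1
import Mathlib.CategoryTheory.Preadditive.Injective.Basic
import Mathlib.CategoryTheory.Limits.Shapes.Products

/-!
# Embedding a diagram in an abelian category into a diagram of injective objects
-/

set_option autoImplicit false

universe w t' t v u

open CategoryTheory CategoryTheory.Limits Abelian

namespace Groth.Agent.Lib.Helper27.ExtFilt

namespace InjRes

variable {𝒜 : Type u} [Category.{v} 𝒜] [Abelian 𝒜] [EnoughInjectives 𝒜]
variable {I : Type t} [Category.{t'} I] [HasProducts.{max t t'} 𝒜] (F : I ⥤ 𝒜)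

/-- the family of injective objects whose product is the value at `j` -/
noncomputable abbrev fam (j : I) : (Σ i : I, (j ⟶ i)) → 𝒜 :=
  fun p => Injective.under (F.obj p.1)

/-- the value at `j` of the diagram of injectives -/
noncomputable def obj (j : I) : 𝒜 := ∏ᶜ (fam F j)

/-- the projections -/
noncomputable def πc (j i : I) (u : j ⟶ i) : obj F j ⟶ Injective.under (F.obj i) :=
  Pi.π (fam F j) ⟨i, u⟩

theorem hom_ext {j : I} {X : 𝒜} {f g : X ⟶ obj F j}
    (h : ∀ (i : I) (u : j ⟶ i), f ≫ πc F j i u = g ≫ πc F j i u) : f = g := by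
  apply Pi.hom_ext
  rintro ⟨i, u⟩
  exact h i u

/-- the transition maps -/
noncomputable def map {j j' : I} (v : j ⟶ j') : obj F j ⟶ obj F j' :=
  Pi.lift (fun p' : Σ i : I, (j' ⟶ i) => πc F j p'.1 (v ≫ p'.2))

@[reassoc]
theorem map_πc {j j' : I} (v : j ⟶ j') (i : I) (u : j' ⟶ i) :
    map F v ≫ πc F j' i u = πc F j i (v ≫ u) := by
  unfold map πc
  exact Pi.lift_π _ (⟨i, u⟩ : Σ i : I, (j' ⟶ i))

/-- the diagram of injectives -/
noncomputable def functor : I ⥤ 𝒜 where
  obj := obj F
  map v := map F v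
  map_id j := by
    apply hom_ext
    intro i u
    rw [map_πc, Category.id_comp, Category.id_comp]
  map_comp v v' := by
    apply hom_ext
    intro i u
    rw [map_πc, Category.assoc, Category.assoc, map_πc, map_πc]

/-- the embedding, on objects -/
noncomputable def ηapp (j : I) : F.obj j ⟶ obj F j :=
  Pi.lift (fun p : Σ i : I, (j ⟶ i) => F.map p.2 ≫ Injective.ι (F.obj p.1))

@[reassoc]
theorem ηapp_πc (j i : I) (u : j ⟶ i) :
    ηapp F j ≫ πc F j i u = F.map u ≫ Injective.ι (F.obj i) := by
  unfold ηapp πc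
  exact Pi.lift_π _ (⟨i, u⟩ : Σ i : I, (j ⟶ i))

/-- the embedding -/
noncomputable def η : F ⟶ functor F where
  app j := ηapp F j
  naturality j j' v := by
    apply hom_ext
    intro i u
    change (F.map v ≫ ηapp F j') ≫ πc F j' i u = (ηapp F j ≫ map F v) ≫ πc F j' i u
    rw [Category.assoc, ηapp_πc, Category.assoc, map_πc, ηapp_πc, F.map_comp, Category.assoc]

instance (j : I) : Mono (ηapp F j) := by
  have h : ηapp F j ≫ πc F j j (𝟙 j) = Injective.ι (F.obj j) := by
    rw [ηapp_πc, F.map_id, Category.id_comp]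
  haveI : Mono (ηapp F j ≫ πc F j j (𝟙 j)) := by
    rw [h]
    infer_instance
  exact mono_of_mono (ηapp F j) (πc F j j (𝟙 j))

instance : Mono (η F) := by
  haveI : ∀ j, Mono ((η F).app j) := fun j => inferInstanceAs (Mono (ηapp F j))
  exact NatTrans.mono_of_mono_app _

instance (j : I) : Injective ((functor F).obj j) := by
  change Injective (∏ᶜ (fam F j))
  infer_instance

/-- the short exact sequence `0 ⟶ F ⟶ functor F ⟶ Q ⟶ 0` -/
noncomputable def ses : ShortComplex (I ⥤ 𝒜) :=
  ShortComplex.mk (η F) (cokernel.π (η F)) (cokernel.condition _)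

theorem ses_shortExact : (ses F).ShortExact where
  exact := ShortComplex.exact_cokernel _
  mono_f := inferInstanceAs (Mono (η F))
  epi_g := inferInstanceAs (Epi (cokernel.π (η F)))

end InjRes

theorem exists_res {𝒜 : Type u} [Category.{v} 𝒜] [Abelian 𝒜] [EnoughInjectives 𝒜]
    {I : Type t} [Category.{t'} I] [HasProducts.{max t t'} 𝒜] (F : I ⥤ 𝒜) :
    ∃ (S : ShortComplex (I ⥤ 𝒜)), S.ShortExact ∧ S.X₁ = F ∧ ∀ i, Injective (S.X₂.obj i) :=
  ⟨InjRes.ses F, InjRes.ses_shortExact F, rfl, fun i =>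
    inferInstanceAs (Injective ((InjRes.functor F).obj i))⟩

end Groth.Agent.Lib.Helper27.ExtFilt
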