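import Groth.Agent.Lib.Helper27.ExtFilt2
import Mathlib.Algebra.Category.Grp.FilteredColimits
import Mathlib.CategoryTheory.Limits.Types.Filtered
import Mathlib.CategoryTheory.Limits.Preserves.Basic

/-!
# From the elementwise statements to preservation of filtered colimits by `Ext^p(Z, -)`
-/

set_option autoImplicit false

universe w v u

open CategoryTheory CategoryTheory.Limits Abelian

namespace Groth.Agent.Lib.Helper27.ExtFilt

variable {𝒜 : Type u} [Category.{v} 𝒜] [Abelian 𝒜] [HasExt.{w} 𝒜]
variable {I : Type w} [SmallCategory I] [IsFiltered I] [HasColimitsOfShape I 𝒜]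

theorem preservesColimit_extFunctorObj (Z : 𝒜) (p : ℕ) (F : I ⥤ 𝒜) (h1 : SurjExt Z p F)
    (h2 : InjExt Z p F) : PreservesColimit F (extFunctorObj Z p) := by
  apply preservesColimit_of_preserves_colimit_cocone (colimit.isColimit F)
  haveI : PreservesColimit (F ⋙ extFunctorObj Z p) (forget AddCommGrpCat.{w}) :=
    (PreservesFilteredColimitsOfSize.preserves_filtered_colimits
      (F := forget AddCommGrpCat.{w}) I).preservesColimit
  haveI : ReflectsColimit (F ⋙ extFunctorObj Z p) (forget AddCommGrpCat.{w}) :=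
    reflectsColimit_of_reflectsIsomorphisms _ _
  apply isColimitOfReflects (forget AddCommGrpCat.{w})
  apply Types.FilteredColimit.isColimitOf'
  · intro y
    obtain ⟨i, x, hx⟩ := h1 y
    exact ⟨i, x, hx.symm⟩
  · intro i (x : Ext Z (F.obj i) p) (y : Ext Z (F.obj i) p) hxy
    have hxy' : x.comp (Ext.mk₀ (colimit.ι F i)) (add_zero p) =
        y.comp (Ext.mk₀ (colimit.ι F i)) (add_zero p) := hxy
    obtain ⟨j, u, hu⟩ := h2 i (x - y) (by
      rw [sub_eq_add_neg, Ext.add_comp, Ext.neg_comp, ← sub_eq_add_neg, sub_eq_zero]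
      exact hxy')
    refine ⟨j, u, ?_⟩
    rw [sub_eq_add_neg, Ext.add_comp, Ext.neg_comp, ← sub_eq_add_neg, sub_eq_zero] at hu
    exact hu

end Groth.Agent.Lib.Helper27.ExtFilt
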