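import Groth.Agent.Lib.Helper27.ExtFilt1

/-!
# `Ext` groups and filtered colimits: passing to the cokernel in the first variable
-/

set_option autoImplicit false

universe w t' t v u

open CategoryTheory CategoryTheory.Limits Abelian

namespace Groth.Agent.Lib.Helper27.ExtFilt

variable {𝒜 : Type u} [Category.{v} 𝒜] [Abelian 𝒜] [HasExt.{w} 𝒜]
variable {I : Type t} [Category.{t'} I] [HasColimitsOfShape I 𝒜]

theorem pull_push {Z Z' X Y : 𝒜} {p : ℕ} (a : Z' ⟶ Z) (x : Ext Z X p) (φ : X ⟶ Y) :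
    ((Ext.mk₀ a).comp x (zero_add p)).comp (Ext.mk₀ φ) (add_zero p) =
      (Ext.mk₀ a).comp (x.comp (Ext.mk₀ φ) (add_zero p)) (zero_add p) :=
  Ext.comp_assoc_of_third_deg_zero _ _ _ _

section Quot

variable {S : ShortComplex 𝒜} (hS : S.ShortExact) (F : I ⥤ 𝒜)

theorem delta_push {X Y : 𝒜} {n₀ n₁ : ℕ} (hn : 1 + n₀ = n₁) (w : Ext S.X₁ X n₀) (φ : X ⟶ Y) :
    (hS.extClass.comp w hn).comp (Ext.mk₀ φ) (add_zero n₁) =
      hS.extClass.comp (w.comp (Ext.mk₀ φ) (add_zero n₀)) hn :=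
  Ext.comp_assoc_of_third_deg_zero _ _ _ _

include hS in
theorem surj_aux (n : ℕ) (hB : SurjExt S.X₂ n F) (hA : InjExt S.X₁ n F)
    (y : Ext S.X₃ (colimit F) n) :
    ∃ (j : I) (x₃ : Ext S.X₃ (F.obj j) n),
      (Ext.mk₀ S.g).comp (y - x₃.comp (Ext.mk₀ (colimit.ι F j)) (add_zero n)) (zero_add n) =
        0 := by
  obtain ⟨i, x₂, hx₂⟩ := hB ((Ext.mk₀ S.g).comp y (zero_add n))
  have h1 : ((Ext.mk₀ S.f).comp x₂ (zero_add n)).comp (Ext.mk₀ (colimit.ι F i)) (add_zero n) =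
      0 := by
    rw [pull_push, hx₂, Ext.mk₀_comp_mk₀_assoc, S.zero, Ext.mk₀_zero, Ext.zero_comp]
  obtain ⟨j, u, hu⟩ := hA i _ h1
  have h2 : (Ext.mk₀ S.f).comp (x₂.comp (Ext.mk₀ (F.map u)) (add_zero n)) (zero_add n) = 0 := by
    rw [← pull_push]
    exact hu
  obtain ⟨x₃, hx₃⟩ := Ext.contravariant_sequence_exact₂ hS _ _ h2
  refine ⟨j, x₃, ?_⟩
  rw [sub_eq_add_neg, Ext.comp_add, Ext.comp_neg, ← pull_push, hx₃, comp_mk₀_comp_mk₀,
    colimit.w, hx₂, add_neg_cancel]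

include hS in
theorem surjExt_X₃_zero (hB : SurjExt S.X₂ 0 F) (hA : InjExt S.X₁ 0 F) :
    SurjExt S.X₃ 0 F := by
  intro y
  obtain ⟨j, x₃, h⟩ := surj_aux hS F 0 hB hA y
  haveI := hS.epi_g
  have h0 : y - x₃.comp (Ext.mk₀ (colimit.ι F j)) (add_zero 0) = 0 := by
    apply Ext.precomp_mk₀_injective_of_epi (colimit F) S.g
    change (Ext.mk₀ S.g).comp _ (zero_add 0) = (Ext.mk₀ S.g).comp 0 (zero_add 0)
    rw [h, Ext.comp_zero]
  exact ⟨j, x₃, (sub_eq_zero.1 h0).symm⟩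

include hS in
theorem surjExt_X₃_succ [IsFiltered I] (n : ℕ) (hB : SurjExt S.X₂ (n + 1) F)
    (hA : InjExt S.X₁ (n + 1) F) (hA' : SurjExt S.X₁ n F) : SurjExt S.X₃ (n + 1) F := by
  intro y
  obtain ⟨j, x₃, h⟩ := surj_aux hS F (n + 1) hB hA y
  obtain ⟨w, hw⟩ := Ext.contravariant_sequence_exact₃ hS _ _ h (n₀ := n) (by omega)
  obtain ⟨k, wk, hwk⟩ := hA' w
  refine ⟨IsFiltered.max j k,
    x₃.comp (Ext.mk₀ (F.map (IsFiltered.leftToMax j k))) (add_zero (n + 1)) +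
    (hS.extClass.comp wk (by omega : 1 + n = n + 1)).comp
      (Ext.mk₀ (F.map (IsFiltered.rightToMax j k))) (add_zero (n + 1)), ?_⟩
  rw [Ext.add_comp, comp_mk₀_comp_mk₀, comp_mk₀_comp_mk₀, colimit.w, colimit.w, delta_push,
    hwk, hw]
  abel

include hS in
theorem inj_aux (n : ℕ) (hB : InjExt S.X₂ n F) (i : I) (x₃ : Ext S.X₃ (F.obj i) n)
    (h : x₃.comp (Ext.mk₀ (colimit.ι F i)) (add_zero n) = 0) :
    ∃ (j : I) (u : i ⟶ j),
      (Ext.mk₀ S.g).comp (x₃.comp (Ext.mk₀ (F.map u)) (add_zero n)) (zero_add n) = 0 := by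
  obtain ⟨j, u, hu⟩ := hB i ((Ext.mk₀ S.g).comp x₃ (zero_add n)) (by
    rw [pull_push, h, Ext.comp_zero])
  refine ⟨j, u, ?_⟩
  rw [← pull_push]
  exact hu

include hS in
theorem injExt_X₃_zero (hB : InjExt S.X₂ 0 F) : InjExt S.X₃ 0 F := by
  intro i x₃ h
  obtain ⟨j, u, hu⟩ := inj_aux hS F 0 hB i x₃ h
  haveI := hS.epi_g
  refine ⟨j, u, ?_⟩
  apply Ext.precomp_mk₀_injective_of_epi (F.obj j) S.g
  change (Ext.mk₀ S.g).comp _ (zero_add 0) = (Ext.mk₀ S.g).comp 0 (zero_add 0)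
  rw [hu, Ext.comp_zero]

include hS in
theorem injExt_X₃_succ [IsFiltered I] (n : ℕ) (hB : InjExt S.X₂ (n + 1) F)
    (hB' : SurjExt S.X₂ n F) (hA' : InjExt S.X₁ n F) : InjExt S.X₃ (n + 1) F := by
  intro i x₃ h
  obtain ⟨j, u, hu⟩ := inj_aux hS F (n + 1) hB i x₃ h
  obtain ⟨w, hw⟩ := Ext.contravariant_sequence_exact₃ hS _ _ hu (n₀ := n) (by omega)
  have h1 : hS.extClass.comp (w.comp (Ext.mk₀ (colimit.ι F j)) (add_zero n))
      (by omega : 1 + n = n + 1) = 0 := by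
    rw [← delta_push, hw, comp_mk₀_comp_mk₀, colimit.w, h]
  obtain ⟨v, hv⟩ := Ext.contravariant_sequence_exact₁ hS _ _ _ h1
  obtain ⟨k, vk, hvk⟩ := hB' v
  have h2 : (w.comp (Ext.mk₀ (F.map (IsFiltered.leftToMax j k))) (add_zero n) -
      ((Ext.mk₀ S.f).comp vk (zero_add n)).comp
        (Ext.mk₀ (F.map (IsFiltered.rightToMax j k))) (add_zero n)).comp
      (Ext.mk₀ (colimit.ι F (IsFiltered.max j k))) (add_zero n) = 0 := by
    rw [sub_eq_add_neg, Ext.add_comp, Ext.neg_comp, comp_mk₀_comp_mk₀, comp_mk₀_comp_mk₀,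
      colimit.w, colimit.w, pull_push, hvk, hv, add_neg_cancel]
  obtain ⟨m, c, hc⟩ := hA' _ _ h2
  rw [sub_eq_add_neg, Ext.add_comp, Ext.neg_comp, add_neg_eq_zero, comp_mk₀_comp_mk₀,
    comp_mk₀_comp_mk₀, pull_push] at hc
  refine ⟨m, u ≫ IsFiltered.leftToMax j k ≫ c, ?_⟩
  rw [F.map_comp, ← comp_mk₀_comp_mk₀, ← hw, delta_push, F.map_comp, hc]
  exact hS.extClass_comp_assoc _

include hS in
/-- **`Ext` out of the cokernel commutes with filtered colimits** if `Ext` out of the two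
other terms of a short exact sequence does -/
theorem surjExt_injExt_X₃ [IsFiltered I]
    (hA : ∀ n, SurjExt S.X₁ n F ∧ InjExt S.X₁ n F)
    (hB : ∀ n, SurjExt S.X₂ n F ∧ InjExt S.X₂ n F) (n : ℕ) :
    SurjExt S.X₃ n F ∧ InjExt S.X₃ n F := by
  cases n with
  | zero => exact ⟨surjExt_X₃_zero hS F (hB 0).1 (hA 0).2, injExt_X₃_zero hS F (hB 0).2⟩
  | succ n =>
    exact ⟨surjExt_X₃_succ hS F n (hB (n + 1)).1 (hA (n + 1)).2 (hA n).1,
      injExt_X₃_succ hS F n (hB (n + 1)).2 (hB n).1 (hA n).2⟩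

end Quot

end Groth.Agent.Lib.Helper27.ExtFilt
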