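import Groth.Agent.Lib.Helper27.ToposFP

/-!
# Quasi-compact objects: maps to a filtered colimit agreeing in the colimit agree further along
-/

set_option autoImplicit false
set_option backward.isDefEq.respectTransparency false
set_option backward.isDefEq.respectTransparency.types false

universe w u

open CategoryTheory CategoryTheory.Limits Opposite

namespace Groth.Agent.Lib.Helper27.ToposFP

open ToposFin Groth.Agent.Lib.Helper13.ToposQC Groth.Agent.Lib.Helper27.ToposColim

variable {C : Type u} [SmallCategory C] {J : GrothendieckTopology C}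

section

variable {I : Type u} [SmallCategory I] [IsFiltered I]

/-- finitely many conditions on arrows out of `k₀`, each stable under post-composition and each
satisfied by some arrow, are satisfied by a common arrow -/
theorem exists_common {κ : Type w} (s : Finset κ) (k₀ : I)
    (P : κ → ∀ l : I, (k₀ ⟶ l) → Prop)
    (hP : ∀ (j : κ) (l : I) (w : k₀ ⟶ l) (l' : I) (t : l ⟶ l'), P j l w → P j l' (w ≫ t))
    (h : ∀ j ∈ s, ∃ (l : I) (w : k₀ ⟶ l), P j l w) :
    ∃ (l : I) (w : k₀ ⟶ l), ∀ j ∈ s, P j l w := by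
  classical
  induction s using Finset.induction_on with
  | empty => exact ⟨k₀, 𝟙 _, by simp⟩
  | insert a s ha ih =>
    obtain ⟨l₁, w₁, h₁⟩ := ih (fun j hj => h j (Finset.mem_insert_of_mem hj))
    obtain ⟨l₂, w₂, h₂⟩ := h a (Finset.mem_insert_self a s)
    obtain ⟨m, t₁, t₂, ht⟩ := IsFiltered.span w₁ w₂
    refine ⟨m, w₁ ≫ t₁, ?_⟩
    intro j hj
    rcases Finset.mem_insert.1 hj with rfl | hj
    · rw [ht]
      exact hP _ _ _ _ _ h₂
    · exact hP _ _ _ _ _ (h₁ j hj)

theorem map_comp_app (D : I ⥤ Sh J) {i j k : I} (u : i ⟶ j) (v : j ⟶ k) (U : Cᵒᵖ)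
    (x : (D.obj i).obj.obj U) :
    (D.map (u ≫ v)).hom.app U x = (D.map v).hom.app U ((D.map u).hom.app U x) := by
  rw [D.map_comp]
  rfl

theorem map_id_app (D : I ⥤ Sh J) (i : I) (U : Cᵒᵖ) (x : (D.obj i).obj.obj U) :
    (D.map (𝟙 i)).hom.app U x = x := by
  rw [D.map_id]
  rfl

/-- in a filtered diagram, two related sections become equal further along -/
theorem exists_of_secRel (D : I ⥤ Sh J) {U : C} {p q : Σ k, (D.obj k).obj.obj (op U)}
    (h : SecRel D U p q) :
    ∃ (l : I) (u : p.1 ⟶ l) (v : q.1 ⟶ l),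
      (D.map u).hom.app (op U) p.2 = (D.map v).hom.app (op U) q.2 := by
  induction h with
  | rel p q h =>
    obtain ⟨m, hm⟩ := h
    exact ⟨q.1, m, 𝟙 _, by rw [hm, map_id_app]⟩
  | refl p => exact ⟨p.1, 𝟙 _, 𝟙 _, rfl⟩
  | symm p q _ ih =>
    obtain ⟨l, u, v, h⟩ := ih
    exact ⟨l, v, u, h.symm⟩
  | trans p q r _ _ ih1 ih2 =>
    obtain ⟨l, u, v, h⟩ := ih1
    obtain ⟨l', u', v', h'⟩ := ih2
    obtain ⟨m, t, t', ht⟩ := IsFiltered.span v u'
    refine ⟨m, u ≫ t, v' ≫ t', ?_⟩
    rw [map_comp_app, map_comp_app, h, ← h', ← map_comp_app, ← map_comp_app, ht]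

/-- same, for two sections of the same member -/
theorem exists_of_secRel' (D : I ⥤ Sh J) {U : C} {i : I} {a b : (D.obj i).obj.obj (op U)}
    (h : SecRel D U ⟨i, a⟩ ⟨i, b⟩) :
    ∃ (l : I) (w : i ⟶ l), (D.map w).hom.app (op U) a = (D.map w).hom.app (op U) b := by
  obtain ⟨l, u, v, huv⟩ := exists_of_secRel D h
  refine ⟨IsFiltered.coeq u v, u ≫ IsFiltered.coeqHom u v, ?_⟩
  conv_rhs => rw [IsFiltered.coeq_condition]
  rw [map_comp_app, map_comp_app]
  exact congrArg _ huv

/-- a quasi-compact object: maps to a member of a filtered diagram agreeing in the colimit agree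
further along -/
theorem injAt_of_isQC {X : Sh J} (hX : IsQC X) {D : I ⥤ Sh J} {c : Cocone D}
    (hc : IsColimit c) : InjAt X c := by
  intro i f g hfg
  let ι := Σ (l : I) (_ : i ⟶ l) (V : C), {x : X.obj.obj (op V) //
    (D.map ‹i ⟶ l›).hom.app (op V) (f.hom.app (op V) x) =
      (D.map ‹i ⟶ l›).hom.app (op V) (g.hom.app (op V) x)}
  have hjls : JLS (fun idx : ι => secMap J idx.2.2.2.1) := by
    intro U₀ x₀
    have e0 : (c.ι.app i).hom.app (op U₀) (f.hom.app (op U₀) x₀) =
        (c.ι.app i).hom.app (op U₀) (g.hom.app (op U₀) x₀) :=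
      congrArg (fun φ => φ.hom.app (op U₀) x₀) hfg
    refine J.superset_covering ?_ (secRelSieve_mem hc
      ⟨i, f.hom.app (op U₀) x₀⟩ ⟨i, g.hom.app (op U₀) x₀⟩ e0)
    intro V h hh
    obtain ⟨l, w, hw⟩ := exists_of_secRel' D hh
    refine ⟨⟨l, w, V, X.obj.map h.op x₀, ?_⟩, epsOf J (𝟙 V), secMap_self_epsOf J _⟩
    rw [nat_apply f, nat_apply g]
    exact hw
  obtain ⟨s, hs⟩ := (isQC_iff X).1 hX ι _ _ hjls
  obtain ⟨l, w, hw⟩ := exists_common s i
    (fun idx l w => secMap J idx.2.2.2.1 ≫ f ≫ D.map w = secMap J idx.2.2.2.1 ≫ g ≫ D.map w)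
    (by
      intro idx l w l' t h
      have := h =≫ D.map t
      simpa only [Category.assoc, D.map_comp] using this)
    (by
      rintro ⟨l, w, V, x, hx⟩ -
      refine ⟨l, w, ?_⟩
      rw [← Category.assoc, ← Category.assoc, secMap_comp, secMap_comp, secMap_comp, secMap_comp,
        hx])
  refine ⟨l, w, ?_⟩
  apply hom_ext_of_jls hs
  rintro ⟨idx, hidx⟩
  exact hw idx hidx

end

end Groth.Agent.Lib.Helper27.ToposFP
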