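import Groth.Prelude.Def_SGA4c
import Groth.Agent.Lib.Helper27.ToposFP2
import Mathlib.CategoryTheory.Sites.Limits
import Mathlib.CategoryTheory.Sites.LocallySurjective
import Mathlib.CategoryTheory.Sites.LocallyInjective
import Mathlib.Algebra.Category.Grp.FilteredColimits
import Mathlib.CategoryTheory.Limits.ConcreteCategory.Basic
import Mathlib.CategoryTheory.Sites.Abelian

/-!
# Sections of a filtered colimit of abelian sheaves over a quasi-compact object of the site
-/

set_option autoImplicit false

universe u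

open CategoryTheory CategoryTheory.Limits Opposite

namespace Groth.Agent.Lib.Helper27.ExtFilt

open ToposFin Groth.Agent.Lib.Helper27.ToposFP

variable {C : Type u} [SmallCategory C] {J : GrothendieckTopology C}
variable {I : Type u} [SmallCategory I] [IsFiltered I] (F : I ⥤ Sheaf J AddCommGrpCat.{u})

/-- the diagram of underlying presheaves -/
noncomputable abbrev preDiag : I ⥤ (Cᵒᵖ ⥤ AddCommGrpCat.{u}) :=
  F ⋙ sheafToPresheaf J AddCommGrpCat.{u}

instance (K : I ⥤ AddCommGrpCat.{u}) : PreservesColimit K (forget AddCommGrpCat.{u}) :=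
  (PreservesFilteredColimitsOfSize.preserves_filtered_colimits
    (F := forget AddCommGrpCat.{u}) I).preservesColimit

theorem pre_surj (V : C) (x : (colimit (preDiag F)).obj (op V)) :
    ∃ (i : I) (s : (F.obj i).obj.obj (op V)), (colimit.ι (preDiag F) i).app (op V) s = x := by
  let ev := (evaluation Cᵒᵖ AddCommGrpCat.{u}).obj (op V)
  have hev : IsColimit (ev.mapCocone (colimit.cocone (preDiag F))) :=
    isColimitOfPreserves ev (colimit.isColimit _)
  obtain ⟨i, s, hs⟩ := Concrete.isColimit_exists_rep _ hev x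
  exact ⟨i, s, hs⟩

theorem map_comp_apply (F : I ⥤ Sheaf J AddCommGrpCat.{u}) {i j k : I} (f : i ⟶ j) (g : j ⟶ k)
    (V : Cᵒᵖ) (s : (F.obj i).obj.obj V) :
    (F.map (f ≫ g)).hom.app V s = (F.map g).hom.app V ((F.map f).hom.app V s) := by
  rw [F.map_comp]
  rfl

theorem pre_inj (V : C) (i : I) (s : (F.obj i).obj.obj (op V))
    (h : (colimit.ι (preDiag F) i).app (op V) s = 0) :
    ∃ (j : I) (u : i ⟶ j), (F.map u).hom.app (op V) s = 0 := by
  let ev := (evaluation Cᵒᵖ AddCommGrpCat.{u}).obj (op V)
  have hev : IsColimit (ev.mapCocone (colimit.cocone (preDiag F))) :=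
    isColimitOfPreserves ev (colimit.isColimit _)
  have h' : (ev.mapCocone (colimit.cocone (preDiag F))).ι.app i s =
      (ev.mapCocone (colimit.cocone (preDiag F))).ι.app i (0 : (F.obj i).obj.obj (op V)) := by
    rw [map_zero]
    exact h
  obtain ⟨k, f, g, hfg⟩ := Concrete.isColimit_exists_of_rep_eq _ hev _ _ h'
  refine ⟨k, f, ?_⟩
  have h0 : (preDiag F ⋙ ev).map g (0 : (F.obj i).obj.obj (op V)) = 0 := map_zero _
  rw [h0] at hfg
  exact hfg

end Groth.Agent.Lib.Helper27.ExtFilt
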