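import Groth.Agent.Lib.Helper27.ExtFiltSec
import Groth.Agent.Lib.Helper27.ToposFP3

/-!
# Sections of a filtered colimit of abelian sheaves over a quasi-compact object of the site, II
-/

set_option autoImplicit false

universe u

open CategoryTheory CategoryTheory.Limits Opposite

namespace Groth.Agent.Lib.Helper27.ExtFilt

open ToposFin Groth.Agent.Lib.Helper27.ToposFP

variable {C : Type u} [SmallCategory C] {J : GrothendieckTopology C}

section Sheaf

variable (G : Sheaf J AddCommGrpCat.{u})

theorem isSheaf_forget : Presieve.IsSheaf J (G.obj ⋙ forget AddCommGrpCat.{u}) :=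
  (isSheaf_iff_isSheaf_of_type _ _).1
    ((Presheaf.isSheaf_iff_isSheaf_forget J G.obj (forget AddCommGrpCat.{u})).1 G.property)

theorem sheaf_sep {U : C} {S : Sieve U} (hS : S ∈ J U) (x y : G.obj.obj (op U))
    (h : ∀ ⦃V : C⦄ (f : V ⟶ U), S f → G.obj.map f.op x = G.obj.map f.op y) : x = y :=
  (isSheaf_forget G S hS).isSeparatedFor.ext (fun _ f hf => h f hf)

theorem sheaf_glue {U : C} {n : ℕ} (V : Fin n → C) (g : ∀ k, V k ⟶ U)
    (hcov : Sieve.ofArrows V g ∈ J U) (x : ∀ k, G.obj.obj (op (V k)))
    (hx : ∀ (k k' : Fin n) (W : C) (a : W ⟶ V k) (b : W ⟶ V k'), a ≫ g k = b ≫ g k' →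
      G.obj.map a.op (x k) = G.obj.map b.op (x k')) :
    ∃ t : G.obj.obj (op U), ∀ k, G.obj.map (g k).op t = x k := by
  have h1 : Presieve.IsSheafFor (G.obj ⋙ forget AddCommGrpCat.{u}) (Presieve.ofArrows V g) :=
    (Presieve.isSheafFor_iff_generate _).2 (isSheaf_forget G _ hcov)
  obtain ⟨t, ht, -⟩ := (Presieve.isSheafFor_arrows_iff _ _).1 h1 x
    (fun k k' W a b hab => hx k k' W a b hab)
  exact ⟨t, ht⟩

end Sheaf

variable {I : Type u} [SmallCategory I] [IsFiltered I] (F : I ⥤ Sheaf J AddCommGrpCat.{u})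

/-- the standard colimit cocone: the sheafification of the colimit of presheaves -/
noncomputable abbrev stdCocone : Cocone F :=
  Sheaf.sheafifyCocone (colimit.cocone (preDiag F))

/-- the standard cocone is a colimit -/
noncomputable def stdIsColimit : IsColimit (stdCocone F) :=
  Sheaf.isColimitSheafifyCocone _ (colimit.isColimit _)

theorem std_ι_app (i : I) (V : C) (s : (F.obj i).obj.obj (op V)) :
    ((stdCocone F).ι.app i).hom.app (op V) s =
      (toSheafify J (colimit (preDiag F))).app (op V)
        ((colimit.ι (preDiag F) i).app (op V) s) := by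
  have := Sheaf.sheafifyCocone_ι_app_val (colimit.cocone (preDiag F)) i
  change ((Sheaf.sheafifyCocone (colimit.cocone (preDiag F))).ι.app i).hom.app (op V) s = _
  rw [this]
  rfl

theorem nat_app {A B : Sheaf J AddCommGrpCat.{u}} (φ : A ⟶ B) {U V : C} (h : V ⟶ U)
    (a : A.obj.obj (op U)) :
    φ.hom.app (op V) (A.obj.map h.op a) = B.obj.map h.op (φ.hom.app (op U) a) :=
  NatTrans.naturality_apply φ.hom h.op a

theorem map_comp_app' (A : Sheaf J AddCommGrpCat.{u}) {U V W : C} (h : V ⟶ U) (k : W ⟶ V)
    (a : A.obj.obj (op U)) :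
    A.obj.map (k ≫ h).op a = A.obj.map k.op (A.obj.map h.op a) := by
  rw [op_comp, A.obj.map_comp]
  rfl

theorem cocone_w_app {c : Cocone F} {i j : I} (u : i ⟶ j) (V : Cᵒᵖ) (s : (F.obj i).obj.obj V) :
    (c.ι.app j).hom.app V ((F.map u).hom.app V s) = (c.ι.app i).hom.app V s := by
  have := c.w u
  rw [← this]
  rfl

/-- a section of a member of the diagram over a quasi-compact object which dies in the
standard colimit dies further along the diagram -/
theorem std_sections_inj {U : C} (hU : IsQCSite J U) (i : I) (s : (F.obj i).obj.obj (op U))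
    (h : ((stdCocone F).ι.app i).hom.app (op U) s = 0) :
    ∃ (j : I) (u : i ⟶ j), (F.map u).hom.app (op U) s = 0 := by
  rw [std_ι_app] at h
  have h2 : (toSheafify J (colimit (preDiag F))).app (op U)
      ((colimit.ι (preDiag F) i).app (op U) s) =
      (toSheafify J (colimit (preDiag F))).app (op U) 0 := by
    rw [h]
    exact (map_zero _).symm
  have h3 := Presheaf.equalizerSieve_mem J (toSheafify J (colimit (preDiag F))) (X := op U)
    _ _ h2
  obtain ⟨n, V, g, hT, hcov⟩ := hU _ h3
  have hk : ∀ k : Fin n, ∃ (l : I) (w : i ⟶ l),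
      (F.map w).hom.app (op (V k)) ((F.obj i).obj.map (g k).op s) = 0 := by
    intro k
    have e1 : (colimit (preDiag F)).map (g k).op ((colimit.ι (preDiag F) i).app (op U) s) =
        (colimit (preDiag F)).map (g k).op 0 := hT k
    rw [map_zero] at e1
    have e2 : (colimit (preDiag F)).map (g k).op ((colimit.ι (preDiag F) i).app (op U) s) =
        (colimit.ι (preDiag F) i).app (op (V k)) ((F.obj i).obj.map (g k).op s) :=
      (NatTrans.naturality_apply (colimit.ι (preDiag F) i) (g k).op s).symm
    rw [e2] at e1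
    exact pre_inj F (V k) i _ e1
  obtain ⟨j, u, hu⟩ := exists_common (Finset.univ : Finset (Fin n)) i
    (fun k l w => (F.map w).hom.app (op (V k)) ((F.obj i).obj.map (g k).op s) = 0)
    (by
      intro k l w l' t hh
      rw [map_comp_apply, hh, map_zero])
    (fun k _ => hk k)
  refine ⟨j, u, ?_⟩
  apply sheaf_sep (F.obj j) hcov
  intro W f hf
  obtain ⟨Y, a, _, ⟨k⟩, rfl⟩ := hf
  rw [map_comp_app', map_comp_app', ← nat_app, hu k (Finset.mem_univ k), map_zero, map_zero,
    map_zero]

end Groth.Agent.Lib.Helper27.ExtFilt
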