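import Groth.Agent.Lib.Helper27.ExtFiltSec2

/-!
# Sections of a filtered colimit of abelian sheaves over a quasi-compact object of the site, III
-/

set_option autoImplicit false

universe u

open CategoryTheory CategoryTheory.Limits Opposite

namespace Groth.Agent.Lib.Helper27.ExtFilt

open ToposFin Groth.Agent.Lib.Helper27.ToposFP

variable {C : Type u} [SmallCategory C] {J : GrothendieckTopology C}

/-- every covering sieve of `U` contains a finite covering family whose members have
quasi-compact pairwise fibre products -/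
def IsQCQSSite (J : GrothendieckTopology C) (U : C) : Prop :=
  ∀ T ∈ J U, ∃ (n : ℕ) (V : Fin n → C) (g : ∀ k, V k ⟶ U), (∀ k, T (g k)) ∧
    Sieve.ofArrows V g ∈ J U ∧
    ∀ k k', ∃ (W : C) (p₁ : W ⟶ V k) (p₂ : W ⟶ V k'), IsPullback p₁ p₂ (g k) (g k') ∧ IsQCSite J W

theorem IsQCQSSite.isQCSite {U : C} (h : IsQCQSSite J U) : IsQCSite J U := by
  intro T hT
  obtain ⟨n, V, g, h1, h2, -⟩ := h T hT
  exact ⟨n, V, g, h1, h2⟩

variable {I : Type u} [SmallCategory I] [IsFiltered I] (F : I ⥤ Sheaf J AddCommGrpCat.{u})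

omit [IsFiltered I] in
theorem cocone_nat_app {c : Cocone F} (i : I) {U V : C} (h : V ⟶ U)
    (a : (F.obj i).obj.obj (op U)) :
    (c.ι.app i).hom.app (op V) ((F.obj i).obj.map h.op a) =
      c.pt.obj.map h.op ((c.ι.app i).hom.app (op U) a) :=
  nat_app (c.ι.app i) h a

/-- every section of the standard colimit over a quasi-compact quasi-separated object comes
from a member of the diagram -/
theorem std_sections_surj {U : C} (hU : IsQCQSSite J U) (t : (stdCocone F).pt.obj.obj (op U)) :
    ∃ (i : I) (s : (F.obj i).obj.obj (op U)), ((stdCocone F).ι.app i).hom.app (op U) s = t := by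
  classical
  have h3 := Presheaf.imageSieve_mem J (toSheafify J (colimit (preDiag F))) (U := op U) t
  obtain ⟨n, V, g, hT, hcov, hW⟩ := hU _ h3
  -- local representatives
  have hk : ∀ k : Fin n, ∃ (i : I) (s : (F.obj i).obj.obj (op (V k))),
      ((stdCocone F).ι.app i).hom.app (op (V k)) s = (stdCocone F).pt.obj.map (g k).op t := by
    intro k
    obtain ⟨p, hp⟩ := hT k
    obtain ⟨i, s, rfl⟩ := pre_surj F (V k) p
    exact ⟨i, s, (std_ι_app F i (V k) s).trans hp⟩
  choose ik sk hsk using hk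
  obtain ⟨i₀, hi₀⟩ := exists_common_obj ik
  let a : ∀ k, ik k ⟶ i₀ := fun k => (hi₀ k).some
  obtain ⟨s', hs'⟩ : ∃ s' : ∀ k, (F.obj i₀).obj.obj (op (V k)), ∀ k,
      ((stdCocone F).ι.app i₀).hom.app (op (V k)) (s' k) =
        (stdCocone F).pt.obj.map (g k).op t := by
    refine ⟨fun k => (F.map (a k)).hom.app (op (V k)) (sk k), fun k => ?_⟩
    rw [cocone_w_app]
    exact hsk k
  -- the overlaps
  choose W p₁ p₂ hpb hWqc using hW
  have hov : ∀ kk : Fin n × Fin n, ∃ (l : I) (w : i₀ ⟶ l),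
      (F.map w).hom.app (op (W kk.1 kk.2)) ((F.obj i₀).obj.map (p₁ kk.1 kk.2).op (s' kk.1) -
        (F.obj i₀).obj.map (p₂ kk.1 kk.2).op (s' kk.2)) = 0 := by
    rintro ⟨k, k'⟩
    apply std_sections_inj F (hWqc k k')
    rw [map_sub, cocone_nat_app, cocone_nat_app, hs', hs', ← map_comp_app', ← map_comp_app',
      (hpb k k').w, sub_self]
  obtain ⟨j, u, hu⟩ := exists_common (Finset.univ : Finset (Fin n × Fin n)) i₀
    (fun kk l w => (F.map w).hom.app (op (W kk.1 kk.2))
      ((F.obj i₀).obj.map (p₁ kk.1 kk.2).op (s' kk.1) -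
        (F.obj i₀).obj.map (p₂ kk.1 kk.2).op (s' kk.2)) = 0)
    (by
      intro kk l w l' t' hh
      rw [map_comp_apply, hh, map_zero])
    (fun kk _ => hov kk)
  -- glue
  let x : ∀ k, (F.obj j).obj.obj (op (V k)) := fun k => (F.map u).hom.app (op (V k)) (s' k)
  have hx : ∀ (k k' : Fin n) (W' : C) (b : W' ⟶ V k) (b' : W' ⟶ V k'), b ≫ g k = b' ≫ g k' →
      (F.obj j).obj.map b.op (x k) = (F.obj j).obj.map b'.op (x k') := by
    intro k k' W' b b' hbb
    have h0 := hu (k, k') (Finset.mem_univ _)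
    simp only at h0
    rw [map_sub, nat_app, nat_app, sub_eq_zero] at h0
    have e1 : b = (hpb k k').lift b b' hbb ≫ p₁ k k' := ((hpb k k').lift_fst _ _ _).symm
    have e2 : b' = (hpb k k').lift b b' hbb ≫ p₂ k k' := ((hpb k k').lift_snd _ _ _).symm
    rw [e1, map_comp_app']
    conv_rhs => rw [e2, map_comp_app']
    exact congrArg _ h0
  obtain ⟨s, hs⟩ := sheaf_glue (F.obj j) V g hcov x hx
  refine ⟨j, s, ?_⟩
  apply sheaf_sep (stdCocone F).pt hcov
  intro W' f hf
  obtain ⟨Y, b, _, ⟨k⟩, rfl⟩ := hf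
  rw [map_comp_app', map_comp_app', ← cocone_nat_app, hs k, ← hs' k]
  exact congrArg _ (cocone_w_app F u (op (V k)) (s' k))

section General

variable {F}
variable {c : Cocone F} (hc : IsColimit c)

include hc

theorem sections_inj {U : C} (hU : IsQCSite J U) (i : I) (s : (F.obj i).obj.obj (op U))
    (h : (c.ι.app i).hom.app (op U) s = 0) :
    ∃ (j : I) (u : i ⟶ j), (F.map u).hom.app (op U) s = 0 := by
  let e := hc.coconePointUniqueUpToIso (stdIsColimit F)
  have he : ∀ k, c.ι.app k ≫ e.hom = (stdCocone F).ι.app k := fun k =>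
    hc.comp_coconePointUniqueUpToIso_hom (stdIsColimit F) k
  apply std_sections_inj F hU i s
  rw [← he]
  change e.hom.hom.app (op U) ((c.ι.app i).hom.app (op U) s) = 0
  rw [h, map_zero]

theorem sections_surj {U : C} (hU : IsQCQSSite J U) (t : c.pt.obj.obj (op U)) :
    ∃ (i : I) (s : (F.obj i).obj.obj (op U)), (c.ι.app i).hom.app (op U) s = t := by
  let e := hc.coconePointUniqueUpToIso (stdIsColimit F)
  have he : ∀ k, c.ι.app k ≫ e.hom = (stdCocone F).ι.app k := fun k =>
    hc.comp_coconePointUniqueUpToIso_hom (stdIsColimit F) k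
  obtain ⟨i, s, hs⟩ := std_sections_surj F hU (e.hom.hom.app (op U) t)
  refine ⟨i, s, ?_⟩
  rw [← he] at hs
  have hs' : e.hom.hom.app (op U) ((c.ι.app i).hom.app (op U) s) = e.hom.hom.app (op U) t := hs
  have := congrArg (fun z => e.inv.hom.app (op U) z) hs'
  simp only at this
  have hid : ∀ z : c.pt.obj.obj (op U), e.inv.hom.app (op U) (e.hom.hom.app (op U) z) = z := by
    intro z
    have h1 : e.hom ≫ e.inv = 𝟙 _ := e.hom_inv_id
    have h2 := congrArg (fun φ => φ.hom.app (op U) z) h1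
    exact h2
  rw [hid, hid] at this
  exact this

end General

end Groth.Agent.Lib.Helper27.ExtFilt
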