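import Groth.Agent.Lib.Helper27.ExtFiltSec3
import Groth.Agent.Lib.Helper27.ExtFilt3
import Groth.Agent.Lib.Helper6.SheafCoh

/-!
# `Hom` out of the free abelian sheaf on a quasi-compact quasi-separated object of the site
commutes with filtered colimits
-/

set_option autoImplicit false

universe w u

open CategoryTheory CategoryTheory.Limits Opposite Abelian

namespace Groth.Agent.Lib.Helper27.ExtFilt

open ToposFin Groth.Agent.Lib.Helper6.SheafCoh

variable {C : Type u} [SmallCategory C] {J : GrothendieckTopology C}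
variable [HasExt.{w} (Sheaf J AddCommGrpCat.{u})]
variable {I : Type u} [SmallCategory I] [IsFiltered I]

theorem surjExt_zero {U : C} (hU : IsQCQSSite J U) (F : I ⥤ Sheaf J AddCommGrpCat.{u}) :
    SurjExt (Zfree J U) 0 F := by
  intro y
  obtain ⟨ψ, rfl⟩ := Ext.addEquiv₀.symm.surjective y
  obtain ⟨i, s, hs⟩ := sections_surj (colimit.isColimit F) hU (homEquiv J U _ ψ)
  refine ⟨i, Ext.mk₀ ((homEquiv J U (F.obj i)).symm s), ?_⟩
  rw [Ext.mk₀_comp_mk₀]
  change Ext.mk₀ _ = Ext.mk₀ ψ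
  congr 1
  apply (homEquiv J U _).injective
  rw [homEquiv_naturality_right, Equiv.apply_symm_apply]
  exact hs

theorem injExt_zero {U : C} (hU : IsQCSite J U) (F : I ⥤ Sheaf J AddCommGrpCat.{u}) :
    InjExt (Zfree J U) 0 F := by
  intro i x hx
  obtain ⟨φ, rfl⟩ := Ext.addEquiv₀.symm.surjective x
  change (Ext.mk₀ φ).comp (Ext.mk₀ (colimit.ι F i)) (add_zero 0) = 0 at hx
  rw [Ext.mk₀_comp_mk₀, ← Ext.mk₀_zero] at hx
  have h1 : φ ≫ colimit.ι F i = 0 := (Ext.mk₀_bijective _ _).1 hx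
  have h2 : (colimit.ι F i).hom.app (op U) (homEquiv J U _ φ) = 0 := by
    rw [← homEquiv_naturality_right, h1]
    exact (homAddEquiv J U _).map_zero
  obtain ⟨j, u, hu⟩ := sections_inj (colimit.isColimit F) hU i _ h2
  refine ⟨j, u, ?_⟩
  change (Ext.mk₀ φ).comp (Ext.mk₀ (F.map u)) (add_zero 0) = 0
  rw [Ext.mk₀_comp_mk₀, ← Ext.mk₀_zero]
  congr 1
  apply (homEquiv J U _).injective
  rw [homEquiv_naturality_right, hu]
  exact ((homAddEquiv J U _).map_zero).symm

end Groth.Agent.Lib.Helper27.ExtFilt
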