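import Groth.Agent.Lib.Helper27.ExtFiltMain
import Groth.Prelude.Def_CohTop
import Mathlib.Topology.Spectral.Prespectral
import Mathlib.Topology.QuasiSeparated
import Mathlib.CategoryTheory.Limits.Lattice

/-!
# Cohomology over compact opens of a prespectral quasi-separated space commutes with filtered
colimits
-/

set_option autoImplicit false

universe u

open CategoryTheory CategoryTheory.Limits Opposite TopologicalSpace

namespace Groth.Agent.Lib.Helper27.ExtFilt

section Top

variable {X : TopCat.{u}}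

/-- finite nonempty intersections of compact opens in a quasi-separated space are compact -/
theorem isCompact_biInter_finset [QuasiSeparatedSpace X] {κ : Type*} (f : κ → Opens X)
    (hf : ∀ k, IsCompact (f k : Set X)) (s : Finset κ) (hs : s.Nonempty) :
    IsCompact (⋂ k ∈ s, (f k : Set X)) := by
  classical
  induction hs using Finset.Nonempty.cons_induction with
  | singleton a => simpa using hf a
  | cons a s h hs ih =>
    rw [Finset.cons_eq_insert, Finset.set_biInter_insert]
    exact QuasiSeparatedSpace.inter_isCompact _ _ (f a).2 (hf a)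
      (isOpen_biInter_finset (fun k _ => (f k).2)) ih

/-- the covering families: finite families of compact opens covering a compact open -/
def TopCov (X : TopCat.{u}) (U : Opens X) (ι : Type u) (Y : ι → Over U) : Prop :=
  Finite ι ∧ IsCompact (U : Set X) ∧ (∀ i, IsCompact ((Y i).left : Set X)) ∧
    (U : Set X) ⊆ ⋃ i, ((Y i).left : Set X)

theorem topCov_h1 [QuasiSeparatedSpace X] (U : Opens X) (ι : Type u) (Y : ι → Over U)
    (h : TopCov X U ι Y) : Finite ι ∧ U ∈ {U : Opens X | IsCompact (U : Set X)} ∧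
      Sieve.ofArrows (fun i => (Y i).left) (fun i => (Y i).hom) ∈
        Opens.grothendieckTopology X U ∧
      ∀ (p : ℕ) (a : Fin (p + 1) → ι),
        (∏ᶜ fun k => Y (a k)).left ∈ {U : Opens X | IsCompact (U : Set X)} := by
  obtain ⟨hfin, hU, hY, hcov⟩ := h
  refine ⟨hfin, hU, ?_, ?_⟩
  · intro x hx
    obtain ⟨i, hi⟩ := Set.mem_iUnion.1 (hcov hx)
    exact ⟨(Y i).left, (Y i).hom, Sieve.ofArrows_mk _ _ i, hi⟩
  · intro p a
    have hset : (((∏ᶜ fun k => Y (a k)).left : Opens X) : Set X) =
        ⋂ k ∈ (Finset.univ : Finset (Fin (p + 1))), ((Y (a k)).left : Set X) := by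
      apply Set.Subset.antisymm
      · intro x hx
        simp only [Finset.mem_univ, Set.iInter_true, Set.mem_iInter]
        intro k
        exact (Pi.π (fun k => Y (a k)) k).left.le hx
      · intro x hx
        simp only [Finset.mem_univ, Set.iInter_true, Set.mem_iInter] at hx
        let V : Opens X := ⟨⋂ k : Fin (p + 1), ((Y (a k)).left : Set X),
          isOpen_iInter_of_finite (fun k => (Y (a k)).left.2)⟩
        have hVk : ∀ k, V ≤ (Y (a k)).left := fun k y hy => Set.mem_iInter.1 hy k
        have hVU : V ≤ U := (hVk 0).trans (Y (a 0)).hom.le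
        let φ : Over.mk (homOfLE hVU) ⟶ ∏ᶜ fun k => Y (a k) :=
          Pi.lift (fun k => Over.homMk (homOfLE (hVk k)) (Subsingleton.elim _ _))
        exact φ.left.le (Set.mem_iInter.2 hx)
    change IsCompact (((∏ᶜ fun k => Y (a k)).left : Opens X) : Set X)
    rw [hset]
    exact isCompact_biInter_finset (fun k => (Y (a k)).left) (fun k => hY (a k)) _
      Finset.univ_nonempty

theorem topCov_h2 [PrespectralSpace X] (U : Opens X)
    (hU : U ∈ {U : Opens X | IsCompact (U : Set X)})
    (T : Sieve U) (hT : T ∈ Opens.grothendieckTopology X U) :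
    ∃ (ι : Type u) (Y : ι → Over U), TopCov X U ι Y ∧ ∀ i, T.arrows (Y i).hom := by
  classical
  have hU' : IsCompact (U : Set X) := hU
  -- for every point of `U` a compact open neighbourhood in the sieve
  have hx : ∀ x : U, ∃ W : Opens X, IsCompact (W : Set X) ∧ (x : X) ∈ W ∧
      ∃ hW : W ≤ U, T (homOfLE hW) := by
    intro x
    obtain ⟨V, f, hf, hxV⟩ := hT x.1 x.2
    obtain ⟨W, ⟨hWo, hWc⟩, hxW, hWV⟩ :=
      (PrespectralSpace.isTopologicalBasis (X := X)).exists_subset_of_mem_open hxV V.2
    have hsub : (⟨W, hWo⟩ : Opens X) ≤ V := hWV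
    refine ⟨⟨W, hWo⟩, hWc, hxW, hsub.trans f.le, ?_⟩
    have e : homOfLE (hsub.trans f.le) = homOfLE hsub ≫ f := Subsingleton.elim _ _
    rw [e]
    exact T.downward_closed hf _
  choose W hWc hxW hWU hWT using hx
  obtain ⟨t, ht⟩ := hU'.elim_finite_subcover (fun x : U => (W x : Set X)) (fun x => (W x).2)
    (fun y hy => Set.mem_iUnion.2 ⟨⟨y, hy⟩, hxW ⟨y, hy⟩⟩)
  refine ⟨{x : U // x ∈ t}, fun x => Over.mk (homOfLE (hWU x.1)), ⟨inferInstance, hU',
    fun x => hWc x.1, ?_⟩, fun x => hWT x.1⟩
  intro y hy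
  obtain ⟨x, hx⟩ := Set.mem_iUnion.1 (ht hy)
  obtain ⟨hxt, hyx⟩ := Set.mem_iUnion.1 hx
  exact Set.mem_iUnion.2 ⟨⟨x, hxt⟩, hyx⟩

end Top

end Groth.Agent.Lib.Helper27.ExtFilt
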