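/-
# Fully faithful functors from algebraic stacks to the spectrum of a field; field points of residual gerbes (helper27)
-/
import Groth.Agent.Lib.Helper27.GerbLoc
import Groth.Agent.Lib.Helper27.SliceYoneda
import Groth.Agent.Lib.Helper27.LocQTriple
import Groth.Agent.Lib.Helper27.RepCancel2
import Groth.Agent.Lib.Helper27.SmLocPSmooth
import Groth.Agent.Lib.Helper27.StPointsTop
import Groth.Agent.Lib.Helper3.SmoothEt6
import Groth.Agent.Lib.Helper27.AlgStackFp
import Groth.Agent.Lib.Helper27.QcStack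
import Groth.Agent.Lib.Helper27.DescentKit
import Mathlib.AlgebraicGeometry.Morphisms.LocalFlatDescent

set_option autoImplicit false
set_option backward.isDefEq.respectTransparency false
set_option backward.isDefEq.respectTransparency.types false

universe v₂ u₂ v₃ u₃ v₄ u₄ v u

open CategoryTheory CategoryTheory.Limits AlgebraicGeometry Opposite FibCat MorphismProperty
  Groth.Agent.Lib.Helper27.FpKit

namespace Groth.Agent.Lib.Helper27.FFField

section Site

variable {C : Type u} [Category.{v} C]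
  {𝒳 : BasedCategory.{v₂, u₂} C} {𝒴 : BasedCategory.{v₃, u₃} C} {𝒮 : BasedCategory.{v₄, u₄} C}

/-- The base change of a faithful functor is faithful. -/
theorem faithful_fpFst (F : 𝒳 ⥤ᵇ 𝒮) (G : 𝒴 ⥤ᵇ 𝒮) [G.toFunctor.Faithful] :
    (fpFst F G).toFunctor.Faithful := by
  constructor
  intro t t' Φ Ψ h
  have h1 : Φ.hom.fst = Ψ.hom.fst := h
  apply Groth.Agent.Lib.Helper27.StackFp.hom_ext' h1
  apply G.toFunctor.map_injective
  have hΦ := hom_w Φ
  have hΨ := hom_w Ψ
  rw [h1] at hΦ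
  exact (cancel_epi t.obj.iso.hom).1 (hΦ.symm.trans hΨ)

/-- The base change of a fully faithful functor is full. -/
theorem full_fpFst (F : 𝒳 ⥤ᵇ 𝒮) (G : 𝒴 ⥤ᵇ 𝒮) [G.toFunctor.Full] :
    (fpFst F G).toFunctor.Full := by
  constructor
  intro t t' α
  obtain ⟨α', hα'⟩ : ∃ α' : t.obj.fst ⟶ t'.obj.fst, α' = α := ⟨α, rfl⟩
  obtain ⟨β, hβ⟩ := G.toFunctor.map_surjective
    (t.obj.iso.inv ≫ F.toFunctor.map α' ≫ t'.obj.iso.hom)
  have hw : F.toFunctor.map α' ≫ t'.obj.iso.hom = t.obj.iso.hom ≫ G.toFunctor.map β := by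
    rw [hβ, Iso.hom_inv_id_assoc]
  refine ⟨mkHom α' β hw, ?_⟩
  exact hα'

end Site

section Scheme

/-- A morphism of schemes to the spectrum of a field whose base change along itself is smooth, is
smooth. -/
theorem smooth_of_isPullback_self {k : Type u} [Field k] {U R : Scheme.{u}}
    (φ₀ : U ⟶ Spec (CommRingCat.of k)) (a b : R ⟶ U) (sq : IsPullback a b φ₀ φ₀) [Smooth b]
    (u₀ : ↥U) : Smooth φ₀ := by
  let j := U.affineCover.f (U.affineCover.idx u₀)
  obtain ⟨x₀, hx₀⟩ := U.affineCover.covers u₀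
  have hsurj : Surjective (j ≫ φ₀) := ⟨fun y => ⟨x₀, Subsingleton.elim _ _⟩⟩
  have hflat : Flat (j ≫ φ₀) := inferInstance
  have hqc : QuasiCompact (j ≫ φ₀) := inferInstance
  have sq1 := (IsPullback.of_hasPullback b j).flip
  have pasted := sq1.paste_vert sq.flip
  have hp₂ : Smooth (pullback.snd b j) := inferInstance
  exact of_isPullback_of_descendsAlong (P := @Smooth)
    (Q := @Surjective ⊓ @Flat ⊓ @QuasiCompact) pasted ⟨⟨hsurj, hflat⟩, hqc⟩ hp₂

end Scheme

section Main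

variable {S : Scheme.{u}}

open Groth.Agent.Lib.Helper27.StPoints Groth.Agent.Lib.Helper27.LocQChart
  Groth.Agent.Lib.Helper27.SliceYoneda Groth.Agent.Lib.Helper27.ReprAux

/-- An algebraic stack with a point and a fully faithful functor to the spectrum of a field has a
smooth surjective chart which is smooth over the field. -/
theorem exists_smooth_chart_of_ff {𝒯 : AlgSt.Cat S}
    (h𝒯 : AlgSt.IsAlgStack Scheme.fppfPrecoverage 𝒯) (K : Type u) [Field K]
    (a : Spec (CommRingCat.of K) ⟶ S) (π : 𝒯 ⥤ᵇ overCat (Over.mk a))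
    (hπ₁ : π.toFunctor.Full) (hπ₂ : π.toFunctor.Faithful) (hne : Nonempty (AlgSt.Points 𝒯)) :
    ∃ (U : Over S) (u : overCat U ⥤ᵇ 𝒯) (h : U ⟶ Over.mk a), Smooth h.left ∧
      Function.Surjective h.left ∧
      Nonempty (BasedFunctor.comp u π ≅ AlgSt.overMap h) := by
  obtain ⟨U, u, hu₁, hu₂⟩ := h𝒯.atlas
  have hgU : FibCat.IsFibGrpd (overCat U).p := isFibGrpd_overCat U
  obtain ⟨c, hc⟩ : ∃ c : overCat U ⥤ᵇ overCat (Over.mk a), c = BasedFunctor.comp u π := ⟨_, rfl⟩
  obtain ⟨h, hh⟩ : ∃ h : U ⟶ Over.mk a, h = homOf c := ⟨_, rfl⟩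
  have κ : BasedFunctor.comp u π ≅ AlgSt.overMap h := by
    rw [hh, ← hc]
    exact isoOverMap c
  -- a point of `U`
  obtain ⟨τ⟩ := hne
  have hS : AlgSt.IsSurjective u := isSurjective_of_rep hgU h𝒯.isStack.1 u hu₂
  obtain ⟨w, -⟩ := hS τ
  obtain ⟨u₀, -⟩ := (ptOf_bijective U).2 w
  refine ⟨U, u, h, ?_, ?_, ⟨κ⟩⟩
  swap
  · intro y
    have : Subsingleton (Over.mk a).left := inferInstanceAs (Subsingleton (PrimeSpectrum K))
    exact ⟨u₀, Subsingleton.elim _ _⟩
  -- the presentation of the self fibre product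
  have h₀ := hu₁ U u
  let D : MapData (AlgSt.overMap h) (AlgSt.overMap h) u u (BasedFunctor.id _) (BasedFunctor.id _) π :=
    { e₁ := fun x' => ((BasedNatTrans.forgetful _ _).mapIso κ).app x'
      n₁ := fun α => κ.hom.toNatTrans.naturality α
      l₁ := fun x' => Vert.app κ.hom x'
      e₂ := fun x' => ((BasedNatTrans.forgetful _ _).mapIso κ).app x'
      n₂ := fun α => κ.hom.toNatTrans.naturality α
      l₂ := fun x' => Vert.app κ.hom x' }
  have hE₁ : IsEquivOver (fpMap D) := by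
    have i1 := full_of_equiv _ (isEquivOver_id (overCat U))
    have i2 := faithful_of_equiv _ (isEquivOver_id (overCat U))
    exact isEquivOver_of_ess (fpMap D) (fpMap_full D) (fpMap_faithful D)
      (fpMap_ess D (ess_of_equiv _ (isEquivOver_id _)) (ess_of_equiv _ (isEquivOver_id _)))
  have h₁ := Groth.Agent.Lib.Helper27.RepWithKit.transport (AlgSp.LocP @Smooth) (fpMap D) hE₁
    (fpFst u u) (fpFst (AlgSt.overMap h) (AlgSt.overMap h))
    (fun t => ⟨Iso.refl _, Vert.id _⟩) h₀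
  have hterm : IsTerm (fp (AlgSt.overMap h) (AlgSt.overMap h)) (term h h) := isTerm_term h h
  have hfib : FibCat.IsFibGrpd (fp (AlgSt.overMap h) (AlgSt.overMap h)).p :=
    Groth.Agent.Lib.Helper27.FpFib.isFibGrpd_fp _ _ hgU hgU (isFibGrpd_overCat _)
  have h₂ := Groth.Agent.Lib.Helper27.RepWithKit.transport (AlgSp.LocP @Smooth) (toOver hterm)
    (isEquivOver_toOver hfib hterm) (fpFst (AlgSt.overMap h) (AlgSt.overMap h))
    (AlgSt.overMap (pullback.fst h h))
    (fun t => ⟨Over.isoMk (Iso.refl _) (by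
      have := Over.w (toTerm hterm t).hom.fst
      exact (Category.id_comp _).trans this), vert_of_left _ rfl rfl⟩) h₁
  obtain ⟨F, e, he, hP⟩ := h₂
  have h₃ : AlgSt.RepByAlgSpWith (AlgSp.LocP @Smooth) (AlgSt.overMap (pullback.fst h h)) :=
    Groth.Agent.Lib.Helper27.RepChart.repByAlgSpWith_of_struct _
      Groth.Agent.Lib.Helper27.RepCancel.smooth_baseChange _ F e he hP
  have h₄ : AlgSp.LocP @Smooth ((AlgSp.yon S).map (pullback.fst h h)) := by
    have := Groth.Agent.Lib.Helper27.LocQTriple.prop_yon_homOf _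
      (Groth.Agent.Lib.Helper27.RepWithComp.compHyp_locP Groth.Agent.Lib.Helper3.isEtLocal_smooth)
      _ h₃
    rwa [Groth.Agent.Lib.Helper27.LocQTriple.homOf_overMap] at this
  have h₅ : Smooth (pullback.fst h h).left := AlgSp.locP_yon_map h₄
  have sq : IsPullback (pullback.fst h h).left (pullback.snd h h).left h.left h.left :=
    (IsPullback.of_hasPullback h h).map (Over.forget S)
  exact smooth_of_isPullback_self (k := K) h.left _ _ sq.flip u₀

open Groth.Agent.Lib.Helper27.DescentKit in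
/-- An object which lies locally in a strictly full substack lies in it. -/
theorem mem_of_local {𝒳 : AlgSt.Cat S} (J : GrothendieckTopology (Over S))
    (h𝒳 : Stk.IsStack J 𝒳) (Q : 𝒳.obj → Prop)
    (hQ : ObjectProperty.IsClosedUnderIsomorphisms Q) (hsub : Stk.IsStack J (AlgSt.fullSub 𝒳 Q))
    (y : 𝒳.obj) {T : Over S} (hy : 𝒳.p.obj y = T) (R : Sieve T) (hR : R ∈ J T)
    (h : ∀ ⦃V : Over S⦄ (f : V ⟶ T), R f → ∃ (x : 𝒳.obj) (g : x ⟶ y), Q x ∧ 𝒳.p.IsHomLift f g) :
    Q y := by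
  have i1 : (AlgSt.subIncl 𝒳 Q).toFunctor.Full := inferInstanceAs (ObjectProperty.ι Q).Full
  have i2 : (AlgSt.subIncl 𝒳 Q).toFunctor.Faithful :=
    inferInstanceAs (ObjectProperty.ι Q).Faithful
  have h' : ∀ s : (Stk.sieveCat R).obj, ∃ (x : (AlgSt.fullSub 𝒳 Q).obj)
      (g : (AlgSt.subIncl 𝒳 Q).obj x ⟶ y), 𝒳.p.IsHomLift s.obj.hom g := fun s => by
    obtain ⟨x, g, hx, hg⟩ := h s.obj.hom s.property
    exact ⟨⟨x, hx⟩, g, hg⟩
  choose xs φs hφs using h'
  have hst𝒳 := (isStackFor_iff R h𝒳.1).1 (h𝒳.2 R hR)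
  have hstQ := (isStackFor_iff R hsub.1).1 (hsub.2 R hR)
  obtain ⟨x, e, -⟩ := Groth.Agent.Lib.Helper27.StackEquiv.exists_iso_of_local hsub.1 h𝒳.1
    (AlgSt.subIncl 𝒳 Q) R y hy xs φs hφs hstQ.2.2 hst𝒳.2.1
  exact ObjectProperty.prop_of_iso Q e x.property

/-- If the residual gerbe exists, then every field point in the class of the point lies in it. -/
theorem mem_of_isResGerbe {𝒳 : AlgSt.Cat S} (h𝒳 : AlgSt.IsAlgStack Scheme.fppfPrecoverage 𝒳)
    (x : AlgSt.Points 𝒳) (Q : 𝒳.obj → Prop) (hQ : Gerb.IsResGerbe Scheme.fppfPrecoverage 𝒳 x Q)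
    (K : Type u) [Field K] (a : Spec (CommRingCat.of K) ⟶ S)
    (p : FibCat.overCat (Over.mk a) ⥤ᵇ 𝒳)
    (hp : ∀ t : ↥(Over.mk a).left, AlgSt.Points.ofChart p t = x) (t : Over (Over.mk a)) :
    Q (p.obj t) := by
  obtain ⟨hQiso, hQalg, -, -, hQne, -, hQx⟩ := hQ
  have hgV : FibCat.IsFibGrpd (overCat (Over.mk a)).p := isFibGrpd_overCat _
  have hV : AlgSt.IsAlgStack Scheme.fppfPrecoverage (overCat (Over.mk a)) :=
    Groth.Agent.Lib.Helper27.QcStack.isAlgStack_overCat _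
  have i1 : (AlgSt.subIncl 𝒳 Q).toFunctor.Full := inferInstanceAs (ObjectProperty.ι Q).Full
  have i2 : (AlgSt.subIncl 𝒳 Q).toFunctor.Faithful :=
    inferInstanceAs (ObjectProperty.ι Q).Faithful
  have h𝒯 : AlgSt.IsAlgStack Scheme.fppfPrecoverage (fp p (AlgSt.subIncl 𝒳 Q)) :=
    Groth.Agent.Lib.Helper27.AlgStackFp.isAlgStack_fp p (AlgSt.subIncl 𝒳 Q) h𝒳.isStack h𝒳.diag
      hV hQalg
  have hne : Nonempty (AlgSt.Points (fp p (AlgSt.subIncl 𝒳 Q))) := by
    obtain ⟨ζ⟩ := hQne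
    obtain ⟨pt⟩ : Nonempty (Over.mk a).left := inferInstanceAs (Nonempty (PrimeSpectrum K))
    have h1 : AlgSt.Points.map p (ptOf (Over.mk a) pt) = x := hp pt
    obtain ⟨w, -, -⟩ := exists_points_fp hQalg.isStack.1 h𝒳.isStack.1 hgV (AlgSt.subIncl 𝒳 Q) p
      (ptOf (Over.mk a) pt) ζ (h1.trans (hQx ζ).symm)
    exact ⟨w⟩
  obtain ⟨U, u, h, hsm, hsurj, ⟨κ⟩⟩ := exists_smooth_chart_of_ff h𝒯 K a
    (fpFst p (AlgSt.subIncl 𝒳 Q)) (full_fpFst p _) (faithful_fpFst p _) hne
  -- the restriction of `p` to `U` lies in `Q`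
  have hB : ∀ s : Over U, Q (p.obj ((AlgSt.overMap h).obj s)) := fun s => by
    have e1 : (u.obj s).obj.fst ≅ (AlgSt.overMap h).obj s :=
      ((BasedNatTrans.forgetful _ _).mapIso κ).app s
    have e2 : p.obj (u.obj s).obj.fst ≅ (u.obj s).obj.snd.obj := (u.obj s).obj.iso
    exact ObjectProperty.prop_of_iso Q (e2.symm ≪≫ p.toFunctor.mapIso e1) (u.obj s).obj.snd.property
  have hcov : Sieve.generate (Presieve.singleton h) ∈ AlgSp.J S (Over.mk a) :=
    Groth.Agent.Lib.Helper27.GerbLoc.generate_singleton_mem_J h inferInstance inferInstance hsurj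
  refine mem_of_local (AlgSp.J S) h𝒳.isStack Q hQiso hQalg.isStack (p.obj t) (p.w_obj t)
    (Sieve.pullback t.hom (Sieve.generate (Presieve.singleton h)))
    ((AlgSp.J S).pullback_stable t.hom hcov) ?_
  rintro T' f ⟨W, g, h', ⟨⟩, hg⟩
  have e : (AlgSt.overMap h).obj (Over.mk g) = Over.mk (f ≫ t.hom) := by
    change Over.mk (g ≫ h) = Over.mk (f ≫ t.hom)
    rw [hg]
  let m : Over.mk (f ≫ t.hom) ⟶ t := Over.homMk f rfl
  have hm : (overCat (Over.mk a)).p.IsHomLift f m := by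
    have := IsHomLift.map (overCat (Over.mk a)).p m
    exact this
  refine ⟨p.obj (Over.mk (f ≫ t.hom)), p.toFunctor.map m, ?_, ?_⟩
  · rw [← e]
    exact hB (Over.mk g)
  · exact BasedFunctor.preserves_isHomLift p f m

end Main

end Groth.Agent.Lib.Helper27.FFField
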