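import Groth.Prelude.Def_FibCat2
import Groth.Agent.Lib.Helper27.EquivOverAux
import Groth.Agent.Lib.Helper27.StackFp

/-!
# A category fibred in setoids is equivalent to one fibred in sets (helper27)
-/

set_option autoImplicit false
set_option backward.isDefEq.respectTransparency false
set_option backward.isDefEq.respectTransparency.types false

universe v₄ u₄ v₃ u₃ v₂ u₂ v u

open CategoryTheory Groth.Agent.Lib.Helper27.DescentKit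
  Groth.Agent.Lib.Helper16.FpFibGrpd Groth.Agent.Lib.Helper27.StackFp

namespace Groth.Agent.Lib.Helper27.SetoidToSet

variable {C : Type u} [Category.{v} C] (𝒳 : BasedCategory.{v₂, u₂} C)

open FibCat

/-- Isomorphic over an identity. -/
def rel (x y : 𝒳.obj) : Prop := ∃ φ : x ⟶ y, 𝒳.p.IsHomLift (𝟙 (𝒳.p.obj x)) φ

variable {𝒳}

theorem rel_base {x y : 𝒳.obj} (h : rel 𝒳 x y) : 𝒳.p.obj x = 𝒳.p.obj y := by
  obtain ⟨φ, hφ⟩ := h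
  exact (IsHomLift.codomain_eq 𝒳.p (𝟙 (𝒳.p.obj x)) φ).symm

variable (𝒳) in
theorem rel_refl (x : 𝒳.obj) : rel 𝒳 x x := ⟨𝟙 x, inferInstance⟩

theorem rel_symm (hp : FibCat.IsFibGrpd 𝒳.p) {x y : 𝒳.obj} (h : rel 𝒳 x y) : rel 𝒳 y x := by
  have hb := rel_base h
  obtain ⟨φ, hφ⟩ := h
  haveI : IsIso φ := FG.isIso hp φ hφ
  have h1 : 𝒳.p.IsHomLift (𝟙 (𝒳.p.obj x)) (inv φ) := inferInstance
  exact ⟨inv φ, isHomLift_id_of_eq 𝒳.p hb (inv φ)⟩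

theorem rel_trans {x y z : 𝒳.obj} (h : rel 𝒳 x y) (h' : rel 𝒳 y z) : rel 𝒳 x z := by
  have hb := rel_base h
  obtain ⟨φ, hφ⟩ := h
  obtain ⟨ψ, hψ⟩ := h'
  have h1 : 𝒳.p.IsHomLift (𝟙 (𝒳.p.obj x)) ψ := isHomLift_id_of_eq 𝒳.p hb.symm ψ
  exact ⟨φ ≫ ψ, inferInstance⟩

variable (𝒳) in
/-- The setoid of objects up to isomorphism over an identity. -/
def setoid (hp : FibCat.IsFibGrpd 𝒳.p) : Setoid 𝒳.obj where
  r := rel 𝒳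
  iseqv := ⟨rel_refl 𝒳, rel_symm hp, rel_trans⟩

variable (𝒳) in
/-- Objects up to isomorphism over an identity. -/
def Q (hp : FibCat.IsFibGrpd 𝒳.p) : Type u₂ := Quotient (setoid 𝒳 hp)

variable (hp : FibCat.IsFibGrpd 𝒳.p)

/-- The class of an object. -/
def cls (x : 𝒳.obj) : Q 𝒳 hp := Quotient.mk (setoid 𝒳 hp) x

/-- The base of a class. -/
def pQ (a : Q 𝒳 hp) : C :=
  Quotient.lift (s := setoid 𝒳 hp) (fun x => 𝒳.p.obj x) (fun _ _ h => rel_base h) a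

@[simp] theorem pQ_cls (x : 𝒳.obj) : pQ hp (cls hp x) = 𝒳.p.obj x := rfl

theorem cls_eq_iff {x y : 𝒳.obj} : cls hp x = cls hp y ↔ rel 𝒳 x y :=
  ⟨fun h => Quotient.exact (s := setoid 𝒳 hp) h, fun h => Quotient.sound (s := setoid 𝒳 hp) h⟩

theorem exists_rep (a : Q 𝒳 hp) : ∃ x : 𝒳.obj, cls hp x = a :=
  Quotient.exists_rep (s := setoid 𝒳 hp) a

/-- Morphisms of classes: arrows of the base that lift. -/
@[ext]
structure QHom (a b : Q 𝒳 hp) where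
  base : pQ hp a ⟶ pQ hp b
  ex : ∃ (x y : 𝒳.obj) (φ : x ⟶ y), cls hp x = a ∧ cls hp y = b ∧ 𝒳.p.IsHomLift base φ

theorem id_ex (a : Q 𝒳 hp) :
    ∃ (x y : 𝒳.obj) (φ : x ⟶ y), cls hp x = a ∧ cls hp y = a ∧ 𝒳.p.IsHomLift (𝟙 (pQ hp a)) φ := by
  obtain ⟨x, rfl⟩ := exists_rep hp a
  exact ⟨x, x, 𝟙 x, rfl, rfl, IsHomLift.id rfl⟩

theorem comp_ex {a b c : Q 𝒳 hp} (f : QHom hp a b) (g : QHom hp b c) :
    ∃ (x y : 𝒳.obj) (φ : x ⟶ y), cls hp x = a ∧ cls hp y = c ∧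
      𝒳.p.IsHomLift (f.base ≫ g.base) φ := by
  obtain ⟨x, y, φ, hx, hy, hφ⟩ := f.ex
  obtain ⟨y', z, ψ, hy', hz, hψ⟩ := g.ex
  have hyy' : rel 𝒳 y y' := (cls_eq_iff hp).1 (hy.trans hy'.symm)
  obtain ⟨θ, hθ⟩ := hyy'
  have hyb : 𝒳.p.obj y = pQ hp b := IsHomLift.codomain_eq 𝒳.p f.base φ
  have hθ' : 𝒳.p.IsHomLift (𝟙 (pQ hp b)) θ := isHomLift_id_of_eq 𝒳.p hyb θ
  have h1 : 𝒳.p.IsHomLift g.base (θ ≫ ψ) := inferInstance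
  exact ⟨x, z, φ ≫ θ ≫ ψ, hx, hz, inferInstance⟩

instance : Category (Q 𝒳 hp) where
  Hom := QHom hp
  id a := ⟨𝟙 (pQ hp a), id_ex hp a⟩
  comp f g := ⟨f.base ≫ g.base, comp_ex hp f g⟩
  id_comp f := QHom.ext (Category.id_comp _)
  comp_id f := QHom.ext (Category.comp_id _)
  assoc f g h := QHom.ext (Category.assoc _ _ _)

@[simp] theorem id_base (a : Q 𝒳 hp) : (𝟙 a : a ⟶ a).base = 𝟙 (pQ hp a) := rfl

@[simp] theorem comp_base {a b c : Q 𝒳 hp} (f : a ⟶ b) (g : b ⟶ c) :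
    (f ≫ g).base = f.base ≫ g.base := rfl

theorem hom_ext {a b : Q 𝒳 hp} {f g : a ⟶ b} (h : f.base = g.base) : f = g := QHom.ext h

/-- The structure functor. -/
def pFun : Q 𝒳 hp ⥤ C where
  obj := pQ hp
  map f := f.base

/-- The quotient category over `C`. -/
abbrev quot : BasedCategory.{v, u₂} C := BasedCategory.ofFunctor (pFun hp)

theorem base_eq_of_isHomLift {a b : Q 𝒳 hp} (Φ : a ⟶ b) (f : pQ hp a ⟶ pQ hp b)
    (h : (pFun hp).IsHomLift f Φ) : Φ.base = f :=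
  (IsHomLift.eq_of_isHomLift (pFun hp) f Φ).symm

theorem isHomLift_base {a b : Q 𝒳 hp} (Φ : a ⟶ b) : (pFun hp).IsHomLift Φ.base Φ :=
  inferInstanceAs ((pFun hp).IsHomLift ((pFun hp).map Φ) Φ)

theorem isHomLift_id_of_eqToHom {𝒵 : Type u₄} [Category.{v₄} 𝒵] (p : 𝒵 ⥤ C) {R S : C}
    (hRS : R = S) {a b : 𝒵} (φ : a ⟶ b) (h : p.IsHomLift (eqToHom hRS) φ) :
    p.IsHomLift (𝟙 R) φ := by
  subst hRS
  exact h

/-- The quotient functor. -/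
def toQuot : 𝒳 ⥤ᵇ quot hp where
  toFunctor :=
    { obj := fun x => cls hp x
      map := fun {x y} φ => ⟨𝒳.p.map φ, x, y, φ, rfl, rfl, inferInstance⟩
      map_id := fun x => hom_ext hp (𝒳.p.map_id x)
      map_comp := fun φ ψ => hom_ext hp (𝒳.p.map_comp φ ψ) }
  w := rfl

theorem isFibGrpd_quot : FibCat.IsFibGrpd (pFun hp) := by
  constructor
  · intro a V f
    obtain ⟨x, rfl⟩ := exists_rep hp a
    obtain ⟨y, φ, hφ⟩ := hp.exists_lift (x := x) f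
    have hy : 𝒳.p.obj y = V := IsHomLift.domain_eq 𝒳.p f φ
    subst hy
    have hf : f = 𝒳.p.map φ := IsHomLift.eq_of_isHomLift 𝒳.p f φ
    let Φ₀ : cls hp y ⟶ cls hp x := ⟨𝒳.p.map φ, y, x, φ, rfl, rfl, inferInstance⟩
    refine ⟨cls hp y, Φ₀, ?_⟩
    rw [hf]
    exact isHomLift_base hp Φ₀
  · intro b a Φ
    refine @Functor.IsStronglyCartesian.mk _ _ _ _ _ _ _ _ _ _ _ inferInstance ?_
    intro c g Ψ hΨ
    have hΨb : Ψ.base = g ≫ Φ.base := base_eq_of_isHomLift hp Ψ _ hΨ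
    have hex : ∃ (z y' : 𝒳.obj) (χ₀ : z ⟶ y'), cls hp z = c ∧ cls hp y' = b ∧
        𝒳.p.IsHomLift g χ₀ := by
      obtain ⟨y, x, φ, hy, hx, hφ⟩ := Φ.ex
      obtain ⟨z, x', ψ, hz, hx', hψ⟩ := Ψ.ex
      have hxx' : rel 𝒳 x' x := (cls_eq_iff hp).1 (hx'.trans hx.symm)
      obtain ⟨θ, hθ⟩ := hxx'
      have hx'a : 𝒳.p.obj x' = pQ hp a := IsHomLift.codomain_eq 𝒳.p Ψ.base ψ
      have hθ' : 𝒳.p.IsHomLift (𝟙 (pQ hp a)) θ := isHomLift_id_of_eq 𝒳.p hx'a θ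
      have h1 : 𝒳.p.IsHomLift Ψ.base (ψ ≫ θ) := inferInstance
      rw [hΨb] at h1
      exact ⟨z, y, FG.lift hp Φ.base φ hφ g rfl (ψ ≫ θ) h1, hz, hy,
        FG.lift_isHomLift hp _ _ _ _ _ _ _⟩
    refine ⟨⟨g, hex⟩, ⟨isHomLift_base hp ⟨g, hex⟩, hom_ext hp hΨb.symm⟩, ?_⟩
    rintro χ' ⟨h1, -⟩
    exact hom_ext hp (base_eq_of_isHomLift hp χ' g h1)

theorem isDiscrete_fiber_quot (U : C) : IsDiscrete ((pFun hp).Fiber U) := by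
  have key : ∀ {a b : (pFun hp).Fiber U} (f : a ⟶ b),
      f.1.base = eqToHom (a.2.trans b.2.symm) := by
    intro a b f
    have hf : (pFun hp).IsHomLift (𝟙 U) f.1 := f.2
    have := IsHomLift.fac' (pFun hp) (𝟙 U) f.1
    change f.1.base = _ at this
    rw [this]
    simp
  refine { subsingleton := fun a b => ⟨fun f g => ?_⟩, eq_of_hom := fun {a b} f => ?_ }
  · apply Subtype.ext
    apply hom_ext
    rw [key f, key g]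
  · obtain ⟨x, y, φ, hx, hy, hφ⟩ := f.1.ex
    rw [key f] at hφ
    have h1 : 𝒳.p.IsHomLift (𝟙 (pQ hp a.1)) φ := isHomLift_id_of_eqToHom 𝒳.p _ φ hφ
    have hxa : 𝒳.p.obj x = pQ hp a.1 := IsHomLift.domain_eq 𝒳.p (𝟙 (pQ hp a.1)) φ
    have h2 : 𝒳.p.IsHomLift (𝟙 (𝒳.p.obj x)) φ := isHomLift_id_of_eq 𝒳.p hxa.symm φ
    apply Subtype.ext
    rw [← hx, ← hy]
    exact (cls_eq_iff hp).2 ⟨φ, h2⟩

theorem isFibSet_quot : FibCat.IsFibSet (quot hp).p :=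
  ⟨isFibGrpd_quot hp, isDiscrete_fiber_quot hp⟩

theorem exists_preimage {x y : 𝒳.obj} (Φ : QHom hp (cls hp x) (cls hp y)) :
    ∃ φ : x ⟶ y, 𝒳.p.map φ = Φ.base := by
  obtain ⟨x', y', φ', hx', hy', hφ'⟩ := Φ.ex
  have h1 : rel 𝒳 x x' := (cls_eq_iff hp).1 hx'.symm
  have h2 : rel 𝒳 y' y := (cls_eq_iff hp).1 hy'
  obtain ⟨θ₁, hθ₁⟩ := h1
  obtain ⟨θ₂, hθ₂⟩ := h2
  have hθ₁' : 𝒳.p.IsHomLift (𝟙 (pQ hp (cls hp x))) θ₁ := hθ₁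
  have hy'b : 𝒳.p.obj y' = pQ hp (cls hp y) := IsHomLift.codomain_eq 𝒳.p Φ.base φ'
  have hθ₂' : 𝒳.p.IsHomLift (𝟙 (pQ hp (cls hp y))) θ₂ := isHomLift_id_of_eq 𝒳.p hy'b θ₂
  have h3 : 𝒳.p.IsHomLift Φ.base (φ' ≫ θ₂) := inferInstance
  have h4 : 𝒳.p.IsHomLift Φ.base (θ₁ ≫ φ' ≫ θ₂) := inferInstance
  refine ⟨θ₁ ≫ φ' ≫ θ₂, ?_⟩
  have h5 : 𝒳.p.IsHomLift (Φ.base : 𝒳.p.obj x ⟶ 𝒳.p.obj y) (θ₁ ≫ φ' ≫ θ₂) := h4
  exact (IsHomLift.eq_of_isHomLift 𝒳.p (Φ.base : 𝒳.p.obj x ⟶ 𝒳.p.obj y) _).symm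

theorem isEquivOver_toQuot (hthin : ∀ U : C, Quiver.IsThin (𝒳.p.Fiber U)) :
    FibCat.IsEquivOver (toQuot hp) := by
  rw [Groth.Agent.Lib.Helper27.EquivOverAux.isEquivOver_iff_ff_ess]
  refine ⟨⟨⟨?_⟩, ⟨?_⟩⟩, ?_⟩
  · intro x y Φ
    obtain ⟨φ, hφ⟩ := exists_preimage hp Φ
    exact ⟨φ, hom_ext hp hφ⟩
  · intro x y φ φ' h
    have hb : 𝒳.p.map φ = 𝒳.p.map φ' := congrArg QHom.base h
    have h1 : 𝒳.p.IsHomLift (𝒳.p.map φ) φ := inferInstance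
    have h2 : 𝒳.p.IsHomLift (𝒳.p.map φ) φ' := by rw [hb]; infer_instance
    have hχl : 𝒳.p.IsHomLift (𝟙 (𝒳.p.obj x)) (FG.lift hp (𝒳.p.map φ) φ h1 (𝟙 _)
      (Category.id_comp _).symm φ' h2) := FG.lift_isHomLift hp _ _ _ _ _ _ _
    have hχ : FG.lift hp (𝒳.p.map φ) φ h1 (𝟙 _) (Category.id_comp _).symm φ' h2 ≫ φ = φ' :=
      FG.lift_fac hp _ _ _ _ _ _ _
    have e : FG.lift hp (𝒳.p.map φ) φ h1 (𝟙 _) (Category.id_comp _).symm φ' h2 = 𝟙 x :=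
      (thin_iff 𝒳.p _).1 (hthin _) _ _ _ _ hχl inferInstance
    rw [e, Category.id_comp] at hχ
    exact hχ
  · intro η
    obtain ⟨x, rfl⟩ := exists_rep hp η
    exact ⟨x, Iso.refl _, IsHomLift.id rfl⟩

end Groth.Agent.Lib.Helper27.SetoidToSet
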