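import Groth.Agent.Lib.Helper27.FibSetAux
import Groth.Agent.Lib.Helper27.SetoidToSet
import Groth.Agent.Lib.Helper27.FpKit
import Groth.Prelude.Def_AlgSt

/-!
# A category fibred in sets is the category of elements of its presheaf of fibres (helper27)
-/

set_option autoImplicit false
set_option backward.isDefEq.respectTransparency false
set_option backward.isDefEq.respectTransparency.types false

universe v₂ u₂ v u

open CategoryTheory Opposite FibCat Groth.Agent.Lib.Helper27.FpKit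
  Groth.Agent.Lib.Helper27.FibSetAux

namespace Groth.Agent.Lib.Helper27.FibSetPsh

variable {C : Type u} [Category.{v} C] {𝒬 : BasedCategory.{v₂, u₂} C} (h : UL 𝒬.p)

include h in
theorem ul' (a : 𝒬.obj) {T T' : C} (ha : 𝒬.p.obj a = T) (g : T' ⟶ T) :
    ∃! φ : (Σ ξ : 𝒬.obj, (ξ ⟶ a)), 𝒬.p.IsHomLift g φ.2 := by
  subst ha
  exact h a T' g

/-- The chosen restriction. -/
noncomputable def resObj (a : 𝒬.obj) {T T' : C} (ha : 𝒬.p.obj a = T) (g : T' ⟶ T) : 𝒬.obj :=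
  (Classical.choose (ul' h a ha g).exists).1

noncomputable def resHom (a : 𝒬.obj) {T T' : C} (ha : 𝒬.p.obj a = T) (g : T' ⟶ T) :
    resObj h a ha g ⟶ a :=
  (Classical.choose (ul' h a ha g).exists).2

theorem resHom_lift (a : 𝒬.obj) {T T' : C} (ha : 𝒬.p.obj a = T) (g : T' ⟶ T) :
    𝒬.p.IsHomLift g (resHom h a ha g) :=
  Classical.choose_spec (ul' h a ha g).exists

theorem res_uniq (a : 𝒬.obj) {T T' : C} (ha : 𝒬.p.obj a = T) (g : T' ⟶ T) (b : 𝒬.obj)
    (φ : b ⟶ a) (hφ : 𝒬.p.IsHomLift g φ) :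
    ∃ e : b = resObj h a ha g, φ = eqToHom e ≫ resHom h a ha g := by
  have h1 := (ul' h a ha g).unique (y₁ := ⟨b, φ⟩) (y₂ := ⟨resObj h a ha g, resHom h a ha g⟩) hφ
    (resHom_lift h a ha g)
  exact sigma_eq_elim h1

theorem resObj_base (a : 𝒬.obj) {T T' : C} (ha : 𝒬.p.obj a = T) (g : T' ⟶ T) :
    𝒬.p.obj (resObj h a ha g) = T' :=
  haveI := resHom_lift h a ha g
  IsHomLift.domain_eq 𝒬.p g (resHom h a ha g)

/-- The presheaf of fibres. -/
noncomputable def fibPsh : Cᵒᵖ ⥤ Type u₂ where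
  obj T := {a : 𝒬.obj // 𝒬.p.obj a = T.unop}
  map {T T'} g := ↾fun a => ⟨resObj h a.1 a.2 g.unop, resObj_base h a.1 a.2 g.unop⟩
  map_id T := by
    ext a
    obtain ⟨e, -⟩ := res_uniq h a.1 a.2 (𝟙 T.unop) a.1 (𝟙 a.1) (IsHomLift.id a.2)
    exact e.symm
  map_comp {T T' T''} g g' := by
    ext a
    haveI := resHom_lift h a.1 a.2 g.unop
    haveI := resHom_lift h (resObj h a.1 a.2 g.unop) (resObj_base h a.1 a.2 g.unop) g'.unop
    obtain ⟨e, -⟩ := res_uniq h a.1 a.2 (g'.unop ≫ g.unop) _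
      (resHom h (resObj h a.1 a.2 g.unop) (resObj_base h a.1 a.2 g.unop) g'.unop ≫
        resHom h a.1 a.2 g.unop) inferInstance
    exact e.symm

theorem fibPsh_map_val {T T' : Cᵒᵖ} (g : T ⟶ T') (a : (fibPsh h).obj T) :
    ((fibPsh h).map g a).1 = resObj h a.1 a.2 g.unop := rfl

/-- The comparison functor. -/
noncomputable def toPsh : 𝒬 ⥤ᵇ Stk.ofPsh (fibPsh h) where
  toFunctor :=
    { obj := fun a => ⟨𝒬.p.obj a, ⟨a, rfl⟩⟩
      map := fun {a' a} φ => ⟨𝒬.p.map φ, by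
        apply Subtype.ext
        obtain ⟨e, -⟩ := res_uniq h a rfl (𝒬.p.map φ) a' φ inferInstance
        exact e.symm⟩
      map_id := fun a => Stk.EltObj.hom_ext (𝒬.p.map_id a)
      map_comp := fun f g => Stk.EltObj.hom_ext (𝒬.p.map_comp f g) }
  w := CategoryTheory.Functor.ext (fun a => rfl) (fun a a' φ => by
    simp only [eqToHom_refl, Category.id_comp, Category.comp_id]
    rfl)

theorem toPsh_faithful : (toPsh h).toFunctor.Faithful := by
  constructor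
  intro a' a φ φ' hφ
  have h0 : 𝒬.p.map φ = 𝒬.p.map φ' := congrArg (fun m => m.hom) hφ
  have h1 : 𝒬.p.IsHomLift (𝒬.p.map φ) φ := inferInstance
  have h2 : 𝒬.p.IsHomLift (𝒬.p.map φ) φ' := by rw [h0]; infer_instance
  have h3 := (h a _ (𝒬.p.map φ)).unique (y₁ := ⟨a', φ⟩) (y₂ := ⟨a', φ'⟩) h1 h2
  obtain ⟨e, he⟩ := sigma_eq_elim h3
  rw [eqToHom_refl, Category.id_comp] at he
  exact he

theorem toPsh_full : (toPsh h).toFunctor.Full := by
  constructor
  intro a' a m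
  have hsec : (fibPsh h).map m.hom.op ⟨a, rfl⟩ = ⟨a', rfl⟩ := m.map_sec
  have e : resObj h a rfl m.hom = a' := congrArg Subtype.val hsec
  haveI := resHom_lift h a rfl m.hom
  have hl : 𝒬.p.IsHomLift m.hom (eqToHom e.symm ≫ resHom h a rfl m.hom) := inferInstance
  refine ⟨eqToHom e.symm ≫ resHom h a rfl m.hom, ?_⟩
  apply Stk.EltObj.hom_ext
  exact (IsHomLift.eq_of_isHomLift 𝒬.p (m.hom : 𝒬.p.obj a' ⟶ 𝒬.p.obj a) _).symm

theorem toPsh_ess (s : (Stk.ofPsh (fibPsh h)).obj) :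
    ∃ (a : 𝒬.obj) (ε : (toPsh h).toFunctor.obj a ≅ s), Vert ε.hom := by
  obtain ⟨T, ⟨a, ha⟩⟩ := s
  have ha' : 𝒬.p.obj a = T := ha
  subst ha'
  exact ⟨a, Iso.refl _, Vert.id _⟩

theorem isEquivOver_toPsh : IsEquivOver (toPsh h) :=
  isEquivOver_of_ess (toPsh h) (toPsh_full h) (toPsh_faithful h) (toPsh_ess h)

end Groth.Agent.Lib.Helper27.FibSetPsh
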