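import Groth.Prelude.Def_FibSite
import Mathlib

/-! Auxiliary lemmas on the CoGrothendieck construction and the total topology (helper27). -/

set_option backward.isDefEq.respectTransparency false
set_option backward.isDefEq.respectTransparency.types false

universe w v₃ u₃ v₂ u₂ v₁ u₁

open CategoryTheory CategoryTheory.Limits Opposite Pseudofunctor Pseudofunctor.CoGrothendieck Bicategory

namespace Groth.Agent.Lib.Helper27.FibSiteAux

variable {𝒮 : Type u₁} [Category.{v₁} 𝒮] (F : Pseudofunctor (LocallyDiscrete 𝒮ᵒᵖ) Cat.{v₂, u₂})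

/-- Every morphism factors as a fibre morphism followed by a cartesian lift. -/
theorem hom_eq_ι_map_comp_cartesianLift {X Y : ∫ᶜ F} (g : Y ⟶ X) :
    g = (ι F Y.base).map g.fiber ≫ cartesianLift X.fiber g.base := by
  refine Hom.ext _ _ ?_ ?_
  · simp
  · dsimp only [ι, categoryStruct_comp_fiber, categoryStruct_comp_base]
    simp [F.mapComp_id_right_inv_app, Strict.rightUnitor_eqToIso, ← NatTrans.naturality_assoc,
      ← Cat.Hom₂.comp_app, PrelaxFunctor.map₂_eqToHom]

/-- Cartesian lifts are natural in the object of the fibre. -/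
theorem cartesianLift_naturality {R S : 𝒮} (f : R ⟶ S) {U V : F.obj ⟨op S⟩} (r : V ⟶ U) :
    cartesianLift V f ≫ (ι F S).map r =
      (ι F R).map ((F.map f.op.toLoc).toFunctor.map r) ≫ cartesianLift U f := by
  refine Hom.ext _ _ ?_ ?_
  · simp
  · dsimp only [ι, categoryStruct_comp_fiber, categoryStruct_comp_base]
    simp [F.mapComp_id_right_inv_app, F.mapComp_id_left_inv_app, Strict.rightUnitor_eqToIso,
      Strict.leftUnitor_eqToIso, ← Cat.Hom₂.comp_app, PrelaxFunctor.map₂_eqToHom]
    have h : (F.map f.op.toLoc).toFunctor.map ((F.mapId { as := op S }).inv.toNatTrans.app U) ≫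
        (F.map f.op.toLoc).toFunctor.map ((F.mapId { as := op S }).hom.toNatTrans.app U) = 𝟙 _ := by
      rw [← Functor.map_comp, Cat.Hom.inv_hom_id_toNatTrans_app, CategoryTheory.Functor.map_id]
    rw [reassoc_of% h]

variable (J : FibSite.Topologies F)

/-- The key factorisation: a fibre morphism over `Y` composed with `g : Y ⟶ X`, when the fibre part factors
through the inverse image of `r`, factors through `ι r`. -/
theorem ι_map_comp_eq {X Y : ∫ᶜ F} (g : Y ⟶ X) {V' : F.obj ⟨op Y.base⟩} (r' : V' ⟶ Y.fiber)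
    {W : F.obj ⟨op X.base⟩} (r : W ⟶ X.fiber)
    (b : V' ⟶ (F.map g.base.op.toLoc).toFunctor.obj W)
    (hfac : r' ≫ g.fiber = b ≫ (F.map g.base.op.toLoc).toFunctor.map r) :
    (ι F Y.base).map r' ≫ g =
      ((ι F Y.base).map b ≫ cartesianLift W g.base) ≫ (ι F X.base).map r := by
  have h1 : (ι F Y.base).map r' ≫ g =
      (ι F Y.base).map r' ≫ ((ι F Y.base).map g.fiber ≫ cartesianLift X.fiber g.base) :=
    congrArg (fun t => (ι F Y.base).map r' ≫ t) (hom_eq_ι_map_comp_cartesianLift F g)
  rw [h1, ← Category.assoc, ← Functor.map_comp, hfac, Functor.map_comp, Category.assoc,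
    ← cartesianLift_naturality, Category.assoc]

/-- The candidate description of the covering sieves of the total topology. -/
def IsCov (X : ∫ᶜ F) (S : Sieve X) : Prop :=
  ∃ R ∈ J X.base X.fiber, ∀ ⦃V : F.obj ⟨op X.base⟩⦄ (r : V ⟶ X.fiber), R r → S ((ι F X.base).map r)

theorem isCov_iff (X : ∫ᶜ F) (S : Sieve X) :
    IsCov F J X S ↔ ∃ R ∈ J X.base X.fiber, Sieve.functorPushforward (ι F X.base) R ≤ S := by
  constructor
  · rintro ⟨R, hR, h⟩
    refine ⟨R, hR, ?_⟩
    rintro Z f ⟨W, r, a, hr, rfl⟩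
    exact S.downward_closed (h r hr) a
  · rintro ⟨R, hR, h⟩
    refine ⟨R, hR, ?_⟩
    intro V r hr
    exact h _ ⟨V, r, 𝟙 _, hr, (Category.id_comp _).symm⟩

/-- The topology whose covering sieves are those containing the image of a covering sieve of the fibre. -/
def covTopology (hF : FibSite.IsPreFibSite F J) : GrothendieckTopology (∫ᶜ F) where
  sieves X := {S | IsCov F J X S}
  top_mem' X := ⟨⊤, (J X.base).top_mem _, fun _ _ _ => trivial⟩
  pullback_stable' := by
    rintro X Y S g ⟨R, hR, hRS⟩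
    haveI : (FibSite.invImage F g.base).IsContinuous (J X.base) (J Y.base) := hF g.base
    have hcp : R.functorPushforward (FibSite.invImage F g.base) ∈
        J Y.base ((FibSite.invImage F g.base).obj X.fiber) :=
      (CoverPreserving.of_isContinuous (FibSite.invImage F g.base) (J X.base) (J Y.base)).cover_preserve hR
    refine ⟨(R.functorPushforward (FibSite.invImage F g.base)).pullback g.fiber,
      (J Y.base).pullback_stable g.fiber hcp, ?_⟩
    rintro V' r' ⟨W, r, b, hr, hfac⟩
    change S ((ι F Y.base).map r' ≫ g)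
    rw [ι_map_comp_eq F g r' r b hfac]
    exact S.downward_closed (hRS r hr) _
  transitive' := by
    rintro X S ⟨R, hR, hRS⟩ T hT
    have hex : ∀ ⦃V : F.obj ⟨op X.base⟩⦄ ⦃r : V ⟶ X.fiber⦄ (hr : R r),
        ∃ R' ∈ J X.base V, ∀ ⦃V' : F.obj ⟨op X.base⟩⦄ (r'' : V' ⟶ V), R' r'' →
          T ((ι F X.base).map r'' ≫ (ι F X.base).map r) := by
      intro V r hr
      obtain ⟨R', hR', h'⟩ := hT (hRS r hr)
      exact ⟨R', hR', fun V' r'' hr'' => h' r'' hr''⟩
    choose R' hR' hR'T using hex
    refine ⟨Sieve.bind R (fun V r hr => R' hr), (J X.base).bind_covering hR (fun V r hr => hR' hr), ?_⟩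
    rintro V w ⟨Z, r'', r, hr, hr'', rfl⟩
    rw [Functor.map_comp]
    exact hR'T hr r'' hr''

theorem totalTopology_le_covTopology (hF : FibSite.IsPreFibSite F J) :
    FibSite.totalTopology F J ≤ covTopology F J hF := by
  apply FibSite.totalTopology_le
  intro S U R hR
  exact ⟨R, hR, fun V r hr => ⟨V, r, 𝟙 _, hr, (Category.id_comp _).symm⟩⟩

theorem mem_totalTopology_iff (hF : FibSite.IsPreFibSite F J) (X : ∫ᶜ F) (S : Sieve X) :
    S ∈ FibSite.totalTopology F J X ↔ IsCov F J X S := by
  constructor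
  · intro h
    exact totalTopology_le_covTopology F J hF X h
  · rintro ⟨R, hR, h⟩
    refine (FibSite.totalTopology F J).superset_covering ?_
      (FibSite.functorPushforward_mem_totalTopology (F := F) (J := J) hR)
    rintro Z f ⟨W, r, a, hr, rfl⟩
    exact S.downward_closed (h r hr) a

/-- Lemma A: a presheaf whose restrictions to all fibres are sheaves is a sheaf for the total topology. -/
theorem isSheaf_total_of_forall_fibre (hF : FibSite.IsPreFibSite F J) (P : (∫ᶜ F)ᵒᵖ ⥤ Type w)
    (h : ∀ S : 𝒮, Presieve.IsSheaf (J S) ((ι F S).op ⋙ P)) :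
    Presieve.IsSheaf (FibSite.totalTopology F J) P := by
  intro X T hT
  obtain ⟨R, hR, hRT⟩ := (mem_totalTopology_iff F J hF X T).1 hT
  intro x hx
  have hsx := (Presieve.compatible_iff_sieveCompatible x).1 hx
  have congr_x : ∀ {Y : ∫ᶜ F} {f g : Y ⟶ X} (e : f = g) (hf : T f) (hg : T g), x f hf = x g hg := by
    intro Y f g e hf hg
    subst e
    rfl
  let x' : Presieve.FamilyOfElements ((ι F X.base).op ⋙ P) (R : Presieve X.fiber) :=
    fun V r hr => x ((ι F X.base).map r) (hRT r hr)
  have hx' : x'.Compatible := by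
    intro V₁ V₂ W b₁ b₂ r₁ r₂ h₁ h₂ hb
    change P.map ((ι F X.base).map b₁).op (x _ _) = P.map ((ι F X.base).map b₂).op (x _ _)
    rw [← hsx, ← hsx]
    apply congr_x
    rw [← Functor.map_comp, ← Functor.map_comp, hb]
  have hfib := h X.base R hR
  obtain ⟨y, hy⟩ : ∃ y : P.obj (op X), ∀ ⦃V : F.obj ⟨op X.base⟩⦄ (r : V ⟶ X.fiber) (hr : R r),
      P.map ((ι F X.base).map r).op y = x ((ι F X.base).map r) (hRT r hr) := by
    obtain ⟨y0, hy0⟩ := (hfib x' hx').exists
    exact ⟨y0, hy0⟩
  refine ⟨y, ?_, ?_⟩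
  · intro Z t ht
    haveI : (FibSite.invImage F t.base).IsContinuous (J X.base) (J Z.base) := hF t.base
    have hcp : R.functorPushforward (FibSite.invImage F t.base) ∈
        J Z.base ((FibSite.invImage F t.base).obj X.fiber) :=
      (CoverPreserving.of_isContinuous (FibSite.invImage F t.base) (J X.base) (J Z.base)).cover_preserve hR
    have hR' := (J Z.base).pullback_stable t.fiber hcp
    refine (h Z.base _ hR').isSeparatedFor.ext ?_
    rintro V' r' ⟨W, r, b, hr, hfac⟩
    obtain ⟨m, hm⟩ : ∃ m : (⟨Z.base, V'⟩ : ∫ᶜ F) ⟶ Z, m = (ι F Z.base).map r' := ⟨_, rfl⟩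
    obtain ⟨n, hn⟩ : ∃ n : (⟨X.base, W⟩ : ∫ᶜ F) ⟶ X, n = (ι F X.base).map r := ⟨_, rfl⟩
    obtain ⟨c, hc⟩ : ∃ c : (⟨Z.base, V'⟩ : ∫ᶜ F) ⟶ ⟨X.base, W⟩, m ≫ t = c ≫ n :=
      ⟨(ι F Z.base).map b ≫ cartesianLift W t.base, by
        rw [hm, hn]; exact ι_map_comp_eq F t r' r b hfac⟩
    have hTn : T n := by rw [hn]; exact hRT r hr
    have hyn : P.map n.op y = x n hTn := by subst hn; exact hy r hr
    have main : P.map m.op (P.map t.op y) = P.map m.op (x t ht) := by
      calc P.map m.op (P.map t.op y) = P.map (m ≫ t).op y := by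
            rw [op_comp, Functor.map_comp_apply]
        _ = P.map (c ≫ n).op y := by rw [hc]
        _ = P.map c.op (P.map n.op y) := by rw [op_comp, Functor.map_comp_apply]
        _ = P.map c.op (x n hTn) := by rw [hyn]
        _ = x (c ≫ n) (T.downward_closed hTn c) := (hsx n c hTn).symm
        _ = x (m ≫ t) (T.downward_closed ht m) := congr_x hc.symm _ _
        _ = P.map m.op (x t ht) := hsx t m ht
    subst hm
    exact main
  · intro y₂ hy₂
    refine (hfib.isSeparatedFor.ext ?_)
    intro V r hr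
    change P.map ((ι F X.base).map r).op y₂ = P.map ((ι F X.base).map r).op y
    rw [hy r hr]
    exact hy₂ _ (hRT r hr)

end Groth.Agent.Lib.Helper27.FibSiteAux
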