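import Groth.Agent.Lib.Helper27.FibSiteAux
import Groth.Agent.Lib.Helper27.ContinuousSep

/-! Clean-typed versions of the fibre inclusion and restriction of sheaves to fibres (helper27). -/

set_option backward.isDefEq.respectTransparency false
set_option backward.isDefEq.respectTransparency.types false

universe w v₃ u₃ v₂ u₂ v₁ u₁

open CategoryTheory CategoryTheory.Limits Opposite Pseudofunctor Pseudofunctor.CoGrothendieck Bicategory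

namespace Groth.Agent.Lib.Helper27.FibSiteAux

variable {𝒮 : Type u₁} [Category.{v₁} 𝒮] (F : Pseudofunctor (LocallyDiscrete 𝒮ᵒᵖ) Cat.{v₂, u₂})
  (J : FibSite.Topologies F)

/-- clean-typed fibre inclusion on morphisms -/
def ιm (S : 𝒮) {V U : F.obj ⟨op S⟩} (r : V ⟶ U) : (⟨S, V⟩ : ∫ᶜ F) ⟶ ⟨S, U⟩ := (ι F S).map r

theorem ιm_comp (S : 𝒮) {W V U : F.obj ⟨op S⟩} (b : W ⟶ V) (r : V ⟶ U) :
    ιm F S (b ≫ r) = ιm F S b ≫ ιm F S r := (ι F S).map_comp b r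

theorem ιm_id (S : 𝒮) (U : F.obj ⟨op S⟩) : ιm F S (𝟙 U) = 𝟙 _ := (ι F S).map_id U

/-- clean-typed cartesian lift -/
def cart {R S : 𝒮} (f : R ⟶ S) (U : F.obj ⟨op S⟩) :
    (⟨R, (FibSite.invImage F f).obj U⟩ : ∫ᶜ F) ⟶ ⟨S, U⟩ := cartesianLift U f

theorem hom_eq {Y : ∫ᶜ F} {S : 𝒮} {U : F.obj ⟨op S⟩} (g : Y ⟶ (⟨S, U⟩ : ∫ᶜ F)) :
    g = ιm F Y.base g.fiber ≫ cart F g.base U :=
  hom_eq_ι_map_comp_cartesianLift F g

theorem cart_nat {R S : 𝒮} (f : R ⟶ S) {U V : F.obj ⟨op S⟩} (r : V ⟶ U) :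
    cart F f V ≫ ιm F S r = ιm F R ((FibSite.invImage F f).map r) ≫ cart F f U :=
  cartesianLift_naturality F f r

/-- a morphism into `⟨S, U⟩` with prescribed base and fibre parts -/
def homMk {T S : 𝒮} (e : T ⟶ S) {W : F.obj ⟨op T⟩} {U : F.obj ⟨op S⟩}
    (β : W ⟶ (FibSite.invImage F e).obj U) : (⟨T, W⟩ : ∫ᶜ F) ⟶ ⟨S, U⟩ := ⟨e, β⟩

theorem homMk_eq {T S : 𝒮} (e : T ⟶ S) {W : F.obj ⟨op T⟩} {U : F.obj ⟨op S⟩}
    (β : W ⟶ (FibSite.invImage F e).obj U) : homMk F e β = ιm F T β ≫ cart F e U :=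
  hom_eq F (homMk F e β)

theorem homMk_inj {T S : 𝒮} (e : T ⟶ S) {W : F.obj ⟨op T⟩} {U : F.obj ⟨op S⟩}
    (β β' : W ⟶ (FibSite.invImage F e).obj U) (h : homMk F e β = homMk F e β') : β = β' := by
  unfold homMk at h
  injection h

theorem homMk_comp_ιm {T S : 𝒮} (e : T ⟶ S) {W : F.obj ⟨op T⟩} {V U : F.obj ⟨op S⟩}
    (α : W ⟶ (FibSite.invImage F e).obj V) (r : V ⟶ U) :
    homMk F e α ≫ ιm F S r = homMk F e (α ≫ (FibSite.invImage F e).map r) := by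
  rw [homMk_eq, homMk_eq, Category.assoc, cart_nat, ← Category.assoc, ← ιm_comp]

theorem mem_totalTopology_iff' (hF : FibSite.IsPreFibSite F J) (X : ∫ᶜ F) (T : Sieve X) :
    T ∈ FibSite.totalTopology F J X ↔
      ∃ R ∈ J X.base X.fiber, ∀ ⦃V : F.obj ⟨op X.base⟩⦄ (r : V ⟶ X.fiber), R r → T (ιm F X.base r) :=
  mem_totalTopology_iff F J hF X T

/-- the sieve on `X` generated by the image of a sieve of the fibre -/
def covSieve (X : ∫ᶜ F) (R : Sieve X.fiber) : Sieve X where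
  arrows Z h := ∃ (V : F.obj ⟨op X.base⟩) (r : V ⟶ X.fiber) (a : Z ⟶ (⟨X.base, V⟩ : ∫ᶜ F)),
    R r ∧ h = a ≫ ιm F X.base r
  downward_closed := by
    rintro Y Z h ⟨V, r, a, hr, rfl⟩ g
    exact ⟨V, r, g ≫ a, hr, (Category.assoc _ _ _).symm⟩

theorem covSieve_mem (hF : FibSite.IsPreFibSite F J) (X : ∫ᶜ F) (R : Sieve X.fiber)
    (hR : R ∈ J X.base X.fiber) : covSieve F X R ∈ FibSite.totalTopology F J X := by
  rw [mem_totalTopology_iff' F J hF]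
  exact ⟨R, hR, fun V r hr => ⟨V, r, 𝟙 _, hr, (Category.id_comp _).symm⟩⟩

theorem fibre_sep (hF : FibSite.IsPreFibSite F J) (P : (∫ᶜ F)ᵒᵖ ⥤ Type w)
    (hP : Presieve.IsSheaf (FibSite.totalTopology F J) P) (X : ∫ᶜ F) (R : Sieve X.fiber)
    (hR : R ∈ J X.base X.fiber) (y₁ y₂ : P.obj (op X))
    (h : ∀ ⦃V : F.obj ⟨op X.base⟩⦄ (r : V ⟶ X.fiber), R r →
      P.map (ιm F X.base r).op y₁ = P.map (ιm F X.base r).op y₂) : y₁ = y₂ := by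
  refine (hP _ (covSieve_mem F J hF X R hR)).isSeparatedFor.ext ?_
  rintro Z h' ⟨V, r, a, hr, rfl⟩
  rw [op_comp, Functor.map_comp_apply, Functor.map_comp_apply, h r hr]

theorem wellDefined (hF : FibSite.IsPreFibSite F J) (P : (∫ᶜ F)ᵒᵖ ⥤ Type (max w u₂ v₂))
    (hP : Presieve.IsSheaf (FibSite.totalTopology F J) P) (X : ∫ᶜ F) (R : Sieve X.fiber)
    (hR : R ∈ J X.base X.fiber)
    (ξ : ∀ ⦃V : F.obj ⟨op X.base⟩⦄ (r : V ⟶ X.fiber), R r → P.obj (op (⟨X.base, V⟩ : ∫ᶜ F)))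
    (hξc : ∀ ⦃V₁ V₂ W : F.obj ⟨op X.base⟩⦄ (b₁ : W ⟶ V₁) (b₂ : W ⟶ V₂) ⦃r₁ : V₁ ⟶ X.fiber⦄
      ⦃r₂ : V₂ ⟶ X.fiber⦄ (h₁ : R r₁) (h₂ : R r₂), b₁ ≫ r₁ = b₂ ≫ r₂ →
        P.map (ιm F X.base b₁).op (ξ r₁ h₁) = P.map (ιm F X.base b₂).op (ξ r₂ h₂))
    (Z : ∫ᶜ F) {V V' : F.obj ⟨op X.base⟩} (r : V ⟶ X.fiber) (r' : V' ⟶ X.fiber) (hr : R r) (hr' : R r')
    (a : Z ⟶ (⟨X.base, V⟩ : ∫ᶜ F)) (a' : Z ⟶ (⟨X.base, V'⟩ : ∫ᶜ F))
    (haa : a ≫ ιm F X.base r = a' ≫ ιm F X.base r') :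
    P.map a.op (ξ r hr) = P.map a'.op (ξ r' hr') := by
  obtain ⟨T, W⟩ := Z
  obtain ⟨e, α⟩ := a
  obtain ⟨e', α'⟩ := a'
  have hbase : e = e' := by
    have := congrArg Hom.base haa
    simpa [ιm] using this
  subst hbase
  change homMk F e α ≫ ιm F X.base r = homMk F e α' ≫ ιm F X.base r' at haa
  rw [homMk_comp_ιm, homMk_comp_ιm] at haa
  have hfib := homMk_inj F e _ _ haa
  haveI : (FibSite.invImage F e).IsContinuous (J X.base) (J T) := hF e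
  let z : Presieve.FamilyOfElements ((FibSite.invImage F e).op ⋙ ((ι F T).op ⋙ P)) (R : Presieve X.fiber) :=
    fun V r hr => P.map (cart F e V).op (ξ r hr)
  have hz : z.Compatible := by
    intro V₁ V₂ W' b₁ b₂ r₁ r₂ h₁ h₂ hb
    change P.map (ιm F T ((FibSite.invImage F e).map b₁)).op (P.map (cart F e V₁).op (ξ r₁ h₁)) =
      P.map (ιm F T ((FibSite.invImage F e).map b₂)).op (P.map (cart F e V₂).op (ξ r₂ h₂))
    rw [← Functor.map_comp_apply, ← Functor.map_comp_apply, ← op_comp, ← op_comp, ← cart_nat, ← cart_nat,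
      op_comp, op_comp, Functor.map_comp_apply, Functor.map_comp_apply, hξc b₁ b₂ h₁ h₂ hb]
  have hsepT : ∀ (W₀ : F.obj ⟨op T⟩) (S₀ : (J T).Cover W₀)
      (x y : ToType (((ι F T).op ⋙ P).obj (op W₀))),
      (∀ I : S₀.Arrow, ((ι F T).op ⋙ P).map I.f.op x = ((ι F T).op ⋙ P).map I.f.op y) → x = y := by
    intro W₀ S₀ x y hxy
    exact fibre_sep F J hF P hP ⟨T, W₀⟩ S₀.1 S₀.2 x y (fun V₀ r₀ hr₀ => hxy ⟨V₀, r₀, hr₀⟩)
  have key := Groth.Agent.Lib.Helper27.ContinuousSep.map_eq_of_compatible.{w} (J X.base) (J T)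
    (FibSite.invImage F e) ((ι F T).op ⋙ P) hsepT R hR z hz r r' hr hr' α α' hfib
  change P.map (homMk F e α).op (ξ r hr) = P.map (homMk F e α').op (ξ r' hr')
  rw [homMk_eq, homMk_eq, op_comp, op_comp, Functor.map_comp_apply, Functor.map_comp_apply]
  exact key


theorem isSheafFor_fibre (hF : FibSite.IsPreFibSite F J) (P : (∫ᶜ F)ᵒᵖ ⥤ Type (max w u₂ v₂))
    (hP : Presieve.IsSheaf (FibSite.totalTopology F J) P) (X : ∫ᶜ F) (R : Sieve X.fiber)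
    (hR : R ∈ J X.base X.fiber) :
    Presieve.IsSheafFor ((ι F X.base).op ⋙ P) (R : Presieve X.fiber) := by
  intro x hx
  obtain ⟨ξ, hξ⟩ : ∃ ξ : ∀ ⦃V : F.obj ⟨op X.base⟩⦄ (r : V ⟶ X.fiber), R r →
      P.obj (op (⟨X.base, V⟩ : ∫ᶜ F)), ∀ ⦃V : F.obj ⟨op X.base⟩⦄ (r : V ⟶ X.fiber) (hr : R r),
        ξ r hr = x r hr := ⟨fun V r hr => x r hr, fun _ _ _ => rfl⟩
  have hξc : ∀ ⦃V₁ V₂ W : F.obj ⟨op X.base⟩⦄ (b₁ : W ⟶ V₁) (b₂ : W ⟶ V₂) ⦃r₁ : V₁ ⟶ X.fiber⦄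
      ⦃r₂ : V₂ ⟶ X.fiber⦄ (h₁ : R r₁) (h₂ : R r₂), b₁ ≫ r₁ = b₂ ≫ r₂ →
        P.map (ιm F X.base b₁).op (ξ r₁ h₁) = P.map (ιm F X.base b₂).op (ξ r₂ h₂) := by
    intro V₁ V₂ W b₁ b₂ r₁ r₂ h₁ h₂ hb
    rw [hξ, hξ]
    exact hx b₁ b₂ h₁ h₂ hb
  have WD := wellDefined.{w} F J hF P hP X R hR ξ hξc
  -- the family on the covering sieve
  let y : Presieve.FamilyOfElements P (covSieve F X R : Presieve X) := fun Z h hh =>
    P.map hh.choose_spec.choose_spec.choose.op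
      (ξ hh.choose_spec.choose hh.choose_spec.choose_spec.choose_spec.1)
  have hy : ∀ (Z : ∫ᶜ F) {V : F.obj ⟨op X.base⟩} (r : V ⟶ X.fiber) (hr : R r)
      (a : Z ⟶ (⟨X.base, V⟩ : ∫ᶜ F)) (h : Z ⟶ X) (hh : covSieve F X R h) (e : h = a ≫ ιm F X.base r),
      y h hh = P.map a.op (ξ r hr) := by
    intro Z V r hr a h hh e
    refine WD Z _ r _ hr _ a ?_
    rw [← hh.choose_spec.choose_spec.choose_spec.2, e]
  have hyc : y.Compatible := by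
    rw [Presieve.compatible_iff_sieveCompatible]
    intro Z Z' h g hh
    obtain ⟨V, r, a, hr, e⟩ := hh
    rw [hy Z r hr a h _ e, hy Z' r hr (g ≫ a) (g ≫ h) _ (by rw [e, Category.assoc]),
      op_comp, Functor.map_comp_apply]
  obtain ⟨t, ht⟩ := (hP _ (covSieve_mem F J hF X R hR) y hyc).exists
  have htr : ∀ ⦃V : F.obj ⟨op X.base⟩⦄ (r : V ⟶ X.fiber) (hr : R r),
      P.map (ιm F X.base r).op t = ξ r hr := by
    intro V r hr
    have hmem : covSieve F X R (ιm F X.base r) := ⟨V, r, 𝟙 _, hr, (Category.id_comp _).symm⟩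
    rw [ht _ hmem, hy _ r hr (𝟙 _) _ hmem (Category.id_comp _).symm, op_id,
      CategoryTheory.Functor.map_id]
    rfl
  refine ⟨t, ?_, ?_⟩
  · intro V r hr
    rw [← hξ r hr]
    exact htr r hr
  · intro t₂ ht₂
    refine fibre_sep F J hF P hP X R hR t₂ t ?_
    intro V r hr
    rw [htr r hr, hξ r hr]
    exact ht₂ r hr


/-- Lemma B: the restriction to a fibre of a sheaf for the total topology is a sheaf. -/
theorem isSheaf_fibre_of_total (hF : FibSite.IsPreFibSite F J) (P : (∫ᶜ F)ᵒᵖ ⥤ Type w)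
    (hP : Presieve.IsSheaf (FibSite.totalTopology F J) P) (S : 𝒮) :
    Presieve.IsSheaf (J S) ((ι F S).op ⋙ P) := by
  rw [← Presieve.isSheaf_comp_uliftFunctor_iff.{w, max u₂ v₂}]
  have hP' : Presieve.IsSheaf (FibSite.totalTopology F J) (P ⋙ uliftFunctor.{max u₂ v₂, w}) :=
    (Presieve.isSheaf_comp_uliftFunctor_iff _).2 hP
  intro U R hR
  exact isSheafFor_fibre.{w} F J hF (P ⋙ uliftFunctor.{max u₂ v₂, w}) hP' ⟨S, U⟩ R hR

theorem ι_map_injective (S : 𝒮) {V U : F.obj ⟨op S⟩} (r₁ r₂ : V ⟶ U)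
    (h : (ι F S).map r₁ = (ι F S).map r₂) : r₁ = r₂ := by
  simpa [cancel_mono, ← Cat.Hom.toNatIso_hom, ← Cat.Hom.toNatIso_inv] using ((Hom.ext_iff _ _).mp h).2

theorem exists_of_base_eq_id (S : 𝒮) {V V' : F.obj ⟨op S⟩} (a : (ι F S).obj V ⟶ (ι F S).obj V')
    (ha : a.base = 𝟙 S) : ∃ a₀ : V ⟶ V', a = (ι F S).map a₀ := by
  refine ⟨a.fiber ≫ eqToHom (by rw [ha]; rfl) ≫ (F.mapId ⟨op S⟩).hom.toNatTrans.app V', ?_⟩
  refine Hom.ext _ _ ?_ ?_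
  · exact ha
  · simp [← Cat.Hom₂.comp_app]


end Groth.Agent.Lib.Helper27.FibSiteAux
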