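import Groth.Agent.Lib.Helper27.FibSiteTerm2

/-! The restriction to a fibre of the extension from another fibre is a coproduct (helper27). -/

set_option autoImplicit false
set_option backward.isDefEq.respectTransparency false
set_option backward.isDefEq.respectTransparency.types false

universe u

open CategoryTheory CategoryTheory.Limits Opposite Pseudofunctor Pseudofunctor.CoGrothendieck Bicategory

namespace Groth.Agent.Lib.Helper27.FibSiteAux

variable {𝒮 : Type u} [SmallCategory 𝒮] (F : Pseudofunctor (LocallyDiscrete 𝒮ᵒᵖ) Cat.{u, u})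
  (J : FibSite.Topologies F)

section Fan

variable {i j : 𝒮}
  [(ι F i).IsCocontinuous (J i) (FibSite.totalTopology F J)]
  [(ι F j).IsContinuous (J j) (FibSite.totalTopology F J)]
  [∀ f : i ⟶ j, (FibSite.invImage F f).IsContinuous (J j) (J i)]

/-- The fan of projections `restr_j (coextend_i a) ⟶ (f^*)_* a` is a limit. -/
noncomputable def isLimitFanProjHom (a : Sheaf (J i) (Type u)) :
    IsLimit (Fan.mk ((FibSite.restr F J (Type u) j).obj ((FibSite.coextend F J (Type u) i).obj a))
      (fun f : i ⟶ j => projHom F J f a)) := by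
  have hpt : (Functor.RightExtension.mk ((ι F i).op.ran.obj a.obj)
      ((ι F i).op.ranCounit.app a.obj)).IsPointwiseRightKanExtension :=
    Functor.isPointwiseRightKanExtensionOfIsRightKanExtension _ _
  refine isLimitOfReflects (sheafToPresheaf (J j) (Type u)) ?_
  refine evaluationJointlyReflectsLimits _ (fun V' => ?_)
  refine ((Types.isLimit_iff _).2 ?_).some
  intro s hs
  obtain ⟨x, hx, hxu⟩ := existsUnique_of_family F a.obj _ _ V'.unop hpt (fun f => s ⟨f⟩)
  refine ⟨x, fun ⟨f⟩ => hx f, fun y hy => hxu y (fun f => hy ⟨f⟩)⟩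

end Fan

section Cofan

theorem restr_extend_cofan (hF : FibSite.IsPreFibSite F J) (i j : 𝒮)
    [∀ S : 𝒮, (ι F S).IsContinuous (J S) (FibSite.totalTopology F J)]
    [((ι F i).sheafPushforwardContinuous (Type u) (J i)
      (FibSite.totalTopology F J)).IsRightAdjoint]
    [∀ (R S : 𝒮) (f : R ⟶ S), (FibSite.invImage F f).IsContinuous (J S) (J R)]
    [∀ (R S : 𝒮) (f : R ⟶ S),
      ((FibSite.invImage F f).sheafPushforwardContinuous (Type u) (J S) (J R)).IsRightAdjoint]
    (a : Sheaf (J i) (Type u)) :
    ∃ c : Cofan fun f : j ⟶ i =>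
        ((FibSite.invImage F f).sheafPullback (Type u) (J i) (J j)).obj a,
      Nonempty (IsColimit c) ∧
        Nonempty (c.pt ≅ (FibSite.restr F J (Type u) j).obj
          ((FibSite.extend F J (Type u) i).obj a)) := by
  haveI : (ι F j).IsCocontinuous (J j) (FibSite.totalTopology F J) := isCocontinuous_ι F J j hF
  let L := FibSite.extend F J (Type u) i ⋙ FibSite.restr F J (Type u) j
  let G := FibSite.coextend F J (Type u) j ⋙ FibSite.restr F J (Type u) i
  let adj₁ : L ⊣ G :=
    ((ι F i).sheafAdjunctionContinuous (Type u) (J i) (FibSite.totalTopology F J)).comp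
      ((ι F j).sheafAdjunctionCocontinuous (Type u) (J j) (FibSite.totalTopology F J))
  let adjf : ∀ f : j ⟶ i, (FibSite.invImage F f).sheafPullback (Type u) (J i) (J j) ⊣
      (FibSite.invImage F f).sheafPushforwardContinuous (Type u) (J i) (J j) :=
    fun f => (FibSite.invImage F f).sheafAdjunctionContinuous (Type u) (J i) (J j)
  let inj : ∀ f : j ⟶ i,
      ((FibSite.invImage F f).sheafPullback (Type u) (J i) (J j)).obj a ⟶ L.obj a :=
    fun f => ((adjf f).homEquiv a (L.obj a)).symm (adj₁.unit.app a ≫ projHom F J f (L.obj a))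
  have key : ∀ (b : Sheaf (J j) (Type u)) (m : L.obj a ⟶ b) (f : j ⟶ i),
      inj f ≫ m = ((adjf f).homEquiv a b).symm (adj₁.homEquiv a b m ≫ projHom F J f b) := by
    intro b m f
    rw [← Adjunction.homEquiv_naturality_right_symm]
    congr 1
    rw [Category.assoc, ← projHom_naturality, ← Category.assoc, Adjunction.homEquiv_unit]
    rfl
  refine ⟨Cofan.mk (L.obj a) inj, ⟨Cofan.IsColimit.mk _ (fun s => (adj₁.homEquiv a s.pt).symm
    (Fan.IsLimit.lift (isLimitFanProjHom F J s.pt)
      (fun f => (adjf f).homEquiv a s.pt (s.inj f)))) ?_ ?_⟩, ⟨Iso.refl _⟩⟩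
  · intro s f
    change inj f ≫ _ = s.inj f
    have hfac : Fan.IsLimit.lift (isLimitFanProjHom F J s.pt)
        (fun f => (adjf f).homEquiv a s.pt (s.inj f)) ≫ projHom F J f s.pt =
        (adjf f).homEquiv a s.pt (s.inj f) := Fan.IsLimit.fac _ _ f
    rw [key, Equiv.apply_symm_apply, hfac, Equiv.symm_apply_apply]
  · intro s m hm
    apply (adj₁.homEquiv a s.pt).injective
    rw [Equiv.apply_symm_apply]
    apply Fan.IsLimit.hom_ext (isLimitFanProjHom F J s.pt)
    intro f
    have hfac : Fan.IsLimit.lift (isLimitFanProjHom F J s.pt)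
        (fun f => (adjf f).homEquiv a s.pt (s.inj f)) ≫ projHom F J f s.pt =
        (adjf f).homEquiv a s.pt (s.inj f) := Fan.IsLimit.fac _ _ f
    have h1 : inj f ≫ m = s.inj f := hm f
    rw [key] at h1
    refine Eq.trans ?_ hfac.symm
    rw [← h1, Equiv.apply_symm_apply]
    rfl

end Cofan

end Groth.Agent.Lib.Helper27.FibSiteAux
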