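import Groth.Agent.Lib.Helper27.FibSiteClean

/-! Left Kan extension along a fibre inclusion and bicovering morphisms (helper27). -/

set_option autoImplicit false
set_option backward.isDefEq.respectTransparency false
set_option backward.isDefEq.respectTransparency.types false

universe u

open CategoryTheory CategoryTheory.Limits Opposite Pseudofunctor Pseudofunctor.CoGrothendieck Bicategory

namespace Groth.Agent.Lib.Helper27.FibSiteAux

variable {𝒮 : Type u} [SmallCategory 𝒮] (F : Pseudofunctor (LocallyDiscrete 𝒮ᵒᵖ) Cat.{u, u})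
  (i : 𝒮)

section TestPresheaf

variable (R : (F.obj ⟨op i⟩)ᵒᵖ ⥤ Type u)

/-- The test presheaf on the total category used to show the unit of `lan` is injective. -/
def testPsh : (∫ᶜ F)ᵒᵖ ⥤ Type u where
  obj X := ∀ (W : F.obj ⟨op i⟩) (_ : (ι F i).obj W ⟶ X.unop), Set (R.obj (op W))
  map h := TypeCat.ofHom (fun z W g => z W (g ≫ h.unop))
  map_id X := by
    ext z W g y
    change y ∈ z W (g ≫ 𝟙 _) ↔ y ∈ z W g
    rw [Category.comp_id]
  map_comp h h' := by
    ext z W g y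
    change y ∈ z W (g ≫ (h'.unop ≫ h.unop)) ↔ y ∈ z W ((g ≫ h'.unop) ≫ h.unop)
    rw [Category.assoc]

/-- The test map `R ⟶ ι^* testPsh`. -/
def testMap : R ⟶ (ι F i).op ⋙ testPsh F i R where
  app V' := TypeCat.ofHom (fun x W g =>
    {y | ∃ g₀ : W ⟶ V'.unop, (ι F i).map g₀ = g ∧ y = R.map g₀.op x})
  naturality V₁ V₂ m := by
    ext x
    funext W g
    change {y | ∃ g₀ : W ⟶ V₂.unop, (ι F i).map g₀ = g ∧ y = R.map g₀.op (R.map m x)} =
      {y | ∃ g₁ : W ⟶ V₁.unop, (ι F i).map g₁ = g ≫ (ι F i).map m.unop ∧ y = R.map g₁.op x}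
    ext y
    constructor
    · rintro ⟨g₀, rfl, rfl⟩
      refine ⟨g₀ ≫ m.unop, (ι F i).map_comp _ _, ?_⟩
      rw [op_comp, Functor.map_comp_apply]
      rfl
    · rintro ⟨g₁, hg₁, rfl⟩
      have hb : g.base = 𝟙 i := by
        have h1 : 𝟙 i = g.base ≫ 𝟙 i := congrArg Hom.base hg₁
        exact (h1.trans (Category.comp_id _)).symm
      obtain ⟨g₀, rfl⟩ := exists_of_base_eq_id F i g hb
      have h2 : g₁ = g₀ ≫ m.unop := by
        apply ι_map_injective F i
        rw [hg₁, Functor.map_comp]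
      refine ⟨g₀, rfl, ?_⟩
      rw [h2, op_comp, Functor.map_comp_apply]
      rfl

theorem testMap_injective (V' : (F.obj ⟨op i⟩)ᵒᵖ) (x y : R.obj V')
    (h : (testMap F i R).app V' x = (testMap F i R).app V' y) : x = y := by
  have h1 := congrFun (congrFun h V'.unop) (𝟙 _)
  have hx : x ∈ {z | ∃ g₀ : V'.unop ⟶ V'.unop, (ι F i).map g₀ = 𝟙 _ ∧ z = R.map g₀.op x} :=
    ⟨𝟙 _, (ι F i).map_id _, by simp⟩
  have h2 : x ∈ {z | ∃ g₀ : V'.unop ⟶ V'.unop, (ι F i).map g₀ = 𝟙 _ ∧ z = R.map g₀.op y} := by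
    have h3 : {z | ∃ g₀ : V'.unop ⟶ V'.unop, (ι F i).map g₀ = 𝟙 _ ∧ z = R.map g₀.op x} =
      {z | ∃ g₀ : V'.unop ⟶ V'.unop, (ι F i).map g₀ = 𝟙 _ ∧ z = R.map g₀.op y} := h1
    rw [← h3]
    exact hx
  obtain ⟨g₀, hg₀, hxy⟩ := h2
  have : g₀ = 𝟙 _ := by
    apply ι_map_injective F i
    exact hg₀.trans ((ι F i).map_id _).symm
  subst this
  simpa using hxy

end TestPresheaf

section Lan

variable (R : (F.obj ⟨op i⟩)ᵒᵖ ⥤ Type u)

/-- The unit of the left Kan extension along the fibre inclusion. -/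
noncomputable abbrev lanη : R ⟶ (ι F i).op ⋙ (ι F i).op.lan.obj R := (ι F i).op.lanUnit.app R

theorem lanη_injective (V' : (F.obj ⟨op i⟩)ᵒᵖ) (x y : R.obj V')
    (h : (lanη F i R).app V' x = (lanη F i R).app V' y) : x = y := by
  have hfac : lanη F i R ≫ Functor.whiskerLeft (ι F i).op
      (((ι F i).op.lan.obj R).descOfIsLeftKanExtension (lanη F i R) (testPsh F i R)
        (testMap F i R)) = testMap F i R :=
    Functor.descOfIsLeftKanExtension_fac _ _ _ _
  apply testMap_injective F i R V'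
  rw [← hfac]
  change (((ι F i).op.lan.obj R).descOfIsLeftKanExtension (lanη F i R) (testPsh F i R)
      (testMap F i R)).app _ ((lanη F i R).app V' x) =
    (((ι F i).op.lan.obj R).descOfIsLeftKanExtension (lanη F i R) (testPsh F i R)
      (testMap F i R)).app _ ((lanη F i R).app V' y)
  rw [h]

theorem lanη_naturality {R R' : (F.obj ⟨op i⟩)ᵒᵖ ⥤ Type u} (u : R ⟶ R')
    (V' : (F.obj ⟨op i⟩)ᵒᵖ) (x : R.obj V') :
    ((ι F i).op.lan.map u).app ((ι F i).op.obj V') ((lanη F i R).app V' x) =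
      (lanη F i R').app V' (u.app V' x) := by
  have h := (ι F i).op.lanUnit.naturality u
  have h1 := congrArg (fun t => t.app V' x) h
  exact h1.symm

theorem lan_jointly_surjective (X : (∫ᶜ F)ᵒᵖ) (t : ((ι F i).op.lan.obj R).obj X) :
    ∃ (W : (F.obj ⟨op i⟩)ᵒᵖ) (g : (ι F i).op.obj W ⟶ X) (x : R.obj W),
      ((ι F i).op.lan.obj R).map g ((lanη F i R).app W x) = t := by
  have hpt := Functor.isPointwiseLeftKanExtensionOfIsLeftKanExtension
    ((ι F i).op.lan.obj R) (lanη F i R)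
  obtain ⟨d, y, hy⟩ := Types.jointly_surjective_of_isColimit (hpt X) t
  exact ⟨d.left, d.hom, y, hy⟩

variable (U : F.obj ⟨op i⟩)

/-- The map `h_U ⟶ ι^* h_{ιU}`. -/
def yonedaMap : yoneda.obj U ⟶ (ι F i).op ⋙ yoneda.obj ((ι F i).obj U) where
  app V' := TypeCat.ofHom (fun s => (ι F i).map s)
  naturality V₁ V₂ m := by
    ext s
    change (ι F i).map (m.unop ≫ s) = (ι F i).map m.unop ≫ (ι F i).map s
    exact (ι F i).map_comp _ _

/-- The comparison `lan h_U ⟶ h_{ιU}`. -/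
noncomputable def lanYoneda :
    (ι F i).op.lan.obj (yoneda.obj U) ⟶ yoneda.obj ((ι F i).obj U) :=
  ((ι F i).op.lan.obj (yoneda.obj U)).descOfIsLeftKanExtension (lanη F i (yoneda.obj U)) _
    (yonedaMap F i U)

theorem lanYoneda_η (V' : (F.obj ⟨op i⟩)ᵒᵖ) (s : V'.unop ⟶ U) :
    (lanYoneda F i U).app ((ι F i).op.obj V') ((lanη F i (yoneda.obj U)).app V' s) =
      (ι F i).map s := by
  have hfac : lanη F i (yoneda.obj U) ≫ Functor.whiskerLeft (ι F i).op (lanYoneda F i U) =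
      yonedaMap F i U := Functor.descOfIsLeftKanExtension_fac _ _ _ _
  have h1 := congrArg (fun t => t.app V' s) hfac
  exact h1

end Lan

end Groth.Agent.Lib.Helper27.FibSiteAux
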