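import Groth.Agent.Lib.Helper27.FibSiteLan

/-! Bicovering morphisms and left Kan extension along a fibre inclusion (helper27). -/

set_option autoImplicit false
set_option backward.isDefEq.respectTransparency false
set_option backward.isDefEq.respectTransparency.types false

universe u

open CategoryTheory CategoryTheory.Limits Opposite Pseudofunctor Pseudofunctor.CoGrothendieck Bicategory

namespace Groth.Agent.Lib.Helper27.FibSiteAux

variable {𝒮 : Type u} [SmallCategory 𝒮] (F : Pseudofunctor (LocallyDiscrete 𝒮ᵒᵖ) Cat.{u, u})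
  (J : FibSite.Topologies F) (hF : FibSite.IsPreFibSite F J) (i : 𝒮)

include hF in
theorem isContinuous_ι : (ι F i).IsContinuous (J i) (FibSite.totalTopology F J) :=
  ⟨fun G => isSheaf_fibre_of_total F J hF G.obj ((isSheaf_iff_isSheaf_of_type _ _).1 G.property) i⟩

include hF in
theorem W_lan_of_W {R R' : (F.obj ⟨op i⟩)ᵒᵖ ⥤ Type u} (u : R ⟶ R') (h : (J i).W u) :
    (FibSite.totalTopology F J).W (((ι F i).op.lan (H := Type u)).map u) := by
  haveI := isContinuous_ι F J hF i
  exact Functor.W_map_of_adjunction_of_isContinuous (J i) (FibSite.totalTopology F J) (ι F i)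
    ((ι F i).op.lan (H := Type u)) ((ι F i).op.lanAdjunction (Type u)) u h

theorem surj_aux {R : (F.obj ⟨op i⟩)ᵒᵖ ⥤ Type u} {U : F.obj ⟨op i⟩} (u : R ⟶ yoneda.obj U)
    {V V'' : F.obj ⟨op i⟩} (s : V ⟶ U) (r : V'' ⟶ V)
    (t : ((ι F i).op.lan.obj R).obj (op (⟨i, V''⟩ : ∫ᶜ F)))
    (ht : ((ι F i).op.lan.map u).app (op (⟨i, V''⟩ : ∫ᶜ F)) t =
      ((ι F i).op.lan.obj (yoneda.obj U)).map (ιm F i r).op
        ((lanη F i (yoneda.obj U)).app (op V) s)) :
    ∃ t' : R.obj (op V''), u.app (op V'') t' = r ≫ s := by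
  obtain ⟨W, g, x, rfl⟩ := lan_jointly_surjective F i R _ t
  let g' : (⟨i, V''⟩ : ∫ᶜ F) ⟶ ⟨i, W.unop⟩ := g.unop
  have e1 : ((ι F i).op.lan.map u).app (op (⟨i, V''⟩ : ∫ᶜ F))
      (((ι F i).op.lan.obj R).map g ((lanη F i R).app W x)) =
      ((ι F i).op.lan.obj (yoneda.obj U)).map g
        (((ι F i).op.lan.map u).app ((ι F i).op.obj W) ((lanη F i R).app W x)) :=
    NatTrans.naturality_apply ((ι F i).op.lan.map u) g _
  have e2 : ((ι F i).op.lan.map u).app ((ι F i).op.obj W) ((lanη F i R).app W x) =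
      (lanη F i (yoneda.obj U)).app W (u.app W x) := lanη_naturality F i u W x
  have e3 : (lanYoneda F i U).app (op (⟨i, V''⟩ : ∫ᶜ F))
      (((ι F i).op.lan.obj (yoneda.obj U)).map g
        ((lanη F i (yoneda.obj U)).app W (u.app W x))) =
      (yoneda.obj ((ι F i).obj U)).map g ((lanYoneda F i U).app ((ι F i).op.obj W)
        ((lanη F i (yoneda.obj U)).app W (u.app W x))) :=
    NatTrans.naturality_apply (lanYoneda F i U) g _
  have e4 : (lanYoneda F i U).app ((ι F i).op.obj W)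
      ((lanη F i (yoneda.obj U)).app W (u.app W x)) = (ι F i).map (u.app W x) :=
    lanYoneda_η F i U W (u.app W x)
  have hL : (lanYoneda F i U).app (op (⟨i, V''⟩ : ∫ᶜ F))
      (((ι F i).op.lan.map u).app (op (⟨i, V''⟩ : ∫ᶜ F))
        (((ι F i).op.lan.obj R).map g ((lanη F i R).app W x))) =
      g' ≫ (ι F i).map (u.app W x) := by
    refine (congrArg ((lanYoneda F i U).app (op (⟨i, V''⟩ : ∫ᶜ F))) e1).trans ?_
    refine (congrArg (fun z => (lanYoneda F i U).app (op (⟨i, V''⟩ : ∫ᶜ F))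
      (((ι F i).op.lan.obj (yoneda.obj U)).map g z)) e2).trans ?_
    refine e3.trans ?_
    refine (congrArg ((yoneda.obj ((ι F i).obj U)).map g) e4).trans ?_
    rfl
  have e5 : (lanYoneda F i U).app (op (⟨i, V''⟩ : ∫ᶜ F))
      (((ι F i).op.lan.obj (yoneda.obj U)).map (ιm F i r).op
        ((lanη F i (yoneda.obj U)).app (op V) s)) =
      (yoneda.obj ((ι F i).obj U)).map (ιm F i r).op
        ((lanYoneda F i U).app ((ι F i).op.obj (op V))
          ((lanη F i (yoneda.obj U)).app (op V) s)) :=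
    NatTrans.naturality_apply (lanYoneda F i U) (ιm F i r).op _
  have e6 : (lanYoneda F i U).app ((ι F i).op.obj (op V))
      ((lanη F i (yoneda.obj U)).app (op V) s) = (ι F i).map s :=
    lanYoneda_η F i U (op V) s
  have hR : (lanYoneda F i U).app (op (⟨i, V''⟩ : ∫ᶜ F))
      (((ι F i).op.lan.obj (yoneda.obj U)).map (ιm F i r).op
        ((lanη F i (yoneda.obj U)).app (op V) s)) = (ι F i).map (r ≫ s) := by
    refine e5.trans ?_
    refine (congrArg ((yoneda.obj ((ι F i).obj U)).map (ιm F i r).op) e6).trans ?_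
    exact ((ι F i).map_comp r s).symm
  have hc : g' ≫ (ι F i).map (u.app W x) = (ι F i).map (r ≫ s) :=
    hL.symm.trans ((congrArg ((lanYoneda F i U).app (op (⟨i, V''⟩ : ∫ᶜ F))) ht).trans hR)
  have hb : g'.base = 𝟙 i := by
    have h1 : g'.base ≫ 𝟙 i = 𝟙 i := congrArg Hom.base hc
    exact (Category.comp_id _).symm.trans h1
  obtain ⟨g₀, hg₀⟩ := exists_of_base_eq_id F i (V := V'') (V' := W.unop) g' hb
  have hcomp : g₀ ≫ u.app W x = r ≫ s := by
    apply ι_map_injective F i
    rw [Functor.map_comp, ← hg₀]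
    exact hc
  refine ⟨R.map g₀.op x, ?_⟩
  rw [NatTrans.naturality_apply u g₀.op x]
  exact hcomp

include hF in
theorem W_of_W_lan {R : (F.obj ⟨op i⟩)ᵒᵖ ⥤ Type u} {U : F.obj ⟨op i⟩} (u : R ⟶ yoneda.obj U)
    (h : (FibSite.totalTopology F J).W (((ι F i).op.lan (H := Type u)).map u)) :
    (J i).W u := by
  rw [GrothendieckTopology.W_iff_isLocallyBijective] at h ⊢
  obtain ⟨hinj, hsurj⟩ := h
  refine ⟨⟨fun {V'} x y hxy => ?_⟩, ⟨fun {V} s => ?_⟩⟩
  · have h1 : ((ι F i).op.lan.map u).app _ ((lanη F i R).app V' x) =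
        ((ι F i).op.lan.map u).app _ ((lanη F i R).app V' y) := by
      rw [lanη_naturality, lanη_naturality, hxy]
    have h2 := hinj.equalizerSieve_mem _ _ h1
    rw [mem_totalTopology_iff' F J hF] at h2
    obtain ⟨R₀, hR₀, hsub⟩ := h2
    refine (J i).superset_covering ?_ hR₀
    intro V'' r hr
    have h3 : ((ι F i).op.lan.obj R).map (ιm F i r).op ((lanη F i R).app V' x) =
        ((ι F i).op.lan.obj R).map (ιm F i r).op ((lanη F i R).app V' y) := hsub r hr
    have hnat : ∀ z : R.obj V', ((ι F i).op.lan.obj R).map (ιm F i r).op ((lanη F i R).app V' z) =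
        (lanη F i R).app (op V'') (R.map r.op z) :=
      fun z => (NatTrans.naturality_apply (lanη F i R) r.op z).symm
    change R.map r.op x = R.map r.op y
    apply lanη_injective F i R
    rw [← hnat, ← hnat]
    exact h3
  · have h2 := hsurj.imageSieve_mem ((lanη F i (yoneda.obj U)).app (op V) s)
    rw [mem_totalTopology_iff' F J hF] at h2
    obtain ⟨R₀, hR₀, hsub⟩ := h2
    refine (J i).superset_covering ?_ hR₀
    intro V'' r hr
    obtain ⟨t, ht⟩ := hsub r hr
    exact surj_aux F i u s r t ht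

include hF in
theorem W_iff_W_lan {R : (F.obj ⟨op i⟩)ᵒᵖ ⥤ Type u} {U : F.obj ⟨op i⟩} (u : R ⟶ yoneda.obj U) :
    (J i).W u ↔ (FibSite.totalTopology F J).W (((ι F i).op.lan (H := Type u)).map u) :=
  ⟨W_lan_of_W F J hF i u, W_of_W_lan F J hF i u⟩

end Groth.Agent.Lib.Helper27.FibSiteAux
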