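import Groth.Agent.Lib.Helper27.FibSiteRan

/-! Converse: the product property characterises pointwise right Kan extensions along a fibre
inclusion (helper27). -/

set_option autoImplicit false
set_option backward.isDefEq.respectTransparency false
set_option backward.isDefEq.respectTransparency.types false

universe w v₂ u₂ v₁ u₁

open CategoryTheory CategoryTheory.Limits Opposite Pseudofunctor Pseudofunctor.CoGrothendieck Bicategory

namespace Groth.Agent.Lib.Helper27.FibSiteAux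

variable {𝒮 : Type u₁} [Category.{v₁} 𝒮] (F : Pseudofunctor (LocallyDiscrete 𝒮ᵒᵖ) Cat.{v₂, u₂})

variable {i : 𝒮} (P : (F.obj ⟨op i⟩)ᵒᵖ ⥤ Type w) (E : (∫ᶜ F)ᵒᵖ ⥤ Type w)
  (cu : (ι F i).op ⋙ E ⟶ P)

theorem isLimit_coneAt_of_existsUnique {j : 𝒮} (V : F.obj ⟨op j⟩)
    (h : ∀ (t : ∀ f : i ⟶ j, P.obj (op ((FibSite.invImage F f).obj V))),
      ∃! x : E.obj (op (⟨j, V⟩ : ∫ᶜ F)), ∀ f, ranProj F P E cu V f x = t f) :
    Nonempty (IsLimit ((Functor.RightExtension.mk E cu).coneAt (op (⟨j, V⟩ : ∫ᶜ F)))) := by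
  rw [Types.isLimit_iff]
  intro s hs
  obtain ⟨x, hx, hxu⟩ := h (fun f =>
    s (StructuredArrow.mk (Y := op ((FibSite.invImage F f).obj V)) (cart F f V).op))
  refine ⟨x, fun d => ?_, fun y hy => hxu y (fun f => ?_)⟩
  · rw [coneAt_app, hx]
    -- the morphism of structured arrows from the cartesian one to `d`
    let g : (⟨i, d.right.unop⟩ : ∫ᶜ F) ⟶ ⟨j, V⟩ := d.hom.unop
    have hd : d.hom = (cart F g.base V).op ≫ (ι F i).op.map g.fiber.op :=
      congrArg Quiver.Hom.op (hom_eq F g)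
    let m : StructuredArrow.mk (Y := op ((FibSite.invImage F g.base).obj V)) (cart F g.base V).op ⟶
        d := StructuredArrow.homMk g.fiber.op hd.symm
    exact hs m
  · exact hy (StructuredArrow.mk (Y := op ((FibSite.invImage F f).obj V)) (cart F f V).op)

theorem isPointwise_of_existsUnique
    (h : ∀ (j : 𝒮) (V : F.obj ⟨op j⟩)
      (t : ∀ f : i ⟶ j, P.obj (op ((FibSite.invImage F f).obj V))),
      ∃! x : E.obj (op (⟨j, V⟩ : ∫ᶜ F)), ∀ f, ranProj F P E cu V f x = t f) :
    Nonempty ((Functor.RightExtension.mk E cu).IsPointwiseRightKanExtension) := by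
  refine ⟨fun Y => ?_⟩
  obtain ⟨⟨j, V⟩⟩ := Y
  exact (isLimit_coneAt_of_existsUnique F P E cu V (h j V)).some

theorem isRightKanExtension_of_existsUnique
    (h : ∀ (j : 𝒮) (V : F.obj ⟨op j⟩)
      (t : ∀ f : i ⟶ j, P.obj (op ((FibSite.invImage F f).obj V))),
      ∃! x : E.obj (op (⟨j, V⟩ : ∫ᶜ F)), ∀ f, ranProj F P E cu V f x = t f) :
    E.IsRightKanExtension cu :=
  (isPointwise_of_existsUnique F P E cu h).some.isRightKanExtension

end Groth.Agent.Lib.Helper27.FibSiteAux
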