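import Groth.Agent.Lib.Helper27.FibSiteExt
import Groth.Agent.Lib.Helper27.FibSiteRan3

/-! The functor between total categories induced by a strong transformation (helper27). -/

set_option autoImplicit false
set_option backward.isDefEq.respectTransparency false
set_option backward.isDefEq.respectTransparency.types false

universe u

open CategoryTheory CategoryTheory.Limits Opposite Pseudofunctor Pseudofunctor.CoGrothendieck Bicategory
open scoped CategoryTheory.Pseudofunctor.StrongTrans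

namespace Groth.Agent.Lib.Helper27.FibSiteAux

variable {𝒮 : Type u} [SmallCategory 𝒮] (F G : Pseudofunctor (LocallyDiscrete 𝒮ᵒᵖ) Cat.{u, u})
  (α : G ⟶ F)

theorem map_ι_key (S : 𝒮) (W : G.obj ⟨op S⟩) :
    (α.app ⟨op S⟩).toFunctor.map ((G.mapId ⟨op S⟩).inv.toNatTrans.app W) ≫
      (α.naturality (𝟙 (⟨op S⟩ : LocallyDiscrete 𝒮ᵒᵖ))).hom.toNatTrans.app W =
    (F.mapId ⟨op S⟩).inv.toNatTrans.app ((α.app ⟨op S⟩).toFunctor.obj W) := by
  simp [Cat.Hom.comp_toFunctor, StrongTrans.naturality_id_hom_app, Cat.Hom.id_toFunctor,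
    ← Category.assoc, ← Functor.map_comp, ← Cat.Hom₂.comp_app]

theorem map_ι_map (S : 𝒮) {W' W : G.obj ⟨op S⟩} (r : W' ⟶ W) :
    (CoGrothendieck.map α).map ((ι G S).map r) =
      (ι F S).map ((α.app ⟨op S⟩).toFunctor.map r) := by
  refine Hom.ext _ _ ?_ ?_
  · simp
  · simp
    exact congrArg (fun t => (α.app ⟨op S⟩).toFunctor.map r ≫ t) (map_ι_key F G α S W)

/-- The square `ι ⋙ Φ ≅ α_S ⋙ ι`. -/
noncomputable def squareIso (S : 𝒮) :
    ι G S ⋙ CoGrothendieck.map α ≅ (α.app ⟨op S⟩).toFunctor ⋙ ι F S :=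
  NatIso.ofComponents (fun W => Iso.refl _) (fun {W' W} r => by
    change (CoGrothendieck.map α).map ((ι G S).map r) ≫ 𝟙 _ =
      𝟙 _ ≫ (ι F S).map ((α.app ⟨op S⟩).toFunctor.map r)
    rw [Category.comp_id, Category.id_comp, map_ι_map])

/-- The component of the naturality isomorphism. -/
noncomputable def natIso {j k : 𝒮} (f : j ⟶ k) (V : G.obj ⟨op k⟩) :
    (α.app ⟨op j⟩).toFunctor.obj ((FibSite.invImage G f).obj V) ≅
      (FibSite.invImage F f).obj ((α.app ⟨op k⟩).toFunctor.obj V) :=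
  (Cat.Hom.toNatIso (α.naturality f.op.toLoc)).app V

theorem map_cart {j k : 𝒮} (f : j ⟶ k) (V : G.obj ⟨op k⟩) :
    (CoGrothendieck.map α).map (cart G f V) =
      ιm F j (natIso F G α f V).hom ≫ cart F f ((α.app ⟨op k⟩).toFunctor.obj V) := by
  rw [← homMk_eq]
  refine Hom.ext _ _ ?_ ?_
  · rfl
  · simp [cart, homMk, natIso]

section BaseChange

variable {j : 𝒮} (b : (F.obj ⟨op j⟩)ᵒᵖ ⥤ Type u) (E : (∫ᶜ F)ᵒᵖ ⥤ Type u)
  (cu : (ι F j).op ⋙ E ⟶ b)

/-- The counit of the base-changed extension. -/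
def cuMap : (ι G j).op ⋙ (CoGrothendieck.map α).op ⋙ E ⟶
    (α.app ⟨op j⟩).toFunctor.op ⋙ b where
  app W' := cu.app (op ((α.app ⟨op j⟩).toFunctor.obj W'.unop))
  naturality W₁ W₂ m := by
    have h := cu.naturality ((α.app ⟨op j⟩).toFunctor.map m.unop).op
    change E.map ((CoGrothendieck.map α).map ((ι G j).map m.unop)).op ≫ cu.app _ =
      cu.app _ ≫ b.map ((α.app ⟨op j⟩).toFunctor.map m.unop).op
    rw [map_ι_map]
    exact h

theorem ranProj_map {k : 𝒮} (V : G.obj ⟨op k⟩) (f : j ⟶ k)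
    (x : E.obj (op (⟨k, (α.app ⟨op k⟩).toFunctor.obj V⟩ : ∫ᶜ F))) :
    ranProj G ((α.app ⟨op j⟩).toFunctor.op ⋙ b) ((CoGrothendieck.map α).op ⋙ E)
      (cuMap F G α b E cu) V f x =
    b.map (natIso F G α f V).hom.op
      (ranProj F b E cu ((α.app ⟨op k⟩).toFunctor.obj V) f x) := by
  change cu.app _ (E.map ((CoGrothendieck.map α).map (cart G f V)).op x) = _
  have h2 : E.map ((CoGrothendieck.map α).map (cart G f V)).op x =
      E.map (ιm F j (natIso F G α f V).hom ≫ cart F f ((α.app ⟨op k⟩).toFunctor.obj V)).op x :=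
    congrArg (fun m => E.map (Quiver.Hom.op m) x) (map_cart F G α f V)
  rw [h2, op_comp, Functor.map_comp_apply]
  exact cu_ιm F b E cu _ _

theorem existsUnique_map
    (hpt : (Functor.RightExtension.mk E cu).IsPointwiseRightKanExtension)
    {k : 𝒮} (V : G.obj ⟨op k⟩)
    (t' : ∀ f : j ⟶ k, ((α.app ⟨op j⟩).toFunctor.op ⋙ b).obj
      (op ((FibSite.invImage G f).obj V))) :
    ∃! x : ((CoGrothendieck.map α).op ⋙ E).obj (op (⟨k, V⟩ : ∫ᶜ G)),
      ∀ f, ranProj G ((α.app ⟨op j⟩).toFunctor.op ⋙ b) ((CoGrothendieck.map α).op ⋙ E)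
        (cuMap F G α b E cu) V f x = t' f := by
  have hinv : ∀ (f : j ⟶ k) (z : b.obj (op ((α.app ⟨op j⟩).toFunctor.obj
      ((FibSite.invImage G f).obj V)))),
      b.map (natIso F G α f V).hom.op (b.map (natIso F G α f V).inv.op z) = z := by
    intro f z
    rw [← Functor.map_comp_apply, ← op_comp, Iso.hom_inv_id]
    simp
  have hinv' : ∀ (f : j ⟶ k) (z : b.obj (op ((FibSite.invImage F f).obj
      ((α.app ⟨op k⟩).toFunctor.obj V)))),
      b.map (natIso F G α f V).inv.op (b.map (natIso F G α f V).hom.op z) = z := by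
    intro f z
    rw [← Functor.map_comp_apply, ← op_comp, Iso.inv_hom_id]
    simp
  obtain ⟨x, hx, hxu⟩ := existsUnique_of_family F b E cu ((α.app ⟨op k⟩).toFunctor.obj V) hpt
    (fun f => b.map (natIso F G α f V).inv.op (t' f))
  refine ⟨x, fun f => ?_, fun y hy => hxu y (fun f => ?_)⟩
  · rw [ranProj_map, hx]
    exact hinv f _
  · have h1 := hy f
    rw [ranProj_map] at h1
    rw [← h1]
    exact (hinv' f _).symm

theorem isRightKanExtension_map
    (hpt : (Functor.RightExtension.mk E cu).IsPointwiseRightKanExtension) :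
    ((CoGrothendieck.map α).op ⋙ E).IsRightKanExtension (cuMap F G α b E cu) :=
  isRightKanExtension_of_existsUnique G _ _ _ (fun _ V t' => existsUnique_map F G α b E cu hpt V t')

end BaseChange

end Groth.Agent.Lib.Helper27.FibSiteAux
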