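import Groth.Agent.Lib.Helper27.FibSiteMap

/-! The functor between total categories induced by a morphism of fibred sites is a morphism of
sites (helper27). -/

set_option autoImplicit false
set_option backward.isDefEq.respectTransparency false
set_option backward.isDefEq.respectTransparency.types false

universe u

open CategoryTheory CategoryTheory.Limits Opposite Pseudofunctor Pseudofunctor.CoGrothendieck Bicategory
open scoped CategoryTheory.Pseudofunctor.StrongTrans

namespace Groth.Agent.Lib.Helper27.FibSiteAux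

variable {𝒮 : Type u} [SmallCategory 𝒮] (F G : Pseudofunctor (LocallyDiscrete 𝒮ᵒᵖ) Cat.{u, u})
  (α : G ⟶ F) (J : FibSite.Topologies F) (K : FibSite.Topologies G)

section Reflect

/-- The restrictions to the fibres jointly reflect finite limits. -/
theorem preservesFiniteLimits_of_restr (hF : FibSite.IsPreFibSite F J) {𝒞 : Type*} [Category 𝒞]
    (T : 𝒞 ⥤ FibSite.TotSh F J (Type u))
    (h : ∀ (j : 𝒮) [(ι F j).IsContinuous (J j) (FibSite.totalTopology F J)],
      PreservesFiniteLimits (T ⋙ FibSite.restr F J (Type u) j)) :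
    PreservesFiniteLimits T := by
  constructor
  intro I _ _
  constructor
  intro D
  constructor
  intro c hc
  refine ⟨isLimitOfReflects (sheafToPresheaf _ _)
    (evaluationJointlyReflectsLimits _ (fun X => ?_))⟩
  haveI := isContinuous_ι F J hF X.unop.base
  have hp := h X.unop.base
  have hpl : PreservesLimitsOfShape I (T ⋙ FibSite.restr F J (Type u) X.unop.base) :=
    hp.preservesFiniteLimits I
  have hpk : PreservesLimit D (T ⋙ FibSite.restr F J (Type u) X.unop.base) :=
    hpl.preservesLimit
  have h1 : IsLimit ((T ⋙ FibSite.restr F J (Type u) X.unop.base).mapCone c) :=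
    (hpk.preserves hc).some
  have h2 := isLimitOfPreserves (sheafToPresheaf (J X.unop.base) (Type u)) h1
  have h3 := isLimitOfPreserves ((evaluation _ _).obj (op X.unop.fiber)) h2
  exact h3

end Reflect

section NatIso

variable {j : 𝒮}
  [(ι F j).IsCocontinuous (J j) (FibSite.totalTopology F J)]
  [(ι G j).IsCocontinuous (K j) (FibSite.totalTopology G K)]
  [(CoGrothendieck.map α).IsContinuous (FibSite.totalTopology G K) (FibSite.totalTopology F J)]
  [(α.app ⟨op j⟩).toFunctor.IsContinuous (K j) (J j)]

/-- The comparison `Φ_* (coextend b) ⟶ coextend ((α_j)_* b)`. -/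
noncomputable def bcHom (b : Sheaf (J j) (Type u)) :
    ((CoGrothendieck.map α).sheafPushforwardContinuous (Type u) (FibSite.totalTopology G K)
      (FibSite.totalTopology F J)).obj ((FibSite.coextend F J (Type u) j).obj b) ⟶
    (FibSite.coextend G K (Type u) j).obj
      (((α.app ⟨op j⟩).toFunctor.sheafPushforwardContinuous (Type u) (K j) (J j)).obj b) :=
  ⟨((ι G j).op.ran.obj ((α.app ⟨op j⟩).toFunctor.op ⋙ b.obj)).liftOfIsRightKanExtension
    ((ι G j).op.ranCounit.app _) ((CoGrothendieck.map α).op ⋙ (ι F j).op.ran.obj b.obj)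
    (cuMap F G α b.obj _ ((ι F j).op.ranCounit.app b.obj))⟩

theorem isIso_bcHom (b : Sheaf (J j) (Type u)) : IsIso (bcHom F G α J K b) := by
  have hpt : (Functor.RightExtension.mk ((ι F j).op.ran.obj b.obj)
      ((ι F j).op.ranCounit.app b.obj)).IsPointwiseRightKanExtension :=
    Functor.isPointwiseRightKanExtensionOfIsRightKanExtension _ _
  have hR := isRightKanExtension_map F G α b.obj _ ((ι F j).op.ranCounit.app b.obj) hpt
  have h1 : IsIso ((sheafToPresheaf _ _).map (bcHom F G α J K b)) :=
    (Functor.isRightKanExtension_iff_isIso _ ((ι G j).op.ranCounit.app _)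
      (cuMap F G α b.obj _ ((ι F j).op.ranCounit.app b.obj))
      (Functor.liftOfIsRightKanExtension_fac _ _ _ _)).1 hR
  exact isIso_of_reflects_iso _ (sheafToPresheaf _ _)

theorem bcHom_naturality {b b' : Sheaf (J j) (Type u)} (β : b ⟶ b') :
    ((CoGrothendieck.map α).sheafPushforwardContinuous (Type u) (FibSite.totalTopology G K)
      (FibSite.totalTopology F J)).map ((FibSite.coextend F J (Type u) j).map β) ≫
      bcHom F G α J K b' =
    bcHom F G α J K b ≫ (FibSite.coextend G K (Type u) j).map
      (((α.app ⟨op j⟩).toFunctor.sheafPushforwardContinuous (Type u) (K j) (J j)).map β) := by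
  apply Sheaf.hom_ext
  apply Functor.hom_ext_of_isRightKanExtension _ ((ι G j).op.ranCounit.app _)
  ext W' x
  -- abbreviations
  have f1 : ∀ y, ((ι G j).op.ranCounit.app ((α.app ⟨op j⟩).toFunctor.op ⋙ b'.obj)).app W'
      ((bcHom F G α J K b').hom.app ((ι G j).op.obj W') y) =
      (cuMap F G α b'.obj _ ((ι F j).op.ranCounit.app b'.obj)).app W' y := by
    intro y
    have h := Functor.liftOfIsRightKanExtension_fac_app
      ((ι G j).op.ran.obj ((α.app ⟨op j⟩).toFunctor.op ⋙ b'.obj))
      ((ι G j).op.ranCounit.app _) ((CoGrothendieck.map α).op ⋙ (ι F j).op.ran.obj b'.obj)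
      (cuMap F G α b'.obj _ ((ι F j).op.ranCounit.app b'.obj)) W'
    exact congrArg (fun t => t y) (congrArg (fun m => (ConcreteCategory.hom m : _ → _)) h)
  have f3 : ∀ y, ((ι G j).op.ranCounit.app ((α.app ⟨op j⟩).toFunctor.op ⋙ b.obj)).app W'
      ((bcHom F G α J K b).hom.app ((ι G j).op.obj W') y) =
      (cuMap F G α b.obj _ ((ι F j).op.ranCounit.app b.obj)).app W' y := by
    intro y
    have h := Functor.liftOfIsRightKanExtension_fac_app
      ((ι G j).op.ran.obj ((α.app ⟨op j⟩).toFunctor.op ⋙ b.obj))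
      ((ι G j).op.ranCounit.app _) ((CoGrothendieck.map α).op ⋙ (ι F j).op.ran.obj b.obj)
      (cuMap F G α b.obj _ ((ι F j).op.ranCounit.app b.obj)) W'
    exact congrArg (fun t => t y) (congrArg (fun m => (ConcreteCategory.hom m : _ → _)) h)
  have f2 : ∀ z, ((ι G j).op.ranCounit.app ((α.app ⟨op j⟩).toFunctor.op ⋙ b'.obj)).app W'
      (((ι G j).op.ran.map (Functor.whiskerLeft (α.app ⟨op j⟩).toFunctor.op β.hom)).app
        ((ι G j).op.obj W') z) =
      β.hom.app (op ((α.app ⟨op j⟩).toFunctor.obj W'.unop))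
        (((ι G j).op.ranCounit.app ((α.app ⟨op j⟩).toFunctor.op ⋙ b.obj)).app W' z) := by
    intro z
    have h := (ι G j).op.ranCounit.naturality
      (Functor.whiskerLeft (α.app ⟨op j⟩).toFunctor.op β.hom)
    exact congrArg (fun t => t.app W' z) h
  have f4 : (cuMap F G α b'.obj _ ((ι F j).op.ranCounit.app b'.obj)).app W'
      (((ι F j).op.ran.map β.hom).app
        ((CoGrothendieck.map α).op.obj ((ι G j).op.obj W')) x) =
      β.hom.app (op ((α.app ⟨op j⟩).toFunctor.obj W'.unop))
        ((cuMap F G α b.obj _ ((ι F j).op.ranCounit.app b.obj)).app W' x) := by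
    have h := (ι F j).op.ranCounit.naturality β.hom
    exact congrArg (fun t => t.app (op ((α.app ⟨op j⟩).toFunctor.obj W'.unop)) x) h
  change ((ι G j).op.ranCounit.app ((α.app ⟨op j⟩).toFunctor.op ⋙ b'.obj)).app W'
      ((bcHom F G α J K b').hom.app ((ι G j).op.obj W')
        (((ι F j).op.ran.map β.hom).app
          ((CoGrothendieck.map α).op.obj ((ι G j).op.obj W')) x)) =
    ((ι G j).op.ranCounit.app ((α.app ⟨op j⟩).toFunctor.op ⋙ b'.obj)).app W'
      (((ι G j).op.ran.map (Functor.whiskerLeft (α.app ⟨op j⟩).toFunctor.op β.hom)).app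
        ((ι G j).op.obj W') ((bcHom F G α J K b).hom.app ((ι G j).op.obj W') x))
  rw [f1, f4, f2, f3]

end NatIso

end Groth.Agent.Lib.Helper27.FibSiteAux
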