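import Groth.Agent.Lib.Helper27.FibSiteMap2

/-! The functor between total categories induced by a morphism of fibred sites is a morphism of
sites (helper27), final assembly. -/

set_option autoImplicit false
set_option backward.isDefEq.respectTransparency false
set_option backward.isDefEq.respectTransparency.types false

universe u

open CategoryTheory CategoryTheory.Limits Opposite Pseudofunctor Pseudofunctor.CoGrothendieck Bicategory
open scoped CategoryTheory.Pseudofunctor.StrongTrans

namespace Groth.Agent.Lib.Helper27.FibSiteAux

variable {𝒮 : Type u} [SmallCategory 𝒮] (F G : Pseudofunctor (LocallyDiscrete 𝒮ᵒᵖ) Cat.{u, u})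
  (α : G ⟶ F) (J : FibSite.Topologies F) (K : FibSite.Topologies G)

theorem preservesFiniteLimits_pullback_restr (hF : FibSite.IsPreFibSite F J)
    (hG : FibSite.IsPreFibSite G K) (j : 𝒮)
    [(CoGrothendieck.map α).IsContinuous (FibSite.totalTopology G K) (FibSite.totalTopology F J)]
    [((CoGrothendieck.map α).sheafPushforwardContinuous (Type u) (FibSite.totalTopology G K)
      (FibSite.totalTopology F J)).IsRightAdjoint]
    [(ι F j).IsContinuous (J j) (FibSite.totalTopology F J)]
    [(α.app ⟨op j⟩).toFunctor.IsContinuous (K j) (J j)]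
    [((α.app ⟨op j⟩).toFunctor.sheafPushforwardContinuous (Type u) (K j) (J j)).IsRightAdjoint]
    (hpres : PreservesFiniteLimits
      ((α.app ⟨op j⟩).toFunctor.sheafPullback (Type u) (K j) (J j))) :
    PreservesFiniteLimits ((CoGrothendieck.map α).sheafPullback (Type u)
      (FibSite.totalTopology G K) (FibSite.totalTopology F J) ⋙
        FibSite.restr F J (Type u) j) := by
  haveI := isCocontinuous_ι F J j hF
  haveI := isCocontinuous_ι G K j hG
  haveI := isContinuous_ι G K hG j
  let e : FibSite.coextend F J (Type u) j ⋙
      (CoGrothendieck.map α).sheafPushforwardContinuous (Type u) (FibSite.totalTopology G K)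
        (FibSite.totalTopology F J) ≅
      (α.app ⟨op j⟩).toFunctor.sheafPushforwardContinuous (Type u) (K j) (J j) ⋙
        FibSite.coextend G K (Type u) j :=
    NatIso.ofComponents
      (fun b => @asIso _ _ _ _ (bcHom F G α J K b) (isIso_bcHom F G α J K b))
      (fun β => bcHom_naturality F G α J K β)
  let adjX := ((CoGrothendieck.map α).sheafAdjunctionContinuous (Type u)
    (FibSite.totalTopology G K) (FibSite.totalTopology F J)).comp
      ((ι F j).sheafAdjunctionCocontinuous (Type u) (J j) (FibSite.totalTopology F J))
  let adjY := ((ι G j).sheafAdjunctionCocontinuous (Type u) (K j)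
    (FibSite.totalTopology G K)).comp
      ((α.app ⟨op j⟩).toFunctor.sheafAdjunctionContinuous (Type u) (K j) (J j))
  let iso := (adjX.ofNatIsoRight e).leftAdjointUniq adjY
  haveI : PreservesFiniteLimits (FibSite.restr G K (Type u) j) := by
    have hadj := (ι G j).sheafAdjunctionContinuous (Type u) (K j) (FibSite.totalTopology G K)
    have := hadj.rightAdjoint_preservesLimits
    infer_instance
  haveI : PreservesFiniteLimits (FibSite.restr G K (Type u) j ⋙
      (α.app ⟨op j⟩).toFunctor.sheafPullback (Type u) (K j) (J j)) :=
    comp_preservesFiniteLimits _ _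
  exact preservesFiniteLimits_of_natIso iso.symm

theorem map_morphismOfSites (hF : FibSite.IsPreFibSite F J) (hG : FibSite.IsPreFibSite G K)
    (hα : ∀ S : 𝒮, ∃ (_ : (α.app ⟨op S⟩).toFunctor.IsContinuous (K S) (J S))
      (_ : ((α.app ⟨op S⟩).toFunctor.sheafPushforwardContinuous (Type u) (K S)
        (J S)).IsRightAdjoint),
      PreservesFiniteLimits ((α.app ⟨op S⟩).toFunctor.sheafPullback (Type u) (K S) (J S))) :
    ∃ (_ : (CoGrothendieck.map α).IsContinuous
        (FibSite.totalTopology G K) (FibSite.totalTopology F J))
      (_ : ((CoGrothendieck.map α).sheafPushforwardContinuous (Type u)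
        (FibSite.totalTopology G K) (FibSite.totalTopology F J)).IsRightAdjoint),
      PreservesFiniteLimits ((CoGrothendieck.map α).sheafPullback (Type u)
        (FibSite.totalTopology G K) (FibSite.totalTopology F J)) := by
  have hcα : ∀ S, (α.app ⟨op S⟩).toFunctor.IsContinuous (K S) (J S) := fun S => by
    obtain ⟨h, -, -⟩ := hα S
    exact h
  have hΦ : (CoGrothendieck.map α).IsContinuous (FibSite.totalTopology G K)
      (FibSite.totalTopology F J) :=
    ⟨fun Z => isSheaf_total_of_forall_fibre G K hG _ (fun S => by
      haveI := hcα S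
      haveI := isContinuous_ι F J hF S
      haveI : ((α.app ⟨op S⟩).toFunctor ⋙ ι F S).IsContinuous (K S)
          (FibSite.totalTopology F J) :=
        Functor.isContinuous_comp _ _ (K S) (J S) (FibSite.totalTopology F J)
      haveI : (ι G S ⋙ CoGrothendieck.map α).IsContinuous (K S) (FibSite.totalTopology F J) :=
        Functor.isContinuous_of_iso (squareIso F G α S).symm _ _
      exact Functor.op_comp_isSheaf_of_types (ι G S ⋙ CoGrothendieck.map α) (K S)
        (FibSite.totalTopology F J) Z)⟩
  haveI := hΦ
  refine ⟨hΦ, inferInstance, ?_⟩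
  apply preservesFiniteLimits_of_restr F J hF
  intro j _
  obtain ⟨h1, h2, h3⟩ := hα j
  haveI := h1
  haveI := h2
  exact preservesFiniteLimits_pullback_restr F G α J K hF hG j h3

end Groth.Agent.Lib.Helper27.FibSiteAux
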