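import Groth.Agent.Lib.Helper27.FibSiteClean

/-! The value on a fibre of the right Kan extension along a fibre inclusion (helper27). -/

set_option autoImplicit false
set_option backward.isDefEq.respectTransparency false
set_option backward.isDefEq.respectTransparency.types false

universe w v₂ u₂ v₁ u₁

open CategoryTheory CategoryTheory.Limits Opposite Pseudofunctor Pseudofunctor.CoGrothendieck Bicategory

namespace Groth.Agent.Lib.Helper27.FibSiteAux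

variable {𝒮 : Type u₁} [Category.{v₁} 𝒮] (F : Pseudofunctor (LocallyDiscrete 𝒮ᵒᵖ) Cat.{v₂, u₂})

section Star

variable {i j : 𝒮} (P : (F.obj ⟨op i⟩)ᵒᵖ ⥤ Type w) (V : F.obj ⟨op j⟩)

/-- The value attached to a morphism `⟨i, W⟩ ⟶ ⟨j, V⟩` by a family indexed by `i ⟶ j`. -/
def famVal (t : ∀ f : i ⟶ j, P.obj (op ((FibSite.invImage F f).obj V))) {W : F.obj ⟨op i⟩}
    (g : (⟨i, W⟩ : ∫ᶜ F) ⟶ ⟨j, V⟩) : P.obj (op W) :=
  P.map g.fiber.op (t g.base)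

theorem famVal_homMk (t : ∀ f : i ⟶ j, P.obj (op ((FibSite.invImage F f).obj V)))
    {W : F.obj ⟨op i⟩} (f : i ⟶ j) (β : W ⟶ (FibSite.invImage F f).obj V) :
    famVal F P V t (homMk F f β) = P.map β.op (t f) := rfl

theorem ιm_comp_homMk {W W' : F.obj ⟨op i⟩} (r : W' ⟶ W) (f : i ⟶ j)
    (β : W ⟶ (FibSite.invImage F f).obj V) :
    ιm F i r ≫ homMk F f β = homMk F f (r ≫ β) := by
  rw [homMk_eq, homMk_eq, ← Category.assoc, ← ιm_comp]

theorem famVal_ιm_comp (t : ∀ f : i ⟶ j, P.obj (op ((FibSite.invImage F f).obj V)))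
    {W W' : F.obj ⟨op i⟩} (r : W' ⟶ W) (g : (⟨i, W⟩ : ∫ᶜ F) ⟶ ⟨j, V⟩) :
    famVal F P V t (ιm F i r ≫ g) = P.map r.op (famVal F P V t g) := by
  have hg : g = homMk F g.base g.fiber := rfl
  rw [hg, ιm_comp_homMk, famVal_homMk, famVal_homMk, op_comp, Functor.map_comp_apply]

theorem famVal_cart (t : ∀ f : i ⟶ j, P.obj (op ((FibSite.invImage F f).obj V))) (f : i ⟶ j) :
    famVal F P V t (cart F f V) = t f := by
  change P.map (𝟙 _) (t f) = t f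
  simp

end Star

section Ran

variable {i j : 𝒮} (P : (F.obj ⟨op i⟩)ᵒᵖ ⥤ Type w) (E : (∫ᶜ F)ᵒᵖ ⥤ Type w)
  (cu : (ι F i).op ⋙ E ⟶ P) (V : F.obj ⟨op j⟩)

/-- The projection of the value of the Kan extension over `⟨j, V⟩` to the factor `f`. -/
def ranProj (f : i ⟶ j) (x : E.obj (op (⟨j, V⟩ : ∫ᶜ F))) :
    P.obj (op ((FibSite.invImage F f).obj V)) :=
  cu.app (op ((FibSite.invImage F f).obj V)) (E.map (cart F f V).op x)

theorem cu_ιm {W W' : F.obj ⟨op i⟩} (φ : W' ⟶ W) (z : E.obj (op (⟨i, W⟩ : ∫ᶜ F))) :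
    cu.app (op W') (E.map (ιm F i φ).op z) = P.map φ.op (cu.app (op W) z) :=
  NatTrans.naturality_apply cu φ.op z

theorem cu_map_eq {W : F.obj ⟨op i⟩} (g : (⟨i, W⟩ : ∫ᶜ F) ⟶ ⟨j, V⟩)
    (y : E.obj (op (⟨j, V⟩ : ∫ᶜ F))) :
    cu.app (op W) (E.map g.op y) = P.map g.fiber.op (ranProj F P E cu V g.base y) := by
  have h2 : E.map g.op y = E.map (ιm F i g.fiber ≫ cart F g.base V).op y :=
    congrArg (fun k => E.map (Quiver.Hom.op k) y) (hom_eq F g)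
  rw [h2, op_comp, Functor.map_comp_apply]
  exact cu_ιm F P E cu _ _

theorem coneAt_app (d : StructuredArrow (op (⟨j, V⟩ : ∫ᶜ F)) (ι F i).op)
    (y : E.obj (op (⟨j, V⟩ : ∫ᶜ F))) :
    ((Functor.RightExtension.mk E cu).coneAt (op (⟨j, V⟩ : ∫ᶜ F))).π.app d y =
      P.map (d.hom.unop : (⟨i, d.right.unop⟩ : ∫ᶜ F) ⟶ ⟨j, V⟩).fiber.op
        (ranProj F P E cu V (d.hom.unop : (⟨i, d.right.unop⟩ : ∫ᶜ F) ⟶ ⟨j, V⟩).base y) :=
  cu_map_eq F P E cu V (d.hom.unop : (⟨i, d.right.unop⟩ : ∫ᶜ F) ⟶ ⟨j, V⟩) y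

variable (hpt : (Functor.RightExtension.mk E cu).IsPointwiseRightKanExtension)

include hpt in
theorem existsUnique_of_family (t : ∀ f : i ⟶ j, P.obj (op ((FibSite.invImage F f).obj V))) :
    ∃! x : E.obj (op (⟨j, V⟩ : ∫ᶜ F)), ∀ f, ranProj F P E cu V f x = t f := by
  let s : ∀ d : StructuredArrow (op (⟨j, V⟩ : ∫ᶜ F)) (ι F i).op,
      (StructuredArrow.proj (op (⟨j, V⟩ : ∫ᶜ F)) (ι F i).op ⋙ P).obj d :=
    fun d => famVal F P V t (d.hom.unop : (⟨i, d.right.unop⟩ : ∫ᶜ F) ⟶ ⟨j, V⟩)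
  have hs : s ∈ (StructuredArrow.proj (op (⟨j, V⟩ : ∫ᶜ F)) (ι F i).op ⋙ P).sections := by
    intro d d' m
    have hw : d'.hom = d.hom ≫ (ι F i).op.map m.right := (StructuredArrow.w m).symm
    have hw' : (d'.hom.unop : (⟨i, d'.right.unop⟩ : ∫ᶜ F) ⟶ ⟨j, V⟩) =
        ιm F i m.right.unop ≫ (d.hom.unop : (⟨i, d.right.unop⟩ : ∫ᶜ F) ⟶ ⟨j, V⟩) := by
      rw [hw]
      rfl
    change P.map m.right (s d) = s d'
    change _ = famVal F P V t (d'.hom.unop : (⟨i, d'.right.unop⟩ : ∫ᶜ F) ⟶ ⟨j, V⟩)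
    rw [hw', famVal_ιm_comp]
    rfl
  obtain ⟨x, hx, hxu⟩ := (Types.isLimit_iff _).1 ⟨hpt (op (⟨j, V⟩ : ∫ᶜ F))⟩ s hs
  refine ⟨x, fun f => ?_, fun y hy => hxu y (fun d => ?_)⟩
  · have h1 := hx (StructuredArrow.mk (Y := op ((FibSite.invImage F f).obj V)) (cart F f V).op)
    have h2 : s (StructuredArrow.mk (Y := op ((FibSite.invImage F f).obj V)) (cart F f V).op) =
        t f := famVal_cart F P V t f
    rw [h2] at h1
    exact h1
  · rw [coneAt_app, hy]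
    rfl

end Ran

end Groth.Agent.Lib.Helper27.FibSiteAux
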