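import Groth.Agent.Lib.Helper27.FibSiteRan

/-! The restriction to a fibre of the coextension from another fibre is a product (helper27). -/

set_option autoImplicit false
set_option backward.isDefEq.respectTransparency false
set_option backward.isDefEq.respectTransparency.types false

universe u

open CategoryTheory CategoryTheory.Limits Opposite Pseudofunctor Pseudofunctor.CoGrothendieck Bicategory

namespace Groth.Agent.Lib.Helper27.FibSiteAux

variable {𝒮 : Type u} [SmallCategory 𝒮] (F : Pseudofunctor (LocallyDiscrete 𝒮ᵒᵖ) Cat.{u, u})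

section

variable {i j : 𝒮} (P : (F.obj ⟨op i⟩)ᵒᵖ ⥤ Type u) (E : (∫ᶜ F)ᵒᵖ ⥤ Type u)
  (cu : (ι F i).op ⋙ E ⟶ P)

/-- The projection to the factor `f`, as a natural transformation. -/
def ranProjNat (f : i ⟶ j) : (ι F j).op ⋙ E ⟶ (FibSite.invImage F f).op ⋙ P where
  app V' := E.map (cart F f V'.unop).op ≫ cu.app (op ((FibSite.invImage F f).obj V'.unop))
  naturality V₁ V₂ m := by
    change E.map (ιm F j m.unop).op ≫ E.map (cart F f V₂.unop).op ≫ cu.app _ =
      (E.map (cart F f V₁.unop).op ≫ cu.app _) ≫ P.map ((FibSite.invImage F f).map m.unop).op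
    have h1 : E.map (ιm F j m.unop).op ≫ E.map (cart F f V₂.unop).op =
        E.map (cart F f V₁.unop).op ≫ E.map (ιm F i ((FibSite.invImage F f).map m.unop)).op := by
      rw [← Functor.map_comp, ← Functor.map_comp, ← op_comp, ← op_comp, cart_nat]
    have h2 : E.map (ιm F i ((FibSite.invImage F f).map m.unop)).op ≫
        cu.app (op ((FibSite.invImage F f).obj V₂.unop)) =
        cu.app (op ((FibSite.invImage F f).obj V₁.unop)) ≫
          P.map ((FibSite.invImage F f).map m.unop).op :=
      cu.naturality ((FibSite.invImage F f).map m.unop).op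
    rw [← Category.assoc, h1, Category.assoc, h2, Category.assoc]

theorem ranProjNat_app (f : i ⟶ j) (V : F.obj ⟨op j⟩) (x : E.obj (op (⟨j, V⟩ : ∫ᶜ F))) :
    (ranProjNat F P E cu f).app (op V) x = ranProj F P E cu V f x := rfl

end

theorem main (J : FibSite.Topologies F) (i j : 𝒮)
    [∀ S : 𝒮, (ι F S).IsContinuous (J S) (FibSite.totalTopology F J)]
    [(ι F i).IsCocontinuous (J i) (FibSite.totalTopology F J)]
    [∀ (P : (F.obj ⟨op i⟩)ᵒᵖ ⥤ Type u), (ι F i).op.HasPointwiseRightKanExtension P]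
    [∀ (R S : 𝒮) (f : R ⟶ S), (FibSite.invImage F f).IsContinuous (J S) (J R)]
    (a : Sheaf (J i) (Type u)) :
    ∃ c : Fan fun f : i ⟶ j =>
        ((FibSite.invImage F f).sheafPushforwardContinuous (Type u) (J j) (J i)).obj a,
      Nonempty (IsLimit c) ∧
        Nonempty (c.pt ≅ (FibSite.restr F J (Type u) j).obj
          ((FibSite.coextend F J (Type u) i).obj a)) := by
  let E : (∫ᶜ F)ᵒᵖ ⥤ Type u := (ι F i).op.rightKanExtension a.obj
  let cu : (ι F i).op ⋙ E ⟶ a.obj := (ι F i).op.rightKanExtensionCounit a.obj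
  have hpt : (Functor.RightExtension.mk E cu).IsPointwiseRightKanExtension :=
    Functor.isPointwiseRightKanExtensionOfIsRightKanExtension E cu
  let T : Sheaf (J j) (Type u) := (FibSite.restr F J (Type u) j).obj
    ((FibSite.coextend F J (Type u) i).obj a)
  let c : Fan fun f : i ⟶ j =>
      ((FibSite.invImage F f).sheafPushforwardContinuous (Type u) (J j) (J i)).obj a :=
    Fan.mk T (fun f => ⟨ranProjNat F a.obj E cu f⟩)
  refine ⟨c, ⟨?_⟩, ⟨Iso.refl _⟩⟩
  refine isLimitOfReflects (sheafToPresheaf (J j) (Type u)) ?_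
  refine evaluationJointlyReflectsLimits _ (fun V' => ?_)
  refine ((Types.isLimit_iff _).2 ?_).some
  intro s hs
  obtain ⟨x, hx, hxu⟩ := existsUnique_of_family F a.obj E cu V'.unop hpt (fun f => s ⟨f⟩)
  refine ⟨x, fun ⟨f⟩ => hx f, fun y hy => hxu y (fun f => hy ⟨f⟩)⟩

end Groth.Agent.Lib.Helper27.FibSiteAux
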