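import Groth.Agent.Lib.Helper27.FibSiteClean
import Mathlib.CategoryTheory.Adjunction.Triple

/-! Extension of sheaves from the fibre over a terminal object (helper27). -/

set_option autoImplicit false
set_option backward.isDefEq.respectTransparency false
set_option backward.isDefEq.respectTransparency.types false

universe u

open CategoryTheory CategoryTheory.Limits Opposite Pseudofunctor Pseudofunctor.CoGrothendieck Bicategory

namespace Groth.Agent.Lib.Helper27.FibSiteAux

variable {𝒮 : Type u} [SmallCategory 𝒮] (F : Pseudofunctor (LocallyDiscrete 𝒮ᵒᵖ) Cat.{u, u})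
  (J : FibSite.Topologies F) (i : 𝒮)

theorem full_ι_of_isTerminal (hi : IsTerminal i) : (ι F i).Full :=
  ⟨fun {V W} a => by
    obtain ⟨a₀, ha⟩ := exists_of_base_eq_id F i a (hi.hom_ext _ _)
    exact ⟨a₀, ha.symm⟩⟩

theorem faithful_ι : (ι F i).Faithful :=
  ⟨fun {V W} r₁ r₂ h => ι_map_injective F i r₁ r₂ h⟩

theorem isCocontinuous_ι (hF : FibSite.IsPreFibSite F J) :
    (ι F i).IsCocontinuous (J i) (FibSite.totalTopology F J) := by
  constructor
  intro U T hT
  obtain ⟨R, hR, h⟩ := (mem_totalTopology_iff F J hF _ T).1 hT
  refine (J i).superset_covering ?_ hR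
  intro V r hr
  exact h r hr

theorem extend_full_faithful (hF : FibSite.IsPreFibSite F J) (hi : IsTerminal i)
    [(ι F i).IsContinuous (J i) (FibSite.totalTopology F J)]
    [((ι F i).sheafPushforwardContinuous (Type u) (J i)
      (FibSite.totalTopology F J)).IsRightAdjoint] :
    (FibSite.extend F J (Type u) i).Full ∧ (FibSite.extend F J (Type u) i).Faithful := by
  haveI : (ι F i).IsCocontinuous (J i) (FibSite.totalTopology F J) := isCocontinuous_ι F J i hF
  haveI := full_ι_of_isTerminal F i hi
  haveI := faithful_ι F i
  let t : Adjunction.Triple (FibSite.extend F J (Type u) i) (FibSite.restr F J (Type u) i)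
      (FibSite.coextend F J (Type u) i) :=
    ⟨(ι F i).sheafAdjunctionContinuous (Type u) (J i) (FibSite.totalTopology F J),
      (ι F i).sheafAdjunctionCocontinuous (Type u) (J i) (FibSite.totalTopology F J)⟩
  haveI : IsIso t.adj₂.counit := by
    haveI : ∀ a, IsIso (t.adj₂.counit.app a) := by
      intro a
      have h1 : IsIso ((sheafToPresheaf _ _).map (t.adj₂.counit.app a)) := by
        have h2 : (sheafToPresheaf _ _).map (t.adj₂.counit.app a) =
            ((ι F i).op.ranAdjunction (Type u)).counit.app a.obj :=
          Functor.sheafAdjunctionCocontinuous_counit_app_hom (ι F i) (Type u) (J i)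
            (FibSite.totalTopology F J) a
        rw [h2]
        infer_instance
      exact isIso_of_reflects_iso _ (sheafToPresheaf _ _)
    exact NatIso.isIso_of_isIso_app _
  have hff := t.fullyFaithfulEquiv.symm t.adj₂.fullyFaithfulROfIsIsoCounit
  exact ⟨hff.full, hff.faithful⟩

end Groth.Agent.Lib.Helper27.FibSiteAux
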