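import Groth.Agent.Lib.Helper27.FibSiteTerm
import Groth.Agent.Lib.Helper27.FibSiteRan2
import Groth.Agent.Lib.Helper27.FibSiteLan2

/-! Left exactness of the extension of sheaves from the fibre over a terminal object (helper27). -/

set_option autoImplicit false
set_option backward.isDefEq.respectTransparency false
set_option backward.isDefEq.respectTransparency.types false

universe u

open CategoryTheory CategoryTheory.Limits Opposite Pseudofunctor Pseudofunctor.CoGrothendieck Bicategory

namespace Groth.Agent.Lib.Helper27.FibSiteAux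

variable {𝒮 : Type u} [SmallCategory 𝒮] (F : Pseudofunctor (LocallyDiscrete 𝒮ᵒᵖ) Cat.{u, u})

section

variable {i j : 𝒮} (P : (F.obj ⟨op i⟩)ᵒᵖ ⥤ Type u) (E : (∫ᶜ F)ᵒᵖ ⥤ Type u)
  (cu : (ι F i).op ⋙ E ⟶ P)
  (hpt : (Functor.RightExtension.mk E cu).IsPointwiseRightKanExtension)

include hpt in
/-- If there is only one morphism `i ⟶ j`, the projection is bijective. -/
theorem ranProj_bijective [Subsingleton (i ⟶ j)] (f : i ⟶ j) (V : F.obj ⟨op j⟩) :
    Function.Bijective (ranProj F P E cu V f) := by
  constructor
  · intro x x' h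
    obtain ⟨x₀, -, hu⟩ := existsUnique_of_family F P E cu V hpt (fun f' => ranProj F P E cu V f' x')
    have h1 : x = x₀ := hu x (fun f' => by
      obtain rfl : f' = f := Subsingleton.elim _ _
      exact h)
    have h2 : x' = x₀ := hu x' (fun f' => rfl)
    rw [h1, h2]
  · intro y
    obtain ⟨x₀, hx₀, -⟩ := existsUnique_of_family F P E cu V hpt
      (fun f' => (Subsingleton.elim f f') ▸ y)
    exact ⟨x₀, hx₀ f⟩

include hpt in
theorem isIso_ranProjNat [Subsingleton (i ⟶ j)] (f : i ⟶ j) : IsIso (ranProjNat F P E cu f) := by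
  haveI : ∀ V', IsIso ((ranProjNat F P E cu f).app V') := by
    intro V'
    rw [isIso_iff_bijective]
    exact ranProj_bijective F P E cu hpt f V'.unop
  exact NatIso.isIso_of_isIso_app _

end

section NatIso

variable (J : FibSite.Topologies F) {i j : 𝒮} (f : i ⟶ j)
  [(ι F i).IsCocontinuous (J i) (FibSite.totalTopology F J)]
  [(ι F j).IsContinuous (J j) (FibSite.totalTopology F J)]
  [(FibSite.invImage F f).IsContinuous (J j) (J i)]

/-- The projection `restr_j (coextend_i a) ⟶ (f^*)_* a`. -/
noncomputable def projHom (a : Sheaf (J i) (Type u)) :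
    (FibSite.restr F J (Type u) j).obj ((FibSite.coextend F J (Type u) i).obj a) ⟶
      ((FibSite.invImage F f).sheafPushforwardContinuous (Type u) (J j) (J i)).obj a :=
  ⟨ranProjNat F a.obj ((ι F i).op.ran.obj a.obj) ((ι F i).op.ranCounit.app a.obj) f⟩

theorem isIso_projHom [Subsingleton (i ⟶ j)] (a : Sheaf (J i) (Type u)) :
    IsIso (projHom F J f a) := by
  have hpt : (Functor.RightExtension.mk ((ι F i).op.ran.obj a.obj)
      ((ι F i).op.ranCounit.app a.obj)).IsPointwiseRightKanExtension :=
    Functor.isPointwiseRightKanExtensionOfIsRightKanExtension _ _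
  have h1 : IsIso ((sheafToPresheaf _ _).map (projHom F J f a)) :=
    isIso_ranProjNat F a.obj _ _ hpt f
  exact isIso_of_reflects_iso _ (sheafToPresheaf _ _)

theorem projHom_naturality {a a' : Sheaf (J i) (Type u)} (β : a ⟶ a') :
    (FibSite.restr F J (Type u) j).map ((FibSite.coextend F J (Type u) i).map β) ≫
      projHom F J f a' =
    projHom F J f a ≫
      ((FibSite.invImage F f).sheafPushforwardContinuous (Type u) (J j) (J i)).map β := by
  apply Sheaf.hom_ext
  ext V' x
  have hnat := (ι F i).op.ranCounit.naturality β.hom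
  have h1 := congrArg (fun t => t.app (op ((FibSite.invImage F f).obj V'.unop))
    (((ι F i).op.ran.obj a.obj).map (cart F f V'.unop).op x)) hnat
  have h2 := NatTrans.naturality_apply ((ι F i).op.ran.map β.hom) (cart F f V'.unop).op x
  change ((ι F i).op.ranCounit.app a'.obj).app _ (((ι F i).op.ran.obj a'.obj).map
      (cart F f V'.unop).op (((ι F i).op.ran.map β.hom).app _ x)) =
    β.hom.app _ (((ι F i).op.ranCounit.app a.obj).app _
      (((ι F i).op.ran.obj a.obj).map (cart F f V'.unop).op x))
  rw [← h2]
  exact h1

end NatIso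

section Final

variable (J : FibSite.Topologies F) (hF : FibSite.IsFibSite F J) {i : 𝒮} (hi : IsTerminal i)
  [(ι F i).IsContinuous (J i) (FibSite.totalTopology F J)]
  [((ι F i).sheafPushforwardContinuous (Type u) (J i)
    (FibSite.totalTopology F J)).IsRightAdjoint]

include hF hi in
theorem preservesFiniteLimits_extend_restr (j : 𝒮)
    [(ι F j).IsContinuous (J j) (FibSite.totalTopology F J)] :
    PreservesFiniteLimits (FibSite.extend F J (Type u) i ⋙ FibSite.restr F J (Type u) j) := by
  haveI : Subsingleton (j ⟶ i) := ⟨fun a b => hi.hom_ext a b⟩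
  haveI : (ι F j).IsCocontinuous (J j) (FibSite.totalTopology F J) :=
    isCocontinuous_ι F J j hF.isPreFibSite
  obtain ⟨hc, hra, hpres⟩ := hF (hi.from j)
  let e : FibSite.coextend F J (Type u) j ⋙ FibSite.restr F J (Type u) i ≅
      (FibSite.invImage F (hi.from j)).sheafPushforwardContinuous (Type u) (J i) (J j) :=
    NatIso.ofComponents
      (fun b => @asIso _ _ _ _ (projHom F J (hi.from j) b) (isIso_projHom F J (hi.from j) b))
      (fun β => projHom_naturality F J (hi.from j) β)
  let adj₁ : FibSite.extend F J (Type u) i ⋙ FibSite.restr F J (Type u) j ⊣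
      FibSite.coextend F J (Type u) j ⋙ FibSite.restr F J (Type u) i :=
    ((ι F i).sheafAdjunctionContinuous (Type u) (J i) (FibSite.totalTopology F J)).comp
      ((ι F j).sheafAdjunctionCocontinuous (Type u) (J j) (FibSite.totalTopology F J))
  let adj₂ := (FibSite.invImage F (hi.from j)).sheafAdjunctionContinuous (Type u) (J i) (J j)
  let iso := (adj₁.ofNatIsoRight e).leftAdjointUniq adj₂
  exact preservesFiniteLimits_of_natIso iso.symm

include hF hi in
theorem preservesFiniteLimits_extend :
    PreservesFiniteLimits (FibSite.extend F J (Type u) i) := by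
  constructor
  intro I _ _
  constructor
  intro K
  constructor
  intro c hc
  refine ⟨isLimitOfReflects (sheafToPresheaf _ _)
    (evaluationJointlyReflectsLimits _ (fun X => ?_))⟩
  haveI := isContinuous_ι F J hF.isPreFibSite X.unop.base
  have hp := preservesFiniteLimits_extend_restr F J hF hi X.unop.base
  have hpl : PreservesLimitsOfShape I (FibSite.extend F J (Type u) i ⋙
      FibSite.restr F J (Type u) X.unop.base) := hp.preservesFiniteLimits I
  have hpk : PreservesLimit K (FibSite.extend F J (Type u) i ⋙
      FibSite.restr F J (Type u) X.unop.base) := hpl.preservesLimit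
  have h1 : IsLimit ((FibSite.extend F J (Type u) i ⋙
      FibSite.restr F J (Type u) X.unop.base).mapCone c) := (hpk.preserves hc).some
  have h2 := isLimitOfPreserves (sheafToPresheaf (J X.unop.base) (Type u)) h1
  have h3 := isLimitOfPreserves ((evaluation _ _).obj (op X.unop.fiber)) h2
  exact h3

end Final

end Groth.Agent.Lib.Helper27.FibSiteAux
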