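import Groth.Agent.Lib.Helper27.RepWithComp
import Groth.Agent.Lib.Helper27.FpSwap
import Groth.Agent.Lib.Helper27.FpFib
import Groth.Agent.Lib.Helper27.RepWithGeneral
import Groth.Agent.Lib.Helper27.StackFp

/-!
# Functoriality of 2-fibre products in each variable (helper27)

For a cospan `F : 𝒜 ⟶ 𝒵`, `K : ℬ ⟶ 𝒵` and `a : 𝒜' ⟶ 𝒜` the functor `𝒜' ×_𝒵 ℬ ⟶ 𝒜 ×_𝒵 ℬ` is a base change
of `a`; similarly in the second variable.
-/

set_option autoImplicit false
set_option backward.isDefEq.respectTransparency false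
set_option backward.isDefEq.respectTransparency.types false

universe u

open CategoryTheory CategoryTheory.Limits AlgebraicGeometry Opposite FibCat
  Groth.Agent.Lib.Helper27.FpKit Groth.Agent.Lib.Helper27.RepWithComp

namespace Groth.Agent.Lib.Helper27.FpBaseChange

variable {S : Scheme.{u}} {𝒜 ℬ 𝒵 𝒜' ℬ' : AlgSt.Cat S} (F : 𝒜 ⥤ᵇ 𝒵) (K : ℬ ⥤ᵇ 𝒵)

section Fst

variable (a : 𝒜' ⥤ᵇ 𝒜)

/-- The cospan morphism changing the first variable. -/
def DFst : MapData F K (BasedFunctor.comp a F) K a (BasedFunctor.id ℬ) (BasedFunctor.id 𝒵) where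
  e₁ := fun _ => Iso.refl _
  n₁ := fun _ => (Category.comp_id _).trans (Category.id_comp _).symm
  l₁ := fun _ => Vert.id _
  e₂ := fun _ => Iso.refl _
  n₂ := fun _ => (Category.comp_id _).trans (Category.id_comp _).symm
  l₂ := fun _ => Vert.id _

/-- `(s, b, ψ) ↦ (a s, b, ψ)`. -/
abbrev mapFst : fp (BasedFunctor.comp a F) K ⥤ᵇ fp F K := fpMap (DFst F K a)

theorem mapFst_iso_hom (t : (fp (BasedFunctor.comp a F) K).obj) :
    ((mapFst F K a).toFunctor.obj t).obj.iso.hom = t.obj.iso.hom := by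
  change (Iso.refl _).inv ≫ t.obj.iso.hom ≫ (Iso.refl _).hom = _
  simp

theorem isoFst_w (t : (fp a (fpFst F K)).obj) :
    F.toFunctor.map t.obj.iso.inv ≫
      ((mapFst F K a).toFunctor.obj ((pasteL K F a).toFunctor.obj t)).obj.iso.hom =
      t.obj.snd.obj.iso.hom ≫ K.toFunctor.map (𝟙 t.obj.snd.obj.snd) := by
  rw [mapFst_iso_hom]
  have h : ((pasteL K F a).toFunctor.obj t).obj.iso.hom =
      F.toFunctor.map t.obj.iso.hom ≫ t.obj.snd.obj.iso.hom := rfl
  rw [h, ← Category.assoc, ← F.toFunctor.map_comp, Iso.inv_hom_id,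
    CategoryTheory.Functor.map_id, CategoryTheory.Functor.map_id, Category.id_comp,
    Category.comp_id]

/-- The comparison for `mapFst`, objectwise. -/
def isoFstObj (t : (fp a (fpFst F K)).obj) :
    (fpSnd a (fpFst F K)).toFunctor.obj t ≅
      (mapFst F K a).toFunctor.obj ((pasteL K F a).toFunctor.obj t) :=
  mkIso (t := t.obj.snd)
    (t' := (mapFst F K a).toFunctor.obj ((pasteL K F a).toFunctor.obj t))
    t.obj.iso.symm (Iso.refl _) (isoFst_w F K a t)

theorem isoFstObj_vert (t : (fp a (fpFst F K)).obj) : Vert (isoFstObj F K a t).hom := by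
  rw [vert_hom_iff]
  exact Vert.inv (vert_iso t)

/-- `mapFst` is a base change of `a`. -/
def isoFst : BasedFunctor.comp (fpSnd a (fpFst F K)) (BasedFunctor.id _) ≅
    BasedFunctor.comp (pasteL K F a) (mapFst F K a) :=
  BasedNatIso.mkNatIso
    (NatIso.ofComponents (fun t => isoFstObj F K a t)
      (fun {t t'} m => by
        apply Groth.Agent.Lib.Helper27.StackFp.hom_ext'
        · have h := hom_w m
          change a.toFunctor.map m.hom.fst ≫ t'.obj.iso.hom =
            t.obj.iso.hom ≫ m.hom.snd.hom.fst at h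
          change m.hom.snd.hom.fst ≫ t'.obj.iso.inv = t.obj.iso.inv ≫ a.toFunctor.map m.hom.fst
          rw [Iso.comp_inv_eq, Category.assoc, h, Iso.inv_hom_id_assoc]
        · exact (Category.comp_id _).trans (Category.id_comp _).symm))
    (fun t => (isoFstObj_vert F K a t).lift
      ((BasedFunctor.comp (fpSnd a (fpFst F K)) (BasedFunctor.id _)).w_obj t))

theorem repByAlgSpWith_mapFst (Q : MorphismProperty (AlgSp.Sp S))
    (ha : AlgSt.RepByAlgSpWith Q a) : AlgSt.RepByAlgSpWith Q (mapFst F K a) :=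
  Groth.Agent.Lib.Helper27.RepWithGeneral.repByAlgSpWith_of_equiv' Q (mapFst F K a)
    (fpSnd a (fpFst F K)) (pasteL K F a) (BasedFunctor.id _) (isEquivOver_pasteL K F a)
    (isEquivOver_id _) (isoFst F K a)
    (Groth.Agent.Lib.Helper27.FpSwap.repByAlgSpWith_fpSnd Q (fpFst F K) a ha)

end Fst

section Snd

variable (b : ℬ' ⥤ᵇ ℬ)

/-- The cospan morphism changing the second variable. -/
def DSnd : MapData F K F (BasedFunctor.comp b K) (BasedFunctor.id 𝒜) b (BasedFunctor.id 𝒵) where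
  e₁ := fun _ => Iso.refl _
  n₁ := fun _ => (Category.comp_id _).trans (Category.id_comp _).symm
  l₁ := fun _ => Vert.id _
  e₂ := fun _ => Iso.refl _
  n₂ := fun _ => (Category.comp_id _).trans (Category.id_comp _).symm
  l₂ := fun _ => Vert.id _

/-- `(s, x, ψ) ↦ (s, b x, ψ)`. -/
abbrev mapSnd : fp F (BasedFunctor.comp b K) ⥤ᵇ fp F K := fpMap (DSnd F K b)

theorem mapSnd_iso_hom (t : (fp F (BasedFunctor.comp b K)).obj) :
    ((mapSnd F K b).toFunctor.obj t).obj.iso.hom = t.obj.iso.hom := by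
  change (Iso.refl _).inv ≫ t.obj.iso.hom ≫ (Iso.refl _).hom = _
  simp

theorem isoSnd_w (t : (fp (fpSnd F K) b).obj) :
    F.toFunctor.map (𝟙 t.obj.fst.obj.fst) ≫
      ((mapSnd F K b).toFunctor.obj ((pasteR b K F).toFunctor.obj t)).obj.iso.hom =
      t.obj.fst.obj.iso.hom ≫ K.toFunctor.map t.obj.iso.hom := by
  rw [mapSnd_iso_hom]
  have h : ((pasteR b K F).toFunctor.obj t).obj.iso.hom =
      t.obj.fst.obj.iso.hom ≫ K.toFunctor.map t.obj.iso.hom := rfl
  rw [h, CategoryTheory.Functor.map_id, Category.id_comp]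

/-- The comparison for `mapSnd`, objectwise. -/
def isoSndObj (t : (fp (fpSnd F K) b).obj) :
    (fpFst (fpSnd F K) b).toFunctor.obj t ≅
      (mapSnd F K b).toFunctor.obj ((pasteR b K F).toFunctor.obj t) :=
  mkIso (t := t.obj.fst) (t' := (mapSnd F K b).toFunctor.obj ((pasteR b K F).toFunctor.obj t))
    (Iso.refl _) t.obj.iso (isoSnd_w F K b t)

theorem isoSndObj_vert (t : (fp (fpSnd F K) b).obj) : Vert (isoSndObj F K b t).hom := by
  rw [vert_hom_iff]
  exact Vert.id _

/-- `mapSnd` is a base change of `b`. -/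
def isoSnd : BasedFunctor.comp (fpFst (fpSnd F K) b) (BasedFunctor.id _) ≅
    BasedFunctor.comp (pasteR b K F) (mapSnd F K b) :=
  BasedNatIso.mkNatIso
    (NatIso.ofComponents (fun t => isoSndObj F K b t)
      (fun {t t'} m => by
        apply Groth.Agent.Lib.Helper27.StackFp.hom_ext'
        · exact (Category.comp_id _).trans (Category.id_comp _).symm
        · have h := hom_w m
          change m.hom.fst.hom.snd ≫ t'.obj.iso.hom =
            t.obj.iso.hom ≫ b.toFunctor.map m.hom.snd at h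
          exact h))
    (fun t => (isoSndObj_vert F K b t).lift
      ((BasedFunctor.comp (fpFst (fpSnd F K) b) (BasedFunctor.id _)).w_obj t))

theorem repByAlgSpWith_mapSnd (Q : MorphismProperty (AlgSp.Sp S))
    (hb : AlgSt.RepByAlgSpWith Q b) : AlgSt.RepByAlgSpWith Q (mapSnd F K b) :=
  Groth.Agent.Lib.Helper27.RepWithGeneral.repByAlgSpWith_of_equiv' Q (mapSnd F K b)
    (fpFst (fpSnd F K) b) (pasteR b K F) (BasedFunctor.id _) (isEquivOver_pasteR b K F)
    (isEquivOver_id _) (isoSnd F K b)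
    (Groth.Agent.Lib.Helper27.RepWithGeneral.repByAlgSpWith_fpFst Q b (fpSnd F K) hb)

end Snd

section IsoSnd

variable (K₁ K₂ : ℬ ⥤ᵇ 𝒵) (κ : K₂ ≅ K₁)

/-- The cospan morphism attached to an isomorphism of the second functors. -/
def DisoSnd : MapData F K₁ F K₂ (BasedFunctor.id 𝒜) (BasedFunctor.id ℬ) (BasedFunctor.id 𝒵) where
  e₁ := fun _ => Iso.refl _
  n₁ := fun _ => (Category.comp_id _).trans (Category.id_comp _).symm
  l₁ := fun _ => Vert.id _
  e₂ := fun y' => ((BasedNatTrans.forgetful _ _).mapIso κ).app y'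
  n₂ := fun β => κ.hom.toNatTrans.naturality β
  l₂ := fun y' => Vert.app κ.hom y'

/-- Fibre products along isomorphic second functors are equivalent. -/
abbrev isoMapSnd : fp F K₂ ⥤ᵇ fp F K₁ := fpMap (DisoSnd F K₁ K₂ κ)

theorem isEquivOver_isoMapSnd : IsEquivOver (isoMapSnd F K₁ K₂ κ) :=
  isEquivOver_fpMap (DisoSnd F K₁ K₂ κ) (isEquivOver_id _) (isEquivOver_id _) (isEquivOver_id _)

end IsoSnd

end Groth.Agent.Lib.Helper27.FpBaseChange
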