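import Groth.Agent.Lib.Helper27.FpKit

/-!
# Cartesian morphisms of the fibre product of two categories over a base (helper27)
-/

set_option autoImplicit false
set_option backward.isDefEq.respectTransparency false
set_option backward.isDefEq.respectTransparency.types false

universe v₃ u₃ v₂ u₂ v u

open CategoryTheory CategoryTheory.Limits FibCat Groth.Agent.Lib.Helper27.FpKit

namespace Groth.Agent.Lib.Helper27.FpCart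

section General

variable {C : Type u} [Category.{v} C] {𝒳 : Type u₂} [Category.{v₂} 𝒳] (p : 𝒳 ⥤ C)

theorem isCartesian_of_map {R S : C} {a b : 𝒳} (f : R ⟶ S) (φ : a ⟶ b) [p.IsHomLift f φ]
    (h : p.IsCartesian (p.map φ) φ) : p.IsCartesian f φ := by
  subst_hom_lift p f φ
  exact h

theorem isCartesian_map_of {R S : C} {a b : 𝒳} (f : R ⟶ S) (φ : a ⟶ b)
    (h : p.IsCartesian f φ) : p.IsCartesian (p.map φ) φ := by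
  have := h.toIsHomLift
  subst_hom_lift p f φ
  exact h

theorem isHomLift_of_map {𝒴 : Type u₃} [Category.{v₃} 𝒴] (q : 𝒴 ⥤ C) {R S : C} {a b : 𝒳}
    (f : R ⟶ S) (φ : a ⟶ b) [p.IsHomLift f φ] {c d : 𝒴} (ψ : c ⟶ d)
    (h : q.IsHomLift (p.map φ) ψ) : q.IsHomLift f ψ := by
  subst_hom_lift p f φ
  exact h

end General

section Fp

variable {C : Type u} [Category.{v} C] {𝒳 : BasedCategory.{v₂, u₂} C}
  {𝒴 : BasedCategory.{v₃, u₃} C}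

theorem iso_hom_eq (t : (fp (toSelf 𝒳) (toSelf 𝒴)).obj) :
    t.obj.iso.hom = eqToHom (Groth.Agent.Lib.Helper27.StackFp.p_snd t).symm := by
  have h : (selfOver C).p.IsHomLift (𝟙 (𝒳.p.obj t.obj.fst)) t.obj.iso.hom := t.property
  have h1 := IsHomLift.fac' (selfOver C).p (𝟙 (𝒳.p.obj t.obj.fst)) t.obj.iso.hom
  have h2 : (selfOver C).p.map t.obj.iso.hom = t.obj.iso.hom := rfl
  rw [h2] at h1
  rw [h1]
  simp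

theorem p_map_eq {t t' : (fp (toSelf 𝒳) (toSelf 𝒴)).obj} (Φ : t ⟶ t') :
    𝒴.p.map Φ.hom.snd = eqToHom (Groth.Agent.Lib.Helper27.StackFp.p_snd t) ≫
      𝒳.p.map Φ.hom.fst ≫ eqToHom (Groth.Agent.Lib.Helper27.StackFp.p_snd t').symm := by
  have hw : 𝒳.p.map Φ.hom.fst ≫ t'.obj.iso.hom = t.obj.iso.hom ≫ 𝒴.p.map Φ.hom.snd := Φ.hom.w
  rw [iso_hom_eq, iso_hom_eq] at hw
  rw [hw]
  simp

theorem map_eq_of_lifts {R S : C} (f : R ⟶ S) {a a' : 𝒳.obj} {b b' : 𝒴.obj} (α : a ⟶ a')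
    (β : b ⟶ b') [𝒳.p.IsHomLift f α] [𝒴.p.IsHomLift f β] (h : 𝒴.p.obj b = 𝒳.p.obj a)
    (h' : 𝒴.p.obj b' = 𝒳.p.obj a') :
    𝒴.p.map β = eqToHom h ≫ 𝒳.p.map α ≫ eqToHom h'.symm := by
  rw [IsHomLift.fac' 𝒳.p f α, IsHomLift.fac' 𝒴.p f β]
  simp

/-- Morphisms of the fibre product from components with matching images in the base. -/
def homOfLifts {t t' : (fp (toSelf 𝒳) (toSelf 𝒴)).obj} (α : t.obj.fst ⟶ t'.obj.fst)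
    (β : t.obj.snd ⟶ t'.obj.snd)
    (h : 𝒴.p.map β = eqToHom (Groth.Agent.Lib.Helper27.StackFp.p_snd t) ≫ 𝒳.p.map α ≫
      eqToHom (Groth.Agent.Lib.Helper27.StackFp.p_snd t').symm) : t ⟶ t' :=
  mkHom α β (by
    rw [iso_hom_eq, iso_hom_eq]
    change 𝒳.p.map α ≫ _ = _ ≫ 𝒴.p.map β
    rw [h]
    simp)

theorem isCartesian_of_components {x y : (fp (toSelf 𝒳) (toSelf 𝒴)).obj} (φ : x ⟶ y)
    (h₁ : 𝒳.p.IsCartesian (𝒳.p.map φ.hom.fst) φ.hom.fst)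
    (h₂ : 𝒴.p.IsCartesian (𝒴.p.map φ.hom.snd) φ.hom.snd) :
    (fp (toSelf 𝒳) (toSelf 𝒴)).p.IsCartesian ((fp (toSelf 𝒳) (toSelf 𝒴)).p.map φ) φ := by
  have hl₁ : 𝒳.p.IsHomLift ((fp (toSelf 𝒳) (toSelf 𝒴)).p.map φ) φ.hom.fst :=
    Groth.Agent.Lib.Helper27.StackFp.fst_lift φ _ inferInstance
  have hl₂ : 𝒴.p.IsHomLift ((fp (toSelf 𝒳) (toSelf 𝒴)).p.map φ) φ.hom.snd :=
    Groth.Agent.Lib.Helper27.StackFp.snd_lift φ _ inferInstance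
  have h₁' : 𝒳.p.IsCartesian ((fp (toSelf 𝒳) (toSelf 𝒴)).p.map φ) φ.hom.fst :=
    isCartesian_of_map 𝒳.p _ _ h₁
  have h₂' : 𝒴.p.IsCartesian ((fp (toSelf 𝒳) (toSelf 𝒴)).p.map φ) φ.hom.snd :=
    isCartesian_of_map 𝒴.p _ _ h₂
  refine { universal_property := ?_ }
  intro x' φ' hφ'
  have hl₁' : 𝒳.p.IsHomLift ((fp (toSelf 𝒳) (toSelf 𝒴)).p.map φ) φ'.hom.fst :=
    Groth.Agent.Lib.Helper27.StackFp.fst_lift φ' _ hφ'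
  have hl₂' : 𝒴.p.IsHomLift ((fp (toSelf 𝒳) (toSelf 𝒴)).p.map φ) φ'.hom.snd :=
    Groth.Agent.Lib.Helper27.StackFp.snd_lift φ' _ hφ'
  obtain ⟨χ₁, ⟨hχ₁l, hχ₁⟩, hχ₁u⟩ := h₁'.universal_property φ'.hom.fst
  obtain ⟨χ₂, ⟨hχ₂l, hχ₂⟩, hχ₂u⟩ := h₂'.universal_property φ'.hom.snd
  have hmap : 𝒴.p.map χ₂ = eqToHom (Groth.Agent.Lib.Helper27.StackFp.p_snd x') ≫ 𝒳.p.map χ₁ ≫
      eqToHom (Groth.Agent.Lib.Helper27.StackFp.p_snd x).symm :=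
    map_eq_of_lifts (𝟙 ((fp (toSelf 𝒳) (toSelf 𝒴)).p.obj x)) χ₁ χ₂
      (Groth.Agent.Lib.Helper27.StackFp.p_snd x') (Groth.Agent.Lib.Helper27.StackFp.p_snd x)
  refine ⟨homOfLifts χ₁ χ₂ hmap,
    ⟨Groth.Agent.Lib.Helper27.StackFp.lift_of_fst _ _ hχ₁l,
      Groth.Agent.Lib.Helper27.StackFp.hom_ext' hχ₁ hχ₂⟩, ?_⟩
  rintro χ' ⟨hχ'l, hχ'⟩
  apply Groth.Agent.Lib.Helper27.StackFp.hom_ext'
  · exact hχ₁u χ'.hom.fst ⟨Groth.Agent.Lib.Helper27.StackFp.fst_lift χ' _ hχ'l,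
      congrArg (fun Θ => Θ.hom.fst) hχ'⟩
  · exact hχ₂u χ'.hom.snd ⟨Groth.Agent.Lib.Helper27.StackFp.snd_lift χ' _ hχ'l,
      congrArg (fun Θ => Θ.hom.snd) hχ'⟩

theorem vert_eqToHom_self {U U' : C} (h : U = U') :
    Vert (𝒳 := selfOver C) (eqToHom h : U ⟶ U') := by
  subst h
  exact Vert.id _

theorem fst_isCartesian {x y : (fp (toSelf 𝒳) (toSelf 𝒴)).obj} (φ : x ⟶ y)
    (hc : (fp (toSelf 𝒳) (toSelf 𝒴)).p.IsCartesian ((fp (toSelf 𝒳) (toSelf 𝒴)).p.map φ) φ) :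
    𝒳.p.IsCartesian (𝒳.p.map φ.hom.fst) φ.hom.fst := by
  refine { universal_property := ?_ }
  intro a' ψ hψ
  have hdom : 𝒳.p.obj a' = 𝒳.p.obj x.obj.fst :=
    IsHomLift.domain_eq 𝒳.p (𝒳.p.map φ.hom.fst) ψ
  have hxs : 𝒳.p.obj a' = 𝒴.p.obj x.obj.snd :=
    hdom.trans (Groth.Agent.Lib.Helper27.StackFp.p_snd x).symm
  obtain ⟨x', hx'₁, hx'₂⟩ : ∃ x' : (fp (toSelf 𝒳) (toSelf 𝒴)).obj,
      x'.obj.fst = a' ∧ x'.obj.snd = x.obj.snd :=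
    ⟨mkObj (F := toSelf 𝒳) (G := toSelf 𝒴) a' x.obj.snd (eqToIso hxs) (vert_eqToHom_self hxs),
      rfl, rfl⟩
  subst hx'₁
  have hl₂ : 𝒴.p.IsHomLift (𝒳.p.map φ.hom.fst) φ.hom.snd :=
    Groth.Agent.Lib.Helper27.StackFp.snd_lift φ _
      (inferInstance : (fp (toSelf 𝒳) (toSelf 𝒴)).p.IsHomLift
        ((fp (toSelf 𝒳) (toSelf 𝒴)).p.map φ) φ)
  obtain ⟨β, hβ⟩ : ∃ β : x'.obj.snd ⟶ y.obj.snd, β = eqToHom hx'₂ ≫ φ.hom.snd := ⟨_, rfl⟩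
  have hlβ : 𝒴.p.IsHomLift (𝒳.p.map φ.hom.fst) β := by
    rw [hβ]
    have : 𝒴.p.IsHomLift (𝟙 (𝒳.p.obj x.obj.fst) ≫ 𝒳.p.map φ.hom.fst)
        (eqToHom hx'₂ ≫ φ.hom.snd) := by
      have h1 : 𝒴.p.IsHomLift (𝟙 (𝒳.p.obj x.obj.fst)) (eqToHom hx'₂) :=
        IsHomLift.eqToHom_domain_lift_id _ ((congrArg 𝒴.p.obj hx'₂).trans
          (Groth.Agent.Lib.Helper27.StackFp.p_snd x))
      infer_instance
    rw [Category.id_comp] at this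
    exact this
  have hmap : 𝒴.p.map β = eqToHom (Groth.Agent.Lib.Helper27.StackFp.p_snd x') ≫ 𝒳.p.map ψ ≫
      eqToHom (Groth.Agent.Lib.Helper27.StackFp.p_snd y).symm :=
    map_eq_of_lifts (𝒳.p.map φ.hom.fst) ψ β
      (Groth.Agent.Lib.Helper27.StackFp.p_snd x') (Groth.Agent.Lib.Helper27.StackFp.p_snd y)
  obtain ⟨φ', hφ'₁, hφ'₂⟩ : ∃ φ' : x' ⟶ y, φ'.hom.fst = ψ ∧ φ'.hom.snd = β :=
    ⟨homOfLifts ψ β hmap, rfl, rfl⟩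
  have hφ'l : (fp (toSelf 𝒳) (toSelf 𝒴)).p.IsHomLift ((fp (toSelf 𝒳) (toSelf 𝒴)).p.map φ) φ' :=
    Groth.Agent.Lib.Helper27.StackFp.lift_of_fst φ' _ (by rw [hφ'₁]; exact hψ)
  obtain ⟨χ, ⟨hχl, hχ⟩, hχu⟩ := hc.universal_property φ'
  refine ⟨χ.hom.fst, ⟨Groth.Agent.Lib.Helper27.StackFp.fst_lift χ _ hχl, ?_⟩, ?_⟩
  · rw [← hφ'₁, ← hχ]
    rfl
  · rintro χ₁' ⟨hχ₁'l, hχ₁'⟩
    have hid : 𝒴.p.IsHomLift (𝟙 (𝒳.p.obj x.obj.fst)) (eqToHom hx'₂) :=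
      IsHomLift.eqToHom_domain_lift_id _ ((congrArg 𝒴.p.obj hx'₂).trans
        (Groth.Agent.Lib.Helper27.StackFp.p_snd x))
    have hmap' : 𝒴.p.map (eqToHom hx'₂) =
        eqToHom (Groth.Agent.Lib.Helper27.StackFp.p_snd x') ≫ 𝒳.p.map χ₁' ≫
        eqToHom (Groth.Agent.Lib.Helper27.StackFp.p_snd x).symm :=
      map_eq_of_lifts (𝟙 (𝒳.p.obj x.obj.fst)) χ₁' (eqToHom hx'₂)
        (Groth.Agent.Lib.Helper27.StackFp.p_snd x') (Groth.Agent.Lib.Helper27.StackFp.p_snd x)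
    have h2 := hχu (homOfLifts χ₁' (eqToHom hx'₂) hmap')
      ⟨Groth.Agent.Lib.Helper27.StackFp.lift_of_fst _ _ hχ₁'l,
        Groth.Agent.Lib.Helper27.StackFp.hom_ext' (hχ₁'.trans hφ'₁.symm)
          (hβ.symm.trans hφ'₂.symm)⟩
    rw [← h2]
    rfl

theorem snd_isCartesian {x y : (fp (toSelf 𝒳) (toSelf 𝒴)).obj} (φ : x ⟶ y)
    (hc : (fp (toSelf 𝒳) (toSelf 𝒴)).p.IsCartesian ((fp (toSelf 𝒳) (toSelf 𝒴)).p.map φ) φ) :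
    𝒴.p.IsCartesian (𝒴.p.map φ.hom.snd) φ.hom.snd := by
  have hl₂ : 𝒴.p.IsHomLift (𝒳.p.map φ.hom.fst) φ.hom.snd :=
    Groth.Agent.Lib.Helper27.StackFp.snd_lift φ _
      (inferInstance : (fp (toSelf 𝒳) (toSelf 𝒴)).p.IsHomLift
        ((fp (toSelf 𝒳) (toSelf 𝒴)).p.map φ) φ)
  suffices h : 𝒴.p.IsCartesian (𝒳.p.map φ.hom.fst) φ.hom.snd from isCartesian_map_of 𝒴.p _ _ h
  refine { toIsHomLift := hl₂, universal_property := ?_ }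
  intro b' ψ hψ
  have hdom : 𝒴.p.obj b' = 𝒳.p.obj x.obj.fst :=
    IsHomLift.domain_eq 𝒴.p (𝒳.p.map φ.hom.fst) ψ
  obtain ⟨x', hx'₁, hx'₂⟩ : ∃ x' : (fp (toSelf 𝒳) (toSelf 𝒴)).obj,
      x'.obj.fst = x.obj.fst ∧ x'.obj.snd = b' :=
    ⟨mkObj (F := toSelf 𝒳) (G := toSelf 𝒴) x.obj.fst b' (eqToIso hdom.symm)
      (vert_eqToHom_self hdom.symm), rfl, rfl⟩
  subst hx'₂
  obtain ⟨α, hα⟩ : ∃ α : x'.obj.fst ⟶ y.obj.fst, α = eqToHom hx'₁ ≫ φ.hom.fst := ⟨_, rfl⟩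
  have hlα : 𝒳.p.IsHomLift (𝒳.p.map φ.hom.fst) α := by
    rw [hα]
    have : 𝒳.p.IsHomLift (𝟙 (𝒳.p.obj x.obj.fst) ≫ 𝒳.p.map φ.hom.fst)
        (eqToHom hx'₁ ≫ φ.hom.fst) := by
      have h1 : 𝒳.p.IsHomLift (𝟙 (𝒳.p.obj x.obj.fst)) (eqToHom hx'₁) :=
        IsHomLift.eqToHom_domain_lift_id _ (congrArg 𝒳.p.obj hx'₁)
      infer_instance
    rw [Category.id_comp] at this
    exact this
  have hmap : 𝒴.p.map ψ = eqToHom (Groth.Agent.Lib.Helper27.StackFp.p_snd x') ≫ 𝒳.p.map α ≫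
      eqToHom (Groth.Agent.Lib.Helper27.StackFp.p_snd y).symm :=
    map_eq_of_lifts (𝒳.p.map φ.hom.fst) α ψ
      (Groth.Agent.Lib.Helper27.StackFp.p_snd x') (Groth.Agent.Lib.Helper27.StackFp.p_snd y)
  obtain ⟨φ', hφ'₁, hφ'₂⟩ : ∃ φ' : x' ⟶ y, φ'.hom.fst = α ∧ φ'.hom.snd = ψ :=
    ⟨homOfLifts α ψ hmap, rfl, rfl⟩
  have hφ'l : (fp (toSelf 𝒳) (toSelf 𝒴)).p.IsHomLift ((fp (toSelf 𝒳) (toSelf 𝒴)).p.map φ) φ' :=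
    Groth.Agent.Lib.Helper27.StackFp.lift_of_fst φ' _ (by rw [hφ'₁]; exact hlα)
  obtain ⟨χ, ⟨hχl, hχ⟩, hχu⟩ := hc.universal_property φ'
  refine ⟨χ.hom.snd, ⟨Groth.Agent.Lib.Helper27.StackFp.snd_lift χ _ hχl, ?_⟩, ?_⟩
  · rw [← hφ'₂, ← hχ]
    rfl
  · rintro χ₂' ⟨hχ₂'l, hχ₂'⟩
    have hid : 𝒳.p.IsHomLift (𝟙 (𝒳.p.obj x.obj.fst)) (eqToHom hx'₁) :=
      IsHomLift.eqToHom_domain_lift_id _ (congrArg 𝒳.p.obj hx'₁)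
    have hmap' : 𝒴.p.map χ₂' =
        eqToHom (Groth.Agent.Lib.Helper27.StackFp.p_snd x') ≫ 𝒳.p.map (eqToHom hx'₁) ≫
        eqToHom (Groth.Agent.Lib.Helper27.StackFp.p_snd x).symm :=
      map_eq_of_lifts (𝟙 (𝒳.p.obj x.obj.fst)) (eqToHom hx'₁) χ₂'
        (Groth.Agent.Lib.Helper27.StackFp.p_snd x') (Groth.Agent.Lib.Helper27.StackFp.p_snd x)
    have h2 := hχu (homOfLifts (eqToHom hx'₁) χ₂' hmap')
      ⟨Groth.Agent.Lib.Helper27.StackFp.lift_of_fst _ _ hid,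
        Groth.Agent.Lib.Helper27.StackFp.hom_ext' (hα.symm.trans hφ'₁.symm)
          (hχ₂'.trans hφ'₂.symm)⟩
    rw [← h2]
    rfl

theorem isCartesian_iff {x y : (fp (toSelf 𝒳) (toSelf 𝒴)).obj} (φ : x ⟶ y) :
    (fp (toSelf 𝒳) (toSelf 𝒴)).p.IsCartesian ((fp (toSelf 𝒳) (toSelf 𝒴)).p.map φ) φ ↔
      𝒳.p.IsCartesian (𝒳.p.map φ.hom.fst) φ.hom.fst ∧
        𝒴.p.IsCartesian (𝒴.p.map φ.hom.snd) φ.hom.snd :=
  ⟨fun hc => ⟨fst_isCartesian φ hc, snd_isCartesian φ hc⟩,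
    fun h => isCartesian_of_components φ h.1 h.2⟩

theorem isPreFibered_fp (h𝒳 : 𝒳.p.IsPreFibered) (h𝒴 : 𝒴.p.IsPreFibered) :
    (fp (toSelf 𝒳) (toSelf 𝒴)).p.IsPreFibered := by
  refine ⟨?_⟩
  intro t R f
  obtain ⟨a, α, hα⟩ := h𝒳.exists_isCartesian' (a := t.obj.fst) (R := R) f
  obtain ⟨b, β, hβ⟩ := CategoryTheory.IsPreFibered.exists_isCartesian 𝒴.p
    (Groth.Agent.Lib.Helper27.StackFp.p_snd t) f
  have hlα : 𝒳.p.IsHomLift f α := hα.toIsHomLift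
  have hlβ : 𝒴.p.IsHomLift f β := hβ.toIsHomLift
  have hab : 𝒳.p.obj a = 𝒴.p.obj b :=
    (IsHomLift.domain_eq 𝒳.p f α).trans (IsHomLift.domain_eq 𝒴.p f β).symm
  obtain ⟨t', ht'₁, ht'₂⟩ : ∃ t' : (fp (toSelf 𝒳) (toSelf 𝒴)).obj,
      t'.obj.fst = a ∧ t'.obj.snd = b :=
    ⟨mkObj (F := toSelf 𝒳) (G := toSelf 𝒴) a b (eqToIso hab) (vert_eqToHom_self hab), rfl, rfl⟩
  subst ht'₁
  subst ht'₂
  have hmap : 𝒴.p.map β = eqToHom (Groth.Agent.Lib.Helper27.StackFp.p_snd t') ≫ 𝒳.p.map α ≫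
      eqToHom (Groth.Agent.Lib.Helper27.StackFp.p_snd t).symm :=
    map_eq_of_lifts f α β
      (Groth.Agent.Lib.Helper27.StackFp.p_snd t') (Groth.Agent.Lib.Helper27.StackFp.p_snd t)
  obtain ⟨φ, hφ₁, hφ₂⟩ : ∃ φ : t' ⟶ t, φ.hom.fst = α ∧ φ.hom.snd = β :=
    ⟨homOfLifts α β hmap, rfl, rfl⟩
  have hφl : (fp (toSelf 𝒳) (toSelf 𝒴)).p.IsHomLift f φ :=
    Groth.Agent.Lib.Helper27.StackFp.lift_of_fst φ f (by rw [hφ₁]; exact hlα)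
  refine ⟨t', φ, isCartesian_of_map _ f φ (isCartesian_of_components φ ?_ ?_)⟩
  · rw [hφ₁]
    exact isCartesian_map_of 𝒳.p f α hα
  · rw [hφ₂]
    exact isCartesian_map_of 𝒴.p f β hβ

theorem isFibered_fp (h𝒳 : 𝒳.p.IsFibered) (h𝒴 : 𝒴.p.IsFibered) :
    (fp (toSelf 𝒳) (toSelf 𝒴)).p.IsFibered := by
  have hpre := isPreFibered_fp h𝒳.toIsPreFibered h𝒴.toIsPreFibered
  refine { toIsPreFibered := hpre, comp := ?_ }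
  intro R S T f g a b c φ ψ hφ hψ
  have hφl : (fp (toSelf 𝒳) (toSelf 𝒴)).p.IsHomLift f φ := hφ.toIsHomLift
  have hψl : (fp (toSelf 𝒳) (toSelf 𝒴)).p.IsHomLift g ψ := hψ.toIsHomLift
  have hφc := isCartesian_map_of _ f φ hφ
  have hψc := isCartesian_map_of _ g ψ hψ
  have h1φ := fst_isCartesian φ hφc
  have h1ψ := fst_isCartesian ψ hψc
  have h2φ := snd_isCartesian φ hφc
  have h2ψ := snd_isCartesian ψ hψc
  have h1 : 𝒳.p.IsCartesian (𝒳.p.map φ.hom.fst ≫ 𝒳.p.map ψ.hom.fst)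
      (φ.hom.fst ≫ ψ.hom.fst) := h𝒳.comp _ _ _ _
  have h2 : 𝒴.p.IsCartesian (𝒴.p.map φ.hom.snd ≫ 𝒴.p.map ψ.hom.snd)
      (φ.hom.snd ≫ ψ.hom.snd) := h𝒴.comp _ _ _ _
  exact isCartesian_of_map _ (f ≫ g) (φ ≫ ψ) (isCartesian_of_components (φ ≫ ψ)
    (isCartesian_map_of 𝒳.p _ _ h1) (isCartesian_map_of 𝒴.p _ _ h2))

end Fp

end Groth.Agent.Lib.Helper27.FpCart
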