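import Groth.Agent.Lib.Helper27.FppfLift
import Groth.Agent.Lib.Helper27.StPointsTop
import Groth.Agent.Lib.Helper3.AlgSpHasAtMor

/-!
# Lifting charts fppf locally along jointly surjective families (helper27)
-/

set_option autoImplicit false
set_option backward.isDefEq.respectTransparency false
set_option backward.isDefEq.respectTransparency.types false

universe u

open CategoryTheory CategoryTheory.Limits FibCat AlgebraicGeometry Opposite
  Groth.Agent.Lib.Helper27.FpKit Groth.Agent.Lib.Helper27.PointsKit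
  Groth.Agent.Lib.Helper27.StPoints Groth.Agent.Lib.Helper27.RepWithComp
  Groth.Agent.Lib.Helper27.PshKit

namespace Groth.Agent.Lib.Helper27.FppfLift

variable {S : Scheme.{u}}

/-- Along a representable, flat, locally finitely presented functor from an algebraic space every
chart lifts after a flat, locally finitely presented base change whose image contains all points
mapping into the image of the functor. -/
theorem exists_fppf_lift_space_pt {𝒴 : AlgSt.Cat S} (h𝒴 : FibCat.IsFibGrpd 𝒴.p)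
    (R₀ : AlgSp.Space S) (w : AlgSt.ofSp R₀.obj ⥤ᵇ 𝒴)
    (hw₁ : AlgSt.RepByAlgSpWith (AlgSp.LocP @Flat) w)
    (hw₂ : AlgSt.RepByAlgSpWith (AlgSp.LocP @LocallyOfFinitePresentation) w) {U : Over S}
    (y : overCat U ⥤ᵇ 𝒴) :
    ∃ (A : Over S) (h : A ⟶ U) (l : overCat A ⥤ᵇ AlgSt.ofSp R₀.obj), Flat h.left ∧
      LocallyOfFinitePresentation h.left ∧
      Nonempty (BasedFunctor.comp l w ≅ BasedFunctor.comp (AlgSt.overMap h) y) ∧
      ∀ u : ↥U.left, AlgSt.Points.ofChart y u ∈ Set.range (AlgSt.Points.map w) →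
        u ∈ Set.range h.left := by
  have hfp : AlgSp.IsLocalOnBase AlgSp.IsFppfCover
      (AlgSp.LocP @LocallyOfFinitePresentation : MorphismProperty (AlgSp.Sp S)) :=
    isLocalOnBase_fppf_of_fpqc _ (Groth.Agent.S10527.result S)
  have hw : AlgSt.RepByAlgSpWith
      (AlgSp.LocP @Flat ⊓ AlgSp.LocP @LocallyOfFinitePresentation) w :=
    Groth.Agent.Lib.Helper27.SepDiag.repByAlgSpWith_inf w _ _ hfp hw₁ hw₂
  obtain ⟨G, eG, heG, hπ⟩ := hw U y
  obtain ⟨π, hπdef⟩ : ∃ π : G.obj ⟶ (AlgSp.yon S).obj U,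
    π = AlgSt.spMapOfOver (BasedFunctor.comp eG (fpFst y w)) := ⟨_, rfl⟩
  rw [← hπdef] at hπ
  obtain ⟨A, a, hae, has⟩ := G.property.atlas
  obtain ⟨h, hh⟩ : ∃ h : A ⟶ U, (AlgSp.yon S).map h = a ≫ π :=
    ⟨(AlgSp.yon S).preimage (a ≫ π), (AlgSp.yon S).map_preimage _⟩
  have hcomm : a ≫ π = (AlgSp.yon S).map h ≫ 𝟙 _ := by rw [Category.comp_id, hh]
  have h1 : Flat h.left := hπ.1 a (𝟙 _) h hae (AlgSp.repWith_id @Etale U) hcomm
  have h2 : LocallyOfFinitePresentation h.left :=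
    hπ.2 a (𝟙 _) h hae (AlgSp.repWith_id @Etale U) hcomm
  refine ⟨A, h, BasedFunctor.comp (AlgSt.ofOverCat A) (BasedFunctor.comp (AlgSt.ofSpMap a)
    (BasedFunctor.comp eG (fpSnd y w))), h1, h2, ⟨?_⟩, ?_⟩
  · -- the 2-isomorphism
    have i1 : BasedFunctor.comp (BasedFunctor.comp eG (fpSnd y w)) w ≅
        BasedFunctor.comp (BasedFunctor.comp eG (fpFst y w)) y :=
      Groth.Agent.Lib.Helper27.RepCancel.whiskerLeftIso eG (fpIso y w).symm
    have i2 : BasedFunctor.comp (BasedFunctor.comp eG (fpFst y w)) y ≅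
        BasedFunctor.comp (BasedFunctor.comp (AlgSt.ofSpMap π) (AlgSt.toOverCat U)) y := by
      rw [hπdef]
      exact Groth.Agent.Lib.Helper27.RepCancel.whiskerRightIso
        (Groth.Agent.Lib.Helper27.RepChart.structIso _).symm y
    have e3 : BasedFunctor.comp (AlgSt.ofSpMap a)
        (BasedFunctor.comp (BasedFunctor.comp (AlgSt.ofSpMap π) (AlgSt.toOverCat U)) y) =
        BasedFunctor.comp (AlgSt.ofSpMap (a ≫ π)) (BasedFunctor.comp (AlgSt.toOverCat U) y) := rfl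
    have e4 : BasedFunctor.comp (AlgSt.ofSpMap ((AlgSp.yon S).map h))
        (BasedFunctor.comp (AlgSt.toOverCat U) y) =
        BasedFunctor.comp (AlgSt.toOverCat A) (BasedFunctor.comp (AlgSt.overMap h) y) := rfl
    have e34 : BasedFunctor.comp (AlgSt.ofSpMap (a ≫ π))
        (BasedFunctor.comp (AlgSt.toOverCat U) y) =
        BasedFunctor.comp (AlgSt.ofSpMap ((AlgSp.yon S).map h))
          (BasedFunctor.comp (AlgSt.toOverCat U) y) := by rw [hh]
    have i5 : BasedFunctor.comp (AlgSt.ofSpMap a)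
        (BasedFunctor.comp (BasedFunctor.comp eG (fpSnd y w)) w) ≅
        BasedFunctor.comp (AlgSt.toOverCat A) (BasedFunctor.comp (AlgSt.overMap h) y) :=
      Groth.Agent.Lib.Helper27.RepCancel.whiskerLeftIso (AlgSt.ofSpMap a) (i1 ≪≫ i2) ≪≫
        eqToIso (e3.trans (e34.trans e4))
    exact Groth.Agent.Lib.Helper27.RepCancel.whiskerLeftIso (AlgSt.ofOverCat A) i5 ≪≫
      Groth.Agent.Lib.Helper27.RepCancel.whiskerRightIso
        (Groth.Agent.Lib.Helper27.RepChart.ofToIso A) (BasedFunctor.comp (AlgSt.overMap h) y)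
  · -- the points
    rintro u ⟨r, hr⟩
    rw [ofChart_eq] at hr
    obtain ⟨w', hw', -⟩ := exists_points_fp (Stk.isFibGrpd_ofPsh (P := R₀.obj.obj)) h𝒴
      (Groth.Agent.Lib.Helper27.ReprAux.isFibGrpd_overCat U) w y (ptOf U u) r hr.symm
    obtain ⟨w'', rfl⟩ := map_surjective_of_equiv eG heG w'
    obtain ⟨φ, rfl⟩ := toSt_surjective G.obj w''
    have h3 := map_toSt_eq (BasedFunctor.comp eG (fpFst y w)) φ
    rw [map_comp, hw', ← hπdef] at h3
    have h4 := (ptOf_bijective U).1 h3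
    obtain ⟨t, ht⟩ := Groth.Agent.Lib.Helper3.exists_ofPt_eq a has φ
    refine ⟨t, ?_⟩
    have h5 : AlgSp.Points.map ((AlgSp.yon S).map h) (AlgSp.Points.schemeHomeo A t) =
        AlgSp.Points.map π φ := by
      rw [hh, AlgSp.Points.map_comp, ← ht, AlgSp.Points.ofPt_eq_map_ofScheme]
      rfl
    rw [AlgSp.Points.map_yon_map_apply] at h5
    rw [h4, ← h5, Homeomorph.symm_apply_apply]

/-- A jointly surjective family of flat locally finitely presented functors: every chart lifts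
fppf locally to one of the members. -/
theorem exists_fppf_cover_lifting {𝒳 : AlgSt.Cat S} (h𝒳 : FibCat.IsFibGrpd 𝒳.p)
    (J : Type u) (𝒳' : J → AlgSt.Cat S) (h𝒳' : ∀ j, FibCat.IsFibGrpd (𝒳' j).p)
    (f : ∀ j, 𝒳' j ⥤ᵇ 𝒳)
    (hf₁ : ∀ j, AlgSt.LocQ (AlgSp.LocP @Flat) (f j))
    (hf₂ : ∀ j, AlgSt.LocQ (AlgSp.LocP @LocallyOfFinitePresentation) (f j))
    (hf₃ : ∀ p : AlgSt.Points 𝒳, ∃ j, p ∈ Set.range (AlgSt.Points.map (f j)))
    (U : Over S) (x : FibCat.overCat U ⥤ᵇ 𝒳) :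
    ∃ (ι : Type u) (V : ι → Over S) (g : ∀ i, V i ⟶ U) (c : ι → J),
      (Presieve.ofArrows (fun i ↦ (V i).left) fun i ↦ (g i).left) ∈
        Scheme.fppfPrecoverage U.left ∧
      ∀ i, ∃ x' : FibCat.overCat (V i) ⥤ᵇ 𝒳' (c i),
        Nonempty (BasedFunctor.comp x' (f (c i)) ≅ BasedFunctor.comp (AlgSt.overMap (g i)) x) := by
  choose R x'' hs hfl hfp using fun j =>
    Groth.Agent.Lib.Helper27.QcImage.exists_fppf_space_chart (h𝒳' j) (f j) (hf₁ j) (hf₂ j)
  choose A h l h1 h2 κ hpt using fun j =>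
    exists_fppf_lift_space_pt h𝒳 (R j) (BasedFunctor.comp (x'' j) (f j)) (hfl j) (hfp j) x
  refine ⟨J, A, h, id, ?_, fun j => ⟨BasedFunctor.comp (l j) (x'' j), κ j⟩⟩
  rw [Scheme.fppfPrecoverage, Scheme.ofArrows_mem_precoverage_iff]
  refine ⟨fun u => ?_, fun j => ⟨h1 j, h2 j⟩⟩
  obtain ⟨j, p, hp⟩ := hf₃ (AlgSt.Points.ofChart x u)
  obtain ⟨r, rfl⟩ := isSurjective_of_rep (Stk.isFibGrpd_ofPsh (P := (R j).obj.obj)) (h𝒳' j)
    (x'' j) (hs j) p
  exact ⟨j, hpt j u ⟨r, by rw [map_comp]; exact hp⟩⟩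


end Groth.Agent.Lib.Helper27.FppfLift
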