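import Groth.Agent.Lib.Helper27.FppfLiftFam

/-!
# Smooth lifts of charts, fppf locally, along flat locally finitely presented surjective functors
(helper27)
-/

set_option autoImplicit false
set_option backward.isDefEq.respectTransparency false
set_option backward.isDefEq.respectTransparency.types false

universe u

open CategoryTheory CategoryTheory.Limits FibCat AlgebraicGeometry Opposite
  Groth.Agent.Lib.Helper27.FpKit Groth.Agent.Lib.Helper27.PointsKit
  Groth.Agent.Lib.Helper27.StPoints Groth.Agent.Lib.Helper27.RepWithComp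
  Groth.Agent.Lib.Helper27.PshKit Groth.Agent.Lib.Helper27.QcImage

namespace Groth.Agent.Lib.Helper27.FppfLift

variable {S : Scheme.{u}}

/-- The space chart of `exists_fppf_space_chart` is moreover smooth. -/
theorem exists_fppf_space_chart' {𝒵 𝒴 : AlgSt.Cat S} (h𝒵 : FibCat.IsFibGrpd 𝒵.p)
    (z : 𝒵 ⥤ᵇ 𝒴) (hz₁ : AlgSt.LocQ (AlgSp.LocP @Flat) z)
    (hz₂ : AlgSt.LocQ (AlgSp.LocP @LocallyOfFinitePresentation) z) :
    ∃ (R : AlgSp.Space S) (x'' : AlgSt.ofSp R.obj ⥤ᵇ 𝒵),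
      AlgSt.RepByAlgSpWith AlgSp.IsSurjectiveMor x'' ∧
      AlgSt.RepByAlgSpWith (AlgSp.LocP @Smooth) x'' ∧
      AlgSt.RepByAlgSpWith (AlgSp.LocP @Flat) (BasedFunctor.comp x'' z) ∧
      AlgSt.RepByAlgSpWith (AlgSp.LocP @LocallyOfFinitePresentation)
        (BasedFunctor.comp x'' z) := by
  obtain ⟨U, V, x, y, h, α, hx₁, hx₂, hy₁, hPh⟩ := hz₁
  obtain ⟨U', V', x', y', h', α', hx'₁, hx'₂, hy'₁, hPh'⟩ := hz₂
  obtain ⟨R, e, he, -⟩ := hx'₁ U x
  have hfU := Groth.Agent.Lib.Helper27.ReprAux.isFibGrpd_overCat U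
  have hfR : FibCat.IsFibGrpd (AlgSt.ofSp R.obj).p := Stk.isFibGrpd_ofPsh (P := R.obj.obj)
  have hpr₁ : ∀ P : MorphismProperty (AlgSp.Sp S), AlgSt.RepByAlgSpWith P x' →
      AlgSt.RepByAlgSpWith P (BasedFunctor.comp e (fpFst x x')) := fun P hP =>
    Groth.Agent.Lib.Helper27.LocQOver.repByAlgSpWith_equiv_comp P e he _
      (Groth.Agent.Lib.Helper27.RepWithGeneral.repByAlgSpWith_fpFst P x' x hP)
  have hpr₂ : ∀ P : MorphismProperty (AlgSp.Sp S), AlgSt.RepByAlgSpWith P x →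
      AlgSt.RepByAlgSpWith P (BasedFunctor.comp e (fpSnd x x')) := fun P hP =>
    Groth.Agent.Lib.Helper27.LocQOver.repByAlgSpWith_equiv_comp P e he _
      (Groth.Agent.Lib.Helper27.FpSwap.repByAlgSpWith_fpSnd P x' x hP)
  refine ⟨R, BasedFunctor.comp (BasedFunctor.comp e (fpFst x x')) x, ?_, ?_, ?_, ?_⟩
  · exact comp_gen _ Groth.Agent.Lib.Helper27.DiagLft.compHyp_isSurjectiveMor hfR hfU _ x
      (hpr₁ _ hx'₂) hx₂
  · exact comp_gen _ (compHyp_locP Groth.Agent.Lib.Helper3.isEtLocal_smooth) hfR hfU _ x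
      (hpr₁ _ hx'₁) hx₁
  · have h1 := repByAlgSpWith_comp_overMap (AlgSp.LocP @Flat)
      (compHyp_locP Groth.Agent.Lib.Helper3.isEtLocal_flat)
      (locP_stable Groth.Agent.Lib.Helper3.isEtLocal_flat) R
      (BasedFunctor.comp e (fpFst x x'))
      (hpr₁ _ (Groth.Agent.Lib.Helper27.DiagLft.flat_of_smooth x' hx'₁)) h hPh y
      (Groth.Agent.Lib.Helper27.DiagLft.flat_of_smooth y hy₁)
    exact Groth.Agent.Lib.Helper27.LocQOver.repByAlgSpWith_of_iso _
      (Groth.Agent.Lib.Helper27.RepCancel.whiskerLeftIso (BasedFunctor.comp e (fpFst x x'))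
        α.symm) h1
  · have h1 := repByAlgSpWith_comp_overMap (AlgSp.LocP @LocallyOfFinitePresentation)
      (compHyp_locP Groth.Agent.Lib.Helper3.isEtLocal_locallyOfFinitePresentation)
      (locP_stable Groth.Agent.Lib.Helper3.isEtLocal_locallyOfFinitePresentation) R
      (BasedFunctor.comp e (fpSnd x x'))
      (hpr₂ _ (Groth.Agent.Lib.Helper27.DiagLft.lfp_of_smooth x hx₁)) h' hPh' y'
      (Groth.Agent.Lib.Helper27.DiagLft.lfp_of_smooth y' hy'₁)
    have i1 : BasedFunctor.comp (BasedFunctor.comp e (fpSnd x x'))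
        (BasedFunctor.comp (AlgSt.overMap h') y') ≅
        BasedFunctor.comp (BasedFunctor.comp e (fpSnd x x')) (BasedFunctor.comp x' z) :=
      Groth.Agent.Lib.Helper27.RepCancel.whiskerLeftIso (BasedFunctor.comp e (fpSnd x x'))
        α'.symm
    have i2 : BasedFunctor.comp (BasedFunctor.comp (BasedFunctor.comp e (fpSnd x x')) x') z ≅
        BasedFunctor.comp (BasedFunctor.comp (BasedFunctor.comp e (fpFst x x')) x) z :=
      Groth.Agent.Lib.Helper27.RepCancel.whiskerRightIso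
        (Groth.Agent.Lib.Helper27.RepCancel.whiskerLeftIso e (fpIso x x').symm) z
    exact Groth.Agent.Lib.Helper27.LocQOver.repByAlgSpWith_of_iso _ (i1 ≪≫ i2) h1


/-- Along a representable, flat, locally finitely presented, surjective functor from an algebraic
space every smooth chart lifts, smoothly, after a flat, locally finitely presented, surjective base
change. -/
theorem exists_fppf_lift_space_sm {𝒴 : AlgSt.Cat S} (R₀ : AlgSp.Space S)
    (w : AlgSt.ofSp R₀.obj ⥤ᵇ 𝒴)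
    (hw₁ : AlgSt.RepByAlgSpWith (AlgSp.LocP @Flat) w)
    (hw₂ : AlgSt.RepByAlgSpWith (AlgSp.LocP @LocallyOfFinitePresentation) w)
    (hw₃ : AlgSt.RepByAlgSpWith AlgSp.IsSurjectiveMor w) {U : Over S} (y : overCat U ⥤ᵇ 𝒴)
    (hy : AlgSt.RepByAlgSpWith (AlgSp.LocP @Smooth) y) :
    ∃ (A : Over S) (h : A ⟶ U) (l : overCat A ⥤ᵇ AlgSt.ofSp R₀.obj), Flat h.left ∧
      LocallyOfFinitePresentation h.left ∧ Function.Surjective h.left ∧
      AlgSt.RepByAlgSpWith (AlgSp.LocP @Smooth) l ∧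
      Nonempty (BasedFunctor.comp l w ≅ BasedFunctor.comp (AlgSt.overMap h) y) := by
  have hfl : AlgSp.IsLocalOnBase AlgSp.IsFppfCover
      (AlgSp.LocP @Flat : MorphismProperty (AlgSp.Sp S)) :=
    isLocalOnBase_fppf_of_fpqc _ (Groth.Agent.S10530.result S)
  have hfp : AlgSp.IsLocalOnBase AlgSp.IsFppfCover
      (AlgSp.LocP @LocallyOfFinitePresentation : MorphismProperty (AlgSp.Sp S)) :=
    isLocalOnBase_fppf_of_fpqc _ (Groth.Agent.S10527.result S)
  have hw : AlgSt.RepByAlgSpWith (AlgSp.IsSurjectiveMor ⊓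
      (AlgSp.LocP @Flat ⊓ AlgSp.LocP @LocallyOfFinitePresentation)) w :=
    Groth.Agent.Lib.Helper27.SepDiag.repByAlgSpWith_inf w _ _
      (Groth.Agent.Lib.Helper27.SourceCancel.isLocalOnBase_inf _ _ _ hfl hfp) hw₃
      (Groth.Agent.Lib.Helper27.SepDiag.repByAlgSpWith_inf w _ _ hfp hw₁ hw₂)
  obtain ⟨G, eG, heG, hπ⟩ := hw U y
  obtain ⟨π, hπdef⟩ : ∃ π : G.obj ⟶ (AlgSp.yon S).obj U,
    π = AlgSt.spMapOfOver (BasedFunctor.comp eG (fpFst y w)) := ⟨_, rfl⟩
  rw [← hπdef] at hπ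
  obtain ⟨A, a, hae, has⟩ := G.property.atlas
  obtain ⟨h, hh⟩ : ∃ h : A ⟶ U, (AlgSp.yon S).map h = a ≫ π :=
    ⟨(AlgSp.yon S).preimage (a ≫ π), (AlgSp.yon S).map_preimage _⟩
  have hcomm : a ≫ π = (AlgSp.yon S).map h ≫ 𝟙 _ := by rw [Category.comp_id, hh]
  have h1 : Flat h.left := hπ.2.1 a (𝟙 _) h hae (AlgSp.repWith_id @Etale U) hcomm
  have h2 : LocallyOfFinitePresentation h.left :=
    hπ.2.2 a (𝟙 _) h hae (AlgSp.repWith_id @Etale U) hcomm
  have h3 : Function.Surjective h.left := by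
    apply Groth.Agent.Lib.Helper3.surjective_of_isSurjectiveMor_yon_map
    rw [hh]
    exact Groth.Agent.Lib.Helper3.isSurjectiveMor_comp
      (Groth.Agent.Lib.Helper3.isSurjectiveMor_of_repWith has) hπ.1
  refine ⟨A, h, BasedFunctor.comp (AlgSt.ofOverCat A) (BasedFunctor.comp (AlgSt.ofSpMap a)
    (BasedFunctor.comp eG (fpSnd y w))), h1, h2, h3, ?_, ⟨?_⟩⟩
  · have hfG : FibCat.IsFibGrpd (AlgSt.ofSp G.obj).p := Stk.isFibGrpd_ofPsh (P := G.obj.obj)
    have hfA : FibCat.IsFibGrpd (AlgSt.ofSp ((AlgSp.yon S).obj A)).p :=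
      Stk.isFibGrpd_ofPsh (P := ((AlgSp.yon S).obj A).obj)
    have s1 : AlgSt.RepByAlgSpWith (AlgSp.LocP @Smooth) (BasedFunctor.comp eG (fpSnd y w)) :=
      Groth.Agent.Lib.Helper27.LocQOver.repByAlgSpWith_equiv_comp _ eG heG _
        (Groth.Agent.Lib.Helper27.FpSwap.repByAlgSpWith_fpSnd _ w y hy)
    have s2 : AlgSt.RepByAlgSpWith (AlgSp.LocP @Smooth) (AlgSt.ofSpMap a) :=
      Groth.Agent.Lib.Helper27.LocQSpace.repByAlgSpWith_ofSpMap_of_repWith @Etale _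
        (fun _ _ k hk => Groth.Agent.Lib.Helper27.LocQSpace.smooth_of_etale k hk)
        (AlgSp.IsAlgSpace.yon_obj A) G.property a hae
    exact Groth.Agent.Lib.Helper27.LocQOver.repByAlgSpWith_equiv_comp _ (AlgSt.ofOverCat A)
      (Groth.Agent.Lib.Helper27.Descent.isEquivOver_ofOverCat A) _
      (comp_gen _ (compHyp_locP Groth.Agent.Lib.Helper3.isEtLocal_smooth) hfA hfG _ _ s2 s1)
  -- the 2-isomorphism
  have i1 : BasedFunctor.comp (BasedFunctor.comp eG (fpSnd y w)) w ≅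
      BasedFunctor.comp (BasedFunctor.comp eG (fpFst y w)) y :=
    Groth.Agent.Lib.Helper27.RepCancel.whiskerLeftIso eG (fpIso y w).symm
  have i2 : BasedFunctor.comp (BasedFunctor.comp eG (fpFst y w)) y ≅
      BasedFunctor.comp (BasedFunctor.comp (AlgSt.ofSpMap π) (AlgSt.toOverCat U)) y := by
    rw [hπdef]
    exact Groth.Agent.Lib.Helper27.RepCancel.whiskerRightIso
      (Groth.Agent.Lib.Helper27.RepChart.structIso _).symm y
  have e3 : BasedFunctor.comp (AlgSt.ofSpMap a)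
      (BasedFunctor.comp (BasedFunctor.comp (AlgSt.ofSpMap π) (AlgSt.toOverCat U)) y) =
      BasedFunctor.comp (AlgSt.ofSpMap (a ≫ π)) (BasedFunctor.comp (AlgSt.toOverCat U) y) := rfl
  have e4 : BasedFunctor.comp (AlgSt.ofSpMap ((AlgSp.yon S).map h))
      (BasedFunctor.comp (AlgSt.toOverCat U) y) =
      BasedFunctor.comp (AlgSt.toOverCat A) (BasedFunctor.comp (AlgSt.overMap h) y) := rfl
  have e34 : BasedFunctor.comp (AlgSt.ofSpMap (a ≫ π))
      (BasedFunctor.comp (AlgSt.toOverCat U) y) =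
      BasedFunctor.comp (AlgSt.ofSpMap ((AlgSp.yon S).map h))
        (BasedFunctor.comp (AlgSt.toOverCat U) y) := by rw [hh]
  have i5 : BasedFunctor.comp (AlgSt.ofSpMap a)
      (BasedFunctor.comp (BasedFunctor.comp eG (fpSnd y w)) w) ≅
      BasedFunctor.comp (AlgSt.toOverCat A) (BasedFunctor.comp (AlgSt.overMap h) y) :=
    Groth.Agent.Lib.Helper27.RepCancel.whiskerLeftIso (AlgSt.ofSpMap a) (i1 ≪≫ i2) ≪≫
      eqToIso (e3.trans (e34.trans e4))
  exact Groth.Agent.Lib.Helper27.RepCancel.whiskerLeftIso (AlgSt.ofOverCat A) i5 ≪≫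
    Groth.Agent.Lib.Helper27.RepCancel.whiskerRightIso
      (Groth.Agent.Lib.Helper27.RepChart.ofToIso A) (BasedFunctor.comp (AlgSt.overMap h) y)


/-- Along a surjective functor with flat and locally finitely presented chart squares every smooth
chart lifts, smoothly, after a flat, locally finitely presented, surjective base change. -/
theorem exists_fppf_lift_sm {𝒵 𝒴 : AlgSt.Cat S} (h𝒵 : FibCat.IsFibGrpd 𝒵.p)
    (h𝒴 : FibCat.IsFibGrpd 𝒴.p) (z : 𝒵 ⥤ᵇ 𝒴)
    (hz₁ : AlgSt.LocQ (AlgSp.LocP @Flat) z)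
    (hz₂ : AlgSt.LocQ (AlgSp.LocP @LocallyOfFinitePresentation) z)
    (hz₃ : AlgSt.IsSurjective z) {U : Over S} (y : overCat U ⥤ᵇ 𝒴)
    (hy : AlgSt.RepByAlgSpWith (AlgSp.LocP @Smooth) y) :
    ∃ (A : Over S) (h : A ⟶ U) (l : overCat A ⥤ᵇ 𝒵), Flat h.left ∧
      LocallyOfFinitePresentation h.left ∧ Function.Surjective h.left ∧
      AlgSt.RepByAlgSpWith (AlgSp.LocP @Smooth) l ∧
      Nonempty (BasedFunctor.comp l z ≅ BasedFunctor.comp (AlgSt.overMap h) y) := by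
  obtain ⟨R, x'', hx'', hx''sm, hfl, hfp⟩ := exists_fppf_space_chart' h𝒵 z hz₁ hz₂
  have hfR : FibCat.IsFibGrpd (AlgSt.ofSp R.obj).p := Stk.isFibGrpd_ofPsh (P := R.obj.obj)
  have hs1 : AlgSt.IsSurjective x'' := isSurjective_of_rep hfR h𝒵 x'' hx''
  have hs2 : AlgSt.IsSurjective (BasedFunctor.comp x'' z) := fun t => by
    obtain ⟨t', rfl⟩ := hz₃ t
    obtain ⟨w, rfl⟩ := hs1 t'
    exact ⟨w, map_comp x'' z w⟩
  have hrep : AlgSt.RepByAlgSp1 (BasedFunctor.comp x'' z) := fun U t => by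
    obtain ⟨G, eG, heG, -⟩ := hfl U t
    exact ⟨G, eG, heG⟩
  have hsurj := rep_of_isSurjective hfR h𝒴 _ hrep hs2
  obtain ⟨A, h, l, h1, h2, h3, hl, ⟨κ⟩⟩ := exists_fppf_lift_space_sm R _ hfl hfp hsurj y hy
  exact ⟨A, h, BasedFunctor.comp l x'', h1, h2, h3,
    comp_gen _ (compHyp_locP Groth.Agent.Lib.Helper3.isEtLocal_smooth)
      (Groth.Agent.Lib.Helper27.ReprAux.isFibGrpd_overCat A) hfR l x'' hl hx''sm, ⟨κ⟩⟩

end Groth.Agent.Lib.Helper27.FppfLift
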