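import Mathlib

/-! A criterion for a morphism of schemes to be an epimorphism (helper27). -/

namespace Groth.Agent.Lib.Helper27.SchemeEpi

open CategoryTheory AlgebraicGeometry TopologicalSpace

universe u

theorem epi_of_surjective_of_app_injective {X Y : Scheme.{u}} (f : X ⟶ Y)
    (hs : Function.Surjective f.base) (hinj : ∀ V : Y.Opens, Function.Injective (f.app V).hom) :
    Epi f := by
  constructor
  intro Z g₁ g₂ h
  have hb : g₁.base = g₂.base := by
    have h1 : f.base ≫ g₁.base = f.base ≫ g₂.base := by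
      rw [← Scheme.Hom.comp_base, h, Scheme.Hom.comp_base]
    haveI : Epi f.base := (TopCat.epi_iff_surjective _).2 hs
    exact (cancel_epi f.base).1 h1
  refine Scheme.Hom.ext hb ?_
  intro U
  have hW : g₁ ⁻¹ᵁ U = g₂ ⁻¹ᵁ U := congr((Opens.map $hb).obj U)
  have hcongr : ∀ (k₁ k₂ : X ⟶ Z) (hk : k₁ = k₂) (V : X.Opens) (e : V ≤ k₁ ⁻¹ᵁ U),
      k₁.appLE U V e = k₂.appLE U V (hk ▸ e) := by
    intro k₁ k₂ hk V e
    subst hk
    rfl
  have : Mono (f.app (g₂ ⁻¹ᵁ U)) := ConcreteCategory.mono_of_injective _ (hinj _)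
  rw [← cancel_mono (f.app (g₂ ⁻¹ᵁ U))]
  rw [Category.assoc, Scheme.Hom.app_eq_appLE (f := f), Scheme.Hom.map_appLE,
    ← Scheme.Hom.comp_appLE, ← Scheme.Hom.comp_appLE]
  exact hcongr _ _ h _ _

end Groth.Agent.Lib.Helper27.SchemeEpi

namespace Groth.Agent.Lib.Helper27.SchemeEpi
end Groth.Agent.Lib.Helper27.SchemeEpi
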