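import Groth.Prelude.Def_Frob
import Groth.Agent.Lib.Helper27.SchemeEpi

/-! The absolute Frobenius of a reduced scheme is an epimorphism (helper27). -/

namespace Groth.Agent.Lib.Helper27.FrobEpi

open CategoryTheory AlgebraicGeometry

universe u

theorem epi_frob_of_isReduced (p : ℕ) [Fact p.Prime] (Y : Scheme.{u}) [FrobSch.IsCharP Y p]
    [IsReduced Y] : Epi (FrobSch.frob Y p) := by
  apply Groth.Agent.Lib.Helper27.SchemeEpi.epi_of_surjective_of_app_injective
  · intro y
    exact ⟨y, rfl⟩
  · intro V
    intro s t hst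
    have h1 : ((FrobSch.frob Y p).app V).hom (s - t) = 0 := by
      rw [map_sub, hst, sub_self]
    have h2 : (s - t) ^ p = 0 := h1
    have h3 : s - t = 0 := by
      have hn : IsNilpotent (s - t) := ⟨p, h2⟩
      exact hn.eq_zero
    exact sub_eq_zero.1 h3

end Groth.Agent.Lib.Helper27.FrobEpi
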