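import Groth.Prelude.Def_Frob
import Mathlib

/-! Relatively perfect morphisms via pullback squares (helper27). -/

namespace Groth.Agent.Lib.Helper27.FrobPullback

open CategoryTheory CategoryTheory.Limits AlgebraicGeometry FrobSch

universe u

variable (p : ℕ) [Fact p.Prime]

/-- the Frobenius square of `r` is cartesian -/
def RelPerf {Y S : Scheme.{u}} [IsCharP S p] [IsCharP Y p] (r : Y ⟶ S) : Prop :=
  IsPullback (frob Y p) r r (frob S p)

theorem isIso_relFrob_iff {Y S : Scheme.{u}} [IsCharP S p] [IsCharP Y p] (r : Y ⟶ S) :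
    IsIso (relFrob r p) ↔ RelPerf p r := by
  constructor
  · intro h
    exact IsPullback.of_iso_pullback ⟨frob_comp p r⟩ (asIso (relFrob r p))
      (relFrob_fst r p) (relFrob_snd r p)
  · intro h
    have h1 : relFrob r p = (IsPullback.isoPullback h).hom := by
      apply pullback.hom_ext
      · rw [relFrob_fst, IsPullback.isoPullback_hom_fst]
      · rw [relFrob_snd, IsPullback.isoPullback_hom_snd]
    rw [h1]
    infer_instance

theorem relPerf_comp {X T S : Scheme.{u}} [IsCharP S p] [IsCharP T p] [IsCharP X p]
    (a : X ⟶ T) (b : T ⟶ S) (ha : RelPerf p a) (hb : RelPerf p b) : RelPerf p (a ≫ b) :=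
  IsPullback.paste_vert ha hb

theorem relPerf_baseChange {Y T S : Scheme.{u}} [IsCharP S p] [IsCharP T p] [IsCharP Y p]
    (r : Y ⟶ S) (f : T ⟶ S) [IsCharP (pullback r f) p] (hr : RelPerf p r) :
    RelPerf p (pullback.snd r f) := by
  have hA : IsPullback (pullback.fst r f) (pullback.snd r f) r f := IsPullback.of_hasPullback r f
  have hbig : IsPullback (pullback.fst r f ≫ frob Y p) (pullback.snd r f) r (f ≫ frob S p) :=
    IsPullback.paste_horiz hA hr
  have e1 : pullback.fst r f ≫ frob Y p = frob (pullback r f) p ≫ pullback.fst r f :=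
    (frob_comp p (pullback.fst r f)).symm
  have e2 : f ≫ frob S p = frob T p ≫ f := (frob_comp p f).symm
  rw [e1, e2] at hbig
  exact IsPullback.of_right hbig (frob_comp p (pullback.snd r f)) hA

end Groth.Agent.Lib.Helper27.FrobPullback
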