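import Groth.Agent.Lib.Helper23.MVOpen2

/-!
# Gabber's criterion: the subobjects `j_! ℤ_U ⊆ ℤ_X` for opens `U` of `X`
-/

set_option autoImplicit false
set_option backward.isDefEq.respectTransparency false

universe u

namespace Groth.Agent.Lib.Helper27.GabberCrit

open CategoryTheory Limits Opposite AlgebraicGeometry Abelian
open Groth.Agent.Lib.Helper23.EtRestr Groth.Agent.Lib.Helper23.ExtRestr
  Groth.Agent.Lib.Helper23.ExtAdj Groth.Agent.Lib.Helper23.MVOpen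

variable {X : Scheme.{u}}

/-- `j_! ℤ_U` -/
noncomputable abbrev ZU (U : X.Opens) : EtCoh.Ab X :=
  (EtShriek.extZero (Scheme.Opens.ι U)).obj (EtCoh.const (Scheme.Opens.toScheme U) ℤ)

/-- `ε_U : j_! ℤ_U → ℤ_X` -/
noncomputable abbrev εm (U : X.Opens) : ZU U ⟶ EtCoh.const X ℤ :=
  eps (adjP (Scheme.Opens.ι U)) (EtCore.pullConst (Scheme.Opens.ι U) ℤ)

/-- the comparison `g^{-1} f^{-1} ≅ (f ∘ g)^{-1}` for `V ≤ U` -/
noncomputable abbrev θi {U V : X.Opens} (h : V ≤ U) :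
    EtCoh.pull (Scheme.Opens.ι U) ⋙ EtCoh.pull (X.homOfLE h) ≅ EtCoh.pull (Scheme.Opens.ι V) :=
  (Iso.trans (Iso.symm (EtCore.pullComp (Scheme.homOfLE _ h) (Scheme.Opens.ι U)))
    (EtCore.pullCongr (Scheme.homOfLE_ι _ h)))

/-- `ρ : j_! ℤ_V → j_! ℤ_U` for `V ≤ U` -/
noncomputable abbrev ρm {U V : X.Opens} (h : V ≤ U) : ZU V ⟶ ZU U :=
  rho (adjP (Scheme.Opens.ι U)) (adjP (Scheme.Opens.ι V)) (θi h)
    (EtCore.pullConst (Scheme.homOfLE _ h) ℤ)

theorem ρ_ε {U V : X.Opens} (h : V ≤ U) : ρm h ≫ εm U = εm V := mapRho_mapP h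

instance mono_εm (U : X.Opens) : Mono (εm U) := inferInstance

instance mono_ρm {U V : X.Opens} (h : V ≤ U) : Mono (ρm h) := mono_mapRho h

theorem ρ_trans {U V W : X.Opens} (h : V ≤ U) (h' : W ≤ V) :
    ρm h' ≫ ρm h = ρm (h'.trans h) := by
  rw [← cancel_mono (εm U), Category.assoc, ρ_ε, ρ_ε, ρ_ε]

theorem ρ_refl (U : X.Opens) : ρm (le_refl U) = 𝟙 _ := by
  rw [← cancel_mono (εm U), ρ_ε, Category.id_comp]

end Groth.Agent.Lib.Helper27.GabberCrit
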