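import Groth.Agent.Lib.Helper27.GabberCrit9

/-!
# Gabber's criterion for the vanishing of higher étale cohomology on `Spec R`
-/

set_option autoImplicit false
set_option backward.isDefEq.respectTransparency false

universe u

namespace Groth.Agent.Lib.Helper27.GabberCrit

open CategoryTheory Limits Opposite AlgebraicGeometry Abelian TopologicalSpace
open Groth.Agent.Lib.Helper23.MVOpen

theorem gabber (R : Type u) [CommRing R]
    (hR : ∀ p : PrimeSpectrum R,
      EtCoh.IsStrictlyHenselianLocalRing (Localization.AtPrime p.asIdeal))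
    (F : EtCoh.Ab (Spec (CommRingCat.of R)))
    (hker : ∀ (f g : Γ((Spec (CommRingCat.of R)), ⊤))
      [PreservesFiniteLimits (EtCoh.pull ((Spec (CommRingCat.of R)).homOfLE (((Spec (CommRingCat.of R)).basicOpen_mul f (f + g)).trans_le inf_le_right)))]
      [PreservesFiniteLimits (EtCoh.pull ((Spec (CommRingCat.of R)).homOfLE (((Spec (CommRingCat.of R)).basicOpen_mul g (f + g)).trans_le inf_le_right)))]
      (ξ : EtCoh.H ↑((Spec (CommRingCat.of R)).basicOpen (f + g)) ((EtCoh.pull ((Spec (CommRingCat.of R)).basicOpen (f + g)).ι).obj F) 1),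
      EtCore.HpullVia ((Spec (CommRingCat.of R)).homOfLE (((Spec (CommRingCat.of R)).basicOpen_mul f (f + g)).trans_le inf_le_right)) ((Spec (CommRingCat.of R)).basicOpen (f + g)).ι ((Spec (CommRingCat.of R)).basicOpen (f * (f + g))).ι ((Spec (CommRingCat.of R)).homOfLE_ι (((Spec (CommRingCat.of R)).basicOpen_mul f (f + g)).trans_le inf_le_right)) F 1 ξ = 0 →
      EtCore.HpullVia ((Spec (CommRingCat.of R)).homOfLE (((Spec (CommRingCat.of R)).basicOpen_mul g (f + g)).trans_le inf_le_right)) ((Spec (CommRingCat.of R)).basicOpen (f + g)).ι ((Spec (CommRingCat.of R)).basicOpen (g * (f + g))).ι ((Spec (CommRingCat.of R)).homOfLE_ι (((Spec (CommRingCat.of R)).basicOpen_mul g (f + g)).trans_le inf_le_right)) F 1 ξ = 0 →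
      ξ = 0)
    (q : ℕ) (hq : 1 ≤ q) : Subsingleton (EtCoh.H (Spec (CommRingCat.of R)) F q) := by
  have hS := stalk_strictlyHenselian R hR
  have hK : KerHyp F := by
    intro f g η hf hg
    have h1 : EtCore.HpullVia ((Spec (CommRingCat.of R)).homOfLE (((Spec (CommRingCat.of R)).basicOpen_mul f (f + g)).trans_le inf_le_right)) ((Spec (CommRingCat.of R)).basicOpen (f + g)).ι ((Spec (CommRingCat.of R)).basicOpen (f * (f + g))).ι ((Spec (CommRingCat.of R)).homOfLE_ι (((Spec (CommRingCat.of R)).basicOpen_mul f (f + g)).trans_le inf_le_right)) F 1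
        ((Θ _ F 1).symm η) = 0 := by
      apply (Θ _ F 1).injective
      rw [Θ_HpullVia, AddEquiv.apply_symm_apply, map_zero]
      exact hf.2
    have h2 : EtCore.HpullVia ((Spec (CommRingCat.of R)).homOfLE (((Spec (CommRingCat.of R)).basicOpen_mul g (f + g)).trans_le inf_le_right)) ((Spec (CommRingCat.of R)).basicOpen (f + g)).ι ((Spec (CommRingCat.of R)).basicOpen (g * (f + g))).ι ((Spec (CommRingCat.of R)).homOfLE_ι (((Spec (CommRingCat.of R)).basicOpen_mul g (f + g)).trans_le inf_le_right)) F 1
        ((Θ _ F 1).symm η) = 0 := by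
      apply (Θ _ F 1).injective
      rw [Θ_HpullVia, AddEquiv.apply_symm_apply, map_zero]
      exact hg.2
    have h3 := hker f g ((Θ _ F 1).symm η) h1 h2
    exact (AddEquiv.map_eq_zero_iff _).1 h3
  have hv := vanishUpTo hS hK q (1 : Γ(Spec (CommRingCat.of R), ⊤)) q hq le_rfl
  rw [Scheme.basicOpen_one] at hv
  exact subsingleton_H_of_top F q hv

end Groth.Agent.Lib.Helper27.GabberCrit
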