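import Groth.Agent.Lib.Helper27.GabberCrit1

/-!
# Gabber's criterion: Mayer–Vietoris short exact sequence for `W = U ∪ V`, any open `W`
-/

set_option autoImplicit false
set_option backward.isDefEq.respectTransparency false

universe u

namespace Groth.Agent.Lib.Helper27.GabberCrit

open CategoryTheory Limits Opposite AlgebraicGeometry Abelian
open Groth.Agent.Lib.Helper23.EtRestr Groth.Agent.Lib.Helper23.ExtRestr
  Groth.Agent.Lib.Helper23.ExtAdj Groth.Agent.Lib.Helper23.MVOpen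
  Groth.Agent.Lib.Helper23.MVAbstract

section Three

variable {A B₁ B₂ B₃ : Type*} [Category A] [Abelian A] [Category B₁] [Abelian B₁]
  [Category B₂] [Abelian B₂] [Category B₃] [Abelian B₃]
  (Φ : A ⥤ B₁) (Ψ : A ⥤ B₂) (Ξ : A ⥤ B₃) [Φ.Additive] [Ψ.Additive] [Ξ.Additive]
  [PreservesFiniteLimits Φ] [PreservesFiniteColimits Φ]
  [PreservesFiniteLimits Ψ] [PreservesFiniteColimits Ψ]
  [PreservesFiniteLimits Ξ] [PreservesFiniteColimits Ξ]
  (hJC : ∀ C : A, IsZero (Φ.obj C) → IsZero (Ψ.obj C) → IsZero (Ξ.obj C) → IsZero C)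

include hJC

lemma epi_of₃ {X Y : A} (f : X ⟶ Y) (h1 : Epi (Φ.map f)) (h2 : Epi (Ψ.map f))
    (h3 : Epi (Ξ.map f)) : Epi f := by
  have hK : IsZero (cokernel f) := by
    apply hJC
    · have h : Φ.map (cokernel.π f) = 0 := by
        rw [← cancel_epi (Φ.map f), ← Φ.map_comp, cokernel.condition, Φ.map_zero, comp_zero]
      exact IsZero.of_epi_eq_zero (Φ.map (cokernel.π f)) h
    · have h : Ψ.map (cokernel.π f) = 0 := by
        rw [← cancel_epi (Ψ.map f), ← Ψ.map_comp, cokernel.condition, Ψ.map_zero, comp_zero]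
      exact IsZero.of_epi_eq_zero (Ψ.map (cokernel.π f)) h
    · have h : Ξ.map (cokernel.π f) = 0 := by
        rw [← cancel_epi (Ξ.map f), ← Ξ.map_comp, cokernel.condition, Ξ.map_zero, comp_zero]
      exact IsZero.of_epi_eq_zero (Ξ.map (cokernel.π f)) h
  exact Preadditive.epi_of_cokernel_zero (hK.eq_of_tgt _ _)

lemma exact_of₃ (S : ShortComplex A) (h1 : (S.map Φ).Exact) (h2 : (S.map Ψ).Exact)
    (h3 : (S.map Ξ).Exact) : S.Exact := by
  rw [ShortComplex.exact_iff_isZero_homology]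
  apply hJC
  · rw [ShortComplex.exact_iff_isZero_homology] at h1
    exact h1.of_iso (S.mapHomologyIso Φ).symm
  · rw [ShortComplex.exact_iff_isZero_homology] at h2
    exact h2.of_iso (S.mapHomologyIso Ψ).symm
  · rw [ShortComplex.exact_iff_isZero_homology] at h3
    exact h3.of_iso (S.mapHomologyIso Ξ).symm

omit hJC in
lemma isZero_map_biprod {P Q : A} (hP : IsZero (Ξ.obj P)) (hQ : IsZero (Ξ.obj Q)) :
    IsZero (Ξ.obj (P ⊞ Q)) := by
  rw [IsZero.iff_id_eq_zero, ← Ξ.map_id, ← biprod.total, Ξ.map_add, Ξ.map_comp, Ξ.map_comp,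
    hP.eq_of_tgt (Ξ.map biprod.fst) 0, hQ.eq_of_tgt (Ξ.map biprod.snd) 0, zero_comp, zero_comp,
    add_zero]

/-- three-functor variant of helper23's `shortExact_of_jointly`: the third functor kills
everything in sight -/
theorem shortExact_of_jointly₃ {ZW ZU ZV ZX : A} (a : ZW ⟶ ZU) (b : ZW ⟶ ZV) (p : ZU ⟶ ZX)
    (q : ZV ⟶ ZX) (hcomm : a ≫ p = b ≫ q) [Mono a]
    [IsIso (Φ.map p)] [IsIso (Φ.map b)] [IsIso (Ψ.map q)] [IsIso (Ψ.map a)]
    (hU : IsZero (Ξ.obj ZU)) (hV : IsZero (Ξ.obj ZV)) (hX : IsZero (Ξ.obj ZX)) :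
    (ShortComplex.mk (biprod.lift a (-b)) (biprod.desc p q)
      (by rw [biprod.lift_desc, Preadditive.neg_comp, hcomm, add_neg_cancel])).ShortExact := by
  have hmono : Mono (biprod.lift a (-b)) := mono_of_mono_fac (biprod.lift_fst a (-b))
  have hepi : Epi (biprod.desc p q) := by
    apply epi_of₃ Φ Ψ Ξ hJC
    · have h : Φ.map biprod.inl ≫ Φ.map (biprod.desc p q) = Φ.map p := by
        rw [← Φ.map_comp, biprod.inl_desc]
      exact epi_of_epi_fac h
    · have h : Ψ.map biprod.inr ≫ Ψ.map (biprod.desc p q) = Ψ.map q := by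
        rw [← Ψ.map_comp, biprod.inr_desc]
      exact epi_of_epi_fac h
    · exact ⟨fun g h _ => hX.eq_of_src g h⟩
  refine ShortComplex.ShortExact.mk' ?_ hmono hepi
  apply exact_of₃ Φ Ψ Ξ hJC
  · refine exact_of_split (Φ.map (biprod.lift a (-b))) (Φ.map (biprod.desc p q)) _
      (Φ.map biprod.inl) (Φ.map biprod.fst) (Φ.map biprod.inr) (Φ.map biprod.snd) ?_ ?_ ?_
    · rw [← Φ.map_comp, ← Φ.map_comp, ← Φ.map_add, biprod.total, Φ.map_id]
    · rw [← Φ.map_comp, biprod.lift_snd, Φ.map_neg]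
      exact isIso_neg _
    · rw [← Φ.map_comp, biprod.inl_desc]
      infer_instance
  · refine exact_of_split (Ψ.map (biprod.lift a (-b))) (Ψ.map (biprod.desc p q)) _
      (Ψ.map biprod.inr) (Ψ.map biprod.snd) (Ψ.map biprod.inl) (Ψ.map biprod.fst) ?_ ?_ ?_
    · rw [← Ψ.map_comp, ← Ψ.map_comp, ← Ψ.map_add, add_comm, biprod.total, Ψ.map_id]
    · rw [← Ψ.map_comp, biprod.lift_fst]
      infer_instance
    · rw [← Ψ.map_comp, biprod.inr_desc]
      infer_instance
  · exact ShortComplex.exact_of_isZero_X₂ _ (isZero_map_biprod Ξ hU hV)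

end Three

end Groth.Agent.Lib.Helper27.GabberCrit
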