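import Groth.Agent.Lib.Helper27.GabberCrit2

/-!
# Gabber's criterion: Mayer–Vietoris short exact sequence `0 → ℤ_{U∩V} → ℤ_U ⊞ ℤ_V → ℤ_W → 0`
-/

set_option autoImplicit false
set_option backward.isDefEq.respectTransparency false

universe u

namespace Groth.Agent.Lib.Helper27.GabberCrit

open CategoryTheory Limits Opposite AlgebraicGeometry Abelian
open Groth.Agent.Lib.Helper23.EtRestr Groth.Agent.Lib.Helper23.ExtRestr
  Groth.Agent.Lib.Helper23.ExtAdj Groth.Agent.Lib.Helper23.MVOpen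
  Groth.Agent.Lib.Helper23.MVAbstract

variable {X : Scheme.{u}}

/-- the stalk at a geometric point landing in an open on which the sheaf vanishes is zero -/
lemma isZero_stalk_of_isZero_pull (G : EtCoh.Ab X) (W : X.Opens)
    (hW : IsZero ((EtCoh.pull W.ι).obj G)) {Ω : Type u} [Field Ω] [IsSepClosed Ω]
    (ξ : Spec (CommRingCat.of Ω) ⟶ X) (hr : Set.range ξ.base ⊆ (W : Set X)) :
    IsZero ((EtCoh.stalk ξ).obj G) := by
  have hr' : Set.range ξ ⊆ Set.range W.ι := by
    intro x hx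
    rw [Scheme.Opens.range_ι]
    exact hr hx
  let ξ' : Spec (CommRingCat.of Ω) ⟶ W := IsOpenImmersion.lift W.ι ξ hr'
  have hξ : ξ' ≫ W.ι = ξ := IsOpenImmersion.lift_fac W.ι ξ hr'
  obtain ⟨e⟩ := Groth.Agent.S0100.result W.ι G ξ'
  rw [hξ] at e
  exact ((EtCoh.stalk ξ').map_isZero hW).of_iso e.symm

/-- restrictions to `U`, `V` and to the closed complement of `U ∪ V` are jointly conservative -/
lemma isZero_of_cover₃ (U V W : X.Opens) (hUV : U ⊔ V = W) {Z : Scheme.{u}} (i : Z ⟶ X)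
    [IsClosedImmersion i]
    (hZW : Set.range W.ι.base = (Set.range i.base)ᶜ)
    (G : EtCoh.Ab X) (hU : IsZero ((EtCoh.pull U.ι).obj G))
    (hV : IsZero ((EtCoh.pull V.ι).obj G)) (hZ : IsZero ((EtCoh.pull i).obj G)) : IsZero G := by
  refine Groth.Agent.Lib.Helper23.EtRecoll.isZero_of_restr_pull i W.ι hZW G ?_ hZ
  have hW : IsZero ((EtCoh.pull W.ι).obj G) := by
    apply Groth.Agent.S0622.isZero_of_stalks
    intro Ω _ _ ξ'
    obtain ⟨e⟩ := Groth.Agent.S0100.result W.ι G ξ'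
    refine IsZero.of_iso ?_ e
    let pt : Spec (CommRingCat.of Ω) := default
    have hpt : ∀ y : Spec (CommRingCat.of Ω), y = pt := fun y => Subsingleton.elim _ _
    have hmem : (ξ' ≫ W.ι).base pt ∈ (U ⊔ V : X.Opens) := by
      rw [hUV, Scheme.Hom.comp_apply]
      exact (ξ' pt).2
    rcases hmem with h | h
    · refine isZero_stalk_of_isZero_pull G U hU _ ?_
      rintro x ⟨y, rfl⟩
      rw [hpt y]
      exact h
    · refine isZero_stalk_of_isZero_pull G V hV _ ?_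
      rintro x ⟨y, rfl⟩
      rw [hpt y]
      exact h
  exact hW.of_iso ((pullIsoRestr W.ι).symm.app G)

/-- `pull_U` inverts `ρ : ℤ_U → ℤ_W` for `U ≤ W` -/
lemma isIso_pull_ρm {U W : X.Opens} (h : U ≤ W) : IsIso ((EtCoh.pull U.ι).map (ρm h)) := by
  have := isIso_pull_mapP U
  have : IsIso ((EtCoh.pull U.ι).map (εm W)) := by
    have := isIso_pull_mapP W
    have : IsIso ((EtCoh.pull (X.homOfLE h)).map ((EtCoh.pull W.ι).map (εm W))) :=
      Functor.map_isIso _ _
    have hnat := (θi h).hom.naturality (εm W)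
    have : (EtCoh.pull U.ι).map (εm W) =
        (θi h).inv.app _ ≫ (EtCoh.pull (X.homOfLE h)).map ((EtCoh.pull W.ι).map (εm W)) ≫
          (θi h).hom.app _ := by
      rw [← Functor.comp_map, hnat, Iso.inv_hom_id_app_assoc]
    rw [this]
    infer_instance
  have hcomp : (EtCoh.pull U.ι).map (ρm h) ≫ (EtCoh.pull U.ι).map (εm W) =
      (EtCoh.pull U.ι).map (εm U) := by
    rw [← Functor.map_comp, ρ_ε]
  have : IsIso ((EtCoh.pull U.ι).map (ρm h) ≫ (EtCoh.pull U.ι).map (εm W)) := by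
    rw [hcomp]; infer_instance
  exact IsIso.of_isIso_comp_right _ ((EtCoh.pull U.ι).map (εm W))

theorem comm_sq₃ {U V W : X.Opens} (hU : U ≤ W) (hV : V ≤ W) :
    ρm (inf_le_left : U ⊓ V ≤ U) ≫ ρm hU = ρm (inf_le_right : U ⊓ V ≤ V) ≫ ρm hV := by
  rw [ρ_trans, ρ_trans]

/-- the Mayer–Vietoris short exact sequence for `W = U ∪ V` -/
theorem ses₃ (U V W : X.Opens) (hUV : U ⊔ V = W) (hU : U ≤ W) (hV : V ≤ W) :
    (ShortComplex.mk
      (biprod.lift (ρm (inf_le_left : U ⊓ V ≤ U)) (-ρm (inf_le_right : U ⊓ V ≤ V)))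
      (biprod.desc (ρm hU) (ρm hV))
      (by rw [biprod.lift_desc, Preadditive.neg_comp, comm_sq₃ hU hV,
        add_neg_cancel])).ShortExact := by
  obtain ⟨Z, i, hi, hZW⟩ := Groth.Agent.S0652.exists_closed_compl W.ι
  have := isIso_pull_ρm hU
  have := isIso_pull_ρm hV
  have := isIso_pull_mapRho U V
  have := isIso_pull_mapRho' U V
  have hZW' : ∀ A, IsZero ((EtCoh.pull i).obj ((EtShriek.extZero W.ι).obj A)) :=
    Groth.Agent.Lib.Helper23.EtRecoll.isZero_pull_extZero i W.ι hZW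
  have hsub : ∀ {U' : X.Opens} (h : U' ≤ W), IsZero ((EtCoh.pull i).obj (ZU U')) := by
    intro U' h
    have : Mono ((EtCoh.pull i).map (ρm h)) := inferInstance
    exact IsZero.of_mono ((EtCoh.pull i).map (ρm h)) (hZW' _)
  exact shortExact_of_jointly₃ (EtCoh.pull U.ι) (EtCoh.pull V.ι) (EtCoh.pull i)
    (fun G => isZero_of_cover₃ U V W hUV i hZW G)
    (ρm (inf_le_left : U ⊓ V ≤ U)) (ρm (inf_le_right : U ⊓ V ≤ V)) (ρm hU) (ρm hV)
    (comm_sq₃ hU hV) (hsub hU) (hsub hV) (hsub le_rfl)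

end Groth.Agent.Lib.Helper27.GabberCrit
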