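import Groth.Agent.Lib.Helper27.GabberCrit3

/-!
# Gabber's criterion: `Ext`-level consequences (coeffaceability, Mayer–Vietoris vanishing)
-/

set_option autoImplicit false
set_option backward.isDefEq.respectTransparency false

universe w v u

namespace Groth.Agent.Lib.Helper27.GabberCrit

open CategoryTheory Limits Opposite Abelian

section Abstract

variable {C : Type u} [Category.{v} C] [Abelian C] [HasExt.{w} C] [EnoughInjectives C]

/-- every `Ext` class of positive degree is killed by precomposition with some epimorphism -/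
theorem exists_epi_comp_eq_zero (n : ℕ) :
    ∀ {A F : C} (ξ : Ext.{w} A F (n + 1)),
      ∃ (P : C) (π : P ⟶ A), Epi π ∧ (Ext.mk₀ π).comp ξ (zero_add (n + 1)) = 0 := by
  induction n with
  | zero =>
    intro A F ξ
    let I : InjectivePresentation F := Classical.arbitrary _
    let S := ShortComplex.mk _ _ (cokernel.condition I.f)
    have hS : S.ShortExact := { exact := ShortComplex.exact_cokernel I.f }
    haveI : Injective S.X₂ := I.injective
    haveI := hS.epi_g
    obtain ⟨x₃, hx₃⟩ := Ext.covariant_sequence_exact₁ A hS ξ (Ext.eq_zero_of_injective _) rfl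
    obtain ⟨s, rfl⟩ := (Ext.mk₀_bijective _ _).2 x₃
    refine ⟨pullback s S.g, pullback.fst s S.g, inferInstance, ?_⟩
    rw [← hx₃, ← Ext.comp_assoc_of_second_deg_zero, Ext.mk₀_comp_mk₀, pullback.condition,
      ← Ext.mk₀_comp_mk₀, Ext.comp_assoc_of_second_deg_zero, hS.comp_extClass, Ext.comp_zero]
  | succ n ih =>
    intro A F ξ
    let I : InjectivePresentation F := Classical.arbitrary _
    let S := ShortComplex.mk _ _ (cokernel.condition I.f)
    have hS : S.ShortExact := { exact := ShortComplex.exact_cokernel I.f }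
    haveI : Injective S.X₂ := I.injective
    obtain ⟨x₃, hx₃⟩ := Ext.covariant_sequence_exact₁ A hS ξ (Ext.eq_zero_of_injective _) rfl
    obtain ⟨P, π, hπ, h0⟩ := ih x₃
    refine ⟨P, π, hπ, ?_⟩
    rw [← hx₃, ← Ext.comp_assoc (a₁₂ := n + 1) _ _ _ (by lia) (by lia) (by lia), h0,
      Ext.zero_comp]

end Abstract

end Groth.Agent.Lib.Helper27.GabberCrit
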