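import Groth.Agent.Lib.Helper27.GabberCrit4
import Groth.Agent.Lib.Helper27.EtZarAcyc5

/-!
# Gabber's criterion: morphisms out of `j_! ℤ_U` are sections over `U`
-/

set_option autoImplicit false
set_option backward.isDefEq.respectTransparency false
universe u
open CategoryTheory Limits Opposite AlgebraicGeometry Abelian
open Groth.Agent.Lib.Helper23.EtRestr Groth.Agent.Lib.Helper23.ExtRestr
  Groth.Agent.Lib.Helper23.ExtAdj Groth.Agent.Lib.Helper23.MVOpen
  Groth.Agent.Lib.Helper27.EtZarAcyc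

namespace Groth.Agent.Lib.Helper27.GabberCrit

/-- the coefficient group `ℤ`, lifted -/
noncomputable abbrev MZ : AddCommGrpCat.{u + 1} := AddCommGrpCat.of (ULift.{u + 1} ℤ)

/-- the unit `ℤ → Γ(Y, ℤ_Y)` -/
noncomputable abbrev uY (Y : Scheme.{u}) : MZ.{u} ⟶ (EtCore.gsec Y).obj (EtCoh.const Y ℤ) :=
  (EtCore.constAdj Y).unit.app MZ

variable {X : Scheme.{u}} (U : X.Opens) (A : EtCoh.Ab X)

/-- sections over `U`, as a morphism from `ℤ` -/
noncomputable def sMor (φ : ZU U ⟶ A) :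
    MZ.{u} ⟶ A.obj.obj (op ((EtZar.zarToEt X).obj U)) :=
  uY ↑U ≫ (EtCore.gsec ↑U).map ((adjP U.ι).homEquiv _ _ φ) ≫
    ((pullIsoRestr U.ι).hom.app A).hom.app (op (EtCoh.top ↑U)) ≫
      A.obj.map (compTopIso U).inv.op

theorem homEquiv_εm : (adjP U.ι).homEquiv _ _ (εm U) = (EtCore.pullConst U.ι ℤ).inv := by
  rw [Adjunction.homEquiv_unit]
  exact unit_map_eps (adjP U.ι) (EtCore.pullConst U.ι ℤ)

theorem uY_pullConst_inv :
    uY ↑U ≫ (EtCore.gsec ↑U).map (EtCore.pullConst U.ι ℤ).inv =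
      uY X ≫ (EtCore.gsec X).map ((EtCoh.pullPushAdj U.ι).unit.app (EtCoh.const X ℤ)) ≫
        (EtCore.pushGsecIso U.ι).hom.app ((EtCoh.pull U.ι).obj (EtCoh.const X ℤ)) := by
  have h := Adjunction.unit_leftAdjointUniq_hom_app
    (((EtCore.constAdj X).comp (EtCoh.pullPushAdj U.ι)).ofNatIsoRight (EtCore.pushGsecIso U.ι))
    (EtCore.constAdj ↑U) MZ
  have h' : uY ↑U ≫ (EtCore.gsec ↑U).map (EtCore.pullConst U.ι ℤ).inv =
      ((((EtCore.constAdj X).comp (EtCoh.pullPushAdj U.ι)).ofNatIsoRight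
        (EtCore.pushGsecIso U.ι)).unit.app MZ) := by
    change (EtCore.constAdj ↑U).unit.app MZ ≫ _ = _
    rw [← h, Category.assoc, ← Functor.map_comp]
    erw [Iso.hom_inv_id_app]
    erw [CategoryTheory.Functor.map_id, Category.comp_id]
  rw [h', Adjunction.ofNatIsoRight_unit, NatTrans.comp_app, Adjunction.comp_unit_app]
  simp only [Category.assoc]
  rfl


theorem sMor_εm :
    sMor U (EtCoh.const X ℤ) (εm U) =
      uY X ≫ (EtCoh.const X ℤ).obj.map
        ((EtCore.topIsTerminal X).from ((EtZar.zarToEt X).obj U)).op := by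
  unfold sMor
  rw [homEquiv_εm, ← Category.assoc, ← Category.assoc, uY_pullConst_inv]
  simp only [Category.assoc]
  congr 1
  -- naturality of `pullIsoRestr` for the comparison `bc top ≅ top`
  have hnat := ((pullIsoRestr U.ι).hom.app (EtCoh.const X ℤ)).hom.naturality
    (EtCore.bcTopIso U.ι).op.symm.hom
  have hunit := Adjunction.unit_leftAdjointUniq_hom_app (EtCoh.pullPushAdj U.ι)
    (restrPushAdj U.ι) (EtCoh.const X ℤ)
  have hunit' := congrArg (fun ψ : EtCoh.const X ℤ ⟶ (EtCoh.push U.ι).obj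
    ((EtShriek.restrAlong U.ι).obj (EtCoh.const X ℤ)) => ψ.hom.app (op (EtCoh.top X))) hunit
  change ((EtCoh.pullPushAdj U.ι).unit.app (EtCoh.const X ℤ)).hom.app (op (EtCoh.top X)) ≫
    ((EtCoh.pull U.ι).obj (EtCoh.const X ℤ)).obj.map (EtCore.bcTopIso U.ι).op.symm.hom ≫
      ((pullIsoRestr U.ι).hom.app (EtCoh.const X ℤ)).hom.app (op (EtCoh.top ↑U)) ≫
        (EtCoh.const X ℤ).obj.map (compTopIso U).inv.op = _
  rw [reassoc_of% hnat, ← Category.assoc]
  change ((EtCoh.pullPushAdj U.ι).unit.app (EtCoh.const X ℤ) ≫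
            (EtCoh.push U.ι).map
              (((EtCoh.pullPushAdj U.ι).leftAdjointUniq (restrPushAdj U.ι)).hom.app
                (EtCoh.const X ℤ))).hom.app (op (EtCoh.top X)) ≫ _ = _
  rw [hunit']
  change (EtCoh.const X ℤ).obj.map ((adjSite U.ι).counit.app (EtCoh.top X)).op ≫
    (EtCoh.const X ℤ).obj.map ((EtShriek.compEtale U.ι).map (EtCore.bcTopIso U.ι).inv).op ≫
      (EtCoh.const X ℤ).obj.map (compTopIso U).inv.op = _
  rw [← Functor.map_comp, ← Functor.map_comp, ← op_comp, ← op_comp]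
  congr 2
  exact (EtCore.topIsTerminal X).hom_ext _ _


theorem sMor_bijective : Function.Bijective (sMor U A) := by
  let e : (EtCore.gsec ↑U).obj ((EtCoh.pull U.ι).obj A) ≅
      A.obj.obj (op ((EtZar.zarToEt X).obj U)) :=
    ((sheafSections _ _).obj (op (EtCoh.top ↑U))).mapIso ((pullIsoRestr U.ι).app A) ≪≫
      A.obj.mapIso (compTopIso U).op.symm
  have h : sMor U A = fun φ => (e.homToEquiv (Z := MZ.{u}))
      ((EtCore.constAdj ↑U).homEquiv MZ _ ((adjP U.ι).homEquiv _ _ φ)) := by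
    funext φ
    rw [Adjunction.homEquiv_unit (adj := EtCore.constAdj ↑U)]
    simp only [sMor, Iso.homToEquiv_apply, Category.assoc]
    rfl
  rw [h]
  exact (e.homToEquiv.bijective.comp ((EtCore.constAdj ↑U).homEquiv MZ _).bijective).comp
    ((adjP U.ι).homEquiv _ _).bijective

end Groth.Agent.Lib.Helper27.GabberCrit
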