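import Groth.Agent.Lib.Helper27.GabberCrit5
import Groth.Agent.Lib.Helper27.EtZarHens2

/-!
# Gabber's criterion: Zariski-local triviality of `Ext` classes on `j_! ℤ_U`
-/

set_option autoImplicit false
set_option backward.isDefEq.respectTransparency false

universe u

namespace Groth.Agent.Lib.Helper27.GabberCrit

open CategoryTheory Limits Opposite AlgebraicGeometry Abelian TopologicalSpace
open Groth.Agent.Lib.Helper23.EtRestr Groth.Agent.Lib.Helper23.ExtRestr
  Groth.Agent.Lib.Helper23.ExtAdj Groth.Agent.Lib.Helper23.MVOpen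
  Groth.Agent.Lib.Helper27.EtZarAcyc Groth.Agent.Lib.Helper27.EtZarHens

variable {X : Scheme.{u}}

theorem sMor_naturality (U : X.Opens) {A B : EtCoh.Ab X} (φ : ZU U ⟶ A) (g : A ⟶ B) :
    sMor U B (φ ≫ g) = sMor U A φ ≫ g.hom.app (op ((EtZar.zarToEt X).obj U)) := by
  unfold sMor
  rw [Adjunction.homEquiv_naturality_right, Functor.map_comp]
  have h1 := congrArg (fun ψ : (EtCoh.pull U.ι).obj A ⟶ (EtShriek.restrAlong U.ι).obj B =>
    ψ.hom.app (op (EtCoh.top ↑U))) ((pullIsoRestr U.ι).hom.naturality g)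
  have h2 := g.hom.naturality (compTopIso U).inv.op
  simp only [Category.assoc]
  rw [h2]
  congr 2
  rw [← Category.assoc, ← Category.assoc]
  congr 1

/-- Zariski-local lifting of sections along an epimorphism of étale sheaves, when all local rings
are strictly henselian -/
theorem exists_local_preimage
    (hS : ∀ s : X, EtCoh.IsStrictlyHenselianLocalRing (X.presheaf.stalk s))
    {F G : EtCoh.Ab X} (φ : F ⟶ G) [Epi φ] (U : X.Opens)
    (g : ToType (G.obj.obj (op ((EtZar.zarToEt X).obj U)))) (x : X) (hx : x ∈ U) :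
    ∃ (V : X.Opens) (_ : x ∈ V) (h : V ≤ U)
      (f' : ToType (F.obj.obj (op ((EtZar.zarToEt X).obj V)))),
      φ.hom.app (op ((EtZar.zarToEt X).obj V)) f' =
        G.obj.map ((EtZar.zarToEt X).map (homOfLE h)).op g := by
  have hφ : Sheaf.IsLocallySurjective φ :=
    (Sheaf.isLocallySurjective_iff_epi' AddCommGrpCat.{u + 1} φ).2 inferInstance
  have hcov := hφ.imageSieve_mem (U := (EtZar.zarToEt X).obj U) g
  obtain ⟨T', a, ha, t, hta⟩ := Groth.Agent.Lib.Helper23.EtGlue.exists_arrow_of_mem _ hcov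
    (show ((EtZar.zarToEt X).obj U).left from ⟨x, hx⟩)
  have hT' : T'.hom t = x := by
    have h1 : a.left ≫ ((EtZar.zarToEt X).obj U).hom = T'.hom := MorphismProperty.Over.w a
    rw [← h1, Scheme.Hom.comp_apply]
    exact congrArg (fun z => ((EtZar.zarToEt X).obj U).hom z) hta
  obtain ⟨V, hxV, ⟨σ⟩⟩ := exists_open_section x (hS x) T' t hT'
  have hVU : V ≤ U := by
    intro y hy
    exact Groth.Agent.Lib.Helper27.EtZarAcyc.le_of_hom X _ U (σ ≫ a) ⟨⟨y, hy⟩, rfl⟩
  refine ⟨V, hxV, hVU, ?_⟩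
  obtain ⟨f', hf'⟩ := ha
  refine ⟨F.obj.map σ.op f', ?_⟩
  have e : (EtZar.zarToEt X).map (homOfLE hVU) = σ ≫ a := Subsingleton.elim _ _
  have nat := ConcreteCategory.congr_hom (φ.hom.naturality σ.op) f'
  simp only [ConcreteCategory.comp_apply] at nat
  rw [e, nat, hf', op_comp, G.obj.map_comp]
  rfl

/-- Zariski-local lifting of sections along an epimorphism of étale sheaves, at the level of
morphisms out of `ℤ` -/
theorem exists_local_lift
    (hS : ∀ s : X, EtCoh.IsStrictlyHenselianLocalRing (X.presheaf.stalk s))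
    {P Q : EtCoh.Ab X} (π : P ⟶ Q) [Epi π] (U : X.Opens)
    (σ : MZ.{u} ⟶ Q.obj.obj (op ((EtZar.zarToEt X).obj U))) (x : X) (hx : x ∈ U) :
    ∃ (V : X.Opens) (_ : x ∈ V) (h : V ≤ U)
      (t : MZ.{u} ⟶ P.obj.obj (op ((EtZar.zarToEt X).obj V))),
      t ≫ π.hom.app (op ((EtZar.zarToEt X).obj V)) =
        σ ≫ Q.obj.map ((EtZar.zarToEt X).map (homOfLE h)).op := by
  obtain ⟨V, hxV, h, τ, hτ⟩ := exists_local_preimage hS π U (σ.hom ⟨1⟩) x hx
  refine ⟨V, hxV, h, (AddCommGrpCat.uliftZMultiplesAddEquiv _).symm τ, ?_⟩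
  apply (AddCommGrpCat.uliftZMultiplesAddEquiv _).injective
  change π.hom.app (op ((EtZar.zarToEt X).obj V))
      (((AddCommGrpCat.uliftZMultiplesAddEquiv _).symm τ).hom ⟨1⟩) =
    Q.obj.map ((EtZar.zarToEt X).map (homOfLE h)).op (σ.hom ⟨1⟩)
  have e : ((AddCommGrpCat.uliftZMultiplesAddEquiv _).symm τ).hom ⟨1⟩ = τ :=
    (AddCommGrpCat.uliftZMultiplesAddEquiv _).apply_symm_apply τ
  rw [e]
  exact hτ

/-- `j_! ℤ_U` is Zariski-locally projective when all local rings are strictly henselian -/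
theorem exists_local_section
    (hS : ∀ s : X, EtCoh.IsStrictlyHenselianLocalRing (X.presheaf.stalk s))
    (U : X.Opens) {P : EtCoh.Ab X} (π : P ⟶ ZU U) [Epi π] (x : X) (hx : x ∈ U) :
    ∃ (V : X.Opens) (_ : x ∈ V) (h : V ≤ U) (m : ZU V ⟶ P), m ≫ π = ρm h := by
  obtain ⟨V, hxV, h, t, ht⟩ := exists_local_lift hS π U (sMor U (ZU U) (𝟙 _)) x hx
  obtain ⟨m, hm⟩ := (sMor_bijective V P).2 t
  refine ⟨V, hxV, h, m, ?_⟩
  rw [← cancel_mono (εm U), Category.assoc, ρ_ε]
  apply (sMor_bijective V (EtCoh.const X ℤ)).1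
  rw [sMor_naturality V m (π ≫ εm U), hm]
  change t ≫ π.hom.app (op ((EtZar.zarToEt X).obj V)) ≫
    (εm U).hom.app (op ((EtZar.zarToEt X).obj V)) = _
  rw [reassoc_of% ht, sMor_εm]
  have hnat := (εm U).hom.naturality ((EtZar.zarToEt X).map (homOfLE h)).op
  rw [hnat, ← Category.assoc, ← sMor_naturality U (𝟙 _) (εm U), Category.id_comp, sMor_εm,
    Category.assoc, ← Functor.map_comp, ← op_comp]
  congr 2
  exact congrArg Quiver.Hom.op ((EtCore.topIsTerminal X).hom_ext _ _)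

/-- positive-degree `Ext` classes on `j_! ℤ_U` vanish Zariski-locally -/
theorem exists_local_vanishing
    (hS : ∀ s : X, EtCoh.IsStrictlyHenselianLocalRing (X.presheaf.stalk s))
    (U : X.Opens) (F : EtCoh.Ab X) (n : ℕ) (ξ : Ext (ZU U) F (n + 1)) (x : X) (hx : x ∈ U) :
    ∃ (V : X.Opens) (_ : x ∈ V) (h : V ≤ U),
      (Ext.mk₀ (ρm h)).comp ξ (zero_add (n + 1)) = 0 := by
  obtain ⟨P, π, hπ, h0⟩ := exists_epi_comp_eq_zero n ξ
  obtain ⟨V, hxV, h, m, hm⟩ := exists_local_section hS U π x hx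
  refine ⟨V, hxV, h, ?_⟩
  rw [← hm, ← Ext.mk₀_comp_mk₀, Ext.comp_assoc_of_second_deg_zero, h0, Ext.comp_zero]

end Groth.Agent.Lib.Helper27.GabberCrit
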