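import Groth.Agent.Lib.Helper27.GabberCrit7

/-!
# Gabber's criterion: the induction on the degree (abstract form, for `Spec R`)
-/

set_option autoImplicit false
set_option backward.isDefEq.respectTransparency false

universe u

namespace Groth.Agent.Lib.Helper27.GabberCrit

open CategoryTheory Limits Opposite AlgebraicGeometry Abelian TopologicalSpace

/-- if the basic opens of the elements of an ideal `I` cover `D(h)`, then `h ∈ √I` -/
theorem mem_radical_of_cover {R : CommRingCat.{u}} (I : Ideal Γ(Spec R, ⊤)) (h : Γ(Spec R, ⊤))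
    (hc : ∀ x : Spec R, x ∈ (Spec R).basicOpen h → ∃ f ∈ I, x ∈ (Spec R).basicOpen f) :
    h ∈ I.radical := by
  rw [Ideal.radical_eq_sInf, Ideal.mem_sInf]
  rintro P ⟨hIP, hP⟩
  by_contra hh
  let e : Γ(Spec R, ⊤) ≃+* R := (Scheme.ΓSpecIso R).commRingCatIsoToRingEquiv
  let x : PrimeSpectrum R := ⟨P.comap e.symm.toRingHom, inferInstance⟩
  have hmem : ∀ f : Γ(Spec R, ⊤), (x : Spec R) ∈ (Spec R).basicOpen f ↔ f ∉ P := by
    intro f
    rw [basicOpen_eq_of_affine']
    change e f ∉ P.comap e.symm.toRingHom ↔ _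
    rw [Ideal.mem_comap]
    change e.symm (e f) ∉ P ↔ _
    rw [e.symm_apply_apply]
  obtain ⟨f, hfI, hxf⟩ := hc x ((hmem h).2 hh)
  exact (hmem f).1 hxf (hIP hfI)

variable {X : Scheme.{u}}

theorem basicOpen_add_eq_sup (f g : Γ(X, ⊤)) :
    X.basicOpen (f * (f + g)) ⊔ X.basicOpen (g * (f + g)) = X.basicOpen (f + g) := by
  rw [Scheme.basicOpen_mul, Scheme.basicOpen_mul, ← inf_sup_right]
  exact inf_eq_right.2 (Scheme.basicOpen_add_le X f g)

section Induction

variable {R : CommRingCat.{u}} (F : EtCoh.Ab (Spec R))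

/-- the abstract form of the hypothesis of Gabber's criterion -/
def KerHyp : Prop :=
  ∀ (f g : Γ(Spec R, ⊤)) (η : Ext (ZU ((Spec R).basicOpen (f + g))) F 1),
    Dies η ((Spec R).basicOpen (f * (f + g))) → Dies η ((Spec R).basicOpen (g * (f + g))) → η = 0

/-- vanishing in degrees `1, …, i` on all basic opens -/
def VanishUpTo (i : ℕ) : Prop :=
  ∀ (h : Γ(Spec R, ⊤)) (q : ℕ), 1 ≤ q → q ≤ i →
    ∀ ξ : Ext (ZU ((Spec R).basicOpen h)) F q, ξ = 0

variable {F}

/-- closure under addition of the set of `f` such that `ξ` dies on `D(h) ∩ D(f)` -/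
theorem dies_add (hker : KerHyp F) (i : ℕ) (IH : VanishUpTo F i) (h : Γ(Spec R, ⊤))
    (ξ : Ext (ZU ((Spec R).basicOpen h)) F (i + 1)) (f g : Γ(Spec R, ⊤))
    (hf : Dies ξ ((Spec R).basicOpen h ⊓ (Spec R).basicOpen f))
    (hg : Dies ξ ((Spec R).basicOpen h ⊓ (Spec R).basicOpen g)) :
    Dies ξ ((Spec R).basicOpen h ⊓ (Spec R).basicOpen (f + g)) := by
  have e1 : (Spec R).basicOpen h ⊓ (Spec R).basicOpen (f + g) =
      (Spec R).basicOpen (h * f + h * g) := by
    rw [← mul_add, Scheme.basicOpen_mul]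
  rw [e1]
  have hle : (Spec R).basicOpen (h * f + h * g) ≤ (Spec R).basicOpen h := by
    rw [← e1]; exact inf_le_left
  have hf' : Dies ξ ((Spec R).basicOpen ((h * f) * (h * f + h * g))) := by
    refine hf.mono ?_
    rw [Scheme.basicOpen_mul, Scheme.basicOpen_mul]
    exact inf_le_left
  have hg' : Dies ξ ((Spec R).basicOpen ((h * g) * (h * f + h * g))) := by
    refine hg.mono ?_
    rw [Scheme.basicOpen_mul, Scheme.basicOpen_mul]
    exact inf_le_left
  have lf : (Spec R).basicOpen ((h * f) * (h * f + h * g)) ≤ (Spec R).basicOpen (h * f + h * g) := by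
    rw [Scheme.basicOpen_mul]; exact inf_le_right
  have lg : (Spec R).basicOpen ((h * g) * (h * f + h * g)) ≤ (Spec R).basicOpen (h * f + h * g) := by
    rw [Scheme.basicOpen_mul]; exact inf_le_right
  have df := (dies_res_iff hle ξ lf).2 hf'
  have dg := (dies_res_iff hle ξ lg).2 hg'
  refine ⟨hle, ?_⟩
  change res hle ξ = 0
  cases i with
  | zero => exact hker (h * f) (h * g) (res hle ξ) df dg
  | succ i =>
    apply eq_zero_of_dies_self
    have hsup := Dies.sup df dg (by
      rw [← Scheme.basicOpen_mul]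
      exact IH _ (i + 1) (by omega) le_rfl)
    rw [basicOpen_add_eq_sup] at hsup
    exact hsup

/-- the induction step -/
theorem vanishUpTo_succ
    (hS : ∀ s : Spec R, EtCoh.IsStrictlyHenselianLocalRing ((Spec R).presheaf.stalk s))
    (hker : KerHyp F) (i : ℕ) (IH : VanishUpTo F i) : VanishUpTo F (i + 1) := by
  intro h q hq1 hqi ξ
  rcases Nat.lt_or_ge q (i + 1) with hlt | hge
  · exact IH h q hq1 (by omega) ξ
  obtain rfl : q = i + 1 := by omega
  let I : Ideal Γ(Spec R, ⊤) :=
    { carrier := {f | Dies ξ ((Spec R).basicOpen h ⊓ (Spec R).basicOpen f)}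
      zero_mem' := by
        change Dies ξ _
        rw [Scheme.basicOpen_zero, inf_bot_eq]
        exact dies_bot ξ
      add_mem' := fun {f g} hf hg => dies_add hker i IH h ξ f g hf hg
      smul_mem' := fun a f hf => by
        change Dies ξ _
        refine Dies.mono hf ?_
        rw [smul_eq_mul, Scheme.basicOpen_mul]
        exact inf_le_inf_left _ inf_le_right }
  have hrad : h ∈ I.radical := by
    apply mem_radical_of_cover
    intro x hx
    obtain ⟨V, hxV, hV⟩ := exists_dies hS ξ x hx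
    obtain ⟨_, ⟨f, rfl⟩, hxf, hfV⟩ :=
      Opens.isBasis_iff_nbhd.mp (isBasis_basicOpen (Spec R)) hxV
    exact ⟨f, hV.mono (inf_le_right.trans hfV), hxf⟩
  obtain ⟨N, hN⟩ := hrad
  apply eq_zero_of_dies_self
  refine Dies.mono hN ?_
  rw [← Scheme.basicOpen_mul, ← pow_succ']
  exact (Scheme.basicOpen_pow (X := Spec R) h (Nat.succ_pos N)).ge

theorem vanishUpTo
    (hS : ∀ s : Spec R, EtCoh.IsStrictlyHenselianLocalRing ((Spec R).presheaf.stalk s))
    (hker : KerHyp F) (i : ℕ) : VanishUpTo F i := by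
  induction i with
  | zero => intro h q hq1 hq0 ξ; omega
  | succ i ih => exact vanishUpTo_succ hS hker i ih

end Induction

end Groth.Agent.Lib.Helper27.GabberCrit
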