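import Groth.Agent.Lib.Helper27.GalQ1

/-!
# Sheaves with nonzero finite `p`-primary stalk surject onto `ℤ/p` (Galois `p`-group case)
-/

set_option autoImplicit false
set_option backward.isDefEq.respectTransparency false
universe u
open CategoryTheory Limits Opposite AlgebraicGeometry GrothendieckTopology Abelian
open Groth.Agent.Lib.Helper18.GalFibre Groth.Agent.Lib.Helper23.EtGlue
  Groth.Agent.Lib.Helper27.GabberCrit Groth.Agent.Lib.Helper27.EtTrace
  Groth.Agent.Lib.Helper27.EtRat Groth.Agent.Lib.Helper27.GalP Groth.Agent.Lib.Helper27.GalQ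

namespace Groth.Agent.Lib.Helper27.GalR

variable (k Ω M : Type u) [Field k] [Field Ω] [Algebra k Ω] [IsSepClosed Ω]
  [Field M] [Algebra k M] [FiniteDimensional k M] [IsGalois k M] [Algebra M Ω]
  [IsScalarTower k M Ω]

/-- the dévissage step: a copy of `ℤ/p` inside a sheaf with nonzero finite `p`-primary stalk -/
theorem exists_mono_const (p : ℕ) [Fact p.Prime] (hG : IsPGroup p (M ≃ₐ[k] M)) (j : ℕ)
    (F : EtCoh.Ab (Spec (CommRingCat.of k))) (hcard : Nat.card ((stk k Ω).obj F) = p ^ (j + 1))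
    (hsurj : Function.Surjective (GalQ.germM k Ω M F)) :
    ∃ φ : EtCoh.const (Spec (CommRingCat.of k)) (ZMod p) ⟶ F, Mono φ ∧
      Nat.card ((stk k Ω).obj (cokernel φ)) = p ^ j ∧
      Function.Surjective (GalQ.germM k Ω M (cokernel φ)) := by
  have hp : p.Prime := Fact.out
  have hbij : Function.Bijective (GalQ.germM k Ω M F) := ⟨GalQ.germM_injective k Ω M F, hsurj⟩
  have hcard' : Nat.card (F.obj.obj (op (YM k M))) = p ^ (j + 1) := by
    rw [← hcard]; exact Nat.card_congr (Equiv.ofBijective _ hbij)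
  haveI : Finite (F.obj.obj (op (YM k M))) :=
    Nat.finite_of_card_ne_zero (by rw [hcard']; exact pow_ne_zero _ hp.ne_zero)
  obtain ⟨s₁, hs₁, hps₁, hinv⟩ := exists_invariant F p hG (j + 1) hcard' (Nat.succ_ne_zero j)
  obtain ⟨s₀, hs₀, hps₀⟩ := GalQ.exists_global F p s₁ hps₁ hinv
  let φ := secMor F p s₀ hps₀
  have hmono : Mono φ := GalQ.mono_secMor Ω (M := M) F p s₀ hps₀ (by rw [hs₀]; exact hs₁)
  let S : ShortComplex (EtCoh.Ab (Spec (CommRingCat.of k))) :=
    ShortComplex.mk φ (cokernel.π φ) (cokernel.condition φ)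
  have hS : S.ShortExact :=
    { exact := ShortComplex.exact_cokernel φ
      mono_f := hmono
      epi_g := inferInstanceAs (Epi (cokernel.π φ)) }
  have hS' : (S.map (stk k Ω)).ShortExact := hS.map_of_exact (stk k Ω)
  have hc := card_of_shortExact hS'
  have hc1 : Nat.card ((stk k Ω).obj F) = p * Nat.card ((stk k Ω).obj (cokernel φ)) := by
    refine hc.trans ?_
    congr 1
    exact GalQ.card_stalk_const k Ω p
  have hcQ : Nat.card ((stk k Ω).obj (cokernel φ)) = p ^ j := by
    rw [hcard, pow_succ'] at hc1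
    exact (Nat.eq_of_mul_eq_mul_left hp.pos hc1).symm
  have hπ : Function.Surjective ((stk k Ω).map (cokernel.π φ)) :=
    (AddCommGrpCat.epi_iff_surjective _).1 hS'.epi_g
  have hsQ : Function.Surjective (GalQ.germM k Ω M (cokernel φ)) := by
    intro γ
    obtain ⟨β, rfl⟩ := hπ γ
    obtain ⟨t, rfl⟩ := hsurj β
    exact ⟨_, (GalQ.germM_naturality k Ω M (cokernel.π φ) t).symm⟩
  exact ⟨φ, hmono, hcQ, hsQ⟩

/-- a sheaf with nonzero finite `p`-primary stalk surjects onto `ℤ/p` -/
theorem exists_epi_const (p : ℕ) [Fact p.Prime] (hG : IsPGroup p (M ≃ₐ[k] M)) :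
    ∀ (j : ℕ) (F : EtCoh.Ab (Spec (CommRingCat.of k))),
      Nat.card ((stk k Ω).obj F) = p ^ (j + 1) → Function.Surjective (GalQ.germM k Ω M F) →
      ∃ π : F ⟶ EtCoh.const (Spec (CommRingCat.of k)) (ZMod p), Epi π := by
  intro j
  induction j with
  | zero =>
    intro F hcard hsurj
    obtain ⟨φ, hmono, hcQ, -⟩ := exists_mono_const k Ω M p hG 0 F hcard hsurj
    rw [pow_zero, Nat.card_eq_one_iff_unique] at hcQ
    obtain ⟨h1, -⟩ := hcQ
    have hz : IsZero (cokernel φ) := isZero_of_stalk (Ω := Ω) _ h1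
    haveI : Epi φ := Preadditive.epi_of_isZero_cokernel φ hz
    haveI : IsIso φ := isIso_of_mono_of_epi φ
    exact ⟨inv φ, inferInstance⟩
  | succ j ih =>
    intro F hcard hsurj
    obtain ⟨φ, -, hcQ, hsQ⟩ := exists_mono_const k Ω M p hG (j + 1) F hcard hsurj
    obtain ⟨π', hπ'⟩ := ih (cokernel φ) hcQ hsQ
    exact ⟨cokernel.π φ ≫ π', epi_comp _ _⟩

end Groth.Agent.Lib.Helper27.GalR
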