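import Groth.Agent.Lib.Helper27.GalP9
import Groth.Agent.Lib.Helper27.EtTorsion1
import Groth.Prelude.Def_EtDepth

/-!
# `ℓ`-torsion sheaves are filtered colimits of constructible sheaves killed by powers of `ℓ`
-/

set_option autoImplicit false
set_option backward.isDefEq.respectTransparency false
universe u
open CategoryTheory Limits Opposite AlgebraicGeometry GrothendieckTopology Abelian
open Groth.Agent.Lib.Helper23 Groth.Agent.Lib.Helper27.GalP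

namespace Groth.Agent.Lib.Helper27.GalR

variable {X : Scheme.{u}}

theorem nsmul_id_eq_zero_of_dvd {G : EtCoh.Ab X} {N N' : ℕ} (h : N • 𝟙 G = 0) (hd : N ∣ N') :
    N' • 𝟙 G = 0 := by
  obtain ⟨c, rfl⟩ := hd
  rw [mul_nsmul, h, smul_zero]

/-- constructible and killed by a power of `ℓ` -/
def CKpow (ℓ : ℕ) (G : EtCoh.Ab X) : Prop :=
  EtPBC.IsConstructible G ∧ ∃ a : ℕ, (ℓ ^ a) • 𝟙 G = 0

theorem good_CKpow (ℓ : ℕ) : ColimConstr.Good (CKpow (X := X) ℓ) where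
  constr _ h := h.1
  iso e h := ⟨Strata.constructible_of_iso e h.1, by
    obtain ⟨a, ha⟩ := h.2
    exact ⟨a, by rw [← cancel_epi e.hom, comp_zero, ← Efface.nsmul_comm, ha, zero_comp]⟩⟩
  zero _ h := ⟨ConstrSum.constructible_of_isZero h, 0, h.eq_of_src _ _⟩
  biprod h h' := ⟨ConstrSum.constructible_biprod h.1 h'.1, by
    obtain ⟨a, ha⟩ := h.2
    obtain ⟨a', ha'⟩ := h'.2
    refine ⟨a + a', ?_⟩
    have h1 := nsmul_id_eq_zero_of_dvd ha (pow_dvd_pow ℓ (Nat.le_add_right a a'))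
    have h2 := nsmul_id_eq_zero_of_dvd ha' (pow_dvd_pow ℓ (Nat.le_add_left a' a))
    apply biprod.hom_ext'
    · rw [comp_zero, ← Efface.nsmul_comm, h1, zero_comp]
    · rw [comp_zero, ← Efface.nsmul_comm, h2, zero_comp]⟩
  coker f h h' := ⟨(Strata.constructible_kernel_cokernel f h h'.1).2, by
    obtain ⟨a, ha⟩ := h'.2
    exact ⟨a, by
      rw [← cancel_epi (cokernel.π f), comp_zero, ← Efface.nsmul_comm, ha, zero_comp]⟩⟩

/-- germs of an `ℓ`-torsion sheaf are killed by powers of `ℓ` -/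
theorem exists_pow_nsmul_germ_eq_zero (ℓ : ℕ) (G₀ : EtCoh.Ab X) (hG₀ : EtDepth.IsLTorsion ℓ G₀)
    {Ω : Type u} [Field Ω] [IsSepClosed Ω] (ξ : Spec (CommRingCat.of Ω) ⟶ X)
    (γ : (EtCoh.stalk ξ).obj G₀) : ∃ k : ℕ, ℓ ^ k • γ = 0 := by
  let Φ := Scheme.pointSmallEtale ξ
  obtain ⟨W, w, s, rfl⟩ := Φ.toPresheafFiber_jointly_surjective γ
  let R : Sieve W :=
    { arrows := fun V g => ∃ k : ℕ, ℓ ^ k • G₀.obj.map g.op s = 0
      downward_closed := by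
        rintro V V' g ⟨k, hk⟩ h
        refine ⟨k, ?_⟩
        change ℓ ^ k • G₀.obj.map (h ≫ g).op s = 0
        rw [op_comp, G₀.obj.map_comp, ConcreteCategory.comp_apply, ← map_nsmul, hk, map_zero] }
  have hR : R ∈ X.smallEtaleTopology W :=
    EtGlue.sieve_mem_of_forall_point R (fun u => by
      obtain ⟨V, g, hv, k, hk⟩ := hG₀ W s u
      exact ⟨V, g, ⟨k, hk⟩, hv⟩)
  obtain ⟨Y, g, ⟨k, hk⟩, y, rfl⟩ := Φ.jointly_surjective R hR w
  refine ⟨k, ?_⟩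
  have h1 : Φ.toPresheafFiber W (Φ.fiber.map g y) G₀.obj s =
      Φ.toPresheafFiber Y y G₀.obj (G₀.obj.map g.op s) :=
    (Φ.toPresheafFiber_w_apply g y G₀.obj s).symm
  have h2 := map_nsmul (Φ.toPresheafFiber Y y G₀.obj).hom (ℓ ^ k) (G₀.obj.map g.op s)
  rw [hk, map_zero] at h2
  have h3 : ℓ ^ k • Φ.toPresheafFiber W (Φ.fiber.map g y) G₀.obj s =
      ℓ ^ k • Φ.toPresheafFiber Y y G₀.obj (G₀.obj.map g.op s) := congrArg _ h1
  exact h3.trans h2.symm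

theorem exists_colimit_CKpow [CompactSpace X] [QuasiSeparatedSpace X] (ℓ : ℕ) (hℓ : 0 < ℓ)
    (G₀ : EtCoh.Ab X) (hG₀ : EtDepth.IsLTorsion ℓ G₀) :
    ∃ (J : Type (u + 1)) (_ : SmallCategory J) (_ : IsFiltered J) (D : J ⥤ EtCoh.Ab X)
      (c : Cocone D) (_ : IsColimit c), (∀ j, CKpow ℓ (D.obj j)) ∧ Nonempty (c.pt ≅ G₀) := by
  refine ColimConstr.main G₀ _ (good_CKpow ℓ) ?_
  intro Ω _ _ ξ γ
  obtain ⟨k, hγ⟩ := exists_pow_nsmul_germ_eq_zero ℓ G₀ hG₀ ξ γ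
  obtain ⟨W, hW, φ, hφ⟩ := ShriekPres.exists_gen ξ G₀ γ (ℓ ^ k) hγ
  have := hW
  exact ⟨_, ⟨ShriekPres.constructible_sh2_Zn W hW (ℓ ^ k) (pow_pos hℓ k),
    k, Efface.nsmul_id_sh2 W (ℓ ^ k)⟩, φ, hφ⟩

/-- nonvanishing of `H^n` for some `ℓ`-torsion sheaf implies nonvanishing for a constructible
sheaf killed by a power of `ℓ` -/
theorem exists_CKpow_nontrivial [CompactSpace X] [QuasiSeparatedSpace X] (ℓ : ℕ) (hℓ : 0 < ℓ)
    (n : ℕ) (G₀ : EtCoh.Ab X) (hG₀ : EtDepth.IsLTorsion ℓ G₀)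
    (hne : Nontrivial (EtCoh.H X G₀ n)) :
    ∃ B : EtCoh.Ab X, CKpow ℓ B ∧ Nontrivial (EtCoh.H X B n) := by
  by_contra hcon
  have h : ∀ B : EtCoh.Ab X, CKpow ℓ B → Subsingleton (EtCoh.H X B n) := fun B hB =>
    not_nontrivial_iff_subsingleton.1 (fun hn => hcon ⟨B, hB, hn⟩)
  obtain ⟨J, _, _, D, c, hc, hD, ⟨e⟩⟩ := exists_colimit_CKpow ℓ hℓ G₀ hG₀
  have := Groth.Agent.Lib.Helper27.EtTransport.preservesColimitsOfShape_HF X n J
  have hc' : IsColimit ((EtCoh.HF X n).mapCocone c) := isColimitOfPreserves (EtCoh.HF X n) hc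
  have hzero : ∀ z : (EtCoh.HF X n).obj c.pt, z = 0 := by
    intro z
    obtain ⟨j, y, rfl⟩ := Concrete.isColimit_exists_rep (D ⋙ EtCoh.HF X n) hc' z
    haveI : Subsingleton ((D ⋙ EtCoh.HF X n).obj j) := h (D.obj j) (hD j)
    rw [Subsingleton.elim y 0, map_zero]
  have h2 : ∀ x : (EtCoh.HF X n).obj G₀, x = 0 := by
    intro x
    have h3 : (EtCoh.HF X n).map e.hom ((EtCoh.HF X n).map e.inv x) = x := by
      rw [← ConcreteCategory.comp_apply, ← Functor.map_comp, e.inv_hom_id,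
        CategoryTheory.Functor.map_id]
      rfl
    rw [← h3, hzero ((EtCoh.HF X n).map e.inv x), map_zero]
  obtain ⟨a, b, hab⟩ := hne
  exact hab ((h2 a).trans (h2 b).symm)

/-- a constructible `ℓ`-torsion sheaf is killed by a power of `ℓ` -/
theorem exists_pow_nsmul_id_eq_zero [CompactSpace X] [QuasiSeparatedSpace X] (ℓ : ℕ)
    (hℓ : ℓ.Prime) (F : EtCoh.Ab X) (hFc : EtPBC.IsConstructible F)
    (hF : EtDepth.IsLTorsion ℓ F) : ∃ b : ℕ, (ℓ ^ b) • 𝟙 F = 0 := by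
  obtain ⟨N, hN, hNF⟩ := Efface.exists_nsmul_id_eq_zero F hFc
  obtain ⟨b, N', hN', rfl⟩ := Nat.exists_eq_pow_mul_and_not_dvd hN.ne' ℓ hℓ.ne_one
  refine ⟨b, ?_⟩
  apply Sheaf.hom_ext
  ext U s
  rw [Groth.Agent.Lib.Helper27.EtNorm.nsmul_id_apply]
  change ℓ ^ b • s = 0
  apply Groth.Agent.Lib.Helper27.EtTransport.eq_zero_of_locally F
  intro x
  obtain ⟨V, g, hv, k, hk⟩ := hF U.unop s x
  refine ⟨V, g, hv, ?_⟩
  have hcop : Nat.Coprime (ℓ ^ k) N' :=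
    Nat.Coprime.pow_left k ((Nat.Prime.coprime_iff_not_dvd hℓ).2 hN')
  apply Groth.Agent.Lib.Helper27.EtTrace.eq_zero_of_coprime_nsmul _ (ℓ ^ k) N' hcop
  · rw [map_nsmul, smul_comm, hk, smul_zero]
  · rw [← map_nsmul, ← mul_nsmul]
    have h1 := Groth.Agent.Lib.Helper27.EtNorm.nsmul_id_apply F (ℓ ^ b * N') U s
    rw [hNF] at h1
    have h2 : (ℓ ^ b * N') • s = 0 := h1.symm.trans rfl
    rw [h2, map_zero]

end Groth.Agent.Lib.Helper27.GalR
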