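import Groth.Agent.Lib.Helper27.GalR1
import Groth.Agent.Lib.Helper27.GalQ2
import Groth.Agent.Lib.Helper27.IntShapiro
import Groth.Agent.Lib.Helper27.GalP10

/-!
# Transfer of germ surjectivity to a subextension; right exactness of top cohomology
-/

set_option autoImplicit false
set_option backward.isDefEq.respectTransparency false
universe u
open CategoryTheory Limits Opposite AlgebraicGeometry GrothendieckTopology Abelian
open Groth.Agent.Lib.Helper18.GalFibre Groth.Agent.Lib.Helper23.EtGlue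
  Groth.Agent.Lib.Helper27.GabberCrit Groth.Agent.Lib.Helper27.EtTrace
  Groth.Agent.Lib.Helper27.EtRat Groth.Agent.Lib.Helper27.GalP Groth.Agent.Lib.Helper27.GalQ
  Groth.Agent.Lib.Helper23

namespace Groth.Agent.Lib.Helper27.GalR

section Transfer

variable (k k' M Ω : Type u) [Field k] [Field k'] [Field M] [Field Ω]
  [Algebra k k'] [Algebra k' M] [Algebra k M] [IsScalarTower k k' M]
  [Algebra k Ω] [Algebra k' Ω] [IsScalarTower k k' Ω] [IsSepClosed Ω]
  [Algebra M Ω] [IsScalarTower k M Ω] [IsScalarTower k' M Ω]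
  [FiniteDimensional k k'] [Algebra.IsSeparable k k']
  [FiniteDimensional k M] [IsGalois k M] [FiniteDimensional k' M] [IsGalois k' M]

/-- germ surjectivity passes to the pullback to an intermediate field -/
theorem germM_pull_surjective (G : EtCoh.Ab (Spec (CommRingCat.of k)))
    [Finite ((stk k Ω).obj G)] (hsurj : Function.Surjective (GalQ.germM k Ω M G)) :
    Function.Surjective (GalQ.germM k' Ω M ((EtCoh.pull (sK k k')).obj G)) := by
  have hinj := GalQ.germM_injective k' Ω M ((EtCoh.pull (sK k k')).obj G)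
  have hc : Nat.card (((EtCoh.pull (sK k k')).obj G).obj.obj (op (YM k' M))) =
      Nat.card ((stk k' Ω).obj ((EtCoh.pull (sK k k')).obj G)) := by
    rw [card_sections_pull k k' M G, card_stalk_pull k k' Ω G]
    exact Nat.card_congr (Equiv.ofBijective _ ⟨GalQ.germM_injective k Ω M G, hsurj⟩)
  haveI : Finite ((stk k' Ω).obj ((EtCoh.pull (sK k k')).obj G)) := by
    apply Nat.finite_of_card_ne_zero
    rw [card_stalk_pull k k' Ω G]
    exact Nat.card_pos.ne'
  exact (hinj.bijective_of_nat_card_le hc.ge).2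

end Transfer

section RightExact

variable (k Ω M : Type u) [Field k] [Field Ω] [Algebra k Ω] [IsSepClosed Ω]
  [Field M] [Algebra k M] [FiniteDimensional k M] [IsGalois k M] [Algebra M Ω]
  [IsScalarTower k M Ω]

/-- if `H^{n+1}` vanishes on sheaves killed by powers of `p`, then `H^n(F)` is nontrivial as soon
as `H^n(ℤ/p)` is, for `F` with nonzero finite `p`-primary stalk -/
theorem nontrivial_H_of_nontrivial_const (p : ℕ) [Fact p.Prime] (hG : IsPGroup p (M ≃ₐ[k] M))
    (n : ℕ)
    (hright : ∀ G : EtCoh.Ab (Spec (CommRingCat.of k)), (∃ a : ℕ, (p ^ a) • 𝟙 G = 0) →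
      Subsingleton (EtCoh.H _ G (n + 1)))
    (F : EtCoh.Ab (Spec (CommRingCat.of k))) (j : ℕ)
    (hcard : Nat.card ((stk k Ω).obj F) = p ^ (j + 1))
    (hsurj : Function.Surjective (GalQ.germM k Ω M F)) (a : ℕ) (hFa : (p ^ a) • 𝟙 F = 0)
    (hZ : Nontrivial (EtCoh.H _ (EtCoh.const (Spec (CommRingCat.of k)) (ZMod p)) n)) :
    Nontrivial (EtCoh.H _ F n) := by
  obtain ⟨π, hπ⟩ := exists_epi_const k Ω M p hG j F hcard hsurj
  have hKr : (p ^ a) • 𝟙 (kernel π) = 0 := by
    rw [← cancel_mono (kernel.ι π), zero_comp, Efface.nsmul_comm, hFa, comp_zero]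
  let S : ShortComplex (EtCoh.Ab (Spec (CommRingCat.of k))) :=
    ShortComplex.mk (kernel.ι π) π (kernel.condition π)
  have hS : S.ShortExact :=
    { exact := ShortComplex.exact_kernel π
      mono_f := inferInstanceAs (Mono (kernel.ι π))
      epi_g := hπ }
  have h1 := hright (kernel π) ⟨a, hKr⟩
  obtain ⟨x, y, hxy⟩ := hZ
  have hsurjH : ∀ z : EtCoh.H _ (EtCoh.const (Spec (CommRingCat.of k)) (ZMod p)) n,
      ∃ w : EtCoh.H _ F n, w.comp (Ext.mk₀ π) (add_zero n) = z := by
    intro z
    exact Ext.covariant_sequence_exact₃ _ hS z rfl (h1.elim _ _)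
  obtain ⟨x', hx'⟩ := hsurjH x
  obtain ⟨y', hy'⟩ := hsurjH y
  exact ⟨x', y', fun h => hxy (by rw [← hx', ← hy', h])⟩

end RightExact

end Groth.Agent.Lib.Helper27.GalR
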