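import Groth.Agent.Lib.Helper27.GalR2
import Groth.Agent.Lib.Helper27.GalR3

/-!
# Auxiliary facts for the nonvanishing of top cohomology after a finite separable extension
-/

set_option autoImplicit false
set_option backward.isDefEq.respectTransparency false
universe u
open CategoryTheory Limits Opposite AlgebraicGeometry GrothendieckTopology Abelian
open Groth.Agent.Lib.Helper18.GalFibre Groth.Agent.Lib.Helper23.EtGlue
  Groth.Agent.Lib.Helper27.GabberCrit Groth.Agent.Lib.Helper27.EtTrace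
  Groth.Agent.Lib.Helper27.EtRat Groth.Agent.Lib.Helper27.GalP Groth.Agent.Lib.Helper27.GalQ
  Groth.Agent.Lib.Helper23

namespace Groth.Agent.Lib.Helper27.GalR

section Gen

variable {X Y : Scheme.{u}}

/-- a sheaf killed by a power of `ℓ` is `ℓ`-torsion -/
theorem isLTorsion_of_killed (ℓ : ℕ) (G : EtCoh.Ab X) (a : ℕ) (hG : (ℓ ^ a) • 𝟙 G = 0) :
    EtDepth.IsLTorsion ℓ G := by
  intro U s x
  refine ⟨U, 𝟙 U, ⟨x, rfl⟩, a, ?_⟩
  have h1 := Groth.Agent.Lib.Helper27.EtNorm.nsmul_id_apply G (ℓ ^ a) (op U) s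
  rw [hG] at h1
  have h2 : G.obj.map (𝟙 U).op s = s := by
    rw [op_id, CategoryTheory.Functor.map_id]
    rfl
  rw [h2]
  exact h1.symm.trans rfl

theorem pull_nsmul_id_eq_zero (f : X ⟶ Y) (G : EtCoh.Ab Y) (N : ℕ) (hG : N • 𝟙 G = 0) :
    N • 𝟙 ((EtCoh.pull f).obj G) = 0 := by
  have h1 : (EtCoh.pull f).map (N • 𝟙 G) = N • 𝟙 ((EtCoh.pull f).obj G) := by
    rw [Functor.map_nsmul, CategoryTheory.Functor.map_id]
  rw [← h1, hG, Functor.map_zero]

theorem push_nsmul_id_eq_zero (f : X ⟶ Y) (G : EtCoh.Ab X) (N : ℕ) (hG : N • 𝟙 G = 0) :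
    N • 𝟙 ((EtCoh.push f).obj G) = 0 := by
  haveI : (EtCoh.push f).Additive := (EtCoh.pullPushAdj f).right_adjoint_additive
  have h1 : (EtCoh.push f).map (N • 𝟙 G) = N • 𝟙 ((EtCoh.push f).obj G) := by
    rw [Functor.map_nsmul, CategoryTheory.Functor.map_id]
  rw [← h1, hG, Functor.map_zero]

/-- `cd_ℓ` does not increase along integral morphisms, for sheaves killed by powers of `ℓ` -/
theorem subsingleton_H_of_cohDimLLE_integral (f : X ⟶ Y) [IsIntegralHom f] (ℓ n : ℕ)
    (hcd : EtDepth.CohDimLLE Y ℓ n) (G : EtCoh.Ab X) (a : ℕ) (hG : (ℓ ^ a) • 𝟙 G = 0)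
    (q : ℕ) (hq : n < q) : Subsingleton (EtCoh.H X G q) := by
  have h1 := hcd ((EtCoh.push f).obj G)
    (isLTorsion_of_killed ℓ _ a (push_nsmul_id_eq_zero f G _ hG)) q hq
  have h2 := Groth.Agent.Lib.Helper27.IntShapiro.shapiro_bijective f G q
  exact ⟨fun x y => by
    obtain ⟨x', rfl⟩ := h2.2 x
    obtain ⟨y', rfl⟩ := h2.2 y
    rw [h1.elim x' y']⟩

end Gen

section Zero

variable {k Ω : Type u} [Field k] [Field Ω] [Algebra k Ω] [IsSepClosed Ω]

include Ω in
/-- `H^0(Spec k, ℤ/p)` is nonzero -/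
theorem nontrivial_H_zero_const (p : ℕ) [Fact p.Prime] :
    Nontrivial (EtCoh.H (Spec (CommRingCat.of k))
      (EtCoh.const (Spec (CommRingCat.of k)) (ZMod p)) 0) := by
  have hp : p.Prime := Fact.out
  let red : AddCommGrpCat.of (ULift.{u + 1} ℤ) ⟶ AddCommGrpCat.of (ULift.{u + 1} (ZMod p)) :=
    AddCommGrpCat.ofHom ((AddEquiv.ulift.symm.toAddMonoidHom.comp (Int.castAddHom (ZMod p))).comp
      AddEquiv.ulift.toAddMonoidHom)
  haveI : Epi red := by
    rw [AddCommGrpCat.epi_iff_surjective]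
    intro y
    obtain ⟨z, hz⟩ := ZMod.intCast_surjective y.down
    exact ⟨ULift.up z, ULift.ext _ _ hz⟩
  let f : EtCoh.const (Spec (CommRingCat.of k)) ℤ ⟶ EtCoh.const (Spec (CommRingCat.of k)) (ZMod p) :=
    (FlcLoc.C (Spec (CommRingCat.of k))).map red
  haveI : Epi f := inferInstanceAs (Epi ((FlcLoc.C (Spec (CommRingCat.of k))).map red))
  have hf : f ≠ 0 := by
    intro h0
    have hz : IsZero (EtCoh.const (Spec (CommRingCat.of k)) (ZMod p)) :=
      IsZero.of_epi_eq_zero f h0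
    have hz' : IsZero ((stk k Ω).obj (EtCoh.const (Spec (CommRingCat.of k)) (ZMod p))) :=
      (stk k Ω).map_isZero hz
    have hsub := AddCommGrpCat.subsingleton_of_isZero hz'
    have hc := GalQ.card_stalk_const k Ω p
    rw [Nat.card_unique] at hc
    exact hp.one_lt.ne hc
  refine ⟨Ext.mk₀ f, 0, fun h => hf ?_⟩
  apply (Ext.mk₀_bijective _ _).1
  rw [h, Ext.mk₀_zero]

end Zero

section Mono

variable {k Ω : Type u} [Field k] [Field Ω] [Algebra k Ω] [IsSepClosed Ω] [IsGalois k Ω]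

/-- germ surjectivity persists when the finite Galois subextension is enlarged -/
theorem germM_surjective_of_le {M M' : IntermediateField k Ω} [FiniteDimensional k M]
    [FiniteDimensional k M'] (h : M ≤ M') (F : EtCoh.Ab (Spec (CommRingCat.of k)))
    (hs : Function.Surjective (GalP.germM M F)) : Function.Surjective (GalP.germM M' F) := by
  intro γ
  obtain ⟨t, rfl⟩ := hs γ
  exact ⟨_, germM_mono h F t⟩

end Mono

end Groth.Agent.Lib.Helper27.GalR
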