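import Groth.Agent.Lib.Helper27.GalR4
import Groth.Agent.Lib.Helper27.GalQ3

/-!
# Nonvanishing of top cohomology after a finite separable extension
-/

set_option autoImplicit false
set_option backward.isDefEq.respectTransparency false
universe u
open CategoryTheory Limits Opposite AlgebraicGeometry GrothendieckTopology Abelian
open Groth.Agent.Lib.Helper18.GalFibre Groth.Agent.Lib.Helper23.EtGlue
  Groth.Agent.Lib.Helper27.GabberCrit Groth.Agent.Lib.Helper27.EtTrace
  Groth.Agent.Lib.Helper27.EtRat Groth.Agent.Lib.Helper27.GalP Groth.Agent.Lib.Helper27.GalQ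
  Groth.Agent.Lib.Helper23

namespace Groth.Agent.Lib.Helper27.GalR

set_option maxHeartbeats 800000 in
theorem exists_ext_top_ne_zero (K : Type u) [Field K] (ℓ : ℕ) (hℓ : ℓ.Prime)
    (F : EtCoh.Ab (Spec (CommRingCat.of K))) (hF : EtDepth.IsLTorsion ℓ F)
    (hFc : EtPBC.IsConstructible F) (hF0 : ¬ IsZero F) (n : ℕ)
    (hcd : EtDepth.CohDimLLE (Spec (CommRingCat.of K)) ℓ n)
    (hcd' : ∀ d : ℕ, d < n → ¬ EtDepth.CohDimLLE (Spec (CommRingCat.of K)) ℓ d) :
    ∃ (L : Type u) (_ : Field L) (_ : Algebra K L) (_ : Module.Finite K L)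
      (_ : Algebra.IsSeparable K L),
      Nontrivial (EtCoh.H (Spec (CommRingCat.of L))
        ((EtCoh.pull (Spec.map (CommRingCat.ofHom (algebraMap K L)))).obj F) n) := by
  haveI : Fact ℓ.Prime := ⟨hℓ⟩
  let Ω := SeparableClosure K
  obtain ⟨b, hb⟩ := exists_pow_nsmul_id_eq_zero ℓ hℓ F hFc hF
  have hfinF := SpecIso2.finite_stalk_of_constructible F hFc (ξ K Ω)
  obtain ⟨jF, hjF⟩ := exists_card_eq_pow ((stk K Ω).obj F) ℓ b
    (nsmul_stalk_eq_zero F (ℓ ^ b) hb)
  have hjF0 : jF ≠ 0 := by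
    rintro rfl
    rw [pow_zero, Nat.card_eq_one_iff_unique] at hjF
    exact hF0 (isZero_of_stalk (Ω := Ω) F hjF.1)
  obtain ⟨jF', rfl⟩ : ∃ j', jF = j' + 1 := ⟨jF - 1, by omega⟩
  -- an auxiliary sheaf with nonzero `H^n`
  obtain ⟨B, ⟨hBc, a, ha⟩, hBn⟩ : ∃ B : EtCoh.Ab (Spec (CommRingCat.of K)), CKpow ℓ B ∧
      (n ≠ 0 → Nontrivial (EtCoh.H _ B n)) := by
    rcases Nat.eq_zero_or_pos n with rfl | hn
    · exact ⟨F, ⟨hFc, b, hb⟩, fun h => absurd rfl h⟩
    · have h1 := hcd' (n - 1) (by omega)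
      unfold EtDepth.CohDimLLE at h1
      push Not at h1
      obtain ⟨G₀, hG₀, q, hq, hne⟩ := h1
      have hqn : q = n := by
        by_contra hqn
        exact not_subsingleton_iff_nontrivial.2 hne (hcd G₀ hG₀ q (by omega))
      subst hqn
      obtain ⟨B, hB, hBn⟩ := exists_CKpow_nontrivial ℓ hℓ.pos q G₀ hG₀ hne
      exact ⟨B, hB, fun _ => hBn⟩
  have hfinB := SpecIso2.finite_stalk_of_constructible B hBc (ξ K Ω)
  obtain ⟨jB, hjB⟩ := exists_card_eq_pow ((stk K Ω).obj B) ℓ a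
    (nsmul_stalk_eq_zero B (ℓ ^ a) ha)
  -- the finite Galois extension
  obtain ⟨M₁, _, _, hs₁⟩ := GalP.exists_germM_surjective (Ω := Ω) F
  obtain ⟨M₂, _, _, hs₂⟩ := GalP.exists_germM_surjective (Ω := Ω) B
  let M₀ : IntermediateField K Ω := M₁ ⊔ M₂
  have : FiniteDimensional K M₀ := IntermediateField.finiteDimensional_sup M₁ M₂
  have : Normal K M₀ := IntermediateField.normal_sup K Ω M₁ M₂
  have : IsGalois K M₀ := {}
  have hsF : Function.Surjective (GalP.germM M₀ F) := germM_surjective_of_le le_sup_left F hs₁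
  have hsB : Function.Surjective (GalP.germM M₀ B) := germM_surjective_of_le le_sup_right B hs₂
  -- the fixed field of a Sylow subgroup
  let P : Sylow ℓ (M₀ ≃ₐ[K] M₀) := default
  let K₁ : IntermediateField K M₀ := IntermediateField.fixedField (P : Subgroup (M₀ ≃ₐ[K] M₀))
  have hidx : ¬ ℓ ∣ Module.finrank K K₁ := by
    rw [IntermediateField.finrank_eq_fixingSubgroup_index,
      IntermediateField.fixingSubgroup_fixedField]
    exact P.not_dvd_index
  obtain ⟨r, hr⟩ := IsPGroup.exists_card_eq P.isPGroup'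
  have hfr : Module.finrank K₁ M₀ = ℓ ^ r := by
    rw [IntermediateField.finrank_fixedField_eq_card]; exact hr
  have hGp : IsPGroup ℓ (M₀ ≃ₐ[K₁] M₀) :=
    IsPGroup.of_card (n := r) (by rw [IsGalois.card_aut_eq_finrank, hfr])
  have : IsIntegralHom (sK K K₁) := by
    rw [IsIntegralHom.SpecMap_iff]
    exact algebraMap_isIntegral_iff.mpr inferInstance
  -- `H^n(K₁, ℤ/ℓ)` is nonzero
  have hZ : Nontrivial (EtCoh.H (Spec (CommRingCat.of K₁))
      (EtCoh.const (Spec (CommRingCat.of K₁)) (ZMod ℓ)) n) := by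
    rcases Nat.eq_zero_or_pos n with rfl | hn
    · exact nontrivial_H_zero_const (Ω := Ω) ℓ
    · by_contra hcon
      have hsub := not_nontrivial_iff_subsingleton.1 hcon
      have hB' := GalQ.subsingleton_H_of_stalk_pgroup K₁ Ω M₀ ℓ hGp n hsub jB
        ((EtCoh.pull (sK K K₁)).obj B) ((card_stalk_pull K K₁ Ω B).trans hjB)
        (germM_pull_surjective K K₁ M₀ Ω B hsB)
      obtain ⟨x, y, hxy⟩ := hBn hn.ne'
      have hz : x - y = 0 := by
        have h1 : EtCore.Hpull (sK K K₁) B n (x - y) = 0 := hB'.elim _ _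
        have h2 := finrank_nsmul_eq_zero K K₁ B n (x - y) h1
        have h3 : ℓ ^ a • (x - y) = 0 := nsmul_H_eq_zero B (ℓ ^ a) ha n (x - y)
        have hcop : Nat.Coprime (ℓ ^ a) (Module.finrank K K₁) :=
          Nat.Coprime.pow_left a ((Nat.Prime.coprime_iff_not_dvd hℓ).2 hidx)
        exact eq_zero_of_coprime_nsmul (x - y) (ℓ ^ a) (Module.finrank K K₁) hcop h3 h2
      exact hxy (sub_eq_zero.1 hz)
  -- conclusion
  refine ⟨K₁, inferInstance, inferInstance, inferInstance, inferInstance, ?_⟩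
  exact nontrivial_H_of_nontrivial_const K₁ Ω M₀ ℓ hGp n
    (fun G ⟨a', hG⟩ => subsingleton_H_of_cohDimLLE_integral (sK K K₁) ℓ n hcd G a' hG (n + 1)
      (Nat.lt_succ_self n))
    ((EtCoh.pull (sK K K₁)).obj F) jF' ((card_stalk_pull K K₁ Ω F).trans hjF)
    (germM_pull_surjective K K₁ M₀ Ω F hsF) b (pull_nsmul_id_eq_zero _ F _ hb) hZ

end Groth.Agent.Lib.Helper27.GalR
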