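import Groth.Agent.Lib.Helper27.QcStack2
import Groth.Agent.Lib.Helper27.SepDiag

/-!
# Quasi-compact morphisms of algebraic stacks: cancellation (helper27)
-/

set_option autoImplicit false
set_option backward.isDefEq.respectTransparency false
set_option backward.isDefEq.respectTransparency.types false

universe u

open CategoryTheory CategoryTheory.Limits AlgebraicGeometry Opposite FibCat
  Groth.Agent.Lib.Helper27.FpKit Groth.Agent.Lib.Helper27.RepWithComp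
  Groth.Agent.Lib.Helper27.LocQOver Groth.Agent.Lib.Helper27.FpBaseChange
  Groth.Agent.Lib.Helper27.FpSwap

namespace Groth.Agent.Lib.Helper27.QcStack

variable {S : Scheme.{u}} {𝒜 𝒳 𝒴 𝒵 : AlgSt.Cat S}

theorem isQuasiCompactMor_equiv_comp (E : 𝒜 ⥤ᵇ 𝒳) (hE : IsEquivOver E) (f : 𝒳 ⥤ᵇ 𝒴)
    (hf : AlgSt.IsQuasiCompactMor Scheme.fppfPrecoverage f) :
    AlgSt.IsQuasiCompactMor Scheme.fppfPrecoverage (BasedFunctor.comp E f) := by
  intro 𝒯 h𝒯 hq k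
  exact isQuasiCompact_of_equiv' (mapSnd k f E)
    (isEquivOver_fpMap (DSnd k f E) (isEquivOver_id _) hE (isEquivOver_id _)) (hf 𝒯 h𝒯 hq k)

theorem isQuasiCompactMor_fpSnd (p : 𝒳 ⥤ᵇ 𝒵) (q : 𝒴 ⥤ᵇ 𝒵)
    (hp : AlgSt.IsQuasiCompactMor Scheme.fppfPrecoverage p) :
    AlgSt.IsQuasiCompactMor Scheme.fppfPrecoverage (fpSnd p q) :=
  isQuasiCompactMor_equiv_comp (swap p q) (isEquivOver_swap p q) _ (isQuasiCompactMor_fpFst p q hp)

theorem isQuasiCompactMor_of_comp (h𝒳 : AlgSt.IsAlgStack Scheme.fppfPrecoverage 𝒳)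
    (h𝒴 : AlgSt.IsAlgStack Scheme.fppfPrecoverage 𝒴)
    (h𝒵 : AlgSt.IsAlgStack Scheme.fppfPrecoverage 𝒵) (f : 𝒳 ⥤ᵇ 𝒴) (g : 𝒴 ⥤ᵇ 𝒵)
    (hgf : AlgSt.IsQuasiCompactMor Scheme.fppfPrecoverage (BasedFunctor.comp f g))
    (hg : AlgSt.RepByAlgSpWith AlgSp.IsQuasiCompactMor (diag g)) :
    AlgSt.IsQuasiCompactMor Scheme.fppfPrecoverage f := by
  let e : BasedFunctor.comp (BasedFunctor.id 𝒳) (BasedFunctor.comp f g) ≅ BasedFunctor.comp f g :=
    Iso.refl _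
  have h1 : AlgSt.RepByAlgSpWith AlgSp.IsQuasiCompactMor (fpLift (BasedFunctor.id 𝒳) f e) :=
    Groth.Agent.Lib.Helper27.RepWithGeneral.repByAlgSpWith_graph _ (BasedFunctor.comp f g) g f e hg
  have h2 := isQuasiCompactMor_of_repByAlgSpWith _ h1
  have h3 := isQuasiCompactMor_fpSnd (BasedFunctor.comp f g) g hgf
  have h4 : AlgSt.IsAlgStack Scheme.fppfPrecoverage (fp (BasedFunctor.comp f g) g) :=
    Groth.Agent.Lib.Helper27.AlgStackFp.isAlgStack_fp _ g h𝒵.isStack h𝒵.diag h𝒳 h𝒴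
  exact isQuasiCompactMor_comp h4 h𝒴 _ _ h2 h3

end Groth.Agent.Lib.Helper27.QcStack
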