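import Groth.Agent.Lib.Helper27.ImmNoeth
import Groth.Agent.Lib.Helper27.QcStack3
import Groth.Agent.Lib.Helper27.DiagCancel
import Groth.Agent.Lib.Helper27.SectionDiag
import Groth.Agent.S9928

/-!
# Immersions of algebraic stacks: quasi-compactness and quasi-separation (helper27)
-/

set_option autoImplicit false
set_option backward.isDefEq.respectTransparency false
set_option backward.isDefEq.respectTransparency.types false

universe u

open CategoryTheory CategoryTheory.Limits AlgebraicGeometry Opposite FibCat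
  Groth.Agent.Lib.Helper27.FpKit Groth.Agent.Lib.Helper27.RepWithComp
  Groth.Agent.Lib.Helper27.FpSwap

namespace Groth.Agent.Lib.Helper27.ImmNoeth

variable {S : Scheme.{u}}

theorem isQuasiCompactMor_of_isIso {X Y : AlgSp.Sp S} (i : X ⟶ Y) [IsIso i] :
    AlgSp.IsQuasiCompactMor i :=
  Groth.Agent.Lib.Helper3.isQuasiCompactMor_of_repWith_quasiCompact i
    (haveI := AlgSp.repWith_isMultiplicative (S := S) @QuasiCompact
     (AlgSp.RepWith (S := S) @QuasiCompact).of_isIso i)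

theorem isQuasiSeparatedMor_of_isIso {X Y : AlgSp.Sp S} (i : X ⟶ Y) [IsIso i] :
    AlgSp.IsQuasiSeparatedMor i := by
  change AlgSp.RepWith @QuasiCompact (pullback.diagonal i)
  haveI := AlgSp.repWith_isMultiplicative (S := S) @QuasiCompact
  exact (AlgSp.RepWith (S := S) @QuasiCompact).of_isIso _

variable {𝒳 𝒴 : AlgSt.Cat S}

theorem repByAlgSpWith_diag_of_isImm (P : MorphismProperty (AlgSp.Sp S))
    (hP : ∀ ⦃X Y : AlgSp.Sp S⦄ (i : X ⟶ Y) [IsIso i], P i) (j : 𝒳 ⥤ᵇ 𝒴) (hj : AlgSt.IsImm j) :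
    AlgSt.RepByAlgSpWith P (diag j) :=
  Groth.Agent.Lib.Helper27.DiagRep.repByAlgSpWith_diag j _ P hj (fun F U π τ₁ τ₂ hπ _ h2 => by
    have hm : Mono π := Groth.Agent.S9928.mono_of_repWith @IsImmersion
      (fun g hg => by
        have : IsImmersion g := hg
        infer_instance) π hπ
    have h3 : π ≫ τ₂ = 𝟙 _ := by
      rw [← cancel_mono π, Category.assoc, h2, Category.comp_id, Category.id_comp]
    have : IsIso τ₂ := ⟨π, h2, h3⟩
    exact hP _)

theorem isQuasiSeparatedOver_of_isImm (h𝒳 : FibCat.IsFibGrpd 𝒳.p) (h𝒴 : FibCat.IsFibGrpd 𝒴.p)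
    (j : 𝒳 ⥤ᵇ 𝒴) (hj : AlgSt.IsImm j) (h : AlgSt.IsQuasiSeparatedOver 𝒴) :
    AlgSt.IsQuasiSeparatedOver 𝒳 := by
  have h1 : AlgSt.RepByAlgSpWith (AlgSp.IsQuasiCompactMor ⊓ AlgSp.IsQuasiSeparatedMor) (diag j) :=
    repByAlgSpWith_diag_of_isImm _
      (fun _ _ i _ => ⟨isQuasiCompactMor_of_isIso i, isQuasiSeparatedMor_of_isIso i⟩) j hj
  have h2 := Groth.Agent.Lib.Helper27.DiagComp.repByAlgSpWith_diag_comp j (toSelf 𝒴) _
    Groth.Agent.Lib.Helper27.DiagCancel.compHyp_qcqs h𝒳 h𝒴 h1 h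
  rw [Groth.Agent.Lib.Helper27.DiagCancel.comp_toSelf] at h2
  exact h2

theorem isQuasiCompact_of_isQuasiCompactMor (h𝒴 : AlgSt.IsAlgStack Scheme.fppfPrecoverage 𝒴)
    (hq : AlgSt.IsQuasiCompact 𝒴) (j : 𝒳 ⥤ᵇ 𝒴)
    (hj : AlgSt.IsQuasiCompactMor Scheme.fppfPrecoverage j) : AlgSt.IsQuasiCompact 𝒳 := by
  have h1 := hj 𝒴 h𝒴 hq (BasedFunctor.id 𝒴)
  have hE : IsEquivOver (fpSnd (BasedFunctor.id 𝒴) j) :=
    isEquivOver_comp (swap (BasedFunctor.id 𝒴) j) (fpFst j (BasedFunctor.id 𝒴))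
      (isEquivOver_swap _ _)
      (Groth.Agent.Lib.Helper27.SectionDiag.isEquivOver_fpFst_of_equiv j (BasedFunctor.id 𝒴)
        (isEquivOver_id 𝒴))
  exact Groth.Agent.Lib.Helper27.QcStack.isQuasiCompact_of_equiv _ hE h1

end Groth.Agent.Lib.Helper27.ImmNoeth
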