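import Groth.Agent.Lib.Helper27.QcImage2
import Groth.Agent.Lib.Helper27.StPointsSurj

/-!
# Quasi-compactness and surjectivity on points (helper27)
-/

set_option autoImplicit false
set_option backward.isDefEq.respectTransparency false
set_option backward.isDefEq.respectTransparency.types false

universe u

open CategoryTheory CategoryTheory.Limits FibCat AlgebraicGeometry Opposite
  Groth.Agent.Lib.Helper27.FpKit Groth.Agent.Lib.Helper27.PointsKit
  Groth.Agent.Lib.Helper27.StPoints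

namespace Groth.Agent.Lib.Helper27.QcImage

variable {S : Scheme.{u}}

/-- The target of a functor which is surjective on points, from a quasi-compact category, to an
algebraic stack is quasi-compact. -/
theorem isQuasiCompact_of_isSurjective {𝒰 𝒳 : AlgSt.Cat S} (h𝒰f : FibCat.IsFibGrpd 𝒰.p)
    (h𝒳 : AlgSt.IsAlgStack Scheme.fppfPrecoverage 𝒳) (f : 𝒰 ⥤ᵇ 𝒳) (hf : AlgSt.IsSurjective f)
    (h𝒰' : AlgSt.IsQuasiCompact 𝒰) : AlgSt.IsQuasiCompact 𝒳 := by
  obtain ⟨U, x, hU, -, hx⟩ := h𝒰'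
  have hc : CompactSpace ↥U.left := by
    have : IsAffine U.left := hU
    infer_instance
  have hfU := Groth.Agent.Lib.Helper27.ReprAux.isFibGrpd_overCat U
  have hx' : AlgSt.IsSurjective x := isSurjective_of_rep hfU h𝒰f x hx
  have hcs : AlgSt.IsSurjective (BasedFunctor.comp x f) := fun y => by
    obtain ⟨z, rfl⟩ := hf y
    obtain ⟨w, rfl⟩ := hx' z
    exact ⟨w, map_comp x f w⟩
  have hc1 : AlgSt.RepByAlgSp1 (BasedFunctor.comp x f) :=
    Groth.Agent.Lib.Helper27.DiagIff.chart_of_diag h𝒳.isStack.1 h𝒳.diag U _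
  have hcr := rep_of_isSurjective hfU h𝒳.isStack.1 _ hc1 hcs
  exact isQuasiCompact_of_surj h𝒳 ⟨(AlgSp.yon S).obj U, AlgSp.IsAlgSpace.yon_obj U⟩
    (Groth.Agent.Lib.Helper3.isQuasiCompactSp_yon hc)
    (BasedFunctor.comp (AlgSt.toOverCat U) (BasedFunctor.comp x f))
    (Groth.Agent.Lib.Helper27.LocQOver.repByAlgSpWith_equiv_comp _ (AlgSt.toOverCat U)
      (Groth.Agent.Lib.Helper27.PshRep.isEquivOver_toOverCat U) _ hcr)

/-- Quasi-compactness of the second functor of a triangle whose first functor is surjective on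
points and whose composite is quasi-compact. -/
theorem isQuasiCompactMor_of_triangle {𝒳 𝒴 𝒵 : AlgSt.Cat S}
    (h𝒳 : AlgSt.IsAlgStack Scheme.fppfPrecoverage 𝒳)
    (h𝒴 : AlgSt.IsAlgStack Scheme.fppfPrecoverage 𝒴)
    (h𝒵 : AlgSt.IsAlgStack Scheme.fppfPrecoverage 𝒵)
    (f : 𝒳 ⥤ᵇ 𝒴) (p : 𝒳 ⥤ᵇ 𝒵) (q : 𝒴 ⥤ᵇ 𝒵) (e : BasedFunctor.comp f q ≅ p)
    (hf : AlgSt.IsSurjective f) (hp : AlgSt.IsQuasiCompactMor Scheme.fppfPrecoverage p) :
    AlgSt.IsQuasiCompactMor Scheme.fppfPrecoverage q := by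
  intro 𝒲 h𝒲 h𝒲q g
  have h1 : AlgSt.IsQuasiCompact (fp g p) := hp 𝒲 h𝒲 h𝒲q g
  have h2 : AlgSt.IsQuasiCompact (fp g (BasedFunctor.comp f q)) :=
    Groth.Agent.Lib.Helper27.QcStack.isQuasiCompact_of_equiv
      (Groth.Agent.Lib.Helper27.FpBaseChange.isoMapSnd g (BasedFunctor.comp f q) p e.symm)
      (Groth.Agent.Lib.Helper27.FpBaseChange.isEquivOver_isoMapSnd g _ p e.symm) h1
  have h3 : AlgSt.IsQuasiCompact (fp (fpSnd g q) f) :=
    Groth.Agent.Lib.Helper27.QcStack.isQuasiCompact_of_equiv' (pasteR f q g)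
      (isEquivOver_pasteR f q g) h2
  have hfib : FibCat.IsFibGrpd (fp g q).p :=
    Groth.Agent.Lib.Helper27.FpFib.isFibGrpd_fp g q h𝒲.isStack.1 h𝒴.isStack.1 h𝒵.isStack.1
  exact isQuasiCompact_of_isSurjective
    (Groth.Agent.Lib.Helper27.FpFib.isFibGrpd_fp _ f hfib h𝒳.isStack.1 h𝒴.isStack.1)
    (Groth.Agent.Lib.Helper27.AlgStackFp2.isAlgStack_fp' g q _ h𝒲 h𝒴 h𝒵)
    (fpFst (fpSnd g q) f)
    (isSurjective_fpFst h𝒳.isStack.1 h𝒴.isStack.1 hfib f (fpSnd g q) hf) h3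

end Groth.Agent.Lib.Helper27.QcImage
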