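import Groth.Agent.Lib.Helper27.QcStack3
import Groth.Agent.Lib.Helper27.SliceYoneda
import Groth.Agent.Lib.Helper27.AlgStackRep
import Mathlib.AlgebraicGeometry.Morphisms.QuasiSeparated

/-!
# Products of quasi-compact stacks over a quasi-separated base (helper27)
-/

set_option autoImplicit false
set_option backward.isDefEq.respectTransparency false
set_option backward.isDefEq.respectTransparency.types false

universe u

open CategoryTheory CategoryTheory.Limits AlgebraicGeometry Opposite FibCat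
  Groth.Agent.Lib.Helper27.FpKit Groth.Agent.Lib.Helper27.RepWithComp
  Groth.Agent.Lib.Helper27.LocQOver Groth.Agent.Lib.Helper27.FpBaseChange
  Groth.Agent.Lib.Helper27.SliceYoneda Groth.Agent.Lib.Helper27.ReprAux

namespace Groth.Agent.Lib.Helper27.QcProd

variable {S : Scheme.{u}}

/-- The structure morphism to the terminal object of `Over S`. -/
abbrev toTop (U : Over S) : U ⟶ Over.mk (𝟙 S) := Over.homMk U.hom (by simp)

theorem compactSpace_pullback [QuasiSeparatedSpace S] (U V : Over S) (hU : CompactSpace ↥U.left)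
    (hV : CompactSpace ↥V.left) : CompactSpace ↥(pullback (toTop U) (toTop V)).left := by
  let e : (pullback (toTop U) (toTop V)).left ≅ pullback (toTop U).left (toTop V).left :=
    PreservesPullback.iso (Over.forget S) (toTop U) (toTop V)
  have h1 : QuasiCompact (toTop U).left := by
    change QuasiCompact U.hom
    infer_instance
  have h2 : QuasiCompact (pullback.snd (toTop U).left (toTop V).left) := inferInstance
  have h3 : CompactSpace ↥(pullback (toTop U).left (toTop V).left) :=
    QuasiCompact.compactSpace_of_compactSpace (pullback.snd (toTop U).left (toTop V).left)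
  exact (Scheme.homeoOfIso e).symm.compactSpace

theorem eq_toSelf {𝒜 : AlgSt.Cat S} (a : 𝒜 ⥤ᵇ selfOver (Over S)) : a = toSelf 𝒜 :=
  Groth.Agent.Lib.Helper27.DiagCancel.basedFunctor_ext _ _ a.w

section Chart

variable (U V : Over S)

/-- The cospan morphism forgetting the terminal slice. -/
def Dtop : MapData
    (BasedFunctor.comp (overMap (toTop U)) (toSelf (overCat (Over.mk (𝟙 S)))))
    (BasedFunctor.comp (overMap (toTop V)) (toSelf (overCat (Over.mk (𝟙 S)))))
    (overMap (toTop U)) (overMap (toTop V)) (BasedFunctor.id _) (BasedFunctor.id _)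
    (toSelf (overCat (Over.mk (𝟙 S)))) where
  e₁ := fun _ => Iso.refl _
  n₁ := fun _ => (Category.comp_id _).trans (Category.id_comp _).symm
  l₁ := fun _ => Vert.id _
  e₂ := fun _ => Iso.refl _
  n₂ := fun _ => (Category.comp_id _).trans (Category.id_comp _).symm
  l₂ := fun _ => Vert.id _

theorem exists_chart_prod (a : overCat U ⥤ᵇ selfOver (Over S))
    (b : overCat V ⥤ᵇ selfOver (Over S)) :
    ∃ E : overCat (pullback (toTop U) (toTop V)) ⥤ᵇ fp a b, IsEquivOver E := by
  obtain rfl : a = BasedFunctor.comp (overMap (toTop U)) (toSelf (overCat (Over.mk (𝟙 S)))) :=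
    (eq_toSelf a).trans (eq_toSelf _).symm
  obtain rfl : b = BasedFunctor.comp (overMap (toTop V)) (toSelf (overCat (Over.mk (𝟙 S)))) :=
    (eq_toSelf b).trans (eq_toSelf _).symm
  have hfib : FibCat.IsFibGrpd (fp (overMap (toTop U)) (overMap (toTop V))).p :=
    Groth.Agent.Lib.Helper27.FpFib.isFibGrpd_fp _ _ (isFibGrpd_overCat U) (isFibGrpd_overCat V)
      (isFibGrpd_overCat _)
  have h1 := isEquivOver_toOver hfib (isTerm_term (toTop U) (toTop V))
  obtain ⟨E', hE', -, -⟩ := exists_inverse _ h1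
  exact ⟨BasedFunctor.comp E' (fpMap (Dtop U V)),
    isEquivOver_comp _ _ hE'
      (isEquivOver_fpMap (Dtop U V) (isEquivOver_id _) (isEquivOver_id _)
        Groth.Agent.Lib.Helper27.DiagLft.isEquivOver_toSelf_terminal)⟩

end Chart

theorem isQuasiCompact_prod [QuasiSeparatedSpace S] {𝒯 𝒳 : AlgSt.Cat S}
    (h𝒯 : FibCat.IsFibGrpd 𝒯.p)
    (h𝒯q : AlgSt.IsQuasiCompact 𝒯) (h𝒳q : AlgSt.IsQuasiCompact 𝒳)
    (k : 𝒯 ⥤ᵇ selfOver (Over S)) (l : 𝒳 ⥤ᵇ selfOver (Over S)) :
    AlgSt.IsQuasiCompact (fp k l) := by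
  obtain ⟨U, t, hU, ht₁, ht₂⟩ := h𝒯q
  obtain ⟨V, x, hV, hx₁, hx₂⟩ := h𝒳q
  have hUc : CompactSpace ↥U.left := by
    have : IsAffine U.left := hU
    infer_instance
  have hVc : CompactSpace ↥V.left := by
    have : IsAffine V.left := hV
    infer_instance
  have hself := Groth.Agent.Lib.Helper27.ReprDiag.isFibGrpd_selfOver (C := Over S)
  have hU' := isFibGrpd_overCat U
  have hV' := isFibGrpd_overCat V
  let m₁ := mapSnd k l x
  let m₂ := mapFst k (BasedFunctor.comp x l) t
  obtain ⟨E, hE⟩ := exists_chart_prod U V (BasedFunctor.comp t k) (BasedFunctor.comp x l)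
  let W := pullback (toTop U) (toTop V)
  have hQ := Groth.Agent.Lib.Helper27.FpFib.isFibGrpd_fp (BasedFunctor.comp t k)
    (BasedFunctor.comp x l) hU' hV' hself
  have hQ₁ := Groth.Agent.Lib.Helper27.FpFib.isFibGrpd_fp k (BasedFunctor.comp x l) h𝒯 hV' hself
  have hm : ∀ (R : MorphismProperty (AlgSp.Sp S)), CompHyp R → AlgSt.RepByAlgSpWith R t →
      AlgSt.RepByAlgSpWith R x →
      AlgSt.RepByAlgSpWith R (BasedFunctor.comp (AlgSt.toOverCat W)
        (BasedFunctor.comp E (BasedFunctor.comp m₂ m₁))) :=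
    fun R H h1 h2 =>
      repByAlgSpWith_equiv_comp R (AlgSt.toOverCat W)
        (Groth.Agent.Lib.Helper27.PshRep.isEquivOver_toOverCat W) _
        (repByAlgSpWith_equiv_comp R E hE _
          (comp_gen R H hQ hQ₁ m₂ m₁ (repByAlgSpWith_mapFst k (BasedFunctor.comp x l) t R h1)
            (repByAlgSpWith_mapSnd k l x R h2)))
  exact Groth.Agent.Lib.Helper27.QcStack.isQuasiCompact_of_space
    ⟨(AlgSp.yon S).obj W, AlgSp.IsAlgSpace.yon_obj W⟩
    (Groth.Agent.Lib.Helper3.isQuasiCompactSp_yon (compactSpace_pullback U V hUc hVc)) _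
    (hm _ (compHyp_locP Groth.Agent.Lib.Helper3.isEtLocal_smooth) ht₁ hx₁)
    (hm _ Groth.Agent.Lib.Helper27.DiagLft.compHyp_isSurjectiveMor ht₂ hx₂)

end Groth.Agent.Lib.Helper27.QcProd
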