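import Groth.Agent.Lib.Helper27.OpenSub4
import Groth.Agent.Lib.Helper27.QcPoints
import Groth.Agent.Lib.Helper27.QcProd
import Groth.Agent.Lib.Helper27.ImmNoeth2
import Groth.Agent.Lib.Helper27.FpBaseChange
import Groth.Agent.Lib.Helper27.StPointsTop3

/-!
# Quasi-compactness of functors between algebraic stacks tested on quasi-compact open substacks
(helper27)
-/

set_option autoImplicit false
set_option backward.isDefEq.respectTransparency false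
set_option backward.isDefEq.respectTransparency.types false

universe u

open CategoryTheory CategoryTheory.Limits FibCat AlgebraicGeometry Opposite
  Groth.Agent.Lib.Helper27.FpKit Groth.Agent.Lib.Helper27.PointsKit
  Groth.Agent.Lib.Helper27.StPoints Groth.Agent.Lib.Helper27.OpenSub

namespace Groth.Agent.Lib.Helper27.QcOpenCrit

variable {S : Scheme.{u}} {𝒳 𝒴 𝒵 : AlgSt.Cat S}

/-- Every quasi-compact set of points of an algebraic stack is contained in an open set whose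
open substack is quasi-compact. -/
theorem exists_qc_open (h𝒴 : AlgSt.IsAlgStack Scheme.fppfPrecoverage 𝒴)
    (K : Set (AlgSt.Points 𝒴)) (hK : IsCompact K) :
    ∃ W : Set (AlgSt.Points 𝒴), IsOpen W ∧ K ⊆ W ∧
      AlgSt.IsQuasiCompact (AlgSt.fullSub 𝒴 (QW W)) := by
  obtain ⟨Y, y, hy₁, hy₂⟩ := h𝒴.atlas
  have hsurj := ofChart_surjective h𝒴.isStack.1 y hy₂
  let O : Y.left.affineOpens → Set (AlgSt.Points 𝒴) := fun V =>
    AlgSt.Points.ofChart y '' (V.1 : Set ↥Y.left)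
  have hO : ∀ V, IsOpen (O V) := fun V =>
    isOpenMap_ofChart_of_smooth h𝒴.isStack.1 y hy₁ _ V.1.2
  have hcov : K ⊆ ⋃ V, O V := by
    intro p _
    obtain ⟨y₀, rfl⟩ := hsurj p
    obtain ⟨V, hV, hyV, -⟩ := exists_isAffineOpen_mem_and_subset (x := y₀) (U := ⊤) trivial
    exact Set.mem_iUnion.2 ⟨⟨V, hV⟩, y₀, hyV, rfl⟩
  obtain ⟨t, ht⟩ := hK.elim_finite_subcover O hO hcov
  let U₀ : Y.left.Opens := ⨆ V ∈ t, (V.1 : Y.left.Opens)
  have hU₀ : IsCompact (U₀ : Set ↥Y.left) := by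
    have : (U₀ : Set ↥Y.left) = ⋃ V ∈ t, (V.1 : Set ↥Y.left) := by
      simp [U₀]
    rw [this]
    exact t.isCompact_biUnion (fun V _ => V.2.isCompact)
  obtain ⟨W, hWdef⟩ : ∃ W : Set (AlgSt.Points 𝒴),
    W = AlgSt.Points.ofChart y '' (U₀ : Set ↥Y.left) := ⟨_, rfl⟩
  have hWo : IsOpen W := by
    rw [hWdef]
    exact isOpenMap_ofChart_of_smooth h𝒴.isStack.1 y hy₁ _ U₀.2
  have hKW : K ⊆ W := by
    intro p hp
    obtain ⟨V, hV⟩ := Set.mem_iUnion.1 (ht hp)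
    obtain ⟨hVt, hpV⟩ := Set.mem_iUnion.1 hV
    obtain ⟨v, hvV, rfl⟩ := hpV
    have hvU : v ∈ U₀ := by
      simp only [U₀, TopologicalSpace.Opens.mem_iSup]
      exact ⟨V, hVt, hvV⟩
    rw [hWdef]
    exact ⟨v, hvU, rfl⟩
  refine ⟨W, hWo, hKW, ?_⟩
  let Y' : Over S := Over.mk (U₀.ι ≫ Y.hom)
  let j : Y' ⟶ Y := Over.homMk U₀.ι rfl
  have hY'c : CompactSpace ↥Y'.left := isCompact_iff_compactSpace.mp hU₀
  obtain ⟨a, hadef⟩ : ∃ a : overCat Y' ⥤ᵇ 𝒴, a = BasedFunctor.comp (AlgSt.overMap j) y :=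
    ⟨_, rfl⟩
  have hfY' := Groth.Agent.Lib.Helper27.ReprAux.isFibGrpd_overCat Y'
  have hQ := isOpenSubstack_QW h𝒴 W hWo
  have hra : Set.range (AlgSt.Points.map a) ⊆ W := by
    rintro _ ⟨q, rfl⟩
    obtain ⟨t', rfl⟩ := (ptOf_bijective Y').2 q
    rw [← ofChart_eq, hadef, ofChart_overMap, hWdef]
    exact ⟨j.left t', t'.2, rfl⟩
  have haQ : ∀ b, QW W (a.toFunctor.obj b) := fun b =>
    QW_mono hra _ (QW_range_obj hfY' h𝒴.isStack.1 a b)
  have hinj := map_subIncl_injective h𝒴.isStack.1 (QW W) (QW_pull W)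
  have hs : AlgSt.IsSurjective (liftSub (QW W) a haQ) := by
    intro p
    have hp : AlgSt.Points.map (AlgSt.subIncl 𝒴 (QW W)) p ∈ W :=
      (range_subIncl_QW W).subset ⟨p, rfl⟩
    have hWsub : W ⊆ AlgSt.Points.ofChart y '' (U₀ : Set ↥Y.left) := hWdef.subset
    obtain ⟨v, hvU, hv⟩ := hWsub hp
    refine ⟨ptOf Y' ⟨v, hvU⟩, hinj ?_⟩
    rw [← map_comp, liftSub_comp, ← ofChart_eq, hadef, ofChart_overMap, ← hv]
    rfl
  exact Groth.Agent.Lib.Helper27.QcImage.isQuasiCompact_of_isSurjective hfY' hQ.2.1 _ hs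
    (Groth.Agent.Lib.Helper27.QcImage.isQuasiCompact_overCat' Y' hY'c)

/-- A 2-fibre product of quasi-compact algebraic stacks over an algebraic stack with
quasi-compact diagonal is quasi-compact. -/
theorem isQuasiCompact_fp_of_diag [QuasiSeparatedSpace S]
    (h𝒳 : AlgSt.IsAlgStack Scheme.fppfPrecoverage 𝒳)
    (h𝒵 : AlgSt.IsAlgStack Scheme.fppfPrecoverage 𝒵)
    (hd : AlgSt.RepByAlgSpWith AlgSp.IsQuasiCompactMor (FibCat.diag (FibCat.toSelf 𝒴)))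
    (a : 𝒳 ⥤ᵇ 𝒴) (b : 𝒵 ⥤ᵇ 𝒴) (h𝒳q : AlgSt.IsQuasiCompact 𝒳) (h𝒵q : AlgSt.IsQuasiCompact 𝒵) :
    AlgSt.IsQuasiCompact (FibCat.fp a b) := by
  have hself := Groth.Agent.Lib.Helper27.AlgStackRep.isAlgStack_selfOver (S := S)
  let t := FibCat.toSelf 𝒴
  let c := Groth.Agent.Lib.Helper27.CompareDiag.cmp a b t
    (Groth.Agent.Lib.Helper27.AlgStackFp.eT a b t)
  have hc : AlgSt.RepByAlgSpWith AlgSp.IsQuasiCompactMor c :=
    Groth.Agent.Lib.Helper27.CompareDiag.repByAlgSpWith_cmp a b t _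
      (Groth.Agent.Lib.Helper27.AlgStackFp.heT a b t) _ hd
  have hP : AlgSt.IsAlgStack Scheme.fppfPrecoverage
      (FibCat.fp (BasedFunctor.comp a t) (BasedFunctor.comp b t)) :=
    Groth.Agent.Lib.Helper27.AlgStackFp.isAlgStack_fp _ _ hself.isStack hself.diag h𝒳 h𝒵
  have hPq : AlgSt.IsQuasiCompact (FibCat.fp (BasedFunctor.comp a t) (BasedFunctor.comp b t)) :=
    Groth.Agent.Lib.Helper27.QcProd.isQuasiCompact_prod h𝒳.isStack.1 h𝒳q h𝒵q _ _
  exact Groth.Agent.Lib.Helper27.ImmNoeth.isQuasiCompact_of_isQuasiCompactMor hP hPq c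
    (Groth.Agent.Lib.Helper27.QcStack.isQuasiCompactMor_of_repByAlgSpWith c hc)

section Surj

variable (Q : 𝒴.obj → Prop) (hQ : ∀ ⦃a b : 𝒴.obj⦄ (_ : a ⟶ b), Q b → Q a)
  (f : 𝒳 ⥤ᵇ 𝒴) (g : 𝒵 ⥤ᵇ 𝒴) (hg : ∀ z, Q (g.toFunctor.obj z))

include hQ hg in
/-- If `g` takes its values in a full subcategory stable under pullback, then the base change of
`f` along `g` receives a functor, surjective on points, from the base change along `g` of the
restriction of `f` to the full subcategory. -/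
theorem isSurjective_mapSnd :
    AlgSt.IsSurjective (Groth.Agent.Lib.Helper27.FpBaseChange.mapSnd g f
      (fpSnd (AlgSt.subIncl 𝒴 Q) f)) := by
  intro x
  obtain ⟨p, rfl⟩ := AlgSt.Points.mk_surjective x
  have hQf : Q (f.toFunctor.obj p.obj.obj.snd) := hQ p.obj.obj.iso.inv (hg p.obj.obj.fst)
  let w : (fp (AlgSt.subIncl 𝒴 Q) f).obj :=
    mkObj (F := AlgSt.subIncl 𝒴 Q) (G := f) ⟨f.toFunctor.obj p.obj.obj.snd, hQf⟩ p.obj.obj.snd
      (Iso.refl _) (Vert.id _)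
  let o : (fp g (BasedFunctor.comp (fpSnd (AlgSt.subIncl 𝒴 Q) f) f)).obj :=
    mkObj (F := g) (G := BasedFunctor.comp (fpSnd (AlgSt.subIncl 𝒴 Q) f) f) p.obj.obj.fst w
      p.obj.obj.iso (vert_iso p.obj)
  let p' : AlgSt.FPt (fp g (BasedFunctor.comp (fpSnd (AlgSt.subIncl 𝒴 Q) f) f)) :=
    { K := p.K, str := p.str, obj := o, lies := p.lies }
  refine ⟨AlgSt.Points.mk p', ?_⟩
  rw [AlgSt.Points.map_mk]
  have hw : g.toFunctor.map (Iso.refl p.obj.obj.fst).hom ≫ p.obj.obj.iso.hom =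
      ((Groth.Agent.Lib.Helper27.FpBaseChange.mapSnd g f
        (fpSnd (AlgSt.subIncl 𝒴 Q) f)).toFunctor.obj o).obj.iso.hom ≫
        f.toFunctor.map (Iso.refl p.obj.obj.snd).hom := by
    rw [Groth.Agent.Lib.Helper27.FpBaseChange.mapSnd_iso_hom]
    change g.toFunctor.map (𝟙 _) ≫ p.obj.obj.iso.hom = p.obj.obj.iso.hom ≫ f.toFunctor.map (𝟙 _)
    rw [CategoryTheory.Functor.map_id, CategoryTheory.Functor.map_id, Category.id_comp,
      Category.comp_id]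
  exact AlgSt.Points.sound (rel_of_hom (p := p'.map _) (q := p)
    (mkIso (t := (Groth.Agent.Lib.Helper27.FpBaseChange.mapSnd g f
        (fpSnd (AlgSt.subIncl 𝒴 Q) f)).toFunctor.obj o) (t' := p.obj)
      (Iso.refl p.obj.obj.fst) (Iso.refl p.obj.obj.snd) hw).hom)

end Surj

/-- A functor to an algebraic stack with quasi-compact diagonal is quasi-compact as soon as its
base changes to quasi-compact open substacks are quasi-compact. -/
theorem isQuasiCompactMor_of_open [QuasiSeparatedSpace S]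
    (h𝒳 : AlgSt.IsAlgStack Scheme.fppfPrecoverage 𝒳)
    (h𝒴 : AlgSt.IsAlgStack Scheme.fppfPrecoverage 𝒴)
    (hd : AlgSt.RepByAlgSpWith AlgSp.IsQuasiCompactMor (FibCat.diag (FibCat.toSelf 𝒴)))
    (f : 𝒳 ⥤ᵇ 𝒴)
    (H : ∀ (𝒴' : AlgSt.Cat S), AlgSt.IsAlgStack Scheme.fppfPrecoverage 𝒴' →
      AlgSt.IsQuasiCompact 𝒴' → ∀ (j : 𝒴' ⥤ᵇ 𝒴), AlgSt.IsOpenImm j →
        AlgSt.IsQuasiCompact (FibCat.fp j f)) :
    AlgSt.IsQuasiCompactMor Scheme.fppfPrecoverage f := by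
  intro 𝒵 h𝒵 h𝒵q g
  have hc : CompactSpace (AlgSt.Points 𝒵) := (isQuasiCompact_iff_compactSpace h𝒵).1 h𝒵q
  have hK : IsCompact (Set.range (AlgSt.Points.map g)) := isCompact_range (continuous_map h𝒴 g)
  obtain ⟨W, hWo, hKW, hWq⟩ := exists_qc_open h𝒴 _ hK
  have hQ := isOpenSubstack_QW h𝒴 W hWo
  have h𝒫q := H _ hQ.2.1 hWq (AlgSt.subIncl 𝒴 (QW W)) hQ.2.2
  have h𝒫 : AlgSt.IsAlgStack Scheme.fppfPrecoverage (fp (AlgSt.subIncl 𝒴 (QW W)) f) :=
    Groth.Agent.Lib.Helper27.AlgStackFp.isAlgStack_fp _ _ h𝒴.isStack h𝒴.diag hQ.2.1 h𝒳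
  have h1 : AlgSt.IsQuasiCompact
      (fp g (BasedFunctor.comp (fpSnd (AlgSt.subIncl 𝒴 (QW W)) f) f)) :=
    isQuasiCompact_fp_of_diag h𝒵 h𝒫 hd g _ h𝒵q h𝒫q
  have hg : ∀ z, QW W (g.toFunctor.obj z) := fun z =>
    QW_mono hKW _ (QW_range_obj h𝒵.isStack.1 h𝒴.isStack.1 g z)
  exact Groth.Agent.Lib.Helper27.QcImage.isQuasiCompact_of_isSurjective
    (Groth.Agent.Lib.Helper27.FpFib.isFibGrpd_fp _ _ h𝒵.isStack.1 h𝒫.isStack.1 h𝒴.isStack.1)
    (Groth.Agent.Lib.Helper27.AlgStackFp.isAlgStack_fp _ _ h𝒴.isStack h𝒴.diag h𝒵 h𝒳)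
    _ (isSurjective_mapSnd (QW W) (QW_pull W) f g hg) h1

end Groth.Agent.Lib.Helper27.QcOpenCrit
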