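import Groth.Agent.Lib.Helper27.UCVal9
import Groth.Agent.Lib.Helper27.QcOpenCrit
import Mathlib.AlgebraicGeometry.Fiber

/-!
# Generalizations lift along smooth affine charts of quasi-separated locally Noetherian
# algebraic stacks (helper27)
-/

set_option autoImplicit false
set_option backward.isDefEq.respectTransparency false
set_option backward.isDefEq.respectTransparency.types false

universe u

open CategoryTheory CategoryTheory.Limits FibCat AlgebraicGeometry Opposite Topology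
  Groth.Agent.Lib.Helper27.FpKit Groth.Agent.Lib.Helper27.PointsKit
  Groth.Agent.Lib.Helper27.RepWithComp Groth.Agent.Lib.Helper27.StPoints
  Groth.Agent.Lib.Helper27.RepCancel Groth.Agent.Lib.Helper27.LocQChart

namespace Groth.Agent.Lib.Helper27.GenLift

variable {S : Scheme.{u}} {𝒴 : AlgSt.Cat S}

local infixr:80 " ⊚ " => BasedFunctor.comp

/-- Generalizations of points lift along a smooth affine chart of a locally Noetherian stack with
quasi-compact diagonal over a quasi-separated base. -/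
theorem exists_generalization_lift [QuasiSeparatedSpace ↥S] (h𝒴 : FibCat.IsFibGrpd 𝒴.p)
    (hd : AlgSt.RepByAlgSpWith AlgSp.IsQuasiCompactMor (FibCat.diag (FibCat.toSelf 𝒴)))
    (hn𝒴 : AlgSt.SmoothLocally (fun T => IsLocallyNoetherian T) 𝒴)
    {V : Over S} (hV : IsAffine V.left) (v : overCat V ⥤ᵇ 𝒴)
    (hv : AlgSt.RepByAlgSpWith (AlgSp.LocP @Smooth) v) (v₀ : ↥V.left) (y' : AlgSt.Points 𝒴)
    (hsp : y' ⤳ AlgSt.Points.ofChart v v₀) :
    ∃ v₁ : ↥V.left, v₁ ⤳ v₀ ∧ AlgSt.Points.ofChart v v₁ = y' := by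
  have hfO : ∀ Z : Over S, FibCat.IsFibGrpd (overCat Z).p :=
    fun Z => Groth.Agent.Lib.Helper27.ReprAux.isFibGrpd_overCat Z
  have hsmooth := compHyp_locP (S := S) Groth.Agent.Lib.Helper3.isEtLocal_smooth
  have hVst := Groth.Agent.Lib.Helper27.QcStack.isAlgStack_overCat V
  have hVq := Groth.Agent.Lib.Helper27.QcStack.isQuasiCompact_overCat V hV
  obtain ⟨R', r, hR'a, hr₁, hr₂⟩ :=
    Groth.Agent.Lib.Helper27.QcOpenCrit.isQuasiCompact_fp_of_diag hVst hVst hd v v hVq hVq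
  have hfW : FibCat.IsFibGrpd (fp v v).p :=
    Groth.Agent.Lib.Helper27.FpFib.isFibGrpd_fp v v (hfO V) (hfO V) h𝒴
  obtain ⟨s, hs⟩ : ∃ s : R' ⟶ V, s = homOf (r ⊚ fpFst v v) := ⟨_, rfl⟩
  obtain ⟨t, ht⟩ : ∃ t : R' ⟶ V, t = homOf (r ⊚ fpSnd v v) := ⟨_, rfl⟩
  have θs : r ⊚ fpFst v v ≅ AlgSt.overMap s := by rw [hs]; exact isoOverMap _
  have θt : r ⊚ fpSnd v v ≅ AlgSt.overMap t := by rw [ht]; exact isoOverMap _
  have hps : ∀ q, AlgSt.Points.map (fpFst v v) (AlgSt.Points.ofChart r q) = ptOf V (s.left q) := by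
    intro q
    rw [ofChart_eq, ← map_comp, map_iso θs, map_overMap_ptOf]
  have hpt : ∀ q, AlgSt.Points.map (fpSnd v v) (AlgSt.Points.ofChart r q) = ptOf V (t.left q) := by
    intro q
    rw [ofChart_eq, ← map_comp, map_iso θt, map_overMap_ptOf]
  have hπ : ∀ q, AlgSt.Points.ofChart v (s.left q) = AlgSt.Points.ofChart v (t.left q) := by
    intro q
    rw [ofChart_eq, ofChart_eq, ← hps, ← hpt, ← map_comp, ← map_comp]
    exact map_iso (fpIso v v) _
  have hrs := ofChart_surjective hfW r hr₂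
  -- `R'` is Noetherian
  have hsm : AlgSt.RepByAlgSpWith (AlgSp.LocP @Smooth) (r ⊚ fpFst v v ⊚ v) :=
    comp_gen _ hsmooth (hfO R') hfW r (fpFst v v ⊚ v) hr₁
      (comp_gen _ hsmooth hfW (hfO V) (fpFst v v) v
        (Groth.Agent.Lib.Helper27.RepWithGeneral.repByAlgSpWith_fpFst _ v v hv) hv)
  haveI : IsLocallyNoetherian R'.left := hn𝒴 R' _ hsm
  haveI : IsAffine R'.left := hR'a
  haveI : IsNoetherian R'.left := {}
  -- a point over `y'`
  have hopen := isOpenMap_ofChart_of_smooth h𝒴 v hv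
  obtain ⟨v₂, hv₂⟩ : ∃ v₂ : ↥V.left, AlgSt.Points.ofChart v v₂ = y' := by
    have h1 : IsOpen (Set.range (AlgSt.Points.ofChart v)) := hopen.isOpen_range
    exact hsp.mem_open h1 ⟨v₀, rfl⟩
  -- the fibre of `t` over `v₂`
  let Fib : Scheme.{u} := t.left.fiber v₂
  let ι : Fib ⟶ R'.left := t.left.fiberι v₂
  haveI : TopologicalSpace.NoetherianSpace ↥Fib := (ι.isEmbedding.isInducing).noetherianSpace
  let h : ↥Fib → ↥V.left := fun φ => s.left (ι φ)
  have hcont : Continuous h := s.left.continuous.comp ι.continuous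
  have hcl : v₀ ∈ closure (Set.range h) := by
    rw [mem_closure_iff]
    intro O hO hv₀O
    have h1 : IsOpen (AlgSt.Points.ofChart v '' O) := hopen O hO
    obtain ⟨o, hoO, ho⟩ := hsp.mem_open h1 ⟨v₀, hv₀O, rfl⟩
    -- the pair `(o, v₂)` lifts to `R'`
    obtain ⟨w, hw₁, hw₂⟩ := exists_points_fp (hfO V) h𝒴 (hfO V) v v (ptOf V o) (ptOf V v₂)
      (by rw [← ofChart_eq, ← ofChart_eq, ho, hv₂])
    obtain ⟨q, rfl⟩ := hrs w
    rw [hps] at hw₁
    rw [hpt] at hw₂
    have hq₁ : s.left q = o := (ptOf_bijective V).1 hw₁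
    have hq₂ : t.left q = v₂ := (ptOf_bijective V).1 hw₂
    have hq₃ : q ∈ Set.range ι := by
      rw [Scheme.Hom.range_fiberι]
      exact hq₂
    obtain ⟨φ, rfl⟩ := hq₃
    exact ⟨o, hoO, φ, hq₁⟩
  obtain ⟨ξ, hξ⟩ :=
    Groth.Agent.Lib.Helper3.DvrCl.exists_specializes_of_mem_closure_range h hcont v₀ hcl
  refine ⟨h ξ, hξ, ?_⟩
  rw [← hv₂]
  change AlgSt.Points.ofChart v (s.left (ι ξ)) = _
  rw [hπ]
  congr 1
  have h2 : ι ξ ∈ t.left ⁻¹' {v₂} := by
    rw [← Scheme.Hom.range_fiberι]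
    exact ⟨ξ, rfl⟩
  exact h2

end Groth.Agent.Lib.Helper27.GenLift
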