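import Groth.Agent.Lib.Helper27.GenLift1

/-!
# Discrete valuation rings realizing a specialization with prescribed generic point (helper27)
-/

set_option autoImplicit false
set_option backward.isDefEq.respectTransparency false
set_option backward.isDefEq.respectTransparency.types false

universe u

open CategoryTheory CategoryTheory.Limits AlgebraicGeometry

namespace Groth.Agent.Lib.Helper27.GenLift

/-- For a morphism locally of finite type to a locally Noetherian scheme, a specialization of the
image of a point is realized by a discrete valuation ring whose generic point maps to the given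
point. -/
theorem exists_dvr_of_specializes {U V : Scheme.{u}} [IsLocallyNoetherian V] (h : U ⟶ V)
    [LocallyOfFiniteType h] (ξ : U) (v : V) (hξ : h.base ξ ⤳ v) :
    ∃ (A : Type u) (_ : CommRing A) (_ : IsDomain A) (_ : IsDiscreteValuationRing A)
      (hA : Spec (CommRingCat.of A) ⟶ V) (xK : Spec (CommRingCat.of (FractionRing A)) ⟶ U),
      xK ≫ h = Spec.map (CommRingCat.ofHom (algebraMap A (FractionRing A))) ≫ hA ∧
      hA.base (IsLocalRing.closedPoint A) = v ∧ ∀ p, xK.base p = ξ := by
  by_cases hne : v = h.base ξ
  · -- power series over the residue field
    let k := U.residueField ξ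
    let A := PowerSeries k
    let c : CommRingCat.of k ⟶ CommRingCat.of A := CommRingCat.ofHom (PowerSeries.C (R := k))
    refine ⟨A, inferInstance, inferInstance, inferInstance,
      Spec.map c ≫ U.fromSpecResidueField ξ ≫ h,
      Spec.map (CommRingCat.ofHom (algebraMap A (FractionRing A))) ≫ Spec.map c ≫
        U.fromSpecResidueField ξ, ?_, ?_, ?_⟩
    · simp only [Category.assoc]
    · rw [hne]
      simp only [Scheme.Hom.comp_base, TopCat.hom_comp, ContinuousMap.comp_apply]
      congr 1
      exact U.fromSpecResidueField_apply ξ _
    · intro p
      simp only [Scheme.Hom.comp_base, TopCat.hom_comp, ContinuousMap.comp_apply]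
      exact U.fromSpecResidueField_apply ξ _
  · obtain ⟨A, hA, hdvr, hcl, hcomm⟩ := Groth.Agent.S4450.result h ξ v hξ hne
    refine ⟨A, inferInstance, inferInstance, hdvr, hA,
      Spec.map (CommRingCat.ofHom
        ((FractionRing.algEquiv A (U.residueField ξ)).symm : U.residueField ξ →+* FractionRing A)) ≫
        U.fromSpecResidueField ξ, ?_, hcl, ?_⟩
    · rw [Category.assoc, ← hcomm, ← Category.assoc, ← Spec.map_comp]
      congr 2
      ext a
      exact ((FractionRing.algEquiv A (U.residueField ξ)).symm.commutes a)
    · intro p
      simp only [Scheme.Hom.comp_base, TopCat.hom_comp, ContinuousMap.comp_apply]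
      exact U.fromSpecResidueField_apply ξ _

end Groth.Agent.Lib.Helper27.GenLift
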