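import Groth.Agent.Lib.Helper27.UCVal8

/-!
# The Noetherian step: the valuative lifting property gives closedness over smooth affine
# charts (helper27)
-/

set_option autoImplicit false
set_option backward.isDefEq.respectTransparency false
set_option backward.isDefEq.respectTransparency.types false

universe u

open CategoryTheory CategoryTheory.Limits FibCat AlgebraicGeometry Opposite Topology
  Groth.Agent.Lib.Helper27.FpKit Groth.Agent.Lib.Helper27.PointsKit
  Groth.Agent.Lib.Helper27.RepWithComp Groth.Agent.Lib.Helper27.StPoints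
  Groth.Agent.Lib.Helper27.RepCancel Groth.Agent.Lib.Helper27.LocQChart

namespace Groth.Agent.Lib.Helper27.UCVal

variable {S : Scheme.{u}} {K : Precoverage Scheme.{u}} {𝒳 𝒴 : AlgSt.Cat S}

local infixr:80 " ⊚ " => BasedFunctor.comp

/-- The valuative lifting hypothesis (existence after extension, for discrete valuation
rings). -/
def HVal (f : 𝒳 ⥤ᵇ 𝒴) : Prop :=
  ∀ (R : Type u) [CommRing R] [IsDomain R] [IsDiscreteValuationRing R]
        (sR : Spec (CommRingCat.of R) ⟶ S)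
        (a : FibCat.overCat (Over.mk (Spec.map (CommRingCat.ofHom (algebraMap R (FractionRing R))) ≫ sR)) ⥤ᵇ 𝒳)
        (b : FibCat.overCat (Over.mk sR) ⥤ᵇ 𝒴)
        (α : BasedFunctor.comp a f ≅
          BasedFunctor.comp (AlgSt.overMap (Over.homMk (Spec.map (CommRingCat.ofHom (algebraMap R (FractionRing R)))) rfl :
            Over.mk (Spec.map (CommRingCat.ofHom (algebraMap R (FractionRing R))) ≫ sR) ⟶ Over.mk sR)) b),
        ∃ (R' : Type u) (_ : CommRing R') (_ : IsDomain R') (_ : IsDiscreteValuationRing R') (φ : R →+* R')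
          (_ : Function.Injective φ) (_ : IsLocalHom φ)
          (gψ : (Over.mk (Spec.map (CommRingCat.ofHom (algebraMap R' (FractionRing R'))) ≫
                  Spec.map (CommRingCat.ofHom φ) ≫ sR) : Over S) ⟶
                Over.mk (Spec.map (CommRingCat.ofHom (algebraMap R (FractionRing R))) ≫ sR))
          (c : FibCat.overCat (Over.mk (Spec.map (CommRingCat.ofHom φ) ≫ sR)) ⥤ᵇ FibCat.fp f b),
          gψ ≫ (Over.homMk (Spec.map (CommRingCat.ofHom (algebraMap R (FractionRing R)))) rfl :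
              Over.mk (Spec.map (CommRingCat.ofHom (algebraMap R (FractionRing R))) ≫ sR) ⟶ Over.mk sR) =
            (Over.homMk (Spec.map (CommRingCat.ofHom (algebraMap R' (FractionRing R')))) rfl :
                Over.mk (Spec.map (CommRingCat.ofHom (algebraMap R' (FractionRing R'))) ≫
                  Spec.map (CommRingCat.ofHom φ) ≫ sR) ⟶ Over.mk (Spec.map (CommRingCat.ofHom φ) ≫ sR)) ≫
              (Over.homMk (Spec.map (CommRingCat.ofHom φ)) rfl :
                Over.mk (Spec.map (CommRingCat.ofHom φ) ≫ sR) ⟶ Over.mk sR) ∧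
          Nonempty (BasedFunctor.comp c (FibCat.fpSnd f b) ≅
            AlgSt.overMap (Over.homMk (Spec.map (CommRingCat.ofHom φ)) rfl :
              Over.mk (Spec.map (CommRingCat.ofHom φ) ≫ sR) ⟶ Over.mk sR)) ∧
          Nonempty (BasedFunctor.comp
              (AlgSt.overMap (Over.homMk (Spec.map (CommRingCat.ofHom (algebraMap R' (FractionRing R')))) rfl :
                Over.mk (Spec.map (CommRingCat.ofHom (algebraMap R' (FractionRing R'))) ≫
                  Spec.map (CommRingCat.ofHom φ) ≫ sR) ⟶ Over.mk (Spec.map (CommRingCat.ofHom φ) ≫ sR))) c ≅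
            BasedFunctor.comp (AlgSt.overMap gψ)
              (FibCat.fpLift a
                (AlgSt.overMap (Over.homMk (Spec.map (CommRingCat.ofHom (algebraMap R (FractionRing R)))) rfl :
                  Over.mk (Spec.map (CommRingCat.ofHom (algebraMap R (FractionRing R))) ≫ sR) ⟶ Over.mk sR)) α))

/-- The base change of `f` to an affine smooth chart of a locally Noetherian stack is closed on
points, if `f` is quasi-compact, locally of finite type and has the valuative lifting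
property. -/
theorem isClosedMap_of_hval (hK : ∀ Z : Over S, AlgSt.IsAlgStack K (overCat Z))
    (h𝒳 : AlgSt.IsAlgStack K 𝒳) (h𝒴 : AlgSt.IsAlgStack K 𝒴)
    (hn𝒴 : AlgSt.SmoothLocally (fun T => IsLocallyNoetherian T) 𝒴) (f : 𝒳 ⥤ᵇ 𝒴)
    (hqc : AlgSt.IsQuasiCompactMor K f)
    (hft : AlgSt.LocQ (AlgSp.LocP @LocallyOfFiniteType) f) (hval : HVal f)
    (T : Over S) (hT : IsAffine T.left) (t : overCat T ⥤ᵇ 𝒴)
    (ht : AlgSt.RepByAlgSpWith (AlgSp.LocP @Smooth) t) :
    IsClosedMap (AlgSt.Points.map (fpFst t f)) := by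
  have hTn : IsLocallyNoetherian T.left := hn𝒴 T t ht
  have hW : AlgSt.IsAlgStack K (fp t f) :=
    Groth.Agent.Lib.Helper27.AlgStackFp2.isAlgStack_fp' t f K (hK T) h𝒳 h𝒴
  obtain ⟨U', x', hU'a, hx'₁, hx'₂⟩ := hqc (overCat T) (hK T)
    (Groth.Agent.Lib.Helper27.QcStack.isQuasiCompact_overCat T hT) t
  obtain ⟨g', hg'⟩ : ∃ g' : U' ⟶ T, g' = homOf (x' ⊚ fpFst t f) := ⟨_, rfl⟩
  have θ : x' ⊚ fpFst t f ≅ AlgSt.overMap g' := by rw [hg']; exact isoOverMap _
  have hlft : LocallyOfFiniteType g'.left := by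
    rw [hg']
    exact lft_chart h𝒳.isStack.1 h𝒴.isStack.1 f hft t x' hx'₁ hx'₂
  have hx's := ofChart_surjective hW.isStack.1 x' hx'₂
  have hpt : ∀ u, AlgSt.Points.map (fpFst t f) (AlgSt.Points.ofChart x' u) =
      ptOf T (g'.left u) := by
    intro u
    rw [ofChart_eq, ← map_comp, map_iso θ, map_overMap_ptOf]
  intro Z hZ
  have hZ' : IsClosed (AlgSt.Points.ofChart x' ⁻¹' Z) :=
    hZ.preimage (continuous_ofChart_K hW x')
  suffices key : IsClosed (g'.left '' (AlgSt.Points.ofChart x' ⁻¹' Z)) by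
    have h1 : AlgSt.Points.map (fpFst t f) '' Z =
        ptOf T '' (g'.left '' (AlgSt.Points.ofChart x' ⁻¹' Z)) := by
      ext y
      constructor
      · rintro ⟨z, hz, rfl⟩
        obtain ⟨u, rfl⟩ := hx's z
        exact ⟨g'.left u, ⟨u, hz, rfl⟩, (hpt u).symm⟩
      · rintro ⟨_, ⟨u, hu, rfl⟩, rfl⟩
        exact ⟨AlgSt.Points.ofChart x' u, hu, hpt u⟩
    rw [h1]
    exact (isHomeomorph_ptOf T).isClosedMap _ key
  apply isClosed_of_closure_subset
  intro y hy
  -- the reduced closed subscheme on the preimage of `Z`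
  obtain ⟨Zs, i, hicl, hri⟩ : ∃ (Zs : Scheme.{u}) (i : Zs ⟶ U'.left), IsClosedImmersion i ∧
      Set.range i = AlgSt.Points.ofChart x' ⁻¹' Z := by
    let Zc : TopologicalSpace.Closeds ↥U'.left := ⟨AlgSt.Points.ofChart x' ⁻¹' Z, hZ'⟩
    refine ⟨_, (Scheme.IdealSheafData.vanishingIdeal Zc).subschemeι, inferInstance, ?_⟩
    rw [Scheme.IdealSheafData.range_subschemeι, Scheme.IdealSheafData.coe_support_vanishingIdeal]
    rfl
  haveI : IsAffine U'.left := hU'a
  haveI : CompactSpace ↥Zs := QuasiCompact.compactSpace_of_compactSpace i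
  haveI : LocallyOfFiniteType (i ≫ g'.left) := inferInstance
  have hy' : y ∈ closure (Set.range (i ≫ g'.left).base) := by
    have h2 : Set.range (i ≫ g'.left).base = g'.left '' (AlgSt.Points.ofChart x' ⁻¹' Z) := by
      rw [← hri]
      ext v
      constructor
      · rintro ⟨z, rfl⟩
        exact ⟨i z, ⟨z, rfl⟩, rfl⟩
      · rintro ⟨_, ⟨z, rfl⟩, rfl⟩
        exact ⟨z, rfl⟩
    rw [h2]
    exact hy
  obtain ⟨A, iA1, iA2, hdvr, hA, xK, hcomm, hcl⟩ :=
    Groth.Agent.Lib.Helper3.DvrCl.exists_dvr_of_mem_closure_range (i ≫ g'.left) y hy'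
  -- the data over the valuation ring
  obtain ⟨sA, hsA⟩ : ∃ sA : Spec (CommRingCat.of A) ⟶ S, sA = hA ≫ T.hom := ⟨_, rfl⟩
  let ρ : Over.mk sA ⟶ T := Over.homMk hA hsA.symm
  let mK : Spec (CommRingCat.of (FractionRing A)) ⟶ Spec (CommRingCat.of A) :=
    Spec.map (CommRingCat.ofHom (algebraMap A (FractionRing A)))
  let m : Over.mk (mK ≫ sA) ⟶ Over.mk sA := Over.homMk mK rfl
  have hkw : (xK ≫ i) ≫ U'.hom = mK ≫ sA := by
    rw [← Over.w g', hsA]
    simp only [Category.assoc] at hcomm ⊢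
    rw [reassoc_of% hcomm]
  let k : Over.mk (mK ≫ sA) ⟶ U' := Over.homMk (xK ≫ i) hkw
  have hkg : k ≫ g' = m ≫ ρ := by
    apply Over.OverMorphism.ext
    change (xK ≫ i) ≫ g'.left = mK ≫ hA
    rw [Category.assoc]
    exact hcomm
  have hkZ : ∀ p, AlgSt.Points.ofChart x' (k.left p) ∈ Z := by
    intro p
    have h3 : i (xK p) ∈ Set.range i := ⟨_, rfl⟩
    rw [hri] at h3
    exact h3
  let ψ : overCat (Over.mk (mK ≫ sA)) ⥤ᵇ fp t f := AlgSt.overMap k ⊚ x'
  have ε : ψ ⊚ fpFst t f ≅ AlgSt.overMap m ⊚ AlgSt.overMap ρ :=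
    whiskerLeftIso (AlgSt.overMap k) θ ≪≫ Groth.Agent.Lib.Helper27.ValWit.overMapComp k g' ≪≫
      eqToIso (by rw [hkg]) ≪≫ (Groth.Agent.Lib.Helper27.ValWit.overMapComp m ρ).symm
  let a_st : overCat (Over.mk (mK ≫ sA)) ⥤ᵇ 𝒳 := ψ ⊚ fpSnd t f
  let b_st : overCat (Over.mk sA) ⥤ᵇ 𝒴 := AlgSt.overMap ρ ⊚ t
  let α_st : a_st ⊚ f ≅ AlgSt.overMap m ⊚ b_st :=
    (whiskerLeftIso ψ (fpIso t f)).symm ≪≫ whiskerRightIso ε t
  obtain ⟨R', iR1, iR2, iR3, φ, hφinj, hφloc, gψ, c, hsq, ⟨h2⟩, ⟨h3⟩⟩ :=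
    hval A sA a_st b_st α_st
  let φO : Over.mk (Spec.map (CommRingCat.ofHom φ) ≫ sA) ⟶ Over.mk sA :=
    Over.homMk (Spec.map (CommRingCat.ofHom φ)) rfl
  let m' : (Over.mk (Spec.map (CommRingCat.ofHom (algebraMap R' (FractionRing R'))) ≫
      Spec.map (CommRingCat.ofHom φ) ≫ sA) : Over S) ⟶
      Over.mk (Spec.map (CommRingCat.ofHom φ) ≫ sA) :=
    Over.homMk (Spec.map (CommRingCat.ofHom (algebraMap R' (FractionRing R')))) rfl
  let N : fp f b_st ⥤ᵇ fp t f :=
    fpLift (fpSnd f b_st ⊚ AlgSt.overMap ρ) (fpFst f b_st) (fpIso f b_st).symm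
  let c' : overCat (Over.mk (Spec.map (CommRingCat.ofHom φ) ≫ sA)) ⥤ᵇ fp t f := c ⊚ N
  have hcont : Continuous (AlgSt.Points.ofChart c') := continuous_ofChart_K hW c'
  -- Claim 1: the image in `T`
  have hcl1 : ∀ s, AlgSt.Points.map (fpFst t f) (AlgSt.Points.ofChart c' s) =
      ptOf T (ρ.left (φO.left s)) := by
    intro s
    rw [ofChart_eq, ← map_comp]
    have e1 : AlgSt.Points.map (c' ⊚ fpFst t f) (ptOf _ s) =
        AlgSt.Points.map ((c ⊚ fpSnd f b_st) ⊚ AlgSt.overMap ρ) (ptOf _ s) :=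
      map_congr _ _ (fun a => ⟨𝟙 _⟩) _
    rw [e1, map_iso (whiskerRightIso h2 (AlgSt.overMap ρ)), map_comp, map_overMap_ptOf,
      map_overMap_ptOf]
  -- Claim 2: the generic point lands in `Z`
  let pt' : ↥(Spec (CommRingCat.of (FractionRing R'))) := IsLocalRing.closedPoint (FractionRing R')
  have hcl2 : AlgSt.Points.ofChart c' (m'.left pt') ∈ Z := by
    rw [← ofChart_overMap m' c']
    have e1 : AlgSt.Points.ofChart (AlgSt.overMap m' ⊚ c') pt' =
        AlgSt.Points.ofChart ((AlgSt.overMap gψ ⊚ fpLift a_st (AlgSt.overMap m) α_st) ⊚ N) pt' :=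
      ofChart_congr (whiskerRightIso h3 N) pt'
    rw [e1]
    have e2 : AlgSt.Points.ofChart
        ((AlgSt.overMap gψ ⊚ fpLift a_st (AlgSt.overMap m) α_st) ⊚ N) pt' =
        AlgSt.Points.ofChart (fpLift a_st (AlgSt.overMap m) α_st ⊚ N) (gψ.left pt') :=
      ofChart_overMap gψ (fpLift a_st (AlgSt.overMap m) α_st ⊚ N) pt'
    rw [e2]
    have e3 : AlgSt.Points.ofChart (fpLift a_st (AlgSt.overMap m) α_st ⊚ N) (gψ.left pt') =
        AlgSt.Points.ofChart ψ (gψ.left pt') := by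
      rw [ofChart_eq, ofChart_eq]
      exact map_congr (fpLift a_st (AlgSt.overMap m) α_st ⊚ N) ψ
        (fun u => ⟨mkHom (ε.inv.toNatTrans.app u) (𝟙 _) (by
          rw [CategoryTheory.Functor.map_id, Category.comp_id]; rfl)⟩) _
    rw [e3, ofChart_overMap k x']
    exact hkZ _
  let cl' : ↥(Spec (CommRingCat.of R')) := IsLocalRing.closedPoint R'
  have hspec : m'.left pt' ⤳ cl' := IsLocalRing.specializes_closedPoint _
  have hcl3 : AlgSt.Points.ofChart c' cl' ∈ Z :=
    hZ.stableUnderSpecialization (hspec.map hcont) hcl2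
  obtain ⟨u, hu⟩ := hx's (AlgSt.Points.ofChart c' cl')
  refine ⟨u, ?_, ?_⟩
  · change AlgSt.Points.ofChart x' u ∈ Z
    rw [hu]
    exact hcl3
  · apply (ptOf_bijective T).1
    rw [← hpt u, hu, hcl1]
    congr 1
    change hA ((Spec.map (CommRingCat.ofHom φ)) cl') = y
    rw [← hcl]
    congr 1
    exact IsLocalRing.comap_closedPoint φ

end Groth.Agent.Lib.Helper27.UCVal
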