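import Groth.Agent.Lib.Helper27.UCVal7
import Groth.Agent.Lib.Helper27.UCVal9

/-!
# The valuative criterion with discrete valuation rings gives universal closedness (helper27)
-/

set_option autoImplicit false
set_option backward.isDefEq.respectTransparency false
set_option backward.isDefEq.respectTransparency.types false

universe u

open CategoryTheory CategoryTheory.Limits FibCat AlgebraicGeometry Opposite Topology
  Groth.Agent.Lib.Helper27.FpKit Groth.Agent.Lib.Helper27.PointsKit
  Groth.Agent.Lib.Helper27.RepWithComp Groth.Agent.Lib.Helper27.StPoints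
  Groth.Agent.Lib.Helper27.RepCancel Groth.Agent.Lib.Helper27.LocQChart
open Groth.Agent.Lib.Helper3.SpUC (V0 TC cC)

namespace Groth.Agent.Lib.Helper27.UCVal

variable {S : Scheme.{u}} {𝒳 𝒴 : AlgSt.Cat S}

local infixr:80 " ⊚ " => BasedFunctor.comp

theorem smooth_cC_poly {B : Type u} [CommRing B] (sB : Spec (CommRingCat.of B) ⟶ S)
    (n : Type u) [Finite n] : Smooth (cC sB (MvPolynomial n B)).left := by
  change Smooth (Spec.map (CommRingCat.ofHom (algebraMap B (MvPolynomial n B))))
  rw [HasRingHomProperty.Spec_iff (P := @Smooth)]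
  simp only [CommRingCat.hom_ofHom]
  rw [RingHom.smooth_algebraMap]
  exact {}

/-- The valuative criterion with discrete valuation rings (existence after extension) implies
universal closedness, for quasi-compact morphisms locally of finite type to a locally Noetherian
algebraic stack. -/
theorem isUnivClosed_of_hval
    (h𝒳 : AlgSt.IsAlgStack Scheme.etalePrecoverage 𝒳)
    (h𝒴 : AlgSt.IsAlgStack Scheme.etalePrecoverage 𝒴)
    (hn𝒴 : AlgSt.SmoothLocally (fun T => IsLocallyNoetherian T) 𝒴)
    (f : 𝒳 ⥤ᵇ 𝒴) (hqc : AlgSt.IsQuasiCompactMor Scheme.etalePrecoverage f)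
    (hft : AlgSt.LocQ (AlgSp.LocP @LocallyOfFiniteType) f) (hval : HVal f) :
    AlgSt.IsUnivClosed Scheme.etalePrecoverage f := by
  have hK : ∀ Z : Over S, AlgSt.IsAlgStack Scheme.etalePrecoverage (overCat Z) :=
    isAlgStack_overCat_et
  have hfO : ∀ Z : Over S, FibCat.IsFibGrpd (overCat Z).p :=
    fun Z => Groth.Agent.Lib.Helper27.ReprAux.isFibGrpd_overCat Z
  have hsmooth := compHyp_locP (S := S) Groth.Agent.Lib.Helper3.isEtLocal_smooth
  refine isUnivClosed_of_testClosed hK h𝒳 h𝒴 f ?_
  intro B B' _ _ φ sB v' hv'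
  letI : Algebra B B' := φ.toAlgebra
  haveI hVa : IsAffine (V0 sB).left := (inferInstance : IsAffine (Spec (CommRingCat.of B)))
  obtain ⟨U, x₀, hUa, hx₁, hx₂⟩ := hqc (overCat (V0 sB)) (hK _)
    (Groth.Agent.Lib.Helper27.QcStack.isQuasiCompact_overCat _ hVa) v'
  haveI : IsAffine U.left := hUa
  have key := core_stack sB hK h𝒳 h𝒴 f v' x₀ hx₁ hx₂ ?_ B'
  · exact key
  · intro n _ _
    refine isClosedMap_of_hval hK h𝒳 h𝒴 hn𝒴 f hqc hft hval (TC sB (MvPolynomial n B))
      (inferInstance : IsAffine (Spec (CommRingCat.of (MvPolynomial n B)))) _ ?_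
    exact comp_gen _ hsmooth (hfO _) (hfO _) (AlgSt.overMap (cC sB (MvPolynomial n B))) v'
      (Groth.Agent.Lib.Helper27.LocQSmoothOpen.repByAlgSpWith_overMap _
        (Groth.Agent.Lib.Helper27.QcImage.locP_stable Groth.Agent.Lib.Helper3.isEtLocal_smooth) _
        (Groth.Agent.Lib.Helper27.LocQSmoothOpen.locP_smooth_yon_map _ (smooth_cC_poly sB n))) hv'

end Groth.Agent.Lib.Helper27.UCVal
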