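import Groth.Agent.Lib.Helper27.GenLift2
import Groth.Agent.Lib.Helper27.UCVal10

/-!
# Specializations in the image of a morphism of finite type of Noetherian algebraic stacks are
# realized by discrete valuation rings (helper27)
-/

set_option autoImplicit false
set_option backward.isDefEq.respectTransparency false
set_option backward.isDefEq.respectTransparency.types false

universe u

open CategoryTheory CategoryTheory.Limits FibCat AlgebraicGeometry Opposite Topology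
  Groth.Agent.Lib.Helper27.FpKit Groth.Agent.Lib.Helper27.PointsKit
  Groth.Agent.Lib.Helper27.RepWithComp Groth.Agent.Lib.Helper27.StPoints
  Groth.Agent.Lib.Helper27.RepCancel Groth.Agent.Lib.Helper27.LocQChart
  Groth.Agent.Lib.Helper27.UCVal

namespace Groth.Agent.Lib.Helper27.GenLift

variable {S : Scheme.{u}} {𝒳 𝒴 : AlgSt.Cat S}

local infixr:80 " ⊚ " => BasedFunctor.comp

theorem exists_dvr_realizing [QuasiSeparatedSpace ↥S]
    (h𝒳 : AlgSt.IsAlgStack Scheme.etalePrecoverage 𝒳)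
    (h𝒴 : AlgSt.IsAlgStack Scheme.etalePrecoverage 𝒴)
    (hn𝒴 : AlgSt.SmoothLocally (fun T => IsLocallyNoetherian T) 𝒴)
    (hq𝒴 : AlgSt.IsQuasiCompact 𝒴) (hs𝒴 : AlgSt.IsQuasiSeparatedOver 𝒴)
    (f : 𝒳 ⥤ᵇ 𝒴) (hft : AlgSt.LocQ (AlgSp.LocP @LocallyOfFiniteType) f)
    (hqc : AlgSt.IsQuasiCompactMor Scheme.etalePrecoverage f)
    (x : AlgSt.Points 𝒳) (y₀ : AlgSt.Points 𝒴) (hsp : AlgSt.Points.map f x ⤳ y₀) :
    ∃ (R : Type u) (_ : CommRing R) (_ : IsDomain R) (_ : IsDiscreteValuationRing R)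
      (sR : Spec (CommRingCat.of R) ⟶ S)
      (a : FibCat.overCat (Over.mk (Spec.map (CommRingCat.ofHom (algebraMap R (FractionRing R))) ≫ sR)) ⥤ᵇ 𝒳)
      (b : FibCat.overCat (Over.mk sR) ⥤ᵇ 𝒴),
      Nonempty (BasedFunctor.comp a f ≅
        BasedFunctor.comp (AlgSt.overMap (Over.homMk (Spec.map (CommRingCat.ofHom (algebraMap R (FractionRing R)))) rfl :
          Over.mk (Spec.map (CommRingCat.ofHom (algebraMap R (FractionRing R))) ≫ sR) ⟶ Over.mk sR)) b) ∧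
      (∀ p, AlgSt.Points.ofChart a p = x) ∧
      AlgSt.Points.ofChart b (IsLocalRing.closedPoint R) = y₀ := by
  have hK : ∀ Z : Over S, AlgSt.IsAlgStack Scheme.etalePrecoverage (overCat Z) :=
    isAlgStack_overCat_et
  have hfO : ∀ Z : Over S, FibCat.IsFibGrpd (overCat Z).p :=
    fun Z => Groth.Agent.Lib.Helper27.ReprAux.isFibGrpd_overCat Z
  obtain ⟨V, v, hV, hv₁, hv₂⟩ := hq𝒴
  haveI hVn : IsLocallyNoetherian V.left := hn𝒴 V v hv₁
  obtain ⟨v₀, rfl⟩ := ofChart_surjective h𝒴.isStack.1 v hv₂ y₀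
  obtain ⟨v₁, hv₁₀, hv₁x⟩ := exists_generalization_lift h𝒴.isStack.1
    (Groth.Agent.Lib.Helper27.SepDiag.repByAlgSpWith_mono (FibCat.diag (FibCat.toSelf 𝒴))
      (fun _ _ _ h => h.1) hs𝒴) hn𝒴 hV v hv₁ v₀ (AlgSt.Points.map f x) hsp
  have hW : AlgSt.IsAlgStack Scheme.etalePrecoverage (fp v f) :=
    Groth.Agent.Lib.Helper27.AlgStackFp2.isAlgStack_fp' v f _ (hK V) h𝒳 h𝒴
  obtain ⟨W', x', hW'a, hx'₁, hx'₂⟩ := hqc (overCat V) (hK V)
    (Groth.Agent.Lib.Helper27.QcStack.isQuasiCompact_overCat V hV) v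
  obtain ⟨g', hg'⟩ : ∃ g' : W' ⟶ V, g' = homOf (x' ⊚ fpFst v f) := ⟨_, rfl⟩
  have θ : x' ⊚ fpFst v f ≅ AlgSt.overMap g' := by rw [hg']; exact isoOverMap _
  haveI hlft : LocallyOfFiniteType g'.left := by
    rw [hg']
    exact lft_chart h𝒳.isStack.1 h𝒴.isStack.1 f hft v x' hx'₁ hx'₂
  have hx's := ofChart_surjective hW.isStack.1 x' hx'₂
  have hpt : ∀ u, AlgSt.Points.map (fpFst v f) (AlgSt.Points.ofChart x' u) =
      ptOf V (g'.left u) := by
    intro u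
    rw [ofChart_eq, ← map_comp, map_iso θ, map_overMap_ptOf]
  obtain ⟨w, hw₁, hw₂⟩ := exists_points_fp h𝒳.isStack.1 h𝒴.isStack.1 (hfO V) f v (ptOf V v₁) x
    (by rw [← ofChart_eq]; exact hv₁x)
  obtain ⟨w', rfl⟩ := hx's w
  have hgw : g'.left w' = v₁ := by
    apply (ptOf_bijective V).1
    rw [← hpt, hw₁]
  obtain ⟨A, iA1, iA2, hdvr, hA, xK, hcomm, hcl, hgen⟩ :=
    exists_dvr_of_specializes g'.left w' v₀ (by rw [hgw]; exact hv₁₀)
  obtain ⟨sA, hsA⟩ : ∃ sA : Spec (CommRingCat.of A) ⟶ S, sA = hA ≫ V.hom := ⟨_, rfl⟩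
  let ρ : Over.mk sA ⟶ V := Over.homMk hA hsA.symm
  let mK : Spec (CommRingCat.of (FractionRing A)) ⟶ Spec (CommRingCat.of A) :=
    Spec.map (CommRingCat.ofHom (algebraMap A (FractionRing A)))
  let m : Over.mk (mK ≫ sA) ⟶ Over.mk sA := Over.homMk mK rfl
  have hkw : xK ≫ W'.hom = mK ≫ sA := by
    rw [← Over.w g', hsA, reassoc_of% hcomm]
  let k : Over.mk (mK ≫ sA) ⟶ W' := Over.homMk xK hkw
  have hkg : k ≫ g' = m ≫ ρ := by
    apply Over.OverMorphism.ext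
    exact hcomm
  let ψ : overCat (Over.mk (mK ≫ sA)) ⥤ᵇ fp v f := AlgSt.overMap k ⊚ x'
  have ε : ψ ⊚ fpFst v f ≅ AlgSt.overMap m ⊚ AlgSt.overMap ρ :=
    whiskerLeftIso (AlgSt.overMap k) θ ≪≫ Groth.Agent.Lib.Helper27.ValWit.overMapComp k g' ≪≫
      eqToIso (by rw [hkg]) ≪≫ (Groth.Agent.Lib.Helper27.ValWit.overMapComp m ρ).symm
  let a_st : overCat (Over.mk (mK ≫ sA)) ⥤ᵇ 𝒳 := ψ ⊚ fpSnd v f
  let b_st : overCat (Over.mk sA) ⥤ᵇ 𝒴 := AlgSt.overMap ρ ⊚ v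
  let α_st : a_st ⊚ f ≅ AlgSt.overMap m ⊚ b_st :=
    (whiskerLeftIso ψ (fpIso v f)).symm ≪≫ whiskerRightIso ε v
  refine ⟨A, iA1, iA2, hdvr, sA, a_st, b_st, ⟨α_st⟩, ?_, ?_⟩
  · intro p
    have h1 : AlgSt.Points.ofChart a_st p =
        AlgSt.Points.ofChart (x' ⊚ fpSnd v f) (k.left p) := ofChart_overMap k (x' ⊚ fpSnd v f) p
    rw [h1, ofChart_eq, map_comp, ← ofChart_eq]
    have h2 : k.left p = w' := hgen p
    rw [h2]
    exact hw₂
  · have h1 : AlgSt.Points.ofChart b_st (IsLocalRing.closedPoint A) =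
        AlgSt.Points.ofChart v (ρ.left (IsLocalRing.closedPoint A)) :=
      ofChart_overMap ρ v _
    rw [h1]
    congr 1

end Groth.Agent.Lib.Helper27.GenLift
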