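import Groth.Agent.Lib.Helper27.GerbSecD
import Groth.Agent.Lib.Helper27.StPointsSurj

/-!
# Sections of gerbes over algebraic spaces: flat, locally of finite presentation, surjective
(helper27)
-/

set_option autoImplicit false
set_option backward.isDefEq.respectTransparency false
set_option backward.isDefEq.respectTransparency.types false

universe u

open CategoryTheory CategoryTheory.Limits AlgebraicGeometry Opposite FibCat
  Groth.Agent.Lib.Helper27.FpKit Groth.Agent.Lib.Helper27.SmLocP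

namespace Groth.Agent.Lib.Helper27.GerbSecE

variable {S : Scheme.{u}}

local infixr:80 " ⊚ " => BasedFunctor.comp

variable {𝒵 𝒰 : AlgSt.Cat S} (h𝒵 : AlgSt.IsAlgStack Scheme.fppfPrecoverage 𝒵)
  (h𝒰 : FibCat.IsFibGrpd 𝒰.p) (h𝒰r : AlgSt.RepByAlgSp 𝒰) (π : 𝒵 ⥤ᵇ 𝒰)
  (hπ : Gerb.LocSurjHom (AlgSp.J S) π) (x : 𝒰 ⥤ᵇ 𝒵) (e : x ⊚ π ≅ BasedFunctor.id 𝒰)

include h𝒵 h𝒰 h𝒰r hπ e

theorem section_flat : AlgSt.RepByAlgSpWith (AlgSp.LocP @Flat) x :=
  Groth.Agent.Lib.Helper27.GerbSecD.section_repByAlgSpWith isSmLocal_flat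
    (fun _ h _ => h)
    (fun hX hY hB f r i h H => Groth.Agent.Lib.Helper27.GerbRetB.locP_flat_of_section hX hY hB f r i h H)
    h𝒵 h𝒰 h𝒰r π hπ x e

theorem section_lfp : AlgSt.RepByAlgSpWith (AlgSp.LocP @LocallyOfFinitePresentation) x :=
  Groth.Agent.Lib.Helper27.GerbSecD.section_repByAlgSpWith isSmLocal_lfp
    (fun _ _ h => h)
    (fun hX hY hB f r i h H => Groth.Agent.Lib.Helper27.GerbRetB.locP_lfp_of_section hX hY hB f r i h H)
    h𝒵 h𝒰 h𝒰r π hπ x e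

theorem section_surjective : AlgSt.RepByAlgSpWith AlgSp.IsSurjectiveMor x :=
  Groth.Agent.Lib.Helper27.StPoints.rep_of_isSurjective h𝒰 h𝒵.isStack.1 x
    (Groth.Agent.Lib.Helper27.GerbSecD.section_repByAlgSp1 h𝒵 h𝒰 h𝒰r x)
    (Groth.Agent.Lib.Helper27.GerbSecA.isSurjective_of_locSurjObj x
      (Groth.Agent.Lib.Helper27.GerbSecA.locSurjObj_section _ h𝒵.isStack.1 π hπ x e))

end Groth.Agent.Lib.Helper27.GerbSecE
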