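import Groth.Prelude.Def_StGerb2
import Groth.Agent.Lib.Helper27.GerbSecE
import Groth.Agent.Lib.Helper27.LocQTriple
import Groth.Agent.Lib.Helper27.RepWithComp2

/-!
# The automorphism group scheme of a section is the self fibre product (helper27)
-/

set_option autoImplicit false
set_option backward.isDefEq.respectTransparency false
set_option backward.isDefEq.respectTransparency.types false

universe u

open CategoryTheory CategoryTheory.Limits AlgebraicGeometry Opposite FibCat
  Groth.Agent.Lib.Helper27.FpKit Groth.Agent.Lib.Helper27.DescentKit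

namespace Groth.Agent.Lib.Helper27.GerbAut

variable {S : Scheme.{u}}

local infixr:80 " ⊚ " => BasedFunctor.comp

variable (U : Over S) (G : Over U.left) [GrpObj G]

/-- the group scheme as a scheme over `S` -/
abbrev GS : Over S := Over.mk (G.hom ≫ U.hom)

/-- the structure map of the group scheme, over `S` -/
abbrev gmap : GS U G ⟶ U := Over.homMk G.hom rfl

/-- the point of `G` with values in `T ⟶ U` attached to a morphism `T ⟶ G` over `U` -/
noncomputable def ptOf {T : Over U} (k : T.left ⟶ GS U G) (hk : k ≫ gmap U G = T.hom) :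
    (Gerb.ptsGrp U G).obj (op T) :=
  (Over.homMk k.left (by
    have h1 : (k ≫ gmap U G).left = T.hom.left := congrArg CommaMorphism.left hk
    exact h1) : (Over.iteratedSliceForward U).obj T ⟶ G)

theorem ptOf_left {T : Over U} (k : T.left ⟶ GS U G) (hk : k ≫ gmap U G = T.hom) :
    (ptOf U G k hk : (Over.iteratedSliceForward U).obj T ⟶ G).left = k.left := rfl

theorem ptOf_ext {T : Over U} (p q : (Gerb.ptsGrp U G).obj (op T))
    (h : (p : (Over.iteratedSliceForward U).obj T ⟶ G).left =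
      (q : (Over.iteratedSliceForward U).obj T ⟶ G).left) : p = q :=
  Over.OverMorphism.ext h

theorem map_left {T' T : Over U} (h : T' ⟶ T) (p : (Gerb.ptsGrp U G).obj (op T)) :
    (((Gerb.ptsGrp U G).map h.op p : (Gerb.ptsGrp U G).obj (op T')) :
      (Over.iteratedSliceForward U).obj T' ⟶ G).left =
      h.left.left ≫ (p : (Over.iteratedSliceForward U).obj T ⟶ G).left := rfl

variable {U G} {𝒳 : AlgSt.Cat S} (x : overCat U ⥤ᵇ 𝒳) (r : Gerb.AutRep x (Gerb.ptsGrp U G))

/-- the value on `s : T ⟶ G` of the universal automorphism -/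
noncomputable def autAt (s : Over (GS U G)) : Gerb.AutO (x.obj ((AlgSt.overMap (gmap U G)).obj s)) :=
  r.iso ((AlgSt.overMap (gmap U G)).obj s) (ptOf U G (T := (AlgSt.overMap (gmap U G)).obj s) s.hom rfl)

theorem autAt_natural {s' s : Over (GS U G)} (m : s' ⟶ s) :
    (autAt x r s').hom.1 ≫ x.map ((AlgSt.overMap (gmap U G)).map m) =
      x.map ((AlgSt.overMap (gmap U G)).map m) ≫ (autAt x r s).hom.1 := by
  have h := r.natural ((AlgSt.overMap (gmap U G)).map m)
    (ptOf U G (T := (AlgSt.overMap (gmap U G)).obj s) s.hom rfl)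
  have h2 : (Gerb.ptsGrp U G).map ((AlgSt.overMap (gmap U G)).map m).op
      (ptOf U G (T := (AlgSt.overMap (gmap U G)).obj s) s.hom rfl) =
      ptOf U G (T := (AlgSt.overMap (gmap U G)).obj s') s'.hom rfl := by
    apply ptOf_ext
    rw [map_left, ptOf_left, ptOf_left]
    have := congrArg CommaMorphism.left (Over.w m)
    exact this
  rw [h2] at h
  exact h

theorem autAt_hom_inv (s : Over (GS U G)) : (autAt x r s).hom.1 ≫ (autAt x r s).inv.1 = 𝟙 _ :=
  congrArg Subtype.val (autAt x r s).hom_inv_id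

theorem autAt_inv_hom (s : Over (GS U G)) : (autAt x r s).inv.1 ≫ (autAt x r s).hom.1 = 𝟙 _ :=
  congrArg Subtype.val (autAt x r s).inv_hom_id

theorem autAt_vert (s : Over (GS U G)) : Vert (𝒳 := 𝒳) (autAt x r s).hom.1 :=
  (autAt x r s).hom.2

/-- the universal automorphism of the pullback of `x` to `G` -/
noncomputable def univAut : AlgSt.overMap (gmap U G) ⊚ x ≅ AlgSt.overMap (gmap U G) ⊚ x :=
  BasedNatIso.mkNatIso
    (NatIso.ofComponents
      (fun s => ⟨(autAt x r s).hom.1, (autAt x r s).inv.1, autAt_hom_inv x r s,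
        autAt_inv_hom x r s⟩)
      (fun m => (autAt_natural x r m).symm))
    (fun s => (autAt_vert x r s).lift ((AlgSt.overMap (gmap U G) ⊚ x).w_obj s))

/-- the functor `G ⟶ U ×_𝒳 U` -/
noncomputable def E : overCat (GS U G) ⥤ᵇ fp x x :=
  fpLift (AlgSt.overMap (gmap U G)) (AlgSt.overMap (gmap U G)) (univAut x r)

theorem E_fst : E x r ⊚ fpFst x x = AlgSt.overMap (gmap U G) := rfl

theorem E_iso_hom (s : Over (GS U G)) : ((E x r).obj s).obj.iso.hom = (autAt x r s).hom.1 := rfl

theorem E_faithful : (E x r).toFunctor.Faithful := by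
  constructor
  intro s' s m m' h
  have h1 : ((E x r).toFunctor.map m).hom.fst = ((E x r).toFunctor.map m').hom.fst :=
    congrArg (fun Ξ => Ξ.hom.fst) h
  have h2 : ((AlgSt.overMap (gmap U G)).map m).left = ((AlgSt.overMap (gmap U G)).map m').left :=
    congrArg CommaMorphism.left h1
  exact Over.OverMorphism.ext h2

/-- the two components of a morphism between values of `E` agree -/
theorem snd_eq_fst {s' s : Over (GS U G)} (Φ : (E x r).obj s' ⟶ (E x r).obj s) :
    Φ.hom.snd = Φ.hom.fst := by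
  have h1 : (overCat U).p.IsHomLift ((fp x x).p.map Φ) Φ.hom.snd := inferInstance
  have h2 : (overCat U).p.IsHomLift ((fp x x).p.map Φ) Φ.hom.fst :=
    Groth.Agent.Lib.Helper27.StackFp.fst_lift Φ _ (IsHomLift.map _ Φ)
  have e1 := IsHomLift.fac' (overCat U).p ((fp x x).p.map Φ) Φ.hom.snd
  have e2 := IsHomLift.fac' (overCat U).p ((fp x x).p.map Φ) Φ.hom.fst
  apply Over.OverMorphism.ext
  have e3 : (overCat U).p.map Φ.hom.snd = (overCat U).p.map Φ.hom.fst := by
    rw [e1, e2]
  exact e3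

theorem autO_ext {ξ : 𝒳.obj} (α β : Gerb.AutO ξ) (h : α.hom.1 = β.hom.1) : α = β := by
  apply Aut.ext
  apply Functor.Fiber.hom_ext
  exact h

theorem E_full (h𝒳 : FibCat.IsFibGrpd 𝒳.p) : (E x r).toFunctor.Full := by
  constructor
  intro s' s Φ
  have w := hom_w Φ
  rw [E_iso_hom, E_iso_hom, snd_eq_fst x r Φ] at w
  have nat := r.natural Φ.hom.fst
    (ptOf U G (T := (AlgSt.overMap (gmap U G)).obj s) s.hom rfl)
  have nat' : (r.iso _ ((Gerb.ptsGrp U G).map Φ.hom.fst.op
      (ptOf U G (T := (AlgSt.overMap (gmap U G)).obj s) s.hom rfl))).hom.1 ≫ x.map Φ.hom.fst =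
      (autAt x r s').hom.1 ≫ x.map Φ.hom.fst := nat.trans w
  have hc := FG.cancel h𝒳 (𝒳.p.map (x.map Φ.hom.fst)) (x.map Φ.hom.fst) (IsHomLift.map _ _)
    (𝟙 _) (r.iso _ ((Gerb.ptsGrp U G).map Φ.hom.fst.op
      (ptOf U G (T := (AlgSt.overMap (gmap U G)).obj s) s.hom rfl))).hom.2
    (autAt x r s').hom.2 nat'
  have hβ := autO_ext _ _ hc
  have hp := (r.iso ((AlgSt.overMap (gmap U G)).obj s')).injective hβ
  have hl := congrArg (fun q : (Gerb.ptsGrp U G).obj (op ((AlgSt.overMap (gmap U G)).obj s')) =>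
    (q : (Over.iteratedSliceForward U).obj ((AlgSt.overMap (gmap U G)).obj s') ⟶ G).left) hp
  simp only [ptOf_left] at hl
  let m : s' ⟶ s := Over.homMk Φ.hom.fst.left (Over.OverMorphism.ext hl)
  refine ⟨m, ?_⟩
  apply Groth.Agent.Lib.Helper27.StackFp.hom_ext'
  · exact Over.OverMorphism.ext rfl
  · rw [snd_eq_fst x r Φ]
    exact Over.OverMorphism.ext rfl

section Ess

variable (π : 𝒳 ⥤ᵇ overCat U) (e : x ⊚ π ≅ BasedFunctor.id (overCat U))

/-- the two `U`-points underlying an object of `U ×_𝒳 U` agree -/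
noncomputable def baseIso (w : (fp x x).obj) : w.obj.fst ≅ w.obj.snd :=
  (((BasedNatTrans.forgetful _ _).mapIso e).app w.obj.fst).symm ≪≫
    π.toFunctor.mapIso w.obj.iso ≪≫ ((BasedNatTrans.forgetful _ _).mapIso e).app w.obj.snd

theorem baseIso_vert (w : (fp x x).obj) : Vert (𝒳 := overCat U) (baseIso x π e w).hom :=
  Vert.comp (Vert.app e.inv w.obj.fst) (Vert.comp ((vert_iso w).map π) (Vert.app e.hom w.obj.snd))

/-- the automorphism attached to an object of `U ×_𝒳 U` -/
noncomputable def autOf (w : (fp x x).obj) : Gerb.AutO (x.obj w.obj.fst) where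
  hom := ⟨w.obj.iso.hom ≫ x.map (baseIso x π e w).inv,
    Vert.comp (vert_iso w) ((Vert.inv (baseIso_vert x π e w)).map x)⟩
  inv := ⟨x.map (baseIso x π e w).hom ≫ w.obj.iso.inv,
    Vert.comp ((baseIso_vert x π e w).map x) (Vert.inv (vert_iso w))⟩
  hom_inv_id := by
    apply Functor.Fiber.hom_ext
    change (w.obj.iso.hom ≫ x.map (baseIso x π e w).inv) ≫
      (x.map (baseIso x π e w).hom ≫ w.obj.iso.inv) = 𝟙 _
    rw [Category.assoc, ← Category.assoc (x.map _), ← x.toFunctor.map_comp, Iso.inv_hom_id,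
      x.toFunctor.map_id, Category.id_comp, Iso.hom_inv_id]
  inv_hom_id := by
    apply Functor.Fiber.hom_ext
    change (x.map (baseIso x π e w).hom ≫ w.obj.iso.inv) ≫
      (w.obj.iso.hom ≫ x.map (baseIso x π e w).inv) = 𝟙 _
    rw [Category.assoc, ← Category.assoc w.obj.iso.inv, Iso.inv_hom_id, Category.id_comp,
      ← x.toFunctor.map_comp, Iso.hom_inv_id, x.toFunctor.map_id]

include π e in
theorem E_ess (w : (fp x x).obj) :
    ∃ (s : Over (GS U G)) (ε : (E x r).toFunctor.obj s ≅ w), Vert ε.hom := by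
  obtain ⟨p, hp⟩ : ∃ p : (Gerb.ptsGrp U G).obj (op w.obj.fst), r.iso w.obj.fst p = autOf x π e w :=
    ⟨(r.iso w.obj.fst).symm (autOf x π e w), MulEquiv.apply_symm_apply _ _⟩
  let p' : (Over.iteratedSliceForward U).obj w.obj.fst ⟶ G := p
  have hp' : p'.left ≫ G.hom = w.obj.fst.hom.left := Over.w p'
  let k : w.obj.fst.left ⟶ GS U G := Over.homMk p'.left (by
    change p'.left ≫ G.hom ≫ U.hom = w.obj.fst.left.hom
    rw [← Category.assoc, hp']
    exact Over.w w.obj.fst.hom)
  let s : Over (GS U G) := Over.mk k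
  have hk : k ≫ gmap U G = w.obj.fst.hom := Over.OverMorphism.ext hp'
  let ι : (AlgSt.overMap (gmap U G)).obj s ≅ w.obj.fst :=
    Over.isoMk (Iso.refl _) (by
      change 𝟙 _ ≫ w.obj.fst.hom = k ≫ gmap U G
      rw [Category.id_comp, hk])
  have hιl : ι.hom.left = 𝟙 _ := rfl
  have hιv : Vert (𝒳 := overCat U) ι.hom :=
    Groth.Agent.Lib.Helper27.SliceYoneda.vert_of_left ι.hom rfl hιl
  have h2 : (Gerb.ptsGrp U G).map ι.hom.op p =
      ptOf U G (T := (AlgSt.overMap (gmap U G)).obj s) s.hom rfl := by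
    apply ptOf_ext
    rw [map_left, ptOf_left, hιl]
    exact Category.id_comp _
  have nat := r.natural ι.hom p
  rw [h2, hp] at nat
  have nat' : (autAt x r s).hom.1 ≫ x.map ι.hom =
      x.map ι.hom ≫ w.obj.iso.hom ≫ x.map (baseIso x π e w).inv := nat
  refine ⟨s, mkIso (t := (E x r).toFunctor.obj s) (t' := w) ι (ι ≪≫ baseIso x π e w) ?_, ?_⟩
  · rw [E_iso_hom]
    change x.map ι.hom ≫ w.obj.iso.hom =
      (autAt x r s).hom.1 ≫ x.map (ι.hom ≫ (baseIso x π e w).hom)
    rw [x.toFunctor.map_comp, ← Category.assoc, nat', Category.assoc, Category.assoc,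
      ← x.toFunctor.map_comp, Iso.inv_hom_id, x.toFunctor.map_id, Category.comp_id]
  · rw [vert_hom_iff]
    exact hιv

include π e in
theorem isEquivOver_E (h𝒳 : FibCat.IsFibGrpd 𝒳.p) : IsEquivOver (E x r) :=
  isEquivOver_of_ess (E x r) (E_full x r h𝒳) (E_faithful x r) (E_ess x r π e)

end Ess

section Main

open Groth.Agent.Lib.Helper27.SmLocP Groth.Agent.Lib.Helper27.LocQOver

variable (h𝒳 : AlgSt.IsAlgStack Scheme.fppfPrecoverage 𝒳) (π : 𝒳 ⥤ᵇ overCat U)
  (hπ : Gerb.LocSurjHom (AlgSp.J S) π) (e : x ⊚ π ≅ BasedFunctor.id (overCat U))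

include h𝒳 hπ e r in
/-- The automorphism group scheme of a section of a gerbe is flat and locally of finite
presentation. -/
theorem flat_lfp_of_autRep : Flat G.hom ∧ LocallyOfFinitePresentation G.hom := by
  have hU := Groth.Agent.Lib.Helper27.ReprAux.isFibGrpd_overCat U
  have hUr := Groth.Agent.Lib.Helper27.FpRepSp2.repByAlgSp_overCat U
  have hE := isEquivOver_E x r π e h𝒳.isStack.1
  have key : ∀ (Q : MorphismProperty Scheme.{u}) (hQ : IsSmLocal Q),
      AlgSt.RepByAlgSpWith (AlgSp.LocP Q) x → Q G.hom := by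
    intro Q hQ hx
    have h1 : AlgSt.RepByAlgSpWith (AlgSp.LocP Q) (fpFst x x) :=
      Groth.Agent.Lib.Helper27.RepWithGeneral.repByAlgSpWith_fpFst _ x x hx
    have h2 : AlgSt.RepByAlgSpWith (AlgSp.LocP Q) (AlgSt.overMap (gmap U G)) :=
      repByAlgSpWith_equiv_comp _ (E x r) hE _ h1
    have h3 := AlgSp.locP_yon_map
      (Groth.Agent.Lib.Helper27.LocQTriple.prop_yon_homOf _
        (Groth.Agent.Lib.Helper27.RepWithComp.compHyp_locP hQ.etLocal) _ h2)
    rw [Groth.Agent.Lib.Helper27.LocQTriple.homOf_overMap] at h3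
    exact h3
  exact ⟨key _ isSmLocal_flat
      (Groth.Agent.Lib.Helper27.GerbSecE.section_flat h𝒳 hU hUr π hπ x e),
    key _ isSmLocal_lfp (Groth.Agent.Lib.Helper27.GerbSecE.section_lfp h𝒳 hU hUr π hπ x e)⟩

end Main

end Groth.Agent.Lib.Helper27.GerbAut
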