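import Groth.Prelude.Def_AlgSt
import Groth.Prelude.Def_FibCat2
import Groth.Agent.Lib.Helper27.DescentKit

/-!
# Refinement of sieves and the stack condition (helper27)
-/

set_option autoImplicit false
set_option backward.isDefEq.respectTransparency false
set_option backward.isDefEq.respectTransparency.types false

universe v₄ u₄ v₃ u₃ v₂ u₂ v u

open CategoryTheory Groth.Agent.Lib.Helper27.DescentKit
  Groth.Agent.Lib.Helper16.FpFibGrpd

namespace Groth.Agent.Lib.Helper27.StackRefine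

variable {C : Type u} [Category.{v} C] {𝒳 : BasedCategory.{v₂, u₂} C}
  (hp : FibCat.IsFibGrpd 𝒳.p)

open FibCat

include hp in
/-- Morphisms over an arbitrary arrow are determined locally on the source. -/
theorem uniq_over {V U : C} (R' : Sieve V) (hu : UniqMor R' 𝒳) (f : V ⟶ U) {x' y : 𝒳.obj}
    (φ ψ : x' ⟶ y) (hφ : 𝒳.p.IsHomLift f φ) (hψ : 𝒳.p.IsHomLift f ψ)
    (hloc : ∀ ⦃W : C⦄ (g : W ⟶ V) ⦃x'' : 𝒳.obj⦄ (b : x'' ⟶ x'), R' g → 𝒳.p.IsHomLift g b →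
      b ≫ φ = b ≫ ψ) : φ = ψ := by
  have hχl : 𝒳.p.IsHomLift (𝟙 V) (FG.lift hp f φ hφ (𝟙 V) (Category.id_comp _).symm ψ hψ) :=
    FG.lift_isHomLift hp _ _ _ _ _ _ _
  have hχ : FG.lift hp f φ hφ (𝟙 V) (Category.id_comp _).symm ψ hψ ≫ φ = ψ :=
    FG.lift_fac hp _ _ _ _ _ _ _
  have hx' : 𝒳.p.obj x' = V := IsHomLift.domain_eq 𝒳.p f φ
  have e : FG.lift hp f φ hφ (𝟙 V) (Category.id_comp _).symm ψ hψ = 𝟙 x' := by
    apply hu _ _ _ _ hχl (IsHomLift.id hx')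
    intro W g x'' b hg hb
    have h1 : 𝒳.p.IsHomLift g (b ≫ FG.lift hp f φ hφ (𝟙 V) (Category.id_comp _).symm ψ hψ) :=
      inferInstance
    have h2 : 𝒳.p.IsHomLift g (b ≫ 𝟙 x') := inferInstance
    refine FG.cancel hp f φ hφ g h1 h2 ?_
    rw [Category.assoc, hχ, Category.comp_id]
    exact (hloc g b hg hb).symm
  rw [e, Category.id_comp] at hχ
  exact hχ

section Restrict

variable {U : C} {S R : Sieve U} (hSR : S ≤ R)

/-- Restriction of a matching family to a smaller sieve. -/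
def MatchFam.restrict {x y : 𝒳.obj} (M : MatchFam R 𝒳 x y) : MatchFam S 𝒳 x y where
  m := fun _ f _ a hf ha => M.m f a (hSR _ hf) ha
  lift := fun _ f _ a hf ha => M.lift f a (hSR _ hf) ha
  compat := fun _ _ f g _ _ a b hf ha hb hba => M.compat f g a b (hSR _ hf) ha hb hba

include hSR in
theorem uniqMor_of_le (hu : UniqMor S 𝒳) : UniqMor R 𝒳 := by
  intro x y φ ψ hφ hψ hloc
  exact hu x y φ ψ hφ hψ (fun V f x' a hf ha => hloc f a (hSR _ hf) ha)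

include hp hSR in
theorem glueMor_of_le (hg : GlueMor S 𝒳)
    (hR : ∀ ⦃V : C⦄ (f : V ⟶ U), R f → UniqMor (S.pullback f) 𝒳) : GlueMor R 𝒳 := by
  intro x y hx hy M
  obtain ⟨φ, hφl, hφ⟩ := hg x y hx hy (MatchFam.restrict hSR M)
  refine ⟨φ, hφl, ?_⟩
  intro V f x' a hf ha
  have h1 : 𝒳.p.IsHomLift f (a ≫ φ) := inferInstance
  refine uniq_over hp (S.pullback f) (hR f hf) f (a ≫ φ) (M.m f a hf ha) h1 (M.lift _ _ _ _) ?_
  intro W g x'' b hg' hb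
  have hS : S (g ≫ f) := hg'
  have hba : 𝒳.p.IsHomLift (g ≫ f) (b ≫ a) := inferInstance
  rw [← Category.assoc, hφ (g ≫ f) (b ≫ a) hS hba]
  exact M.compat f g a b hf ha hb hba

/-- The inclusion of sieve categories. -/
def inclLE : Stk.sieveCat S ⥤ᵇ Stk.sieveCat R where
  toFunctor :=
    { obj := fun s => ⟨s.obj, hSR _ s.property⟩
      map := fun g => ObjectProperty.homMk g.hom }
  w := rfl

end Restrict

section Extend

variable {U : C} {S R : Sieve U} (hSR : S ≤ R) (D : Stk.sieveCat R ⥤ᵇ 𝒳)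
  (x : 𝒳.obj) (hx : 𝒳.p.obj x = U)
  (c : ∀ s : (Stk.sieveCat S).obj, D.obj ((inclLE hSR).obj s) ⟶ x)
  (hc : ∀ s : (Stk.sieveCat S).obj, 𝒳.p.IsHomLift s.obj.hom (c s))
  (hcomp : ∀ ⦃s s' : (Stk.sieveCat S).obj⦄ (δ : s ⟶ s'),
    D.map ((inclLE hSR).map δ) ≫ c s' = c s)

/-- The member of `S` attached to an arrow of the pulled back sieve. -/
def sOf (r : (Stk.sieveCat R).obj) {W : C} (g : W ⟶ r.obj.left) (hg : S (g ≫ r.obj.hom)) :
    (Stk.sieveCat S).obj := ⟨Over.mk (g ≫ r.obj.hom), hg⟩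

/-- The canonical morphism to `r`. -/
def γOf (r : (Stk.sieveCat R).obj) {W : C} (g : W ⟶ r.obj.left) (hg : S (g ≫ r.obj.hom)) :
    (inclLE hSR).obj (sOf r g hg) ⟶ r :=
  ObjectProperty.homMk (Over.homMk g rfl)

theorem D_map_lift {r r' : (Stk.sieveCat R).obj} (k : r' ⟶ r) :
    𝒳.p.IsHomLift k.hom.left (D.map k) := by
  haveI : (Stk.sieveCat R).p.IsHomLift k.hom.left k := IsHomLift.map (Stk.sieveCat R).p k
  exact BasedFunctor.preserves_isHomLift D k.hom.left k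

theorem D_γOf_lift (r : (Stk.sieveCat R).obj) {W : C} (g : W ⟶ r.obj.left)
    (hg : S (g ≫ r.obj.hom)) : 𝒳.p.IsHomLift g (D.map (γOf hSR r g hg)) :=
  D_map_lift D (γOf hSR r g hg)

/-- Factorisation through `D` of the member of `S`. -/
noncomputable def b0 (r : (Stk.sieveCat R).obj) {W : C} (g : W ⟶ r.obj.left)
    (hg : S (g ≫ r.obj.hom)) {x'' : 𝒳.obj} (b : x'' ⟶ D.obj r) (hb : 𝒳.p.IsHomLift g b) :
    x'' ⟶ D.obj ((inclLE hSR).obj (sOf r g hg)) :=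
  FG.lift hp g (D.map (γOf hSR r g hg)) (D_γOf_lift hSR D r g hg) (𝟙 W)
    (Category.id_comp _).symm b hb

theorem b0_lift (r : (Stk.sieveCat R).obj) {W : C} (g : W ⟶ r.obj.left)
    (hg : S (g ≫ r.obj.hom)) {x'' : 𝒳.obj} (b : x'' ⟶ D.obj r) (hb : 𝒳.p.IsHomLift g b) :
    𝒳.p.IsHomLift (𝟙 W) (b0 hp hSR D r g hg b hb) :=
  FG.lift_isHomLift hp _ _ _ _ _ _ _

theorem b0_fac (r : (Stk.sieveCat R).obj) {W : C} (g : W ⟶ r.obj.left)
    (hg : S (g ≫ r.obj.hom)) {x'' : 𝒳.obj} (b : x'' ⟶ D.obj r) (hb : 𝒳.p.IsHomLift g b) :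
    b0 hp hSR D r g hg b hb ≫ D.map (γOf hSR r g hg) = b :=
  FG.lift_fac hp _ _ _ _ _ _ _

include hc in
theorem b0_c_lift (r : (Stk.sieveCat R).obj) {W : C} (g : W ⟶ r.obj.left)
    (hg : S (g ≫ r.obj.hom)) {x'' : 𝒳.obj} (b : x'' ⟶ D.obj r) (hb : 𝒳.p.IsHomLift g b) :
    𝒳.p.IsHomLift (g ≫ r.obj.hom) (b0 hp hSR D r g hg b hb ≫ c (sOf r g hg)) := by
  have h1 := b0_lift hp hSR D r g hg b hb
  have h2 : 𝒳.p.IsHomLift (g ≫ r.obj.hom) (c (sOf r g hg)) := hc (sOf r g hg)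
  infer_instance

/-- The local morphism to the pullback of `x`. -/
noncomputable def mloc (r : (Stk.sieveCat R).obj) {W : C} (g : W ⟶ r.obj.left)
    (hg : S (g ≫ r.obj.hom)) {x'' : 𝒳.obj} (b : x'' ⟶ D.obj r) (hb : 𝒳.p.IsHomLift g b) :
    x'' ⟶ pbObj hp x hx r.obj :=
  FG.lift hp r.obj.hom (pbHom hp x hx r.obj) (pbHom_isHomLift hp x hx r.obj) g rfl
    (b0 hp hSR D r g hg b hb ≫ c (sOf r g hg)) (b0_c_lift hp hSR D x c hc r g hg b hb)

theorem mloc_lift (r : (Stk.sieveCat R).obj) {W : C} (g : W ⟶ r.obj.left)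
    (hg : S (g ≫ r.obj.hom)) {x'' : 𝒳.obj} (b : x'' ⟶ D.obj r) (hb : 𝒳.p.IsHomLift g b) :
    𝒳.p.IsHomLift g (mloc hp hSR D x hx c hc r g hg b hb) :=
  FG.lift_isHomLift hp _ _ _ _ _ _ _

theorem mloc_fac (r : (Stk.sieveCat R).obj) {W : C} (g : W ⟶ r.obj.left)
    (hg : S (g ≫ r.obj.hom)) {x'' : 𝒳.obj} (b : x'' ⟶ D.obj r) (hb : 𝒳.p.IsHomLift g b) :
    mloc hp hSR D x hx c hc r g hg b hb ≫ pbHom hp x hx r.obj =
      b0 hp hSR D r g hg b hb ≫ c (sOf r g hg) :=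
  FG.lift_fac hp _ _ _ _ _ _ _

theorem mloc_congr (r : (Stk.sieveCat R).obj) {W : C} {g g' : W ⟶ r.obj.left} (hgg' : g = g')
    (hg : S (g ≫ r.obj.hom)) (hg' : S (g' ≫ r.obj.hom)) {x'' : 𝒳.obj} {b b' : x'' ⟶ D.obj r}
    (hbb' : b = b') (hb : 𝒳.p.IsHomLift g b) (hb' : 𝒳.p.IsHomLift g' b') :
    mloc hp hSR D x hx c hc r g hg b hb = mloc hp hSR D x hx c hc r g' hg' b' hb' := by
  subst hgg' hbb'
  rfl

include hcomp in
/-- The key formula. -/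
theorem mloc_key (r : (Stk.sieveCat R).obj) (s : (Stk.sieveCat S).obj)
    (γ' : (inclLE hSR).obj s ⟶ r) {W : C} (g' : W ⟶ s.obj.left) {x'' : 𝒳.obj}
    (b' : x'' ⟶ D.obj ((inclLE hSR).obj s)) (hb' : 𝒳.p.IsHomLift g' b')
    (hg : S ((g' ≫ γ'.hom.left) ≫ r.obj.hom))
    (hb : 𝒳.p.IsHomLift (g' ≫ γ'.hom.left) (b' ≫ D.map γ')) :
    mloc hp hSR D x hx c hc r (g' ≫ γ'.hom.left) hg (b' ≫ D.map γ') hb ≫ pbHom hp x hx r.obj =
      b' ≫ c s := by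
  rw [mloc_fac]
  have hw : γ'.hom.left ≫ r.obj.hom = s.obj.hom := Over.w γ'.hom
  let δ : sOf r (g' ≫ γ'.hom.left) hg ⟶ s :=
    ObjectProperty.homMk (Over.homMk g' (by
      change g' ≫ s.obj.hom = (g' ≫ γ'.hom.left) ≫ r.obj.hom
      rw [Category.assoc, hw]))
  have e1 : (inclLE hSR).map δ ≫ γ' = γOf hSR r (g' ≫ γ'.hom.left) hg := by
    apply ObjectProperty.hom_ext
    apply Over.OverMorphism.ext
    rfl
  have hδl : 𝒳.p.IsHomLift g' (D.map ((inclLE hSR).map δ)) := D_map_lift D ((inclLE hSR).map δ)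
  have hγ'l : 𝒳.p.IsHomLift γ'.hom.left (D.map γ') := D_map_lift D γ'
  have h0 := b0_lift hp hSR D r (g' ≫ γ'.hom.left) hg (b' ≫ D.map γ') hb
  have e2 : b0 hp hSR D r (g' ≫ γ'.hom.left) hg (b' ≫ D.map γ') hb ≫
      D.map ((inclLE hSR).map δ) = b' := by
    have h1 : 𝒳.p.IsHomLift g' (b0 hp hSR D r (g' ≫ γ'.hom.left) hg (b' ≫ D.map γ') hb ≫
        D.map ((inclLE hSR).map δ)) := inferInstance
    refine FG.cancel hp γ'.hom.left (D.map γ') hγ'l g' h1 hb' ?_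
    rw [Category.assoc, ← D.map_comp, e1]
    exact b0_fac hp hSR D r (g' ≫ γ'.hom.left) hg (b' ≫ D.map γ') hb
  rw [← hcomp δ, ← Category.assoc, e2]

end Extend

section Extend2

variable {U : C} {S R : Sieve U} (hSR : S ≤ R) (D : Stk.sieveCat R ⥤ᵇ 𝒳)
  (x : 𝒳.obj) (hx : 𝒳.p.obj x = U)
  (c : ∀ s : (Stk.sieveCat S).obj, D.obj ((inclLE hSR).obj s) ⟶ x)
  (hc : ∀ s : (Stk.sieveCat S).obj, 𝒳.p.IsHomLift s.obj.hom (c s))
  (hcomp : ∀ ⦃s s' : (Stk.sieveCat S).obj⦄ (δ : s ⟶ s'),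
    D.map ((inclLE hSR).map δ) ≫ c s' = c s)

include hcomp in
/-- The local matching family. -/
noncomputable def matchLoc (r : (Stk.sieveCat R).obj) :
    MatchFam (S.pullback r.obj.hom) 𝒳 (D.obj r) (pbObj hp x hx r.obj) where
  m := fun _ g _ b hg hb => mloc hp hSR D x hx c hc r g hg b hb
  lift := fun _ g _ b hg hb => mloc_lift hp hSR D x hx c hc r g hg b hb
  compat := fun W W' g g' x' x'' b b' hg hb hb' hbb' => by
    have hg2 : S ((g' ≫ g) ≫ r.obj.hom) := (S.pullback r.obj.hom).downward_closed hg g'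
    have hl1 := mloc_lift hp hSR D x hx c hc r (g' ≫ g) hg2 (b' ≫ b) hbb'
    have hl2 := mloc_lift hp hSR D x hx c hc r g hg b hb
    have hl3 : 𝒳.p.IsHomLift (g' ≫ g) (b' ≫ mloc hp hSR D x hx c hc r g hg b hb) := inferInstance
    refine FG.cancel hp r.obj.hom (pbHom hp x hx r.obj) (pbHom_isHomLift hp x hx r.obj)
      (g' ≫ g) hl1 hl3 ?_
    -- use the key formula with `s = sOf r g`
    have h0 := b0_lift hp hSR D r g hg b hb
    have hb0 : 𝒳.p.IsHomLift (g' ≫ 𝟙 W) (b' ≫ b0 hp hSR D r g hg b hb) := inferInstance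
    have hb0' : 𝒳.p.IsHomLift g' (b' ≫ b0 hp hSR D r g hg b hb) := by
      simpa using hb0
    have hg3 : S ((g' ≫ (γOf hSR r g hg).hom.left) ≫ r.obj.hom) := hg2
    have e1 : (b' ≫ b0 hp hSR D r g hg b hb) ≫ D.map (γOf hSR r g hg) = b' ≫ b := by
      rw [Category.assoc, b0_fac]
    have hb3 : 𝒳.p.IsHomLift (g' ≫ (γOf hSR r g hg).hom.left)
        ((b' ≫ b0 hp hSR D r g hg b hb) ≫ D.map (γOf hSR r g hg)) := by
      rw [e1]; exact hbb'
    have key := mloc_key hp hSR D x hx c hc hcomp r (sOf r g hg) (γOf hSR r g hg) g'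
      (b' ≫ b0 hp hSR D r g hg b hb) hb0' hg3 hb3
    have hL : mloc hp hSR D x hx c hc r (g' ≫ g) hg2 (b' ≫ b) hbb' ≫ pbHom hp x hx r.obj =
        (b' ≫ b0 hp hSR D r g hg b hb) ≫ c (sOf r g hg) := by
      rw [← key]
      congr 1
      exact mloc_congr hp hSR D x hx c hc r rfl _ _ e1.symm _ _
    have hR : (b' ≫ mloc hp hSR D x hx c hc r g hg b hb) ≫ pbHom hp x hx r.obj =
        (b' ≫ b0 hp hSR D r g hg b hb) ≫ c (sOf r g hg) := by
      rw [Category.assoc, mloc_fac, Category.assoc]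
    exact hL.trans hR.symm

include hp hx hc hcomp in
theorem effective_extend (hg : ∀ ⦃V : C⦄ (f : V ⟶ U), R f → GlueMor (S.pullback f) 𝒳)
    (hu : ∀ ⦃V : C⦄ (f : V ⟶ U), R f → UniqMor (S.pullback f) 𝒳) :
    ∃ (c' : ∀ r : (Stk.sieveCat R).obj, D.obj r ⟶ x),
      (∀ r, 𝒳.p.IsHomLift r.obj.hom (c' r)) ∧
        ∀ ⦃r r' : (Stk.sieveCat R).obj⦄ (k : r ⟶ r'), D.map k ≫ c' r' = c' r := by
  have hglue : ∀ r : (Stk.sieveCat R).obj, ∃ ρ : D.obj r ⟶ pbObj hp x hx r.obj,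
      𝒳.p.IsHomLift (𝟙 r.obj.left) ρ ∧
      ∀ ⦃W : C⦄ (g : W ⟶ r.obj.left) ⦃x'' : 𝒳.obj⦄ (b : x'' ⟶ D.obj r)
        (hg' : S (g ≫ r.obj.hom)) (hb : 𝒳.p.IsHomLift g b),
        b ≫ ρ = mloc hp hSR D x hx c hc r g hg' b hb := fun r =>
    hg r.obj.hom r.property (D.obj r) (pbObj hp x hx r.obj) (D.w_obj r) (p_pbObj hp x hx r.obj)
      (matchLoc hp hSR D x hx c hc hcomp r)
  choose ρ hρl hρ using hglue
  have hc'l : ∀ r : (Stk.sieveCat R).obj, 𝒳.p.IsHomLift r.obj.hom (ρ r ≫ pbHom hp x hx r.obj) := by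
    intro r
    have h1 := hρl r
    have h2 := pbHom_isHomLift hp x hx r.obj
    infer_instance
  refine ⟨fun r => ρ r ≫ pbHom hp x hx r.obj, hc'l, ?_⟩
  intro r' r k
  -- both sides lie over `r'.obj.hom`
  have hw : k.hom.left ≫ r.obj.hom = r'.obj.hom := Over.w k.hom
  have hkl : 𝒳.p.IsHomLift k.hom.left (D.map k) := D_map_lift D k
  have h1 : 𝒳.p.IsHomLift (k.hom.left ≫ r.obj.hom) (D.map k ≫ ρ r ≫ pbHom hp x hx r.obj) := by
    have := hc'l r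
    infer_instance
  rw [hw] at h1
  refine uniq_over hp (S.pullback r'.obj.hom) (hu r'.obj.hom r'.property) r'.obj.hom _ _ h1
    (hc'l r') ?_
  intro W g x'' b hg' hb
  have hgS : S (g ≫ r'.obj.hom) := hg'
  have h0 := b0_lift hp hSR D r' g hgS b hb
  have hR : b ≫ ρ r' ≫ pbHom hp x hx r'.obj =
      b0 hp hSR D r' g hgS b hb ≫ c (sOf r' g hgS) := by
    rw [← Category.assoc, hρ r' g b hgS hb, mloc_fac]
  have hbk : 𝒳.p.IsHomLift (g ≫ k.hom.left) (b ≫ D.map k) := inferInstance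
  have hgS2 : S ((g ≫ k.hom.left) ≫ r.obj.hom) := by
    rw [Category.assoc, hw]; exact hgS
  have e1 : b0 hp hSR D r' g hgS b hb ≫ D.map (γOf hSR r' g hgS ≫ k) = b ≫ D.map k := by
    rw [D.map_comp, ← Category.assoc, b0_fac]
  have hleft : (γOf hSR r' g hgS ≫ k).hom.left = g ≫ k.hom.left := rfl
  have hgS3 : S ((𝟙 W ≫ (γOf hSR r' g hgS ≫ k).hom.left) ≫ r.obj.hom) := by
    rw [hleft, Category.id_comp]; exact hgS2
  have hb3 : 𝒳.p.IsHomLift (𝟙 W ≫ (γOf hSR r' g hgS ≫ k).hom.left)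
      (b0 hp hSR D r' g hgS b hb ≫ D.map (γOf hSR r' g hgS ≫ k)) := by
    rw [e1, hleft, Category.id_comp]; exact hbk
  have key := mloc_key hp hSR D x hx c hc hcomp r (sOf r' g hgS) (γOf hSR r' g hgS ≫ k) (𝟙 W)
    (b0 hp hSR D r' g hgS b hb) h0 hgS3 hb3
  have hL : b ≫ D.map k ≫ ρ r ≫ pbHom hp x hx r.obj =
      b0 hp hSR D r' g hgS b hb ≫ c (sOf r' g hgS) := by
    rw [← Category.assoc, ← Category.assoc, hρ r (g ≫ k.hom.left) (b ≫ D.map k) hgS2 hbk, ← key]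
    congr 1
    exact mloc_congr hp hSR D x hx c hc r (by rw [hleft, Category.id_comp]) _ _ e1.symm _ _
  exact hL.trans hR.symm

end Extend2

section Main

variable {U : C} {S R : Sieve U}

include hp in
theorem effective_of_le (hSR : S ≤ R) (he : Effective S 𝒳)
    (hg : ∀ ⦃V : C⦄ (f : V ⟶ U), R f → GlueMor (S.pullback f) 𝒳)
    (hu : ∀ ⦃V : C⦄ (f : V ⟶ U), R f → UniqMor (S.pullback f) 𝒳) : Effective R 𝒳 := by
  intro D
  obtain ⟨x, c, hx, hc, hcomp⟩ := he (BasedFunctor.comp (inclLE hSR) D)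
  obtain ⟨c', hc', hcomp'⟩ := effective_extend hp hSR D x hx c hc hcomp hg hu
  exact ⟨x, c', hx, hc', hcomp'⟩

include hp in
theorem isStackFor_of_le (hSR : S ≤ R) (hS : Stk.IsStackFor S 𝒳)
    (hR : ∀ ⦃V : C⦄ (f : V ⟶ U), R f → Stk.IsPrestackFor (S.pullback f) 𝒳) :
    Stk.IsStackFor R 𝒳 := by
  obtain ⟨us, gs, es⟩ := (isStackFor_iff S hp).1 hS
  have hu : ∀ ⦃V : C⦄ (f : V ⟶ U), R f → UniqMor (S.pullback f) 𝒳 :=
    fun V f hf => ((isPrestackFor_iff _ hp).1 (hR f hf)).1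
  have hg : ∀ ⦃V : C⦄ (f : V ⟶ U), R f → GlueMor (S.pullback f) 𝒳 :=
    fun V f hf => ((isPrestackFor_iff _ hp).1 (hR f hf)).2
  exact (isStackFor_iff R hp).2 ⟨uniqMor_of_le hSR us, glueMor_of_le hp hSR gs hu,
    effective_of_le hp hSR es hg hu⟩

end Main

end Groth.Agent.Lib.Helper27.StackRefine
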