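import Groth.Prelude.Def_StGerb2
import Groth.Agent.Lib.Helper27.GerbEquiv
import Groth.Agent.Lib.Helper27.StackRefine

/-!
# The band of an abelian gerbe (helper27)

For a gerbe `𝒮` over a site all of whose automorphism groups over identities are commutative, we
build a sheaf of abelian groups `G` with a banding `G(U) ≃* Aut_U(x)`.
-/

set_option autoImplicit false
set_option backward.isDefEq.respectTransparency false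
set_option backward.isDefEq.respectTransparency.types false

universe v₃ u₃ v₂ u₂ v u

open CategoryTheory Opposite Groth.Agent.Lib.Helper27.DescentKit
  Groth.Agent.Lib.Helper16.FpFibGrpd Groth.Agent.Lib.Helper27.GerbEquiv

namespace Groth.Agent.Lib.Helper27.GerbBand

variable {C : Type u} [Category.{v} C] (J : GrothendieckTopology C)
  {𝒮 : BasedCategory.{v₂, u₂} C}

section Pull

variable (h𝒮 : FibCat.IsFibGrpd 𝒮.p)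

theorem pull_aux {x₀ x : 𝒮.obj} (φ : x₀ ⟶ x) (α : Gerb.AutO x) :
    𝒮.p.IsHomLift (𝒮.p.map φ) (φ ≫ α.hom.1) := by
  have h1 : 𝒮.p.IsHomLift (𝟙 (𝒮.p.obj x)) α.hom.1 := α.hom.2
  have : 𝒮.p.IsHomLift (𝒮.p.map φ ≫ 𝟙 _) (φ ≫ α.hom.1) := inferInstance
  rwa [Category.comp_id] at this

/-- The pullback of an automorphism over the identity along a morphism. -/
noncomputable def pullA {x₀ x : 𝒮.obj} (φ : x₀ ⟶ x) (α : Gerb.AutO x) : Gerb.AutO x₀ :=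
  mkAut h𝒮 x₀
    (FG.lift h𝒮 (𝒮.p.map φ) φ inferInstance (𝟙 _) (Category.id_comp _).symm (φ ≫ α.hom.1)
      (pull_aux φ α))
    (FG.lift_isHomLift h𝒮 _ _ _ _ _ _ _)

theorem pullA_fac {x₀ x : 𝒮.obj} (φ : x₀ ⟶ x) (α : Gerb.AutO x) :
    (pullA h𝒮 φ α).hom.1 ≫ φ = φ ≫ α.hom.1 :=
  FG.lift_fac h𝒮 (𝒮.p.map φ) φ inferInstance (𝟙 _) (Category.id_comp _).symm (φ ≫ α.hom.1)
      (pull_aux φ α)

theorem pullA_uniq {x₀ x : 𝒮.obj} (φ : x₀ ⟶ x) (α : Gerb.AutO x) (β : Gerb.AutO x₀)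
    (h : β.hom.1 ≫ φ = φ ≫ α.hom.1) : β = pullA h𝒮 φ α := by
  apply Aut.ext; apply Functor.Fiber.hom_ext
  exact FG.lift_uniq h𝒮 (𝒮.p.map φ) φ inferInstance (𝟙 _) (Category.id_comp _).symm
    (φ ≫ α.hom.1) (pull_aux φ α) β.hom.1 β.hom.2 h

theorem mul_hom {x : 𝒮.obj} (α β : Gerb.AutO x) : (α * β).hom.1 = β.hom.1 ≫ α.hom.1 := rfl

theorem one_hom {x : 𝒮.obj} : (1 : Gerb.AutO x).hom.1 = 𝟙 x := rfl

theorem pullA_mul {x₀ x : 𝒮.obj} (φ : x₀ ⟶ x) (α β : Gerb.AutO x) :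
    pullA h𝒮 φ (α * β) = pullA h𝒮 φ α * pullA h𝒮 φ β := by
  symm
  apply pullA_uniq
  rw [mul_hom, mul_hom, Category.assoc, pullA_fac, ← Category.assoc, pullA_fac, Category.assoc]

theorem pullA_comp {x₁ x₀ x : 𝒮.obj} (ψ : x₁ ⟶ x₀) (φ : x₀ ⟶ x) (α : Gerb.AutO x) :
    pullA h𝒮 (ψ ≫ φ) α = pullA h𝒮 ψ (pullA h𝒮 φ α) := by
  symm
  apply pullA_uniq
  rw [← Category.assoc, pullA_fac, Category.assoc, pullA_fac, Category.assoc]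

/-- With commutative automorphism groups, the pullback only depends on the base morphism. -/
theorem pullA_indep (hcomm : ∀ (x : 𝒮.obj) (α β : Gerb.AutO x), α * β = β * α)
    {x₀ x : 𝒮.obj} (φ φ' : x₀ ⟶ x) (hφ : 𝒮.p.map φ = 𝒮.p.map φ') (α : Gerb.AutO x) :
    pullA h𝒮 φ α = pullA h𝒮 φ' α := by
  have hl : 𝒮.p.IsHomLift (𝒮.p.map φ) φ' := by rw [hφ]; infer_instance
  have hl0 : 𝒮.p.IsHomLift (𝒮.p.map φ) φ := inferInstance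
  obtain ⟨δ₀, hδl, hδfac⟩ : ∃ δ₀ : x₀ ⟶ x₀, 𝒮.p.IsHomLift (𝟙 (𝒮.p.obj x₀)) δ₀ ∧ δ₀ ≫ φ = φ' :=
    ⟨_, FG.lift_isHomLift h𝒮 _ φ hl0 (𝟙 _) (Category.id_comp _).symm φ' hl,
      FG.lift_fac h𝒮 _ φ hl0 (𝟙 _) (Category.id_comp _).symm φ' hl⟩
  let δ : Gerb.AutO x₀ := mkAut h𝒮 x₀ δ₀ hδl
  apply pullA_uniq
  have hc := hcomm x₀ (pullA h𝒮 φ α) δ
  have hc' : δ₀ ≫ (pullA h𝒮 φ α).hom.1 = (pullA h𝒮 φ α).hom.1 ≫ δ₀ :=
    congrArg (fun t : Gerb.AutO x₀ => t.hom.1) hc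
  rw [← hδfac, ← Category.assoc, ← hc', Category.assoc, pullA_fac, Category.assoc]

end Pull

section Transport

variable (h𝒮 : Stk.IsStack J 𝒮) (hg : Gerb.LocSurjHom J (FibCat.toSelf 𝒮))
  (hcomm : ∀ (x : 𝒮.obj) (α β : Gerb.AutO x), α * β = β * α)

/-- `α'` is the transport of `α ∈ Aut(x)` to `x'` along `f : p x' ⟶ p x`. -/
def IsTransport (x : 𝒮.obj) (α : Gerb.AutO x) (x' : 𝒮.obj) (f : 𝒮.p.obj x' ⟶ 𝒮.p.obj x)
    (α' : Gerb.AutO x') : Prop :=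
  ∀ (x₀ : 𝒮.obj) (φ₁ : x₀ ⟶ x') (φ₂ : x₀ ⟶ x), 𝒮.p.map φ₂ = 𝒮.p.map φ₁ ≫ f →
    pullA h𝒮.1 φ₁ α' = pullA h𝒮.1 φ₂ α

include h𝒮 hg in
/-- Local existence of common pullbacks. -/
theorem exists_local_common (x x' : 𝒮.obj) (f : 𝒮.p.obj x' ⟶ 𝒮.p.obj x) :
    ∃ R ∈ J (𝒮.p.obj x'), ∀ ⦃V : C⦄ (h : V ⟶ 𝒮.p.obj x'), R h →
      ∀ ⦃z : 𝒮.obj⦄ (a : z ⟶ x'), 𝒮.p.IsHomLift h a →
        ∃ c : z ⟶ x, 𝒮.p.map c = 𝒮.p.map a ≫ f := by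
  let xf := pbObj h𝒮.1 x rfl (Over.mk f)
  let σ : xf ⟶ x := pbHom h𝒮.1 x rfl (Over.mk f)
  have hσ : 𝒮.p.IsHomLift f σ := pbHom_isHomLift h𝒮.1 x rfl (Over.mk f)
  have hxf : 𝒮.p.obj xf = 𝒮.p.obj x' := p_pbObj h𝒮.1 x rfl (Over.mk f)
  obtain ⟨R, hR, h⟩ := exists_local_iso J h𝒮 hg x' xf rfl hxf
  refine ⟨R, hR, fun V k hk z a ha => ?_⟩
  obtain ⟨x₀, φ₁, φ₂, hφ₁, hφ₂⟩ := h k hk
  obtain ⟨θ, hθl, hθfac⟩ : ∃ θ : z ⟶ x₀, 𝒮.p.IsHomLift (𝟙 V) θ ∧ θ ≫ φ₁ = a :=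
    ⟨_, FG.lift_isHomLift h𝒮.1 k φ₁ hφ₁ (𝟙 V) (Category.id_comp _).symm a ha,
      FG.lift_fac h𝒮.1 k φ₁ hφ₁ (𝟙 V) (Category.id_comp _).symm a ha⟩
  refine ⟨θ ≫ φ₂ ≫ σ, ?_⟩
  have l1 : 𝒮.p.IsHomLift (k ≫ f) (θ ≫ φ₂ ≫ σ) := by
    have : 𝒮.p.IsHomLift (𝟙 V ≫ k ≫ f) (θ ≫ φ₂ ≫ σ) := inferInstance
    rwa [Category.id_comp] at this
  have e1 := IsHomLift.fac' 𝒮.p (k ≫ f) (θ ≫ φ₂ ≫ σ)
  have e2 := IsHomLift.fac' 𝒮.p k a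
  rw [e1, e2]
  simp

include hg in
theorem transport_unique (x : 𝒮.obj) (α : Gerb.AutO x) (x' : 𝒮.obj)
    (f : 𝒮.p.obj x' ⟶ 𝒮.p.obj x) (α' α'' : Gerb.AutO x')
    (h' : IsTransport J h𝒮 x α x' f α') (h'' : IsTransport J h𝒮 x α x' f α'') : α' = α'' := by
  obtain ⟨R, hR, h⟩ := exists_local_common J h𝒮 hg x x' f
  have hst := (isStackFor_iff R h𝒮.1).1 (h𝒮.2 R hR)
  apply Aut.ext; apply Functor.Fiber.hom_ext
  refine hst.1 x' x' α'.hom.1 α''.hom.1 α'.hom.2 α''.hom.2 (fun V k z a hk ha => ?_)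
  obtain ⟨c, hc⟩ := h k hk a ha
  have e1 := h' z a c hc
  have e2 := h'' z a c hc
  rw [← pullA_fac h𝒮.1 a α', ← pullA_fac h𝒮.1 a α'', e1, e2]

include hg hcomm in
theorem transport_exists (x : 𝒮.obj) (α : Gerb.AutO x) (x' : 𝒮.obj)
    (f : 𝒮.p.obj x' ⟶ 𝒮.p.obj x) : ∃ α' : Gerb.AutO x', IsTransport J h𝒮 x α x' f α' := by
  obtain ⟨R, hR, h⟩ := exists_local_common J h𝒮 hg x x' f
  have hst := (isStackFor_iff R h𝒮.1).1 (h𝒮.2 R hR)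
  choose c hc using h
  let M : MatchFam R 𝒮 x' x' :=
    { m := fun V k z a hk ha => (pullA h𝒮.1 (c k hk a ha) α).hom.1 ≫ a
      lift := fun V k z a hk ha => by
        have hV : 𝒮.p.obj z = V := IsHomLift.domain_eq 𝒮.p k a
        have h1 : 𝒮.p.IsHomLift (𝟙 V) (pullA h𝒮.1 (c k hk a ha) α).hom.1 :=
          FpFibered.lift_id_congr 𝒮.p hV _ (pullA h𝒮.1 (c k hk a ha) α).hom.2
        have : 𝒮.p.IsHomLift (𝟙 V ≫ k) ((pullA h𝒮.1 (c k hk a ha) α).hom.1 ≫ a) :=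
          inferInstance
        rwa [Category.id_comp] at this
      compat := fun V W k l z z' a b hk ha hb hba => by
        have e : pullA h𝒮.1 (c (l ≫ k) (R.downward_closed hk l) (b ≫ a) hba) α =
            pullA h𝒮.1 (b ≫ c k hk a ha) α := by
          apply pullA_indep h𝒮.1 hcomm
          rw [hc, 𝒮.p.map_comp, 𝒮.p.map_comp, hc, Category.assoc]
        rw [e, pullA_comp, ← Category.assoc, pullA_fac, Category.assoc] }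
  obtain ⟨α₀, hα₀l, hα₀⟩ := hst.2.1 x' x' rfl rfl M
  let α' : Gerb.AutO x' := mkAut h𝒮.1 x' α₀ hα₀l
  refine ⟨α', fun x₀ φ₁ φ₂ hφ => ?_⟩
  -- compare on the pulled back sieve
  have hR' : R.pullback (𝒮.p.map φ₁) ∈ J (𝒮.p.obj x₀) := J.pullback_stable _ hR
  have hst' := (isStackFor_iff _ h𝒮.1).1 (h𝒮.2 _ hR')
  apply Aut.ext; apply Functor.Fiber.hom_ext
  refine hst'.1 x₀ x₀ (pullA h𝒮.1 φ₁ α').hom.1 (pullA h𝒮.1 φ₂ α).hom.1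
    (pullA h𝒮.1 φ₁ α').hom.2 (pullA h𝒮.1 φ₂ α).hom.2 (fun V k w b hk hb => ?_)
  have hbφ : 𝒮.p.IsHomLift (k ≫ 𝒮.p.map φ₁) (b ≫ φ₁) := inferInstance
  have hk' : R (k ≫ 𝒮.p.map φ₁) := hk
  have e1 : pullA h𝒮.1 (b ≫ φ₁) α' = pullA h𝒮.1 (b ≫ φ₂) α := by
    symm
    apply pullA_uniq
    have := hα₀ (k ≫ 𝒮.p.map φ₁) (b ≫ φ₁) hk' hbφ
    change (b ≫ φ₁) ≫ α₀ = (pullA h𝒮.1 (c _ hk' (b ≫ φ₁) hbφ) α).hom.1 ≫ (b ≫ φ₁) at this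
    change (pullA h𝒮.1 (b ≫ φ₂) α).hom.1 ≫ b ≫ φ₁ = (b ≫ φ₁) ≫ α₀
    rw [this]
    have e0 : pullA h𝒮.1 (b ≫ φ₂) α = pullA h𝒮.1 (c _ hk' (b ≫ φ₁) hbφ) α := by
      apply pullA_indep h𝒮.1 hcomm
      rw [hc, 𝒮.p.map_comp, 𝒮.p.map_comp, hφ, Category.assoc]
    rw [e0]
  rw [← pullA_fac h𝒮.1 b, ← pullA_fac h𝒮.1 b, ← pullA_comp, ← pullA_comp, e1]

end Transport


section Band

variable (𝒮)

theorem hom_inv_val {x : 𝒮.obj} (α : Gerb.AutO x) : α.hom.1 ≫ α.inv.1 = 𝟙 x :=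
  congrArg Subtype.val α.hom_inv_id

theorem inv_hom_val {x : 𝒮.obj} (α : Gerb.AutO x) : α.inv.1 ≫ α.hom.1 = 𝟙 x :=
  congrArg Subtype.val α.inv_hom_id

theorem inv_hom {x : 𝒮.obj} (α : Gerb.AutO x) : (α⁻¹).hom.1 = α.inv.1 := rfl

/-- The sections of the band over `U`: natural families of automorphisms over identities of all
objects over `U`. -/
def Gsub (U : C) : Subgroup (∀ (x : 𝒮.obj), (𝒮.p.obj x ⟶ U) → Gerb.AutO x) where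
  carrier := {a | ∀ ⦃x' x : 𝒮.obj⦄ (φ : x' ⟶ x) (f : 𝒮.p.obj x ⟶ U),
    (a x' (𝒮.p.map φ ≫ f)).hom.1 ≫ φ = φ ≫ (a x f).hom.1}
  mul_mem' := by
    intro a b ha hb x' x φ f
    change ((a x' _) * (b x' _)).hom.1 ≫ φ = φ ≫ ((a x f) * (b x f)).hom.1
    rw [mul_hom, mul_hom, Category.assoc, ha φ f, ← Category.assoc, hb φ f, Category.assoc]
  one_mem' := by
    intro x' x φ f
    change 𝟙 x' ≫ φ = φ ≫ 𝟙 x
    rw [Category.id_comp, Category.comp_id]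
  inv_mem' := by
    intro a ha x' x φ f
    change (a x' _)⁻¹.hom.1 ≫ φ = φ ≫ (a x f)⁻¹.hom.1
    rw [inv_hom, inv_hom]
    have h1 := ha φ f
    calc (a x' (𝒮.p.map φ ≫ f)).inv.1 ≫ φ
        = (a x' (𝒮.p.map φ ≫ f)).inv.1 ≫ φ ≫ (a x f).hom.1 ≫ (a x f).inv.1 := by
          rw [hom_inv_val, Category.comp_id]
      _ = (a x' (𝒮.p.map φ ≫ f)).inv.1 ≫ ((a x' (𝒮.p.map φ ≫ f)).hom.1 ≫ φ) ≫
            (a x f).inv.1 := by rw [h1, Category.assoc]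
      _ = φ ≫ (a x f).inv.1 := by
          rw [Category.assoc, ← Category.assoc, inv_hom_val, Category.id_comp]

variable {𝒮}

theorem Gsub_nat {U : C} (a : Gsub 𝒮 U) ⦃x' x : 𝒮.obj⦄ (φ : x' ⟶ x) (f : 𝒮.p.obj x ⟶ U) :
    (a.1 x' (𝒮.p.map φ ≫ f)).hom.1 ≫ φ = φ ≫ (a.1 x f).hom.1 := a.2 φ f

theorem Gsub_ext {U : C} (a b : Gsub 𝒮 U) (h : ∀ x f, a.1 x f = b.1 x f) : a = b := by
  apply Subtype.ext; funext x f; exact h x f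

/-- Restriction of sections of the band. -/
def restr {U V : C} (k : V ⟶ U) : Gsub 𝒮 U →* Gsub 𝒮 V where
  toFun a := ⟨fun x f' => a.1 x (f' ≫ k), by
    intro x' x φ f'
    change (a.1 x' ((𝒮.p.map φ ≫ f') ≫ k)).hom.1 ≫ φ = φ ≫ (a.1 x (f' ≫ k)).hom.1
    rw [Category.assoc]
    exact a.2 φ (f' ≫ k)⟩
  map_one' := rfl
  map_mul' _ _ := rfl

@[simp] theorem restr_apply {U V : C} (k : V ⟶ U) (a : Gsub 𝒮 U) (x : 𝒮.obj)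
    (f' : 𝒮.p.obj x ⟶ V) : (restr k a).1 x f' = a.1 x (f' ≫ k) := rfl

variable (𝒮) in
/-- The band, as a presheaf of groups. -/
def Gpsh : Cᵒᵖ ⥤ GrpCat.{max u₂ v v₂} where
  obj U := GrpCat.of (Gsub 𝒮 U.unop)
  map k := GrpCat.ofHom (restr k.unop)
  map_id U := by
    apply GrpCat.hom_ext
    apply MonoidHom.ext
    intro a
    apply Gsub_ext
    intro x f
    change a.1 x (f ≫ 𝟙 _) = a.1 x f
    rw [Category.comp_id]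
  map_comp k l := by
    apply GrpCat.hom_ext
    apply MonoidHom.ext
    intro a
    apply Gsub_ext
    intro x f
    change a.1 x (f ≫ l.unop ≫ k.unop) = a.1 x ((f ≫ l.unop) ≫ k.unop)
    rw [Category.assoc]

theorem Gsub_comm (hcomm : ∀ (x : 𝒮.obj) (α β : Gerb.AutO x), α * β = β * α) (U : C)
    (a b : Gsub 𝒮 U) : a * b = b * a := by
  apply Gsub_ext
  intro x f
  exact hcomm x _ _

/-- Evaluation of a section of the band at an object. -/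
def ev (x : 𝒮.obj) : Gsub 𝒮 (𝒮.p.obj x) →* Gerb.AutO x where
  toFun a := a.1 x (𝟙 _)
  map_one' := rfl
  map_mul' _ _ := rfl

variable (h𝒮 : Stk.IsStack J 𝒮) (hg : Gerb.LocSurjHom J (FibCat.toSelf 𝒮))
  (hcomm : ∀ (x : 𝒮.obj) (α β : Gerb.AutO x), α * β = β * α)

theorem isTransport_of_mem (x : 𝒮.obj) (a : Gsub 𝒮 (𝒮.p.obj x)) (x' : 𝒮.obj)
    (f : 𝒮.p.obj x' ⟶ 𝒮.p.obj x) : IsTransport J h𝒮 x (a.1 x (𝟙 _)) x' f (a.1 x' f) := by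
  intro x₀ φ₁ φ₂ hφ
  have e1 : a.1 x₀ (𝒮.p.map φ₁ ≫ f) = pullA h𝒮.1 φ₁ (a.1 x' f) :=
    pullA_uniq h𝒮.1 φ₁ _ _ (a.2 φ₁ f)
  have e2 : a.1 x₀ (𝒮.p.map φ₂ ≫ 𝟙 _) = pullA h𝒮.1 φ₂ (a.1 x (𝟙 _)) :=
    pullA_uniq h𝒮.1 φ₂ _ _ (a.2 φ₂ (𝟙 _))
  rw [← e1, ← e2, Category.comp_id, hφ]

include h𝒮 hg in
theorem ev_injective (x : 𝒮.obj) : Function.Injective (ev (𝒮 := 𝒮) x) := by
  intro a b hab
  apply Gsub_ext
  intro x' f
  have h1 := isTransport_of_mem J h𝒮 x a x' f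
  have h2 := isTransport_of_mem J h𝒮 x b x' f
  have hab' : a.1 x (𝟙 _) = b.1 x (𝟙 _) := hab
  rw [hab'] at h1
  exact transport_unique J h𝒮 hg x _ x' f _ _ h1 h2

include h𝒮 hg hcomm in
theorem ev_surjective (x : 𝒮.obj) : Function.Surjective (ev (𝒮 := 𝒮) x) := by
  intro α
  choose t ht using fun (x' : 𝒮.obj) (f : 𝒮.p.obj x' ⟶ 𝒮.p.obj x) =>
    transport_exists J h𝒮 hg hcomm x α x' f
  have hmem : t ∈ Gsub 𝒮 (𝒮.p.obj x) := by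
    intro x'' x' φ f
    have : t x'' (𝒮.p.map φ ≫ f) = pullA h𝒮.1 φ (t x' f) := by
      apply transport_unique J h𝒮 hg x α x'' (𝒮.p.map φ ≫ f) _ _ (ht x'' _)
      intro x₀ φ₁ φ₂ hφ
      rw [← pullA_comp]
      apply ht x' f x₀ (φ₁ ≫ φ) φ₂
      rw [hφ, 𝒮.p.map_comp, Category.assoc]
    rw [this, pullA_fac]
  refine ⟨⟨t, hmem⟩, ?_⟩
  change t x (𝟙 _) = α
  apply transport_unique J h𝒮 hg x α x (𝟙 _) _ _ (ht x _)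
  intro x₀ φ₁ φ₂ hφ
  apply pullA_indep h𝒮.1 hcomm
  rw [hφ, Category.comp_id]

/-- The banding isomorphisms. -/
noncomputable def evEquiv (x : 𝒮.obj) : Gsub 𝒮 (𝒮.p.obj x) ≃* Gerb.AutO x :=
  MulEquiv.ofBijective (ev x) ⟨ev_injective J h𝒮 hg x, ev_surjective J h𝒮 hg hcomm x⟩

@[simp] theorem evEquiv_apply (x : 𝒮.obj) (a : Gsub 𝒮 (𝒮.p.obj x)) :
    evEquiv J h𝒮 hg hcomm x a = a.1 x (𝟙 _) := rfl

/-- The banding of `𝒮` by its band. -/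
noncomputable def banding : Gerb.Banding 𝒮 (Gpsh 𝒮) where
  iso x := evEquiv J h𝒮 hg hcomm x
  natural {x' x} φ a := by
    change ((restr (𝒮.p.map φ) a).1 x' (𝟙 _)).hom.1 ≫ φ = φ ≫ (a.1 x (𝟙 _)).hom.1
    rw [restr_apply, Category.id_comp, ← Category.comp_id (𝒮.p.map φ)]
    exact a.2 φ (𝟙 _)

end Band


section Sheaf

variable (h𝒮 : Stk.IsStack J 𝒮)

theorem s_congr {U : C} (R : Sieve U) (s : ∀ ⦃Y : C⦄ (f : Y ⟶ U), R f → Gsub 𝒮 Y)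
    ⦃Y : C⦄ (k k' : Y ⟶ U) (hk : R k) (hk' : R k') (e : k = k') : s k hk = s k' hk' := by
  subst e; rfl

theorem arg_congr {U : C} (a : Gsub 𝒮 U) (x : 𝒮.obj) (f f' : 𝒮.p.obj x ⟶ U) (e : f = f') :
    a.1 x f = a.1 x f' := by
  subst e; rfl

include h𝒮 in
theorem glue_section {U : C} (R : Sieve U) (hR : R ∈ J U)
    (s : ∀ ⦃Y : C⦄ (f : Y ⟶ U), R f → Gsub 𝒮 Y)
    (C2 : ∀ ⦃Y Z : C⦄ (k : Y ⟶ U) (g : Z ⟶ Y) (hk : R k) (x : 𝒮.obj) (f'' : 𝒮.p.obj x ⟶ Z),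
      (s (g ≫ k) (R.downward_closed hk g)).1 x f'' = (s k hk).1 x (f'' ≫ g))
    (x : 𝒮.obj) (f : 𝒮.p.obj x ⟶ U) :
    ∃ α : Gerb.AutO x, ∀ ⦃z : 𝒮.obj⦄ (a : z ⟶ x) (hm : R (𝒮.p.map a ≫ f)),
      a ≫ α.hom.1 = ((s (𝒮.p.map a ≫ f) hm).1 z (𝟙 _)).hom.1 ≫ a := by
  have hR' : R.pullback f ∈ J (𝒮.p.obj x) := J.pullback_stable f hR
  have hst := (isStackFor_iff _ h𝒮.1).1 (h𝒮.2 _ hR')
  have mem : ∀ ⦃V : C⦄ (h : V ⟶ 𝒮.p.obj x) ⦃z : 𝒮.obj⦄ (a : z ⟶ x), (R.pullback f) h →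
      𝒮.p.IsHomLift h a → R (𝒮.p.map a ≫ f) := by
    intro V h z a hh ha
    have e := IsHomLift.fac' 𝒮.p h a
    rw [e]
    simp only [Category.assoc, eqToHom_refl, Category.id_comp]
    exact R.downward_closed hh _
  let M : MatchFam (R.pullback f) 𝒮 x x :=
    { m := fun V h z a hh ha => ((s (𝒮.p.map a ≫ f) (mem h a hh ha)).1 z (𝟙 _)).hom.1 ≫ a
      lift := fun V h z a hh ha => by
        have hV : 𝒮.p.obj z = V := IsHomLift.domain_eq 𝒮.p h a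
        have h1 : 𝒮.p.IsHomLift (𝟙 V) ((s (𝒮.p.map a ≫ f) (mem h a hh ha)).1 z (𝟙 _)).hom.1 :=
          FpFibered.lift_id_congr 𝒮.p hV _ ((s (𝒮.p.map a ≫ f) (mem h a hh ha)).1 z (𝟙 _)).hom.2
        have : 𝒮.p.IsHomLift (𝟙 V ≫ h)
          (((s (𝒮.p.map a ≫ f) (mem h a hh ha)).1 z (𝟙 _)).hom.1 ≫ a) := inferInstance
        rwa [Category.id_comp] at this
      compat := fun V W h l z z' a b hh ha hb hba => by
        have hk : R (𝒮.p.map a ≫ f) := mem h a hh ha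
        have hk' : R (𝒮.p.map (b ≫ a) ≫ f) := mem (l ≫ h) (b ≫ a) ((R.pullback f).downward_closed hh l) hba
        have e1 : s (𝒮.p.map (b ≫ a) ≫ f) hk' =
            s (𝒮.p.map b ≫ 𝒮.p.map a ≫ f) (R.downward_closed hk _) :=
          s_congr R s _ _ _ _ (by rw [𝒮.p.map_comp, Category.assoc])
        have e2 := C2 (𝒮.p.map a ≫ f) (𝒮.p.map b) hk z' (𝟙 _)
        have e3 := (s (𝒮.p.map a ≫ f) hk).2 b (𝟙 _)
        change ((s (𝒮.p.map (b ≫ a) ≫ f) hk').1 z' (𝟙 _)).hom.1 ≫ b ≫ a =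
          b ≫ ((s (𝒮.p.map a ≫ f) hk).1 z (𝟙 _)).hom.1 ≫ a
        rw [e1, e2, Category.id_comp, ← Category.assoc b, ← e3, Category.comp_id, Category.assoc] }
  obtain ⟨α₀, hα₀l, hα₀⟩ := hst.2.1 x x rfl rfl M
  refine ⟨mkAut h𝒮.1 x α₀ hα₀l, fun z a hm => ?_⟩
  have := hα₀ (𝒮.p.map a) a hm inferInstance
  exact this

include h𝒮 in
theorem isSheaf_forget : Presieve.IsSheaf J (Gpsh 𝒮 ⋙ forget GrpCat) := by
  intro U R hR s hs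
  rw [Presieve.compatible_iff_sieveCompatible] at hs
  let s' : ∀ ⦃Y : C⦄ (f : Y ⟶ U), R f → Gsub 𝒮 Y := fun Y f hf => s f hf
  have C2 : ∀ ⦃Y Z : C⦄ (k : Y ⟶ U) (g : Z ⟶ Y) (hk : R k) (x : 𝒮.obj)
      (f'' : 𝒮.p.obj x ⟶ Z),
      (s' (g ≫ k) (R.downward_closed hk g)).1 x f'' = (s' k hk).1 x (f'' ≫ g) := by
    intro Y Z k g hk x f''
    have h2 : s' (g ≫ k) (R.downward_closed hk g) = restr g (s' k hk) := hs k g hk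
    rw [h2]; rfl
  choose A hA using glue_section J h𝒮 R hR s' C2
  have hmem : A ∈ Gsub 𝒮 U := by
    intro x' x φ f
    have hR' : R.pullback (𝒮.p.map φ ≫ f) ∈ J (𝒮.p.obj x') := J.pullback_stable _ hR
    have hst := (isStackFor_iff _ h𝒮.1).1 (h𝒮.2 _ hR')
    have l1 : 𝒮.p.IsHomLift (𝒮.p.map φ) ((A x' (𝒮.p.map φ ≫ f)).hom.1 ≫ φ) := by
      have h1 : 𝒮.p.IsHomLift (𝟙 (𝒮.p.obj x')) (A x' (𝒮.p.map φ ≫ f)).hom.1 :=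
        (A x' (𝒮.p.map φ ≫ f)).hom.2
      have : 𝒮.p.IsHomLift (𝟙 _ ≫ 𝒮.p.map φ) ((A x' (𝒮.p.map φ ≫ f)).hom.1 ≫ φ) :=
        inferInstance
      rwa [Category.id_comp] at this
    have l2 : 𝒮.p.IsHomLift (𝒮.p.map φ) (φ ≫ (A x f).hom.1) := pull_aux φ (A x f)
    refine StackRefine.uniq_over h𝒮.1 _ hst.1 (𝒮.p.map φ) _ _ l1 l2 (fun W g z b hg hb => ?_)
    have hm1 : R (𝒮.p.map b ≫ 𝒮.p.map φ ≫ f) := by
      have e := IsHomLift.fac' 𝒮.p g b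
      rw [e]
      simp only [Category.assoc, eqToHom_refl, Category.id_comp]
      exact R.downward_closed hg _
    have hm2 : R (𝒮.p.map (b ≫ φ) ≫ f) := by
      rw [𝒮.p.map_comp, Category.assoc]; exact hm1
    have e1 := hA x' (𝒮.p.map φ ≫ f) b hm1
    have e2 := hA x f (b ≫ φ) hm2
    have e3 : s' (𝒮.p.map (b ≫ φ) ≫ f) hm2 = s' (𝒮.p.map b ≫ 𝒮.p.map φ ≫ f) hm1 :=
      s_congr R s' _ _ _ _ (by rw [𝒮.p.map_comp, Category.assoc])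
    rw [e3] at e2
    calc b ≫ (A x' (𝒮.p.map φ ≫ f)).hom.1 ≫ φ
        = (b ≫ (A x' (𝒮.p.map φ ≫ f)).hom.1) ≫ φ := (Category.assoc _ _ _).symm
      _ = (((s' (𝒮.p.map b ≫ 𝒮.p.map φ ≫ f) hm1).1 z (𝟙 _)).hom.1 ≫ b) ≫ φ :=
          congrArg (fun t => t ≫ φ) e1
      _ = ((s' (𝒮.p.map b ≫ 𝒮.p.map φ ≫ f) hm1).1 z (𝟙 _)).hom.1 ≫ b ≫ φ :=
          Category.assoc _ _ _
      _ = (b ≫ φ) ≫ (A x f).hom.1 := e2.symm
      _ = b ≫ φ ≫ (A x f).hom.1 := Category.assoc _ _ _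
  have hamalg : ∀ ⦃Y : C⦄ (k : Y ⟶ U) (hk : R k), restr k ⟨A, hmem⟩ = s' k hk := by
    intro Y k hk
    apply Gsub_ext
    intro x f'
    change A x (f' ≫ k) = (s' k hk).1 x f'
    have hm : R (𝒮.p.map (𝟙 x) ≫ f' ≫ k) := by
      rw [𝒮.p.map_id, Category.id_comp]; exact R.downward_closed hk f'
    have e1 := hA x (f' ≫ k) (𝟙 x) hm
    rw [Category.id_comp, Category.comp_id] at e1
    have e2 : s' (𝒮.p.map (𝟙 x) ≫ f' ≫ k) hm = s' (f' ≫ k) (R.downward_closed hk f') :=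
      s_congr R s' _ _ _ _ (by rw [𝒮.p.map_id, Category.id_comp])
    have e3 := C2 k f' hk x (𝟙 _)
    apply Aut.ext; apply Functor.Fiber.hom_ext
    change (A x (f' ≫ k)).hom.1 = ((s' k hk).1 x f').hom.1
    rw [e1, e2, e3, Category.id_comp]
  refine ⟨(⟨A, hmem⟩ : Gsub 𝒮 U), fun Y k hk => hamalg k hk, ?_⟩
  intro B hB
  have hB' : ∀ ⦃Y : C⦄ (k : Y ⟶ U) (hk : R k), restr k (B : Gsub 𝒮 U) = s' k hk :=
    fun Y k hk => hB k hk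
  apply Gsub_ext
  intro x f
  have hR' : R.pullback f ∈ J (𝒮.p.obj x) := J.pullback_stable _ hR
  have hst := (isStackFor_iff _ h𝒮.1).1 (h𝒮.2 _ hR')
  apply Aut.ext; apply Functor.Fiber.hom_ext
  refine hst.1 x x _ _ ((B : Gsub 𝒮 U).1 x f).hom.2 (A x f).hom.2 (fun W g z b hg hb => ?_)
  have hm : R (𝒮.p.map b ≫ f) := by
    have e := IsHomLift.fac' 𝒮.p g b
    rw [e]
    simp only [Category.assoc, eqToHom_refl, Category.id_comp]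
    exact R.downward_closed hg _
  have e1 := (B : Gsub 𝒮 U).2 b f
  have e2 := hmem b f
  have e3 : (B : Gsub 𝒮 U).1 z (𝟙 _ ≫ 𝒮.p.map b ≫ f) = A z (𝟙 _ ≫ 𝒮.p.map b ≫ f) := by
    have h1 : (restr (𝒮.p.map b ≫ f) (B : Gsub 𝒮 U)).1 z (𝟙 _) =
        (restr (𝒮.p.map b ≫ f) ⟨A, hmem⟩).1 z (𝟙 _) := by
      rw [hB' _ hm, hamalg _ hm]
    exact h1
  rw [Category.id_comp] at e3
  change b ≫ ((B : Gsub 𝒮 U).1 x f).hom.1 = b ≫ (A x f).hom.1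
  rw [← e1, ← e2, e3]

end Sheaf

theorem isSheaf {C : Type u} [Category.{v} C] (J : GrothendieckTopology C)
    {𝒮 : BasedCategory.{v, max u v} C} (h𝒮 : Stk.IsStack J 𝒮) :
    Presheaf.IsSheaf J (Gpsh 𝒮) := by
  rw [Presheaf.isSheaf_iff_isSheaf_forget J (Gpsh 𝒮) (forget GrpCat),
    isSheaf_iff_isSheaf_of_type]
  exact isSheaf_forget J h𝒮

end Groth.Agent.Lib.Helper27.GerbBand
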