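import Groth.Agent.Lib.Helper27.FpBaseChange2
import Groth.Agent.Lib.Helper27.LocQComp

/-!
# Base change of chart squares (helper27)
-/

set_option autoImplicit false
set_option backward.isDefEq.respectTransparency false
set_option backward.isDefEq.respectTransparency.types false

universe u

open CategoryTheory CategoryTheory.Limits AlgebraicGeometry Opposite FibCat
  Groth.Agent.Lib.Helper27.FpKit Groth.Agent.Lib.Helper27.PshKit Groth.Agent.Lib.Helper27.PshFp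
  Groth.Agent.Lib.Helper27.PshRep Groth.Agent.Lib.Helper27.RepWithComp
  Groth.Agent.Lib.Helper27.Descent Groth.Agent.Lib.Helper27.LocQChart
  Groth.Agent.Lib.Helper27.LocQSpace Groth.Agent.Lib.Helper27.LocQOver
  Groth.Agent.Lib.Helper27.LocQComp Groth.Agent.Lib.Helper27.FpBaseChange

namespace Groth.Agent.Lib.Helper27.LocQBase

variable {S : Scheme.{u}}

open Stk

variable {𝒳 𝒴 𝒴' : AlgSt.Cat S}

local infixr:80 " ⊚ " => BasedFunctor.comp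

/-- Chart squares are stable under base change, for properties stable under base change. -/
theorem locQ_fpFst (P : MorphismProperty (AlgSp.Sp S)) (hP : AlgSp.IsSmoothLocalST P)
    (hPb : ∀ ⦃X₁ Y₁ X₂ Y₂ : AlgSp.Sp S⦄, AlgSp.IsAlgSpace X₁ → AlgSp.IsAlgSpace Y₁ →
      AlgSp.IsAlgSpace X₂ → AlgSp.IsAlgSpace Y₂ → ∀ (a : X₁ ⟶ Y₁) (b : Y₂ ⟶ Y₁) (a' : X₂ ⟶ Y₂)
      (b' : X₂ ⟶ X₁), IsPullback b' a' a b → P a → P a')
    (h𝒳 : FibCat.IsFibGrpd 𝒳.p) (h𝒴 : FibCat.IsFibGrpd 𝒴.p)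
    (f : 𝒳 ⥤ᵇ 𝒴) (g : 𝒴' ⥤ᵇ 𝒴) {V' : Over S} (y' : overCat V' ⥤ᵇ 𝒴')
    (hy'₁ : AlgSt.RepByAlgSpWith (AlgSp.LocP @Smooth) y')
    (hy'₂ : AlgSt.RepByAlgSpWith AlgSp.IsSurjectiveMor y') (hf : AlgSt.LocQ P f) :
    AlgSt.LocQ P (fpFst g f) := by
  obtain ⟨U, V, x, y, h, α, hx₁, hx₂, hy₁, hPh⟩ := hf
  obtain ⟨B, eB, heB, -⟩ := hy₁ V' (y' ⊚ g)
  have sq : IsPullback (pullback.fst ((AlgSp.yon S).map h) (strV (y' ⊚ g) y eB))
      (pullback.snd ((AlgSp.yon S).map h) (strV (y' ⊚ g) y eB)) ((AlgSp.yon S).map h)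
      (strV (y' ⊚ g) y eB) := IsPullback.of_hasPullback _ _
  have hW : AlgSp.IsAlgSpace (pullback ((AlgSp.yon S).map h) (strV (y' ⊚ g) y eB)) :=
    Groth.Agent.S9874.result S ((AlgSp.yon S).obj V) (AlgSp.IsAlgSpace.yon_obj V).diag
      ⟨(AlgSp.yon S).obj U, AlgSp.IsAlgSpace.yon_obj U⟩ B ((AlgSp.yon S).map h) _ _ _ _ sq
  obtain ⟨fst, hfst⟩ : ∃ fst : pullback ((AlgSp.yon S).map h) (strV (y' ⊚ g) y eB) ⟶
      (AlgSp.yon S).obj U, fst = pullback.fst ((AlgSp.yon S).map h) (strV (y' ⊚ g) y eB) :=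
    ⟨_, rfl⟩
  obtain ⟨snd, hsnd⟩ : ∃ snd : pullback ((AlgSp.yon S).map h) (strV (y' ⊚ g) y eB) ⟶ B.obj,
      snd = pullback.snd ((AlgSp.yon S).map h) (strV (y' ⊚ g) y eB) := ⟨_, rfl⟩
  rw [← hfst, ← hsnd] at sq
  have hPsnd : P snd :=
    hPb (AlgSp.IsAlgSpace.yon_obj U) (AlgSp.IsAlgSpace.yon_obj V) hW B.property
      ((AlgSp.yon S).map h) (strV (y' ⊚ g) y eB) snd fst sq hPh
  have hE₀ : IsEquivOver (E (y' ⊚ g) y h eB sq) := isEquivOver_E (y' ⊚ g) y h eB sq heB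
  have hE₂ : IsEquivOver (E (y' ⊚ g) y h eB sq ⊚
      isoMapSnd (y' ⊚ g) (x ⊚ f) (AlgSt.overMap h ⊚ y) α.symm) :=
    isEquivOver_comp _ _ hE₀ (isEquivOver_isoMapSnd _ _ _ _)
  have hfV' : FibCat.IsFibGrpd (overCat V').p :=
    Groth.Agent.Lib.Helper27.ReprAux.isFibGrpd_overCat V'
  have hfU : FibCat.IsFibGrpd (overCat U).p := Groth.Agent.Lib.Helper27.ReprAux.isFibGrpd_overCat U
  have hfB : FibCat.IsFibGrpd (AlgSt.ofSp B.obj).p := Stk.isFibGrpd_ofPsh (P := B.obj.obj)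
  have hf1 : FibCat.IsFibGrpd (fp (y' ⊚ g) (x ⊚ f)).p :=
    Groth.Agent.Lib.Helper27.FpFib.isFibGrpd_fp _ _ hfV' hfU h𝒴
  have hf2 : FibCat.IsFibGrpd (fp (y' ⊚ g) f).p :=
    Groth.Agent.Lib.Helper27.FpFib.isFibGrpd_fp _ _ hfV' h𝒳 h𝒴
  have hξ : ∀ (R : MorphismProperty (AlgSp.Sp S)), CompHyp R → AlgSt.RepByAlgSpWith R x →
      AlgSt.RepByAlgSpWith R y' →
      AlgSt.RepByAlgSpWith R ((E (y' ⊚ g) y h eB sq ⊚
        isoMapSnd (y' ⊚ g) (x ⊚ f) (AlgSt.overMap h ⊚ y) α.symm) ⊚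
        (mapSnd (y' ⊚ g) f x ⊚ mapFst g f y')) :=
    fun R H hx hy' => repByAlgSpWith_equiv_comp R _ hE₂ _
      (comp_gen R H hf1 hf2 (mapSnd (y' ⊚ g) f x) (mapFst g f y')
        (repByAlgSpWith_mapSnd (y' ⊚ g) f x R hx) (repByAlgSpWith_mapFst g f y' R hy'))
  refine locQ_of_space_charts (fpFst g f) P hP
    ⟨pullback ((AlgSp.yon S).map h) (strV (y' ⊚ g) y eB), hW⟩ B
    ((E (y' ⊚ g) y h eB sq ⊚ isoMapSnd (y' ⊚ g) (x ⊚ f) (AlgSt.overMap h ⊚ y) α.symm) ⊚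
      (mapSnd (y' ⊚ g) f x ⊚ mapFst g f y'))
    ((eB ⊚ fpFst (y' ⊚ g) y) ⊚ y') (ObjectProperty.homMk snd) ?_
    (hξ _ (compHyp_locP Groth.Agent.Lib.Helper3.isEtLocal_smooth) hx₁ hy'₁)
    (hξ _ Groth.Agent.Lib.Helper27.DiagLft.compHyp_isSurjectiveMor hx₂ hy'₂) ?_ hPsnd
  · exact BasedNatIso.mkNatIso
      (NatIso.ofComponents (fun t => Iso.refl _)
        (fun m => (Category.comp_id _).trans (Category.id_comp _).symm))
      (fun t => (Vert.id _).lift (BasedFunctor.w_obj _ t))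
  · exact comp_gen _ (compHyp_locP Groth.Agent.Lib.Helper3.isEtLocal_smooth) hfB hfV'
      (eB ⊚ fpFst (y' ⊚ g) y) y'
      (repByAlgSpWith_equiv_comp _ eB heB _
        (Groth.Agent.Lib.Helper27.RepWithGeneral.repByAlgSpWith_fpFst _ y (y' ⊚ g) hy₁)) hy'₁

end Groth.Agent.Lib.Helper27.LocQBase
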