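import Groth.Agent.Lib.Helper27.LocQRep
import Groth.Agent.S10542

/-!
# One chart square versus all chart squares (helper27)
-/

set_option autoImplicit false
set_option backward.isDefEq.respectTransparency false
set_option backward.isDefEq.respectTransparency.types false

universe u

open CategoryTheory CategoryTheory.Limits AlgebraicGeometry Opposite FibCat
  Groth.Agent.Lib.Helper27.FpKit Groth.Agent.Lib.Helper27.PshKit Groth.Agent.Lib.Helper27.PshFp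
  Groth.Agent.Lib.Helper27.PshRep Groth.Agent.Lib.Helper27.RepWithComp
  Groth.Agent.Lib.Helper27.Descent Groth.Agent.Lib.Helper27.LocQChart
  Groth.Agent.Lib.Helper27.LocQSpace Groth.Agent.Lib.Helper27.LocQOver
  Groth.Agent.Lib.Helper27.LocQComp Groth.Agent.Lib.Helper27.FpBaseChange
  Groth.Agent.Lib.Helper27.DiagTransport Groth.Agent.Lib.Helper27.FpSwap

namespace Groth.Agent.Lib.Helper27.LocQAll

variable {S : Scheme.{u}}

open Stk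

local infixr:80 " ⊚ " => BasedFunctor.comp

section SpMap

theorem spMapOfOver_overMap {F : AlgSp.Sp S} {U V : Over S} (Φ : AlgSt.ofSp F ⥤ᵇ overCat U)
    (h : U ⟶ V) :
    AlgSt.spMapOfOver (Φ ⊚ AlgSt.overMap h) = AlgSt.spMapOfOver Φ ≫ (AlgSp.yon S).map h := by
  apply ObjectProperty.hom_ext
  apply NatTrans.ext
  funext T
  ext z
  obtain ⟨T⟩ := T
  change (⟨AlgSt.secHom (Φ ⊚ AlgSt.overMap h) ⟨T, z⟩⟩ : ULift _) = ⟨AlgSt.secHom Φ ⟨T, z⟩ ≫ h⟩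
  apply ULift.ext
  unfold AlgSt.secHom
  rw [Category.assoc]
  rfl

end SpMap

variable {𝒳 𝒴 : AlgSt.Cat S}

section Lift

variable (f : 𝒳 ⥤ᵇ 𝒴) {U₀ V U : Over S} (x₀ : overCat U₀ ⥤ᵇ 𝒳) (y : overCat V ⥤ᵇ 𝒴)
  (c : overCat U ⥤ᵇ fp (x₀ ⊚ f) y)

/-- The comparison of the canonical lift of the chart over a chart, objectwise. -/
def liftIsoObj (u : (overCat U).obj) :
    (c ⊚ mapFst f y x₀).toFunctor.obj u ≅
      (fpLift ((c ⊚ fpFst (x₀ ⊚ f) y) ⊚ x₀)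
        (AlgSt.overMap (homOf (c ⊚ fpSnd (x₀ ⊚ f) y))) (chartIso f x₀ y c)).toFunctor.obj u :=
  mkIso (t := (c ⊚ mapFst f y x₀).toFunctor.obj u)
    (t' := (fpLift ((c ⊚ fpFst (x₀ ⊚ f) y) ⊚ x₀)
        (AlgSt.overMap (homOf (c ⊚ fpSnd (x₀ ⊚ f) y))) (chartIso f x₀ y c)).toFunctor.obj u)
    (Iso.refl _)
    (((BasedNatTrans.forgetful _ _).mapIso (isoOverMap (c ⊚ fpSnd (x₀ ⊚ f) y))).app u) (by
      have h1 : ((c ⊚ mapFst f y x₀).toFunctor.obj u).obj.iso.hom =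
          (c.toFunctor.obj u).obj.iso.hom := mapFst_iso_hom f y x₀ (c.toFunctor.obj u)
      rw [h1]
      change f.toFunctor.map (𝟙 _) ≫ ((c.toFunctor.obj u).obj.iso.hom ≫ _) = _
      rw [CategoryTheory.Functor.map_id, Category.id_comp]
      rfl)

theorem liftIsoObj_vert (u : (overCat U).obj) : Vert (liftIsoObj f x₀ y c u).hom := by
  rw [vert_hom_iff]
  exact Vert.id _

/-- The canonical lift of the chart over a chart is the chart followed by the base change of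
`x₀`. -/
def liftIso : c ⊚ mapFst f y x₀ ≅
    fpLift ((c ⊚ fpFst (x₀ ⊚ f) y) ⊚ x₀)
      (AlgSt.overMap (homOf (c ⊚ fpSnd (x₀ ⊚ f) y))) (chartIso f x₀ y c) :=
  BasedNatIso.mkNatIso
    (NatIso.ofComponents (fun u => liftIsoObj f x₀ y c u)
      (fun {u u'} m => by
        apply Groth.Agent.Lib.Helper27.StackFp.hom_ext'
        · exact (Category.comp_id _).trans (Category.id_comp _).symm
        · exact (isoOverMap (c ⊚ fpSnd (x₀ ⊚ f) y)).hom.toNatTrans.naturality m))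
    (fun u => (liftIsoObj_vert f x₀ y c u).lift ((c ⊚ mapFst f y x₀).w_obj u))

end Lift

section Exists

/-- A chart square with smooth canonical lift, over given atlases. -/
theorem exists_good_chart (h𝒳 : FibCat.IsFibGrpd 𝒳.p) (h𝒴 : FibCat.IsFibGrpd 𝒴.p) (f : 𝒳 ⥤ᵇ 𝒴)
    {U₀ V : Over S} (x₀ : overCat U₀ ⥤ᵇ 𝒳)
    (hx₀₁ : AlgSt.RepByAlgSpWith (AlgSp.LocP @Smooth) x₀)
    (hx₀₂ : AlgSt.RepByAlgSpWith AlgSp.IsSurjectiveMor x₀) (y : overCat V ⥤ᵇ 𝒴)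
    (hy₁ : AlgSt.RepByAlgSpWith (AlgSp.LocP @Smooth) y)
    (hy₂ : AlgSt.RepByAlgSpWith AlgSp.IsSurjectiveMor y) :
    ∃ (U : Over S) (x : overCat U ⥤ᵇ 𝒳) (h : U ⟶ V)
      (α : x ⊚ f ≅ AlgSt.overMap h ⊚ y),
      AlgSt.RepByAlgSpWith (AlgSp.LocP @Smooth) x ∧ AlgSt.RepByAlgSpWith AlgSp.IsSurjectiveMor x ∧
      AlgSt.RepByAlgSpWith (AlgSp.LocP @Smooth) (fpLift x (AlgSt.overMap h) α) := by
  obtain ⟨U, c, hc₁, -, hx₁, hx₂⟩ := exists_chart_over h𝒳 h𝒴 f x₀ hx₀₁ hx₀₂ y hy₁ hy₂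
  refine ⟨U, _, _, chartIso f x₀ y c, hx₁, hx₂, ?_⟩
  have hfU : FibCat.IsFibGrpd (overCat U).p := Groth.Agent.Lib.Helper27.ReprAux.isFibGrpd_overCat U
  have hfU₀ : FibCat.IsFibGrpd (overCat U₀).p :=
    Groth.Agent.Lib.Helper27.ReprAux.isFibGrpd_overCat U₀
  have hfV : FibCat.IsFibGrpd (overCat V).p := Groth.Agent.Lib.Helper27.ReprAux.isFibGrpd_overCat V
  have hfp : FibCat.IsFibGrpd (fp (x₀ ⊚ f) y).p :=
    Groth.Agent.Lib.Helper27.FpFib.isFibGrpd_fp _ _ hfU₀ hfV h𝒴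
  exact repByAlgSpWith_of_iso _ (liftIso f x₀ y c)
    (comp_gen _ (compHyp_locP Groth.Agent.Lib.Helper3.isEtLocal_smooth) hfU hfp c
      (mapFst f y x₀) hc₁ (repByAlgSpWith_mapFst f y x₀ _ hx₀₁))

end Exists

section Forall

/-- A chart square with smooth charts and smooth canonical lift has `P` as soon as one chart
square with a surjective source chart does. -/
theorem prop_of_locQ (P : MorphismProperty (AlgSp.Sp S)) (hP : AlgSp.IsSmoothLocalST P)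
    (h𝒳 : FibCat.IsFibGrpd 𝒳.p) (h𝒴 : FibCat.IsFibGrpd 𝒴.p) (f : 𝒳 ⥤ᵇ 𝒴)
    (hf : AlgSt.LocQ P f) {U V : Over S} (x : overCat U ⥤ᵇ 𝒳) (y : overCat V ⥤ᵇ 𝒴) (h : U ⟶ V)
    (α : x ⊚ f ≅ AlgSt.overMap h ⊚ y)
    (hy₁ : AlgSt.RepByAlgSpWith (AlgSp.LocP @Smooth) y)
    (hc : AlgSt.RepByAlgSpWith (AlgSp.LocP @Smooth) (fpLift x (AlgSt.overMap h) α)) :
    P ((AlgSp.yon S).map h) := by
  obtain ⟨U₀, V₀, x₀, y₀, h₀, α₀, hx₀₁, hx₀₂, hy₀₁, hPh₀⟩ := hf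
  obtain ⟨B, eB, heB, hβs⟩ := hy₀₁ V y
  have hβ₀s : AlgSp.LocP @Smooth (strV y y₀ eB) :=
    prop_structMap _ (compHyp_locP Groth.Agent.Lib.Helper3.isEtLocal_smooth) B.property
      (eB ⊚ fpSnd y y₀) (repByAlgSpWith_equiv_comp _ eB heB _
        (Groth.Agent.Lib.Helper27.FpSwap.repByAlgSpWith_fpSnd _ y₀ y hy₁))
  have sq : IsPullback (pullback.fst ((AlgSp.yon S).map h₀) (strV y y₀ eB))
      (pullback.snd ((AlgSp.yon S).map h₀) (strV y y₀ eB)) ((AlgSp.yon S).map h₀)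
      (strV y y₀ eB) := IsPullback.of_hasPullback _ _
  have hW : AlgSp.IsAlgSpace (pullback ((AlgSp.yon S).map h₀) (strV y y₀ eB)) :=
    Groth.Agent.S9874.result S ((AlgSp.yon S).obj V₀) (AlgSp.IsAlgSpace.yon_obj V₀).diag
      ⟨(AlgSp.yon S).obj U₀, AlgSp.IsAlgSpace.yon_obj U₀⟩ B ((AlgSp.yon S).map h₀) _ _ _ _ sq
  obtain ⟨fst, hfst⟩ : ∃ fst : pullback ((AlgSp.yon S).map h₀) (strV y y₀ eB) ⟶
      (AlgSp.yon S).obj U₀, fst = pullback.fst ((AlgSp.yon S).map h₀) (strV y y₀ eB) :=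
    ⟨_, rfl⟩
  obtain ⟨snd, hsnd⟩ : ∃ snd : pullback ((AlgSp.yon S).map h₀) (strV y y₀ eB) ⟶ B.obj,
      snd = pullback.snd ((AlgSp.yon S).map h₀) (strV y y₀ eB) := ⟨_, rfl⟩
  rw [← hfst, ← hsnd] at sq
  have hPsnd : P snd :=
    hP.baseChange (AlgSp.IsAlgSpace.yon_obj U₀) (AlgSp.IsAlgSpace.yon_obj V₀) hW B.property
      ((AlgSp.yon S).map h₀) (strV y y₀ eB) snd fst sq hβ₀s hPh₀
  have hPC : P (snd ≫ AlgSt.spMapOfOver (eB ⊚ fpFst y y₀)) :=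
    Groth.Agent.Lib.Helper3.IsSmoothLocalST.postcomp hP hW B.property
      (AlgSp.IsAlgSpace.yon_obj V) snd _ hPsnd hβs
  have hE₃ : IsEquivOver ((E y y₀ h₀ eB sq ⊚
      isoMapSnd y (x₀ ⊚ f) (AlgSt.overMap h₀ ⊚ y₀) α₀.symm) ⊚ swap y (x₀ ⊚ f)) :=
    isEquivOver_comp _ _
      (isEquivOver_comp _ _ (isEquivOver_E y y₀ h₀ eB sq heB) (isEquivOver_isoMapSnd _ _ _ _))
      (isEquivOver_swap _ _)
  obtain ⟨z', hz'⟩ : ∃ z' : AlgSt.ofSp (pullback ((AlgSp.yon S).map h₀) (strV y y₀ eB)) ⥤ᵇ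
      fp f y, z' = ((E y y₀ h₀ eB sq ⊚
        isoMapSnd y (x₀ ⊚ f) (AlgSt.overMap h₀ ⊚ y₀) α₀.symm) ⊚ swap y (x₀ ⊚ f)) ⊚
        mapFst f y x₀ := ⟨_, rfl⟩
  have hz'R : ∀ (R : MorphismProperty (AlgSp.Sp S)), AlgSt.RepByAlgSpWith R x₀ →
      AlgSt.RepByAlgSpWith R z' := by
    intro R hx₀
    rw [hz']
    exact repByAlgSpWith_equiv_comp R _ hE₃ _ (repByAlgSpWith_mapFst f y x₀ R hx₀)
  have hfU : FibCat.IsFibGrpd (overCat U).p := Groth.Agent.Lib.Helper27.ReprAux.isFibGrpd_overCat U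
  have hfV : FibCat.IsFibGrpd (overCat V).p := Groth.Agent.Lib.Helper27.ReprAux.isFibGrpd_overCat V
  have hfp : FibCat.IsFibGrpd (fp f y).p :=
    Groth.Agent.Lib.Helper27.FpFib.isFibGrpd_fp _ _ h𝒳 hfV h𝒴
  obtain ⟨A, eA, heA, hpA⟩ := from_space (AlgSp.LocP @Smooth)
    (isLocalOnBase_fppf_of_fpqc _ (Groth.Agent.S10542.result S)) hfU hfp
    (fpLift x (AlgSt.overMap h) α) hc ⟨_, hW⟩ z'
  have hqA : ∀ (R : MorphismProperty (AlgSp.Sp S)), CompHyp R → AlgSt.RepByAlgSpWith R x₀ →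
      R (ObjectProperty.homMk (pshMapOf ((eA ⊚ fpSnd z' (fpLift x (AlgSt.overMap h) α)) ⊚
        AlgSt.ofOverCat U)) : A.obj ⟶ (AlgSp.yon S).obj U) :=
    fun R H hx₀ => prop_structMap R H A.property _
      (repByAlgSpWith_equiv_comp R eA heA _
        (Groth.Agent.Lib.Helper27.FpSwap.repByAlgSpWith_fpSnd R _ z' (hz'R R hx₀)))
  have hcomm : (ObjectProperty.homMk (pshMapOf ((eA ⊚ fpSnd z' (fpLift x (AlgSt.overMap h) α)) ⊚
        AlgSt.ofOverCat U)) : A.obj ⟶ (AlgSp.yon S).obj U) ≫ (AlgSp.yon S).map h =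
      (ObjectProperty.homMk (pshMapOf (eA ⊚ fpFst z' (fpLift x (AlgSt.overMap h) α))) :
        A.obj ⟶ pullback ((AlgSp.yon S).map h₀) (strV y y₀ eB)) ≫
        (snd ≫ AlgSt.spMapOfOver (eB ⊚ fpFst y y₀)) := by
    have h0 : (ObjectProperty.homMk (pshMapOf ((eA ⊚ fpSnd z' (fpLift x (AlgSt.overMap h) α)) ⊚
        AlgSt.ofOverCat U)) : A.obj ⟶ (AlgSp.yon S).obj U) =
        AlgSt.spMapOfOver (eA ⊚ fpSnd z' (fpLift x (AlgSt.overMap h) α)) := by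
      apply ObjectProperty.hom_ext
      exact (spMapOfOver_eq _).symm
    rw [h0, ← spMapOfOver_overMap]
    have h2 := spMapOfOver_comp (AlgSt.ofSpMap snd) (eB ⊚ fpFst y y₀)
    rw [pshMapOf_ofPshMap] at h2
    have h3 := spMapOfOver_comp (eA ⊚ fpFst z' (fpLift x (AlgSt.overMap h) α))
      (AlgSt.ofSpMap snd ⊚ (eB ⊚ fpFst y y₀))
    have h4 : (ObjectProperty.homMk (pshMapOf (eA ⊚ fpFst z' (fpLift x (AlgSt.overMap h) α))) :
        A.obj ⟶ pullback ((AlgSp.yon S).map h₀) (strV y y₀ eB)) ≫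
        (snd ≫ AlgSt.spMapOfOver (eB ⊚ fpFst y y₀)) =
        AlgSt.spMapOfOver ((eA ⊚ fpFst z' (fpLift x (AlgSt.overMap h) α)) ⊚
          (AlgSt.ofSpMap snd ⊚ (eB ⊚ fpFst y y₀))) := by
      rw [h3]
      exact congrArg (fun k => _ ≫ k) h2.symm
    rw [h4]
    apply Groth.Agent.Lib.Helper27.RepWithKit.spMapOfOver_congr
    intro s
    subst hz'
    exact ⟨(fpSnd f y).toFunctor.map
      ((fpIso _ (fpLift x (AlgSt.overMap h) α)).inv.toNatTrans.app (eA.toFunctor.obj s)),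
      (Vert.app (fpIso _ (fpLift x (AlgSt.overMap h) α)).inv (eA.toFunctor.obj s)).map
        (fpSnd f y)⟩
  exact ((Groth.Agent.S10566.result hP
    (X := ⟨(AlgSp.yon S).obj U, AlgSp.IsAlgSpace.yon_obj U⟩)
    (Y := ⟨(AlgSp.yon S).obj V, AlgSp.IsAlgSpace.yon_obj V⟩)
    (ObjectProperty.homMk ((AlgSp.yon S).map h))).1).2
    ⟨A, ⟨(AlgSp.yon S).obj V, AlgSp.IsAlgSpace.yon_obj V⟩,
      ObjectProperty.homMk (ObjectProperty.homMk
        (pshMapOf ((eA ⊚ fpSnd z' (fpLift x (AlgSt.overMap h) α)) ⊚ AlgSt.ofOverCat U))),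
      𝟙 _,
      ObjectProperty.homMk ((ObjectProperty.homMk
        (pshMapOf (eA ⊚ fpFst z' (fpLift x (AlgSt.overMap h) α))) :
        A.obj ⟶ pullback ((AlgSp.yon S).map h₀) (strV y y₀ eB)) ≫
        (snd ≫ AlgSt.spMapOfOver (eB ⊚ fpFst y y₀))),
      hqA _ (compHyp_locP Groth.Agent.Lib.Helper3.isEtLocal_smooth) hx₀₁,
      Groth.Agent.Lib.Helper3.locP_smooth_id _,
      hqA _ Groth.Agent.Lib.Helper27.DiagLft.compHyp_isSurjectiveMor hx₀₂,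
      by
        apply ObjectProperty.hom_ext
        exact hcomm.trans (Category.comp_id _).symm,
      hP.precomp A.property hW (AlgSp.IsAlgSpace.yon_obj V) _ _ hpA hPC⟩

end Forall

end Groth.Agent.Lib.Helper27.LocQAll
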