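import Groth.Agent.Lib.Helper27.LocQRep
import Groth.Agent.Lib.Helper27.LocQAll

/-!
# Chart squares: precomposition with smooth functors and a criterion on one atlas (helper27)
-/

set_option autoImplicit false
set_option backward.isDefEq.respectTransparency false
set_option backward.isDefEq.respectTransparency.types false

universe u

open CategoryTheory CategoryTheory.Limits AlgebraicGeometry Opposite FibCat
  Groth.Agent.Lib.Helper27.FpKit Groth.Agent.Lib.Helper27.PshKit Groth.Agent.Lib.Helper27.PshFp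
  Groth.Agent.Lib.Helper27.PshRep Groth.Agent.Lib.Helper27.RepWithComp
  Groth.Agent.Lib.Helper27.Descent Groth.Agent.Lib.Helper27.LocQChart
  Groth.Agent.Lib.Helper27.LocQSpace Groth.Agent.Lib.Helper27.LocQOver
  Groth.Agent.Lib.Helper27.LocQComp Groth.Agent.Lib.Helper27.FpBaseChange
  Groth.Agent.Lib.Helper27.DiagTransport Groth.Agent.Lib.Helper27.PshRepSp
  Groth.Agent.Lib.Helper27.LocQRep Groth.Agent.Lib.Helper27.LocQBase

namespace Groth.Agent.Lib.Helper27.LocQDescent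

variable {S : Scheme.{u}}

open Stk

variable {𝒳 𝒴 𝒳' : AlgSt.Cat S}

local infixr:80 " ⊚ " => BasedFunctor.comp

/-- If the structure map of one presentation of the base change of `f` to a smooth surjective
chart of the target has `P`, then `f` has `P` on a chart square. -/
theorem locQ_of_prop_atlas (P : MorphismProperty (AlgSp.Sp S)) (hP : AlgSp.IsSmoothLocalST P)
    (f : 𝒳 ⥤ᵇ 𝒴) {V : Over S} (y : overCat V ⥤ᵇ 𝒴)
    (hy₁ : AlgSt.RepByAlgSpWith (AlgSp.LocP @Smooth) y)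
    (hy₂ : AlgSt.RepByAlgSpWith AlgSp.IsSurjectiveMor y) (F : AlgSp.Space S)
    (e : AlgSt.ofSp F.obj ⥤ᵇ fp y f) (he : IsEquivOver e)
    (hPπ : P (AlgSt.spMapOfOver (e ⊚ fpFst y f))) : AlgSt.LocQ P f := by
  have hπ : (ObjectProperty.homMk (pshMapOf ((e ⊚ fpFst y f) ⊚ AlgSt.ofOverCat V)) :
      F.obj ⟶ (AlgSp.yon S).obj V) = AlgSt.spMapOfOver (e ⊚ fpFst y f) := by
    apply ObjectProperty.hom_ext
    exact (spMapOfOver_eq (e ⊚ fpFst y f)).symm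
  refine locQ_of_space_charts f P hP F ⟨(AlgSp.yon S).obj V, AlgSp.IsAlgSpace.yon_obj V⟩
    (e ⊚ fpSnd y f) (AlgSt.toOverCat V ⊚ y)
    (ObjectProperty.homMk (ObjectProperty.homMk
      (pshMapOf ((e ⊚ fpFst y f) ⊚ AlgSt.ofOverCat V)))) ?_
    (repByAlgSpWith_equiv_comp _ e he _
      (Groth.Agent.Lib.Helper27.FpSwap.repByAlgSpWith_fpSnd _ f y hy₁))
    (repByAlgSpWith_equiv_comp _ e he _
      (Groth.Agent.Lib.Helper27.FpSwap.repByAlgSpWith_fpSnd _ f y hy₂))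
    (repByAlgSpWith_equiv_comp _ (AlgSt.toOverCat V) (isEquivOver_toOverCat V) y hy₁) ?_
  · exact (whiskerLeftIso e (fpIso y f).symm) ≪≫
      (whiskerRightIso (κΦ (e ⊚ fpFst y f)).symm y)
  · change P (ObjectProperty.homMk (pshMapOf ((e ⊚ fpFst y f) ⊚ AlgSt.ofOverCat V)) :
      F.obj ⟶ (AlgSp.yon S).obj V)
    rw [hπ]
    exact hPπ

/-- Chart squares of `f` give chart squares of `x' ≫ f` for `x'` representable and smooth. -/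
theorem locQ_comp_smooth (P : MorphismProperty (AlgSp.Sp S)) (hP : AlgSp.IsSmoothLocalST P)
    (x' : 𝒳' ⥤ᵇ 𝒳) (hx' : AlgSt.RepByAlgSpWith (AlgSp.LocP @Smooth) x') (f : 𝒳 ⥤ᵇ 𝒴)
    (hf : AlgSt.LocQ P f) : AlgSt.LocQ P (x' ⊚ f) := by
  obtain ⟨U₁, V₁, x₁, y₁, h₁, α₁, hx₁₁, hx₁₂, hy₁₁, hPh₁⟩ := hf
  obtain ⟨G, eG, heG, hGsm⟩ := hx' U₁ x₁
  obtain ⟨π, hπ⟩ : ∃ π : G.obj ⟶ (AlgSp.yon S).obj U₁,
      π = ObjectProperty.homMk (pshMapOf ((eG ⊚ fpFst x₁ x') ⊚ AlgSt.ofOverCat U₁)) := ⟨_, rfl⟩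
  have hπeq : π = AlgSt.spMapOfOver (eG ⊚ fpFst x₁ x') := by
    rw [hπ]
    apply ObjectProperty.hom_ext
    exact (spMapOfOver_eq (eG ⊚ fpFst x₁ x')).symm
  have hπsm : AlgSp.LocP @Smooth π := by rw [hπeq]; exact hGsm
  refine locQ_of_space_charts (x' ⊚ f) P hP G
    ⟨(AlgSp.yon S).obj V₁, AlgSp.IsAlgSpace.yon_obj V₁⟩
    (eG ⊚ fpSnd x₁ x') (AlgSt.toOverCat V₁ ⊚ y₁)
    (ObjectProperty.homMk (π ≫ (AlgSp.yon S).map h₁)) ?_
    (repByAlgSpWith_equiv_comp _ eG heG _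
      (Groth.Agent.Lib.Helper27.FpSwap.repByAlgSpWith_fpSnd _ x' x₁ hx₁₁))
    (repByAlgSpWith_equiv_comp _ eG heG _
      (Groth.Agent.Lib.Helper27.FpSwap.repByAlgSpWith_fpSnd _ x' x₁ hx₁₂))
    (repByAlgSpWith_equiv_comp _ (AlgSt.toOverCat V₁) (isEquivOver_toOverCat V₁) y₁ hy₁₁)
    (hP.precomp G.property (AlgSp.IsAlgSpace.yon_obj U₁) (AlgSp.IsAlgSpace.yon_obj V₁) π
      ((AlgSp.yon S).map h₁) hπsm hPh₁)
  have i1 : (eG ⊚ fpSnd x₁ x') ⊚ (x' ⊚ f) ≅ (eG ⊚ fpFst x₁ x') ⊚ (x₁ ⊚ f) :=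
    whiskerLeftIso eG (whiskerRightIso (fpIso x₁ x').symm f)
  have i2' : AlgSt.ofSpMap π ⊚ AlgSt.toOverCat U₁ ≅ eG ⊚ fpFst x₁ x' := by
    rw [hπ]
    exact κΦ (eG ⊚ fpFst x₁ x')
  have i2 : (eG ⊚ fpFst x₁ x') ⊚ (x₁ ⊚ f) ≅ (AlgSt.ofSpMap π ⊚ AlgSt.toOverCat U₁) ⊚ (x₁ ⊚ f) :=
    whiskerRightIso i2'.symm (x₁ ⊚ f)
  have i3 : (AlgSt.ofSpMap π ⊚ AlgSt.toOverCat U₁) ⊚ (x₁ ⊚ f) ≅
      (AlgSt.ofSpMap π ⊚ AlgSt.toOverCat U₁) ⊚ (AlgSt.overMap h₁ ⊚ y₁) :=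
    whiskerLeftIso (AlgSt.ofSpMap π ⊚ AlgSt.toOverCat U₁) α₁
  have e4 : (AlgSt.ofSpMap π ⊚ AlgSt.toOverCat U₁) ⊚ (AlgSt.overMap h₁ ⊚ y₁) =
      AlgSt.ofSpMap (π ≫ (AlgSp.yon S).map h₁) ⊚ (AlgSt.toOverCat V₁ ⊚ y₁) := rfl
  exact i1 ≪≫ i2 ≪≫ i3 ≪≫ eqToIso e4

/-- Chart squares of `x ≫ f`, with `x` representable, smooth and surjective, give chart squares
of `f`. -/
theorem locQ_of_comp_atlas (P : MorphismProperty (AlgSp.Sp S)) (h𝒳' : FibCat.IsFibGrpd 𝒳'.p)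
    (h𝒳 : FibCat.IsFibGrpd 𝒳.p) (x : 𝒳' ⥤ᵇ 𝒳)
    (hx₁ : AlgSt.RepByAlgSpWith (AlgSp.LocP @Smooth) x)
    (hx₂ : AlgSt.RepByAlgSpWith AlgSp.IsSurjectiveMor x) (f : 𝒳 ⥤ᵇ 𝒴)
    (hf : AlgSt.LocQ P (x ⊚ f)) : AlgSt.LocQ P f := by
  obtain ⟨U₂, V₂, x₂, y₂, h₂, α₂, hx₂₁, hx₂₂, hy₂₁, hPh₂⟩ := hf
  have hfU := Groth.Agent.Lib.Helper27.ReprAux.isFibGrpd_overCat U₂
  exact ⟨U₂, V₂, x₂ ⊚ x, y₂, h₂, α₂,
    comp_gen _ (compHyp_locP Groth.Agent.Lib.Helper3.isEtLocal_smooth) hfU h𝒳' x₂ x hx₂₁ hx₁,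
    comp_gen _ Groth.Agent.Lib.Helper27.DiagLft.compHyp_isSurjectiveMor hfU h𝒳' x₂ x hx₂₂ hx₂,
    hy₂₁, hPh₂⟩

/-- For a functor with `P` on a chart square, the structure map of every presentation of its
base change to a smooth chart of the target has `P`. -/
theorem prop_of_locQ_smooth_chart (P : MorphismProperty (AlgSp.Sp S))
    (hP : AlgSp.IsSmoothLocalST P) (f : 𝒳 ⥤ᵇ 𝒴) (hf : AlgSt.LocQ P f) {T : Over S}
    (t : overCat T ⥤ᵇ 𝒴) (ht : AlgSt.RepByAlgSpWith (AlgSp.LocP @Smooth) t)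
    (F : AlgSp.Space S) (eF : AlgSt.ofSp F.obj ⥤ᵇ fp t f) (heF : IsEquivOver eF) :
    P (AlgSt.spMapOfOver (eF ⊚ fpFst t f)) := by
  obtain ⟨U, V, x, y, h, α, hx₁, hx₂, hy₁, hPh⟩ := hf
  obtain ⟨B, eB, heB, hb₁s⟩ := hy₁ T t
  have sq : IsPullback (pullback.fst ((AlgSp.yon S).map h) (strV t y eB))
      (pullback.snd ((AlgSp.yon S).map h) (strV t y eB)) ((AlgSp.yon S).map h)
      (strV t y eB) := IsPullback.of_hasPullback _ _
  have hW : AlgSp.IsAlgSpace (pullback ((AlgSp.yon S).map h) (strV t y eB)) :=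
    Groth.Agent.S9874.result S ((AlgSp.yon S).obj V) (AlgSp.IsAlgSpace.yon_obj V).diag
      ⟨(AlgSp.yon S).obj U, AlgSp.IsAlgSpace.yon_obj U⟩ B ((AlgSp.yon S).map h) _ _ _ _ sq
  obtain ⟨fst, hfst⟩ : ∃ fst : pullback ((AlgSp.yon S).map h) (strV t y eB) ⟶
      (AlgSp.yon S).obj U, fst = pullback.fst ((AlgSp.yon S).map h) (strV t y eB) :=
    ⟨_, rfl⟩
  obtain ⟨snd, hsnd⟩ : ∃ snd : pullback ((AlgSp.yon S).map h) (strV t y eB) ⟶ B.obj,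
      snd = pullback.snd ((AlgSp.yon S).map h) (strV t y eB) := ⟨_, rfl⟩
  rw [← hfst, ← hsnd] at sq
  have hstr : AlgSp.LocP @Smooth (strV t y eB) :=
    prop_structMap _ (compHyp_locP Groth.Agent.Lib.Helper3.isEtLocal_smooth) B.property
      (eB ⊚ fpSnd t y) (repByAlgSpWith_equiv_comp _ eB heB _
        (Groth.Agent.Lib.Helper27.FpSwap.repByAlgSpWith_fpSnd _ y t ht))
  have hPsnd : P snd :=
    hP.baseChange (AlgSp.IsAlgSpace.yon_obj U) (AlgSp.IsAlgSpace.yon_obj V) hW B.property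
      ((AlgSp.yon S).map h) (strV t y eB) snd fst sq hstr hPh
  have hE₂ : IsEquivOver (E t y h eB sq ⊚
      isoMapSnd t (x ⊚ f) (AlgSt.overMap h ⊚ y) α.symm) :=
    isEquivOver_comp _ _ (isEquivOver_E t y h eB sq heB) (isEquivOver_isoMapSnd _ _ _ _)
  obtain ⟨ρ, hρ⟩ : ∃ ρ : AlgSt.ofSp (pullback ((AlgSp.yon S).map h) (strV t y eB)) ⥤ᵇ fp t f,
      ρ = (E t y h eB sq ⊚ isoMapSnd t (x ⊚ f) (AlgSt.overMap h ⊚ y) α.symm) ⊚ mapSnd t f x :=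
    ⟨_, rfl⟩
  have hρR : ∀ (R : MorphismProperty (AlgSp.Sp S)), AlgSt.RepByAlgSpWith R x →
      AlgSt.RepByAlgSpWith R ρ := by
    intro R hx
    rw [hρ]
    exact repByAlgSpWith_equiv_comp R _ hE₂ _ (repByAlgSpWith_mapSnd t f x R hx)
  obtain ⟨eF', heF', -, ⟨ε⟩⟩ := exists_inverse eF heF
  obtain ⟨a, ha⟩ : ∃ a : pullback ((AlgSp.yon S).map h) (strV t y eB) ⟶ F.obj,
      a = ObjectProperty.homMk (strictMap ρ eF') := ⟨_, rfl⟩
  have hσ : AlgSt.ofSpMap a ⊚ eF ≅ ρ := by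
    rw [ha]
    exact strictIso ρ eF eF' ε
  have haR : ∀ (R : MorphismProperty (AlgSp.Sp S)), CompHyp R → AlgSt.RepByAlgSpWith R x →
      R a := by
    intro R H hx
    apply prop_of_repByAlgSpWith R H hW F.property a
    exact Groth.Agent.Lib.Helper27.RepWithGeneral.repByAlgSpWith_of_equiv R ρ _
      (BasedFunctor.id _) eF (isEquivOver_id _) heF hσ (hρR R hx)
  have hcomm : a ≫ AlgSt.spMapOfOver (eF ⊚ fpFst t f) =
      snd ≫ AlgSt.spMapOfOver (eB ⊚ fpFst t y) := by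
    have h1 := spMapOfOver_comp (AlgSt.ofSpMap a) (eF ⊚ fpFst t f)
    rw [pshMapOf_ofPshMap] at h1
    have h2 := spMapOfOver_comp (AlgSt.ofSpMap snd) (eB ⊚ fpFst t y)
    rw [pshMapOf_ofPshMap] at h2
    refine h1.symm.trans (Eq.trans ?_ h2)
    refine (Groth.Agent.Lib.Helper27.RepWithKit.spMapOfOver_congr _ (ρ ⊚ fpFst t f)
      (fun s => ⟨(fpFst t f).toFunctor.map (hσ.hom.toNatTrans.app s),
        (Vert.app hσ.hom s).map (fpFst t f)⟩)).trans ?_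
    rw [hρ]
    exact Groth.Agent.Lib.Helper27.RepWithKit.spMapOfOver_congr _ _
      (fun s => ⟨𝟙 _, Vert.id _⟩)
  exact ((Groth.Agent.S10566.result hP
    (X := F) (Y := ⟨(AlgSp.yon S).obj T, AlgSp.IsAlgSpace.yon_obj T⟩)
    (ObjectProperty.homMk (AlgSt.spMapOfOver (eF ⊚ fpFst t f)))).1).2
    ⟨⟨pullback ((AlgSp.yon S).map h) (strV t y eB), hW⟩, B, ObjectProperty.homMk a,
      ObjectProperty.homMk (AlgSt.spMapOfOver (eB ⊚ fpFst t y)), ObjectProperty.homMk snd,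
      haR _ (compHyp_locP Groth.Agent.Lib.Helper3.isEtLocal_smooth) hx₁, hb₁s,
      haR _ Groth.Agent.Lib.Helper27.DiagLft.compHyp_isSurjectiveMor hx₂,
      ObjectProperty.hom_ext _ hcomm, hPsnd⟩


end Groth.Agent.Lib.Helper27.LocQDescent
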