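import Groth.Agent.Lib.Helper27.LocQTriple
import Groth.Agent.Lib.Helper27.LocQBase
import Groth.Agent.Lib.Helper27.LocQDescent
import Groth.Agent.Lib.Helper27.StPointsSurj

/-!
# Chart squares: transport along equivalences and base change in either variable (helper27)
-/

set_option autoImplicit false
set_option backward.isDefEq.respectTransparency false
set_option backward.isDefEq.respectTransparency.types false

universe u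

open CategoryTheory CategoryTheory.Limits AlgebraicGeometry Opposite FibCat
  Groth.Agent.Lib.Helper27.FpKit Groth.Agent.Lib.Helper27.PshKit Groth.Agent.Lib.Helper27.PshFp
  Groth.Agent.Lib.Helper27.PshRep Groth.Agent.Lib.Helper27.RepWithComp
  Groth.Agent.Lib.Helper27.Descent Groth.Agent.Lib.Helper27.LocQChart
  Groth.Agent.Lib.Helper27.LocQSpace Groth.Agent.Lib.Helper27.LocQOver
  Groth.Agent.Lib.Helper27.LocQComp Groth.Agent.Lib.Helper27.FpBaseChange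
  Groth.Agent.Lib.Helper27.LocQBase Groth.Agent.Lib.Helper27.FpSwap

namespace Groth.Agent.Lib.Helper27.LocQEquiv

variable {S : Scheme.{u}}

open Stk

local infixr:80 " ⊚ " => BasedFunctor.comp

section Transport

variable {𝒳 𝒴 𝒳' 𝒴' : AlgSt.Cat S}

/-- Chart squares are transported along equivalences of source and target. -/
theorem locQ_of_equiv (P : MorphismProperty (AlgSp.Sp S)) (f : 𝒳 ⥤ᵇ 𝒴) (f' : 𝒳' ⥤ᵇ 𝒴')
    (a : 𝒳 ⥤ᵇ 𝒳') (b : 𝒴 ⥤ᵇ 𝒴') (ha : IsEquivOver a) (hb : IsEquivOver b)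
    (e : f ⊚ b ≅ a ⊚ f') (hf : AlgSt.LocQ P f) : AlgSt.LocQ P f' := by
  obtain ⟨U, V, x, y, h, α, hx₁, hx₂, hy₁, hPh⟩ := hf
  refine ⟨U, V, x ⊚ a, y ⊚ b, h, ?_, repByAlgSpWith_comp_equiv _ x a ha hx₁,
    repByAlgSpWith_comp_equiv _ x a ha hx₂, repByAlgSpWith_comp_equiv _ y b hb hy₁, hPh⟩
  exact (whiskerLeftIso x e.symm) ≪≫ (whiskerRightIso α b)

/-- Chart squares only depend on the functor up to isomorphism. -/
theorem locQ_of_iso (P : MorphismProperty (AlgSp.Sp S)) {f f' : 𝒳 ⥤ᵇ 𝒴} (e : f ≅ f')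
    (hf : AlgSt.LocQ P f) : AlgSt.LocQ P f' := by
  obtain ⟨U, V, x, y, h, α, hx₁, hx₂, hy₁, hPh⟩ := hf
  exact ⟨U, V, x, y, h, (whiskerLeftIso x e.symm) ≪≫ α, hx₁, hx₂, hy₁, hPh⟩

end Transport

section BaseChange

variable {𝒳 𝒴 𝒴' : AlgSt.Cat S}

/-- Base change of a chart square, second projection form. -/
theorem locQ_fpSnd (P : MorphismProperty (AlgSp.Sp S)) (hP : AlgSp.IsSmoothLocalST P)
    (hPb : ∀ ⦃X₁ Y₁ X₂ Y₂ : AlgSp.Sp S⦄, AlgSp.IsAlgSpace X₁ → AlgSp.IsAlgSpace Y₁ →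
      AlgSp.IsAlgSpace X₂ → AlgSp.IsAlgSpace Y₂ → ∀ (a : X₁ ⟶ Y₁) (b : Y₂ ⟶ Y₁) (a' : X₂ ⟶ Y₂)
      (b' : X₂ ⟶ X₁), IsPullback b' a' a b → P a → P a')
    (h𝒳 : FibCat.IsFibGrpd 𝒳.p) (h𝒴 : FibCat.IsFibGrpd 𝒴.p)
    (f : 𝒳 ⥤ᵇ 𝒴) (g : 𝒴' ⥤ᵇ 𝒴) {V' : Over S} (y' : overCat V' ⥤ᵇ 𝒴')
    (hy'₁ : AlgSt.RepByAlgSpWith (AlgSp.LocP @Smooth) y')
    (hy'₂ : AlgSt.RepByAlgSpWith AlgSp.IsSurjectiveMor y') (hf : AlgSt.LocQ P f) :
    AlgSt.LocQ P (fpSnd f g) := by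
  have h1 : AlgSt.LocQ P (fpFst g f) := locQ_fpFst P hP hPb h𝒳 h𝒴 f g y' hy'₁ hy'₂ hf
  refine locQ_of_equiv P (fpFst g f) (fpSnd f g) (swap g f) (BasedFunctor.id _)
    (isEquivOver_swap g f) (isEquivOver_id _) ?_ h1
  exact BasedNatIso.mkNatIso (NatIso.ofComponents (fun t => Iso.refl _)
    (fun α => (Category.comp_id _).trans (Category.id_comp _).symm))
    (fun t => (Vert.id _).lift ((fpFst g f ⊚ BasedFunctor.id _).w_obj t))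

variable {𝒵 : AlgSt.Cat S}

/-- Base change of a chart square in the first variable of a fibre product. -/
theorem locQ_mapFst (P : MorphismProperty (AlgSp.Sp S)) (hP : AlgSp.IsSmoothLocalST P)
    (hPb : ∀ ⦃X₁ Y₁ X₂ Y₂ : AlgSp.Sp S⦄, AlgSp.IsAlgSpace X₁ → AlgSp.IsAlgSpace Y₁ →
      AlgSp.IsAlgSpace X₂ → AlgSp.IsAlgSpace Y₂ → ∀ (a : X₁ ⟶ Y₁) (b : Y₂ ⟶ Y₁) (a' : X₂ ⟶ Y₂)
      (b' : X₂ ⟶ X₁), IsPullback b' a' a b → P a → P a')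
    (h𝒳 : FibCat.IsFibGrpd 𝒳.p) (h𝒴 : FibCat.IsFibGrpd 𝒴.p)
    (a : 𝒳 ⥤ᵇ 𝒴) (F : 𝒴 ⥤ᵇ 𝒵) (K : 𝒴' ⥤ᵇ 𝒵) {V' : Over S} (y' : overCat V' ⥤ᵇ fp F K)
    (hy'₁ : AlgSt.RepByAlgSpWith (AlgSp.LocP @Smooth) y')
    (hy'₂ : AlgSt.RepByAlgSpWith AlgSp.IsSurjectiveMor y') (ha : AlgSt.LocQ P a) :
    AlgSt.LocQ P (mapFst F K a) := by
  have h1 : AlgSt.LocQ P (fpSnd a (fpFst F K)) :=
    locQ_fpSnd P hP hPb h𝒳 h𝒴 a (fpFst F K) y' hy'₁ hy'₂ ha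
  exact locQ_of_equiv P (fpSnd a (fpFst F K)) (mapFst F K a) (pasteL K F a) (BasedFunctor.id _)
    (isEquivOver_pasteL K F a) (isEquivOver_id _) (isoFst F K a) h1

end BaseChange

section LiftMapFst

variable {𝒯 𝒜' 𝒜 ℬ 𝒵 : AlgSt.Cat S} (F : 𝒜 ⥤ᵇ 𝒵) (K : ℬ ⥤ᵇ 𝒵) (a : 𝒜' ⥤ᵇ 𝒜)
  (p : 𝒯 ⥤ᵇ 𝒜') (q : 𝒯 ⥤ᵇ ℬ) (e : p ⊚ (a ⊚ F) ≅ q ⊚ K)

/-- The lift to a fibre product followed by the change of the first variable, objectwise. -/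
def liftMapFstObj (u : 𝒯.obj) :
    (fpLift p q e ⊚ mapFst F K a).toFunctor.obj u ≅
      (fpLift (F := F) (G := K) (p ⊚ a) q e).toFunctor.obj u :=
  mkIso (t := (fpLift p q e ⊚ mapFst F K a).toFunctor.obj u)
    (t' := (fpLift (F := F) (G := K) (p ⊚ a) q e).toFunctor.obj u)
    (Iso.refl _) (Iso.refl _) (by
      have h1 : ((fpLift p q e ⊚ mapFst F K a).toFunctor.obj u).obj.iso.hom =
          ((fpLift p q e).toFunctor.obj u).obj.iso.hom :=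
        mapFst_iso_hom F K a ((fpLift p q e).toFunctor.obj u)
      rw [h1]
      change F.toFunctor.map (𝟙 _) ≫ _ = _ ≫ K.toFunctor.map (𝟙 _)
      rw [CategoryTheory.Functor.map_id, CategoryTheory.Functor.map_id, Category.id_comp,
        Category.comp_id]
      rfl)

theorem liftMapFstObj_vert (u : 𝒯.obj) : Vert (liftMapFstObj F K a p q e u).hom := by
  rw [vert_hom_iff]
  exact Vert.id _

/-- The lift to a fibre product followed by the change of the first variable is the lift of the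
composite. -/
def liftMapFst : fpLift p q e ⊚ mapFst F K a ≅ fpLift (F := F) (G := K) (p ⊚ a) q e :=
  BasedNatIso.mkNatIso
    (NatIso.ofComponents (fun u => liftMapFstObj F K a p q e u)
      (fun {u u'} m => by
        apply Groth.Agent.Lib.Helper27.StackFp.hom_ext'
        · exact (Category.comp_id _).trans (Category.id_comp _).symm
        · exact (Category.comp_id _).trans (Category.id_comp _).symm))
    (fun u => (liftMapFstObj_vert F K a p q e u).lift ((fpLift p q e ⊚ mapFst F K a).w_obj u))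

end LiftMapFst

section Surj

variable {𝒳 𝒴 𝒴' 𝒵 : AlgSt.Cat S}

theorem isSurjective_of_iso {f f' : 𝒳 ⥤ᵇ 𝒴} (e : f ≅ f') (hf : AlgSt.IsSurjective f) :
    AlgSt.IsSurjective f' := by
  intro y
  obtain ⟨x, hx⟩ := hf y
  exact ⟨x, (Groth.Agent.Lib.Helper27.StPoints.map_iso e x).symm.trans hx⟩

theorem isSurjective_comp (f : 𝒳 ⥤ᵇ 𝒴) (g : 𝒴 ⥤ᵇ 𝒵) (hf : AlgSt.IsSurjective f)
    (hg : AlgSt.IsSurjective g) : AlgSt.IsSurjective (f ⊚ g) := by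
  intro z
  obtain ⟨y, hy⟩ := hg z
  obtain ⟨x, hx⟩ := hf y
  exact ⟨x, by rw [Groth.Agent.Lib.Helper27.PointsKit.map_comp, hx, hy]⟩

theorem isSurjective_of_comp (f : 𝒳 ⥤ᵇ 𝒴) (g : 𝒴 ⥤ᵇ 𝒵) (h : AlgSt.IsSurjective (f ⊚ g)) :
    AlgSt.IsSurjective g := by
  intro z
  obtain ⟨x, hx⟩ := h z
  exact ⟨AlgSt.Points.map f x, by rw [← Groth.Agent.Lib.Helper27.PointsKit.map_comp]; exact hx⟩

theorem isSurjective_fpSnd (h𝒳 : FibCat.IsFibGrpd 𝒳.p) (h𝒴 : FibCat.IsFibGrpd 𝒴.p)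
    (h𝒴' : FibCat.IsFibGrpd 𝒴'.p) (f : 𝒳 ⥤ᵇ 𝒴) (g : 𝒴' ⥤ᵇ 𝒴) (hf : AlgSt.IsSurjective f) :
    AlgSt.IsSurjective (fpSnd f g) := by
  have h1 : AlgSt.IsSurjective (fpFst g f) :=
    Groth.Agent.Lib.Helper27.StPoints.isSurjective_fpFst h𝒳 h𝒴 h𝒴' f g hf
  have h2 : fpFst g f = swap g f ⊚ fpSnd f g := rfl
  rw [h2] at h1
  exact isSurjective_of_comp _ _ h1

theorem isSurjective_mapFst (h𝒳 : FibCat.IsFibGrpd 𝒳.p) (h𝒴 : FibCat.IsFibGrpd 𝒴.p)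
    (h𝒴' : FibCat.IsFibGrpd 𝒴'.p) (h𝒵 : FibCat.IsFibGrpd 𝒵.p)
    (a : 𝒳 ⥤ᵇ 𝒴) (F : 𝒴 ⥤ᵇ 𝒵) (K : 𝒴' ⥤ᵇ 𝒵) (ha : AlgSt.IsSurjective a) :
    AlgSt.IsSurjective (mapFst F K a) := by
  have h1 : AlgSt.IsSurjective (fpSnd a (fpFst F K)) :=
    isSurjective_fpSnd h𝒳 h𝒴 (Groth.Agent.Lib.Helper27.FpFib.isFibGrpd_fp F K h𝒴 h𝒴' h𝒵) a
      (fpFst F K) ha
  have h2 : AlgSt.IsSurjective (fpSnd a (fpFst F K) ⊚ BasedFunctor.id _) := h1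
  exact isSurjective_of_comp _ _ (isSurjective_of_iso (isoFst F K a) h2)

end Surj

end Groth.Agent.Lib.Helper27.LocQEquiv
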