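import Groth.Agent.Lib.Helper27.GerbSecF
import Groth.Agent.Lib.Helper27.LocQEquiv
import Groth.Agent.Lib.Helper27.FpBaseChange

/-!
# The comparison `T₁ ×_𝒳 T₂ ⟶ T₁ ×_𝒴 T₂` for a gerbe `𝒳 ⟶ 𝒴` (helper27)
-/

set_option autoImplicit false
set_option backward.isDefEq.respectTransparency false
set_option backward.isDefEq.respectTransparency.types false

universe u

open CategoryTheory CategoryTheory.Limits AlgebraicGeometry Opposite FibCat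
  Groth.Agent.Lib.Helper27.FpKit Groth.Agent.Lib.Helper27.SmLocP
  Groth.Agent.Lib.Helper27.RepWithComp Groth.Agent.Lib.Helper27.LocQOver
  Groth.Agent.Lib.Helper27.FpBaseChange Groth.Agent.Lib.Helper27.LocQEquiv

namespace Groth.Agent.Lib.Helper27.GerbComp

variable {S : Scheme.{u}}

local infixr:80 " ⊚ " => BasedFunctor.comp

variable {𝒳 𝒴 𝒯₁ 𝒯₂ : AlgSt.Cat S} (f : 𝒳 ⥤ᵇ 𝒴) (x₁ : 𝒯₁ ⥤ᵇ 𝒳) (x₂ : 𝒯₂ ⥤ᵇ 𝒳)

/-- the graph section `T₁ ⟶ T₁ ×_𝒴 𝒳` -/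
def sec : 𝒯₁ ⥤ᵇ fp (x₁ ⊚ f) f := fpLift (BasedFunctor.id 𝒯₁) x₁ (Iso.refl _)

theorem sec_snd : sec f x₁ ⊚ fpSnd (x₁ ⊚ f) f = x₁ := rfl

/-- the comparison as a base change of the graph section followed by a pasting equivalence -/
def viaSec : fp x₁ x₂ ⥤ᵇ fp (x₁ ⊚ f) (x₂ ⊚ f) :=
  (mapFst (fpSnd (x₁ ⊚ f) f) x₂ (sec f x₁) :
    fp (sec f x₁ ⊚ fpSnd (x₁ ⊚ f) f) x₂ ⥤ᵇ fp (fpSnd (x₁ ⊚ f) f) x₂) ⊚
    pasteR x₂ f (x₁ ⊚ f)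

section Iso

variable (e : fpFst x₁ x₂ ⊚ (x₁ ⊚ f) ≅ fpSnd x₁ x₂ ⊚ (x₂ ⊚ f))
  (he : ∀ a, e.hom.toNatTrans.app a = f.map a.obj.iso.hom)

theorem viaSec_w (a : (fp x₁ x₂).obj) :
    (x₁ ⊚ f).toFunctor.map (𝟙 a.obj.fst) ≫ ((viaSec f x₁ x₂).toFunctor.obj a).obj.iso.hom =
      f.toFunctor.map a.obj.iso.hom ≫ (x₂ ⊚ f).toFunctor.map (𝟙 a.obj.snd) := by
  have h1 : ((viaSec f x₁ x₂).toFunctor.obj a).obj.iso.hom =
      𝟙 _ ≫ f.toFunctor.map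
        ((mapFst (fpSnd (x₁ ⊚ f) f) x₂ (sec f x₁)).toFunctor.obj a).obj.iso.hom := rfl
  rw [h1, mapFst_iso_hom, CategoryTheory.Functor.map_id, CategoryTheory.Functor.map_id,
    Category.id_comp, Category.id_comp]
  exact (Category.comp_id _).symm

include he in
/-- The comparison functor is the base change of the graph section. -/
def compIso : fpLift (fpFst x₁ x₂) (fpSnd x₁ x₂) e ≅ viaSec f x₁ x₂ :=
  BasedNatIso.mkNatIso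
    (NatIso.ofComponents
      (fun a => mkIso (t := (fpLift (fpFst x₁ x₂) (fpSnd x₁ x₂) e).toFunctor.obj a)
        (t' := (viaSec f x₁ x₂).toFunctor.obj a) (Iso.refl _) (Iso.refl _) (by
          have h0 : ((fpLift (fpFst x₁ x₂) (fpSnd x₁ x₂) e).toFunctor.obj a).obj.iso.hom =
            e.hom.toNatTrans.app a := rfl
          rw [h0, he]
          exact viaSec_w f x₁ x₂ a))
      (fun {a a'} m => by
        apply Groth.Agent.Lib.Helper27.StackFp.hom_ext'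
        · exact (Category.comp_id _).trans (Category.id_comp _).symm
        · exact (Category.comp_id _).trans (Category.id_comp _).symm))
    (fun a => by
      have hv : Vert (mkIso (t := (fpLift (fpFst x₁ x₂) (fpSnd x₁ x₂) e).toFunctor.obj a)
          (t' := (viaSec f x₁ x₂).toFunctor.obj a) (Iso.refl _) (Iso.refl _) (by
            have h0 : ((fpLift (fpFst x₁ x₂) (fpSnd x₁ x₂) e).toFunctor.obj a).obj.iso.hom =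
              e.hom.toNatTrans.app a := rfl
            rw [h0, he]
            exact viaSec_w f x₁ x₂ a)).hom := by
        rw [vert_hom_iff]
        exact Vert.id _
      exact hv.lift ((fpLift (fpFst x₁ x₂) (fpSnd x₁ x₂) e).w_obj a))

end Iso

section Main

variable (h𝒳 : AlgSt.IsAlgStack Scheme.fppfPrecoverage 𝒳)
  (h𝒴 : AlgSt.IsAlgStack Scheme.fppfPrecoverage 𝒴)
  (h𝒯₁ : AlgSt.IsAlgStack Scheme.fppfPrecoverage 𝒯₁)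
  (h𝒯₂ : AlgSt.IsAlgStack Scheme.fppfPrecoverage 𝒯₂)
  (hf : Gerb.IsGerbeOver (AlgSp.J S) f)

include h𝒳 h𝒴 h𝒯₁ h𝒯₂ hf

theorem viaSec_fppf : AlgSt.IsSurjective (viaSec f x₁ x₂) ∧
    AlgSt.LocQ (AlgSp.LocP @Flat) (viaSec f x₁ x₂) ∧
    AlgSt.LocQ (AlgSp.LocP @LocallyOfFinitePresentation) (viaSec f x₁ x₂) := by
  have h𝒫 : AlgSt.IsAlgStack Scheme.fppfPrecoverage (fp (x₁ ⊚ f) f) :=
    Groth.Agent.Lib.Helper27.AlgStackFp.isAlgStack_fp (x₁ ⊚ f) f h𝒴.isStack h𝒴.diag h𝒯₁ h𝒳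
  have hπ : Gerb.IsGerbeOver (AlgSp.J S) (fpFst (x₁ ⊚ f) f) :=
    Groth.Agent.Lib.Helper27.GerbAux.isGerbeOver_fpFst _ h𝒯₁.isStack.1 h𝒴.isStack.1 f (x₁ ⊚ f) hf
  obtain ⟨hσ1, hσ2, hσ3⟩ := Groth.Agent.Lib.Helper27.GerbSecF.section_fppf h𝒫 h𝒯₁
    (fpFst (x₁ ⊚ f) f) hπ (sec f x₁) (Iso.refl _)
  have h𝒬 : AlgSt.IsAlgStack Scheme.fppfPrecoverage (fp (fpSnd (x₁ ⊚ f) f) x₂) :=
    Groth.Agent.Lib.Helper27.AlgStackFp.isAlgStack_fp (fpSnd (x₁ ⊚ f) f) x₂ h𝒳.isStack h𝒳.diag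
      h𝒫 h𝒯₂
  obtain ⟨V', y', hy'₁, hy'₂⟩ := h𝒬.atlas
  have hR := isEquivOver_pasteR x₂ f (x₁ ⊚ f)
  have key : ∀ (Q : MorphismProperty Scheme.{u}) (hQ : IsSmLocal Q),
      AlgSt.LocQ (AlgSp.LocP Q) (sec f x₁) → AlgSt.LocQ (AlgSp.LocP Q) (viaSec f x₁ x₂) := by
    intro Q hQ hσ
    have h1 : AlgSt.LocQ (AlgSp.LocP Q) (mapFst (fpSnd (x₁ ⊚ f) f) x₂ (sec f x₁)) :=
      locQ_mapFst _ (isSmoothLocalST_locP hQ)
        (Groth.Agent.Lib.Helper27.FieldPt.locP_baseChange hQ) h𝒯₁.isStack.1 h𝒫.isStack.1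
        (sec f x₁) (fpSnd (x₁ ⊚ f) f) x₂ y' hy'₁ hy'₂ hσ
    exact locQ_of_equiv _ (mapFst (fpSnd (x₁ ⊚ f) f) x₂ (sec f x₁)) (viaSec f x₁ x₂)
      (BasedFunctor.id _) (pasteR x₂ f (x₁ ⊚ f)) (isEquivOver_id _) hR (Iso.refl _) h1
  refine ⟨?_, key _ isSmLocal_flat hσ2, key _ isSmLocal_lfp hσ3⟩
  have h2 : AlgSt.IsSurjective (mapFst (fpSnd (x₁ ⊚ f) f) x₂ (sec f x₁)) :=
    isSurjective_mapFst h𝒯₁.isStack.1 h𝒫.isStack.1 h𝒯₂.isStack.1 h𝒳.isStack.1 (sec f x₁)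
      (fpSnd (x₁ ⊚ f) f) x₂ hσ1
  exact isSurjective_comp _ _ h2
    (Groth.Agent.Lib.Helper27.StPoints.map_surjective_of_equiv _ hR)

/-- For a gerbe `f : 𝒳 ⟶ 𝒴` the comparison `T₁ ×_𝒳 T₂ ⟶ T₁ ×_𝒴 T₂` is surjective, flat and locally
of finite presentation. -/
theorem comparison_fppf (e : fpFst x₁ x₂ ⊚ (x₁ ⊚ f) ≅ fpSnd x₁ x₂ ⊚ (x₂ ⊚ f))
    (he : ∀ a, e.hom.toNatTrans.app a = f.map a.obj.iso.hom) :
    AlgSt.IsSurjective (fpLift (fpFst x₁ x₂) (fpSnd x₁ x₂) e) ∧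
      AlgSt.LocQ (AlgSp.LocP @Flat) (fpLift (fpFst x₁ x₂) (fpSnd x₁ x₂) e) ∧
      AlgSt.LocQ (AlgSp.LocP @LocallyOfFinitePresentation)
        (fpLift (fpFst x₁ x₂) (fpSnd x₁ x₂) e) := by
  obtain ⟨h1, h2, h3⟩ := viaSec_fppf f x₁ x₂ h𝒳 h𝒴 h𝒯₁ h𝒯₂ hf
  have ι := (compIso f x₁ x₂ e he).symm
  exact ⟨isSurjective_of_iso ι h1, locQ_of_iso _ ι h2, locQ_of_iso _ ι h3⟩

end Main

end Groth.Agent.Lib.Helper27.GerbComp
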