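import Groth.Agent.Lib.Helper27.LocQDescent
import Groth.Agent.Lib.Helper27.FppfLiftSm
import Groth.Agent.Lib.Helper27.DiagIff

set_option autoImplicit false
set_option backward.isDefEq.respectTransparency false
set_option backward.isDefEq.respectTransparency.types false

universe u

open CategoryTheory CategoryTheory.Limits AlgebraicGeometry Opposite FibCat
  Groth.Agent.Lib.Helper27.FpKit Groth.Agent.Lib.Helper27.RepWithComp
  Groth.Agent.Lib.Helper27.FpBaseChange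

namespace Groth.Agent.Lib.Helper27.LocQDescent

variable {S : Scheme.{u}}

variable {𝒳 𝒴 𝒵 : AlgSt.Cat S}

local infixr:80 " ⊚ " => BasedFunctor.comp

/-- Descent of chart-square properties along flat, locally finitely presented, surjective
functors: the representable case. -/
theorem locQ_of_locQ_fpFst_rep (P : MorphismProperty (AlgSp.Sp S))
    (hP : AlgSp.IsSmoothLocalST P) (hP₂ : AlgSp.IsLocalOnBase AlgSp.IsFppfCover P)
    (h𝒴 : FibCat.IsFibGrpd 𝒴.p) (hat : AlgSt.HasAtlas (AlgSp.LocP @Smooth) 𝒴)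
    (h𝒵 : FibCat.IsFibGrpd 𝒵.p) (g : 𝒳 ⥤ᵇ 𝒴) (hg : AlgSt.RepByAlgSp1 g) (z : 𝒵 ⥤ᵇ 𝒴)
    (hz₁ : AlgSt.LocQ (AlgSp.LocP @Flat) z)
    (hz₂ : AlgSt.LocQ (AlgSp.LocP @LocallyOfFinitePresentation) z)
    (hz₃ : AlgSt.IsSurjective z) (H : AlgSt.LocQ P (fpFst z g)) : AlgSt.LocQ P g := by
  obtain ⟨V, y, hy₁, hy₂⟩ := hat
  obtain ⟨F, e, he⟩ := hg V y
  apply locQ_of_prop_atlas P hP g y hy₁ hy₂ F e he
  obtain ⟨A, k, l, hk1, hk2, hk3, hl, ⟨β⟩⟩ :=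
    Groth.Agent.Lib.Helper27.FppfLift.exists_fppf_lift_sm h𝒵 h𝒴 z hz₁ hz₂ hz₃ y hy₁
  refine Groth.Agent.Lib.Helper27.DescentFam.descent_over_schemes P hP₂ g y F e he
    (fun _ : PUnit.{u + 1} => A) (fun _ => k) (fun _ => hk1) (fun _ => hk2)
    (fun u => ⟨PUnit.unit, hk3 u⟩) (fun _ => l ⊚ z) (fun _ => β) ?_
  intro _
  obtain ⟨X'', e₀, he₀⟩ := hg A (l ⊚ z)
  obtain ⟨E', hE', -, -⟩ := exists_inverse (pasteL g z l) (isEquivOver_pasteL g z l)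
  have hpres : P (AlgSt.spMapOfOver ((e₀ ⊚ E') ⊚ fpFst l (fpFst z g))) :=
    prop_of_locQ_smooth_chart P hP (fpFst z g) H l hl X'' (e₀ ⊚ E')
      (isEquivOver_comp _ _ he₀ hE')
  exact Groth.Agent.Lib.Helper27.RepWithKit.transport P (pasteL g z l)
    (isEquivOver_pasteL g z l) (fpFst l (fpFst z g)) (fpFst (l ⊚ z) g)
    (fun t => ⟨Iso.refl _, Vert.id _⟩) ⟨X'', e₀ ⊚ E', isEquivOver_comp _ _ he₀ hE', hpres⟩

/-- Descent of chart-square properties along flat, locally finitely presented, surjective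
functors. -/
theorem locQ_of_locQ_fpFst (P : MorphismProperty (AlgSp.Sp S))
    (hP : AlgSp.IsSmoothLocalST P) (hP₂ : AlgSp.IsLocalOnBase AlgSp.IsFppfCover P)
    (h𝒳 : AlgSt.IsAlgStack Scheme.fppfPrecoverage 𝒳)
    (h𝒴 : AlgSt.IsAlgStack Scheme.fppfPrecoverage 𝒴)
    (h𝒵 : FibCat.IsFibGrpd 𝒵.p) (f : 𝒳 ⥤ᵇ 𝒴) (z : 𝒵 ⥤ᵇ 𝒴)
    (hz₁ : AlgSt.LocQ (AlgSp.LocP @Flat) z)
    (hz₂ : AlgSt.LocQ (AlgSp.LocP @LocallyOfFinitePresentation) z)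
    (hz₃ : AlgSt.IsSurjective z) (H : AlgSt.LocQ P (fpFst z f)) : AlgSt.LocQ P f := by
  obtain ⟨U, x, hx₁, hx₂⟩ := h𝒳.atlas
  have hfU := Groth.Agent.Lib.Helper27.ReprAux.isFibGrpd_overCat U
  have hg : AlgSt.RepByAlgSp1 (x ⊚ f) :=
    Groth.Agent.Lib.Helper27.DiagIff.chart_of_diag h𝒴.isStack.1 h𝒴.diag U (x ⊚ f)
  have H' : AlgSt.LocQ P (fpFst z (x ⊚ f)) :=
    locQ_comp_smooth P hP (mapSnd z f x) (repByAlgSpWith_mapSnd z f x _ hx₁) (fpFst z f) H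
  exact locQ_of_comp_atlas P hfU h𝒳.isStack.1 x hx₁ hx₂ f
    (locQ_of_locQ_fpFst_rep P hP hP₂ h𝒴.isStack.1 h𝒴.atlas h𝒵 (x ⊚ f) hg z hz₁ hz₂ hz₃ H')

end Groth.Agent.Lib.Helper27.LocQDescent
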