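import Groth.Agent.Lib.Helper27.LocQFlatCancel2
import Groth.Agent.S5938
import Groth.Agent.S0114

/-!
# Properties fppf local on the source cancel along fppf morphisms of algebraic stacks (helper27)
-/

set_option autoImplicit false
set_option backward.isDefEq.respectTransparency false
set_option backward.isDefEq.respectTransparency.types false

universe u

open CategoryTheory CategoryTheory.Limits AlgebraicGeometry Opposite FibCat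
  Groth.Agent.Lib.Helper27.FpKit Groth.Agent.Lib.Helper27.PshKit Groth.Agent.Lib.Helper27.PshFp
  Groth.Agent.Lib.Helper27.PshRep Groth.Agent.Lib.Helper27.RepWithComp
  Groth.Agent.Lib.Helper27.Descent Groth.Agent.Lib.Helper27.LocQChart
  Groth.Agent.Lib.Helper27.LocQSpace Groth.Agent.Lib.Helper27.LocQOver
  Groth.Agent.Lib.Helper27.LocQComp Groth.Agent.Lib.Helper27.FpBaseChange
  Groth.Agent.Lib.Helper27.LocQBase Groth.Agent.Lib.Helper27.FpSwap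
  Groth.Agent.Lib.Helper27.LocQTriple Groth.Agent.Lib.Helper27.LocQEquiv
  Groth.Agent.Lib.Helper27.LocQFlatCancel Groth.Agent.Lib.Helper27.SmLocP

namespace Groth.Agent.Lib.Helper27.LocQFppfCancel

variable {S : Scheme.{u}}

open Stk

local infixr:80 " ⊚ " => BasedFunctor.comp

theorem locP_baseChange {P : MorphismProperty Scheme.{u}} (hP : Groth.Agent.Lib.Helper3.IsEtLocal P) :
    ∀ ⦃X₁ Y₁ X₂ Y₂ : AlgSp.Sp S⦄, AlgSp.IsAlgSpace X₁ → AlgSp.IsAlgSpace Y₁ →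
    AlgSp.IsAlgSpace X₂ → AlgSp.IsAlgSpace Y₂ → ∀ (a : X₁ ⟶ Y₁) (b : Y₂ ⟶ Y₁) (a' : X₂ ⟶ Y₂)
    (b' : X₂ ⟶ X₁), IsPullback b' a' a b → AlgSp.LocP P a → AlgSp.LocP P a' :=
  fun _ _ _ _ h1 h2 h3 h4 a b a' b' sq ha =>
    Groth.Agent.Lib.Helper3.locP_of_isPullback hP h1 h2 h4 h3 a b b' a' sq ha

section Slices

variable {U V : Over S}

/-- A functor between slices which has `P` on a chart square is given by a morphism with `P`. -/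
theorem prop_homOf_of_locQ {P : MorphismProperty Scheme.{u}} (hP : IsSmLocal P)
    (b : overCat U ⥤ᵇ overCat V) (hb : AlgSt.LocQ (AlgSp.LocP P) b) : P (homOf b).left := by
  have h1 : AlgSt.RepByAlgSpWith (AlgSp.LocP P) b :=
    Groth.Agent.Lib.Helper27.LocQRep.repByAlgSpWith_of_locQ _
      (isSmoothLocalST_locP hP) (locP_baseChange hP.etLocal) b
      (repByAlgSp1_slices b) hb
  exact AlgSp.locP_yon_map
    (prop_yon_homOf _ (compHyp_locP hP.etLocal) b h1)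

end Slices

section Main

variable {𝒳 𝒴 𝒵 : AlgSt.Cat S}

/-- If `f` is flat, locally of finite presentation and surjective and `f ≫ g` has `P`, then `g`
has `P` (on chart squares), for `P` fppf local on the source. -/
theorem locQ_of_fppf_comp {P : MorphismProperty Scheme.{u}} (hP : IsSmLocal P)
    (hcancel : ∀ {X Y Z : Scheme.{u}} (b : X ⟶ Y) (k : Y ⟶ Z), Surjective b → Flat b →
      LocallyOfFinitePresentation b → P (b ≫ k) → P k)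
    (h𝒳 : AlgSt.IsAlgStack Scheme.fppfPrecoverage 𝒳)
    (h𝒴 : AlgSt.IsAlgStack Scheme.fppfPrecoverage 𝒴)
    (h𝒵 : AlgSt.IsAlgStack Scheme.fppfPrecoverage 𝒵)
    (f : 𝒳 ⥤ᵇ 𝒴) (g : 𝒴 ⥤ᵇ 𝒵)
    (hf₁ : AlgSt.LocQ (AlgSp.LocP @Flat) f)
    (hf₁' : AlgSt.LocQ (AlgSp.LocP @LocallyOfFinitePresentation) f)
    (hf₂ : AlgSt.IsSurjective f)
    (Hfg : AlgSt.LocQ (AlgSp.LocP P) (f ⊚ g)) : AlgSt.LocQ (AlgSp.LocP P) g := by
  obtain ⟨W, z, hz₁, hz₂⟩ := h𝒵.atlas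
  obtain ⟨V₀, y₀, hy₀₁, hy₀₂⟩ := h𝒴.atlas
  obtain ⟨U₀, x₀, hx₀₁, hx₀₂⟩ := h𝒳.atlas
  have hf𝒳 := h𝒳.isStack.1
  have hf𝒴 := h𝒴.isStack.1
  have hf𝒵 := h𝒵.isStack.1
  have hPfl : AlgSp.IsSmoothLocalST (AlgSp.LocP (S := S) @Flat) := isSmoothLocalST_locP_flat
  have hPfp : AlgSp.IsSmoothLocalST (AlgSp.LocP (S := S) @LocallyOfFinitePresentation) :=
    isSmoothLocalST_locP_lfp
  have hPP : AlgSp.IsSmoothLocalST (AlgSp.LocP (S := S) P) := isSmoothLocalST_locP hP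
  have fp_baseChange := locP_baseChange (S := S)
    Groth.Agent.Lib.Helper3.isEtLocal_locallyOfFinitePresentation
  obtain ⟨U₁, x₁, l, γ₁, hx₁₁, hx₁₂, hc₃₁, hc₃₂⟩ :=
    exists_good_chart_surj hf𝒳 hf𝒵 (f ⊚ g) x₀ hx₀₁ hx₀₂ z hz₁ hz₂
  have hPl : AlgSp.LocP P ((AlgSp.yon S).map l) :=
    Groth.Agent.Lib.Helper27.LocQAll.prop_of_locQ _ hPP hf𝒳 hf𝒵 (f ⊚ g) Hfg x₁ z l γ₁ hz₁ hc₃₁
  obtain ⟨V₁, y₁, k₁, β₁, hy₁₁, hy₁₂, hc₂₁, hc₂₂⟩ :=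
    exists_good_chart_surj hf𝒴 hf𝒵 g y₀ hy₀₁ hy₀₂ z hz₁ hz₂
  obtain ⟨c₂, hc₂def⟩ : ∃ c₂ : overCat V₁ ⥤ᵇ fp g z, c₂ = fpLift y₁ (AlgSt.overMap k₁) β₁ :=
    ⟨_, rfl⟩
  rw [← hc₂def] at hc₂₁ hc₂₂
  obtain ⟨c₃, hc₃def⟩ : ∃ c₃ : overCat U₁ ⥤ᵇ fp (f ⊚ g) z,
    c₃ = fpLift x₁ (AlgSt.overMap l) γ₁ := ⟨_, rfl⟩
  rw [← hc₃def] at hc₃₁ hc₃₂
  obtain ⟨d, hddef⟩ : ∃ d : overCat U₁ ⥤ᵇ fp g z, d = fpLift (x₁ ⊚ f) (AlgSt.overMap l) γ₁ :=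
    ⟨_, rfl⟩
  have hfU₁ : FibCat.IsFibGrpd (overCat U₁).p :=
    Groth.Agent.Lib.Helper27.ReprAux.isFibGrpd_overCat U₁
  have hfV₁ : FibCat.IsFibGrpd (overCat V₁).p :=
    Groth.Agent.Lib.Helper27.ReprAux.isFibGrpd_overCat V₁
  have hfW : FibCat.IsFibGrpd (overCat W).p := Groth.Agent.Lib.Helper27.ReprAux.isFibGrpd_overCat W
  have hfgz : FibCat.IsFibGrpd (fp g z).p :=
    Groth.Agent.Lib.Helper27.FpFib.isFibGrpd_fp _ _ hf𝒴 hfW hf𝒵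
  have hffgz : FibCat.IsFibGrpd (fp (f ⊚ g) z).p :=
    Groth.Agent.Lib.Helper27.FpFib.isFibGrpd_fp _ _ hf𝒳 hfW hf𝒵
  have ed : c₃ ⊚ mapFst g z f ≅ d := by
    rw [hc₃def, hddef]
    exact liftMapFst g z f x₁ (AlgSt.overMap l) γ₁
  have hm : AlgSt.LocQ (AlgSp.LocP @Flat) (mapFst g z f) :=
    locQ_mapFst _ hPfl flat_baseChange hf𝒳 hf𝒴 f g z c₂ hc₂₁ hc₂₂ hf₁
  have hm' : AlgSt.LocQ (AlgSp.LocP @LocallyOfFinitePresentation) (mapFst g z f) :=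
    locQ_mapFst _ hPfp fp_baseChange hf𝒳 hf𝒴 f g z c₂ hc₂₁ hc₂₂ hf₁'
  have hd₁ : AlgSt.LocQ (AlgSp.LocP @Flat) d :=
    locQ_of_iso _ ed
      (Groth.Agent.Lib.Helper27.LocQDescent.locQ_comp_smooth _ hPfl c₃ hc₃₁ (mapFst g z f) hm)
  have hd₁' : AlgSt.LocQ (AlgSp.LocP @LocallyOfFinitePresentation) d :=
    locQ_of_iso _ ed
      (Groth.Agent.Lib.Helper27.LocQDescent.locQ_comp_smooth _ hPfp c₃ hc₃₁ (mapFst g z f) hm')
  have hd₂ : AlgSt.IsSurjective d :=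
    isSurjective_of_iso ed (isSurjective_comp _ _
      (Groth.Agent.Lib.Helper27.StPoints.isSurjective_of_rep hfU₁ hffgz c₃ hc₃₂)
      (isSurjective_mapFst hf𝒳 hf𝒴 hfW hf𝒵 f g z hf₂))
  obtain ⟨C, eC, heC, -⟩ := hc₂₁ U₁ d
  obtain ⟨U, c, hc₁, hc₂⟩ := exists_atlas_of_equiv C eC heC
  have hfU : FibCat.IsFibGrpd (overCat U).p := Groth.Agent.Lib.Helper27.ReprAux.isFibGrpd_overCat U
  have hfp : FibCat.IsFibGrpd (fp d c₂).p :=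
    Groth.Agent.Lib.Helper27.FpFib.isFibGrpd_fp _ _ hfU₁ hfV₁ hfgz
  obtain ⟨a, hadef⟩ : ∃ a : overCat U ⥤ᵇ overCat U₁, a = c ⊚ fpFst d c₂ := ⟨_, rfl⟩
  obtain ⟨b, hbdef⟩ : ∃ b : overCat U ⥤ᵇ overCat V₁, b = c ⊚ fpSnd d c₂ := ⟨_, rfl⟩
  have ha₁ : AlgSt.RepByAlgSpWith (AlgSp.LocP @Smooth) a := by
    rw [hadef]
    exact comp_gen _ (compHyp_locP Groth.Agent.Lib.Helper3.isEtLocal_smooth) hfU hfp c _ hc₁
      (Groth.Agent.Lib.Helper27.RepWithGeneral.repByAlgSpWith_fpFst _ c₂ d hc₂₁)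
  obtain ⟨V', y', hy'₁, hy'₂⟩ := (Groth.Agent.Lib.Helper27.QcStack.isAlgStack_overCat V₁).atlas
  have hsnd : AlgSt.LocQ (AlgSp.LocP @Flat) (fpSnd d c₂) :=
    locQ_fpSnd _ hPfl flat_baseChange hfU₁ hfgz d c₂ y' hy'₁ hy'₂ hd₁
  have hsnd' : AlgSt.LocQ (AlgSp.LocP @LocallyOfFinitePresentation) (fpSnd d c₂) :=
    locQ_fpSnd _ hPfp fp_baseChange hfU₁ hfgz d c₂ y' hy'₁ hy'₂ hd₁'
  have hb₁ : AlgSt.LocQ (AlgSp.LocP @Flat) b := by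
    rw [hbdef]
    exact Groth.Agent.Lib.Helper27.LocQDescent.locQ_comp_smooth _ hPfl c hc₁ _ hsnd
  have hb₁' : AlgSt.LocQ (AlgSp.LocP @LocallyOfFinitePresentation) b := by
    rw [hbdef]
    exact Groth.Agent.Lib.Helper27.LocQDescent.locQ_comp_smooth _ hPfp c hc₁ _ hsnd'
  have hb₂ : AlgSt.IsSurjective b := by
    rw [hbdef]
    exact isSurjective_comp _ _
      (Groth.Agent.Lib.Helper27.StPoints.isSurjective_of_rep hfU hfp c hc₂)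
      (isSurjective_fpSnd hfU₁ hfgz hfV₁ d c₂ hd₂)
  have ι : a ⊚ d ≅ b ⊚ c₂ := by
    rw [hadef, hbdef]
    exact whiskerLeftIso c (fpIso d c₂)
  have e2 : a ⊚ AlgSt.overMap l ≅ b ⊚ AlgSt.overMap k₁ := by
    have := whiskerRightIso ι (fpSnd g z)
    rw [hddef, hc₂def] at this
    exact this
  have heq : homOf b ≫ k₁ = homOf a ≫ l := by
    have h1 := homOf_congr e2
    rw [homOf_comp_overMap, homOf_comp_overMap] at h1
    exact h1.symm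
  have hbfl : Flat (homOf b).left := flat_homOf_of_locQ b hb₁
  have hbfp : LocallyOfFinitePresentation (homOf b).left := prop_homOf_of_locQ isSmLocal_lfp b hb₁'
  have hbsurj : Surjective (homOf b).left := ⟨surjective_homOf_of_isSurjective b hb₂⟩
  have hasm : Smooth (homOf a).left :=
    AlgSp.locP_yon_map
      (prop_yon_homOf _ (compHyp_locP Groth.Agent.Lib.Helper3.isEtLocal_smooth) a ha₁)
  have hlP : P l.left := AlgSp.locP_yon_map hPl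
  have hcomp : P ((homOf b).left ≫ k₁.left) := by
    rw [← Over.comp_left, heq, Over.comp_left]
    exact hP.etLocal.comp_mem _ _ (hP.smooth_le _ _ _ hasm) hlP
  have hk : P k₁.left := hcancel (homOf b).left k₁.left hbsurj hbfl hbfp hcomp
  refine ⟨V₁, W, y₁, z, k₁, β₁, hy₁₁, hy₁₂, hz₁, ?_⟩
  haveI := hP.etLocal.stableBC
  exact Groth.Agent.Lib.Helper3.locP_of_repWith hP.etLocal _
    ((AlgSp.repWith_yon_map_iff _ k₁).2 hk)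

end Main

end Groth.Agent.Lib.Helper27.LocQFppfCancel

namespace Groth.Agent.Lib.Helper27.LocQFppfCancel

variable {S : Scheme.{u}}

open Stk

local infixr:80 " ⊚ " => BasedFunctor.comp

variable {𝒳 𝒴 𝒵 : AlgSt.Cat S}

theorem cancel_lft {X Y Z : Scheme.{u}} (b : X ⟶ Y) (k : Y ⟶ Z) (h1 : Surjective b) (h2 : Flat b)
    (h3 : LocallyOfFinitePresentation b) (h4 : LocallyOfFiniteType (b ≫ k)) :
    LocallyOfFiniteType k :=
  Groth.Agent.S5938.result b k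

theorem cancel_lfp {X Y Z : Scheme.{u}} (b : X ⟶ Y) (k : Y ⟶ Z) (h1 : Surjective b) (h2 : Flat b)
    (h3 : LocallyOfFinitePresentation b) (h4 : LocallyOfFinitePresentation (b ≫ k)) :
    LocallyOfFinitePresentation k :=
  Groth.Agent.S0114.result b k

/-- S13007 -/
theorem locQ_lfp_of_fppf_comp (h𝒳 : AlgSt.IsAlgStack Scheme.fppfPrecoverage 𝒳)
    (h𝒴 : AlgSt.IsAlgStack Scheme.fppfPrecoverage 𝒴)
    (h𝒵 : AlgSt.IsAlgStack Scheme.fppfPrecoverage 𝒵)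
    (f : 𝒳 ⥤ᵇ 𝒴) (g : 𝒴 ⥤ᵇ 𝒵)
    (hf₁ : AlgSt.LocQ (AlgSp.LocP @Flat) f)
    (hf₂ : AlgSt.LocQ (AlgSp.LocP @LocallyOfFinitePresentation) f) (hf₃ : AlgSt.IsSurjective f)
    (H : AlgSt.LocQ (AlgSp.LocP @LocallyOfFinitePresentation) (f ⊚ g)) :
    AlgSt.LocQ (AlgSp.LocP @LocallyOfFinitePresentation) g :=
  locQ_of_fppf_comp isSmLocal_lfp (fun b k => cancel_lfp b k) h𝒳 h𝒴 h𝒵 f g hf₁ hf₂ hf₃ H

/-- S13001 -/
theorem locQ_lft_of_fppf_comp (h𝒳 : AlgSt.IsAlgStack Scheme.fppfPrecoverage 𝒳)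
    (h𝒴 : AlgSt.IsAlgStack Scheme.fppfPrecoverage 𝒴)
    (h𝒵 : AlgSt.IsAlgStack Scheme.fppfPrecoverage 𝒵)
    (f : 𝒳 ⥤ᵇ 𝒴) (g : 𝒴 ⥤ᵇ 𝒵)
    (hf₁ : AlgSt.RepByAlgSpWith (AlgSp.LocP @Flat) f)
    (hf₂ : AlgSt.RepByAlgSpWith (AlgSp.LocP @LocallyOfFinitePresentation) f)
    (hf₃ : AlgSt.RepByAlgSpWith AlgSp.IsSurjectiveMor f)
    (H : AlgSt.LocQ (AlgSp.LocP @LocallyOfFiniteType) (f ⊚ g)) :
    AlgSt.LocQ (AlgSp.LocP @LocallyOfFiniteType) g := by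
  obtain ⟨V₀, y₀, hy₀₁, hy₀₂⟩ := h𝒴.atlas
  have h1 : AlgSt.LocQ (AlgSp.LocP @Flat) f :=
    Groth.Agent.Lib.Helper27.LocQRep.locQ_of_repByAlgSpWith _ isSmoothLocalST_locP_flat f y₀
      hy₀₁ hy₀₂ hf₁
  have h2 : AlgSt.LocQ (AlgSp.LocP @LocallyOfFinitePresentation) f :=
    Groth.Agent.Lib.Helper27.LocQRep.locQ_of_repByAlgSpWith _ isSmoothLocalST_locP_lfp f y₀
      hy₀₁ hy₀₂ hf₂
  have h3 : AlgSt.IsSurjective f :=
    Groth.Agent.Lib.Helper27.StPoints.isSurjective_of_rep h𝒳.isStack.1 h𝒴.isStack.1 f hf₃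
  exact locQ_of_fppf_comp isSmLocal_lft (fun b k => cancel_lft b k) h𝒳 h𝒴 h𝒵 f g h1 h2 h3 H

end Groth.Agent.Lib.Helper27.LocQFppfCancel
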