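import Groth.Agent.Lib.Helper27.GerbSecE
import Groth.Agent.Lib.Helper27.LocQFppfCancel
import Groth.Agent.Lib.Helper27.LocQDescent2
import Groth.Agent.Lib.Helper27.SmLocPSmooth
import Groth.Agent.Lib.Helper27.AlgStackFp
import Groth.Agent.S0115

/-!
# A gerbe between algebraic stacks is smooth and surjective (helper27)
-/

set_option autoImplicit false
set_option backward.isDefEq.respectTransparency false
set_option backward.isDefEq.respectTransparency.types false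

universe u

open CategoryTheory CategoryTheory.Limits AlgebraicGeometry Opposite FibCat
  Groth.Agent.Lib.Helper27.FpKit Groth.Agent.Lib.Helper27.PshKit Groth.Agent.Lib.Helper27.PshFp
  Groth.Agent.Lib.Helper27.PshRep Groth.Agent.Lib.Helper27.RepWithComp
  Groth.Agent.Lib.Helper27.Descent Groth.Agent.Lib.Helper27.LocQChart
  Groth.Agent.Lib.Helper27.LocQSpace Groth.Agent.Lib.Helper27.LocQOver
  Groth.Agent.Lib.Helper27.LocQComp Groth.Agent.Lib.Helper27.FpBaseChange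
  Groth.Agent.Lib.Helper27.LocQEquiv Groth.Agent.Lib.Helper27.SmLocP
  Groth.Agent.Lib.Helper27.LocQDescent

namespace Groth.Agent.Lib.Helper27.GerbSmooth

variable {S : Scheme.{u}}

open Stk

local infixr:80 " ⊚ " => BasedFunctor.comp

variable {𝒳 𝒴 : AlgSt.Cat S} (h𝒳 : AlgSt.IsAlgStack Scheme.fppfPrecoverage 𝒳)
  (h𝒴 : AlgSt.IsAlgStack Scheme.fppfPrecoverage 𝒴) (f : 𝒳 ⥤ᵇ 𝒴)
  (hf : Gerb.IsGerbeOver (AlgSp.J S) f)

theorem smooth_cancel {X Y Z : Scheme.{u}} (b : X ⟶ Y) (k : Y ⟶ Z) (h1 : Surjective b)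
    (h2 : Flat b) (h3 : LocallyOfFinitePresentation b) (h : Smooth (b ≫ k)) : Smooth k :=
  Groth.Agent.S0115.result b k

include h𝒳 h𝒴 hf in
/-- The base change of a gerbe to a chart of the target which lifts to the source is smooth. -/
theorem locQ_smooth_fpFst_of_lift {T : Over S} (z : overCat T ⥤ᵇ 𝒴) (x' : overCat T ⥤ᵇ 𝒳)
    (κ : x' ⊚ f ≅ z) : AlgSt.LocQ (AlgSp.LocP @Smooth) (fpFst z f) := by
  have hT := Groth.Agent.Lib.Helper27.ReprAux.isFibGrpd_overCat T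
  have hTa : AlgSt.IsAlgStack Scheme.fppfPrecoverage (overCat T) :=
    Groth.Agent.Lib.Helper27.QcStack.isAlgStack_overCat T
  have h𝒳' : AlgSt.IsAlgStack Scheme.fppfPrecoverage (fp z f) :=
    Groth.Agent.Lib.Helper27.AlgStackFp.isAlgStack_fp z f h𝒴.isStack h𝒴.diag hTa h𝒳
  have hπ' : Gerb.IsGerbeOver (AlgSp.J S) (fpFst z f) :=
    Groth.Agent.Lib.Helper27.GerbAux.isGerbeOver_fpFst _ hT h𝒴.isStack.1 f z hf
  let s : overCat T ⥤ᵇ fp z f := fpLift (BasedFunctor.id _) x' κ.symm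
  have es : s ⊚ fpFst z f ≅ BasedFunctor.id (overCat T) := Iso.refl _
  have hTr := Groth.Agent.Lib.Helper27.FpRepSp2.repByAlgSp_overCat T
  have hs1 := Groth.Agent.Lib.Helper27.GerbSecE.section_flat h𝒳' hT hTr (fpFst z f) hπ'.2 s es
  have hs2 := Groth.Agent.Lib.Helper27.GerbSecE.section_lfp h𝒳' hT hTr (fpFst z f) hπ'.2 s es
  have hs3 := Groth.Agent.Lib.Helper27.GerbSecE.section_surjective h𝒳' hT hTr (fpFst z f) hπ'.2 s es
  obtain ⟨W, w, hw₁, hw₂⟩ := h𝒳'.atlas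
  obtain ⟨T₀, t₀, ht₁, ht₂⟩ := hTa.atlas
  have hs1' : AlgSt.LocQ (AlgSp.LocP @Flat) s :=
    Groth.Agent.Lib.Helper27.LocQRep.locQ_of_repByAlgSpWith _ isSmoothLocalST_locP_flat s w hw₁ hw₂ hs1
  have hs2' : AlgSt.LocQ (AlgSp.LocP @LocallyOfFinitePresentation) s :=
    Groth.Agent.Lib.Helper27.LocQRep.locQ_of_repByAlgSpWith _ isSmoothLocalST_locP_lfp s w hw₁ hw₂ hs2
  have hs3' : AlgSt.IsSurjective s :=
    Groth.Agent.Lib.Helper27.StPoints.isSurjective_of_rep hT h𝒳'.isStack.1 s hs3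
  have hsm := isSmLocal_smooth.{u}
  have hid : AlgSt.LocQ (AlgSp.LocP @Smooth) (BasedFunctor.id (overCat T)) :=
    Groth.Agent.Lib.Helper27.LocQRep.locQ_of_repByAlgSpWith _ (isSmoothLocalST_locP hsm) _ t₀ ht₁ ht₂
      (Groth.Agent.Lib.Helper27.FieldPt.repByAlgSpWith_smooth_id T)
  exact Groth.Agent.Lib.Helper27.LocQFppfCancel.locQ_of_fppf_comp hsm
    (fun b k h1 h2 h3 h => smooth_cancel b k h1 h2 h3 h) hTa h𝒳' hTa s (fpFst z f) hs1' hs2' hs3'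
    (locQ_of_iso _ es.symm hid)

include h𝒳 h𝒴 hf in
/-- A gerbe between algebraic stacks is smooth (on a chart square). -/
theorem locQ_smooth_of_isGerbeOver : AlgSt.LocQ (AlgSp.LocP @Smooth) f := by
  have hsm := isSmLocal_smooth.{u}
  have hP : AlgSp.IsSmoothLocalST (AlgSp.LocP (S := S) @Smooth) := isSmoothLocalST_locP hsm
  have hP₂ := isLocalOnBase_fppf_locP (S := S) hsm
  have hPb := Groth.Agent.Lib.Helper27.FieldPt.locP_baseChange (S := S) hsm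
  have H : CompHyp (AlgSp.LocP (S := S) @Smooth) :=
    compHyp_of_fppf _ (Groth.Agent.Lib.Helper27.FieldPt.locP_compose hsm) hP₂
  have h𝒳f := h𝒳.isStack.1
  have h𝒴f := h𝒴.isStack.1
  obtain ⟨U, x₀, hx₁, hx₂⟩ := h𝒳.atlas
  obtain ⟨V, y, hy₁, hy₂⟩ := h𝒴.atlas
  have hfU := Groth.Agent.Lib.Helper27.ReprAux.isFibGrpd_overCat U
  refine locQ_of_comp_atlas _ hfU h𝒳f x₀ hx₁ hx₂ f ?_
  have hg : AlgSt.RepByAlgSp1 (x₀ ⊚ f) :=
    Groth.Agent.Lib.Helper27.DiagIff.chart_of_diag h𝒴f h𝒴.diag U (x₀ ⊚ f)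
  obtain ⟨F, e, he⟩ := hg V y
  apply locQ_of_prop_atlas _ hP (x₀ ⊚ f) y hy₁ hy₂ F e he
  obtain ⟨R, hR, HR⟩ :=
    Groth.Agent.Lib.Helper27.GerbSecA.exists_lifts_of_locSurjObj _ h𝒳f h𝒴f f hf.1 V y
  have hex : ∀ t : ↥V.left, ∃ (T : Over S) (h : T ⟶ V), R h ∧ Flat h.left ∧
      LocallyOfFinitePresentation h.left ∧ t ∈ Set.range h.left :=
    Groth.Agent.Lib.Helper27.DescentFam.exists_fppf_mem_sieve R hR
  choose T h hRh hfl hfp ht using hex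
  have hu : ∀ t, ∃ x' : overCat (T t) ⥤ᵇ 𝒳, Nonempty (x' ⊚ f ≅ AlgSt.overMap (h t) ⊚ y) :=
    fun t => HR (h t) (hRh t)
  choose x' κ using hu
  refine Groth.Agent.Lib.Helper27.DescentFam.descent_over_schemes _ hP₂ (x₀ ⊚ f) y F e he T h
    hfl hfp (fun t => ⟨t, ht t⟩) (fun t => AlgSt.overMap (h t) ⊚ y) (fun t => Iso.refl _) ?_
  intro t
  have H1 : AlgSt.LocQ (AlgSp.LocP @Smooth) (fpFst (AlgSt.overMap (h t) ⊚ y) f) :=
    locQ_smooth_fpFst_of_lift h𝒳 h𝒴 f hf _ (x' t) (κ t).some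
  have H2 : AlgSt.LocQ (AlgSp.LocP @Smooth) (fpFst (AlgSt.overMap (h t) ⊚ y) (x₀ ⊚ f)) :=
    locQ_comp_smooth _ hP (mapSnd (AlgSt.overMap (h t) ⊚ y) f x₀)
      (repByAlgSpWith_mapSnd (AlgSt.overMap (h t) ⊚ y) f x₀ _ hx₁) (fpFst _ f) H1
  have hrep : AlgSt.RepByAlgSp1 (fpFst (AlgSt.overMap (h t) ⊚ y) (x₀ ⊚ f)) :=
    (Groth.Agent.Lib.Helper27.AlgStackEquiv.repByAlgSp1_iff _).2
      (Groth.Agent.Lib.Helper27.RepWithGeneral.repByAlgSpWith_fpFst ⊤ (x₀ ⊚ f) _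
        ((Groth.Agent.Lib.Helper27.AlgStackEquiv.repByAlgSp1_iff _).1 hg))
  have H3 : AlgSt.RepByAlgSpWith (AlgSp.LocP @Smooth)
      (fpFst (AlgSt.overMap (h t) ⊚ y) (x₀ ⊚ f)) :=
    Groth.Agent.Lib.Helper27.LocQRep.repByAlgSpWith_of_locQ _ hP hPb _ hrep H2
  obtain ⟨X'', e'', he''⟩ := hg (T t) (AlgSt.overMap (h t) ⊚ y)
  exact ⟨X'', e'', he'',
    Groth.Agent.Lib.Helper27.GerbSecB.prop_of_slice _ H _ X'' e'' he'' H3⟩

end Groth.Agent.Lib.Helper27.GerbSmooth
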