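import Groth.Agent.Lib.Helper27.GerbSecF
import Groth.Agent.Lib.Helper27.GerbSmooth
import Groth.Agent.Lib.Helper27.InertiaDiag
import Groth.Agent.Lib.Helper27.LocQBase

/-!
# The diagonal and the relative inertia of a gerbe (helper27)
-/

set_option autoImplicit false
set_option backward.isDefEq.respectTransparency false
set_option backward.isDefEq.respectTransparency.types false

universe v₄ u₄ v₃ u₃ v₂ u₂ v u

open CategoryTheory CategoryTheory.Limits AlgebraicGeometry Opposite FibCat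
  Groth.Agent.Lib.Helper27.FpKit Groth.Agent.Lib.Helper27.SmLocP
  Groth.Agent.Lib.Helper27.RepWithComp Groth.Agent.Lib.Helper27.LocQOver
  Groth.Agent.Lib.Helper27.DescentKit

namespace Groth.Agent.Lib.Helper27.GerbDiag

section Site

variable {C : Type u} [Category.{v} C] (J : GrothendieckTopology C)
  {𝒳 : BasedCategory.{v₂, u₂} C} {𝒴 : BasedCategory.{v₃, u₃} C}

/-- If the diagonal of `f` is locally essentially surjective then morphisms lift locally along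
`f`. -/
theorem locSurjHom_of_locSurjObj_diag (h𝒴 : FibCat.IsFibGrpd 𝒴.p) (f : 𝒳 ⥤ᵇ 𝒴)
    (h : Gerb.LocSurjObj J (diag f)) : Gerb.LocSurjHom J f := by
  intro x₁ x₂ b hb
  have hbi : IsIso b := FG.isIso h𝒴 b hb
  have hbv : 𝒴.p.IsHomLift (𝟙 (𝒴.p.obj (f.obj x₁))) b := by
    rw [f.w_obj x₁]; exact hb
  let t : (fp f f).obj := mkObj x₁ x₂ (asIso b) (Vert.of_lift hbv)
  obtain ⟨R, hR, H⟩ := Groth.Agent.Lib.Helper27.GerbAux.LocSurjObj.exists' J h t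
    (rfl : (fp f f).p.obj t = 𝒳.p.obj x₁)
  refine ⟨R, hR, fun V k hk => ?_⟩
  obtain ⟨c, g, hg⟩ := H k hk
  refine ⟨c, g.hom.fst, g.hom.snd, Groth.Agent.Lib.Helper27.StackFp.fst_lift g k hg,
    Groth.Agent.Lib.Helper27.StackFp.snd_lift g k hg, ?_⟩
  have w := hom_w g
  change f.toFunctor.map g.hom.fst ≫ b = 𝟙 _ ≫ f.toFunctor.map g.hom.snd at w
  rw [Category.id_comp] at w
  exact w

end Site

section Sch

variable {S : Scheme.{u}}

local infixr:80 " ⊚ " => BasedFunctor.comp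

theorem locQ_mono {P P' : MorphismProperty (AlgSp.Sp S)} (hPP' : P ≤ P') {𝒳 𝒴 : AlgSt.Cat S}
    (f : 𝒳 ⥤ᵇ 𝒴) (hf : AlgSt.LocQ P f) : AlgSt.LocQ P' f := by
  obtain ⟨U, V, x, y, h, α, hx₁, hx₂, hy₁, hPh⟩ := hf
  exact ⟨U, V, x, y, h, α, hx₁, hx₂, hy₁, hPP' _ hPh⟩

variable {𝒳 𝒴 : AlgSt.Cat S} (h𝒳 : AlgSt.IsAlgStack Scheme.fppfPrecoverage 𝒳)
  (h𝒴 : AlgSt.IsAlgStack Scheme.fppfPrecoverage 𝒴) (f : 𝒳 ⥤ᵇ 𝒴)

include h𝒳 h𝒴 in
/-- The diagonal of a gerbe is surjective, flat and locally of finite presentation. -/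
theorem diag_fppf_of_isGerbeOver (hf : Gerb.IsGerbeOver (AlgSp.J S) f) :
    AlgSt.IsSurjective (diag f) ∧ AlgSt.LocQ (AlgSp.LocP @Flat) (diag f) ∧
      AlgSt.LocQ (AlgSp.LocP @LocallyOfFinitePresentation) (diag f) := by
  have h𝒵 : AlgSt.IsAlgStack Scheme.fppfPrecoverage (fp f f) :=
    Groth.Agent.Lib.Helper27.AlgStackFp.isAlgStack_fp f f h𝒴.isStack h𝒴.diag h𝒳 h𝒳
  have hπ : Gerb.IsGerbeOver (AlgSp.J S) (fpFst f f) :=
    Groth.Agent.Lib.Helper27.GerbAux.isGerbeOver_fpFst _ h𝒳.isStack.1 h𝒴.isStack.1 f f hf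
  exact Groth.Agent.Lib.Helper27.GerbSecF.section_fppf h𝒵 h𝒳 (fpFst f f) hπ (diag f) (Iso.refl _)

include h𝒳 h𝒴 in
/-- A gerbe is surjective, flat and locally of finite presentation. -/
theorem fppf_of_isGerbeOver (hf : Gerb.IsGerbeOver (AlgSp.J S) f) :
    AlgSt.IsSurjective f ∧ AlgSt.LocQ (AlgSp.LocP @Flat) f ∧
      AlgSt.LocQ (AlgSp.LocP @LocallyOfFinitePresentation) f := by
  have hsm := Groth.Agent.Lib.Helper27.GerbSmooth.locQ_smooth_of_isGerbeOver h𝒳 h𝒴 f hf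
  exact ⟨Groth.Agent.Lib.Helper27.GerbSecA.isSurjective_of_locSurjObj f hf.1,
    locQ_mono (fun _ _ _ hk => Groth.Agent.Lib.Helper3.locP_mono smooth_le_flat hk) f hsm,
    locQ_mono (fun _ _ _ hk => Groth.Agent.Lib.Helper3.locP_mono smooth_le_lfp hk) f hsm⟩

include h𝒳 h𝒴 in
/-- Gerbes are the morphisms which, together with their diagonal, are surjective, flat and
locally of finite presentation. -/
theorem isGerbeOver_iff :
    Gerb.IsGerbeOver (AlgSp.J S) f ↔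
      (AlgSt.IsSurjective f ∧ AlgSt.LocQ (AlgSp.LocP @Flat) f ∧
        AlgSt.LocQ (AlgSp.LocP @LocallyOfFinitePresentation) f) ∧
      (AlgSt.IsSurjective (diag f) ∧ AlgSt.LocQ (AlgSp.LocP @Flat) (diag f) ∧
        AlgSt.LocQ (AlgSp.LocP @LocallyOfFinitePresentation) (diag f)) := by
  constructor
  · intro hf
    exact ⟨fppf_of_isGerbeOver h𝒳 h𝒴 f hf, diag_fppf_of_isGerbeOver h𝒳 h𝒴 f hf⟩
  · rintro ⟨⟨h1, h2, h3⟩, ⟨d1, d2, d3⟩⟩
    have h𝒵 : AlgSt.IsAlgStack Scheme.fppfPrecoverage (fp f f) :=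
      Groth.Agent.Lib.Helper27.AlgStackFp.isAlgStack_fp f f h𝒴.isStack h𝒴.diag h𝒳 h𝒳
    refine ⟨Groth.Agent.Lib.Helper27.GerbLoc.locSurjObj_of_fppf h𝒳.isStack.1 h𝒴.isStack.1 f h2 h3 h1,
      locSurjHom_of_locSurjObj_diag _ h𝒴.isStack.1 f ?_⟩
    exact Groth.Agent.Lib.Helper27.GerbLoc.locSurjObj_of_fppf h𝒳.isStack.1 h𝒵.isStack.1 (diag f)
      d2 d3 d1

include h𝒳 h𝒴 in
/-- The relative inertia of a gerbe is flat and locally of finite presentation. -/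
theorem inertia_fppf_of_isGerbeOver (hf : Gerb.IsGerbeOver (AlgSp.J S) f) :
    AlgSt.LocQ (AlgSp.LocP @Flat) (inertiaToBase f) ∧
      AlgSt.LocQ (AlgSp.LocP @LocallyOfFinitePresentation) (inertiaToBase f) := by
  obtain ⟨-, d2, d3⟩ := diag_fppf_of_isGerbeOver h𝒳 h𝒴 f hf
  have h𝒵 : AlgSt.IsAlgStack Scheme.fppfPrecoverage (fp f f) :=
    Groth.Agent.Lib.Helper27.AlgStackFp.isAlgStack_fp f f h𝒴.isStack h𝒴.diag h𝒳 h𝒳
  obtain ⟨U, x₀, hx₁, hx₂⟩ := h𝒳.atlas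
  obtain ⟨E', hE', -, ⟨ε⟩⟩ := exists_inverse (Groth.Agent.Lib.Helper27.InertiaDiag.E f)
    (Groth.Agent.Lib.Helper27.InertiaDiag.isEquivOver_E f)
  have key : ∀ (Q : MorphismProperty Scheme.{u}) (hQ : IsSmLocal Q),
      AlgSt.LocQ (AlgSp.LocP Q) (diag f) → AlgSt.LocQ (AlgSp.LocP Q) (inertiaToBase f) := by
    intro Q hQ hd
    have h1 : AlgSt.LocQ (AlgSp.LocP Q) (fpFst (diag f) (diag f)) :=
      Groth.Agent.Lib.Helper27.LocQBase.locQ_fpFst _ (isSmoothLocalST_locP hQ)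
        (Groth.Agent.Lib.Helper27.FieldPt.locP_baseChange hQ) h𝒳.isStack.1 h𝒵.isStack.1
        (diag f) (diag f) x₀ hx₁ hx₂ hd
    refine Groth.Agent.Lib.Helper27.LocQEquiv.locQ_of_equiv _ (fpFst (diag f) (diag f))
      (inertiaToBase f) E' (BasedFunctor.id _) hE' (isEquivOver_id _) ?_ h1
    exact (Groth.Agent.Lib.Helper27.GerbLoc.whiskerRightIso ε (fpFst (diag f) (diag f))).symm
  exact ⟨key _ isSmLocal_flat d2, key _ isSmLocal_lfp d3⟩

end Sch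

end Groth.Agent.Lib.Helper27.GerbDiag
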