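import Groth.Agent.Lib.Helper27.QcPoints
import Groth.Agent.Lib.Helper27.FpSwap

/-!
# Quasi-compactness descends along flat, locally finitely presented, surjective functors
(helper27)
-/

set_option autoImplicit false
set_option backward.isDefEq.respectTransparency false
set_option backward.isDefEq.respectTransparency.types false

universe u

open CategoryTheory CategoryTheory.Limits FibCat AlgebraicGeometry Opposite
  Groth.Agent.Lib.Helper27.FpKit Groth.Agent.Lib.Helper27.PointsKit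
  Groth.Agent.Lib.Helper27.StPoints Groth.Agent.Lib.Helper27.RepWithComp
  Groth.Agent.Lib.Helper27.PshKit

namespace Groth.Agent.Lib.Helper27.QcImage

variable {S : Scheme.{u}}

theorem locP_stable {Q : MorphismProperty Scheme.{u}} (hQ : Groth.Agent.Lib.Helper3.IsEtLocal Q)
    ⦃X₁ Y₁ X₂ Y₂ : AlgSp.Sp S⦄ (h1 : AlgSp.IsAlgSpace X₁)
    (h2 : AlgSp.IsAlgSpace Y₁) (h3 : AlgSp.IsAlgSpace X₂) (h4 : AlgSp.IsAlgSpace Y₂)
    (a : X₁ ⟶ Y₁) (b : Y₂ ⟶ Y₁) (a' : X₂ ⟶ Y₂) (b' : X₂ ⟶ X₁) (sq : IsPullback b' a' a b)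
    (ha : AlgSp.LocP Q a) : AlgSp.LocP Q a' :=
  Groth.Agent.Lib.Helper3.locP_of_isPullback hQ h1 h2 h4 h3 a b b' a' sq ha

/-- A functor from an algebraic space to a slice, followed by a morphism of schemes and a chart,
all with `P`, has `P`. -/
theorem repByAlgSpWith_comp_overMap {𝒴 : AlgSt.Cat S} (P : MorphismProperty (AlgSp.Sp S))
    (H : CompHyp P)
    (hPb : ∀ ⦃X₁ Y₁ X₂ Y₂ : AlgSp.Sp S⦄, AlgSp.IsAlgSpace X₁ → AlgSp.IsAlgSpace Y₁ →
      AlgSp.IsAlgSpace X₂ → AlgSp.IsAlgSpace Y₂ → ∀ (a : X₁ ⟶ Y₁) (b : Y₂ ⟶ Y₁) (a' : X₂ ⟶ Y₂)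
      (b' : X₂ ⟶ X₁), IsPullback b' a' a b → P a → P a')
    (F : AlgSp.Space S) {U V : Over S} (Φ : AlgSt.ofSp F.obj ⥤ᵇ overCat U)
    (hΦ : AlgSt.RepByAlgSpWith P Φ) (h : U ⟶ V) (hh : P ((AlgSp.yon S).map h))
    (y : overCat V ⥤ᵇ 𝒴) (hy : AlgSt.RepByAlgSpWith P y) :
    AlgSt.RepByAlgSpWith P
      (BasedFunctor.comp Φ (BasedFunctor.comp (AlgSt.overMap h) y)) := by
  have hc : P (AlgSt.spMapOfOver Φ) := by
    have h0 := Groth.Agent.Lib.Helper27.LocQComp.prop_structMap P H F.property Φ hΦ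
    have h1 : (ObjectProperty.homMk (pshMapOf (BasedFunctor.comp Φ (AlgSt.ofOverCat U))) :
        F.obj ⟶ (AlgSp.yon S).obj U) = AlgSt.spMapOfOver Φ := by
      apply ObjectProperty.hom_ext
      exact (Groth.Agent.Lib.Helper27.PshRep.spMapOfOver_eq Φ).symm
    rw [h1] at h0
    exact h0
  have hcomp : P (AlgSt.spMapOfOver Φ ≫ (AlgSp.yon S).map h) :=
    H.comp F.property (AlgSp.IsAlgSpace.yon_obj U) (AlgSp.IsAlgSpace.yon_obj V) _ _ hc hh
  have h1 : AlgSt.RepByAlgSpWith P (AlgSt.ofSpMap (AlgSt.spMapOfOver Φ ≫ (AlgSp.yon S).map h)) :=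
    Groth.Agent.Lib.Helper27.LocQComp.repByAlgSpWith_ofSpMap_of_stable P hPb F.property
      (AlgSp.IsAlgSpace.yon_obj V) _ hcomp
  have h2 : AlgSt.RepByAlgSpWith P (BasedFunctor.comp (AlgSt.toOverCat V) y) :=
    Groth.Agent.Lib.Helper27.LocQOver.repByAlgSpWith_equiv_comp P (AlgSt.toOverCat V)
      (Groth.Agent.Lib.Helper27.PshRep.isEquivOver_toOverCat V) y hy
  have h3 := comp_gen P H (Stk.isFibGrpd_ofPsh (P := F.obj.obj))
    (Stk.isFibGrpd_ofPsh (P := ((AlgSp.yon S).obj V).obj)) _ _ h1 h2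
  have e1 : BasedFunctor.comp (AlgSt.ofSpMap (AlgSt.spMapOfOver Φ ≫ (AlgSp.yon S).map h))
      (BasedFunctor.comp (AlgSt.toOverCat V) y) =
      BasedFunctor.comp (BasedFunctor.comp (AlgSt.ofSpMap (AlgSt.spMapOfOver Φ))
        (AlgSt.toOverCat U)) (BasedFunctor.comp (AlgSt.overMap h) y) := rfl
  rw [e1] at h3
  exact Groth.Agent.Lib.Helper27.LocQOver.repByAlgSpWith_of_iso P
    (Groth.Agent.Lib.Helper27.RepCancel.whiskerRightIso
      (Groth.Agent.Lib.Helper27.RepChart.structIso Φ) _) h3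

/-- A functor with flat and locally finitely presented chart squares, precomposed with a
suitable surjective functor from an algebraic space, is representable, flat and locally of finite
presentation. -/
theorem exists_fppf_space_chart {𝒵 𝒴 : AlgSt.Cat S} (h𝒵 : FibCat.IsFibGrpd 𝒵.p)
    (z : 𝒵 ⥤ᵇ 𝒴) (hz₁ : AlgSt.LocQ (AlgSp.LocP @Flat) z)
    (hz₂ : AlgSt.LocQ (AlgSp.LocP @LocallyOfFinitePresentation) z) :
    ∃ (R : AlgSp.Space S) (x'' : AlgSt.ofSp R.obj ⥤ᵇ 𝒵),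
      AlgSt.RepByAlgSpWith AlgSp.IsSurjectiveMor x'' ∧
      AlgSt.RepByAlgSpWith (AlgSp.LocP @Flat) (BasedFunctor.comp x'' z) ∧
      AlgSt.RepByAlgSpWith (AlgSp.LocP @LocallyOfFinitePresentation)
        (BasedFunctor.comp x'' z) := by
  obtain ⟨U, V, x, y, h, α, hx₁, hx₂, hy₁, hPh⟩ := hz₁
  obtain ⟨U', V', x', y', h', α', hx'₁, hx'₂, hy'₁, hPh'⟩ := hz₂
  obtain ⟨R, e, he, -⟩ := hx'₁ U x
  have hfU := Groth.Agent.Lib.Helper27.ReprAux.isFibGrpd_overCat U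
  have hfR : FibCat.IsFibGrpd (AlgSt.ofSp R.obj).p := Stk.isFibGrpd_ofPsh (P := R.obj.obj)
  have hpr₁ : ∀ P : MorphismProperty (AlgSp.Sp S), AlgSt.RepByAlgSpWith P x' →
      AlgSt.RepByAlgSpWith P (BasedFunctor.comp e (fpFst x x')) := fun P hP =>
    Groth.Agent.Lib.Helper27.LocQOver.repByAlgSpWith_equiv_comp P e he _
      (Groth.Agent.Lib.Helper27.RepWithGeneral.repByAlgSpWith_fpFst P x' x hP)
  have hpr₂ : ∀ P : MorphismProperty (AlgSp.Sp S), AlgSt.RepByAlgSpWith P x →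
      AlgSt.RepByAlgSpWith P (BasedFunctor.comp e (fpSnd x x')) := fun P hP =>
    Groth.Agent.Lib.Helper27.LocQOver.repByAlgSpWith_equiv_comp P e he _
      (Groth.Agent.Lib.Helper27.FpSwap.repByAlgSpWith_fpSnd P x' x hP)
  refine ⟨R, BasedFunctor.comp (BasedFunctor.comp e (fpFst x x')) x, ?_, ?_, ?_⟩
  · exact comp_gen _ Groth.Agent.Lib.Helper27.DiagLft.compHyp_isSurjectiveMor hfR hfU _ x
      (hpr₁ _ hx'₂) hx₂
  · have h1 := repByAlgSpWith_comp_overMap (AlgSp.LocP @Flat)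
      (compHyp_locP Groth.Agent.Lib.Helper3.isEtLocal_flat)
      (locP_stable Groth.Agent.Lib.Helper3.isEtLocal_flat) R
      (BasedFunctor.comp e (fpFst x x'))
      (hpr₁ _ (Groth.Agent.Lib.Helper27.DiagLft.flat_of_smooth x' hx'₁)) h hPh y
      (Groth.Agent.Lib.Helper27.DiagLft.flat_of_smooth y hy₁)
    exact Groth.Agent.Lib.Helper27.LocQOver.repByAlgSpWith_of_iso _
      (Groth.Agent.Lib.Helper27.RepCancel.whiskerLeftIso (BasedFunctor.comp e (fpFst x x'))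
        α.symm) h1
  · have h1 := repByAlgSpWith_comp_overMap (AlgSp.LocP @LocallyOfFinitePresentation)
      (compHyp_locP Groth.Agent.Lib.Helper3.isEtLocal_locallyOfFinitePresentation)
      (locP_stable Groth.Agent.Lib.Helper3.isEtLocal_locallyOfFinitePresentation) R
      (BasedFunctor.comp e (fpSnd x x'))
      (hpr₂ _ (Groth.Agent.Lib.Helper27.DiagLft.lfp_of_smooth x hx₁)) h' hPh' y'
      (Groth.Agent.Lib.Helper27.DiagLft.lfp_of_smooth y' hy'₁)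
    have i1 : BasedFunctor.comp (BasedFunctor.comp e (fpSnd x x'))
        (BasedFunctor.comp (AlgSt.overMap h') y') ≅
        BasedFunctor.comp (BasedFunctor.comp e (fpSnd x x')) (BasedFunctor.comp x' z) :=
      Groth.Agent.Lib.Helper27.RepCancel.whiskerLeftIso (BasedFunctor.comp e (fpSnd x x'))
        α'.symm
    have i2 : BasedFunctor.comp (BasedFunctor.comp (BasedFunctor.comp e (fpSnd x x')) x') z ≅
        BasedFunctor.comp (BasedFunctor.comp (BasedFunctor.comp e (fpFst x x')) x) z :=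
      Groth.Agent.Lib.Helper27.RepCancel.whiskerRightIso
        (Groth.Agent.Lib.Helper27.RepCancel.whiskerLeftIso e (fpIso x x').symm) z
    exact Groth.Agent.Lib.Helper27.LocQOver.repByAlgSpWith_of_iso _ (i1 ≪≫ i2) h1

theorem isQuasiCompactMor_of_fpFst_of_fppf {𝒳 𝒴 𝒵 : AlgSt.Cat S}
    (h𝒳 : AlgSt.IsAlgStack Scheme.fppfPrecoverage 𝒳)
    (h𝒴 : AlgSt.IsAlgStack Scheme.fppfPrecoverage 𝒴) (f : 𝒳 ⥤ᵇ 𝒴)
    (h𝒵 : AlgSt.IsAlgStack Scheme.fppfPrecoverage 𝒵) (z : 𝒵 ⥤ᵇ 𝒴)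
    (hz₁ : AlgSt.LocQ (AlgSp.LocP @Flat) z)
    (hz₂ : AlgSt.LocQ (AlgSp.LocP @LocallyOfFinitePresentation) z)
    (hz₃ : AlgSt.IsSurjective z)
    (H : AlgSt.IsQuasiCompactMor Scheme.fppfPrecoverage (fpFst z f)) :
    AlgSt.IsQuasiCompactMor Scheme.fppfPrecoverage f := by
  obtain ⟨R, x'', hx'', hfl, hfp⟩ := exists_fppf_space_chart h𝒵.isStack.1 z hz₁ hz₂
  have hfR : FibCat.IsFibGrpd (AlgSt.ofSp R.obj).p := Stk.isFibGrpd_ofPsh (P := R.obj.obj)
  have hs1 : AlgSt.IsSurjective x'' := isSurjective_of_rep hfR h𝒵.isStack.1 x'' hx''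
  have hs2 : AlgSt.IsSurjective (BasedFunctor.comp x'' z) := fun y => by
    obtain ⟨t, rfl⟩ := hz₃ y
    obtain ⟨w, rfl⟩ := hs1 t
    exact ⟨w, map_comp x'' z w⟩
  have hrep : AlgSt.RepByAlgSp1 (BasedFunctor.comp x'' z) := fun U t => by
    obtain ⟨G, eG, heG, -⟩ := hfl U t
    exact ⟨G, eG, heG⟩
  have hsurj := rep_of_isSurjective hfR h𝒴.isStack.1 _ hrep hs2
  refine isQuasiCompactMor_of_fpFst h𝒳 h𝒴 f R (BasedFunctor.comp x'' z) hfl hfp hsurj ?_
  intro 𝒯 h𝒯 hq k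
  have h1 : AlgSt.IsQuasiCompact (fp (BasedFunctor.comp k x'') (fpFst z f)) :=
    H 𝒯 h𝒯 hq (BasedFunctor.comp k x'')
  have h2 : AlgSt.IsQuasiCompact (fp (BasedFunctor.comp (BasedFunctor.comp k x'') z) f) :=
    Groth.Agent.Lib.Helper27.QcStack.isQuasiCompact_of_equiv (pasteL f z (BasedFunctor.comp k x''))
      (isEquivOver_pasteL f z (BasedFunctor.comp k x'')) h1
  exact Groth.Agent.Lib.Helper27.QcStack.isQuasiCompact_of_equiv'
    (pasteL f (BasedFunctor.comp x'' z) k) (isEquivOver_pasteL f (BasedFunctor.comp x'' z) k) h2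

end Groth.Agent.Lib.Helper27.QcImage
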