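import Groth.Agent.Lib.Helper27.StPointsTop4
import Groth.Agent.Lib.Helper27.QcFppf
import Groth.Agent.Lib.Helper3.AlgSpDiag

/-!
# Open functors and open substacks on points (helper27)
-/

set_option autoImplicit false
set_option backward.isDefEq.respectTransparency false
set_option backward.isDefEq.respectTransparency.types false

universe u

open CategoryTheory CategoryTheory.Limits FibCat AlgebraicGeometry Opposite
  Groth.Agent.Lib.Helper27.FpKit Groth.Agent.Lib.Helper27.PointsKit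
  Groth.Agent.Lib.Helper27.RepWithComp

namespace Groth.Agent.Lib.Helper27.StPoints

variable {S : Scheme.{u}} {𝒳 𝒴 : AlgSt.Cat S}

/-- A flat, locally finitely presented functor between algebraic stacks is open on points. -/
theorem isOpenMor_of_locQ (h𝒳 : AlgSt.IsAlgStack Scheme.fppfPrecoverage 𝒳)
    (h𝒴 : FibCat.IsFibGrpd 𝒴.p) (f : 𝒳 ⥤ᵇ 𝒴)
    (hf₁ : AlgSt.LocQ (AlgSp.LocP @Flat) f)
    (hf₂ : AlgSt.LocQ (AlgSp.LocP @LocallyOfFinitePresentation) f) : AlgSt.IsOpenMor f := by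
  obtain ⟨R, x'', hx'', hfl, hfp⟩ :=
    Groth.Agent.Lib.Helper27.QcImage.exists_fppf_space_chart h𝒳.isStack.1 f hf₁ hf₂
  have hs := isSurjective_of_rep (Stk.isFibGrpd_ofPsh (P := R.obj.obj)) h𝒳.isStack.1 x'' hx''
  intro W hW
  have hW' : IsOpen (AlgSt.Points.map x'' ⁻¹' W) := (continuous_map h𝒳 x'').isOpen_preimage W hW
  have := isOpenMap_map_of_flat_lfp_space h𝒴 R (BasedFunctor.comp x'' f) hfl hfp _ hW'
  have heq : AlgSt.Points.map (BasedFunctor.comp x'' f) '' (AlgSt.Points.map x'' ⁻¹' W) =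
      AlgSt.Points.map f '' W := by
    ext p
    constructor
    · rintro ⟨q, hq, rfl⟩
      exact ⟨AlgSt.Points.map x'' q, hq, (map_comp x'' f q).symm⟩
    · rintro ⟨q, hq, rfl⟩
      obtain ⟨r, rfl⟩ := hs q
      exact ⟨r, hq, map_comp x'' f r⟩
  rwa [heq] at this

theorem smooth_of_isOpenImm {𝒰 : AlgSt.Cat S} (g : 𝒰 ⥤ᵇ 𝒳) (hg : AlgSt.IsOpenImm g) :
    AlgSt.RepByAlgSpWith (AlgSp.LocP @Smooth) g :=
  Groth.Agent.Lib.Helper27.SepDiag.repByAlgSpWith_mono g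
    (fun _ _ k hk => Groth.Agent.Lib.Helper27.LocQSpace.smooth_of_etale k
      (Groth.Agent.Lib.Helper3.repWith_mono
        (fun _ _ m hm => by have : IsOpenImmersion m := hm; infer_instance) hk)) hg

/-- The image on points of an open immersion from an algebraic stack is open. -/
theorem isOpen_range_of_isOpenImm {𝒰 : AlgSt.Cat S}
    (h𝒰 : AlgSt.IsAlgStack Scheme.fppfPrecoverage 𝒰) (h𝒳 : FibCat.IsFibGrpd 𝒳.p)
    (g : 𝒰 ⥤ᵇ 𝒳) (hg : AlgSt.IsOpenImm g) : IsOpen (Set.range (AlgSt.Points.map g)) := by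
  obtain ⟨U, x, hx₁, hx₂⟩ := h𝒰.atlas
  have hsm : AlgSt.RepByAlgSpWith (AlgSp.LocP @Smooth) (BasedFunctor.comp x g) :=
    comp_gen _ (compHyp_locP Groth.Agent.Lib.Helper3.isEtLocal_smooth)
      (Groth.Agent.Lib.Helper27.ReprAux.isFibGrpd_overCat U) h𝒰.isStack.1 x g hx₁
      (smooth_of_isOpenImm g hg)
  have hopen := isOpenMap_ofChart_of_smooth h𝒳 (BasedFunctor.comp x g) hsm
  have hs := ofChart_surjective h𝒰.isStack.1 x hx₂
  have heq : Set.range (AlgSt.Points.map g) =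
      Set.range (AlgSt.Points.ofChart (BasedFunctor.comp x g)) := by
    ext p
    constructor
    · rintro ⟨q, rfl⟩
      obtain ⟨t, rfl⟩ := hs q
      exact ⟨t, by rw [ofChart_eq, ofChart_eq, map_comp]⟩
    · rintro ⟨t, rfl⟩
      exact ⟨AlgSt.Points.ofChart x t, by rw [ofChart_eq, ofChart_eq, map_comp]⟩
  rw [heq]
  exact hopen.isOpen_range

theorem exists_finset_subcover (h𝒳 : AlgSt.IsAlgStack Scheme.fppfPrecoverage 𝒳)
    (Q' : 𝒳.obj → Prop) (hQ' : AlgSt.IsOpenSubstack 𝒳 Q' Scheme.fppfPrecoverage)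
    (hqc : AlgSt.IsQuasiCompact (AlgSt.fullSub 𝒳 Q'))
    {ι : Type*} (Q : ι → 𝒳.obj → Prop)
    (hQ : ∀ i, AlgSt.IsOpenSubstack 𝒳 (Q i) Scheme.fppfPrecoverage)
    (hcov : Set.range (AlgSt.Points.map (AlgSt.subIncl 𝒳 Q')) ⊆
      ⋃ i, Set.range (AlgSt.Points.map (AlgSt.subIncl 𝒳 (Q i)))) :
    ∃ I' : Finset ι, Set.range (AlgSt.Points.map (AlgSt.subIncl 𝒳 Q')) ⊆
      ⋃ i ∈ I', Set.range (AlgSt.Points.map (AlgSt.subIncl 𝒳 (Q i))) := by
  have hc : CompactSpace (AlgSt.Points (AlgSt.fullSub 𝒳 Q')) :=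
    (isQuasiCompact_iff_compactSpace hQ'.2.1).1 hqc
  have hcomp : IsCompact (Set.range (AlgSt.Points.map (AlgSt.subIncl 𝒳 Q'))) :=
    isCompact_range (continuous_map h𝒳 _)
  exact hcomp.elim_finite_subcover _
    (fun i => isOpen_range_of_isOpenImm (hQ i).2.1 h𝒳.isStack.1 _ (hQ i).2.2) hcov

end Groth.Agent.Lib.Helper27.StPoints
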