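import Groth.Agent.Lib.Helper27.StPointsTop
import Groth.Agent.Lib.Helper27.SepDiag
import Groth.Agent.Lib.Helper27.RepWithComp2
import Groth.Agent.S10530
import Groth.Agent.S10527

/-!
# The topology on the points of an algebraic stack (helper27)
-/

set_option autoImplicit false
set_option backward.isDefEq.respectTransparency false
set_option backward.isDefEq.respectTransparency.types false

universe u

open CategoryTheory CategoryTheory.Limits FibCat AlgebraicGeometry Opposite
  Groth.Agent.Lib.Helper27.FpKit Groth.Agent.Lib.Helper27.PointsKit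
  Groth.Agent.Lib.Helper27.RepWithComp

namespace Groth.Agent.Lib.Helper27.StPoints

variable {S : Scheme.{u}} {𝒳 𝒴 : AlgSt.Cat S}

theorem ofChart_comparison {U U' A : Over S} (x : overCat U ⥤ᵇ 𝒳) (x' : overCat U' ⥤ᵇ 𝒳)
    (a : A ⟶ U) (a' : A ⟶ U')
    (e : BasedFunctor.comp (AlgSt.overMap a) x ≅ BasedFunctor.comp (AlgSt.overMap a') x')
    (t : ↥A.left) :
    AlgSt.Points.ofChart x (a.left t) = AlgSt.Points.ofChart x' (a'.left t) := by
  rw [← ofChart_overMap, ← ofChart_overMap]
  exact ofChart_congr e t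

/-- The chart map of a functor from a slice which is surjective on points is surjective. -/
theorem ofChart_surjective (h𝒳 : FibCat.IsFibGrpd 𝒳.p) {Y : Over S} (y : overCat Y ⥤ᵇ 𝒳)
    (hy : AlgSt.RepByAlgSpWith AlgSp.IsSurjectiveMor y) :
    Function.Surjective (AlgSt.Points.ofChart y) := by
  intro p
  obtain ⟨q, rfl⟩ := isSurjective_of_rep (Groth.Agent.Lib.Helper27.ReprAux.isFibGrpd_overCat Y)
    h𝒳 y hy p
  obtain ⟨t, rfl⟩ := (ptOf_bijective Y).2 q
  exact ⟨t, rfl⟩

/-- For an algebraic stack, the chart map of every functor from a slice is continuous. -/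
theorem continuous_ofChart (h𝒳 : AlgSt.IsAlgStack Scheme.fppfPrecoverage 𝒳) {U : Over S}
    (x : overCat U ⥤ᵇ 𝒳) : Continuous (AlgSt.Points.ofChart x) := by
  obtain ⟨Y, y, hy₁, hy₂⟩ := h𝒳.atlas
  obtain ⟨A, a, a', hsm, ⟨e⟩, hpts⟩ := exists_chart_comparison h𝒳.isStack.1 x y @Smooth hy₁
  have hsurj : Function.Surjective a.left := by
    intro u
    obtain ⟨y₀, hy₀⟩ := ofChart_surjective h𝒳.isStack.1 y hy₂ (AlgSt.Points.ofChart x u)
    obtain ⟨t, ht, -⟩ := hpts u y₀ hy₀.symm
    exact ⟨t, ht⟩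
  have : Smooth a.left := hsm
  have hopen : IsOpenMap a.left := a.left.isOpenMap
  rw [continuous_def]
  intro W hW
  have hWy : IsOpen (AlgSt.Points.ofChart y ⁻¹' W) := hW Y y hy₁
  have heq : AlgSt.Points.ofChart x ⁻¹' W =
      a.left '' (a'.left ⁻¹' (AlgSt.Points.ofChart y ⁻¹' W)) := by
    ext u
    constructor
    · intro hu
      obtain ⟨t, rfl⟩ := hsurj u
      refine ⟨t, ?_, rfl⟩
      change AlgSt.Points.ofChart y (a'.left t) ∈ W
      rw [← ofChart_comparison x y a a' e t]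
      exact hu
    · rintro ⟨t, ht, rfl⟩
      change AlgSt.Points.ofChart x (a.left t) ∈ W
      rw [ofChart_comparison x y a a' e t]
      exact ht
  rw [heq]
  exact hopen _ (hWy.preimage a'.left.continuous)

/-- For an algebraic stack, the chart map of a flat, locally finitely presented functor from a
slice is open. -/
theorem isOpenMap_ofChart (h𝒳 : FibCat.IsFibGrpd 𝒳.p) {U : Over S}
    (x : overCat U ⥤ᵇ 𝒳) (hx₁ : AlgSt.RepByAlgSpWith (AlgSp.LocP @Flat) x)
    (hx₂ : AlgSt.RepByAlgSpWith (AlgSp.LocP @LocallyOfFinitePresentation) x) :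
    IsOpenMap (AlgSt.Points.ofChart x) := by
  have hfp : AlgSp.IsLocalOnBase AlgSp.IsFppfCover
      (AlgSp.LocP @LocallyOfFinitePresentation : MorphismProperty (AlgSp.Sp S)) :=
    isLocalOnBase_fppf_of_fpqc _ (Groth.Agent.S10527.result S)
  have hx : AlgSt.RepByAlgSpWith (AlgSp.LocP (@Flat ⊓ @LocallyOfFinitePresentation)) x :=
    Groth.Agent.Lib.Helper27.SepDiag.repByAlgSpWith_mono x
      (fun _ _ g hg => Groth.Agent.Lib.Helper3.locP_inf hg.1 hg.2)
      (Groth.Agent.Lib.Helper27.SepDiag.repByAlgSpWith_inf x _ _ hfp hx₁ hx₂)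
  intro V hV U' x' hx'
  obtain ⟨A, a, a', hQ, ⟨e⟩, hpts⟩ := exists_chart_comparison h𝒳 x' x
    (@Flat ⊓ @LocallyOfFinitePresentation) hx
  have : Flat a.left := hQ.1
  have : LocallyOfFinitePresentation a.left := hQ.2
  have hopen : IsOpenMap a.left := a.left.isOpenMap
  have heq : AlgSt.Points.ofChart x' ⁻¹' (AlgSt.Points.ofChart x '' V) =
      a.left '' (a'.left ⁻¹' V) := by
    ext u'
    constructor
    · rintro ⟨v, hv, hvu⟩
      obtain ⟨t, ht, ht'⟩ := hpts u' v hvu.symm
      exact ⟨t, by rw [Set.mem_preimage, ht']; exact hv, ht⟩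
    · rintro ⟨t, ht, rfl⟩
      exact ⟨a'.left t, ht, (ofChart_comparison x' x a a' e t).symm⟩
  rw [heq]
  exact hopen _ (hV.preimage a'.left.continuous)

/-- Functors between algebraic stacks are continuous on points. -/
theorem continuous_map (h𝒴 : AlgSt.IsAlgStack Scheme.fppfPrecoverage 𝒴) (f : 𝒳 ⥤ᵇ 𝒴) :
    Continuous (AlgSt.Points.map f) := by
  rw [continuous_def]
  intro W hW U x _
  have h1 := (continuous_ofChart h𝒴 (BasedFunctor.comp x f)).isOpen_preimage W hW
  have h2 : AlgSt.Points.ofChart (BasedFunctor.comp x f) ⁻¹' W =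
      AlgSt.Points.ofChart x ⁻¹' (AlgSt.Points.map f ⁻¹' W) := by
    ext u
    change AlgSt.Points.ofChart (BasedFunctor.comp x f) u ∈ W ↔
      AlgSt.Points.map f (AlgSt.Points.ofChart x u) ∈ W
    rw [ofChart_eq, ofChart_eq, map_comp]
  rw [← h2]
  exact h1

end Groth.Agent.Lib.Helper27.StPoints
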