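import Groth.Agent.Lib.Helper27.GerbDiag
import Groth.Agent.Lib.Helper27.StPointsOpen
import Groth.Agent.Lib.Helper27.StPointsTop2

/-!
# Gerbes are universal homeomorphisms (helper27)
-/

set_option autoImplicit false
set_option backward.isDefEq.respectTransparency false
set_option backward.isDefEq.respectTransparency.types false

universe u

open CategoryTheory CategoryTheory.Limits AlgebraicGeometry Opposite FibCat
  Groth.Agent.Lib.Helper27.FpKit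

namespace Groth.Agent.Lib.Helper27.GerbHomeo

variable {S : Scheme.{u}}

local infixr:80 " ⊚ " => BasedFunctor.comp

variable {𝒳 𝒴 : AlgSt.Cat S}

/-- A functor whose diagonal is surjective on points is injective on points. -/
theorem injective_of_isSurjective_diag (h𝒳 : FibCat.IsFibGrpd 𝒳.p) (h𝒴 : FibCat.IsFibGrpd 𝒴.p)
    (f : 𝒳 ⥤ᵇ 𝒴) (hd : AlgSt.IsSurjective (diag f)) :
    Function.Injective (AlgSt.Points.map f) := by
  intro p₁ p₂ h
  obtain ⟨w, hw₁, hw₂⟩ :=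
    Groth.Agent.Lib.Helper27.StPoints.exists_points_fp h𝒳 h𝒴 h𝒳 f f p₁ p₂ h
  obtain ⟨p, rfl⟩ := hd w
  rw [← Groth.Agent.Lib.Helper27.PointsKit.map_comp] at hw₁ hw₂
  have e1 : AlgSt.Points.map (diag f ⊚ fpFst f f) p = p :=
    Groth.Agent.Lib.Helper27.PointsKit.map_id p
  have e2 : AlgSt.Points.map (diag f ⊚ fpSnd f f) p = p :=
    Groth.Agent.Lib.Helper27.PointsKit.map_id p
  rw [← hw₁, ← hw₂, e1, e2]

variable (h𝒳 : AlgSt.IsAlgStack Scheme.fppfPrecoverage 𝒳)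
  (h𝒴 : AlgSt.IsAlgStack Scheme.fppfPrecoverage 𝒴) (f : 𝒳 ⥤ᵇ 𝒴)
  (hf : Gerb.IsGerbeOver (AlgSp.J S) f)

include h𝒳 h𝒴 hf

/-- A gerbe is a homeomorphism on points. -/
theorem isHomeomorph_of_isGerbeOver : IsHomeomorph (AlgSt.Points.map f) := by
  obtain ⟨h1, h2, h3⟩ := Groth.Agent.Lib.Helper27.GerbDiag.fppf_of_isGerbeOver h𝒳 h𝒴 f hf
  obtain ⟨d1, -, -⟩ := Groth.Agent.Lib.Helper27.GerbDiag.diag_fppf_of_isGerbeOver h𝒳 h𝒴 f hf
  exact ⟨Groth.Agent.Lib.Helper27.StPoints.continuous_map h𝒴 f,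
    Groth.Agent.Lib.Helper27.StPoints.isOpenMor_of_locQ h𝒳 h𝒴.isStack.1 f h2 h3,
    injective_of_isSurjective_diag h𝒳.isStack.1 h𝒴.isStack.1 f d1, h1⟩

/-- A gerbe is a universal homeomorphism. -/
theorem isUnivHomeo_of_isGerbeOver : AlgSt.IsUnivHomeo Scheme.fppfPrecoverage f := by
  intro 𝒵 h𝒵 g
  have h𝒫 : AlgSt.IsAlgStack Scheme.fppfPrecoverage (fp g f) :=
    Groth.Agent.Lib.Helper27.AlgStackFp.isAlgStack_fp g f h𝒴.isStack h𝒴.diag h𝒵 h𝒳
  have hπ : Gerb.IsGerbeOver (AlgSp.J S) (fpFst g f) :=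
    Groth.Agent.Lib.Helper27.GerbAux.isGerbeOver_fpFst _ h𝒵.isStack.1 h𝒴.isStack.1 f g hf
  exact isHomeomorph_of_isGerbeOver h𝒫 h𝒵 (fpFst g f) hπ

end Groth.Agent.Lib.Helper27.GerbHomeo
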