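import Groth.Agent.Lib.Helper27.ProdMap
import Groth.Agent.Lib.Helper27.DiagCancel
import Groth.Agent.Lib.Helper27.ReprDiag

/-!
# Products of functors over the base (helper27)
-/

set_option autoImplicit false
set_option backward.isDefEq.respectTransparency false
set_option backward.isDefEq.respectTransparency.types false

universe u

open CategoryTheory CategoryTheory.Limits AlgebraicGeometry Opposite FibCat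
  Groth.Agent.Lib.Helper27.FpKit Groth.Agent.Lib.Helper27.RepWithComp
  Groth.Agent.Lib.Helper27.FpBaseChange

namespace Groth.Agent.Lib.Helper27.ProdMapSelf

variable {S : Scheme.{u}} {𝒳₁ 𝒳₂ 𝒴₁ 𝒴₂ : AlgSt.Cat S} (f₁ : 𝒳₁ ⥤ᵇ 𝒴₁) (f₂ : 𝒳₂ ⥤ᵇ 𝒴₂)

theorem repByAlgSpWith_prod_aux (P : MorphismProperty (AlgSp.Sp S)) (H : CompHyp P)
    (h𝒳₁ : FibCat.IsFibGrpd 𝒳₁.p) (h𝒳₂ : FibCat.IsFibGrpd 𝒳₂.p) (h𝒴₂ : FibCat.IsFibGrpd 𝒴₂.p)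
    (hf₁ : AlgSt.RepByAlgSpWith P f₁) (hf₂ : AlgSt.RepByAlgSpWith P f₂)
    (F' : 𝒳₁ ⥤ᵇ selfOver (Over S)) (K' : 𝒳₂ ⥤ᵇ selfOver (Over S))
    (hF : BasedFunctor.comp f₁ (toSelf 𝒴₁) = F') (hK : BasedFunctor.comp f₂ (toSelf 𝒴₂) = K')
    (e : BasedFunctor.comp (BasedFunctor.comp (fpFst F' K') f₁) (toSelf 𝒴₁) ≅
      BasedFunctor.comp (BasedFunctor.comp (fpSnd F' K') f₂) (toSelf 𝒴₂)) :
    AlgSt.RepByAlgSpWith P (fpLift (BasedFunctor.comp (fpFst F' K') f₁)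
      (BasedFunctor.comp (fpSnd F' K') f₂) e) := by
  subst hF hK
  exact Groth.Agent.Lib.Helper27.ProdMap.repByAlgSpWith_M (toSelf 𝒴₁) (toSelf 𝒴₂) f₁ f₂ e
    (fun x => Groth.Agent.Lib.Helper27.ReprDiag.selfOver_ext (𝟙 _) _ _ (Vert.app e.hom x)
      (vert_iso x)) P H h𝒳₁ h𝒳₂ h𝒴₂
    (Groth.Agent.Lib.Helper27.ReprDiag.isFibGrpd_selfOver (C := Over S)) hf₁ hf₂

theorem repByAlgSpWith_prod (P : MorphismProperty (AlgSp.Sp S)) (H : CompHyp P)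
    (h𝒳₁ : FibCat.IsFibGrpd 𝒳₁.p) (h𝒳₂ : FibCat.IsFibGrpd 𝒳₂.p) (h𝒴₂ : FibCat.IsFibGrpd 𝒴₂.p)
    (hf₁ : AlgSt.RepByAlgSpWith P f₁) (hf₂ : AlgSt.RepByAlgSpWith P f₂)
    (e : BasedFunctor.comp (BasedFunctor.comp (fpFst (toSelf 𝒳₁) (toSelf 𝒳₂)) f₁) (toSelf 𝒴₁) ≅
      BasedFunctor.comp (BasedFunctor.comp (fpSnd (toSelf 𝒳₁) (toSelf 𝒳₂)) f₂) (toSelf 𝒴₂)) :
    AlgSt.RepByAlgSpWith P (fpLift (BasedFunctor.comp (fpFst (toSelf 𝒳₁) (toSelf 𝒳₂)) f₁)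
      (BasedFunctor.comp (fpSnd (toSelf 𝒳₁) (toSelf 𝒳₂)) f₂) e) :=
  repByAlgSpWith_prod_aux f₁ f₂ P H h𝒳₁ h𝒳₂ h𝒴₂ hf₁ hf₂ _ _
    (Groth.Agent.Lib.Helper27.DiagCancel.comp_toSelf f₁)
    (Groth.Agent.Lib.Helper27.DiagCancel.comp_toSelf f₂) e

end Groth.Agent.Lib.Helper27.ProdMapSelf
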