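import Groth.Agent.Lib.Helper27.GerbHomeo
import Groth.Agent.Lib.Helper27.QcPoints
import Groth.Agent.Lib.Helper27.QcStack3
import Groth.Agent.Lib.Helper27.ProdMapSelf
import Groth.Agent.Lib.Helper27.StPointsTop3
import Groth.Agent.Lib.Helper27.AlgStackRep
import Groth.Agent.Lib.Helper27.GerbLoc

/-!
# Gerbes are quasi-compact morphisms; quasi-compact diagonals descend along gerbes (helper27)
-/

set_option autoImplicit false
set_option backward.isDefEq.respectTransparency false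
set_option backward.isDefEq.respectTransparency.types false

universe u

open CategoryTheory CategoryTheory.Limits AlgebraicGeometry Opposite FibCat
  Groth.Agent.Lib.Helper27.FpKit Groth.Agent.Lib.Helper27.FpBaseChange

namespace Groth.Agent.Lib.Helper27.GerbQc

variable {S : Scheme.{u}}

local infixr:80 " ⊚ " => BasedFunctor.comp

section General

variable {𝒜 𝒳 𝒴 : AlgSt.Cat S}

/-- Cancelling an equivalence on the left. -/
theorem isQuasiCompactMor_of_equiv_comp (E : 𝒜 ⥤ᵇ 𝒳) (hE : IsEquivOver E) (h : 𝒳 ⥤ᵇ 𝒴)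
    (hc : AlgSt.IsQuasiCompactMor Scheme.fppfPrecoverage (E ⊚ h)) :
    AlgSt.IsQuasiCompactMor Scheme.fppfPrecoverage h := by
  obtain ⟨E', hE', -, ⟨i2⟩⟩ := exists_inverse E hE
  have h1 := Groth.Agent.Lib.Helper27.QcStack.isQuasiCompactMor_equiv_comp E' hE' (E ⊚ h) hc
  have i3 : E' ⊚ (E ⊚ h) ≅ h :=
    Groth.Agent.Lib.Helper27.GerbLoc.whiskerRightIso i2 h
  exact Groth.Agent.Lib.Helper27.QcStack.isQuasiCompactMor_of_iso i3 h1

end General

section BaseChange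

variable {𝒜 ℬ 𝒵 𝒜' ℬ' : AlgSt.Cat S} (F : 𝒜 ⥤ᵇ 𝒵) (K : ℬ ⥤ᵇ 𝒵)

theorem isQuasiCompactMor_mapFst (a : 𝒜' ⥤ᵇ 𝒜)
    (ha : AlgSt.IsQuasiCompactMor Scheme.fppfPrecoverage a) :
    AlgSt.IsQuasiCompactMor Scheme.fppfPrecoverage (mapFst F K a) := by
  apply isQuasiCompactMor_of_equiv_comp (pasteL K F a) (isEquivOver_pasteL K F a)
  refine Groth.Agent.Lib.Helper27.QcStack.isQuasiCompactMor_of_iso (isoFst F K a) ?_
  exact Groth.Agent.Lib.Helper27.QcStack.isQuasiCompactMor_fpSnd a (fpFst F K) ha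

theorem isQuasiCompactMor_mapSnd (b : ℬ' ⥤ᵇ ℬ)
    (hb : AlgSt.IsQuasiCompactMor Scheme.fppfPrecoverage b) :
    AlgSt.IsQuasiCompactMor Scheme.fppfPrecoverage (mapSnd F K b) := by
  apply isQuasiCompactMor_of_equiv_comp (pasteR b K F) (isEquivOver_pasteR b K F)
  refine Groth.Agent.Lib.Helper27.QcStack.isQuasiCompactMor_of_iso (isoSnd F K b) ?_
  exact Groth.Agent.Lib.Helper27.QcStack.isQuasiCompactMor_fpFst b (fpSnd F K) hb

end BaseChange

section Gerbe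

variable {𝒳 𝒴 : AlgSt.Cat S} (h𝒳 : AlgSt.IsAlgStack Scheme.fppfPrecoverage 𝒳)
  (h𝒴 : AlgSt.IsAlgStack Scheme.fppfPrecoverage 𝒴) (f : 𝒳 ⥤ᵇ 𝒴)
  (hf : Gerb.IsGerbeOver (AlgSp.J S) f)

include h𝒳 h𝒴 hf

/-- A gerbe is a quasi-compact morphism. -/
theorem isQuasiCompactMor_of_isGerbeOver :
    AlgSt.IsQuasiCompactMor Scheme.fppfPrecoverage f := by
  intro 𝒵 h𝒵 hq g
  have h𝒫 : AlgSt.IsAlgStack Scheme.fppfPrecoverage (fp g f) :=
    Groth.Agent.Lib.Helper27.AlgStackFp.isAlgStack_fp g f h𝒴.isStack h𝒴.diag h𝒵 h𝒳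
  have hh := Groth.Agent.Lib.Helper27.GerbHomeo.isUnivHomeo_of_isGerbeOver h𝒳 h𝒴 f hf 𝒵 h𝒵 g
  rw [Groth.Agent.Lib.Helper27.StPoints.isQuasiCompact_iff_compactSpace h𝒫]
  have hc : CompactSpace (AlgSt.Points 𝒵) :=
    (Groth.Agent.Lib.Helper27.StPoints.isQuasiCompact_iff_compactSpace h𝒵).1 hq
  exact (hh.homeomorph _).symm.compactSpace

end Gerbe

end Groth.Agent.Lib.Helper27.GerbQc
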