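import Groth.Agent.Lib.Helper27.GerbQc

/-!
# Quasi-compact diagonals descend along gerbes (helper27)
-/

set_option autoImplicit false
set_option backward.isDefEq.respectTransparency false
set_option backward.isDefEq.respectTransparency.types false

universe u

open CategoryTheory CategoryTheory.Limits AlgebraicGeometry Opposite FibCat
  Groth.Agent.Lib.Helper27.FpKit Groth.Agent.Lib.Helper27.FpBaseChange

namespace Groth.Agent.Lib.Helper27.GerbQc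

variable {S : Scheme.{u}}

local infixr:80 " ⊚ " => BasedFunctor.comp

section Prod

variable {𝒳 𝒳' 𝒴 𝒴' 𝒵 : AlgSt.Cat S} (F : 𝒳' ⥤ᵇ 𝒵) (K : 𝒴' ⥤ᵇ 𝒵) (f : 𝒳 ⥤ᵇ 𝒳') (g : 𝒴 ⥤ᵇ 𝒴')

theorem isQuasiCompactMor_M
    (h𝒳 : AlgSt.IsAlgStack Scheme.fppfPrecoverage 𝒳)
    (h𝒳' : AlgSt.IsAlgStack Scheme.fppfPrecoverage 𝒳')
    (h𝒴' : AlgSt.IsAlgStack Scheme.fppfPrecoverage 𝒴')
    (h𝒵 : AlgSt.IsAlgStack Scheme.fppfPrecoverage 𝒵)
    (hf : AlgSt.IsQuasiCompactMor Scheme.fppfPrecoverage f)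
    (hg : AlgSt.IsQuasiCompactMor Scheme.fppfPrecoverage g) :
    AlgSt.IsQuasiCompactMor Scheme.fppfPrecoverage
      (Groth.Agent.Lib.Helper27.ProdMap.M F K f g (fpIso (f ⊚ F) (g ⊚ K))) := by
  have h1 : AlgSt.IsQuasiCompactMor Scheme.fppfPrecoverage
      (Groth.Agent.Lib.Helper27.ProdMap.m F K f g) :=
    Groth.Agent.Lib.Helper27.QcStack.isQuasiCompactMor_comp
      (Groth.Agent.Lib.Helper27.AlgStackFp.isAlgStack_fp (f ⊚ F) K h𝒵.isStack h𝒵.diag h𝒳 h𝒴')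
      (Groth.Agent.Lib.Helper27.AlgStackFp.isAlgStack_fp F K h𝒵.isStack h𝒵.diag h𝒳' h𝒴') _ _
      (isQuasiCompactMor_mapSnd (f ⊚ F) K g hg) (isQuasiCompactMor_mapFst F K f hf)
  exact Groth.Agent.Lib.Helper27.QcStack.isQuasiCompactMor_of_iso
    (Groth.Agent.Lib.Helper27.ProdMap.isoM F K f g (fpIso (f ⊚ F) (g ⊚ K)) (fun _ => rfl)).symm h1

end Prod

end Groth.Agent.Lib.Helper27.GerbQc
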