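import Groth.Agent.Lib.Helper27.GerbQcB

/-!
# Quasi-compact diagonals descend along gerbes, main (helper27)
-/

set_option autoImplicit false
set_option backward.isDefEq.respectTransparency false
set_option backward.isDefEq.respectTransparency.types false

universe u

open CategoryTheory CategoryTheory.Limits AlgebraicGeometry Opposite FibCat
  Groth.Agent.Lib.Helper27.FpKit Groth.Agent.Lib.Helper27.FpBaseChange

namespace Groth.Agent.Lib.Helper27.GerbQc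

variable {S : Scheme.{u}}

local infixr:80 " ⊚ " => BasedFunctor.comp

variable {𝒳 𝒴 : AlgSt.Cat S} (h𝒳 : AlgSt.IsAlgStack Scheme.fppfPrecoverage 𝒳)
  (h𝒴 : AlgSt.IsAlgStack Scheme.fppfPrecoverage 𝒴) (f : 𝒳 ⥤ᵇ 𝒴)

/-- The triangle `f ⊚ Δ_𝒴 ≅ Δ_𝒳 ⊚ (f × f)`. -/
def triIso : f ⊚ diag (toSelf 𝒴) ≅ diag (f ⊚ toSelf 𝒴) ⊚
    Groth.Agent.Lib.Helper27.ProdMap.M (toSelf 𝒴) (toSelf 𝒴) f f
      (fpIso (f ⊚ toSelf 𝒴) (f ⊚ toSelf 𝒴)) :=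
  Iso.refl _

end Groth.Agent.Lib.Helper27.GerbQc

namespace Groth.Agent.Lib.Helper27.GerbQc

variable {S : Scheme.{u}}

local infixr:80 " ⊚ " => BasedFunctor.comp

variable {𝒳 𝒴 : AlgSt.Cat S} (h𝒳 : AlgSt.IsAlgStack Scheme.fppfPrecoverage 𝒳)
  (h𝒴 : AlgSt.IsAlgStack Scheme.fppfPrecoverage 𝒴) (f : 𝒳 ⥤ᵇ 𝒴)
  (hf : Gerb.IsGerbeOver (AlgSp.J S) f)

include h𝒳 h𝒴 hf in
theorem isQuasiCompactMor_diag_aux (F' : 𝒳 ⥤ᵇ selfOver (Over S))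
    (hF : f ⊚ toSelf 𝒴 = F')
    (hΔ : AlgSt.IsQuasiCompactMor Scheme.fppfPrecoverage (diag F')) :
    AlgSt.IsQuasiCompactMor Scheme.fppfPrecoverage (diag (toSelf 𝒴)) := by
  subst hF
  have hS := Groth.Agent.Lib.Helper27.AlgStackRep.isAlgStack_selfOver (S := S)
  have h𝒴2 : AlgSt.IsAlgStack Scheme.fppfPrecoverage (fp (toSelf 𝒴) (toSelf 𝒴)) :=
    Groth.Agent.Lib.Helper27.AlgStackFp.isAlgStack_fp _ _ hS.isStack hS.diag h𝒴 h𝒴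
  have h𝒳2 : AlgSt.IsAlgStack Scheme.fppfPrecoverage (fp (f ⊚ toSelf 𝒴) (f ⊚ toSelf 𝒴)) :=
    Groth.Agent.Lib.Helper27.AlgStackFp.isAlgStack_fp _ _ hS.isStack hS.diag h𝒳 h𝒳
  have hfq := isQuasiCompactMor_of_isGerbeOver h𝒳 h𝒴 f hf
  have hM := isQuasiCompactMor_M (toSelf 𝒴) (toSelf 𝒴) f f h𝒳 h𝒴 h𝒴 hS hfq hfq
  have hp := Groth.Agent.Lib.Helper27.QcStack.isQuasiCompactMor_comp h𝒳2 h𝒴2 _ _ hΔ hM
  obtain ⟨hs, -, -⟩ := Groth.Agent.Lib.Helper27.GerbDiag.fppf_of_isGerbeOver h𝒳 h𝒴 f hf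
  exact Groth.Agent.Lib.Helper27.QcImage.isQuasiCompactMor_of_triangle h𝒳 h𝒴 h𝒴2 f _ _
    (triIso f) hs hp

include h𝒳 h𝒴 hf in
/-- If the diagonal of the total space of a gerbe is quasi-compact, so is that of the base. -/
theorem isQuasiCompactMor_diag_of_isGerbeOver
    (hΔ : AlgSt.IsQuasiCompactMor Scheme.fppfPrecoverage (diag (toSelf 𝒳))) :
    AlgSt.IsQuasiCompactMor Scheme.fppfPrecoverage (diag (toSelf 𝒴)) :=
  isQuasiCompactMor_diag_aux h𝒳 h𝒴 f hf _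
    (Groth.Agent.Lib.Helper27.DiagCancel.comp_toSelf f) hΔ

end Groth.Agent.Lib.Helper27.GerbQc
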