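import Groth.Prelude.Def_StGerb
import Groth.Agent.Lib.Helper27.GerbAux
import Groth.Agent.Lib.Helper27.StackConv

/-!
# Gerbes over a stack as gerbes over the site of the stack (helper27)
-/

set_option autoImplicit false
set_option backward.isDefEq.respectTransparency false
set_option backward.isDefEq.respectTransparency.types false

universe v₄ u₄ v₃ u₃ v₂ u₂ v u

open CategoryTheory Groth.Agent.Lib.Helper16.FpFibGrpd Groth.Agent.Lib.Helper27.DescentKit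
  Groth.Agent.Lib.Helper27.StackComp

namespace Groth.Agent.Lib.Helper27.GerbRestr

variable {C : Type u} [Category.{v} C] (J : GrothendieckTopology C)
  {𝒳 : BasedCategory.{v₂, u₂} C} {𝒳' : BasedCategory.{v₃, u₃} C} {𝒴 : BasedCategory.{v₄, u₄} C}

/-- (A) A gerbe structure descends along an equivalence of the source. -/
theorem isGerbeOver_of_comp_equiv (a : 𝒳 ⥤ᵇ 𝒳') (ha : FibCat.IsEquivOver a) (F' : 𝒳' ⥤ᵇ 𝒴)
    (h : Gerb.IsGerbeOver J (BasedFunctor.comp a F')) : Gerb.IsGerbeOver J F' := by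
  obtain ⟨hobj, hhom⟩ := h
  obtain ⟨-, hess⟩ := (Groth.Agent.Lib.Helper27.EquivOverAux.isEquivOver_iff_ff_ess a).1 ha
  constructor
  · intro y
    obtain ⟨R, hR, hRf⟩ := hobj y
    refine ⟨R, hR, fun V f hf => ?_⟩
    obtain ⟨x, g, hg⟩ := hRf f hf
    exact ⟨a.obj x, g, hg⟩
  · intro x₁ x₁' b hb
    obtain ⟨ξ, e, he⟩ := hess x₁
    obtain ⟨ξ', e', he'⟩ := hess x₁'
    have hU : 𝒳.p.obj ξ = 𝒳'.p.obj x₁ := by
      rw [← a.w_obj ξ]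
      exact IsHomLift.domain_eq 𝒳'.p (𝟙 (𝒳'.p.obj x₁)) e.hom
    have hx₁' : 𝒳'.p.obj x₁' = 𝒳'.p.obj x₁ := by
      rw [← F'.w_obj x₁', ← F'.w_obj x₁]
      exact IsHomLift.codomain_eq 𝒴.p (𝟙 (𝒳'.p.obj x₁)) b |>.trans
        (IsHomLift.domain_eq 𝒴.p (𝟙 (𝒳'.p.obj x₁)) b).symm
    have he'' : 𝒳'.p.IsHomLift (𝟙 (𝒳'.p.obj x₁)) e'.hom :=
      isHomLift_id_of_eq 𝒳'.p hx₁' e'.hom
    have he''i : 𝒳'.p.IsHomLift (𝟙 (𝒳'.p.obj x₁)) e'.inv := inferInstance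
    have h1 : 𝒴.p.IsHomLift (𝟙 (𝒳'.p.obj x₁)) (F'.map e.hom) := inferInstance
    have h3 : 𝒴.p.IsHomLift (𝟙 (𝒳'.p.obj x₁)) (F'.map e'.inv) := inferInstance
    have hb₀ : 𝒴.p.IsHomLift (𝟙 (𝒳'.p.obj x₁)) (F'.map e.hom ≫ b ≫ F'.map e'.inv) := by
      have : 𝒴.p.IsHomLift (𝟙 (𝒳'.p.obj x₁) ≫ 𝟙 (𝒳'.p.obj x₁) ≫ 𝟙 (𝒳'.p.obj x₁))
        (F'.map e.hom ≫ b ≫ F'.map e'.inv) := inferInstance
      simpa using this
    obtain ⟨R, hR, hRf⟩ := Groth.Agent.Lib.Helper27.GerbAux.LocSurjHom.exists' J hhom ξ ξ'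
      (F'.map e.hom ≫ b ≫ F'.map e'.inv) hU hb₀
    refine ⟨R, hR, fun V f hf => ?_⟩
    obtain ⟨x₀, φ, ψ, hφ, hψ, hrel⟩ := hRf f hf
    have hrel' : F'.map (a.map φ) ≫ F'.map e.hom ≫ b ≫ F'.map e'.inv = F'.map (a.map ψ) := hrel
    refine ⟨a.obj x₀, a.map φ ≫ e.hom, a.map ψ ≫ e'.hom, ?_, ?_, ?_⟩
    · have : 𝒳'.p.IsHomLift (f ≫ 𝟙 _) (a.map φ ≫ e.hom) := inferInstance
      simpa using this
    · have : 𝒳'.p.IsHomLift (f ≫ 𝟙 _) (a.map ψ ≫ e'.hom) := inferInstance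
      simpa using this
    · rw [F'.map_comp, F'.map_comp, ← hrel']
      simp only [Category.assoc]
      rw [← F'.map_comp, Iso.inv_hom_id, F'.map_id, Category.comp_id]

section Restr

variable {𝒴 : BasedCategory.{v₂, u₂} C} {𝒳' : BasedCategory.{v₃, u₃} C}
  (h𝒴 : FibCat.IsFibGrpd 𝒴.p) (F' : 𝒳' ⥤ᵇ 𝒴) (hF' : FibCat.IsFibGrpd F'.toFunctor)

include h𝒴 hF' in
/-- (B) A gerbe over a stack, fibred in groupoids over it, is a gerbe over the site of the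
stack. -/
theorem isGerbeOver_toSelf_restricted (h : Gerb.IsGerbeOver J F') :
    Gerb.IsGerbeOver (𝒴.p.restrictedTopology J)
      (FibCat.toSelf (BasedCategory.ofFunctor F'.toFunctor)) := by
  obtain ⟨hobj, hhom⟩ := h
  constructor
  · intro y
    obtain ⟨R, hR, hRf⟩ := hobj y
    refine ⟨liftSieve (𝒳 := 𝒴) R y rfl, liftSieve_mem (𝒳 := 𝒴) R y rfl h𝒴 J hR, ?_⟩
    intro y' s hs
    have hf : R (𝒴.p.map s ≫ eqToHom rfl) := hs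
    obtain ⟨x, g, hg⟩ := hRf _ hf
    have hsl : 𝒴.p.IsHomLift (𝒴.p.map s ≫ eqToHom rfl) s := liftSieve_lift (𝒳 := 𝒴) y rfl s
    obtain ⟨k, hkl, hkfac⟩ : ∃ k : y' ⟶ F'.obj x, 𝒴.p.IsHomLift (𝟙 (𝒴.p.obj y')) k ∧ k ≫ g = s :=
      ⟨_, FG.lift_isHomLift h𝒴 _ g hg (𝟙 (𝒴.p.obj y')) (Category.id_comp _).symm s hsl,
        FG.lift_fac h𝒴 _ _ _ _ _ _ _⟩
    obtain ⟨x'', κ, hκ⟩ := hF'.exists_lift (x := x) k
    have h1 : F'.obj x'' = y' := IsHomLift.domain_eq F'.toFunctor k κ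
    subst h1
    have h2 : k = F'.map κ := IsHomLift.eq_of_isHomLift F'.toFunctor k κ
    refine ⟨x'', F'.map κ ≫ g, ?_⟩
    rw [← h2, hkfac]
    exact inferInstanceAs ((𝟭 𝒴.obj).IsHomLift ((𝟭 𝒴.obj).map s) s)
  · intro x₁ x₁' b hb
    have hb' : (𝟭 𝒴.obj).IsHomLift (𝟙 (F'.obj x₁)) b := hb
    have hcod : F'.obj x₁' = F'.obj x₁ := IsHomLift.codomain_eq (𝟭 𝒴.obj) (𝟙 (F'.obj x₁)) b
    have hbe : b = eqToHom hcod.symm := by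
      have := IsHomLift.fac' (𝟭 𝒴.obj) (𝟙 (F'.obj x₁)) b
      simpa using this
    have hbl : 𝒴.p.IsHomLift (𝟙 (𝒳'.p.obj x₁)) b := by
      rw [hbe]
      exact IsHomLift.eqToHom_domain_lift_id _ (F'.w_obj x₁)
    obtain ⟨R, hR, hRf⟩ := hhom x₁ x₁' b hbl
    refine ⟨liftSieve R (F'.obj x₁) (F'.w_obj x₁),
      liftSieve_mem R (F'.obj x₁) (F'.w_obj x₁) h𝒴 J hR, ?_⟩
    intro y' s hs
    have hf : R (𝒴.p.map s ≫ eqToHom (F'.w_obj x₁)) := hs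
    obtain ⟨x₀, φ, ψ, hφ, hψ, hrel⟩ := hRf _ hf
    have hφl : 𝒴.p.IsHomLift (𝒴.p.map s ≫ eqToHom (F'.w_obj x₁)) (F'.map φ) := inferInstance
    have hsl : 𝒴.p.IsHomLift (𝒴.p.map s ≫ eqToHom (F'.w_obj x₁)) s :=
      liftSieve_lift (𝒳 := 𝒴) (F'.obj x₁) (F'.w_obj x₁) s
    obtain ⟨k, hkl, hkfac⟩ : ∃ k : y' ⟶ F'.obj x₀,
        𝒴.p.IsHomLift (𝟙 (𝒴.p.obj y')) k ∧ k ≫ F'.map φ = s :=
      ⟨_, FG.lift_isHomLift h𝒴 _ (F'.map φ) hφl (𝟙 (𝒴.p.obj y')) (Category.id_comp _).symm s hsl,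
        FG.lift_fac h𝒴 _ _ _ _ _ _ _⟩
    obtain ⟨x₀', κ, hκ⟩ := hF'.exists_lift (x := x₀) k
    have h1 : F'.obj x₀' = y' := IsHomLift.domain_eq F'.toFunctor k κ
    subst h1
    have h2 : k = F'.map κ := IsHomLift.eq_of_isHomLift F'.toFunctor k κ
    rw [h2] at hkfac
    have hs1 : s = F'.map (κ ≫ φ) := by rw [F'.map_comp]; exact hkfac.symm
    have hrel' : F'.map φ ≫ b = F'.map ψ := hrel
    refine ⟨x₀', κ ≫ φ, κ ≫ ψ, ?_, ?_, ?_⟩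
    · change F'.toFunctor.IsHomLift s (κ ≫ φ)
      rw [hs1]
      infer_instance
    · change F'.toFunctor.IsHomLift s (κ ≫ ψ)
      apply IsHomLift.of_fac F'.toFunctor s (κ ≫ ψ) rfl hcod
      have : F'.map (κ ≫ ψ) = s ≫ b := by
        rw [hs1, F'.map_comp, F'.map_comp, ← hrel', Category.assoc]
      change s = eqToHom _ ≫ F'.map (κ ≫ ψ) ≫ eqToHom hcod
      rw [this, hbe]
      simp
    · change F'.map (κ ≫ φ) ≫ b = F'.map (κ ≫ ψ)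
      rw [F'.map_comp, F'.map_comp, Category.assoc, hrel']

end Restr

theorem isGerbe_restricted {𝒳 𝒴 𝒳' : BasedCategory.{v, max u v} C}
    (h𝒳 : Stk.IsStack J 𝒳) (h𝒴 : Stk.IsStack J 𝒴) (F : 𝒳 ⥤ᵇ 𝒴) (hF : Gerb.IsGerbeOver J F)
    (a : 𝒳 ⥤ᵇ 𝒳') (ha : FibCat.IsEquivOver a) (F' : 𝒳' ⥤ᵇ 𝒴)
    (hF' : FibCat.IsFibGrpd F'.toFunctor) (hfac : BasedFunctor.comp a F' = F) :
    Gerb.IsGerbe (𝒴.p.restrictedTopology J) (BasedCategory.ofFunctor F'.toFunctor) := by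
  subst hfac
  have h𝒳' : Stk.IsStack J 𝒳' :=
    (Groth.Agent.Lib.Helper27.EquivOverAux.isStack_iff J a ha).1 h𝒳
  refine ⟨?_, isGerbeOver_toSelf_restricted J h𝒴.1 F' hF'
    (isGerbeOver_of_comp_equiv J a ha F' hF)⟩
  refine Groth.Agent.Lib.Helper27.StackConv.isStack_conv (𝒳 := 𝒴)
    (𝒴 := BasedCategory.ofFunctor F'.toFunctor) J h𝒴 hF' ?_
  change Stk.IsStack J (BasedCategory.ofFunctor (F'.toFunctor ⋙ 𝒴.p))
  rw [F'.w]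
  exact h𝒳'

end Groth.Agent.Lib.Helper27.GerbRestr
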