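import Mathlib
import Groth.Agent.Lib.Helper3.EtSrcLocal5

/-!
# Retracts of flat / locally finitely presented morphisms of schemes (helper27)
-/

set_option autoImplicit false
set_option backward.isDefEq.respectTransparency false
set_option backward.isDefEq.respectTransparency.types false

universe u

open CategoryTheory CategoryTheory.Limits AlgebraicGeometry

namespace Groth.Agent.Lib.Helper27.GerbRetA

/-- ring level: if `ρ ∘ α` is flat and `ρ` has a retraction (as a ring map), then `α` is flat -/
theorem ringHom_flat_of_retraction {A C B : Type u} [CommRing A] [CommRing C] [CommRing B]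
    (α : A →+* C) (ρ : C →+* B) (τ : B →+* C) (h : τ.comp ρ = RingHom.id C)
    (H : (ρ.comp α).Flat) : α.Flat := by
  algebraize [α, ρ.comp α]
  let i : C →ₗ[A] B :=
    { toFun := ρ
      map_add' := map_add ρ
      map_smul' := fun a c => by
        simp only [Algebra.smul_def, RingHom.id_apply, map_mul]
        rfl }
  let r : B →ₗ[A] C :=
    { toFun := τ
      map_add' := map_add τ
      map_smul' := fun a b => by
        simp only [Algebra.smul_def, RingHom.id_apply, map_mul]
        congr 1
        exact DFunLike.congr_fun h (α a) }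
  have hri : r.comp i = LinearMap.id := by
    ext c
    exact DFunLike.congr_fun h c
  exact Module.Flat.of_retract i r hri

/-- if `r ≫ f` is flat and `r` has a section, then `f` is flat -/
theorem flat_of_comp_of_section {X Y W : Scheme.{u}} (f : X ⟶ W) (r : Y ⟶ X) (i : X ⟶ Y)
    (h : i ≫ r = 𝟙 X) [Flat (r ≫ f)] : Flat f := by
  rw [Flat.iff_flat_stalkMap]
  intro x
  have hx : r (i x) = x := by
    have := congrArg (fun g : X ⟶ X => g x) h
    simpa using this
  have key : (f.stalkMap (r (i x))).hom.Flat := by
    have H := (Flat.iff_flat_stalkMap (r ≫ f)).1 inferInstance (i x)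
    rw [Scheme.Hom.stalkMap_comp] at H
    have e1 := Scheme.Hom.stalkMap_comp i r x
    have hiso : ∀ (g : X ⟶ X) (_ : g = 𝟙 X), IsIso (g.stalkMap x) := by
      rintro g rfl
      rw [Scheme.Hom.stalkMap_id]
      exact IsIso.id (X.presheaf.stalk x)
    have := hiso (i ≫ r) h
    refine ringHom_flat_of_retraction (f.stalkMap (r (i x))).hom (r.stalkMap (i x)).hom
      ((i.stalkMap x ≫ inv ((i ≫ r).stalkMap x)).hom) ?_ H
    have : r.stalkMap (i x) ≫ (i.stalkMap x ≫ inv ((i ≫ r).stalkMap x)) = 𝟙 _ := by
      rw [← Category.assoc, ← e1, IsIso.hom_inv_id]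
    exact congrArg CommRingCat.Hom.hom this
  rw [hx] at key
  exact key

/-- if `r ≫ f` is locally of finite presentation and `r` has a section, then so is `f` -/
theorem lfp_of_comp_of_section {X Y W : Scheme.{u}} (f : X ⟶ W) (r : Y ⟶ X) (i : X ⟶ Y)
    (h : i ≫ r = 𝟙 X) [LocallyOfFinitePresentation (r ≫ f)] : LocallyOfFinitePresentation f := by
  have h1 : LocallyOfFiniteType (r ≫ f) := inferInstance
  have h2 : LocallyOfFiniteType r := locallyOfFiniteType_of_comp r f
  have h3 : LocallyOfFinitePresentation (i ≫ r) := by rw [h]; infer_instance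
  have h4 : LocallyOfFinitePresentation i :=
    Groth.Agent.Lib.Helper3.locallyOfFinitePresentation_of_comp i r h3 h2
  have : f = i ≫ (r ≫ f) := by rw [← Category.assoc, h, Category.id_comp]
  rw [this]
  infer_instance

end Groth.Agent.Lib.Helper27.GerbRetA
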