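import Groth.Agent.Lib.Helper27.GerbRetA
import Groth.Agent.Lib.Helper3.AlgSpLocP3
import Groth.Agent.Lib.Helper15.EtCoverDesc

/-!
# Retracts of flat / locally finitely presented morphisms of algebraic spaces (helper27)
-/

set_option autoImplicit false
set_option backward.isDefEq.respectTransparency false
set_option backward.isDefEq.respectTransparency.types false

universe u

open CategoryTheory CategoryTheory.Limits AlgebraicGeometry Opposite MorphismProperty

namespace Groth.Agent.Lib.Helper27.GerbRetB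

open AlgSp Groth.Agent.Lib.Helper3 Groth.Agent.Lib.Helper27.GerbRetA

variable {S : Scheme.{u}}

/-- scheme-level core: `l ≫ ρ = ε` etale surjective, `ρ ≫ h` flat; then `h` is flat -/
theorem flat_of_etale_lift {U₂ Y₁ U W : Scheme.{u}} (l : U₂ ⟶ Y₁) (ρ : Y₁ ⟶ U) (h : U ⟶ W)
    (he : Etale (l ≫ ρ)) (hs : Surjective (l ≫ ρ)) (hf : Flat (ρ ≫ h)) : Flat h := by
  let ε := l ≫ ρ
  let s : U₂ ⟶ pullback ρ ε := pullback.lift l (𝟙 _) (by simp [ε])
  have hs' : s ≫ pullback.snd ρ ε = 𝟙 _ := pullback.lift_snd _ _ _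
  have h1 : Flat (pullback.snd ρ ε ≫ (ε ≫ h)) := by
    rw [← Category.assoc, ← pullback.condition, Category.assoc]
    have : Etale (pullback.fst ρ ε) := MorphismProperty.pullback_fst _ _ he
    infer_instance
  have h2 : Flat (ε ≫ h) := flat_of_comp_of_section (ε ≫ h) (pullback.snd ρ ε) s hs'
  exact isEtLocal_flat.of_comp ε h (inferInstanceAs (Etale ε)) hs h2

theorem locP_flat_of_section {X Y B : Sp S} (hX : IsAlgSpace X) (hY : IsAlgSpace Y)
    (hB : IsAlgSpace B) (f : X ⟶ B) (r : Y ⟶ X) (i : X ⟶ Y) (h : i ≫ r = 𝟙 X)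
    (H : LocP @Flat (r ≫ f)) : LocP @Flat f := by
  obtain ⟨W, c, hce, hcs⟩ := hB.atlas
  obtain ⟨U, u, k, -, -, hae, has, -, hk⟩ := exists_chart_over hX hB f c hce
  obtain ⟨Y₁, v, ρ, hve, hvs, hqe, -, hρ, hq⟩ := exists_chart_over hY hX r _ hae
  -- the chart of `r ≫ f`
  have hflat : Flat (ρ ≫ k).left := by
    refine H (v ≫ pullback.fst r (u ≫ pullback.fst f c)) c (ρ ≫ k) hqe hce ?_
    rw [← Category.assoc, hq, Category.assoc, hk, Functor.map_comp, Category.assoc]
  -- the section of `Y ×_X U ⟶ U`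
  let a := u ≫ pullback.fst f c
  let iU : (yon S).obj U ⟶ pullback r a :=
    pullback.lift (a ≫ i) (𝟙 _) (by rw [Category.assoc, h, Category.comp_id, Category.id_comp])
  have sq := hve.rep.isPullback iU
  obtain ⟨l, hl⟩ := (yon S).map_surjective (hve.rep.fst iU)
  rw [← hl] at sq
  have hεe : Etale (hve.rep.snd iU).left := hve.property_snd iU
  have hεs : Surjective (hve.rep.snd iU).left := hvs.property iU _ _ sq
  have hlρ : l ≫ ρ = hve.rep.snd iU := by
    apply (yon S).map_injective
    rw [Functor.map_comp, hρ, ← Category.assoc, sq.w, Category.assoc]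
    have : iU ≫ pullback.snd r a = 𝟙 _ := pullback.lift_snd _ _ _
    exact (congrArg (fun t => (yon S).map (hve.rep.snd iU) ≫ t) this).trans (Category.comp_id _)
  have hk' : Flat k.left := by
    refine flat_of_etale_lift l.left ρ.left k.left ?_ ?_ ?_
    · rw [← Over.comp_left, hlρ]; exact hεe
    · rw [← Over.comp_left, hlρ]; exact hεs
    · rw [← Over.comp_left]; exact hflat
  exact locP_of_chart isEtLocal_flat f a hae (has hcs) c hce k hk hk'

theorem locP_lfp_of_section {X Y B : Sp S} (hX : IsAlgSpace X) (hY : IsAlgSpace Y)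
    (hB : IsAlgSpace B) (f : X ⟶ B) (r : Y ⟶ X) (i : X ⟶ Y) (h : i ≫ r = 𝟙 X)
    (H : LocP @LocallyOfFinitePresentation (r ≫ f)) : LocP @LocallyOfFinitePresentation f := by
  have h1 : LocP @LocallyOfFiniteType (r ≫ f) :=
    locP_mono (fun _ _ g (hg : LocallyOfFinitePresentation g) =>
      (inferInstance : LocallyOfFiniteType g)) H
  have h2 : LocP @LocallyOfFiniteType r :=
    Groth.Agent.Lib.Helper15.EtCoverDesc.locP_lft_of_comp hY hX hB r f h1
  have h3 : LocP @LocallyOfFinitePresentation (i ≫ r) := by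
    rw [h]
    intro U V a b k ha hb w
    rw [Category.comp_id] at w
    -- `a = yon k ≫ b` with `a`, `b` etale
    have : Etale k.left := etale_of_repWith_comp a b ha hb k w.symm
    infer_instance
  have h4 : LocP @LocallyOfFinitePresentation i :=
    Groth.Agent.Lib.Helper15.EtCoverDesc.locP_lfp_of_comp hX hY hX i r h3 h2
  have : f = i ≫ (r ≫ f) := by rw [← Category.assoc, h, Category.id_comp]
  rw [this]
  exact locP_comp isEtLocal_locallyOfFinitePresentation hX hY hB i (r ≫ f) h4 H

end Groth.Agent.Lib.Helper27.GerbRetB
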