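import Groth.Prelude.Def_StGerb2
import Groth.Agent.Lib.Helper27.GerbEquiv

/-!
# Endofunctors of a gerbe acting trivially on the band are fibrewise isomorphic to the identity
(helper27)
-/

set_option autoImplicit false
set_option backward.isDefEq.respectTransparency false
set_option backward.isDefEq.respectTransparency.types false

universe v₃ u₃ v₂ u₂ v u

open CategoryTheory Groth.Agent.Lib.Helper27.DescentKit Groth.Agent.Lib.Helper16.FpFibGrpd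
open Groth.Agent.Lib.Helper27.GerbEquiv

namespace Groth.Agent.Lib.Helper27.GerbRho

variable {C : Type u} [Category.{v} C] (J : GrothendieckTopology C)
  {𝒳 : BasedCategory.{v₂, u₂} C}

section GOf

variable (h𝒳 : FibCat.IsFibGrpd 𝒳.p) (φ : 𝒳 ⥤ᵇ 𝒳) (x : 𝒳.obj)
  (g : φ.obj x ⟶ x) (hg : 𝒳.p.IsHomLift (𝟙 (𝒳.p.obj x)) g)

include hg in
theorem lift_aux {z : 𝒳.obj} (c : z ⟶ x) : 𝒳.p.IsHomLift (𝒳.p.map c) (φ.map c ≫ g) := by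
  have h1 : 𝒳.p.IsHomLift (𝒳.p.map c) (φ.map c) := inferInstance
  have : 𝒳.p.IsHomLift (𝒳.p.map c ≫ 𝟙 _) (φ.map c ≫ g) := inferInstance
  rwa [Category.comp_id] at this

/-- The pullback of `g` along `c : z ⟶ x`. -/
noncomputable def gOf {z : 𝒳.obj} (c : z ⟶ x) : φ.obj z ⟶ z :=
  FG.lift h𝒳 (𝒳.p.map c) c inferInstance (𝟙 _) (Category.id_comp _).symm (φ.map c ≫ g)
    (lift_aux φ x g hg c)

theorem gOf_lift {z : 𝒳.obj} (c : z ⟶ x) :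
    𝒳.p.IsHomLift (𝟙 (𝒳.p.obj z)) (gOf h𝒳 φ x g hg c) :=
  FG.lift_isHomLift h𝒳 _ _ _ _ _ _ _

theorem gOf_lift' {z : 𝒳.obj} (c : z ⟶ x) {V : C} (hV : 𝒳.p.obj z = V) :
    𝒳.p.IsHomLift (𝟙 V) (gOf h𝒳 φ x g hg c) := by
  subst hV; exact gOf_lift h𝒳 φ x g hg c

theorem gOf_fac {z : 𝒳.obj} (c : z ⟶ x) : gOf h𝒳 φ x g hg c ≫ c = φ.map c ≫ g :=
  FG.lift_fac h𝒳 _ _ _ _ _ _ _

theorem gOf_uniq {z : 𝒳.obj} (c : z ⟶ x) (γ : φ.obj z ⟶ z)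
    (hγ : 𝒳.p.IsHomLift (𝟙 (𝒳.p.obj z)) γ) (h : γ ≫ c = φ.map c ≫ g) :
    γ = gOf h𝒳 φ x g hg c :=
  FG.lift_uniq h𝒳 _ _ _ _ _ _ _ γ hγ h

theorem gOf_nat {z z' : 𝒳.obj} (d : z' ⟶ z) (c : z ⟶ x) :
    gOf h𝒳 φ x g hg (d ≫ c) ≫ d = φ.map d ≫ gOf h𝒳 φ x g hg c := by
  have l1 := gOf_lift h𝒳 φ x g hg (d ≫ c)
  have l2 := gOf_lift h𝒳 φ x g hg c
  have hz : 𝒳.p.obj (φ.obj z) = 𝒳.p.obj z := φ.w_obj z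
  have hz' : 𝒳.p.obj (φ.obj z') = 𝒳.p.obj z' := φ.w_obj z'
  have m1 : 𝒳.p.IsHomLift (𝒳.p.map d) (gOf h𝒳 φ x g hg (d ≫ c) ≫ d) := by
    have : 𝒳.p.IsHomLift (𝟙 _ ≫ 𝒳.p.map d) (gOf h𝒳 φ x g hg (d ≫ c) ≫ d) := inferInstance
    rwa [Category.id_comp] at this
  have m2 : 𝒳.p.IsHomLift (𝒳.p.map d) (φ.map d ≫ gOf h𝒳 φ x g hg c) := by
    have h1 : 𝒳.p.IsHomLift (𝒳.p.map d) (φ.map d) := inferInstance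
    have : 𝒳.p.IsHomLift (𝒳.p.map d ≫ 𝟙 _) (φ.map d ≫ gOf h𝒳 φ x g hg c) := inferInstance
    rwa [Category.comp_id] at this
  refine FG.cancel h𝒳 (𝒳.p.map c) c inferInstance (𝒳.p.map d) m1 m2 ?_
  rw [Category.assoc, Category.assoc, gOf_fac, gOf_fac, φ.map_comp, Category.assoc]

variable (hterm : ∀ {U : C} (k k' : U ⟶ 𝒳.p.obj x), k = k')
  (hconj : ∀ (x' : 𝒳.obj) (c : x' ⟶ x) (g' : φ.obj x' ⟶ x'),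
    𝒳.p.IsHomLift (𝟙 (𝒳.p.obj x')) g' → φ.map c ≫ g = g' ≫ c →
      ∀ α : Gerb.AutO x', φ.map α.hom.1 ≫ g' = g' ≫ α.hom.1)

include hterm hconj in
theorem gOf_indep {z : 𝒳.obj} (c c' : z ⟶ x) : gOf h𝒳 φ x g hg c = gOf h𝒳 φ x g hg c' := by
  have hc' : 𝒳.p.IsHomLift (𝒳.p.map c) c' := by
    rw [hterm (𝒳.p.map c) (𝒳.p.map c')]; infer_instance
  have hc : 𝒳.p.IsHomLift (𝒳.p.map c) c := inferInstance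
  obtain ⟨α₀, hα₀l, hα₀fac⟩ : ∃ α₀ : z ⟶ z, 𝒳.p.IsHomLift (𝟙 (𝒳.p.obj z)) α₀ ∧ α₀ ≫ c = c' :=
    ⟨_, FG.lift_isHomLift h𝒳 _ c hc (𝟙 _) (Category.id_comp _).symm c' hc',
      FG.lift_fac h𝒳 _ c hc (𝟙 _) (Category.id_comp _).symm c' hc'⟩
  have key := hconj z c (gOf h𝒳 φ x g hg c) (gOf_lift h𝒳 φ x g hg c)
    (gOf_fac h𝒳 φ x g hg c).symm (mkAut h𝒳 z α₀ hα₀l)
  rw [mkAut_hom] at key
  apply gOf_uniq h𝒳 φ x g hg c' _ (gOf_lift h𝒳 φ x g hg c)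
  rw [← hα₀fac, ← Category.assoc, ← key, Category.assoc, gOf_fac, φ.map_comp, Category.assoc]

end GOf

section Main

variable (h𝒳 : Stk.IsStack J 𝒳) (hg𝒳 : Gerb.LocSurjHom J (FibCat.toSelf 𝒳))
  (φ : 𝒳 ⥤ᵇ 𝒳) (x : 𝒳.obj) (hT : ∀ U : C, Nonempty (U ⟶ 𝒳.p.obj x))
  (g : φ.obj x ⟶ x) (hg : 𝒳.p.IsHomLift (𝟙 (𝒳.p.obj x)) g)
  (hterm : ∀ {U : C} (k k' : U ⟶ 𝒳.p.obj x), k = k')
  (hconj : ∀ (x' : 𝒳.obj) (c : x' ⟶ x) (g' : φ.obj x' ⟶ x'),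
    𝒳.p.IsHomLift (𝟙 (𝒳.p.obj x')) g' → φ.map c ≫ g = g' ≫ c →
      ∀ α : Gerb.AutO x', φ.map α.hom.1 ≫ g' = g' ≫ α.hom.1)

/-- `ρ : φ y ⟶ y` is compatible with the pullbacks of `g`, locally on the base `U` of `y`. -/
def Good (U : C) (y : 𝒳.obj) (ρ : φ.obj y ⟶ y) : Prop :=
  𝒳.p.IsHomLift (𝟙 U) ρ ∧ ∃ R ∈ J U,
    (∀ ⦃V : C⦄ (f : V ⟶ U), R f → ∃ (x₀ : 𝒳.obj) (a : x₀ ⟶ y) (_ : x₀ ⟶ x), 𝒳.p.IsHomLift f a) ∧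
    ∀ ⦃V : C⦄ (f : V ⟶ U), R f → ∀ (x₀ : 𝒳.obj) (a : x₀ ⟶ y) (c : x₀ ⟶ x),
      𝒳.p.IsHomLift f a → φ.map a ≫ ρ = gOf h𝒳.1 φ x g hg c ≫ a

include hg𝒳 hT hterm hconj in
theorem exists_good (y : 𝒳.obj) (U : C) (hy : 𝒳.p.obj y = U) :
    ∃ ρ : φ.obj y ⟶ y, Good J h𝒳 φ x g hg U y ρ := by
  obtain ⟨R, hR, h⟩ := exists_local J h𝒳 hg𝒳 x hT y y hy hy
  have hst := (isStackFor_iff R h𝒳.1).1 (h𝒳.2 R hR)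
  have hloc : ∀ ⦃V : C⦄ (f : V ⟶ U) ⦃w : 𝒳.obj⦄ (b : w ⟶ φ.obj y), R f → 𝒳.p.IsHomLift f b →
      ∃ m : w ⟶ y, 𝒳.p.IsHomLift f m ∧ ∀ (x₀ : 𝒳.obj) (a : x₀ ⟶ y) (c : x₀ ⟶ x)
        (θ : w ⟶ φ.obj x₀), 𝒳.p.IsHomLift f a → 𝒳.p.IsHomLift (𝟙 V) θ → θ ≫ φ.map a = b →
          m = θ ≫ gOf h𝒳.1 φ x g hg c ≫ a := by
    intro V f w b hf hb
    obtain ⟨x₀, a, -, c, ha, -⟩ := h f hf
    have hφa : 𝒳.p.IsHomLift f (φ.map a) := inferInstance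
    have hV : 𝒳.p.obj x₀ = V := IsHomLift.domain_eq 𝒳.p f a
    obtain ⟨θ, hθl, hθfac⟩ : ∃ θ : w ⟶ φ.obj x₀, 𝒳.p.IsHomLift (𝟙 V) θ ∧ θ ≫ φ.map a = b :=
      ⟨_, FG.lift_isHomLift h𝒳.1 f (φ.map a) hφa (𝟙 V) (Category.id_comp _).symm b hb,
        FG.lift_fac h𝒳.1 f (φ.map a) hφa (𝟙 V) (Category.id_comp _).symm b hb⟩
    have hgl : 𝒳.p.IsHomLift (𝟙 V) (gOf h𝒳.1 φ x g hg c) := gOf_lift' h𝒳.1 φ x g hg c hV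
    refine ⟨θ ≫ gOf h𝒳.1 φ x g hg c ≫ a, ?_, ?_⟩
    · have : 𝒳.p.IsHomLift (𝟙 V ≫ 𝟙 V ≫ f) (θ ≫ gOf h𝒳.1 φ x g hg c ≫ a) := inferInstance
      rwa [Category.id_comp, Category.id_comp] at this
    · intro x₁ a₁ c₁ θ₁ ha₁ hθ₁ hfac₁
      obtain ⟨ι, hιl, hιfac⟩ : ∃ ι : x₁ ⟶ x₀, 𝒳.p.IsHomLift (𝟙 V) ι ∧ ι ≫ a = a₁ :=
        ⟨_, FG.lift_isHomLift h𝒳.1 f a ha (𝟙 V) (Category.id_comp _).symm a₁ ha₁,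
          FG.lift_fac h𝒳.1 f a ha (𝟙 V) (Category.id_comp _).symm a₁ ha₁⟩
      have e1 : gOf h𝒳.1 φ x g hg c₁ = gOf h𝒳.1 φ x g hg (ι ≫ c) :=
        gOf_indep h𝒳.1 φ x g hg hterm hconj c₁ (ι ≫ c)
      have hφι : 𝒳.p.IsHomLift (𝟙 V) (φ.map ι) := inferInstance
      have e2 : θ₁ ≫ φ.map ι = θ := by
        have l1 : 𝒳.p.IsHomLift (𝟙 V) (θ₁ ≫ φ.map ι) := by
          have : 𝒳.p.IsHomLift (𝟙 V ≫ 𝟙 V) (θ₁ ≫ φ.map ι) := inferInstance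
          rwa [Category.id_comp] at this
        refine FG.cancel h𝒳.1 f (φ.map a) hφa (𝟙 V) l1 hθl ?_
        rw [Category.assoc, ← φ.map_comp, hιfac, hfac₁, hθfac]
      rw [e1, ← hιfac, ← Category.assoc (gOf h𝒳.1 φ x g hg (ι ≫ c)), gOf_nat, ← e2]
      simp only [Category.assoc]
  choose m hm₁ hm₂ using hloc
  let M : MatchFam R 𝒳 (φ.obj y) y :=
    { m := fun V f w b hf hb => m f b hf hb
      lift := fun V f w b hf hb => hm₁ f b hf hb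
      compat := fun V W f k w w' b b' hf hb hb' hbb' => by
        obtain ⟨x₀, a, -, c, ha, -⟩ := h f hf
        have hφa : 𝒳.p.IsHomLift f (φ.map a) := inferInstance
        have hV : 𝒳.p.obj x₀ = V := IsHomLift.domain_eq 𝒳.p f a
        obtain ⟨θ, hθl, hθfac⟩ : ∃ θ : w ⟶ φ.obj x₀, 𝒳.p.IsHomLift (𝟙 V) θ ∧
            θ ≫ φ.map a = b :=
          ⟨_, FG.lift_isHomLift h𝒳.1 f (φ.map a) hφa (𝟙 V) (Category.id_comp _).symm b hb,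
            FG.lift_fac h𝒳.1 f (φ.map a) hφa (𝟙 V) (Category.id_comp _).symm b hb⟩
        have e1 := hm₂ f b hf hb x₀ a c θ ha hθl hθfac
        let x₀' := pbObj h𝒳.1 x₀ hV (Over.mk k)
        let d : x₀' ⟶ x₀ := pbHom h𝒳.1 x₀ hV (Over.mk k)
        have hd : 𝒳.p.IsHomLift k d := pbHom_isHomLift h𝒳.1 x₀ hV (Over.mk k)
        have hφd : 𝒳.p.IsHomLift k (φ.map d) := inferInstance
        have hb'θ : 𝒳.p.IsHomLift k (b' ≫ θ) := by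
          have : 𝒳.p.IsHomLift (k ≫ 𝟙 V) (b' ≫ θ) := inferInstance
          rwa [Category.comp_id] at this
        obtain ⟨θ', hθ'l, hθ'fac⟩ : ∃ θ' : w' ⟶ φ.obj x₀', 𝒳.p.IsHomLift (𝟙 W) θ' ∧
            θ' ≫ φ.map d = b' ≫ θ :=
          ⟨_, FG.lift_isHomLift h𝒳.1 k (φ.map d) hφd (𝟙 W) (Category.id_comp _).symm _ hb'θ,
            FG.lift_fac h𝒳.1 k (φ.map d) hφd (𝟙 W) (Category.id_comp _).symm _ hb'θ⟩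
        have hda : 𝒳.p.IsHomLift (k ≫ f) (d ≫ a) := inferInstance
        have e2 := hm₂ (k ≫ f) (b' ≫ b) (R.downward_closed hf k) hbb' x₀' (d ≫ a) (d ≫ c) θ'
          hda hθ'l (by rw [φ.map_comp, ← Category.assoc, hθ'fac, Category.assoc, hθfac])
        change m (k ≫ f) (b' ≫ b) _ hbb' = b' ≫ m f b hf hb
        rw [e2, e1, ← Category.assoc (gOf h𝒳.1 φ x g hg (d ≫ c)), gOf_nat, Category.assoc,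
          ← Category.assoc θ', hθ'fac, Category.assoc] }
  have hφy : 𝒳.p.obj (φ.obj y) = U := (φ.w_obj y).trans hy
  obtain ⟨ρ, hρl, hρ⟩ := hst.2.1 (φ.obj y) y hφy hy M
  refine ⟨ρ, hρl, R, hR, fun V f hf => ?_, fun V f hf x₀ a c ha => ?_⟩
  · obtain ⟨x₀, a, -, c, ha, -⟩ := h f hf
    exact ⟨x₀, a, c, ha⟩
  · have hφa : 𝒳.p.IsHomLift f (φ.map a) := inferInstance
    have hV : 𝒳.p.obj (φ.obj x₀) = V := IsHomLift.domain_eq 𝒳.p f (φ.map a)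
    have e1 := hρ f (φ.map a) hf hφa
    change φ.map a ≫ ρ = m f (φ.map a) hf hφa at e1
    rw [e1, hm₂ f (φ.map a) hf hφa x₀ a c (𝟙 _) ha (IsHomLift.id hV) (Category.id_comp _),
      Category.id_comp]

include hg𝒳 in
theorem nat_of_good {U : C} (y y' : 𝒳.obj) (ρ : φ.obj y ⟶ y) (ρ' : φ.obj y' ⟶ y')
    (hρ : Good J h𝒳 φ x g hg U y ρ) (hρ' : Good J h𝒳 φ x g hg U y' ρ')
    (f : y ⟶ y') (hf : 𝒳.p.IsHomLift (𝟙 U) f) : φ.map f ≫ ρ' = ρ ≫ f := by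
  obtain ⟨hρl, R₁, hR₁, hex₁, hp₁⟩ := hρ
  obtain ⟨hρ'l, R₂, hR₂, -, hp₂⟩ := hρ'
  have hR : R₁ ⊓ R₂ ∈ J U := J.intersection_covering hR₁ hR₂
  have hst := (isStackFor_iff (R₁ ⊓ R₂) h𝒳.1).1 (h𝒳.2 _ hR)
  have hφf : 𝒳.p.IsHomLift (𝟙 U) (φ.map f) := inferInstance
  have l1 : 𝒳.p.IsHomLift (𝟙 U) (φ.map f ≫ ρ') := by
    have : 𝒳.p.IsHomLift (𝟙 U ≫ 𝟙 U) (φ.map f ≫ ρ') := inferInstance
    rwa [Category.id_comp] at this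
  have l2 : 𝒳.p.IsHomLift (𝟙 U) (ρ ≫ f) := by
    have : 𝒳.p.IsHomLift (𝟙 U ≫ 𝟙 U) (ρ ≫ f) := inferInstance
    rwa [Category.id_comp] at this
  refine hst.1 (φ.obj y) y' _ _ l1 l2 (fun V f₀ w b hf₀ hb => ?_)
  obtain ⟨x₀, a, c, ha⟩ := hex₁ f₀ hf₀.1
  have hφa : 𝒳.p.IsHomLift f₀ (φ.map a) := inferInstance
  obtain ⟨θ, -, hθfac⟩ : ∃ θ : w ⟶ φ.obj x₀, 𝒳.p.IsHomLift (𝟙 V) θ ∧ θ ≫ φ.map a = b :=
    ⟨_, FG.lift_isHomLift h𝒳.1 f₀ (φ.map a) hφa (𝟙 V) (Category.id_comp _).symm b hb,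
      FG.lift_fac h𝒳.1 f₀ (φ.map a) hφa (𝟙 V) (Category.id_comp _).symm b hb⟩
  have haf : 𝒳.p.IsHomLift f₀ (a ≫ f) := by
    have : 𝒳.p.IsHomLift (f₀ ≫ 𝟙 U) (a ≫ f) := inferInstance
    rwa [Category.comp_id] at this
  have e1 := hp₁ f₀ hf₀.1 x₀ a c ha
  have e2 := hp₂ f₀ hf₀.2 x₀ (a ≫ f) c haf
  rw [φ.map_comp, Category.assoc] at e2
  rw [← hθfac, Category.assoc, Category.assoc, e2, ← Category.assoc (φ.map a), e1]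
  simp only [Category.assoc]

include h𝒳 hg hg𝒳 hT hterm hconj in
/-- The fibrewise natural isomorphism `φ ≅ id`. -/
theorem exists_rho :
    ∃ ρ : ∀ y : 𝒳.obj, φ.obj y ⟶ y,
      (∀ y, IsIso (ρ y) ∧ 𝒳.p.IsHomLift (𝟙 (𝒳.p.obj y)) (ρ y)) ∧
      (∀ (y y' : 𝒳.obj) (f : y ⟶ y'), 𝒳.p.IsHomLift (𝟙 (𝒳.p.obj y)) f →
        φ.map f ≫ ρ y' = ρ y ≫ f) := by
  choose ρ hρ using fun y => exists_good J h𝒳 hg𝒳 φ x hT g hg hterm hconj y (𝒳.p.obj y) rfl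
  refine ⟨ρ, fun y => ⟨FG.isIso h𝒳.1 (ρ y) (hρ y).1, (hρ y).1⟩, fun y y' f hf => ?_⟩
  have hy' : 𝒳.p.obj y' = 𝒳.p.obj y := IsHomLift.codomain_eq 𝒳.p (𝟙 (𝒳.p.obj y)) f
  have h' : Good J h𝒳 φ x g hg (𝒳.p.obj y) y' (ρ y') := hy' ▸ hρ y'
  exact nat_of_good J h𝒳 hg𝒳 φ x g hg y y' (ρ y) (ρ y') (hρ y) h' f hf

end Main


section Sigma

variable {𝒴 : BasedCategory.{v₃, u₃} C}
  (φ : 𝒳 ⥤ᵇ 𝒴) (ψ : 𝒴 ⥤ᵇ 𝒳) (x : 𝒳.obj)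
  (hφ : ∀ (x' : 𝒳.obj) (_ : x' ⟶ x), Function.Surjective (Gerb.autMap φ x'))
  (g : ψ.obj (φ.obj x) ⟶ x) (hg : 𝒳.p.IsHomLift (𝟙 (𝒳.p.obj x)) g)
  (hconj : ∀ (x' : 𝒳.obj) (c : x' ⟶ x) (g' : ψ.obj (φ.obj x') ⟶ x'),
    𝒳.p.IsHomLift (𝟙 (𝒳.p.obj x')) g' → ψ.map (φ.map c) ≫ g = g' ≫ c →
      ∀ α : Gerb.AutO x', ψ.map (φ.map α.hom.1) ≫ g' = g' ≫ α.hom.1)

include hφ hg hconj in
theorem hconj_sigma (h𝒳 : FibCat.IsFibGrpd 𝒳.p) (h𝒴 : FibCat.IsFibGrpd 𝒴.p)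
    (z' : 𝒴.obj) (c : z' ⟶ φ.obj x) (g' : φ.obj (ψ.obj z') ⟶ z')
    (hg' : 𝒴.p.IsHomLift (𝟙 (𝒴.p.obj z')) g')
    (hfac : φ.map (ψ.map c) ≫ φ.map g = g' ≫ c) (α : Gerb.AutO z') :
    φ.map (ψ.map α.hom.1) ≫ g' = g' ≫ α.hom.1 := by
  let Φ : 𝒳 ⥤ᵇ 𝒳 := BasedFunctor.comp φ ψ
  let k' : 𝒴.p.obj z' ⟶ 𝒳.p.obj x := 𝒴.p.map c ≫ eqToHom (φ.w_obj x)
  have hc : 𝒴.p.IsHomLift k' c := by
    change 𝒴.p.IsHomLift (𝒴.p.map c ≫ eqToHom (φ.w_obj x)) c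
    infer_instance
  let x' := pbObj h𝒳 x rfl (Over.mk k')
  let c' : x' ⟶ x := pbHom h𝒳 x rfl (Over.mk k')
  have hc' : 𝒳.p.IsHomLift k' c' := pbHom_isHomLift h𝒳 x rfl (Over.mk k')
  have hx' : 𝒳.p.obj x' = 𝒴.p.obj z' := p_pbObj h𝒳 x rfl (Over.mk k')
  have hφc' : 𝒴.p.IsHomLift k' (φ.map c') := inferInstance
  obtain ⟨ι, hιl, hιfac⟩ : ∃ ι : z' ⟶ φ.obj x', 𝒴.p.IsHomLift (𝟙 (𝒴.p.obj z')) ι ∧
      ι ≫ φ.map c' = c :=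
    ⟨_, FG.lift_isHomLift h𝒴 k' (φ.map c') hφc' (𝟙 _) (Category.id_comp _).symm c hc,
      FG.lift_fac h𝒴 k' (φ.map c') hφc' (𝟙 _) (Category.id_comp _).symm c hc⟩
  haveI : IsIso ι := FG.isIso h𝒴 ι hιl
  have hαl : 𝒴.p.IsHomLift (𝟙 (𝒴.p.obj z')) α.hom.1 := α.hom.2
  have hinvl : 𝒴.p.IsHomLift (𝟙 (𝒴.p.obj z')) (inv ι) := inferInstance
  have hα₁l : 𝒴.p.IsHomLift (𝟙 (𝒴.p.obj z')) (inv ι ≫ α.hom.1 ≫ ι) := by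
    have : 𝒴.p.IsHomLift (𝟙 (𝒴.p.obj z') ≫ 𝟙 (𝒴.p.obj z') ≫ 𝟙 (𝒴.p.obj z'))
      (inv ι ≫ α.hom.1 ≫ ι) := inferInstance
    rwa [Category.id_comp, Category.id_comp] at this
  have hφx' : 𝒴.p.obj (φ.obj x') = 𝒴.p.obj z' := (φ.w_obj x').trans hx'
  let A₁ : Gerb.AutO (φ.obj x') := mkAut h𝒴 (φ.obj x') (inv ι ≫ α.hom.1 ≫ ι)
    (FpFibered.lift_id_congr 𝒴.p hφx'.symm _ hα₁l)
  obtain ⟨α', hα'⟩ := hφ x' c' A₁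
  have hα'' : φ.map α'.hom.1 = inv ι ≫ α.hom.1 ≫ ι :=
    congrArg (fun t : Gerb.AutO (φ.obj x') => t.hom.1) hα'
  have hαι : α.hom.1 ≫ ι = ι ≫ φ.map α'.hom.1 := by
    rw [hα'', IsIso.hom_inv_id_assoc]
  let G : ψ.obj (φ.obj x') ⟶ x' := gOf h𝒳 Φ x g hg c'
  have hGl : 𝒳.p.IsHomLift (𝟙 (𝒴.p.obj z')) G := gOf_lift' h𝒳 Φ x g hg c' hx'
  have hGfac : G ≫ c' = ψ.map (φ.map c') ≫ g := gOf_fac h𝒳 Φ x g hg c'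
  have key𝒳 : ψ.map (φ.map α'.hom.1) ≫ G = G ≫ α'.hom.1 :=
    hconj x' c' G (gOf_lift h𝒳 Φ x g hg c') hGfac.symm α'
  have hψι : 𝒳.p.IsHomLift (𝟙 (𝒴.p.obj z')) (ψ.map ι) := inferInstance
  have hφψι : 𝒴.p.IsHomLift (𝟙 (𝒴.p.obj z')) (φ.map (ψ.map ι)) := inferInstance
  have hφG : 𝒴.p.IsHomLift (𝟙 (𝒴.p.obj z')) (φ.map G) := inferInstance
  have star : g' ≫ ι = φ.map (ψ.map ι) ≫ φ.map G := by
    have l1 : 𝒴.p.IsHomLift (𝟙 (𝒴.p.obj z')) (g' ≫ ι) := by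
      have : 𝒴.p.IsHomLift (𝟙 (𝒴.p.obj z') ≫ 𝟙 (𝒴.p.obj z')) (g' ≫ ι) := inferInstance
      rwa [Category.id_comp] at this
    have l2 : 𝒴.p.IsHomLift (𝟙 (𝒴.p.obj z')) (φ.map (ψ.map ι) ≫ φ.map G) := by
      have : 𝒴.p.IsHomLift (𝟙 (𝒴.p.obj z') ≫ 𝟙 (𝒴.p.obj z'))
        (φ.map (ψ.map ι) ≫ φ.map G) := inferInstance
      rwa [Category.id_comp] at this
    refine FG.cancel h𝒴 k' (φ.map c') hφc' (𝟙 _) l1 l2 ?_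
    have r1 : φ.map G ≫ φ.map c' = φ.map (ψ.map (φ.map c')) ≫ φ.map g := by
      rw [← φ.map_comp, hGfac, φ.map_comp]
    have r2 : φ.map (ψ.map ι) ≫ φ.map (ψ.map (φ.map c')) = φ.map (ψ.map c) := by
      rw [← φ.map_comp, ← ψ.map_comp, hιfac]
    rw [Category.assoc, hιfac, ← hfac, Category.assoc, r1, ← Category.assoc, r2]
  have r3 : φ.map (ψ.map α.hom.1) ≫ φ.map (ψ.map ι) =
      φ.map (ψ.map ι) ≫ φ.map (ψ.map (φ.map α'.hom.1)) := by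
    rw [← φ.map_comp, ← ψ.map_comp, hαι, ψ.map_comp, φ.map_comp]
  have r4 : φ.map (ψ.map (φ.map α'.hom.1)) ≫ φ.map G = φ.map G ≫ φ.map α'.hom.1 := by
    rw [← φ.map_comp, key𝒳, φ.map_comp]
  rw [← cancel_mono ι, Category.assoc, star, ← Category.assoc, r3, Category.assoc, r4,
    ← Category.assoc, ← star, Category.assoc, Category.assoc, hαι]

include hφ hg hconj in
theorem exists_sigma (h𝒳 : Stk.IsStack J 𝒳) (h𝒴 : Stk.IsStack J 𝒴)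
    (hg𝒴 : Gerb.LocSurjHom J (FibCat.toSelf 𝒴))
    (hT : ∀ U : C, Nonempty (U ⟶ 𝒳.p.obj x))
    (hterm : ∀ {U : C} (k k' : U ⟶ 𝒳.p.obj x), k = k') :
    ∃ σ : ∀ z : 𝒴.obj, φ.obj (ψ.obj z) ⟶ z,
      (∀ z, IsIso (σ z) ∧ 𝒴.p.IsHomLift (𝟙 (𝒴.p.obj z)) (σ z)) ∧
      (∀ (z z' : 𝒴.obj) (f : z ⟶ z'), 𝒴.p.IsHomLift (𝟙 (𝒴.p.obj z)) f →
        φ.map (ψ.map f) ≫ σ z' = σ z ≫ f) := by
  have hx : 𝒴.p.obj (φ.obj x) = 𝒳.p.obj x := φ.w_obj x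
  have hg' : 𝒴.p.IsHomLift (𝟙 (𝒴.p.obj (φ.obj x))) (φ.map g) := by
    have : 𝒴.p.IsHomLift (𝟙 (𝒳.p.obj x)) (φ.map g) := inferInstance
    exact FpFibered.lift_id_congr 𝒴.p hx.symm _ this
  have hT' : ∀ U : C, Nonempty (U ⟶ 𝒴.p.obj (φ.obj x)) := by rw [hx]; exact hT
  have hterm' : ∀ {U : C} (k k' : U ⟶ 𝒴.p.obj (φ.obj x)), k = k' := by
    rw [hx]; exact fun k k' => hterm k k'
  exact exists_rho J h𝒴 hg𝒴 (BasedFunctor.comp ψ φ) (φ.obj x) hT' (φ.map g) hg' hterm'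
    (fun z' c g' hg'' hfac α => hconj_sigma φ ψ x hφ g hg hconj h𝒳.1 h𝒴.1 z' c g' hg'' hfac α)

end Sigma

end Groth.Agent.Lib.Helper27.GerbRho
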