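import Groth.Prelude.Def_AlgSt4
import Groth.Agent.Lib.Helper27.FpKit

/-!
# Points of categories over schemes: functoriality (helper27)
-/

set_option autoImplicit false
set_option backward.isDefEq.respectTransparency false
set_option backward.isDefEq.respectTransparency.types false

universe v₄ u₄ v₃ u₃ v₂ u₂ u

open CategoryTheory CategoryTheory.Limits FibCat AlgebraicGeometry
  Groth.Agent.Lib.Helper27.FpKit

namespace Groth.Agent.Lib.Helper27.PointsKit

variable {S : Scheme.{u}} {𝒳 : BasedCategory.{v₂, u₂} (Over S)}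
  {𝒴 : BasedCategory.{v₃, u₃} (Over S)} {𝒵 : BasedCategory.{v₄, u₄} (Over S)}

theorem map_comp (f : 𝒳 ⥤ᵇ 𝒴) (g : 𝒴 ⥤ᵇ 𝒵) (x : AlgSt.Points 𝒳) :
    AlgSt.Points.map (BasedFunctor.comp f g) x = AlgSt.Points.map g (AlgSt.Points.map f x) := by
  obtain ⟨p, rfl⟩ := AlgSt.Points.mk_surjective x
  rfl

theorem map_congr (f f' : 𝒳 ⥤ᵇ 𝒴) (h : ∀ a : 𝒳.obj, Nonempty (f.obj a ⟶ f'.obj a))
    (x : AlgSt.Points 𝒳) : AlgSt.Points.map f x = AlgSt.Points.map f' x := by
  obtain ⟨p, rfl⟩ := AlgSt.Points.mk_surjective x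
  rw [AlgSt.Points.map_mk, AlgSt.Points.map_mk]
  apply AlgSt.Points.sound
  obtain ⟨m⟩ := h p.obj
  exact ⟨p.map f, 𝟙 _, m, trivial⟩

theorem map_id (x : AlgSt.Points 𝒳) : AlgSt.Points.map (BasedFunctor.id 𝒳) x = x := by
  obtain ⟨p, rfl⟩ := AlgSt.Points.mk_surjective x
  rfl

theorem map_injective_of_equiv (E : 𝒳 ⥤ᵇ 𝒴) (hE : IsEquivOver E) :
    Function.Injective (AlgSt.Points.map E) := by
  obtain ⟨E', ⟨e1⟩, -⟩ := hE
  intro x x' h
  have h1 := congrArg (AlgSt.Points.map E') h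
  rw [← map_comp, ← map_comp] at h1
  have h2 : ∀ z : AlgSt.Points 𝒳, AlgSt.Points.map (BasedFunctor.comp E E') z = z := by
    intro z
    rw [map_congr (BasedFunctor.comp E E') (BasedFunctor.id 𝒳)
      (fun a => ⟨e1.hom.toNatTrans.app a⟩), map_id]
  rw [h2, h2] at h1
  exact h1

end Groth.Agent.Lib.Helper27.PointsKit
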