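import Groth.Prelude.Def_AlgSt4
import Groth.Agent.Lib.Helper27.FpKit
import Groth.Agent.Lib.Helper27.PointsKit
import Groth.Agent.Lib.Helper16.FpFibGrpd

/-!
# Points of categories fibred in groupoids over schemes (helper27)
-/

set_option autoImplicit false
set_option backward.isDefEq.respectTransparency false
set_option backward.isDefEq.respectTransparency.types false

universe v₄ u₄ v₃ u₃ v₂ u₂ u

open CategoryTheory CategoryTheory.Limits FibCat AlgebraicGeometry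
  Groth.Agent.Lib.Helper27.FpKit Groth.Agent.Lib.Helper16.FpFibGrpd

namespace Groth.Agent.Lib.Helper27.StPoints

variable {S : Scheme.{u}} {𝒳 : BasedCategory.{v₂, u₂} (Over S)}
  {𝒴 : BasedCategory.{v₃, u₃} (Over S)} {𝒵 : BasedCategory.{v₄, u₄} (Over S)}

/-- The morphism of schemes over `S` under a morphism between the objects of two field-valued
points. -/
noncomputable def base {p q : AlgSt.FPt 𝒳} (m : p.obj ⟶ q.obj) : Over.mk p.str ⟶ Over.mk q.str :=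
  eqToHom p.lies.symm ≫ 𝒳.p.map m ≫ eqToHom q.lies

instance base_lift {p q : AlgSt.FPt 𝒳} (m : p.obj ⟶ q.obj) : 𝒳.p.IsHomLift (base m) m :=
  IsHomLift.of_fac _ _ _ p.lies q.lies rfl

theorem rel_refl (p : AlgSt.FPt 𝒳) : AlgSt.FPt.Rel p p := ⟨p, 𝟙 _, 𝟙 _, trivial⟩

theorem rel_symm {p q : AlgSt.FPt 𝒳} (h : AlgSt.FPt.Rel p q) : AlgSt.FPt.Rel q p := by
  obtain ⟨r, a, b, -⟩ := h
  exact ⟨r, b, a, trivial⟩

/-- A morphism to the object of a field-valued point, over a morphism from the spectrum of a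
field, gives a related field-valued point. -/
theorem rel_of_hom {p q : AlgSt.FPt 𝒳} (m : p.obj ⟶ q.obj) : AlgSt.FPt.Rel p q :=
  ⟨p, 𝟙 _, m, trivial⟩

theorem rel_trans (h𝒳 : FibCat.IsFibGrpd 𝒳.p) {p q s : AlgSt.FPt 𝒳} (h₁ : AlgSt.FPt.Rel p q)
    (h₂ : AlgSt.FPt.Rel q s) : AlgSt.FPt.Rel p s := by
  obtain ⟨r, a, b, -⟩ := h₁
  obtain ⟨r', b', c, -⟩ := h₂
  obtain ⟨Ω, _, i₁, i₂, hi⟩ := AlgSp.FieldPt.exists_amalgamation
    (Spec.preimage (base b).left).hom (Spec.preimage (base b').left).hom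
  have hL : Spec.map (CommRingCat.ofHom i₁) ≫ (base b).left =
      Spec.map (CommRingCat.ofHom i₂) ≫ (base b').left := by
    conv_lhs => rw [← Spec.map_preimage (base b).left]
    conv_rhs => rw [← Spec.map_preimage (base b').left]
    rw [← Spec.map_comp, ← Spec.map_comp]
    congr 1
    exact CommRingCat.hom_ext hi
  let w : Spec (CommRingCat.of Ω) ⟶ S := Spec.map (CommRingCat.ofHom i₁) ≫ r.str
  let d₁ : Over.mk w ⟶ Over.mk r.str := Over.homMk (Spec.map (CommRingCat.ofHom i₁)) rfl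
  have e₁ : (base b).left ≫ q.str = r.str := Over.w (base b)
  have e₂ : (base b').left ≫ q.str = r'.str := Over.w (base b')
  have hw : Spec.map (CommRingCat.ofHom i₂) ≫ r'.str = w := by
    change _ = Spec.map (CommRingCat.ofHom i₁) ≫ r.str
    rw [← e₁, ← e₂, ← Category.assoc, ← Category.assoc, hL]
  let d₂ : Over.mk w ⟶ Over.mk r'.str := Over.homMk (Spec.map (CommRingCat.ofHom i₂)) hw
  have hd : d₁ ≫ base b = d₂ ≫ base b' := Over.OverMorphism.ext (by simpa [d₁, d₂] using hL)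
  obtain ⟨t₁, φ₁, hφ₁⟩ := FibGrpd.exists_lift' 𝒳.p h𝒳 r.lies d₁
  obtain ⟨t₂, φ₂, hφ₂⟩ := FibGrpd.exists_lift' 𝒳.p h𝒳 r'.lies d₂
  have : 𝒳.p.IsHomLift (d₂ ≫ base b') (φ₂ ≫ b') := inferInstance
  have := FibGrpd.isStronglyCartesian 𝒳.p h𝒳 (d₂ ≫ base b') (φ₂ ≫ b')
  have : 𝒳.p.IsHomLift (d₁ ≫ base b) (φ₁ ≫ b) := inferInstance
  let χ : t₁ ⟶ t₂ := Functor.IsStronglyCartesian.map 𝒳.p (d₂ ≫ base b') (φ₂ ≫ b')
    (g := 𝟙 _) (f' := d₁ ≫ base b) (by rw [Category.id_comp, hd]) (φ₁ ≫ b)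
  exact ⟨⟨Ω, w, t₁, IsHomLift.domain_eq 𝒳.p d₁ φ₁⟩, φ₁ ≫ a, χ ≫ φ₂ ≫ c, trivial⟩

theorem rel_equivalence (h𝒳 : FibCat.IsFibGrpd 𝒳.p) : Equivalence (AlgSt.FPt.Rel (𝒳 := 𝒳)) :=
  ⟨rel_refl, rel_symm, rel_trans h𝒳⟩

theorem mk_eq_mk_iff (h𝒳 : FibCat.IsFibGrpd 𝒳.p) {p q : AlgSt.FPt 𝒳} :
    AlgSt.Points.mk p = AlgSt.Points.mk q ↔ AlgSt.FPt.Rel p q := by
  constructor
  · intro h
    exact (rel_equivalence h𝒳).eqvGen_iff.1 (Quot.eqvGen_exact h)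
  · exact AlgSt.Points.sound

/-- In a category fibred in groupoids, two morphisms into the same object over the same morphism
have isomorphic sources, vertically. -/
theorem exists_vert_iso (h𝒴 : FibCat.IsFibGrpd 𝒴.p) {R T : Over S} (d : R ⟶ T) {a b c : 𝒴.obj}
    (α : a ⟶ c) (β : b ⟶ c) [𝒴.p.IsHomLift d α] [𝒴.p.IsHomLift d β] :
    ∃ e : a ≅ b, Vert e.hom ∧ e.hom ≫ β = α := by
  have := FibGrpd.isStronglyCartesian 𝒴.p h𝒴 d β
  have hα : 𝒴.p.IsHomLift (𝟙 R ≫ d) α := by rw [Category.id_comp]; infer_instance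
  let χ : a ⟶ b := Functor.IsStronglyCartesian.map 𝒴.p d β (g := 𝟙 R) (f' := 𝟙 R ≫ d) rfl α
  have hχ : 𝒴.p.IsHomLift (𝟙 R) χ :=
    Functor.IsStronglyCartesian.map_isHomLift 𝒴.p d β (g := 𝟙 R) (f' := 𝟙 R ≫ d) rfl α
  have hfac : χ ≫ β = α :=
    Functor.IsStronglyCartesian.fac 𝒴.p d β (g := 𝟙 R) (f' := 𝟙 R ≫ d) rfl α
  have : IsIso χ := FibGrpd.isIso_of_base_isIso 𝒴.p h𝒴 (𝟙 R) χ
  refine ⟨asIso χ, ?_, hfac⟩
  exact Vert.of_lift hχ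

/-- Points of a 2-fibre product surject onto the fibre product of the sets of points. -/
theorem exists_points_fp (h𝒳 : FibCat.IsFibGrpd 𝒳.p) (h𝒴 : FibCat.IsFibGrpd 𝒴.p)
    (h𝒵 : FibCat.IsFibGrpd 𝒵.p) (f : 𝒳 ⥤ᵇ 𝒴) (g : 𝒵 ⥤ᵇ 𝒴) (z : AlgSt.Points 𝒵)
    (x : AlgSt.Points 𝒳) (h : AlgSt.Points.map g z = AlgSt.Points.map f x) :
    ∃ w : AlgSt.Points (fp g f),
      AlgSt.Points.map (fpFst g f) w = z ∧ AlgSt.Points.map (fpSnd g f) w = x := by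
  obtain ⟨p, rfl⟩ := AlgSt.Points.mk_surjective z
  obtain ⟨q, rfl⟩ := AlgSt.Points.mk_surjective x
  rw [AlgSt.Points.map_mk, AlgSt.Points.map_mk, mk_eq_mk_iff h𝒴] at h
  obtain ⟨r, a, b, -⟩ := h
  obtain ⟨da, hda⟩ : ∃ da : Over.mk r.str ⟶ Over.mk p.str,
    da = base (p := r) (q := p.map g) a := ⟨_, rfl⟩
  obtain ⟨db, hdb⟩ : ∃ db : Over.mk r.str ⟶ Over.mk q.str,
    db = base (p := r) (q := q.map f) b := ⟨_, rfl⟩
  have ha : 𝒴.p.IsHomLift da a := by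
    rw [hda]
    exact base_lift (p := r) (q := p.map g) a
  have hb : 𝒴.p.IsHomLift db b := by
    rw [hdb]
    exact base_lift (p := r) (q := q.map f) b
  obtain ⟨p', φ, hφ⟩ := FibGrpd.exists_lift' 𝒵.p h𝒵 p.lies da
  obtain ⟨q', ψ, hψ⟩ := FibGrpd.exists_lift' 𝒳.p h𝒳 q.lies db
  have h1 : 𝒴.p.IsHomLift da (g.map φ) := inferInstance
  have h2 : 𝒴.p.IsHomLift db (f.map ψ) := inferInstance
  obtain ⟨e₁, he₁, -⟩ := exists_vert_iso h𝒴 da a (g.map φ)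
  obtain ⟨e₂, he₂, -⟩ := exists_vert_iso h𝒴 db b (f.map ψ)
  have hp' : 𝒵.p.obj p' = Over.mk r.str := IsHomLift.domain_eq 𝒵.p da φ
  let t : (fp g f).obj := mkObj p' q' (e₁.symm ≪≫ e₂) (Vert.comp (Vert.inv he₁) he₂)
  let w : AlgSt.FPt (fp g f) := ⟨r.K, r.str, t, hp'⟩
  refine ⟨AlgSt.Points.mk w, ?_, ?_⟩
  · rw [AlgSt.Points.map_mk]
    exact AlgSt.Points.sound (rel_of_hom (p := w.map (fpFst g f)) (q := p) φ)
  · rw [AlgSt.Points.map_mk]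
    exact AlgSt.Points.sound (rel_of_hom (p := w.map (fpSnd g f)) (q := q) ψ)

theorem isSurjective_fpFst (h𝒳 : FibCat.IsFibGrpd 𝒳.p) (h𝒴 : FibCat.IsFibGrpd 𝒴.p)
    (h𝒵 : FibCat.IsFibGrpd 𝒵.p) (f : 𝒳 ⥤ᵇ 𝒴) (g : 𝒵 ⥤ᵇ 𝒴) (hf : AlgSt.IsSurjective f) :
    AlgSt.IsSurjective (fpFst g f) := by
  intro z
  obtain ⟨x, hx⟩ := hf (AlgSt.Points.map g z)
  obtain ⟨w, hw, -⟩ := exists_points_fp h𝒳 h𝒴 h𝒵 f g z x hx.symm
  exact ⟨w, hw⟩

theorem map_surjective_of_equiv (E : 𝒳 ⥤ᵇ 𝒴) (hE : IsEquivOver E) :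
    Function.Surjective (AlgSt.Points.map E) := by
  obtain ⟨E', -, ⟨e2⟩⟩ := hE
  intro y
  refine ⟨AlgSt.Points.map E' y, ?_⟩
  rw [← Groth.Agent.Lib.Helper27.PointsKit.map_comp,
    Groth.Agent.Lib.Helper27.PointsKit.map_congr (BasedFunctor.comp E' E) (BasedFunctor.id 𝒴)
      (fun a => ⟨e2.hom.toNatTrans.app a⟩), Groth.Agent.Lib.Helper27.PointsKit.map_id]

theorem map_bijective_of_equiv (E : 𝒳 ⥤ᵇ 𝒴) (hE : IsEquivOver E) :
    Function.Bijective (AlgSt.Points.map E) :=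
  ⟨Groth.Agent.Lib.Helper27.PointsKit.map_injective_of_equiv E hE, map_surjective_of_equiv E hE⟩

end Groth.Agent.Lib.Helper27.StPoints
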