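import Groth.Prelude.Def_StGerb
import Groth.Agent.Lib.Helper27.MonoFF
import Groth.Agent.Lib.Helper27.GerbAux
import Groth.Agent.Lib.Helper27.GerbLoc
import Groth.Agent.Lib.Helper27.DescentFam
import Groth.Agent.Lib.Helper27.StPoints

/-!
# Sections of gerbes are locally essentially surjective (helper27)
-/

set_option autoImplicit false
set_option backward.isDefEq.respectTransparency false
set_option backward.isDefEq.respectTransparency.types false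

universe v₄ u₄ v₃ u₃ v₂ u₂ v u

open CategoryTheory CategoryTheory.Limits FibCat AlgebraicGeometry Opposite
  Groth.Agent.Lib.Helper27.FpKit Groth.Agent.Lib.Helper27.DescentKit

namespace Groth.Agent.Lib.Helper27.GerbSecA

section Site

variable {C : Type u} [Category.{v} C] {𝒴 : BasedCategory.{v₃, u₃} C}

/-- 2-Yoneda: functors from a slice with vertically isomorphic values at the identity are
isomorphic. -/
theorem nonempty_iso_of_vert_at_id (h𝒴 : FibCat.IsFibGrpd 𝒴.p) {V : C} (H H' : overCat V ⥤ᵇ 𝒴)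
    (φ : H.obj (Over.mk (𝟙 V)) ⟶ H'.obj (Over.mk (𝟙 V))) (hφ : 𝒴.p.IsHomLift (𝟙 V) φ) :
    Nonempty (H ≅ H') := by
  have := Groth.Agent.Lib.Helper27.TwoYoneda.evalAtId_full h𝒴 V
  have := Groth.Agent.Lib.Helper27.TwoYoneda.evalAtId_faithful h𝒴 V
  have : IsIso φ := FG.isIso h𝒴 φ hφ
  let m : (evalAtId 𝒴 V).obj H ⟶ (evalAtId 𝒴 V).obj H' := ⟨φ, hφ⟩
  have hinv : 𝒴.p.IsHomLift (𝟙 V) (inv φ) := by
    have := hφ
    have h1 : 𝒴.p.IsHomLift (inv (𝟙 V)) (inv φ) := inferInstance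
    simpa using h1
  let m' : (evalAtId 𝒴 V).obj H' ⟶ (evalAtId 𝒴 V).obj H := ⟨inv φ, hinv⟩
  have hm : IsIso m := ⟨m', by apply Subtype.ext; exact IsIso.hom_inv_id φ,
    by apply Subtype.ext; exact IsIso.inv_hom_id φ⟩
  exact ⟨(evalAtId 𝒴 V).preimageIso (asIso m)⟩

end Site

section Sch

variable {S : Scheme.{u}} {𝒴 : BasedCategory.{v₃, u₃} (Over S)}
  {𝒵 : BasedCategory.{v₂, u₂} (Over S)} (J : GrothendieckTopology (Over S))

/-- Functor form of local essential surjectivity on objects. -/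
theorem exists_lifts_of_locSurjObj (h𝒵 : FibCat.IsFibGrpd 𝒵.p) (h𝒴 : FibCat.IsFibGrpd 𝒴.p)
    (g : 𝒵 ⥤ᵇ 𝒴) (hg : Gerb.LocSurjObj J g) (U : Over S) (y : overCat U ⥤ᵇ 𝒴) :
    ∃ R ∈ J U, ∀ ⦃V : Over S⦄ (h : V ⟶ U), R.arrows h →
      ∃ z : overCat V ⥤ᵇ 𝒵,
        Nonempty (BasedFunctor.comp z g ≅ BasedFunctor.comp (AlgSt.overMap h) y) := by
  let η := y.obj (Over.mk (𝟙 U))
  have hη : 𝒴.p.obj η = U := y.w_obj _
  obtain ⟨R, hR, H⟩ := Groth.Agent.Lib.Helper27.GerbAux.LocSurjObj.exists' J hg η hη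
  refine ⟨R, hR, ?_⟩
  intro V h hh
  obtain ⟨x, m, hm⟩ := H h hh
  have hx : 𝒵.p.obj x = V := by
    have h1 : 𝒴.p.obj (g.obj x) = V := IsHomLift.domain_eq 𝒴.p h m
    exact (g.w_obj x).symm.trans h1
  let z : overCat V ⥤ᵇ 𝒵 := cleave h𝒵 x hx
  refine ⟨z, ?_⟩
  -- the canonical morphism `y (h) ⟶ y (𝟙)`
  let t : (Over.mk h : Over U) ⟶ Over.mk (𝟙 U) := Over.homMk h
  have ht0 : (overCat U).p.IsHomLift h t := IsHomLift.map (overCat U).p t
  have ht : 𝒴.p.IsHomLift h (y.map t) := BasedFunctor.preserves_isHomLift y h t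
  -- `g (z (𝟙)) ⟶ g x ⟶ η` over `h`
  have hpb : 𝒵.p.IsHomLift (𝟙 V) (pbHom h𝒵 x hx (Over.mk (𝟙 V))) :=
    pbHom_isHomLift h𝒵 x hx (Over.mk (𝟙 V))
  have hpb' : 𝒴.p.IsHomLift (𝟙 V) (g.map (pbHom h𝒵 x hx (Over.mk (𝟙 V)))) :=
    BasedFunctor.preserves_isHomLift g (𝟙 V) _
  have hcomp : 𝒴.p.IsHomLift h (g.map (pbHom h𝒵 x hx (Over.mk (𝟙 V))) ≫ m) := by
    have := IsHomLift.comp 𝒴.p (𝟙 V) h (g.map (pbHom h𝒵 x hx (Over.mk (𝟙 V)))) m
    rwa [Category.id_comp] at this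
  refine nonempty_iso_of_vert_at_id h𝒴 _ _
    (FG.lift h𝒴 h (y.map t) ht (𝟙 V) (Category.id_comp _).symm
      (g.map (pbHom h𝒵 x hx (Over.mk (𝟙 V))) ≫ m) hcomp) ?_
  exact FG.lift_isHomLift h𝒴 h (y.map t) ht (𝟙 V) (Category.id_comp _).symm _ hcomp

/-- Local essential surjectivity for the fppf topology implies surjectivity on points. -/
theorem isSurjective_of_locSurjObj (x : 𝒵 ⥤ᵇ 𝒴) (hx : Gerb.LocSurjObj (AlgSp.J S) x) :
    AlgSt.IsSurjective x := by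
  intro y
  obtain ⟨q, rfl⟩ := AlgSt.Points.mk_surjective y
  obtain ⟨R, hR, H⟩ := Groth.Agent.Lib.Helper27.GerbAux.LocSurjObj.exists' _ hx q.obj q.lies
  have hne : Nonempty ↥(Over.mk q.str).left :=
    inferInstanceAs (Nonempty (PrimeSpectrum q.K))
  obtain ⟨t⟩ := hne
  obtain ⟨T', g, hRg, -, -, v, -⟩ :=
    Groth.Agent.Lib.Helper27.DescentFam.exists_fppf_mem_sieve R hR t
  let j : Over.mk (T'.left.fromSpecResidueField v ≫ T'.hom) ⟶ T' :=
    Over.homMk (T'.left.fromSpecResidueField v) rfl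
  have hRj : R (j ≫ g) := R.downward_closed hRg j
  obtain ⟨u, m, hm⟩ := H (j ≫ g) hRj
  have hu : 𝒵.p.obj u = Over.mk (T'.left.fromSpecResidueField v ≫ T'.hom) := by
    have h1 : 𝒴.p.obj (x.obj u) = _ := IsHomLift.domain_eq 𝒴.p (j ≫ g) m
    exact (x.w_obj u).symm.trans h1
  let q' : AlgSt.FPt 𝒵 :=
    { K := ↥(T'.left.residueField v)
      str := T'.left.fromSpecResidueField v ≫ T'.hom
      obj := u
      lies := hu }
  refine ⟨AlgSt.Points.mk q', ?_⟩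
  rw [AlgSt.Points.map_mk]
  exact AlgSt.Points.sound (Groth.Agent.Lib.Helper27.StPoints.rel_of_hom (p := q'.map x) (q := q) m)

end Sch

section Section

variable {C : Type u} [Category.{v} C] {𝒵 : BasedCategory.{v₂, u₂} C}
  {𝒰 : BasedCategory.{v₃, u₃} C} (J : GrothendieckTopology C)

/-- A section of a functor whose morphisms lift locally is locally essentially surjective. -/
theorem locSurjObj_section (h𝒵 : FibCat.IsFibGrpd 𝒵.p) (π : 𝒵 ⥤ᵇ 𝒰) (hπ : Gerb.LocSurjHom J π)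
    (x : 𝒰 ⥤ᵇ 𝒵) (e : BasedFunctor.comp x π ≅ BasedFunctor.id 𝒰) : Gerb.LocSurjObj J x := by
  intro y
  let b : π.obj y ⟶ π.obj (x.obj (π.obj y)) := e.inv.toNatTrans.app (π.obj y)
  have hb0 : Vert b := Vert.app e.inv (π.obj y)
  have hb : 𝒰.p.IsHomLift (𝟙 (𝒵.p.obj y)) b := hb0.lift (π.w_obj y)
  obtain ⟨R, hR, H⟩ := hπ y (x.obj (π.obj y)) b hb
  refine ⟨R, hR, ?_⟩
  intro V f hf
  obtain ⟨y₀, φ, ψ, hφ, hψ, -⟩ := H f hf
  have hxφ : 𝒵.p.IsHomLift f (x.map (π.map φ)) := by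
    have h1 : 𝒰.p.IsHomLift f (π.map φ) := BasedFunctor.preserves_isHomLift π f φ
    exact BasedFunctor.preserves_isHomLift x f (π.map φ)
  refine ⟨π.obj y₀, FG.lift h𝒵 f ψ hψ (𝟙 V) (Category.id_comp _).symm (x.map (π.map φ)) hxφ ≫ φ, ?_⟩
  have h2 := FG.lift_isHomLift h𝒵 f ψ hψ (𝟙 V) (Category.id_comp _).symm (x.map (π.map φ)) hxφ
  exact Groth.Agent.Lib.Helper27.GerbLoc.isHomLift_vert_comp (Vert.of_lift h2) f φ hφ

end Section

end Groth.Agent.Lib.Helper27.GerbSecA
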