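import Groth.Agent.Lib.Helper27.GerbRetB
import Groth.Agent.Lib.Helper27.RepChart
import Groth.Agent.Lib.Helper27.LocQComp

/-!
# Retracts of functors representable with a property (helper27)
-/

set_option autoImplicit false
set_option backward.isDefEq.respectTransparency false
set_option backward.isDefEq.respectTransparency.types false

universe v₄ u₄ v₃ u₃ v₂ u₂ u

open CategoryTheory CategoryTheory.Limits AlgebraicGeometry Opposite FibCat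
  Groth.Agent.Lib.Helper27.FpKit Groth.Agent.Lib.Helper27.PshKit Groth.Agent.Lib.Helper27.PshFp
  Groth.Agent.Lib.Helper27.PshRep Groth.Agent.Lib.Helper27.RepWithComp
  Groth.Agent.Lib.Helper27.Descent Groth.Agent.Lib.Helper27.LocQChart
  Groth.Agent.Lib.Helper27.LocQSpace Groth.Agent.Lib.Helper27.LocQOver

namespace Groth.Agent.Lib.Helper27.GerbSecB

variable {S : Scheme.{u}}

open Stk

local infixr:80 " ⊚ " => BasedFunctor.comp

/-- The structure map of any presentation of a functor to a slice which is representable with a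
property has this property. -/
theorem prop_of_slice (P : MorphismProperty (AlgSp.Sp S)) (H : CompHyp P)
    {𝒲 : AlgSt.Cat S} {T : Over S} (Φ : 𝒲 ⥤ᵇ overCat T) (F : AlgSp.Space S)
    (e : AlgSt.ofSp F.obj ⥤ᵇ 𝒲) (he : IsEquivOver e) (h : AlgSt.RepByAlgSpWith P Φ) :
    P (AlgSt.spMapOfOver (e ⊚ Φ)) := by
  have h2 : AlgSt.RepByAlgSpWith P (e ⊚ Φ) := repByAlgSpWith_equiv_comp P e he _ h
  have h3 := Groth.Agent.Lib.Helper27.LocQComp.prop_structMap P H F.property (e ⊚ Φ) h2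
  have h4 : AlgSt.spMapOfOver (e ⊚ Φ) =
      (ObjectProperty.homMk (pshMapOf ((e ⊚ Φ) ⊚ AlgSt.ofOverCat T)) :
        F.obj ⟶ (AlgSp.yon S).obj T) := by
    apply ObjectProperty.hom_ext
    exact spMapOfOver_eq _
  rw [h4]
  exact h3

/-- The retract argument for functors between categories representable by algebraic spaces. -/
theorem retract_core (P : MorphismProperty (AlgSp.Sp S)) (H : CompHyp P)
    (hPb : ∀ ⦃X₁ Y₁ X₂ Y₂ : AlgSp.Sp S⦄, AlgSp.IsAlgSpace X₁ → AlgSp.IsAlgSpace Y₁ →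
      AlgSp.IsAlgSpace X₂ → AlgSp.IsAlgSpace Y₂ → ∀ (a : X₁ ⟶ Y₁) (b : Y₂ ⟶ Y₁) (a' : X₂ ⟶ Y₂)
      (b' : X₂ ⟶ X₁), IsPullback b' a' a b → P a → P a')
    (hret : ∀ {X Y B : AlgSp.Sp S}, AlgSp.IsAlgSpace X → AlgSp.IsAlgSpace Y → AlgSp.IsAlgSpace B →
      ∀ (f : X ⟶ B) (r : Y ⟶ X) (i : X ⟶ Y), i ≫ r = 𝟙 X → P (r ≫ f) → P f)
    {𝒳 𝒴 : AlgSt.Cat S} (hX : AlgSt.RepByAlgSp 𝒳) (hY : AlgSt.RepByAlgSp 𝒴) {B : Over S}
    (f : 𝒳 ⥤ᵇ overCat B) (r : 𝒴 ⥤ᵇ 𝒳) (i : 𝒳 ⥤ᵇ 𝒴) (ε : i ⊚ r ≅ BasedFunctor.id 𝒳)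
    (h : AlgSt.RepByAlgSpWith P (r ⊚ f)) : AlgSt.RepByAlgSpWith P f := by
  obtain ⟨FX, eX, heX⟩ := hX
  obtain ⟨FY, eY, heY⟩ := hY
  obtain ⟨eX', heX', ⟨ηX⟩, ⟨εX⟩⟩ := exists_inverse eX heX
  obtain ⟨eY', heY', ⟨ηY⟩, ⟨εY⟩⟩ := exists_inverse eY heY
  refine Groth.Agent.Lib.Helper27.RepChart.repByAlgSpWith_of_struct P hPb f FX eX heX ?_
  let r' : FY.obj ⟶ FX.obj := ObjectProperty.homMk (pshMapOf ((eY ⊚ r) ⊚ eX'))
  let i' : FX.obj ⟶ FY.obj := ObjectProperty.homMk (pshMapOf ((eX ⊚ i) ⊚ eY'))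
  refine hret FX.property FY.property (AlgSp.IsAlgSpace.yon_obj B) _ r' i' ?_ ?_
  · apply ObjectProperty.hom_ext
    change pshMapOf ((eX ⊚ i) ⊚ eY') ≫ pshMapOf ((eY ⊚ r) ⊚ eX') = 𝟙 _
    rw [← pshMapOf_comp, ← pshMapOf_id]
    apply pshMapOf_congr
    intro a
    refine ⟨eX'.toFunctor.map (r.toFunctor.map (εY.hom.toNatTrans.app (i.obj (eX.obj a)))) ≫
      eX'.toFunctor.map (ε.hom.toNatTrans.app (eX.obj a)) ≫ ηX.hom.toNatTrans.app a, ?_⟩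
    exact Vert.comp (((Vert.app εY.hom _).map r).map eX')
      (Vert.comp ((Vert.app ε.hom _).map eX') (Vert.app ηX.hom a))
  · have h1 : (r' ≫ AlgSt.spMapOfOver (eX ⊚ f) : FY.obj ⟶ (AlgSp.yon S).obj B) =
        AlgSt.spMapOfOver (eY ⊚ (r ⊚ f)) := by
      change (ObjectProperty.homMk (pshMapOf ((eY ⊚ r) ⊚ eX')) : FY.obj ⟶ FX.obj) ≫ _ = _
      rw [← spMapOfOver_comp]
      apply Groth.Agent.Lib.Helper27.RepWithKit.spMapOfOver_congr
      intro a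
      exact ⟨f.toFunctor.map (εX.hom.toNatTrans.app (r.obj (eY.obj a))),
        (Vert.app εX.hom _).map f⟩
    rw [h1]
    exact prop_of_slice P H (r ⊚ f) FY eY heY h

end Groth.Agent.Lib.Helper27.GerbSecB
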