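import Groth.Agent.Lib.Helper27.GerbSecB
import Groth.Agent.Lib.Helper27.FpSwap
import Groth.Agent.Lib.Helper27.LocQSmoothOpen
import Groth.Agent.Lib.Helper27.GerbLoc

/-!
# The swap retraction for base changes of a map to the base (helper27)
-/

set_option autoImplicit false
set_option backward.isDefEq.respectTransparency false
set_option backward.isDefEq.respectTransparency.types false

universe v₄ u₄ v₃ u₃ v₂ u₂ u

open CategoryTheory CategoryTheory.Limits AlgebraicGeometry Opposite FibCat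
  Groth.Agent.Lib.Helper27.FpKit Groth.Agent.Lib.Helper27.PshKit Groth.Agent.Lib.Helper27.PshFp
  Groth.Agent.Lib.Helper27.PshRep Groth.Agent.Lib.Helper27.RepWithComp
  Groth.Agent.Lib.Helper27.Descent Groth.Agent.Lib.Helper27.LocQChart
  Groth.Agent.Lib.Helper27.LocQSpace Groth.Agent.Lib.Helper27.LocQOver

namespace Groth.Agent.Lib.Helper27.GerbSecC

variable {S : Scheme.{u}}

open Stk

local infixr:80 " ⊚ " => BasedFunctor.comp

section Swap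

variable {𝒰 𝒢 : AlgSt.Cat S} (γ : 𝒢 ⥤ᵇ 𝒰) {B : Over S} (g : overCat B ⥤ᵇ 𝒰)

/-- the section `x ↦ (x, f x)` -/
def secI : fp g γ ⥤ᵇ fp (fpFst g γ ⊚ g) g :=
  fpLift (BasedFunctor.id _) (fpFst g γ) (Iso.refl _)

/-- the swap `(b, γ, b') ↦ (b', γ)` -/
def swapR : fp (fpFst g γ ⊚ g) g ⥤ᵇ fp g γ :=
  fpLift (fpSnd (fpFst g γ ⊚ g) g) (fpFst (fpFst g γ ⊚ g) g ⊚ fpSnd g γ)
    ((fpIso (fpFst g γ ⊚ g) g).symm ≪≫
      Groth.Agent.Lib.Helper27.GerbLoc.whiskerLeftIso (fpFst (fpFst g γ ⊚ g) g) (fpIso g γ))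

theorem swapR_fst : swapR γ g ⊚ fpFst g γ = fpSnd (fpFst g γ ⊚ g) g := rfl

def secI_swapR : secI γ g ⊚ swapR γ g ≅ BasedFunctor.id _ :=
  BasedNatIso.mkNatIso
    (NatIso.ofComponents
      (fun t => mkIso (t := (secI γ g ⊚ swapR γ g).obj t) (t' := t) (Iso.refl _) (Iso.refl _) (by
        change g.toFunctor.map (𝟙 _) ≫ t.obj.iso.hom =
          (𝟙 _ ≫ t.obj.iso.hom) ≫ γ.toFunctor.map (𝟙 _)
        rw [g.toFunctor.map_id, γ.toFunctor.map_id, Category.id_comp]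
        exact (Category.comp_id _).symm))
      (fun {t t'} m => by
        apply Groth.Agent.Lib.Helper27.StackFp.hom_ext'
        · change (fpFst g γ).toFunctor.map m ≫ 𝟙 _ = 𝟙 _ ≫ (fpFst g γ).toFunctor.map m
          rw [Category.comp_id, Category.id_comp]
        · change (fpSnd g γ).toFunctor.map m ≫ 𝟙 _ = 𝟙 _ ≫ (fpSnd g γ).toFunctor.map m
          rw [Category.comp_id, Category.id_comp]))
    (fun t => by
      have : Vert (mkIso (t := (secI γ g ⊚ swapR γ g).obj t) (t' := t) (Iso.refl _) (Iso.refl _)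
          (by
            change g.toFunctor.map (𝟙 _) ≫ t.obj.iso.hom =
              (𝟙 _ ≫ t.obj.iso.hom) ≫ γ.toFunctor.map (𝟙 _)
            rw [g.toFunctor.map_id, γ.toFunctor.map_id, Category.id_comp]
            exact (Category.comp_id _).symm)).hom := by
        rw [vert_hom_iff]
        exact Vert.id _
      exact this.lift ((secI γ g ⊚ swapR γ g).w_obj t))

/-- If the composite `B ×_𝒰 𝒢 ⟶ B ⟶ 𝒰` has `P` then so has `B ×_𝒰 𝒢 ⟶ B`. -/
theorem repByAlgSpWith_fpFst_of_comp (P : MorphismProperty (AlgSp.Sp S)) (H : CompHyp P)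
    (hPb : ∀ ⦃X₁ Y₁ X₂ Y₂ : AlgSp.Sp S⦄, AlgSp.IsAlgSpace X₁ → AlgSp.IsAlgSpace Y₁ →
      AlgSp.IsAlgSpace X₂ → AlgSp.IsAlgSpace Y₂ → ∀ (a : X₁ ⟶ Y₁) (b : Y₂ ⟶ Y₁) (a' : X₂ ⟶ Y₂)
      (b' : X₂ ⟶ X₁), IsPullback b' a' a b → P a → P a')
    (hret : ∀ {X Y B : AlgSp.Sp S}, AlgSp.IsAlgSpace X → AlgSp.IsAlgSpace Y → AlgSp.IsAlgSpace B →
      ∀ (f : X ⟶ B) (r : Y ⟶ X) (i : X ⟶ Y), i ≫ r = 𝟙 X → P (r ≫ f) → P f)
    (hX : AlgSt.RepByAlgSp (fp g γ)) (hY : AlgSt.RepByAlgSp (fp (fpFst g γ ⊚ g) g))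
    (h : AlgSt.RepByAlgSpWith P (fpFst g γ ⊚ g)) : AlgSt.RepByAlgSpWith P (fpFst g γ) :=
  Groth.Agent.Lib.Helper27.GerbSecB.retract_core P H hPb hret hX hY (fpFst g γ) (swapR γ g)
    (secI γ g) (secI_swapR γ g)
    (Groth.Agent.Lib.Helper27.FpSwap.repByAlgSpWith_fpSnd P g (fpFst g γ ⊚ g) h)

end Swap

end Groth.Agent.Lib.Helper27.GerbSecC
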