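import Groth.Agent.Lib.Helper27.GerbSecA
import Groth.Agent.Lib.Helper27.GerbSecC
import Groth.Agent.Lib.Helper27.FieldPt2
import Groth.Agent.Lib.Helper27.DiagIff
import Groth.Agent.Lib.Helper27.FppfLift
import Groth.Agent.Lib.Helper27.LocQRep

/-!
# A section of a gerbe is flat and locally of finite presentation (helper27)
-/

set_option autoImplicit false
set_option backward.isDefEq.respectTransparency false
set_option backward.isDefEq.respectTransparency.types false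

universe u

open CategoryTheory CategoryTheory.Limits AlgebraicGeometry Opposite FibCat
  Groth.Agent.Lib.Helper27.FpKit Groth.Agent.Lib.Helper27.PshKit Groth.Agent.Lib.Helper27.PshFp
  Groth.Agent.Lib.Helper27.PshRep Groth.Agent.Lib.Helper27.RepWithComp
  Groth.Agent.Lib.Helper27.Descent Groth.Agent.Lib.Helper27.LocQChart
  Groth.Agent.Lib.Helper27.LocQSpace Groth.Agent.Lib.Helper27.LocQOver
  Groth.Agent.Lib.Helper27.SmLocP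

namespace Groth.Agent.Lib.Helper27.GerbSecD

variable {S : Scheme.{u}}

open Stk

local infixr:80 " ⊚ " => BasedFunctor.comp

section Theta

variable {𝒵 𝒰 : AlgSt.Cat S} (π : 𝒵 ⥤ᵇ 𝒰) (x : 𝒰 ⥤ᵇ 𝒵) (e : x ⊚ π ≅ BasedFunctor.id 𝒰)

/-- The two projections of `𝒰 ×_𝒵 𝒰` agree when `x` is a section of `π`. -/
def theta : fpFst x x ≅ fpSnd x x :=
  Groth.Agent.Lib.Helper27.GerbLoc.whiskerLeftIso (fpFst x x) e.symm ≪≫
    Groth.Agent.Lib.Helper27.GerbLoc.whiskerRightIso (fpIso x x) π ≪≫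
    Groth.Agent.Lib.Helper27.GerbLoc.whiskerLeftIso (fpSnd x x) e

variable {T : Over S} (u : overCat T ⥤ᵇ 𝒰)

/-- `T ×_𝒰 (𝒰 ×_𝒵 𝒰) ⟶ T ⟶ 𝒰` is the second projection of `T ×_𝒵 𝒰`. -/
def compIso : fpFst u (fpFst x x) ⊚ u ≅ pasteL x x u ⊚ fpSnd (u ⊚ x) x :=
  fpIso u (fpFst x x) ≪≫
    Groth.Agent.Lib.Helper27.GerbLoc.whiskerLeftIso (fpSnd u (fpFst x x)) (theta π x e)

end Theta

section Chart

variable {Q : MorphismProperty Scheme.{u}} (hQ : IsSmLocal Q)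
  (hret : ∀ {X Y B : AlgSp.Sp S}, AlgSp.IsAlgSpace X → AlgSp.IsAlgSpace Y → AlgSp.IsAlgSpace B →
    ∀ (f : X ⟶ B) (r : Y ⟶ X) (i : X ⟶ Y), i ≫ r = 𝟙 X → AlgSp.LocP Q (r ≫ f) → AlgSp.LocP Q f)
  {𝒵 𝒰 : AlgSt.Cat S} (h𝒵 : FibCat.IsFibGrpd 𝒵.p) (h𝒰 : FibCat.IsFibGrpd 𝒰.p)
  (h𝒰r : AlgSt.RepByAlgSp 𝒰) (π : 𝒵 ⥤ᵇ 𝒰) (x : 𝒰 ⥤ᵇ 𝒵) (e : x ⊚ π ≅ BasedFunctor.id 𝒰)
  (hx1 : AlgSt.RepByAlgSp1 x)

include hQ hret h𝒵 h𝒰 h𝒰r π e hx1

/-- On a chart `u` of the base with `u ⊚ x` having the property, the base change of the section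
has the property. -/
theorem prop_chart {T : Over S} (u : overCat T ⥤ᵇ 𝒰)
    (hz : AlgSt.RepByAlgSpWith (AlgSp.LocP Q) (u ⊚ x)) :
    ∃ (X'' : AlgSp.Space S) (e'' : AlgSt.ofSp X''.obj ⥤ᵇ fp (u ⊚ x) x), IsEquivOver e'' ∧
      AlgSp.LocP Q (AlgSt.spMapOfOver (e'' ⊚ fpFst (u ⊚ x) x)) := by
  have hP := isLocalOnBase_fppf_locP (S := S) hQ
  have H : CompHyp (AlgSp.LocP (S := S) Q) :=
    compHyp_of_fppf _ (Groth.Agent.Lib.Helper27.FieldPt.locP_compose hQ) hP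
  have hPb := Groth.Agent.Lib.Helper27.FieldPt.locP_baseChange (S := S) hQ
  have hT := Groth.Agent.Lib.Helper27.ReprAux.isFibGrpd_overCat T
  have hG : FibCat.IsFibGrpd (fp x x).p :=
    Groth.Agent.Lib.Helper27.FpFib.isFibGrpd_fp x x h𝒰 h𝒰 h𝒵
  have hXf : FibCat.IsFibGrpd (fp u (fpFst x x)).p :=
    Groth.Agent.Lib.Helper27.FpFib.isFibGrpd_fp u (fpFst x x) hT hG h𝒰
  have h1 : AlgSt.RepByAlgSpWith (AlgSp.LocP Q) (fpSnd (u ⊚ x) x) :=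
    Groth.Agent.Lib.Helper27.FpSwap.repByAlgSpWith_fpSnd _ x (u ⊚ x) hz
  have h2 : AlgSt.RepByAlgSpWith (AlgSp.LocP Q) (pasteL x x u ⊚ fpSnd (u ⊚ x) x) :=
    repByAlgSpWith_equiv_comp _ (pasteL x x u) (isEquivOver_pasteL x x u) _ h1
  have h3 : AlgSt.RepByAlgSpWith (AlgSp.LocP Q) (fpFst u (fpFst x x) ⊚ u) :=
    repByAlgSpWith_of_iso _ (compIso π x e u).symm h2
  have hX0 : AlgSt.RepByAlgSp (fp (u ⊚ x) x) := hx1 T (u ⊚ x)
  have hX : AlgSt.RepByAlgSp (fp u (fpFst x x)) :=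
    Groth.Agent.Lib.Helper27.DiagIff.repByAlgSp_of_equiv' (pasteL x x u)
      (isEquivOver_pasteL x x u) hX0
  have hu1 : AlgSt.RepByAlgSp1 u :=
    Groth.Agent.Lib.Helper27.PshRepSp.repByAlgSp1_of_repByAlgSp
      (Groth.Agent.Lib.Helper27.FpRepSp2.repByAlgSp_overCat T) h𝒰r u
  have hY : AlgSt.RepByAlgSp (fp (fpFst u (fpFst x x) ⊚ u) u) :=
    Groth.Agent.Lib.Helper27.FpRepSp.repByAlgSp_fp hT h𝒰 hXf u (fpFst u (fpFst x x) ⊚ u) hu1 hX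
  have h4 : AlgSt.RepByAlgSpWith (AlgSp.LocP Q) (fpFst u (fpFst x x)) :=
    Groth.Agent.Lib.Helper27.GerbSecC.repByAlgSpWith_fpFst_of_comp (fpFst x x) u _ H hPb hret
      hX hY h3
  obtain ⟨FX, eX, heX⟩ := hX
  refine ⟨FX, eX ⊚ pasteL x x u, isEquivOver_comp _ _ heX (isEquivOver_pasteL x x u), ?_⟩
  have h5 : AlgSt.spMapOfOver ((eX ⊚ pasteL x x u) ⊚ fpFst (u ⊚ x) x) =
      AlgSt.spMapOfOver (eX ⊚ fpFst u (fpFst x x)) :=
    Groth.Agent.Lib.Helper27.RepWithKit.spMapOfOver_congr _ _ (fun a => ⟨𝟙 _, Vert.id _⟩)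
  rw [h5]
  exact Groth.Agent.Lib.Helper27.GerbSecB.prop_of_slice _ H (fpFst u (fpFst x x)) FX eX heX h4

end Chart

section Main

variable {Q : MorphismProperty Scheme.{u}} (hQ : IsSmLocal Q)
  (hQfppf : ∀ {X Y : Scheme.{u}} (f : X ⟶ Y), Flat f → LocallyOfFinitePresentation f → Q f)
  (hret : ∀ {X Y B : AlgSp.Sp S}, AlgSp.IsAlgSpace X → AlgSp.IsAlgSpace Y → AlgSp.IsAlgSpace B →
    ∀ (f : X ⟶ B) (r : Y ⟶ X) (i : X ⟶ Y), i ≫ r = 𝟙 X → AlgSp.LocP Q (r ≫ f) → AlgSp.LocP Q f)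
  {𝒵 𝒰 : AlgSt.Cat S} (h𝒵 : AlgSt.IsAlgStack Scheme.fppfPrecoverage 𝒵)
  (h𝒰 : FibCat.IsFibGrpd 𝒰.p) (h𝒰r : AlgSt.RepByAlgSp 𝒰) (π : 𝒵 ⥤ᵇ 𝒰)
  (hπ : Gerb.LocSurjHom (AlgSp.J S) π) (x : 𝒰 ⥤ᵇ 𝒵) (e : x ⊚ π ≅ BasedFunctor.id 𝒰)

include h𝒵 h𝒰 h𝒰r in
theorem section_repByAlgSp1 : AlgSt.RepByAlgSp1 x :=
  Groth.Agent.Lib.Helper27.FpRepSp2.repByAlgSp1_from_space h𝒵.isStack.1
    (fun U x' => Groth.Agent.Lib.Helper27.DiagIff.chart_of_diag h𝒵.isStack.1 h𝒵.diag U x')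
    𝒰 h𝒰 h𝒰r x

include hQ hQfppf hret h𝒵 h𝒰 h𝒰r hπ e in
/-- A section of a gerbe over an algebraic space is representable with every fppf-local property
satisfying the retract property. -/
theorem section_repByAlgSpWith : AlgSt.RepByAlgSpWith (AlgSp.LocP Q) x := by
  have h𝒵f := h𝒵.isStack.1
  have hx1 : AlgSt.RepByAlgSp1 x := section_repByAlgSp1 h𝒵 h𝒰 h𝒰r x
  have hP := isLocalOnBase_fppf_locP (S := S) hQ
  have hPb := Groth.Agent.Lib.Helper27.FieldPt.locP_baseChange (S := S) hQ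
  obtain ⟨W, w, hw₁, hw₂⟩ := h𝒵.atlas
  have hWf := Groth.Agent.Lib.Helper27.ReprAux.isFibGrpd_overCat W
  have hwfl : AlgSt.LocQ (AlgSp.LocP @Flat) w :=
    Groth.Agent.Lib.Helper27.LocQRep.locQ_of_repByAlgSpWith _ isSmoothLocalST_locP_flat w w hw₁ hw₂
      (Groth.Agent.Lib.Helper27.FieldPt.repByAlgSpWith_of_smooth isSmLocal_flat w hw₁)
  have hwfp : AlgSt.LocQ (AlgSp.LocP @LocallyOfFinitePresentation) w :=
    Groth.Agent.Lib.Helper27.LocQRep.locQ_of_repByAlgSpWith _ isSmoothLocalST_locP_lfp w w hw₁ hw₂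
      (Groth.Agent.Lib.Helper27.FieldPt.repByAlgSpWith_of_smooth isSmLocal_lfp w hw₁)
  have hws : AlgSt.IsSurjective w :=
    Groth.Agent.Lib.Helper27.StPoints.isSurjective_of_rep hWf h𝒵f w hw₂
  refine Groth.Agent.Lib.Helper27.FppfLift.repByAlgSpWith_of_fppf_lifts _ hP x hx1 w
    (fun U y => Groth.Agent.Lib.Helper27.FppfLift.exists_fppf_lift hWf h𝒵f w hwfl hwfp hws y) ?_
  obtain ⟨F, e0, he0⟩ := hx1 W w
  refine Groth.Agent.Lib.Helper27.RepChart.repByAlgSpWith_of_struct _ hPb (fpFst w x) F e0 he0 ?_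
  have hxs : Gerb.LocSurjObj (AlgSp.J S) x :=
    Groth.Agent.Lib.Helper27.GerbSecA.locSurjObj_section _ h𝒵f π hπ x e
  obtain ⟨R, hR, HR⟩ :=
    Groth.Agent.Lib.Helper27.GerbSecA.exists_lifts_of_locSurjObj _ h𝒰 h𝒵f x hxs W w
  have hex : ∀ t : ↥W.left, ∃ (T : Over S) (h : T ⟶ W), R h ∧ Flat h.left ∧
      LocallyOfFinitePresentation h.left ∧ t ∈ Set.range h.left :=
    Groth.Agent.Lib.Helper27.DescentFam.exists_fppf_mem_sieve R hR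
  choose T h hRh hfl hfp ht using hex
  have hu : ∀ t, ∃ u : overCat (T t) ⥤ᵇ 𝒰, Nonempty (u ⊚ x ≅ AlgSt.overMap (h t) ⊚ w) :=
    fun t => HR (h t) (hRh t)
  choose u κ using hu
  refine Groth.Agent.Lib.Helper27.DescentFam.descent_over_schemes _ hP x w F e0 he0 T h hfl hfp
    (fun t => ⟨t, ht t⟩) (fun t => u t ⊚ x) (fun t => (κ t).some) ?_
  intro t
  have hz : AlgSt.RepByAlgSpWith (AlgSp.LocP Q) (u t ⊚ x) :=
    repByAlgSpWith_of_iso _ (κ t).some.symm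
      (Groth.Agent.Lib.Helper27.FieldPt.repByAlgSpWith_chart_comp hQ (h t)
        (hQfppf _ (hfl t) (hfp t)) w hw₁)
  exact prop_chart hQ hret h𝒵f h𝒰 h𝒰r π x e hx1 (u t) hz

end Main

end Groth.Agent.Lib.Helper27.GerbSecD
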