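import Groth.Agent.Lib.Helper27.GerbSecE
import Groth.Agent.Lib.Helper27.AlgStackFp
import Groth.Agent.Lib.Helper27.LocQDescent
import Groth.Agent.Lib.Helper27.RepWithComp2
import Groth.Agent.Lib.Helper27.DiagLft

/-!
# Sections of gerbes over algebraic stacks: flat, locally of finite presentation, surjective
(helper27)
-/

set_option autoImplicit false
set_option backward.isDefEq.respectTransparency false
set_option backward.isDefEq.respectTransparency.types false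

universe u

open CategoryTheory CategoryTheory.Limits AlgebraicGeometry Opposite FibCat
  Groth.Agent.Lib.Helper27.FpKit Groth.Agent.Lib.Helper27.SmLocP
  Groth.Agent.Lib.Helper27.RepWithComp Groth.Agent.Lib.Helper27.LocQOver

namespace Groth.Agent.Lib.Helper27.GerbSecF

variable {S : Scheme.{u}}

local infixr:80 " ⊚ " => BasedFunctor.comp

section Square

variable {𝒜 ℬ 𝒰 𝒵 : AlgSt.Cat S}

/-- A chart square of the top of a square with smooth legs (the left one surjective) gives one of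
the bottom. -/
theorem locQ_of_square (P : MorphismProperty (AlgSp.Sp S)) (h𝒜 : FibCat.IsFibGrpd 𝒜.p)
    (hℬ : FibCat.IsFibGrpd ℬ.p) (s : 𝒜 ⥤ᵇ ℬ) (x : 𝒰 ⥤ᵇ 𝒵) (u : 𝒜 ⥤ᵇ 𝒰) (v : ℬ ⥤ᵇ 𝒵)
    (ι : s ⊚ v ≅ u ⊚ x) (hu₁ : AlgSt.RepByAlgSpWith (AlgSp.LocP @Smooth) u)
    (hu₂ : AlgSt.RepByAlgSpWith AlgSp.IsSurjectiveMor u)
    (hv : AlgSt.RepByAlgSpWith (AlgSp.LocP @Smooth) v) (hs : AlgSt.LocQ P s) : AlgSt.LocQ P x := by
  obtain ⟨A, B, a, b, h, α, ha₁, ha₂, hb₁, hPh⟩ := hs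
  have hA := Groth.Agent.Lib.Helper27.ReprAux.isFibGrpd_overCat A
  have hB := Groth.Agent.Lib.Helper27.ReprAux.isFibGrpd_overCat B
  refine ⟨A, B, a ⊚ u, b ⊚ v, h, ?_,
    comp_gen _ (compHyp_locP Groth.Agent.Lib.Helper3.isEtLocal_smooth) hA h𝒜 a u ha₁ hu₁,
    comp_gen _ Groth.Agent.Lib.Helper27.DiagLft.compHyp_isSurjectiveMor hA h𝒜 a u ha₂ hu₂,
    comp_gen _ (compHyp_locP Groth.Agent.Lib.Helper3.isEtLocal_smooth) hB hℬ b v hb₁ hv, hPh⟩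
  exact (Groth.Agent.Lib.Helper27.GerbLoc.whiskerLeftIso a ι.symm) ≪≫
    (Groth.Agent.Lib.Helper27.GerbLoc.whiskerRightIso α v)

end Square

section Main

variable {𝒵 𝒰 : AlgSt.Cat S} (h𝒵 : AlgSt.IsAlgStack Scheme.fppfPrecoverage 𝒵)
  (h𝒰 : AlgSt.IsAlgStack Scheme.fppfPrecoverage 𝒰) (π : 𝒵 ⥤ᵇ 𝒰)
  (hπ : Gerb.IsGerbeOver (AlgSp.J S) π) (x : 𝒰 ⥤ᵇ 𝒵) (e : x ⊚ π ≅ BasedFunctor.id 𝒰)

include h𝒵 h𝒰 hπ e

/-- A section of a gerbe between algebraic stacks is surjective, flat and locally of finite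
presentation. -/
theorem section_fppf : AlgSt.IsSurjective x ∧ AlgSt.LocQ (AlgSp.LocP @Flat) x ∧
    AlgSt.LocQ (AlgSp.LocP @LocallyOfFinitePresentation) x := by
  refine ⟨Groth.Agent.Lib.Helper27.GerbSecA.isSurjective_of_locSurjObj x
      (Groth.Agent.Lib.Helper27.GerbSecA.locSurjObj_section _ h𝒵.isStack.1 π hπ.2 x e), ?_⟩
  obtain ⟨U, u, hu₁, hu₂⟩ := h𝒰.atlas
  have hU := Groth.Agent.Lib.Helper27.ReprAux.isFibGrpd_overCat U
  have hUa : AlgSt.IsAlgStack Scheme.fppfPrecoverage (overCat U) :=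
    Groth.Agent.Lib.Helper27.QcStack.isAlgStack_overCat U
  have h𝒵' : AlgSt.IsAlgStack Scheme.fppfPrecoverage (fp u π) :=
    Groth.Agent.Lib.Helper27.AlgStackFp.isAlgStack_fp u π h𝒰.isStack h𝒰.diag hUa h𝒵
  have hπ' : Gerb.IsGerbeOver (AlgSp.J S) (fpFst u π) :=
    Groth.Agent.Lib.Helper27.GerbAux.isGerbeOver_fpFst _ hU h𝒰.isStack.1 π u hπ
  let s : overCat U ⥤ᵇ fp u π := fpLift (BasedFunctor.id _) (u ⊚ x)
    (Groth.Agent.Lib.Helper27.GerbLoc.whiskerLeftIso u e.symm)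
  have es : s ⊚ fpFst u π ≅ BasedFunctor.id (overCat U) := Iso.refl _
  have hUr := Groth.Agent.Lib.Helper27.FpRepSp2.repByAlgSp_overCat U
  have hs1 := Groth.Agent.Lib.Helper27.GerbSecE.section_flat h𝒵' hU hUr (fpFst u π) hπ'.2 s es
  have hs2 := Groth.Agent.Lib.Helper27.GerbSecE.section_lfp h𝒵' hU hUr (fpFst u π) hπ'.2 s es
  obtain ⟨W, w, hw₁, hw₂⟩ := h𝒵'.atlas
  have hs1' : AlgSt.LocQ (AlgSp.LocP @Flat) s :=
    Groth.Agent.Lib.Helper27.LocQRep.locQ_of_repByAlgSpWith _ isSmoothLocalST_locP_flat s w hw₁ hw₂ hs1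
  have hs2' : AlgSt.LocQ (AlgSp.LocP @LocallyOfFinitePresentation) s :=
    Groth.Agent.Lib.Helper27.LocQRep.locQ_of_repByAlgSpWith _ isSmoothLocalST_locP_lfp s w hw₁ hw₂ hs2
  have hv : AlgSt.RepByAlgSpWith (AlgSp.LocP @Smooth) (fpSnd u π) :=
    Groth.Agent.Lib.Helper27.FpSwap.repByAlgSpWith_fpSnd _ π u hu₁
  have ι : s ⊚ fpSnd u π ≅ u ⊚ x := Iso.refl _
  exact ⟨locQ_of_square _ hU h𝒵'.isStack.1 s x u (fpSnd u π) ι hu₁ hu₂ hv hs1',
    locQ_of_square _ hU h𝒵'.isStack.1 s x u (fpSnd u π) ι hu₁ hu₂ hv hs2'⟩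

end Main

end Groth.Agent.Lib.Helper27.GerbSecF
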