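import Groth.Prelude.Def_SGA4a
import Mathlib.CategoryTheory.Sites.Canonical
import Mathlib.CategoryTheory.Sites.EffectiveEpimorphic
import Mathlib.CategoryTheory.Limits.VanKampen

/-!
# Giraud's theorem, part 1: covering families for the canonical topology of a category
-/

set_option autoImplicit false
set_option backward.isDefEq.respectTransparency false
set_option backward.isDefEq.respectTransparency.types false

universe w w' v u

open CategoryTheory CategoryTheory.Limits Opposite

namespace Groth.Agent.Lib.Helper27.Giraud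

variable {E : Type v} [Category.{u} E]

/-- the sheaf condition for a covering family of the canonical topology -/
theorem existsUnique_of_ofArrows_mem {F : Eᵒᵖ ⥤ Type w}
    (hF : Presieve.IsSheaf (Sheaf.canonicalTopology E) F) {B : E} {I : Type w'} (X : I → E)
    (π : ∀ i, X i ⟶ B) (h : Sieve.ofArrows X π ∈ Sheaf.canonicalTopology E B)
    (x : ∀ i, F.obj (op (X i))) (hx : Presieve.Arrows.Compatible F π x) :
    ∃! t, ∀ i, F.map (π i).op t = x i :=
  (Presieve.isSheafFor_arrows_iff F π).1
    ((Presieve.isSheafFor_iff_generate _).2 (hF _ h)) x hx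

/-- the coprojections of a universal coproduct form a covering family of the canonical topology -/
theorem ofArrows_mem_canonical_of_isUniversalColimit [HasPullbacks E] {ι : Type w} {X : ι → E}
    (c : Cofan X) (hc : IsUniversalColimit c) :
    Sieve.ofArrows X c.inj ∈ Sheaf.canonicalTopology E c.pt := by
  apply Sheaf.mem_finestTopology_of_forall_isSheafFor
  rintro P ⟨W, rfl⟩ Y f
  rw [Sieve.ofArrows, ← Sieve.pullbackArrows_comm, ← Presieve.ofArrows_pullback,
    ← Presieve.isSheafFor_iff_generate, Presieve.isSheafFor_arrows_iff]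
  intro x _
  have hc' : IsColimit (Cofan.mk Y (fun i => pullback.snd (c.inj i) f)) :=
    (hc (Cofan.mk Y (fun i => pullback.snd (c.inj i) f))
      (Discrete.natTrans fun i => pullback.fst (c.inj i.as) f) f
      (by
        ext ⟨i⟩
        simp only [NatTrans.comp_app, Discrete.natTrans_app, Cofan.mk_ι_app,
          Functor.const_map_app]
        exact pullback.condition)
      (NatTrans.Equifibered.of_discrete _)
      (fun j => (IsPullback.of_hasPullback (c.inj j.as) f).flip)).some
  exact ⟨Cofan.IsColimit.desc hc' x, fun i => Cofan.IsColimit.fac hc' x i, fun t ht =>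
    Cofan.IsColimit.hom_ext hc' _ _ fun i => (ht i).trans (Cofan.IsColimit.fac hc' x i).symm⟩

/-- `q` is a universally effective epimorphism: it generates a covering sieve of the canonical
topology -/
def UEE {Y X : E} (q : Y ⟶ X) : Prop :=
  Sieve.ofArrows (fun _ : Unit => Y) (fun _ => q) ∈ Sheaf.canonicalTopology E X

theorem ofArrows_unit_eq {Y X : E} (q : Y ⟶ X) :
    Sieve.ofArrows (fun _ : Unit => Y) (fun _ => q) = Sieve.generateSingleton q := by
  ext W k
  rw [Sieve.mem_ofArrows_iff]
  constructor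
  · rintro ⟨_, a, rfl⟩
    exact ⟨a, rfl⟩
  · rintro ⟨a, rfl⟩
    exact ⟨(), a, rfl⟩

theorem uee_of_forall_effectiveEpi [HasPullbacks E] {X B : E} (π : X ⟶ B)
    (h : ∀ (B' : E) (g : B' ⟶ B), EffectiveEpi (pullback.snd π g)) : UEE π := by
  have hS : ∀ (B' : E) (g : B' ⟶ B), (Sieve.generateSingleton π).pullback g =
      Sieve.generateSingleton (pullback.snd π g) := by
    intro B' g
    ext W k
    constructor
    · rintro ⟨e, he⟩
      exact ⟨pullback.lift e k he, pullback.lift_snd _ _ _⟩
    · rintro ⟨e, rfl⟩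
      exact ⟨e ≫ pullback.fst π g, by rw [Category.assoc, Category.assoc, pullback.condition]⟩
  unfold UEE
  rw [ofArrows_unit_eq]
  apply Sheaf.mem_finestTopology_of_forall_isSheafFor
  rintro P ⟨W, rfl⟩ B' g
  rw [hS]
  have h1 := (Sieve.effectiveEpimorphic_singleton (pullback.snd π g)).2 (h B' g)
  change Sieve.EffectiveEpimorphic _ at h1
  rw [Sieve.generateSingleton_eq, Sieve.EffectiveEpimorphic.iff_forall_isSheafFor_yoneda] at h1
  exact h1 W

namespace UEE

variable {Y X : E} {q : Y ⟶ X}

/-- descent of sections of a sheaf for the canonical topology along a universally effective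
epimorphism -/
theorem existsUnique_section (hq : UEE q) {F : Eᵒᵖ ⥤ Type w}
    (hF : Presieve.IsSheaf (Sheaf.canonicalTopology E) F) (y : F.obj (op Y))
    (hy : ∀ (Z : E) (g₁ g₂ : Z ⟶ Y), g₁ ≫ q = g₂ ≫ q → F.map g₁.op y = F.map g₂.op y) :
    ∃! t : F.obj (op X), F.map q.op t = y := by
  obtain ⟨t, ht, hu⟩ := existsUnique_of_ofArrows_mem hF (fun _ : Unit => Y) (fun _ => q) hq
    (fun _ => y) (fun _ _ Z g₁ g₂ h => hy Z g₁ g₂ h)
  exact ⟨t, ht (), fun t' ht' => hu t' fun _ => ht'⟩

theorem map_injective (hq : UEE q) {F : Eᵒᵖ ⥤ Type w}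
    (hF : Presieve.IsSheaf (Sheaf.canonicalTopology E) F) :
    Function.Injective (F.map q.op) := by
  intro a b hab
  have hy : ∀ (Z : E) (g₁ g₂ : Z ⟶ Y), g₁ ≫ q = g₂ ≫ q →
      F.map g₁.op (F.map q.op a) = F.map g₂.op (F.map q.op a) := by
    intro Z g₁ g₂ h
    have e1 : F.map g₁.op (F.map q.op a) = F.map (g₁ ≫ q).op a := by
      rw [op_comp, F.map_comp]; rfl
    have e2 : F.map g₂.op (F.map q.op a) = F.map (g₂ ≫ q).op a := by
      rw [op_comp, F.map_comp]; rfl
    rw [e1, e2, h]
  obtain ⟨t, _, hu⟩ := hq.existsUnique_section hF (F.map q.op a) hy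
  exact (hu a rfl).trans (hu b hab.symm).symm

/-- descent of morphisms along a universally effective epimorphism -/
theorem existsUnique_desc (hq : UEE q) {W : E} (e : Y ⟶ W)
    (he : ∀ (Z : E) (g₁ g₂ : Z ⟶ Y), g₁ ≫ q = g₂ ≫ q → g₁ ≫ e = g₂ ≫ e) :
    ∃! d : X ⟶ W, q ≫ d = e :=
  hq.existsUnique_section (Sheaf.isSheaf_yoneda_obj W) e he

theorem epi (hq : UEE q) : Epi q :=
  ⟨fun {W} a b hab => hq.map_injective (Sheaf.isSheaf_yoneda_obj W) hab⟩

theorem pullback_snd [HasPullbacks E] (hq : UEE q) {X' : E} (g : X' ⟶ X) :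
    UEE (pullback.snd q g) := by
  have := (Sheaf.canonicalTopology E).pullback_stable g hq
  rw [Sieve.ofArrows, ← Sieve.pullbackArrows_comm, ← Presieve.ofArrows_pullback] at this
  exact this

theorem comp_iso (hq : UEE q) {X' : E} (m : X ⟶ X') [IsIso m] : UEE (q ≫ m) := by
  have := (Sheaf.canonicalTopology E).pullback_stable (inv m) hq
  refine (Sheaf.canonicalTopology E).superset_covering ?_ this
  intro W k hk
  rw [Sieve.pullback_apply, Sieve.mem_ofArrows_iff] at hk
  obtain ⟨_, a, ha⟩ := hk
  rw [Sieve.mem_ofArrows_iff]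
  refine ⟨(), a, ?_⟩
  rw [← Category.assoc, ← ha, Category.assoc, IsIso.inv_hom_id, Category.comp_id]

end UEE

end Groth.Agent.Lib.Helper27.Giraud
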