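import Groth.Agent.Lib.Helper27.Giraud1
import Mathlib.CategoryTheory.Sites.DenseSubsite.Basic

/-!
# Giraud's theorem, part 2: images, and the covering of an object by generators
-/

set_option autoImplicit false
set_option backward.isDefEq.respectTransparency false
set_option backward.isDefEq.respectTransparency.types false

universe w w' v u

open CategoryTheory CategoryTheory.Limits Opposite

namespace Groth.Agent.Lib.Helper27.Giraud

variable {E : Type v} [Category.{u} E] [HasFiniteLimits E]

theorem isEquivRel_kernelPair {Y X : E} (f : Y ⟶ X) :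
    SGA4.IsEquivRel (pullback.fst f f) (pullback.snd f f) := by
  intro T
  refine ⟨?_, ?_, ?_, ?_⟩
  · intro g g' h
    simp only [Prod.mk.injEq] at h
    exact pullback.hom_ext h.1 h.2
  · intro a
    exact ⟨pullback.lift a a rfl, pullback.lift_fst _ _ _, pullback.lift_snd _ _ _⟩
  · rintro a b ⟨g, rfl, rfl⟩
    exact ⟨pullback.lift (g ≫ pullback.snd f f) (g ≫ pullback.fst f f)
      (by rw [Category.assoc, Category.assoc, pullback.condition]),
      pullback.lift_fst _ _ _, pullback.lift_snd _ _ _⟩
  · rintro a b c ⟨g, rfl, rfl⟩ ⟨g', hg', rfl⟩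
    refine ⟨pullback.lift (g ≫ pullback.fst f f) (g' ≫ pullback.snd f f) ?_,
      pullback.lift_fst _ _ _, pullback.lift_snd _ _ _⟩
    rw [Category.assoc, Category.assoc, pullback.condition, ← Category.assoc, ← hg',
      Category.assoc, pullback.condition]

variable (hc : ∀ (R A : E) (p₁ p₂ : R ⟶ A), SGA4.IsEquivRel p₁ p₂ →
  SGA4.IsEffectiveUniversalEquivRel p₁ p₂)

include hc in
/-- every morphism factors as a universally effective epimorphism followed by a monomorphism -/
theorem exists_image {Y X : E} (f : Y ⟶ X) :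
    ∃ (B : E) (π : Y ⟶ B) (m : B ⟶ X), π ≫ m = f ∧ Mono m ∧ UEE π := by
  obtain ⟨B, π, hpb, hpo, heff⟩ := hc _ _ _ _ (isEquivRel_kernelPair f)
  have hπ : UEE π := uee_of_forall_effectiveEpi π heff
  refine ⟨B, π, hpo.desc f f pullback.condition, hpo.inl_desc _ _ _, ?_, hπ⟩
  set m := hpo.desc f f pullback.condition with hm
  have hfac : π ≫ m = f := hpo.inl_desc _ _ _
  constructor
  intro T a b hab
  let s₁ := pullback.snd π a
  let a₁ := pullback.fst π a
  have ha₁ : a₁ ≫ π = s₁ ≫ a := pullback.condition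
  let s₂ := pullback.snd π (s₁ ≫ b)
  let b₂ := pullback.fst π (s₁ ≫ b)
  have hb₂ : b₂ ≫ π = s₂ ≫ s₁ ≫ b := pullback.condition
  haveI : Epi s₁ := (hπ.pullback_snd a).epi
  haveI : Epi s₂ := (hπ.pullback_snd (s₁ ≫ b)).epi
  have h1 : (s₂ ≫ a₁) ≫ f = b₂ ≫ f := by
    rw [← hfac, ← Category.assoc, Category.assoc s₂, ha₁, ← Category.assoc b₂, hb₂]
    simp only [Category.assoc]
    rw [hab]
  have h2 : (s₂ ≫ a₁) ≫ π = b₂ ≫ π := by
    let l := pullback.lift (s₂ ≫ a₁) b₂ h1
    have e1 : l ≫ pullback.fst f f = s₂ ≫ a₁ := pullback.lift_fst (s₂ ≫ a₁) b₂ h1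
    have e2 : l ≫ pullback.snd f f = b₂ := pullback.lift_snd (s₂ ≫ a₁) b₂ h1
    calc (s₂ ≫ a₁) ≫ π = (l ≫ pullback.fst f f) ≫ π := by rw [e1]
      _ = (l ≫ pullback.snd f f) ≫ π := by rw [Category.assoc, hpb.w, Category.assoc]
      _ = b₂ ≫ π := by rw [e2]
  rw [Category.assoc, ha₁, hb₂] at h2
  rw [← cancel_epi s₁, ← cancel_epi s₂]
  exact h2

section Generators

variable (hb : SGA4.HasDisjointUniversalCoproducts.{v, u} E)

/-- the chosen coproduct of a small family -/
noncomputable def cof {ι : Type u} (X : ι → E) : Cofan X := (hb ι X).choose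

/-- the chosen coproduct is a coproduct -/
noncomputable def cofIsColimit {ι : Type u} (X : ι → E) : IsColimit (cof hb X) :=
  (hb ι X).choose_spec.choose

include hb in
theorem cof_disjoint {ι : Type u} (X : ι → E) : CoproductDisjoint X :=
  (hb ι X).choose_spec.choose_spec.1

theorem cof_universal {ι : Type u} (X : ι → E) : IsUniversalColimit (cof hb X) :=
  (hb ι X).choose_spec.choose_spec.2

variable {C : Type u} [SmallCategory C] (G : C ⥤ E)

/-- the coproduct of the generators mapping to `X` -/
noncomputable def genCof (X : E) : Cofan (fun k : (Σ c : C, (G.obj c ⟶ X)) => G.obj k.1) :=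
  cof hb _

/-- the canonical morphism from the coproduct of the generators mapping to `X` -/
noncomputable def genCover (X : E) : (genCof hb G X).pt ⟶ X :=
  Cofan.IsColimit.desc (cofIsColimit hb _) (fun k => k.2)

theorem inj_genCover (X : E) (k : Σ c : C, (G.obj c ⟶ X)) :
    (genCof hb G X).inj k ≫ genCover hb G X = k.2 :=
  Cofan.IsColimit.fac (cofIsColimit hb _) _ k

variable (hG : ∀ ⦃X Y : E⦄ (f : X ⟶ Y),
  (∀ (c : C) (h : G.obj c ⟶ Y), ∃! h', h' ≫ f = h) → IsIso f)

include hc hG in
theorem uee_genCover (X : E) : UEE (genCover hb G X) := by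
  obtain ⟨B, π, m, hfac, hmono, hπ⟩ := exists_image hc (genCover hb G X)
  haveI : IsIso m := by
    apply hG
    intro c h
    refine ⟨(genCof hb G X).inj ⟨c, h⟩ ≫ π, ?_, ?_⟩
    · simp only [Category.assoc]
      rw [hfac]
      exact inj_genCover hb G X ⟨c, h⟩
    · intro h' hh'
      rw [← cancel_mono m, hh', Category.assoc, hfac]
      exact (inj_genCover hb G X ⟨c, h⟩).symm
  rw [← hfac]
  exact hπ.comp_iso m

include hc hb hG in
theorem isCoverDense : G.IsCoverDense (Sheaf.canonicalTopology E) where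
  is_cover X := by
    refine (Sheaf.canonicalTopology E).transitive (uee_genCover hc hb G hG X) _ ?_
    intro T h hh
    rw [Sieve.mem_ofArrows_iff] at hh
    obtain ⟨_, a, rfl⟩ := hh
    refine (Sheaf.canonicalTopology E).superset_covering ?_
      ((Sheaf.canonicalTopology E).pullback_stable a
        (ofArrows_mem_canonical_of_isUniversalColimit _ (cof_universal hb _)))
    intro W w hw
    rw [Sieve.pullback_apply, Sieve.mem_ofArrows_iff] at hw
    obtain ⟨k, r, hr⟩ := hw
    refine ⟨⟨k.1, r, k.2, ?_⟩⟩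
    rw [← Category.assoc, hr, Category.assoc]
    exact congrArg (fun z => r ≫ z) (inj_genCover hb G X k).symm

end Generators

end Groth.Agent.Lib.Helper27.Giraud
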