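import Groth.Agent.Lib.Helper27.Giraud2

/-!
# Giraud's theorem, part 3: strict initial object; sections of a canonical sheaf on a coproduct
-/

set_option autoImplicit false
set_option backward.isDefEq.respectTransparency false
set_option backward.isDefEq.respectTransparency.types false

universe w w' v u

open CategoryTheory CategoryTheory.Limits Opposite

namespace Groth.Agent.Lib.Helper27.Giraud

variable {E : Type v} [Category.{u} E]

section

variable (F : Eᵒᵖ ⥤ Type w)

theorem fmap_comp {A B D : E} (a : A ⟶ B) (b : B ⟶ D) (z : F.obj (op D)) :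
    F.map (a ≫ b).op z = F.map a.op (F.map b.op z) := by
  rw [op_comp, F.map_comp]
  rfl

theorem fmap_id {A : E} (z : F.obj (op A)) : F.map (𝟙 A).op z = z := by
  rw [op_id, F.map_id]
  rfl

end

variable [HasFiniteLimits E] (hb : SGA4.HasDisjointUniversalCoproducts.{v, u} E)

include hb in
/-- the initial object is strict -/
theorem nonempty_isInitial_of_hom {Z I : E} (f : Z ⟶ I) (hI : IsInitial I) :
    Nonempty (IsInitial Z) := by
  let X₀ : PEmpty.{u + 1} → E := fun e => e.elim
  have hI₀ : IsInitial (cof hb X₀).pt := isColimitEquivIsInitialOfIsEmpty E _ (cofIsColimit hb X₀)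
  let g : Z ⟶ (cof hb X₀).pt := f ≫ hI.to _
  let c' : Cofan X₀ := Cofan.mk Z (fun e => e.elim)
  have := cof_universal hb X₀ c' (𝟙 _) g (by ext ⟨e⟩; exact e.elim)
    (NatTrans.Equifibered.of_discrete _) (fun j => j.as.elim)
  exact ⟨isColimitEquivIsInitialOfIsEmpty E _ this.some⟩

include hb in
theorem isUniversalColimit_empty {Z : E} (hZ : IsInitial Z) :
    IsUniversalColimit (Cofan.mk Z (fun e : PEmpty.{u + 1} => (e.elim : (e.elim : E) ⟶ Z))) := by
  intro F' c' α f _ _ _
  obtain ⟨h⟩ := nonempty_isInitial_of_hom hb f hZ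
  exact ⟨(isColimitEquivIsInitialOfIsEmpty E c').symm h⟩

include hb in
/-- a sheaf for the canonical topology has exactly one section over an initial object -/
theorem subsingleton_of_isInitial {F : Eᵒᵖ ⥤ Type w}
    (hF : Presieve.IsSheaf (Sheaf.canonicalTopology E) F) {Z : E} (hZ : IsInitial Z) :
    Subsingleton (F.obj (op Z)) := by
  have h := ofArrows_mem_canonical_of_isUniversalColimit _ (isUniversalColimit_empty hb hZ)
  obtain ⟨t, _, hu⟩ := existsUnique_of_ofArrows_mem hF _ _ h (fun e => e.elim)
    (fun e => e.elim)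
  exact ⟨fun a b => (hu a (fun e => e.elim)).trans (hu b (fun e => e.elim)).symm⟩

include hb in
/-- sections of a sheaf for the canonical topology over a coproduct -/
theorem existsUnique_section_cof {F : Eᵒᵖ ⥤ Type w}
    (hF : Presieve.IsSheaf (Sheaf.canonicalTopology E) F) {ι : Type u} (X : ι → E)
    (x : ∀ i, F.obj (op (X i))) :
    ∃! t : F.obj (op (cof hb X).pt), ∀ i, F.map ((cof hb X).inj i).op t = x i := by
  refine existsUnique_of_ofArrows_mem hF X (cof hb X).inj
    (ofArrows_mem_canonical_of_isUniversalColimit _ (cof_universal hb X)) x ?_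
  intro i j Z gi gj h
  haveI := cof_disjoint hb X
  by_cases hij : i = j
  · subst hij
    haveI : Mono ((cof hb X).inj i) := CoproductDisjoint.mono_inj (cofIsColimit hb X) i
    rw [(cancel_mono _).1 h]
  · obtain ⟨hI⟩ := CoproductDisjoint.nonempty_isInitial_of_ne (cofIsColimit hb X) hij _
      (pullback.isLimit ((cof hb X).inj i) ((cof hb X).inj j))
    obtain ⟨hZ⟩ := nonempty_isInitial_of_hom hb (pullback.lift gi gj h) hI
    haveI := subsingleton_of_isInitial hb hF hZ
    exact Subsingleton.elim _ _

end Groth.Agent.Lib.Helper27.Giraud
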