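import Groth.Agent.Lib.Helper27.Giraud3

/-!
# Giraud's theorem, part 4: sheaves for the canonical topology are representable
-/

set_option autoImplicit false
set_option backward.isDefEq.respectTransparency false
set_option backward.isDefEq.respectTransparency.types false

universe w w' v u

open CategoryTheory CategoryTheory.Limits Opposite

namespace Groth.Agent.Lib.Helper27.Giraud

variable {E : Type v} [Category.{u} E] [HasFiniteLimits E]
  (hc : ∀ (R A : E) (p₁ p₂ : R ⟶ A), SGA4.IsEquivRel p₁ p₂ →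
    SGA4.IsEffectiveUniversalEquivRel p₁ p₂)
  (hb : SGA4.HasDisjointUniversalCoproducts.{v, u} E)
  {C : Type u} [SmallCategory C] (G : C ⥤ E)
  (hG : ∀ ⦃X Y : E⦄ (f : X ⟶ Y),
    (∀ (c : C) (h : G.obj c ⟶ Y), ∃! h', h' ≫ f = h) → IsIso f)
  {F : Eᵒᵖ ⥤ Type u} (hF : Presieve.IsSheaf (Sheaf.canonicalTopology E) F)

include hb hF in
/-- two sections over a coproduct which agree on the summands are equal -/
theorem section_cof_ext {ι : Type u} (X : ι → E) (s t : F.obj (op (cof hb X).pt))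
    (h : ∀ i, F.map ((cof hb X).inj i).op s = F.map ((cof hb X).inj i).op t) : s = t := by
  obtain ⟨_, _, hu⟩ := existsUnique_section_cof hb hF X
    (fun i => F.map ((cof hb X).inj i).op t)
  exact (hu s h).trans (hu t fun _ => rfl).symm

include hc hb hG hF in
/-- the relation "same image of `σ`" on the points of `Y` is representable -/
theorem exists_relation {Y : E} (σ : F.obj (op Y)) :
    ∃ (B : E) (p₁ p₂ : B ⟶ Y), F.map p₁.op σ = F.map p₂.op σ ∧
      (∀ (T : E) (s t : T ⟶ B), s ≫ p₁ = t ≫ p₁ → s ≫ p₂ = t ≫ p₂ → s = t) ∧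
      ∀ (T : E) (a b : T ⟶ Y), F.map a.op σ = F.map b.op σ →
        ∃ t : T ⟶ B, t ≫ p₁ = a ∧ t ≫ p₂ = b := by
  let IR := Σ c : C, {ab : (G.obj c ⟶ Y) × (G.obj c ⟶ Y) // F.map ab.1.op σ = F.map ab.2.op σ}
  let XR : IR → E := fun k => G.obj k.1
  let z₁ : (cof hb XR).pt ⟶ Y := Cofan.IsColimit.desc (cofIsColimit hb XR) (fun k => k.2.1.1)
  let z₂ : (cof hb XR).pt ⟶ Y := Cofan.IsColimit.desc (cofIsColimit hb XR) (fun k => k.2.1.2)
  have hz₁ : ∀ k : IR, (cof hb XR).inj k ≫ z₁ = k.2.1.1 := fun k =>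
    Cofan.IsColimit.fac (cofIsColimit hb XR) _ k
  have hz₂ : ∀ k : IR, (cof hb XR).inj k ≫ z₂ = k.2.1.2 := fun k =>
    Cofan.IsColimit.fac (cofIsColimit hb XR) _ k
  have hz : F.map z₁.op σ = F.map z₂.op σ := by
    apply section_cof_ext hb hF XR
    intro k
    rw [← fmap_comp, ← fmap_comp, hz₁, hz₂]
    exact k.2.2
  obtain ⟨B, π, m, hfac, hmono, hπ⟩ := exists_image hc (prod.lift z₁ z₂)
  have hπ₁ : π ≫ m ≫ prod.fst = z₁ := by rw [← Category.assoc, hfac, prod.lift_fst]
  have hπ₂ : π ≫ m ≫ prod.snd = z₂ := by rw [← Category.assoc, hfac, prod.lift_snd]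
  have hjm : ∀ (T : E) (s t : T ⟶ B), s ≫ m ≫ prod.fst = t ≫ m ≫ prod.fst →
      s ≫ m ≫ prod.snd = t ≫ m ≫ prod.snd → s = t := by
    intro T s t h1 h2
    rw [← cancel_mono m]
    apply Limits.prod.hom_ext
    · simpa only [Category.assoc] using h1
    · simpa only [Category.assoc] using h2
  refine ⟨B, m ≫ prod.fst, m ≫ prod.snd, ?_, hjm, ?_⟩
  · apply hπ.map_injective hF
    rw [← fmap_comp, ← fmap_comp, hπ₁, hπ₂]
    exact hz
  · intro T a b hab
    have hq := uee_genCover hc hb G hG T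
    let idx : (Σ c : C, (G.obj c ⟶ T)) → IR := fun k => ⟨k.1, ⟨(k.2 ≫ a, k.2 ≫ b), by
      simp only
      rw [fmap_comp, fmap_comp, hab]⟩⟩
    let t' : (genCof hb G T).pt ⟶ B :=
      Cofan.IsColimit.desc (cofIsColimit hb _) (fun k => (cof hb XR).inj (idx k) ≫ π)
    have ht' : ∀ k, (genCof hb G T).inj k ≫ t' = (cof hb XR).inj (idx k) ≫ π := fun k =>
      Cofan.IsColimit.fac (cofIsColimit hb _) _ k
    have ht'₁ : t' ≫ m ≫ prod.fst = genCover hb G T ≫ a := by
      apply Cofan.IsColimit.hom_ext (cofIsColimit hb _)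
      intro k
      have e1 : (genCof hb G T).inj k ≫ t' ≫ m ≫ prod.fst = k.2 ≫ a := by
        rw [← Category.assoc, ht', Category.assoc, hπ₁, hz₁]
      have e2 : (genCof hb G T).inj k ≫ genCover hb G T ≫ a = k.2 ≫ a := by
        rw [← Category.assoc, inj_genCover]
      exact e1.trans e2.symm
    have ht'₂ : t' ≫ m ≫ prod.snd = genCover hb G T ≫ b := by
      apply Cofan.IsColimit.hom_ext (cofIsColimit hb _)
      intro k
      have e1 : (genCof hb G T).inj k ≫ t' ≫ m ≫ prod.snd = k.2 ≫ b := by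
        rw [← Category.assoc, ht', Category.assoc, hπ₂, hz₂]
      have e2 : (genCof hb G T).inj k ≫ genCover hb G T ≫ b = k.2 ≫ b := by
        rw [← Category.assoc, inj_genCover]
      exact e1.trans e2.symm
    obtain ⟨t, ht, -⟩ := hq.existsUnique_desc t' (by
      intro Z g₁ g₂ hg
      apply hjm
      · rw [Category.assoc, Category.assoc, ht'₁, ← Category.assoc, ← Category.assoc, hg]
      · rw [Category.assoc, Category.assoc, ht'₂, ← Category.assoc, ← Category.assoc, hg])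
    haveI := hq.epi
    refine ⟨t, ?_, ?_⟩
    · rw [← cancel_epi (genCover hb G T), ← Category.assoc, ht, ht'₁]
    · rw [← cancel_epi (genCover hb G T), ← Category.assoc, ht, ht'₂]

/-- the relation of the previous lemma is an equivalence relation -/
theorem isEquivRel_of_relation {Y : E} (σ : F.obj (op Y)) {B : E} (p₁ p₂ : B ⟶ Y)
    (h1 : F.map p₁.op σ = F.map p₂.op σ)
    (h2 : ∀ (T : E) (s t : T ⟶ B), s ≫ p₁ = t ≫ p₁ → s ≫ p₂ = t ≫ p₂ → s = t)
    (h3 : ∀ (T : E) (a b : T ⟶ Y), F.map a.op σ = F.map b.op σ →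
        ∃ t : T ⟶ B, t ≫ p₁ = a ∧ t ≫ p₂ = b) :
    SGA4.IsEquivRel p₁ p₂ := by
  intro T
  have key : ∀ a b : T ⟶ Y, (∃ f : T ⟶ B, f ≫ p₁ = a ∧ f ≫ p₂ = b) ↔
      F.map a.op σ = F.map b.op σ := by
    intro a b
    constructor
    · rintro ⟨f, rfl, rfl⟩
      rw [fmap_comp, fmap_comp, h1]
    · exact h3 T a b
  refine ⟨?_, ?_, ?_, ?_⟩
  · intro g g' h
    simp only [Prod.mk.injEq] at h
    exact h2 T g g' h.1 h.2
  · intro a
    exact (key a a).2 rfl
  · intro a b hab
    exact (key b a).2 ((key a b).1 hab).symm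
  · intro a b c hab hbc
    exact (key a c).2 (((key a b).1 hab).trans ((key b c).1 hbc))

include hc hb hG hF in
/-- a sheaf for the canonical topology, all of whose sections over generators come from a
section `σ` over `Y`, is representable -/
theorem exists_representing {Y : E} (σ : F.obj (op Y))
    (hσ : ∀ (c : C) (s : F.obj (op (G.obj c))), ∃ j : G.obj c ⟶ Y, F.map j.op σ = s) :
    ∃ (Q : E) (τ : F.obj (op Q)),
      ∀ T : E, Function.Bijective (fun a : T ⟶ Q => F.map a.op τ) := by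
  obtain ⟨B, p₁, p₂, h1, h2, h3⟩ := exists_relation hc hb G hG hF σ
  obtain ⟨Q, π, hpb, -, heff⟩ := hc _ _ _ _ (isEquivRel_of_relation σ p₁ p₂ h1 h2 h3)
  have hπ : UEE π := uee_of_forall_effectiveEpi π heff
  obtain ⟨τ, hτ, -⟩ := hπ.existsUnique_section hF σ (by
    intro Z g₁ g₂ hg
    let l := hpb.lift g₁ g₂ hg
    have e1 : l ≫ p₁ = g₁ := hpb.lift_fst _ _ _
    have e2 : l ≫ p₂ = g₂ := hpb.lift_snd _ _ _
    have e1' : F.map g₁.op σ = F.map l.op (F.map p₁.op σ) :=
      (congrArg (fun z => F.map (Quiver.Hom.op z) σ) e1).symm.trans (fmap_comp F l p₁ σ)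
    have e2' : F.map g₂.op σ = F.map l.op (F.map p₂.op σ) :=
      (congrArg (fun z => F.map (Quiver.Hom.op z) σ) e2).symm.trans (fmap_comp F l p₂ σ)
    rw [e1', e2', h1])
  have hinj : ∀ T : E, Function.Injective (fun a : T ⟶ Q => F.map a.op τ) := by
    intro T a b hab
    simp only at hab
    let s₁ := pullback.snd π a
    let a₁ := pullback.fst π a
    have ha₁ : a₁ ≫ π = s₁ ≫ a := pullback.condition
    let s₂ := pullback.snd π (s₁ ≫ b)
    let b₂ := pullback.fst π (s₁ ≫ b)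
    have hb₂ : b₂ ≫ π = s₂ ≫ s₁ ≫ b := pullback.condition
    haveI : Epi s₁ := (hπ.pullback_snd a).epi
    haveI : Epi s₂ := (hπ.pullback_snd (s₁ ≫ b)).epi
    have e1 : F.map (s₂ ≫ a₁).op σ = F.map (s₂ ≫ s₁).op (F.map a.op τ) := by
      rw [← hτ, ← fmap_comp, ← fmap_comp, Category.assoc, ha₁, Category.assoc]
    have e2 : F.map b₂.op σ = F.map (s₂ ≫ s₁).op (F.map b.op τ) := by
      rw [← hτ, ← fmap_comp, ← fmap_comp, hb₂, Category.assoc]
    obtain ⟨t, ht1, ht2⟩ := h3 _ (s₂ ≫ a₁) b₂ (by rw [e1, e2, hab])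
    have e3 : (s₂ ≫ a₁) ≫ π = b₂ ≫ π := by
      rw [← ht1, ← ht2, Category.assoc, Category.assoc, hpb.w]
    rw [Category.assoc, ha₁, hb₂] at e3
    rw [← cancel_epi s₁, ← cancel_epi s₂]
    exact e3
  refine ⟨Q, τ, fun T => ⟨hinj T, ?_⟩⟩
  intro s
  have hq := uee_genCover hc hb G hG T
  choose j hj using fun k : (Σ c : C, (G.obj c ⟶ T)) => hσ k.1 (F.map k.2.op s)
  let y' : (genCof hb G T).pt ⟶ Y := Cofan.IsColimit.desc (cofIsColimit hb _) j
  have hy' : ∀ k, (genCof hb G T).inj k ≫ y' = j k := fun k =>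
    Cofan.IsColimit.fac (cofIsColimit hb _) _ k
  have hy's : F.map y'.op σ = F.map (genCover hb G T).op s := by
    apply section_cof_ext hb hF
    intro k
    have e1 : F.map ((genCof hb G T).inj k).op (F.map y'.op σ) = F.map k.2.op s := by
      rw [← fmap_comp]
      exact (congrArg (fun z => F.map (Quiver.Hom.op z) σ) (hy' k)).trans (hj k)
    have e2 : F.map ((genCof hb G T).inj k).op (F.map (genCover hb G T).op s) =
        F.map k.2.op s := by
      rw [← fmap_comp]
      exact congrArg (fun z => F.map (Quiver.Hom.op z) s) (inj_genCover hb G T k)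
    exact e1.trans e2.symm
  have ha' : F.map (y' ≫ π).op τ = F.map (genCover hb G T).op s := by
    rw [fmap_comp, hτ, hy's]
  obtain ⟨a, ha, -⟩ := hq.existsUnique_desc (y' ≫ π) (by
    intro Z g₁ g₂ hg
    apply hinj
    simp only
    have e1 : F.map (g₁ ≫ y' ≫ π).op τ = F.map (g₁ ≫ genCover hb G T).op s := by
      rw [fmap_comp F g₁ (y' ≫ π), ha', ← fmap_comp]
    have e2 : F.map (g₂ ≫ y' ≫ π).op τ = F.map (g₂ ≫ genCover hb G T).op s := by
      rw [fmap_comp F g₂ (y' ≫ π), ha', ← fmap_comp]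
    rw [e1, e2, hg])
  refine ⟨a, ?_⟩
  simp only
  apply hq.map_injective hF
  rw [← fmap_comp, ha, ha']

include hc hb hG hF in
/-- sheaves of small sets for the canonical topology are representable -/
theorem exists_representing' :
    ∃ (Q : E) (τ : F.obj (op Q)),
      ∀ T : E, Function.Bijective (fun a : T ⟶ Q => F.map a.op τ) := by
  let XF : (Σ c : C, F.obj (op (G.obj c))) → E := fun k => G.obj k.1
  obtain ⟨σ, hσ, -⟩ := existsUnique_section_cof hb hF XF (fun k => k.2)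
  exact exists_representing hc hb G hG hF σ (fun c s => ⟨(cof hb XF).inj ⟨c, s⟩, hσ ⟨c, s⟩⟩)

end Groth.Agent.Lib.Helper27.Giraud
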