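import Groth.Agent.Lib.Helper27.Giraud4
import Mathlib.CategoryTheory.Sites.DenseSubsite.InducedTopology
import Mathlib.CategoryTheory.ObjectProperty.Small
import Mathlib.CategoryTheory.Generator.Basic

/-!
# Giraud's theorem: a category satisfying Giraud's axioms is a topos
-/

set_option autoImplicit false
set_option backward.isDefEq.respectTransparency false
set_option backward.isDefEq.respectTransparency.types false

universe w w' v u

open CategoryTheory CategoryTheory.Limits Opposite

namespace Groth.Agent.Lib.Helper27.Giraud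

variable {E : Type v} [Category.{u} E] [HasFiniteLimits E]
  (hc : ∀ (R A : E) (p₁ p₂ : R ⟶ A), SGA4.IsEquivRel p₁ p₂ →
    SGA4.IsEffectiveUniversalEquivRel p₁ p₂)
  (hb : SGA4.HasDisjointUniversalCoproducts.{v, u} E)
  {C : Type u} [SmallCategory C] (G : C ⥤ E)
  (hG : ∀ ⦃X Y : E⦄ (f : X ⟶ Y),
    (∀ (c : C) (h : G.obj c ⟶ Y), ∃! h', h' ≫ f = h) → IsIso f)

include hc hb hG in
theorem essSurj_yoneda : ((Sheaf.canonicalTopology E).yoneda).EssSurj := by
  refine ⟨fun F => ?_⟩
  obtain ⟨Q, τ, hbij⟩ := exists_representing' hc hb G hG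
    ((isSheaf_iff_isSheaf_of_type _ _).1 F.property)
  let r : F.obj.RepresentableBy Q :=
    { homEquiv := fun {T} => Equiv.ofBijective _ (hbij T)
      homEquiv_comp := fun f g => fmap_comp F.obj f g τ }
  exact ⟨Q, ⟨(fullyFaithfulSheafToPresheaf _ _).preimageIso r.toIso⟩⟩

include hc hb hG in
theorem isTopos_of_generators [G.Full] [G.Faithful] : SGA4.IsTopos.{v, u} E := by
  haveI : G.IsCoverDense (Sheaf.canonicalTopology E) := isCoverDense hc hb G hG
  let e₁ : Sheaf (G.inducedTopology (Sheaf.canonicalTopology E)) (Type u) ≌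
      Sheaf (Sheaf.canonicalTopology E) (Type u) :=
    G.sheafInducedTopologyEquivOfIsCoverDense (Sheaf.canonicalTopology E) (Type u)
  haveI := essSurj_yoneda hc hb G hG
  haveI : ((Sheaf.canonicalTopology E).yoneda).IsEquivalence := { }
  exact ⟨C, inferInstance, G.inducedTopology (Sheaf.canonicalTopology E),
    ⟨((Sheaf.canonicalTopology E).yoneda).asEquivalence.trans e₁.symm⟩⟩

include hc hb in
theorem isTopos (hd : ∃ P : ObjectProperty E, ObjectProperty.Small.{u} P ∧ P.IsDetecting) :
    SGA4.IsTopos.{v, u} E := by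
  obtain ⟨P, hPs, hPd⟩ := hd
  haveI : ObjectProperty.Small.{u} P := hPs
  let G : SmallModel.{u} P.FullSubcategory ⥤ E :=
    (equivSmallModel.{u} P.FullSubcategory).inverse ⋙ P.ι
  have hG : ∀ ⦃X Y : E⦄ (f : X ⟶ Y),
      (∀ (c : SmallModel.{u} P.FullSubcategory) (h : G.obj c ⟶ Y), ∃! h', h' ≫ f = h) →
        IsIso f := by
    intro X Y f hf
    apply hPd
    intro A hA h
    let c := (equivSmallModel.{u} P.FullSubcategory).functor.obj ⟨A, hA⟩
    let e : G.obj c ≅ A :=
      P.ι.mapIso ((equivSmallModel.{u} P.FullSubcategory).unitIso.symm.app ⟨A, hA⟩)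
    obtain ⟨h', hh', hu⟩ := hf c (e.hom ≫ h)
    refine ⟨e.inv ≫ h', ?_, fun k hk => ?_⟩
    · change (e.inv ≫ h') ≫ f = h
      rw [Category.assoc, hh', e.inv_hom_id_assoc]
    · have hk' : k ≫ f = h := hk
      have := hu (e.hom ≫ k) (by
        change (e.hom ≫ k) ≫ f = e.hom ≫ h
        rw [Category.assoc, hk'])
      rw [← this, e.inv_hom_id_assoc]
  exact isTopos_of_generators hc hb G hG

end Groth.Agent.Lib.Helper27.Giraud
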