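import Mathlib
import Groth.Agent.Lib.Helper12.HenselQuasiFinite

/-!
# Finite étale refinement of étale neighbourhoods of the closed point of a henselian local scheme
-/

set_option autoImplicit false
universe u
open CategoryTheory Limits Opposite AlgebraicGeometry

namespace Groth.Agent.Lib.Helper27.HensBC

open IsLocalRing

/-- ring level: an étale algebra over a henselian local ring has, around each prime over the closed
point, a finite étale direct factor -/
theorem exists_finite_etale_quotient (A : Type u) [CommRing A] [HenselianLocalRing A]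
    (B : Type u) [CommRing B] [Algebra A B] [Algebra.Etale A B]
    (q : Ideal B) [q.IsPrime] [q.LiesOver (maximalIdeal A)] :
    ∃ e : B, IsIdempotentElem e ∧ e ∉ q ∧ Module.Finite A (B ⧸ Ideal.span {1 - e}) ∧
      Algebra.Etale A (B ⧸ Ideal.span {1 - e}) := by
  haveI : Algebra.FiniteType A B := inferInstance
  haveI : Algebra.QuasiFinite A B := inferInstance
  haveI : Algebra.QuasiFiniteAt A q := inferInstance
  obtain ⟨e, he, heq, hfin, -⟩ := Groth.Agent.Lib.Helper12.exists_idem_finite_of_quasiFiniteAt A B q
  refine ⟨e, he, heq, hfin, ?_⟩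
  haveI : IsLocalization.Away e (B ⧸ Ideal.span {1 - e}) :=
    IsLocalization.Away.quotient_of_isIdempotentElem he
  haveI : Algebra.Etale B (B ⧸ Ideal.span {1 - e}) := Algebra.Etale.of_isLocalizationAway e
  exact Algebra.Etale.comp A B _

/-- an open subset of a local scheme containing the closed point is everything -/
theorem range_eq_univ_of_closedPoint_mem (A : Type u) [CommRing A] [IsLocalRing A]
    (U : Set (PrimeSpectrum A)) (hU : IsOpen U) (h : closedPoint A ∈ U) : U = Set.univ := by
  have := (IsLocalRing.closed_point_mem_iff (U := ⟨U, hU⟩)).1 h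
  have h2 := congrArg (fun V : TopologicalSpace.Opens (PrimeSpectrum A) =>
    (SetLike.coe V : Set (PrimeSpectrum A))) this
  exact h2

set_option backward.isDefEq.respectTransparency false in
/-- scheme level: every étale neighbourhood of the closed point of a henselian local scheme is
refined by a finite étale surjective one -/
theorem exists_finite_etale_refinement (A : Type u) [CommRing A] [HenselianLocalRing A]
    {W : Scheme.{u}} (f : W ⟶ Spec (CommRingCat.of A)) [Etale f] (w : W)
    (hw : f w = closedPoint A) :
    ∃ (X' : Scheme.{u}) (π : X' ⟶ Spec (CommRingCat.of A)) (g : X' ⟶ W),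
      IsFinite π ∧ Etale π ∧ Surjective π ∧ g ≫ f = π := by
  obtain ⟨B, j, _, hj, _⟩ := Scheme.exists_affine_mem_range_and_range_subset
    (x := w) (U := (⊤ : W.Opens)) (by simp)
  obtain ⟨w', hw'⟩ := hj
  let ψ : CommRingCat.of A ⟶ B := Spec.preimage (j ≫ f)
  have hψ : Spec.map ψ = j ≫ f := Spec.map_preimage _
  have hEt : ψ.hom.Etale := by
    have : Etale (Spec.map ψ) := by rw [hψ]; infer_instance
    exact (HasRingHomProperty.Spec_iff (P := @Etale)).1 this
  algebraize [ψ.hom]
  let q : Ideal B := w'.asIdeal
  have : q.IsPrime := w'.isPrime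
  have hcl : (Spec.map ψ) w' = closedPoint A := by
    rw [hψ, Scheme.Hom.comp_apply, hw', hw]
  have : q.LiesOver (maximalIdeal A) := ⟨by
    have := congrArg PrimeSpectrum.asIdeal hcl
    exact this.symm⟩
  obtain ⟨e, he, heq, hfin, het⟩ := exists_finite_etale_quotient A B q
  let B' := B ⧸ Ideal.span {1 - e}
  let φ : CommRingCat.of A ⟶ CommRingCat.of B' := CommRingCat.ofHom (algebraMap A B')
  let ρ : B ⟶ CommRingCat.of B' := CommRingCat.ofHom (Ideal.Quotient.mk (Ideal.span {1 - e}))
  have hφρ : ψ ≫ ρ = φ := by
    ext a
    rfl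
  have hfinφ : IsFinite (Spec.map φ) := by
    rw [IsFinite.SpecMap_iff]
    exact (RingHom.finite_algebraMap (A := A) (B := B')).2 hfin
  have hetφ : Etale (Spec.map φ) := by
    rw [HasRingHomProperty.Spec_iff (P := @Etale)]
    exact (RingHom.etale_algebraMap (R := A) (S := B')).2 het
  refine ⟨Spec (CommRingCat.of B'), Spec.map φ, Spec.map ρ ≫ j, hfinφ, hetφ, ?_, ?_⟩
  · -- surjectivity
    have hopen : IsOpen (Set.range (Spec.map φ)) := (Spec.map φ).isOpenMap.isOpen_range
    have h1e : (1 - e) ∈ q := by
      have h0 : e * (1 - e) ∈ q := by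
        rw [mul_sub, mul_one, he.eq, sub_self]; exact q.zero_mem
      exact (Ideal.IsPrime.mem_or_mem inferInstance h0).resolve_left heq
    have hle : Ideal.span {1 - e} ≤ q := (Ideal.span_singleton_le_iff_mem _).mpr h1e
    -- the point of `Spec B'` given by `q`
    let q' : Ideal B' := q.map (Ideal.Quotient.mk (Ideal.span {1 - e}))
    have hcomap : q'.comap (Ideal.Quotient.mk (Ideal.span {1 - e})) = q := by
      rw [Ideal.comap_map_of_surjective _ Ideal.Quotient.mk_surjective,
        ← RingHom.ker_eq_comap_bot, Ideal.mk_ker]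
      exact sup_eq_left.mpr hle
    have : q'.IsPrime := by
      apply Ideal.map_isPrime_of_surjective Ideal.Quotient.mk_surjective
      rw [Ideal.mk_ker]; exact hle
    let z : Spec (CommRingCat.of B') := (⟨q', inferInstance⟩ : PrimeSpectrum B')
    have hz : (Spec.map ρ) z = w' := by
      apply PrimeSpectrum.ext
      exact hcomap
    have hmem : closedPoint A ∈ Set.range (Spec.map φ) := by
      refine ⟨z, ?_⟩
      rw [← hφρ, Spec.map_comp, Scheme.Hom.comp_apply, hz, hcl]
    have huniv := range_eq_univ_of_closedPoint_mem A _ hopen hmem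
    exact ⟨fun y => by
      have : y ∈ Set.range (Spec.map φ) := by rw [huniv]; trivial
      exact this⟩
  · rw [Category.assoc, ← hψ, ← Spec.map_comp, hφρ]

end Groth.Agent.Lib.Helper27.HensBC
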