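import Groth.Agent.Lib.Helper27.EtTrace6
import Groth.Agent.Lib.Helper27.EtTrace2
import Groth.Agent.Lib.Helper23.EtGlue2

/-!
# Cohomology classes of positive degree die étale locally
-/

set_option autoImplicit false
set_option backward.isDefEq.respectTransparency false
universe u
open CategoryTheory Limits Opposite AlgebraicGeometry Abelian
open Groth.Agent.Lib.Helper23.EtGlue Groth.Agent.Lib.Helper27.GabberCrit
  Groth.Agent.Lib.Helper27.EtTrace

namespace Groth.Agent.Lib.Helper27.HensBC

/-- every class of positive degree is killed on an étale neighbourhood of any given point -/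
theorem exists_etale_kill {X : Scheme.{u}} (F : EtCoh.Ab X) (n : ℕ)
    (ξ : EtCoh.H X F (n + 1)) (x : X) :
    ∃ (W : Scheme.{u}) (f : W ⟶ X) (_ : Etale f) (w : W), f w = x ∧
      EtCore.Hpull f F (n + 1) ξ = 0 := by
  obtain ⟨P, π, hπ, h0⟩ := exists_epi_comp_eq_zero n ξ
  have hls : Sheaf.IsLocallySurjective π :=
    (Sheaf.isLocallySurjective_iff_epi' AddCommGrpCat.{u + 1} π).2 inferInstance
  have hcov := hls.imageSieve_mem (U := EtCoh.top X) (oneSec X)
  obtain ⟨T, a, ⟨p, hp⟩, t, ht⟩ := exists_arrow_of_mem _ hcov (x : (EtCoh.top X).left)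
  let f : T.left ⟶ X := T.hom
  haveI : Etale f := T.prop
  have hT : f = a.left := by
    have h1 : a.left ≫ 𝟙 X = T.hom := Over.w a.hom
    exact h1.symm.trans (Category.comp_id _)
  let tT : Tj f ⟶ T := MorphismProperty.Over.homMk (𝟙 T.left) (by
    change 𝟙 T.left ≫ T.hom = 𝟙 _ ≫ T.hom
    rfl) trivial
  refine ⟨T.left, f, inferInstance, t, by rw [hT]; exact ht, ?_⟩
  apply Hpull_eq_zero_of_comp_eq_zero
  obtain ⟨m, hm⟩ := (sMorE_bijective f P).2 ((ev1 _).symm (P.obj.map tT.op p))
  have hmπ : m ≫ π = εj f := by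
    apply (sMorE_bijective f (EtCoh.const _ ℤ)).1
    rw [sMorE_naturality, hm, sMorE_εj]
    apply (ev1 _).injective
    rw [ev1_comp, AddEquiv.apply_symm_apply, ev1_comp]
    have nat := ConcreteCategory.congr_hom (π.hom.naturality tT.op) p
    simp only [ConcreteCategory.comp_apply] at nat
    rw [nat, hp]
    change ((EtCoh.const _ ℤ).obj.map a.op ≫ (EtCoh.const _ ℤ).obj.map tT.op) (oneSec _) = _
    rw [← Functor.map_comp, ← op_comp]
    congr 3
    exact congrArg Quiver.Hom.op ((EtCore.topIsTerminal _).hom_ext _ _)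
  rw [← hmπ, ← Ext.mk₀_comp_mk₀, Ext.comp_assoc_of_second_deg_zero, h0, Ext.comp_zero]

end Groth.Agent.Lib.Helper27.HensBC
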