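import Groth.Agent.Lib.Helper23.HpullComp
import Groth.Agent.Lib.Helper23.ExtAdj
import Groth.Agent.S0071

/-!
# Cohomology classes on the source of a finite morphism come from the target
-/

set_option autoImplicit false
set_option backward.isDefEq.respectTransparency false
universe u

open CategoryTheory Limits Opposite AlgebraicGeometry Abelian

namespace Groth.Agent.Lib.Helper27.KPi1

open Groth.Agent.Lib.Helper23.HpullComp Groth.Agent.Lib.Helper23.HpullNat
  Groth.Agent.Lib.Helper23.ExtAdj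

variable {X Y : Scheme.{u}}

/-- For a finite morphism `f`, every class in `H^q(X, F)` is the image of a class of
`H^q(Y, f_* F)` under pullback followed by the counit. -/
theorem exists_push_class (f : X ⟶ Y) [IsFinite f] (F : EtCoh.Ab X) (q : ℕ)
    (ζ : EtCoh.H X F q) :
    ∃ ζY : EtCoh.H Y ((EtCoh.push f).obj F) q,
      ζ = (EtCore.Hpull f ((EtCoh.push f).obj F) q ζY).comp
        (Ext.mk₀ ((EtCoh.pullPushAdj f).counit.app F)) (add_zero q) := by
  have hbij := extAdj_bijective (EtCoh.pullPushAdj f) (EtCoh.const Y ℤ) q F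
    (fun m hm => Groth.Agent.S0071.result f F m hm)
  obtain ⟨ζY, hζY⟩ := hbij.2 ((Ext.mk₀ (EtCore.pullConst f ℤ).hom).comp ζ (zero_add q))
  refine ⟨ζY, ?_⟩
  rw [Hpull_apply, Ext.comp_assoc_of_third_deg_zero, ← extAdj_apply, hζY,
    ← Ext.comp_assoc_of_second_deg_zero, Ext.mk₀_comp_mk₀, Iso.inv_hom_id, Ext.mk₀_id_comp]

/-- A class dying on `Y'` dies on anything mapping to `Y'`. -/
theorem Hpull_eq_zero_of_factor {X' Y' : Scheme.{u}} (f' : X' ⟶ Y') (g : Y' ⟶ Y) (f₀ : X' ⟶ Y)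
    (w : f' ≫ g = f₀) (G : EtCoh.Ab Y) (q : ℕ) (x : EtCoh.H Y G q)
    (hx : EtCore.Hpull g G q x = 0) : EtCore.Hpull f₀ G q x = 0 := by
  rw [← HpullVia_Hpull f' g f₀ w G q x, hx, map_zero]

/-- Pulling back twice, in terms of the pullback along the composite. -/
theorem Hpull_Hpull {X' : Scheme.{u}} (g' : X' ⟶ X) (f : X ⟶ Y) (f₀ : X' ⟶ Y) (w : g' ≫ f = f₀)
    (G : EtCoh.Ab Y) (q : ℕ) (x : EtCoh.H Y G q) (hx : EtCore.Hpull f₀ G q x = 0) :
    EtCore.Hpull g' ((EtCoh.pull f).obj G) q (EtCore.Hpull f G q x) = 0 := by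
  let θ : EtCoh.pull f ⋙ EtCoh.pull g' ≅ EtCoh.pull f₀ :=
    (EtCore.pullComp g' f).symm ≪≫ EtCore.pullCongr w
  have h1 := HpullVia_Hpull g' f f₀ w G q x
  have hv : EtCore.HpullVia g' f f₀ w G q (EtCore.Hpull f G q x) =
      (EtCore.Hpull g' _ q (EtCore.Hpull f G q x)).comp (Ext.mk₀ (θ.hom.app G)) (add_zero q) := rfl
  rw [hv, hx] at h1
  have h3 := congrArg (fun e => e.comp (Ext.mk₀ (θ.inv.app G)) (add_zero q)) h1
  simp only [Ext.zero_comp] at h3
  rw [Ext.comp_assoc_of_third_deg_zero, Ext.mk₀_comp_mk₀, Iso.hom_inv_id_app] at h3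
  exact (Ext.comp_mk₀_id _).symm.trans h3

end Groth.Agent.Lib.Helper27.KPi1
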