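import Groth.Agent.Lib.Helper27.HensBC1
import Groth.Agent.Lib.Helper27.HensBC2
import Groth.Agent.Lib.Helper27.KPi1b
import Groth.Agent.Lib.Helper27.EtTorsion1
import Groth.Agent.Lib.Helper23.EtUnit
import Groth.Agent.Lib.Helper23.EtRecoll
import Groth.Agent.S0621
import Groth.Agent.S14622

/-!
# Sheaves on a henselian local scheme with zero restriction to the closed point have no cohomology
-/

set_option autoImplicit false
set_option backward.isDefEq.respectTransparency false
universe u
open CategoryTheory Limits Opposite AlgebraicGeometry Abelian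
open Groth.Agent.Lib.Helper23.HpullComp Groth.Agent.Lib.Helper23.HpullNat
  Groth.Agent.Lib.Helper23.ExtAdj

namespace Groth.Agent.Lib.Helper27.HensBC

section General

variable {X X' x : Scheme.{u}}

/-- if `i^* K = 0` then `i^* π_* π^* K = 0` for finite `π` -/
theorem isZero_pull_push_pull (i : x ⟶ X) (π : X' ⟶ X) [IsFinite π]
    (K : EtCoh.Ab X) (hK : IsZero ((EtCoh.pull i).obj K)) :
    IsZero ((EtCoh.pull i).obj ((EtCoh.push π).obj ((EtCoh.pull π).obj K))) := by
  let f' := pullback.snd π i
  let g' := pullback.fst π i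
  have h : IsPullback g' f' π i := IsPullback.of_hasPullback π i
  haveI := Groth.Agent.S0621.result π i f' g' h ((EtCoh.pull π).obj K)
  have e := asIso (EtCoh.baseChange0 π i f' g' h.w ((EtCoh.pull π).obj K))
  refine IsZero.of_iso ?_ e
  have h1 : IsZero ((EtCoh.pull g').obj ((EtCoh.pull π).obj K)) := by
    have e1 := (EtCore.pullComp g' π).app K
    have e2 := (EtCore.pullCongr h.w).app K
    have e3 := (EtCore.pullComp f' i).app K
    have h3 : IsZero ((EtCoh.pull f').obj ((EtCoh.pull i).obj K)) := Functor.map_isZero _ hK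
    exact IsZero.of_iso h3 (e1.symm ≪≫ e2 ≪≫ e3)
  haveI : (EtCoh.push f').Additive := (EtCoh.pullPushAdj f').right_adjoint_additive
  exact Functor.map_isZero _ h1

/-- `i^*` of a quotient of a sheaf with `i^* M = 0` vanishes -/
theorem isZero_pull_of_epi (i : x ⟶ X) {M Q : EtCoh.Ab X} (p : M ⟶ Q) [Epi p]
    (hM : IsZero ((EtCoh.pull i).obj M)) : IsZero ((EtCoh.pull i).obj Q) := by
  have : (EtCoh.pull i).PreservesEpimorphisms :=
    Functor.preservesEpimorphisms_of_adjunction (EtCoh.pullPushAdj i)
  have : Epi ((EtCoh.pull i).map p) := inferInstance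
  rw [IsZero.iff_id_eq_zero]
  rw [← cancel_epi ((EtCoh.pull i).map p)]
  exact hM.eq_of_src _ _

/-- for finite `π`, a class dying on the source dies in `H(X, π_* π^* K)` -/
theorem comp_unit_eq_zero_of_Hpull_eq_zero (π : X' ⟶ X) [IsFinite π] (K : EtCoh.Ab X) (n : ℕ)
    (c : EtCoh.H X K n) (hc : EtCore.Hpull π K n c = 0) :
    c.comp (Ext.mk₀ ((EtCoh.pullPushAdj π).unit.app K)) (add_zero n) = 0 := by
  have hbij := extAdj_bijective (EtCoh.pullPushAdj π) (EtCoh.const X ℤ) n ((EtCoh.pull π).obj K)
    (fun m hm => Groth.Agent.S0071.result π _ m hm)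
  apply hbij.1
  rw [map_zero, extAdj_apply, Ext.mapExactFunctor_comp, Ext.mapExactFunctor_mk₀,
    Ext.comp_assoc_of_third_deg_zero, Ext.mk₀_comp_mk₀,
    (EtCoh.pullPushAdj π).left_triangle_components K, Ext.comp_mk₀_id]
  rw [Hpull_apply] at hc
  have h2 := congrArg (fun e => (Ext.mk₀ (EtCore.pullConst π ℤ).hom).comp e (zero_add n)) hc
  simp only [Ext.comp_zero] at h2
  rw [← Ext.comp_assoc_of_second_deg_zero, Ext.mk₀_comp_mk₀, Iso.hom_inv_id, Ext.mk₀_id_comp] at h2
  exact h2

end General

section Local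

variable (A : Type u) [CommRing A] [IsLocalRing A]

/-- the closed point of `Spec A` -/
noncomputable abbrev ι : Spec (CommRingCat.of (IsLocalRing.ResidueField A)) ⟶
    Spec (CommRingCat.of A) :=
  Spec.map (CommRingCat.ofHom (IsLocalRing.residue A))

theorem ι_apply (z : Spec (CommRingCat.of (IsLocalRing.ResidueField A))) :
    (ι A) z = IsLocalRing.closedPoint A :=
  IsLocalRing.PrimeSpectrum.comap_residue A z

/-- global sections of a sheaf with zero restriction to the closed point vanish -/
theorem sections_top_eq_zero (K : EtCoh.Ab (Spec (CommRingCat.of A)))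
    (hK : IsZero ((EtCoh.pull (ι A)).obj K))
    (s : K.obj.obj (op (EtCoh.top (Spec (CommRingCat.of A))))) : s = 0 := by
  let X := Spec (CommRingCat.of A)
  obtain ⟨z, hz1, -⟩ := Scheme.Pullback.exists_preimage_pullback (f := 𝟙 X) (g := ι A)
    (IsLocalRing.closedPoint A) (default : Spec (CommRingCat.of (IsLocalRing.ResidueField A)))
    (by rw [ι_apply]; rfl)
  have hsub : Subsingleton (((EtCoh.pull (ι A)).obj K).obj.obj
      (op ((EtCoh.bc (ι A)).obj (EtCoh.top X)))) :=
    AddCommGrpCat.subsingleton_of_isZero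
      (Groth.Agent.Lib.Helper23.EtRecoll.isZero_sections _ hK _)
  have h : ((EtCoh.pullPushAdj (ι A)).unit.app K).hom.app (op (EtCoh.top X)) s =
      ((EtCoh.pullPushAdj (ι A)).unit.app K).hom.app (op (EtCoh.top X)) 0 :=
    hsub.elim _ _
  obtain ⟨V, k, v, hv, hst⟩ :=
    Groth.Agent.Lib.Helper23.EtUnit.exists_nhd_of_unit_eq (ι A) K (EtCoh.top X) s 0 h z
  apply Groth.Agent.Lib.Helper27.EtTransport.eq_zero_of_locally K s
  intro y
  refine ⟨V, k, ?_, by rw [hst, map_zero]⟩
  have hopen : IsOpen (Set.range k.left) := by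
    haveI : Etale V.hom := V.prop
    have hk : k.left = V.hom := by
      have h1 : k.left ≫ 𝟙 X = V.hom := Over.w k.hom
      exact (Category.comp_id _).symm.trans h1
    rw [hk]
    exact V.hom.isOpenMap.isOpen_range
  have hmem : IsLocalRing.closedPoint A ∈ Set.range k.left := ⟨v, hv.trans hz1⟩
  have huniv := range_eq_univ_of_closedPoint_mem A _ hopen hmem
  rw [huniv]; trivial

end Local

section Hens

variable (A : Type u) [CommRing A] [HenselianLocalRing A]

/-- **Theorem A**: on a henselian local scheme, a sheaf with zero restriction to the closed point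
has vanishing cohomology in all degrees -/
theorem H_eq_zero_of_isZero_pull (n : ℕ) :
    ∀ (K : EtCoh.Ab (Spec (CommRingCat.of A))), IsZero ((EtCoh.pull (ι A)).obj K) →
      ∀ c : EtCoh.H (Spec (CommRingCat.of A)) K n, c = 0 := by
  induction n with
  | zero =>
    intro K hK c
    obtain ⟨φ, rfl⟩ := (Ext.mk₀_bijective _ _).2 c
    have hφ : φ = 0 := by
      apply ((EtCore.constAdj _).homEquiv _ _).injective
      ext m
      exact sections_top_eq_zero A K hK _
    rw [hφ, Ext.mk₀_zero]
  | succ n ih =>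
    intro K hK c
    obtain ⟨W, f, hf, w, hw, hc⟩ := exists_etale_kill K n c (IsLocalRing.closedPoint A)
    obtain ⟨X', π, g, hfin, het, hsurj, hfac⟩ := exists_finite_etale_refinement A f w hw
    have hπ : EtCore.Hpull π K (n + 1) c = 0 :=
      Groth.Agent.Lib.Helper27.KPi1.Hpull_eq_zero_of_factor g f π hfac K (n + 1) c hc
    have h0 := comp_unit_eq_zero_of_Hpull_eq_zero π K (n + 1) c hπ
    let η := (EtCoh.pullPushAdj π).unit.app K
    haveI : Mono η := Groth.Agent.S14622.result π K
    let S : ShortComplex (EtCoh.Ab (Spec (CommRingCat.of A))) :=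
      ShortComplex.mk η (cokernel.π η) (cokernel.condition η)
    have hS : S.ShortExact := { exact := ShortComplex.exact_cokernel η }
    obtain ⟨x₃, hx₃⟩ := Ext.covariant_sequence_exact₁ _ hS c h0 rfl
    have hQ : IsZero ((EtCoh.pull (ι A)).obj (cokernel η)) :=
      isZero_pull_of_epi (ι A) (cokernel.π η) (isZero_pull_push_pull (ι A) π K hK)
    have h3 : x₃ = 0 := ih (cokernel η) hQ x₃
    rw [← hx₃, h3, Ext.zero_comp]

end Hens

end Groth.Agent.Lib.Helper27.HensBC
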