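import Groth.Agent.Lib.Helper27.HensBC3
import Groth.Agent.S0654

/-!
# Cohomology of a henselian local scheme is the cohomology of its closed point
-/

set_option autoImplicit false
set_option backward.isDefEq.respectTransparency false
universe u
open CategoryTheory Limits Opposite AlgebraicGeometry Abelian
open Groth.Agent.Lib.Helper23.HpullComp Groth.Agent.Lib.Helper23.HpullNat
  Groth.Agent.Lib.Helper23.ExtAdj

namespace Groth.Agent.Lib.Helper27.HensBC

section General

variable {X X' : Scheme.{u}}

/-- the adjunction map applied to the image of a class under the unit is its pullback -/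
theorem extAdj_comp_unit (π : X' ⟶ X) (K : EtCoh.Ab X) (n : ℕ) (c : EtCoh.H X K n) :
    extAdj (EtCoh.pullPushAdj π) (EtCoh.const X ℤ) ((EtCoh.pull π).obj K) n
      (c.comp (Ext.mk₀ ((EtCoh.pullPushAdj π).unit.app K)) (add_zero n)) =
      c.mapExactFunctor (EtCoh.pull π) := by
  rw [extAdj_apply, Ext.mapExactFunctor_comp, Ext.mapExactFunctor_mk₀,
    Ext.comp_assoc_of_third_deg_zero, Ext.mk₀_comp_mk₀,
    (EtCoh.pullPushAdj π).left_triangle_components K, Ext.comp_mk₀_id]

/-- if sheaves with zero restriction to the closed subscheme `Z` have no cohomology, then the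
cohomology of `X` is the cohomology of `Z` -/
theorem Hpull_bijective_of_vanishing {Z : Scheme.{u}} (i : Z ⟶ X) [IsClosedImmersion i]
    (hvan : ∀ (K : EtCoh.Ab X), IsZero ((EtCoh.pull i).obj K) →
      ∀ (m : ℕ) (c : EtCoh.H X K m), c = 0)
    (F : EtCoh.Ab X) (n : ℕ) : Function.Bijective (EtCore.Hpull i F n) := by
  let U : X.Opens := ⟨(Set.range i.base)ᶜ, i.isClosedEmbedding.isClosed_range.isOpen_compl⟩
  obtain ⟨w, hS⟩ := Groth.Agent.S0654.result i U rfl F
  set S := ShortComplex.mk _ _ w with hSdef
  have hZU : Set.range U.ι.base = (Set.range i.base)ᶜ := Scheme.Opens.range_ι U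
  have hK : IsZero ((EtCoh.pull i).obj S.X₁) :=
    Groth.Agent.Lib.Helper23.EtRecoll.isZero_pull_extZero i U.ι hZU _
  have hv := hvan S.X₁ hK
  -- step 1: composition with the unit is bijective
  have h1 : Function.Bijective (fun c : EtCoh.H X F n =>
      c.comp (Ext.mk₀ ((EtCoh.pullPushAdj i).unit.app F)) (add_zero n)) := by
    constructor
    · intro c c' hcc
      have hd : (c - c').comp (Ext.mk₀ S.g) (add_zero n) = 0 := by
        have := ((Ext.mk₀ S.g).postcomp (EtCoh.const X ℤ) (add_zero n)).map_sub c c'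
        exact this.trans (sub_eq_zero.2 hcc)
      obtain ⟨x₁, hx₁⟩ := Ext.covariant_sequence_exact₂ _ hS (c - c') hd
      have h0 : x₁ = 0 := hv n x₁
      rw [h0, Ext.zero_comp] at hx₁
      exact sub_eq_zero.1 hx₁.symm
    · intro x₃
      have h0 : x₃.comp hS.extClass rfl = 0 := hv (n + 1) _
      obtain ⟨x₂, hx₂⟩ := Ext.covariant_sequence_exact₃ _ hS x₃ rfl h0
      exact ⟨x₂, hx₂⟩
  -- step 2: the adjunction map is bijective
  have h2 := extAdj_bijective (EtCoh.pullPushAdj i) (EtCoh.const X ℤ) n ((EtCoh.pull i).obj F)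
    (fun m hm => Groth.Agent.S0071.result i _ m hm)
  -- step 3: precomposition with an isomorphism
  have h3 : Function.Bijective (fun e : Ext ((EtCoh.pull i).obj (EtCoh.const X ℤ))
      ((EtCoh.pull i).obj F) n => (Ext.mk₀ (EtCore.pullConst i ℤ).inv).comp e (zero_add n)) := by
    constructor
    · intro e e' hee
      have := congrArg (fun y => (Ext.mk₀ (EtCore.pullConst i ℤ).hom).comp y (zero_add n)) hee
      simp only at this
      rwa [← Ext.comp_assoc_of_second_deg_zero, ← Ext.comp_assoc_of_second_deg_zero,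
        Ext.mk₀_comp_mk₀, Iso.hom_inv_id, Ext.mk₀_id_comp, Ext.mk₀_id_comp] at this
    · intro y
      refine ⟨(Ext.mk₀ (EtCore.pullConst i ℤ).hom).comp y (zero_add n), ?_⟩
      simp only
      rw [← Ext.comp_assoc_of_second_deg_zero, Ext.mk₀_comp_mk₀, Iso.inv_hom_id, Ext.mk₀_id_comp]
  have hcomp : (EtCore.Hpull i F n : EtCoh.H X F n → _) =
      (fun e : Ext ((EtCoh.pull i).obj (EtCoh.const X ℤ)) ((EtCoh.pull i).obj F) n =>
        (Ext.mk₀ (EtCore.pullConst i ℤ).inv).comp e (zero_add n)) ∘
      (extAdj (EtCoh.pullPushAdj i) (EtCoh.const X ℤ) ((EtCoh.pull i).obj F) n) ∘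
      (fun c : EtCoh.H X F n =>
        c.comp (Ext.mk₀ ((EtCoh.pullPushAdj i).unit.app F)) (add_zero n)) := by
    funext c
    simp only [Function.comp_apply]
    rw [extAdj_comp_unit, Hpull_apply]
  rw [hcomp]
  exact h3.comp (h2.comp h1)

end General

/-- **Theorem B**: the cohomology of a henselian local scheme is the cohomology of its closed
point -/
theorem Hpull_closedPoint_bijective (A : Type u) [CommRing A] [HenselianLocalRing A]
    (F : EtCoh.Ab (Spec (CommRingCat.of A))) (n : ℕ) :
    Function.Bijective (EtCore.Hpull (ι A) F n) := by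
  haveI : IsClosedImmersion (ι A) :=
    IsClosedImmersion.spec_of_surjective _ IsLocalRing.residue_surjective
  exact Hpull_bijective_of_vanishing (ι A)
    (fun K hK m c => H_eq_zero_of_isZero_pull A m K hK c) F n

end Groth.Agent.Lib.Helper27.HensBC
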