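import Groth.Agent.Lib.Helper27.LocQSmoothOpen2
import Groth.Agent.Lib.Helper27.MonoFull
import Groth.Agent.Lib.Helper27.AlgStackEquiv
import Groth.Agent.Lib.Helper27.AlgSpMono
import Groth.Agent.Lib.Helper27.SepDiag

/-!
# The essential image of a monomorphism of algebraic stacks as a substack (helper27)
-/

set_option autoImplicit false
set_option backward.isDefEq.respectTransparency false
set_option backward.isDefEq.respectTransparency.types false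

universe u

open CategoryTheory CategoryTheory.Limits AlgebraicGeometry Opposite FibCat
  Groth.Agent.Lib.Helper27.FpKit Groth.Agent.Lib.Helper27.OpenSub

namespace Groth.Agent.Lib.Helper27.ImmImage

variable {S : Scheme.{u}} {𝒵 𝒳 : AlgSt.Cat S}

local infixr:80 " ⊚ " => BasedFunctor.comp

/-- The essential image of a functor, as a predicate on objects. -/
def essIm (i : 𝒵 ⥤ᵇ 𝒳) : 𝒳.obj → Prop := fun a => ∃ z : 𝒵.obj, Nonempty (i.obj z ≅ a)

theorem essIm_closed (i : 𝒵 ⥤ᵇ 𝒳) : ObjectProperty.IsClosedUnderIsomorphisms (essIm i) :=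
  ⟨fun e ⟨z, ⟨φ⟩⟩ => ⟨z, ⟨φ ≪≫ e⟩⟩⟩

/-- The functor to the essential image. -/
def toEssIm (i : 𝒵 ⥤ᵇ 𝒳) : 𝒵 ⥤ᵇ AlgSt.fullSub 𝒳 (essIm i) :=
  liftSub (essIm i) i (fun z => ⟨z, ⟨Iso.refl _⟩⟩)

theorem toEssIm_comp (i : 𝒵 ⥤ᵇ 𝒳) : toEssIm i ⊚ AlgSt.subIncl 𝒳 (essIm i) = i := rfl

/-- The functor from a fully faithful functor to its essential image is an equivalence. -/
theorem isEquivOver_toEssIm (h𝒵 : FibCat.IsFibGrpd 𝒵.p) (h𝒳 : FibCat.IsFibGrpd 𝒳.p)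
    (i : 𝒵 ⥤ᵇ 𝒳) (hfull : i.toFunctor.Full) (hfaith : i.toFunctor.Faithful) :
    IsEquivOver (toEssIm i) := by
  have h1 : (toEssIm i).toFunctor.Full :=
    inferInstanceAs (ObjectProperty.lift (essIm i) i.toFunctor _).Full
  have h2 : (toEssIm i).toFunctor.Faithful :=
    inferInstanceAs (ObjectProperty.lift (essIm i) i.toFunctor _).Faithful
  refine isEquivOver_of_ess _ h1 h2 ?_
  rintro ⟨a, z, ⟨φ⟩⟩
  obtain ⟨k, hk⟩ : ∃ k : 𝒳.p.obj a ⟶ 𝒵.p.obj z,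
      k = 𝒳.p.map φ.inv ≫ eqToHom (i.w_obj z) := ⟨_, rfl⟩
  obtain ⟨z', μ, hμ⟩ := h𝒵.exists_lift (x := z) k
  have hl1 : 𝒳.p.IsHomLift k (i.toFunctor.map μ) := inferInstance
  have hl2 : 𝒳.p.IsHomLift (𝟙 (𝒳.p.obj a)) (i.toFunctor.map μ ≫ φ.hom) := by
    have h3 : 𝒳.p.IsHomLift (eqToHom (i.w_obj z).symm ≫ 𝒳.p.map φ.hom) φ.hom :=
      IsHomLift.of_fac _ _ _ (i.w_obj z) rfl (by simp)
    have h4 : 𝒳.p.IsHomLift (k ≫ (eqToHom (i.w_obj z).symm ≫ 𝒳.p.map φ.hom))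
        (i.toFunctor.map μ ≫ φ.hom) := inferInstance
    have h5 : k ≫ (eqToHom (i.w_obj z).symm ≫ 𝒳.p.map φ.hom) = 𝟙 _ := by
      rw [hk]
      simp only [Category.assoc, eqToHom_trans_assoc, eqToHom_refl, Category.id_comp]
      rw [← 𝒳.p.map_comp, Iso.inv_hom_id, 𝒳.p.map_id]
    rw [h5] at h4
    exact h4
  have hiso : IsIso (i.toFunctor.map μ ≫ φ.hom) :=
    Groth.Agent.Lib.Helper16.FpFibGrpd.FibGrpd.isIso_of_base_isIso 𝒳.p h𝒳 (𝟙 (𝒳.p.obj a))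
      (i.toFunctor.map μ ≫ φ.hom)
  refine ⟨z', ObjectProperty.isoMk (essIm i)
    (X := (toEssIm i).toFunctor.obj z') (Y := ⟨a, z, ⟨φ⟩⟩)
    (asIso (i.toFunctor.map μ ≫ φ.hom)), ?_⟩
  apply Vert.of_lift (U := 𝒳.p.obj a)
  exact (Groth.Agent.Lib.Helper27.StackSub.lift_iff (Q := essIm i) _ _).2 hl2

/-- The inclusion of the essential image has every property of the functor. -/
theorem repByAlgSpWith_subIncl_essIm (P : MorphismProperty (AlgSp.Sp S)) (i : 𝒵 ⥤ᵇ 𝒳)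
    (hE : IsEquivOver (toEssIm i)) (hi : AlgSt.RepByAlgSpWith P i) :
    AlgSt.RepByAlgSpWith P (AlgSt.subIncl 𝒳 (essIm i)) :=
  Groth.Agent.Lib.Helper27.RepWithGeneral.repByAlgSpWith_of_equiv' P (AlgSt.subIncl 𝒳 (essIm i)) i
    (toEssIm i) (BasedFunctor.id 𝒳) hE (isEquivOver_id _) (Iso.refl _) hi

theorem isMono_of_isImm (i : 𝒵 ⥤ᵇ 𝒳) (hi : AlgSt.IsImm i) : AlgSt.IsMono i :=
  Groth.Agent.Lib.Helper27.SepDiag.repByAlgSpWith_mono i
    (fun _ _ k hk => Groth.Agent.Lib.Helper27.AlgSpMono.mono_of_repWith @IsImmersion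
      (fun _ _ m hm => by
        have : IsImmersion m := hm
        exact (inferInstance : Mono m)) k hk) hi

/-- The essential image of an immersion of algebraic stacks is a locally closed substack,
equivalent to the source; it is closed (open) when the immersion is. -/
theorem essIm_of_isImm (h𝒵 : AlgSt.IsAlgStack Scheme.fppfPrecoverage 𝒵)
    (h𝒳 : AlgSt.IsAlgStack Scheme.fppfPrecoverage 𝒳) (i : 𝒵 ⥤ᵇ 𝒳) (hi : AlgSt.IsImm i) :
    IsEquivOver (toEssIm i) ∧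
      AlgSt.IsLocClosedSubstack 𝒳 (essIm i) Scheme.fppfPrecoverage ∧
      (AlgSt.IsClosedImm i → AlgSt.IsClosedSubstack 𝒳 (essIm i) Scheme.fppfPrecoverage) ∧
      (AlgSt.IsOpenImm i → AlgSt.IsOpenSubstack 𝒳 (essIm i) Scheme.fppfPrecoverage) := by
  obtain ⟨hfull, hfaith⟩ := Groth.Agent.Lib.Helper27.MonoFull.full_faithful_of_isMono
    h𝒵.isStack.1 h𝒳.isStack.1 i (isMono_of_isImm i hi)
  have hE := isEquivOver_toEssIm h𝒵.isStack.1 h𝒳.isStack.1 i hfull hfaith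
  have halg : AlgSt.IsAlgStack Scheme.fppfPrecoverage (AlgSt.fullSub 𝒳 (essIm i)) :=
    Groth.Agent.Lib.Helper27.AlgStackEquiv.isAlgStack_of_equiv _ (toEssIm i) hE h𝒵
  exact ⟨hE, ⟨essIm_closed i, halg, repByAlgSpWith_subIncl_essIm _ i hE hi⟩,
    fun h => ⟨essIm_closed i, halg, repByAlgSpWith_subIncl_essIm _ i hE h⟩,
    fun h => ⟨essIm_closed i, halg, repByAlgSpWith_subIncl_essIm _ i hE h⟩⟩

/-- A strictly full substack through which a functor factors by an equivalence is its essential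
image. -/
theorem eq_essIm (i : 𝒵 ⥤ᵇ 𝒳) (Q' : 𝒳.obj → Prop)
    (hcl : ObjectProperty.IsClosedUnderIsomorphisms Q')
    (i' : 𝒵 ⥤ᵇ AlgSt.fullSub 𝒳 Q') (hi' : IsEquivOver i')
    (e : i' ⊚ AlgSt.subIncl 𝒳 Q' ≅ i) : Q' = essIm i := by
  funext a
  apply propext
  constructor
  · intro ha
    obtain ⟨z, ε, -⟩ := ess_of_equiv i' hi' ⟨a, ha⟩
    exact ⟨z, ⟨(((BasedNatTrans.forgetful _ _).mapIso e).app z).symm ≪≫
      (AlgSt.subIncl 𝒳 Q').toFunctor.mapIso ε⟩⟩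
  · rintro ⟨z, ⟨φ⟩⟩
    exact ObjectProperty.IsClosedUnderIsomorphisms.of_iso
      ((((BasedNatTrans.forgetful _ _).mapIso e).app z) ≪≫ φ) (i'.toFunctor.obj z).property

end Groth.Agent.Lib.Helper27.ImmImage
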