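import Groth.Agent.Lib.Helper27.RepChart
import Groth.Agent.Lib.Helper27.QcStack
import Groth.Agent.Lib.Helper27.DiagLft
import Groth.Agent.Lib.Helper3.AlgSpUC3
import Groth.Agent.S10519
import Groth.Agent.Lib.Helper27.SepDiag
import Mathlib.AlgebraicGeometry.Noetherian
import Mathlib.AlgebraicGeometry.Morphisms.Immersion

/-!
# Immersions into locally Noetherian stacks are quasi-compact (helper27)
-/

set_option autoImplicit false
set_option backward.isDefEq.respectTransparency false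
set_option backward.isDefEq.respectTransparency.types false

universe u

open CategoryTheory CategoryTheory.Limits AlgebraicGeometry Opposite FibCat
  Groth.Agent.Lib.Helper27.FpKit Groth.Agent.Lib.Helper27.RepWithComp

namespace Groth.Agent.Lib.Helper27.ImmNoeth

theorem quasiCompact_of_isImmersion {X Y : Scheme.{u}} (f : X ⟶ Y) [IsImmersion f]
    [IsLocallyNoetherian Y] : QuasiCompact f := by
  rw [← f.liftCoborder_ι]
  infer_instance

variable {S : Scheme.{u}}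

theorem repWith_quasiCompact_of_immersion {F : AlgSp.Sp S} {V : Over S}
    (π : F ⟶ (AlgSp.yon S).obj V) (hπ : AlgSp.RepWith @IsImmersion π)
    (hV : IsLocallyNoetherian V.left) : AlgSp.RepWith @QuasiCompact π := by
  have hrep := hπ.rep
  have sq := hrep.isPullback (𝟙 ((AlgSp.yon S).obj V))
  have hiso : IsIso (hrep.fst (𝟙 ((AlgSp.yon S).obj V))) := sq.isIso_fst_of_isIso
  have hi : IsImmersion (hrep.snd (𝟙 ((AlgSp.yon S).obj V))).left := hπ.property _ _ _ sq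
  have hq : QuasiCompact (hrep.snd (𝟙 ((AlgSp.yon S).obj V))).left :=
    quasiCompact_of_isImmersion _
  have h1 : AlgSp.RepWith @QuasiCompact
      ((AlgSp.yon S).map (hrep.snd (𝟙 ((AlgSp.yon S).obj V)))) :=
    (AlgSp.repWith_yon_map_iff _ _).2 hq
  have h2 : π = inv (hrep.fst (𝟙 ((AlgSp.yon S).obj V))) ≫
      (AlgSp.yon S).map (hrep.snd (𝟙 ((AlgSp.yon S).obj V))) := by
    rw [IsIso.eq_inv_comp]
    simpa using sq.w
  rw [h2]
  exact MorphismProperty.RespectsIso.precomp _ _ _ h1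

theorem qc_stable ⦃X₁ Y₁ X₂ Y₂ : AlgSp.Sp S⦄ (_ : AlgSp.IsAlgSpace X₁)
    (_ : AlgSp.IsAlgSpace Y₁) (_ : AlgSp.IsAlgSpace X₂) (_ : AlgSp.IsAlgSpace Y₂)
    (a : X₁ ⟶ Y₁) (b : Y₂ ⟶ Y₁) (a' : X₂ ⟶ Y₂) (b' : X₂ ⟶ X₁) (sq : IsPullback b' a' a b)
    (ha : AlgSp.IsQuasiCompactMor a) : AlgSp.IsQuasiCompactMor a' :=
  Groth.Agent.Lib.Helper3.isQuasiCompactMor_of_isPullback sq ha

variable {𝒳 𝒴 : AlgSt.Cat S}

theorem repByAlgSpWith_qc_of_isImm (h𝒳 : FibCat.IsFibGrpd 𝒳.p) (h𝒴 : FibCat.IsFibGrpd 𝒴.p)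
    (j : 𝒳 ⥤ᵇ 𝒴) (hj : AlgSt.IsImm j) {V : Over S} (y : overCat V ⥤ᵇ 𝒴)
    (hy₁ : AlgSt.RepByAlgSpWith (AlgSp.LocP @Smooth) y)
    (hy₂ : AlgSt.RepByAlgSpWith AlgSp.IsSurjectiveMor y) (hV : IsLocallyNoetherian V.left) :
    AlgSt.RepByAlgSpWith AlgSp.IsQuasiCompactMor j := by
  have hP : AlgSp.IsLocalOnBase AlgSp.IsFppfCover (AlgSp.IsQuasiCompactMor (S := S)) :=
    isLocalOnBase_fppf_of_fpqc _ (Groth.Agent.S10519.result S)
  have hj1 : AlgSt.RepByAlgSp1 j :=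
    (Groth.Agent.Lib.Helper27.AlgStackEquiv.repByAlgSp1_iff _).2
      (Groth.Agent.Lib.Helper27.SepDiag.repByAlgSpWith_mono j (fun _ _ _ _ => trivial) hj)
  apply Groth.Agent.Lib.Helper27.DiagLft.repByAlgSpWith_of_fpFst_cover _ hP h𝒳 h𝒴
    (Groth.Agent.Lib.Helper27.ReprAux.isFibGrpd_overCat V) j hj1 y
    (Groth.Agent.Lib.Helper27.DiagLft.flat_of_smooth y hy₁)
    (Groth.Agent.Lib.Helper27.DiagLft.lfp_of_smooth y hy₁) hy₂
  obtain ⟨F, e, he, hπ⟩ := hj V y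
  apply Groth.Agent.Lib.Helper27.RepChart.repByAlgSpWith_of_struct _ qc_stable (fpFst y j) F e he
  exact Groth.Agent.Lib.Helper3.isQuasiCompactMor_of_repWith_quasiCompact _
    (repWith_quasiCompact_of_immersion _ hπ hV)

theorem isQuasiCompactMor_of_isImm (h𝒳 : AlgSt.IsAlgStack Scheme.fppfPrecoverage 𝒳)
    (h𝒴 : AlgSt.IsAlgStack Scheme.fppfPrecoverage 𝒴) (j : 𝒳 ⥤ᵇ 𝒴) (hj : AlgSt.IsImm j)
    (hN : AlgSt.SmoothLocally (fun T ↦ IsLocallyNoetherian T) 𝒴) :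
    AlgSt.IsQuasiCompactMor Scheme.fppfPrecoverage j := by
  obtain ⟨V, y, hy₁, hy₂⟩ := h𝒴.atlas
  exact Groth.Agent.Lib.Helper27.QcStack.isQuasiCompactMor_of_repByAlgSpWith j
    (repByAlgSpWith_qc_of_isImm h𝒳.isStack.1 h𝒴.isStack.1 j hj y hy₁ hy₂ (hN V y hy₁))

end Groth.Agent.Lib.Helper27.ImmNoeth
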