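import Groth.Prelude.Def_FibCat2
import Groth.Agent.Lib.Helper27.EquivOverAux
import Groth.Agent.Lib.Helper27.StackFp

/-!
# Inertia of categories fibred in groupoids (helper27)
-/

set_option autoImplicit false
set_option backward.isDefEq.respectTransparency false
set_option backward.isDefEq.respectTransparency.types false

universe v₄ u₄ v₃ u₃ v₂ u₂ v u

open CategoryTheory Groth.Agent.Lib.Helper27.DescentKit
  Groth.Agent.Lib.Helper16.FpFibGrpd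

namespace Groth.Agent.Lib.Helper27.InertiaAux

variable {C : Type u} [Category.{v} C] {𝒳 : BasedCategory.{v₂, u₂} C}

open FibCat

theorem map_eq_id_of_isHomLift {U : C} {x : 𝒳.obj} (α : x ⟶ x) (hα : 𝒳.p.IsHomLift (𝟙 U) α) :
    𝒳.p.map α = 𝟙 (𝒳.p.obj x) := by
  have hx : 𝒳.p.obj x = U := IsHomLift.domain_eq 𝒳.p (𝟙 U) α
  subst hx
  have := IsHomLift.fac 𝒳.p (𝟙 (𝒳.p.obj x)) α
  simpa using this.symm

theorem isFibSetoid_of_isEquivOver_inertiaToBase (h𝒳 : FibCat.IsFibGrpd 𝒳.p)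
    (h : FibCat.IsEquivOver (FibCat.inertiaToBase (FibCat.toSelf 𝒳))) :
    FibCat.IsFibSetoid 𝒳.p := by
  refine ⟨h𝒳, fun U => ?_⟩
  rw [Groth.Agent.Lib.Helper27.StackFp.thin_iff]
  intro x y φ ψ hφ hψ
  obtain ⟨⟨hfull, hfaith⟩, -⟩ :=
    (Groth.Agent.Lib.Helper27.EquivOverAux.isEquivOver_iff_ff_ess _).1 h
  haveI : IsIso ψ := FG.isIso h𝒳 ψ hψ
  have hinv : 𝒳.p.IsHomLift (𝟙 U) (inv ψ) := inferInstance
  have hα : 𝒳.p.IsHomLift (𝟙 U) (φ ≫ inv ψ) := by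
    have : 𝒳.p.IsHomLift (𝟙 U ≫ 𝟙 U) (φ ≫ inv ψ) := inferInstance
    simpa using this
  haveI : IsIso φ := FG.isIso h𝒳 φ hφ
  let a : (inertia (toSelf 𝒳)).obj :=
    ⟨x, asIso (φ ≫ inv ψ), map_eq_id_of_isHomLift _ hα⟩
  let b : (inertia (toSelf 𝒳)).obj := ⟨x, Iso.refl x, (toSelf 𝒳).map_id x⟩
  obtain ⟨k, hk⟩ := hfull.map_surjective (X := a) (Y := b) (𝟙 x)
  have hk' : k.hom = 𝟙 x := hk
  have hc := k.comm
  rw [hk'] at hc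
  have e : φ ≫ inv ψ = 𝟙 x := by simpa [a, b] using hc
  calc φ = (φ ≫ inv ψ) ≫ ψ := by simp
    _ = ψ := by rw [e, Category.id_comp]

end Groth.Agent.Lib.Helper27.InertiaAux

namespace Groth.Agent.Lib.Helper27.InertiaAux

variable {C : Type u} [Category.{v} C] {𝒳 : BasedCategory.{v₂, u₂} C}

open FibCat

theorem isHomLift_id_of_map_eq_id {x : 𝒳.obj} (α : x ⟶ x) (hα : 𝒳.p.map α = 𝟙 (𝒳.p.obj x)) :
    𝒳.p.IsHomLift (𝟙 (𝒳.p.obj x)) α := by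
  rw [← hα]
  infer_instance

theorem inertia_isHomLift_iff {a b : (inertia (toSelf 𝒳)).obj} (Φ : a ⟶ b) {V U : C} (f : V ⟶ U) :
    (inertia (toSelf 𝒳)).p.IsHomLift f Φ ↔ 𝒳.p.IsHomLift f Φ.hom :=
  (BasedFunctor.isHomLift_iff (inertiaToBase (toSelf 𝒳)) f Φ).symm

theorem isFibGrpd_inertia (h𝒳 : FibCat.IsFibGrpd 𝒳.p) :
    FibCat.IsFibGrpd (FibCat.inertia (FibCat.toSelf 𝒳)).p := by
  constructor
  · intro a V f
    obtain ⟨y, φ, hφ⟩ := h𝒳.exists_lift (x := a.pt) f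
    have hα : 𝒳.p.IsHomLift (𝟙 ((inertia (toSelf 𝒳)).p.obj a)) a.aut.hom :=
      isHomLift_id_of_map_eq_id _ a.map_aut
    have hφα : 𝒳.p.IsHomLift f (φ ≫ a.aut.hom) := inferInstance
    have hβl : 𝒳.p.IsHomLift (𝟙 V) (FG.lift h𝒳 f φ hφ (𝟙 V) (Category.id_comp _).symm
      (φ ≫ a.aut.hom) hφα) := FG.lift_isHomLift h𝒳 _ _ _ _ _ _ _
    have hβ : FG.lift h𝒳 f φ hφ (𝟙 V) (Category.id_comp _).symm (φ ≫ a.aut.hom) hφα ≫ φ =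
        φ ≫ a.aut.hom := FG.lift_fac h𝒳 _ _ _ _ _ _ _
    haveI : IsIso (FG.lift h𝒳 f φ hφ (𝟙 V) (Category.id_comp _).symm (φ ≫ a.aut.hom) hφα) :=
      FG.isIso h𝒳 _ hβl
    let b : (inertia (toSelf 𝒳)).obj :=
      ⟨y, asIso (FG.lift h𝒳 f φ hφ (𝟙 V) (Category.id_comp _).symm (φ ≫ a.aut.hom) hφα),
        map_eq_id_of_isHomLift _ hβl⟩
    let Φ : b ⟶ a := ⟨φ, hβ⟩
    exact ⟨b, Φ, (inertia_isHomLift_iff Φ f).2 hφ⟩
  · intro b a Φ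
    have hΦ : 𝒳.p.IsStronglyCartesian (𝒳.p.map Φ.hom) Φ.hom := h𝒳.isStronglyCartesian Φ.hom
    refine @Functor.IsStronglyCartesian.mk _ _ _ _ _ _ _ _ _ _ _ inferInstance ?_
    intro c g Ψ hΨ
    have hΨ' : 𝒳.p.IsHomLift (g ≫ 𝒳.p.map Φ.hom) Ψ.hom := (inertia_isHomLift_iff Ψ _).1 hΨ
    obtain ⟨χ₀, ⟨hχl, hχ⟩, huniq⟩ := hΦ.universal_property' g Ψ.hom
    have hγ : 𝒳.p.IsHomLift (𝟙 ((inertia (toSelf 𝒳)).p.obj c)) c.aut.hom :=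
      isHomLift_id_of_map_eq_id _ c.map_aut
    have hβ : 𝒳.p.IsHomLift (𝟙 ((inertia (toSelf 𝒳)).p.obj b)) b.aut.hom :=
      isHomLift_id_of_map_eq_id _ b.map_aut
    have h1 : 𝒳.p.IsHomLift g (c.aut.hom ≫ χ₀) := inferInstance
    have h2 : 𝒳.p.IsHomLift g (χ₀ ≫ b.aut.hom) := inferInstance
    have hcomm : c.aut.hom ≫ χ₀ = χ₀ ≫ b.aut.hom := by
      refine FG.cancel h𝒳 (𝒳.p.map Φ.hom) Φ.hom inferInstance g h1 h2 ?_
      rw [Category.assoc, Category.assoc, hχ, Ψ.comm, Φ.comm, ← Category.assoc, hχ]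
    refine ⟨⟨χ₀, hcomm⟩, ⟨(inertia_isHomLift_iff _ g).2 hχl, ?_⟩, ?_⟩
    · apply InertiaObj.hom_ext
      exact hχ
    · rintro χ' ⟨hχ'l, hχ'⟩
      apply InertiaObj.hom_ext
      apply huniq
      exact ⟨(inertia_isHomLift_iff χ' g).1 hχ'l, congrArg InertiaObj.Hom.hom hχ'⟩

end Groth.Agent.Lib.Helper27.InertiaAux
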