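import Groth.Agent.Lib.Helper27.SepDiag
import Groth.Agent.Lib.Helper27.InertiaDiag
import Groth.Agent.Lib.Helper27.SectionDiag
import Groth.Agent.Lib.Helper27.DiagCancel

/-!
# The relative inertia, its neutral section and the second diagonal (helper27)
-/

set_option autoImplicit false
set_option backward.isDefEq.respectTransparency false
set_option backward.isDefEq.respectTransparency.types false

universe u

open CategoryTheory CategoryTheory.Limits AlgebraicGeometry Opposite FibCat
  Groth.Agent.Lib.Helper27.FpKit Groth.Agent.Lib.Helper27.RepWithComp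
  Groth.Agent.Lib.Helper27.DiagRep Groth.Agent.Lib.Helper27.SepDiag
  Groth.Agent.Lib.Helper27.InertiaDiag

namespace Groth.Agent.Lib.Helper27.InertiaSep

variable {S : Scheme.{u}} {𝒳 𝒴 : AlgSt.Cat S} (f : 𝒳 ⥤ᵇ 𝒴)

/-- The neutral section is a section of the structure functor of the inertia. -/
def neutralSection :
    BasedFunctor.comp (inertiaNeutral f) (inertiaToBase f) ≅ BasedFunctor.id 𝒳 :=
  BasedNatIso.mkNatIso
    (NatIso.ofComponents (fun x => Iso.refl _)
      (fun α => (Category.comp_id _).trans (Category.id_comp _).symm))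
    (fun x => (Vert.id x).lift rfl)

/-- The structure functor of the inertia is the first projection of the self fibre product of the
diagonal. -/
def toBaseIso : BasedFunctor.comp (inertiaToBase f) (BasedFunctor.id 𝒳) ≅
    BasedFunctor.comp (E f) (fpFst (diag f) (diag f)) :=
  BasedNatIso.mkNatIso
    (NatIso.ofComponents (fun x => Iso.refl _)
      (fun α => (Category.comp_id _).trans (Category.id_comp _).symm))
    (fun x => (Vert.id x.pt).lift rfl)

/-- The comparison of the neutral section with the second diagonal, objectwise. -/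
def νObj (x : 𝒳.obj) : (E f).toFunctor.obj ((inertiaNeutral f).toFunctor.obj x) ≅
    (diag (diag f)).toFunctor.obj x :=
  mkIso (t := (E f).toFunctor.obj ((inertiaNeutral f).toFunctor.obj x))
    (t' := (diag (diag f)).toFunctor.obj x) (Iso.refl _) (Iso.refl _) (by
      apply Groth.Agent.Lib.Helper27.StackFp.hom_ext'
      · change 𝟙 x ≫ 𝟙 x = 𝟙 x ≫ 𝟙 x
        rfl
      · change 𝟙 x ≫ 𝟙 x = 𝟙 x ≫ 𝟙 x
        rfl)

theorem νObj_vert (x : 𝒳.obj) : Vert (νObj f x).hom := by
  rw [vert_hom_iff]
  exact Vert.id _

/-- The neutral section followed by the comparison functor is the second diagonal. -/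
def neutralIso : BasedFunctor.comp (inertiaNeutral f) (E f) ≅
    BasedFunctor.comp (BasedFunctor.id 𝒳) (diag (diag f)) :=
  BasedNatIso.mkNatIso
    (NatIso.ofComponents (fun x => νObj f x) (fun {x x'} m => by
      apply Groth.Agent.Lib.Helper27.StackFp.hom_ext'
      · exact (Category.comp_id _).trans (Category.id_comp _).symm
      · exact (Category.comp_id _).trans (Category.id_comp _).symm))
    (fun x => (νObj_vert f x).lift rfl)

theorem inertiaToBase_of_diag (P : MorphismProperty (AlgSp.Sp S))
    (h : AlgSt.RepByAlgSpWith P (diag f)) : AlgSt.RepByAlgSpWith P (inertiaToBase f) :=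
  Groth.Agent.Lib.Helper27.RepWithGeneral.repByAlgSpWith_of_equiv P (fpFst (diag f) (diag f))
    (inertiaToBase f) (E f) (BasedFunctor.id 𝒳) (isEquivOver_E f) (isEquivOver_id _)
    (toBaseIso f)
    (Groth.Agent.Lib.Helper27.RepWithGeneral.repByAlgSpWith_fpFst P (diag f) (diag f) h)

theorem neutral_of_diag_diag (P : MorphismProperty (AlgSp.Sp S))
    (h : AlgSt.RepByAlgSpWith P (diag (diag f))) : AlgSt.RepByAlgSpWith P (inertiaNeutral f) :=
  Groth.Agent.Lib.Helper27.RepWithGeneral.repByAlgSpWith_of_equiv P (diag (diag f))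
    (inertiaNeutral f) (BasedFunctor.id 𝒳) (E f) (isEquivOver_id _) (isEquivOver_E f)
    (neutralIso f) h

theorem diag_diag_of_neutral (P : MorphismProperty (AlgSp.Sp S))
    (h : AlgSt.RepByAlgSpWith P (inertiaNeutral f)) : AlgSt.RepByAlgSpWith P (diag (diag f)) :=
  Groth.Agent.Lib.Helper27.RepWithGeneral.repByAlgSpWith_of_equiv' P (diag (diag f))
    (inertiaNeutral f) (BasedFunctor.id 𝒳) (E f) (isEquivOver_id _) (isEquivOver_E f)
    (neutralIso f) h

theorem neutral_of_diag_toBase (P : MorphismProperty (AlgSp.Sp S))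
    (h : AlgSt.RepByAlgSpWith P (diag (inertiaToBase f))) :
    AlgSt.RepByAlgSpWith P (inertiaNeutral f) :=
  Groth.Agent.Lib.Helper27.SectionDiag.repByAlgSpWith_section P (inertiaToBase f)
    (inertiaNeutral f) (neutralSection f) h

end Groth.Agent.Lib.Helper27.InertiaSep
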