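import Groth.Prelude.Def_AlgSt4
import Groth.Prelude.Def_W4c2isonaturalstkIso

/-!
# Points of categories over `(Sch/S)` and isomorphisms of presheaves of isomorphism classes (helper27)

An `IsoNat.FIso 𝒳 𝒴` induces a surjection `|𝒳| → |𝒴|` on spaces of points, compatible with the maps
induced by functors related by an `IsoNat.FIsoSq`.
-/

set_option autoImplicit false
set_option backward.isDefEq.respectTransparency false
set_option backward.isDefEq.respectTransparency.types false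

universe u

open CategoryTheory AlgebraicGeometry

namespace Groth.Agent.Lib.Helper27.IsoNatPoints

variable {S : Scheme.{u}} {𝒳 𝒴 𝒳' 𝒴' : AlgSt.Cat S}

/-- The fibre object of a field-valued point. -/
def fib (p : AlgSt.FPt 𝒳) : 𝒳.p.Fiber (Over.mk p.str) := ⟨p.obj, p.lies⟩

/-- A point from a fibre object over the spectrum of a field. -/
def pt (K : Type u) [Field K] (str : Spec (CommRingCat.of K) ⟶ S) (x : 𝒳.p.Fiber (Over.mk str)) :
    AlgSt.FPt 𝒳 :=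
  { K := K, str := str, obj := x.1, lies := x.2 }

theorem cls_eq_iff {T : Over S} (x y : 𝒳.p.Fiber T) :
    IsoNat.cls x = IsoNat.cls y ↔ Nonempty (x ≅ y) :=
  Quotient.eq (r := isIsomorphicSetoid (𝒳.p.Fiber T))

/-- A representative of a class. -/
noncomputable def rep {T : Over S} (c : IsoNat.IsoCl 𝒳 T) : 𝒳.p.Fiber T :=
  Quotient.out (s := isIsomorphicSetoid (𝒳.p.Fiber T)) c

theorem cls_rep {T : Over S} (c : IsoNat.IsoCl 𝒳 T) : IsoNat.cls (rep c) = c :=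
  Quotient.out_eq (s := isIsomorphicSetoid (𝒳.p.Fiber T)) c

theorem rel_of_iso (K : Type u) [Field K] (str : Spec (CommRingCat.of K) ⟶ S)
    (x y : 𝒳.p.Fiber (Over.mk str)) (e : x ≅ y) : AlgSt.FPt.Rel (pt K str x) (pt K str y) :=
  ⟨pt K str x, 𝟙 _, e.hom.1, trivial⟩

theorem mk_eq_of_cls (K : Type u) [Field K] (str : Spec (CommRingCat.of K) ⟶ S)
    (x y : 𝒳.p.Fiber (Over.mk str)) (h : IsoNat.cls x = IsoNat.cls y) :
    AlgSt.Points.mk (pt K str x) = AlgSt.Points.mk (pt K str y) := by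
  obtain ⟨e⟩ := (cls_eq_iff x y).1 h
  exact AlgSt.Points.sound (rel_of_iso K str x y e)

/-- The transported point. -/
noncomputable def tr (φ : IsoNat.FIso 𝒳 𝒴) (p : AlgSt.FPt 𝒳) : AlgSt.FPt 𝒴 :=
  pt p.K p.str (rep (φ.toEquiv (Over.mk p.str) (IsoNat.cls (fib p))))

theorem exists_hom_tr (φ : IsoNat.FIso 𝒳 𝒴) (p q : AlgSt.FPt 𝒳) (a : p.obj ⟶ q.obj) :
    Nonempty ((tr φ p).obj ⟶ (tr φ q).obj) := by
  let g : Over.mk p.str ⟶ Over.mk q.str := eqToHom p.lies.symm ≫ 𝒳.p.map a ≫ eqToHom q.lies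
  have hg : 𝒳.p.IsHomLift g a := IsHomLift.of_fac 𝒳.p g a p.lies q.lies rfl
  obtain ⟨y', y, b, hb, h1, h2⟩ := φ.natural g (fib p) (fib q) a hg
  obtain ⟨e1⟩ := (cls_eq_iff _ _).1 ((cls_rep _).trans h1)
  obtain ⟨e2⟩ := (cls_eq_iff _ _).1 ((cls_rep _).trans h2)
  exact ⟨e1.hom.1 ≫ b ≫ e2.inv.1⟩

theorem rel_tr (φ : IsoNat.FIso 𝒳 𝒴) {p q : AlgSt.FPt 𝒳} (h : AlgSt.FPt.Rel p q) :
    AlgSt.FPt.Rel (tr φ p) (tr φ q) := by
  obtain ⟨r, a, b, -⟩ := h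
  obtain ⟨a'⟩ := exists_hom_tr φ r p a
  obtain ⟨b'⟩ := exists_hom_tr φ r q b
  exact ⟨tr φ r, a', b', trivial⟩

/-- The map on points induced by an isomorphism of presheaves of isomorphism classes. -/
noncomputable def trPts (φ : IsoNat.FIso 𝒳 𝒴) : AlgSt.Points 𝒳 → AlgSt.Points 𝒴 :=
  Quot.lift (fun p => AlgSt.Points.mk (tr φ p)) (fun _ _ h => AlgSt.Points.sound (rel_tr φ h))

theorem trPts_mk (φ : IsoNat.FIso 𝒳 𝒴) (p : AlgSt.FPt 𝒳) :
    trPts φ (AlgSt.Points.mk p) = AlgSt.Points.mk (tr φ p) := rfl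

theorem trPts_surjective (φ : IsoNat.FIso 𝒳 𝒴) : Function.Surjective (trPts φ) := by
  intro q'
  obtain ⟨p', rfl⟩ := AlgSt.Points.mk_surjective q'
  let c : IsoNat.IsoCl 𝒳 (Over.mk p'.str) := (φ.toEquiv (Over.mk p'.str)).symm (IsoNat.cls (fib p'))
  refine ⟨AlgSt.Points.mk (pt p'.K p'.str (rep c)), ?_⟩
  rw [trPts_mk]
  have h : IsoNat.cls (rep (φ.toEquiv (Over.mk p'.str) (IsoNat.cls (rep c)))) = IsoNat.cls (fib p') := by
    rw [cls_rep, cls_rep]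
    exact (φ.toEquiv (Over.mk p'.str)).apply_symm_apply _
  exact mk_eq_of_cls p'.K p'.str _ _ h

theorem mapCls_cls {f : 𝒳 ⥤ᵇ 𝒴} (p : AlgSt.FPt 𝒳) :
    IsoNat.mapCls f (Over.mk p.str) (IsoNat.cls (fib p)) = IsoNat.cls (fib (p.map f)) := rfl

theorem comm {f : 𝒳 ⥤ᵇ 𝒴} {f' : 𝒳' ⥤ᵇ 𝒴'} (φ : IsoNat.FIsoSq f f') (p : AlgSt.Points 𝒳) :
    trPts φ.tgt (AlgSt.Points.map f p) = AlgSt.Points.map f' (trPts φ.src p) := by
  obtain ⟨p, rfl⟩ := AlgSt.Points.mk_surjective p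
  rw [AlgSt.Points.map_mk, trPts_mk, trPts_mk, AlgSt.Points.map_mk]
  have h : IsoNat.cls (rep (φ.tgt.toEquiv (Over.mk p.str) (IsoNat.cls (fib (p.map f))))) =
      IsoNat.cls (fib ((tr φ.src p).map f')) := by
    rw [cls_rep, ← mapCls_cls, φ.comm]
    have h2 : φ.src.toEquiv (Over.mk p.str) (IsoNat.cls (fib p)) = IsoNat.cls (fib (tr φ.src p)) :=
      (cls_rep _).symm
    rw [h2]
    rfl
  exact mk_eq_of_cls p.K p.str _ _ h

theorem isSurjective_of_fIsoSq {f : 𝒳 ⥤ᵇ 𝒴} {f' : 𝒳' ⥤ᵇ 𝒴'} (φ : IsoNat.FIsoSq f f')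
    (hf : AlgSt.IsSurjective f) : AlgSt.IsSurjective f' := by
  intro q'
  obtain ⟨q, rfl⟩ := trPts_surjective φ.tgt q'
  obtain ⟨p, rfl⟩ := hf q
  exact ⟨trPts φ.src p, (comm φ p).symm⟩

end Groth.Agent.Lib.Helper27.IsoNatPoints
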