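import Groth.Agent.Lib.Helper27.IsoNatPoints
import Groth.Agent.Lib.Helper27.QcPoints
import Groth.Agent.Lib.Helper27.QcStack
import Groth.Agent.Lib.Helper27.StPointsSurj
import Groth.Agent.Lib.Helper27.TwoYonedaFib

/-!
# Quasi-compactness is detected by the presheaf of isomorphism classes (helper27)
-/

set_option autoImplicit false
set_option backward.isDefEq.respectTransparency false
set_option backward.isDefEq.respectTransparency.types false

universe u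

open CategoryTheory CategoryTheory.Limits FibCat AlgebraicGeometry CategoryTheory.Functor

namespace Groth.Agent.Lib.Helper27.IsoNatQc

open Groth.Agent.Lib.Helper27.IsoNatPoints Groth.Agent.Lib.Helper27.StPoints
  Groth.Agent.Lib.Helper27.TwoYonedaFib

variable {S : Scheme.{u}} {𝒳 𝒴 : AlgSt.Cat S}

/-- The chart of `𝒴` corresponding to a chart of `𝒳`: on points it is the transport of the
chart of `𝒳`. -/
theorem exists_chart (φ : IsoNat.FIso 𝒳 𝒴) (h𝒴 : FibCat.IsFibGrpd 𝒴.p) {U : Over S}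
    (x : overCat U ⥤ᵇ 𝒳) :
    ∃ y : overCat U ⥤ᵇ 𝒴, ∀ w : AlgSt.Points (overCat U),
      trPts φ (AlgSt.Points.map x w) = AlgSt.Points.map y w := by
  haveI := isFibered_of_isFibGrpd h𝒴
  let t' : 𝒴.p.Fiber U := rep (φ.toEquiv U (IsoNat.objCls x))
  refine ⟨cFun U t'.1 t'.2, fun w => ?_⟩
  obtain ⟨w₀, rfl⟩ := AlgSt.Points.mk_surjective w
  rw [AlgSt.Points.map_mk, trPts_mk, AlgSt.Points.map_mk]
  apply AlgSt.Points.sound
  -- notation
  let g : Over U := w₀.obj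
  let T' : Over S := Over.mk w₀.str
  have hg : g.left = T' := w₀.lies
  let top : Over U := Over.mk (𝟙 U)
  let toTop : g ⟶ top := Over.homMk g.hom (Category.comp_id _)
  let a : x.obj g ⟶ x.obj top := x.toFunctor.map toTop
  have hμ : (overCat U).p.IsHomLift g.hom toTop :=
    inferInstanceAs ((overCat U).p.IsHomLift ((overCat U).p.map toTop) _)
  have hl : 𝒳.p.IsHomLift g.hom a := inferInstance
  let ĝ : T' ⟶ U := eqToHom hg.symm ≫ g.hom
  have hl' : 𝒳.p.IsHomLift ĝ a := by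
    have h1 : 𝒳.p.obj (x.obj g) = T' := (x.w_obj g).trans hg
    have h2 : 𝒳.p.obj (x.obj top) = U := x.w_obj top
    refine IsHomLift.of_fac 𝒳.p ĝ a h1 h2 ?_
    have := IsHomLift.fac' 𝒳.p g.hom a
    rw [this]
    simp [ĝ]
  obtain ⟨y₁', y₁, b, hb, h1, h2⟩ := φ.natural ĝ ⟨x.obj g, (x.w_obj g).trans hg⟩
    ⟨x.obj top, x.w_obj top⟩ a hl'
  obtain ⟨e1⟩ := (cls_eq_iff _ _).1 ((cls_rep _).trans h1)
  obtain ⟨e2⟩ := (cls_eq_iff _ _).1 (h2.symm.trans (cls_rep (φ.toEquiv U (IsoNat.objCls x))).symm)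
  let m : (tr φ (w₀.map x)).obj ⟶ t'.1 := e1.hom.1 ≫ b ≫ e2.hom.1
  haveI : 𝒴.p.IsHomLift (𝟙 T') e1.hom.1 := e1.hom.2
  haveI : 𝒴.p.IsHomLift (𝟙 U) e2.hom.1 := e2.hom.2
  haveI : 𝒴.p.IsHomLift ĝ b := hb
  haveI hm : 𝒴.p.IsHomLift ĝ m := by
    have : 𝒴.p.IsHomLift (𝟙 T' ≫ ĝ ≫ 𝟙 U) m := inferInstance
    simpa using this
  let m' : (tr φ (w₀.map x)).obj ⟶ cObj U t'.1 t'.2 g :=
    IsStronglyCartesian.map 𝒴.p g.hom (cHom U t'.1 t'.2 g) (g := eqToHom hg.symm) rfl m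
  exact rel_of_hom (p := tr φ (w₀.map x)) (q := w₀.map (cFun U t'.1 t'.2)) m'

/-- **Quasi-compactness is detected by the presheaf of isomorphism classes.** -/
theorem isQuasiCompact_of_fIso (h𝒳 : AlgSt.IsAlgStack Scheme.fppfPrecoverage 𝒳)
    (h𝒴 : AlgSt.IsAlgStack Scheme.fppfPrecoverage 𝒴) (φ : IsoNat.FIso 𝒳 𝒴)
    (hqc : AlgSt.IsQuasiCompact 𝒳) : AlgSt.IsQuasiCompact 𝒴 := by
  obtain ⟨U, x, hU, hsm, hsj⟩ := hqc
  have hfU := Groth.Agent.Lib.Helper27.ReprAux.isFibGrpd_overCat U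
  have hx : AlgSt.IsSurjective x := isSurjective_of_rep hfU h𝒳.isStack.1 x hsj
  obtain ⟨y, hy⟩ := exists_chart φ h𝒴.isStack.1 x
  have hys : AlgSt.IsSurjective y := fun q => by
    obtain ⟨p, rfl⟩ := trPts_surjective φ q
    obtain ⟨w, rfl⟩ := hx p
    exact ⟨w, (hy w).symm⟩
  exact Groth.Agent.Lib.Helper27.QcImage.isQuasiCompact_of_isSurjective hfU h𝒴 y hys
    (Groth.Agent.Lib.Helper27.QcStack.isQuasiCompact_overCat U hU)

end Groth.Agent.Lib.Helper27.IsoNatQc
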