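import Groth.Agent.Lib.Helper27.QcOpenCrit
import Groth.Agent.Lib.Helper27.IsoNatQc

/-!
# Quasi-compactness of functors is detected by the presheaves of isomorphism classes (helper27)
-/

set_option autoImplicit false
set_option backward.isDefEq.respectTransparency false
set_option backward.isDefEq.respectTransparency.types false

universe u

open CategoryTheory CategoryTheory.Limits FibCat AlgebraicGeometry Opposite
  Groth.Agent.Lib.Helper27.FpKit Groth.Agent.Lib.Helper27.PointsKit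
  Groth.Agent.Lib.Helper27.StPoints Groth.Agent.Lib.Helper27.OpenSub
  Groth.Agent.Lib.Helper27.IsoNatPoints

namespace Groth.Agent.Lib.Helper27.IsoNatQcMor

variable {S : Scheme.{u}} {𝒳 𝒴 𝒳' 𝒴' 𝒵 : AlgSt.Cat S}

section Symm

/-- An isomorphism in a fibre category from a vertical isomorphism. -/
def fiberIso {T : Over S} (a b : 𝒳.p.Fiber T) (e : a.1 ≅ b.1) (h : Vert e.hom) : a ≅ b where
  hom := ⟨e.hom, h.lift a.2⟩
  inv := ⟨e.inv, (Vert.inv h).lift b.2⟩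
  hom_inv_id := Subtype.ext e.hom_inv_id
  inv_hom_id := Subtype.ext e.inv_hom_id

/-- The inverse of an isomorphism of presheaves of isomorphism classes of categories fibred in
groupoids. -/
noncomputable def symm (φ : IsoNat.FIso 𝒳 𝒴) (h𝒳 : FibCat.IsFibGrpd 𝒳.p)
    (h𝒴 : FibCat.IsFibGrpd 𝒴.p) : IsoNat.FIso 𝒴 𝒳 where
  toEquiv T := (φ.toEquiv T).symm
  natural := by
    intro T' T g y' y b hb
    haveI := isFibered_of_isFibGrpd h𝒳
    obtain ⟨x, hxdef⟩ : ∃ x : 𝒳.p.Fiber T, x = rep ((φ.toEquiv T).symm (IsoNat.cls y)) :=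
      ⟨_, rfl⟩
    have hx : φ.toEquiv T (IsoNat.cls x) = IsoNat.cls y := by
      rw [hxdef, cls_rep]
      exact Equiv.apply_symm_apply _ _
    let a : Functor.IsPreFibered.pullbackObj x.2 g ⟶ x.1 := Functor.IsPreFibered.pullbackMap x.2 g
    have ha : 𝒳.p.IsHomLift g a := inferInstance
    let x' : 𝒳.p.Fiber T' :=
      ⟨Functor.IsPreFibered.pullbackObj x.2 g, IsHomLift.domain_eq 𝒳.p g a⟩
    obtain ⟨y₁', y₁, b₁, hb₁, h1, h2⟩ := φ.natural g x' x a ha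
    obtain ⟨e⟩ := (cls_eq_iff _ _).1 (h2.symm.trans hx)
    haveI : 𝒴.p.IsHomLift g b := hb
    haveI : 𝒴.p.IsHomLift g b₁ := hb₁
    haveI : 𝒴.p.IsHomLift (𝟙 T) e.hom.1 := e.hom.2
    haveI : 𝒴.p.IsHomLift g (b₁ ≫ e.hom.1) := by
      have : 𝒴.p.IsHomLift (g ≫ 𝟙 T) (b₁ ≫ e.hom.1) := inferInstance
      simpa using this
    obtain ⟨ε, hε, -⟩ := exists_vert_iso h𝒴 g (b₁ ≫ e.hom.1) b
    have h3 : IsoNat.cls y₁' = IsoNat.cls y' := (cls_eq_iff _ _).2 ⟨fiberIso y₁' y' ε hε⟩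
    refine ⟨x', x, a, ha, ?_, ?_⟩
    · rw [Equiv.symm_apply_eq, h1, h3]
    · rw [Equiv.symm_apply_eq]
      exact hx.symm

theorem trPts_trPts (φ : IsoNat.FIso 𝒳 𝒴) (ψ : IsoNat.FIso 𝒴 𝒳)
    (h : ∀ (T : Over S) (c : IsoNat.IsoCl 𝒳 T), ψ.toEquiv T (φ.toEquiv T c) = c)
    (p : AlgSt.Points 𝒳) : trPts ψ (trPts φ p) = p := by
  obtain ⟨p, rfl⟩ := AlgSt.Points.mk_surjective p
  rw [trPts_mk, trPts_mk]
  have h1 : IsoNat.cls (rep (ψ.toEquiv (Over.mk p.str) (IsoNat.cls (fib (tr φ p))))) =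
      IsoNat.cls (fib p) := by
    rw [cls_rep]
    have h2 : IsoNat.cls (fib (tr φ p)) = φ.toEquiv (Over.mk p.str) (IsoNat.cls (fib p)) :=
      cls_rep _
    rw [h2, h]
  exact mk_eq_of_cls p.K p.str _ _ h1

theorem trPts_symm_trPts (φ : IsoNat.FIso 𝒳 𝒴) (h𝒳 : FibCat.IsFibGrpd 𝒳.p)
    (h𝒴 : FibCat.IsFibGrpd 𝒴.p) (p : AlgSt.Points 𝒳) :
    trPts (symm φ h𝒳 h𝒴) (trPts φ p) = p :=
  trPts_trPts φ (symm φ h𝒳 h𝒴) (fun T c => (φ.toEquiv T).symm_apply_apply c) p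

theorem trPts_trPts_symm (φ : IsoNat.FIso 𝒳 𝒴) (h𝒳 : FibCat.IsFibGrpd 𝒳.p)
    (h𝒴 : FibCat.IsFibGrpd 𝒴.p) (q : AlgSt.Points 𝒴) :
    trPts φ (trPts (symm φ h𝒳 h𝒴) q) = q :=
  trPts_trPts (symm φ h𝒳 h𝒴) φ (fun T c => (φ.toEquiv T).apply_symm_apply c) q

end Symm

/-- The map on points induced by an isomorphism of presheaves of isomorphism classes is
continuous. -/
theorem continuous_trPts (φ : IsoNat.FIso 𝒳 𝒴)
    (h𝒴 : AlgSt.IsAlgStack Scheme.fppfPrecoverage 𝒴) : Continuous (trPts φ) := by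
  rw [continuous_def]
  intro W hW U x _
  obtain ⟨y, hy⟩ := Groth.Agent.Lib.Helper27.IsoNatQc.exists_chart φ h𝒴.isStack.1 x
  have h1 := (continuous_ofChart h𝒴 y).isOpen_preimage W hW
  have h2 : AlgSt.Points.ofChart y ⁻¹' W = AlgSt.Points.ofChart x ⁻¹' (trPts φ ⁻¹' W) := by
    ext t
    change AlgSt.Points.ofChart y t ∈ W ↔ trPts φ (AlgSt.Points.ofChart x t) ∈ W
    rw [ofChart_eq, ofChart_eq, hy]
  rw [← h2]
  exact h1

/-- Quasi-compactness of corresponding open substacks is detected by the presheaf of isomorphism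
classes. -/
theorem isQuasiCompact_sub_of_fIso (h𝒳 : AlgSt.IsAlgStack Scheme.fppfPrecoverage 𝒳)
    (h𝒳' : AlgSt.IsAlgStack Scheme.fppfPrecoverage 𝒳') (φ : IsoNat.FIso 𝒳 𝒳')
    (V : Set (AlgSt.Points 𝒳)) (V' : Set (AlgSt.Points 𝒳')) (hV : IsOpen V) (hV' : IsOpen V')
    (hVV' : trPts φ '' V = V') (hq : AlgSt.IsQuasiCompact (AlgSt.fullSub 𝒳 (QW V))) :
    AlgSt.IsQuasiCompact (AlgSt.fullSub 𝒳' (QW V')) := by
  have hQ := isOpenSubstack_QW h𝒳 V hV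
  have hQ' := isOpenSubstack_QW h𝒳' V' hV'
  obtain ⟨U, u, hU, -, hsj⟩ := hq
  have hfU := Groth.Agent.Lib.Helper27.ReprAux.isFibGrpd_overCat U
  have hu : AlgSt.IsSurjective u := isSurjective_of_rep hfU hQ.2.1.isStack.1 u hsj
  obtain ⟨x', hx'⟩ := Groth.Agent.Lib.Helper27.IsoNatQc.exists_chart φ h𝒳'.isStack.1
    (BasedFunctor.comp u (AlgSt.subIncl 𝒳 (QW V)))
  have hr : Set.range (AlgSt.Points.map x') ⊆ V' := by
    rintro _ ⟨w, rfl⟩
    rw [← hx' w, ← hVV', map_comp]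
    exact ⟨_, (range_subIncl_QW V).subset ⟨_, rfl⟩, rfl⟩
  have hx'Q : ∀ b, QW V' (x'.toFunctor.obj b) := fun b =>
    QW_mono hr _ (QW_range_obj hfU h𝒳'.isStack.1 x' b)
  have hinj := map_subIncl_injective h𝒳'.isStack.1 (QW V') (QW_pull V')
  have hs : AlgSt.IsSurjective (liftSub (QW V') x' hx'Q) := by
    intro p'
    have hp' : AlgSt.Points.map (AlgSt.subIncl 𝒳' (QW V')) p' ∈ V' :=
      (range_subIncl_QW V').subset ⟨p', rfl⟩
    have hsub : V' ⊆ trPts φ '' V := hVV'.symm.subset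
    obtain ⟨v, hv, hvp⟩ := hsub hp'
    obtain ⟨q, rfl⟩ := (range_subIncl_QW V).symm.subset hv
    obtain ⟨w, rfl⟩ := hu q
    refine ⟨w, hinj ?_⟩
    rw [← map_comp, liftSub_comp, ← hvp, ← hx' w, map_comp]
  exact Groth.Agent.Lib.Helper27.QcImage.isQuasiCompact_of_isSurjective hfU hQ'.2.1 _ hs
    (Groth.Agent.Lib.Helper27.QcStack.isQuasiCompact_overCat U hU)

section Pre

variable (Q : 𝒳.obj → Prop) (f : 𝒳 ⥤ᵇ 𝒴) (g : 𝒵 ⥤ᵇ 𝒴) (hg : ∀ t : (fp g f).obj, Q t.obj.snd)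

include hg in
theorem isSurjective_mapSnd :
    AlgSt.IsSurjective (Groth.Agent.Lib.Helper27.FpBaseChange.mapSnd g f (AlgSt.subIncl 𝒳 Q)) := by
  intro x
  obtain ⟨p, rfl⟩ := AlgSt.Points.mk_surjective x
  let o : (fp g (BasedFunctor.comp (AlgSt.subIncl 𝒳 Q) f)).obj :=
    mkObj (F := g) (G := BasedFunctor.comp (AlgSt.subIncl 𝒳 Q) f) p.obj.obj.fst
      ⟨p.obj.obj.snd, hg p.obj⟩ p.obj.obj.iso (vert_iso p.obj)
  let p' : AlgSt.FPt (fp g (BasedFunctor.comp (AlgSt.subIncl 𝒳 Q) f)) :=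
    { K := p.K, str := p.str, obj := o, lies := p.lies }
  refine ⟨AlgSt.Points.mk p', ?_⟩
  rw [AlgSt.Points.map_mk]
  have hw : g.toFunctor.map (Iso.refl p.obj.obj.fst).hom ≫ p.obj.obj.iso.hom =
      ((Groth.Agent.Lib.Helper27.FpBaseChange.mapSnd g f
        (AlgSt.subIncl 𝒳 Q)).toFunctor.obj o).obj.iso.hom ≫
        f.toFunctor.map (Iso.refl p.obj.obj.snd).hom := by
    rw [Groth.Agent.Lib.Helper27.FpBaseChange.mapSnd_iso_hom]
    change g.toFunctor.map (𝟙 _) ≫ p.obj.obj.iso.hom = p.obj.obj.iso.hom ≫ f.toFunctor.map (𝟙 _)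
    rw [CategoryTheory.Functor.map_id, CategoryTheory.Functor.map_id, Category.id_comp,
      Category.comp_id]
  exact AlgSt.Points.sound (rel_of_hom (p := p'.map _) (q := p)
    (mkIso (t := (Groth.Agent.Lib.Helper27.FpBaseChange.mapSnd g f
        (AlgSt.subIncl 𝒳 Q)).toFunctor.obj o) (t' := p.obj)
      (Iso.refl p.obj.obj.fst) (Iso.refl p.obj.obj.snd) hw).hom)

end Pre

/-- A functor to an algebraic stack with quasi-compact diagonal is quasi-compact as soon as the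
preimages of quasi-compact open substacks are quasi-compact. -/
theorem isQuasiCompactMor_of_preimage [QuasiSeparatedSpace S]
    (h𝒳 : AlgSt.IsAlgStack Scheme.fppfPrecoverage 𝒳)
    (h𝒴 : AlgSt.IsAlgStack Scheme.fppfPrecoverage 𝒴)
    (hd : AlgSt.RepByAlgSpWith AlgSp.IsQuasiCompactMor (FibCat.diag (FibCat.toSelf 𝒴)))
    (f : 𝒳 ⥤ᵇ 𝒴)
    (H : ∀ W : Set (AlgSt.Points 𝒴), IsOpen W → AlgSt.IsQuasiCompact (AlgSt.fullSub 𝒴 (QW W)) →
      AlgSt.IsQuasiCompact (AlgSt.fullSub 𝒳 (QW (AlgSt.Points.map f ⁻¹' W)))) :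
    AlgSt.IsQuasiCompactMor Scheme.fppfPrecoverage f := by
  intro 𝒵 h𝒵 h𝒵q g
  have hc : CompactSpace (AlgSt.Points 𝒵) := (isQuasiCompact_iff_compactSpace h𝒵).1 h𝒵q
  have hK : IsCompact (Set.range (AlgSt.Points.map g)) := isCompact_range (continuous_map h𝒴 g)
  obtain ⟨W, hWo, hKW, hWq⟩ :=
    Groth.Agent.Lib.Helper27.QcOpenCrit.exists_qc_open h𝒴 _ hK
  have hV : IsOpen (AlgSt.Points.map f ⁻¹' W) := (continuous_map h𝒴 f).isOpen_preimage W hWo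
  have hQ' := isOpenSubstack_QW h𝒳 _ hV
  have h𝒫q := H W hWo hWq
  have h1 : AlgSt.IsQuasiCompact
      (fp g (BasedFunctor.comp (AlgSt.subIncl 𝒳 (QW (AlgSt.Points.map f ⁻¹' W))) f)) :=
    Groth.Agent.Lib.Helper27.QcOpenCrit.isQuasiCompact_fp_of_diag h𝒵 hQ'.2.1 hd g _ h𝒵q h𝒫q
  have hgW : ∀ z, QW W (g.toFunctor.obj z) := fun z =>
    QW_mono hKW _ (QW_range_obj h𝒵.isStack.1 h𝒴.isStack.1 g z)
  have hg : ∀ t : (fp g f).obj, QW (AlgSt.Points.map f ⁻¹' W) t.obj.snd := by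
    rintro t q ⟨ψ⟩
    exact hgW t.obj.fst (q.map f) ⟨f.toFunctor.map ψ ≫ t.obj.iso.inv⟩
  exact Groth.Agent.Lib.Helper27.QcImage.isQuasiCompact_of_isSurjective
    (Groth.Agent.Lib.Helper27.FpFib.isFibGrpd_fp _ _ h𝒵.isStack.1 hQ'.2.1.isStack.1 h𝒴.isStack.1)
    (Groth.Agent.Lib.Helper27.AlgStackFp.isAlgStack_fp _ _ h𝒴.isStack h𝒴.diag h𝒵 h𝒳)
    _ (isSurjective_mapSnd _ f g hg) h1

/-- The preimage of a quasi-compact open substack under a quasi-compact functor is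
quasi-compact. -/
theorem isQuasiCompact_preimage
    (h𝒳 : AlgSt.IsAlgStack Scheme.fppfPrecoverage 𝒳)
    (h𝒴 : AlgSt.IsAlgStack Scheme.fppfPrecoverage 𝒴) (f : 𝒳 ⥤ᵇ 𝒴)
    (hf : AlgSt.IsQuasiCompactMor Scheme.fppfPrecoverage f)
    (W : Set (AlgSt.Points 𝒴)) (hW : IsOpen W)
    (hq : AlgSt.IsQuasiCompact (AlgSt.fullSub 𝒴 (QW W))) :
    AlgSt.IsQuasiCompact (AlgSt.fullSub 𝒳 (QW (AlgSt.Points.map f ⁻¹' W))) := by
  have hQ := isOpenSubstack_QW h𝒴 W hW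
  have hV : IsOpen (AlgSt.Points.map f ⁻¹' W) := (continuous_map h𝒴 f).isOpen_preimage W hW
  have hQ' := isOpenSubstack_QW h𝒳 _ hV
  have h1 := hf _ hQ.2.1 hq (AlgSt.subIncl 𝒴 (QW W))
  have hmem : ∀ t : (fp (AlgSt.subIncl 𝒴 (QW W)) f).obj,
      QW (AlgSt.Points.map f ⁻¹' W) ((fpSnd (AlgSt.subIncl 𝒴 (QW W)) f).toFunctor.obj t) := by
    rintro t q ⟨ψ⟩
    exact t.obj.fst.property (q.map f) ⟨f.toFunctor.map ψ ≫ t.obj.iso.inv⟩
  have hF : AlgSt.IsSurjective (liftSub (QW (AlgSt.Points.map f ⁻¹' W))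
      (fpSnd (AlgSt.subIncl 𝒴 (QW W)) f) hmem) := by
    intro x
    obtain ⟨p, rfl⟩ := AlgSt.Points.mk_surjective x
    have hfξ : QW W (f.toFunctor.obj p.obj.obj) := by
      rintro r ⟨ψ⟩
      have h2 : AlgSt.Points.mk r =
          AlgSt.Points.mk ((p.map (AlgSt.subIncl 𝒳 (QW (AlgSt.Points.map f ⁻¹' W)))).map f) :=
        AlgSt.Points.sound (rel_of_hom ψ)
      rw [h2]
      exact p.obj.property (p.map (AlgSt.subIncl 𝒳 (QW (AlgSt.Points.map f ⁻¹' W)))) ⟨𝟙 _⟩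
    let o : (fp (AlgSt.subIncl 𝒴 (QW W)) f).obj :=
      mkObj (F := AlgSt.subIncl 𝒴 (QW W)) (G := f) ⟨f.toFunctor.obj p.obj.obj, hfξ⟩ p.obj.obj
        (Iso.refl _) (Vert.id _)
    let p' : AlgSt.FPt (fp (AlgSt.subIncl 𝒴 (QW W)) f) :=
      { K := p.K, str := p.str, obj := o, lies := (f.w_obj p.obj.obj).trans p.lies }
    refine ⟨AlgSt.Points.mk p', ?_⟩
    rw [AlgSt.Points.map_mk]
    exact AlgSt.Points.sound (rel_of_hom (p := p'.map _) (q := p) (𝟙 p.obj))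
  exact Groth.Agent.Lib.Helper27.QcImage.isQuasiCompact_of_isSurjective
    (Groth.Agent.Lib.Helper27.FpFib.isFibGrpd_fp _ _ hQ.2.1.isStack.1 h𝒳.isStack.1 h𝒴.isStack.1)
    hQ'.2.1 _ hF h1

/-- **Quasi-compactness of a functor is detected by the presheaves of isomorphism classes.** -/
theorem isQuasiCompactMor_of_fIsoSq [QuasiSeparatedSpace S]
    (h𝒳 : AlgSt.IsAlgStack Scheme.fppfPrecoverage 𝒳)
    (h𝒴 : AlgSt.IsAlgStack Scheme.fppfPrecoverage 𝒴)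
    (h𝒳' : AlgSt.IsAlgStack Scheme.fppfPrecoverage 𝒳')
    (h𝒴' : AlgSt.IsAlgStack Scheme.fppfPrecoverage 𝒴')
    (hd' : AlgSt.RepByAlgSpWith AlgSp.IsQuasiCompactMor (FibCat.diag (FibCat.toSelf 𝒴')))
    (f : 𝒳 ⥤ᵇ 𝒴) (f' : 𝒳' ⥤ᵇ 𝒴') (φ : IsoNat.FIsoSq f f')
    (hf : AlgSt.IsQuasiCompactMor Scheme.fppfPrecoverage f) :
    AlgSt.IsQuasiCompactMor Scheme.fppfPrecoverage f' := by
  apply isQuasiCompactMor_of_preimage h𝒳' h𝒴' hd' f'
  intro W' hW' hq'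
  have hW : IsOpen (trPts φ.tgt ⁻¹' W') := (continuous_trPts φ.tgt h𝒴').isOpen_preimage _ hW'
  have himg : trPts (symm φ.tgt h𝒴.isStack.1 h𝒴'.isStack.1) '' W' = trPts φ.tgt ⁻¹' W' := by
    ext x
    constructor
    · rintro ⟨w', hw', rfl⟩
      change trPts φ.tgt _ ∈ W'
      rw [trPts_trPts_symm]
      exact hw'
    · intro hx
      exact ⟨trPts φ.tgt x, hx, trPts_symm_trPts φ.tgt _ _ x⟩
  have hq : AlgSt.IsQuasiCompact (AlgSt.fullSub 𝒴 (QW (trPts φ.tgt ⁻¹' W'))) :=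
    isQuasiCompact_sub_of_fIso h𝒴' h𝒴 (symm φ.tgt h𝒴.isStack.1 h𝒴'.isStack.1) W' _ hW' hW himg hq'
  have h2 := isQuasiCompact_preimage h𝒳 h𝒴 f hf _ hW hq
  have hV : IsOpen (AlgSt.Points.map f ⁻¹' (trPts φ.tgt ⁻¹' W')) :=
    (continuous_map h𝒴 f).isOpen_preimage _ hW
  have hV' : IsOpen (AlgSt.Points.map f' ⁻¹' W') := (continuous_map h𝒴' f').isOpen_preimage _ hW'
  have himg2 : trPts φ.src '' (AlgSt.Points.map f ⁻¹' (trPts φ.tgt ⁻¹' W')) =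
      AlgSt.Points.map f' ⁻¹' W' := by
    ext x'
    constructor
    · rintro ⟨x, hx, rfl⟩
      change AlgSt.Points.map f' (trPts φ.src x) ∈ W'
      rw [← comm φ x]
      exact hx
    · intro hx'
      obtain ⟨x, rfl⟩ := trPts_surjective φ.src x'
      refine ⟨x, ?_, rfl⟩
      change trPts φ.tgt (AlgSt.Points.map f x) ∈ W'
      rw [comm φ x]
      exact hx'
  exact isQuasiCompact_sub_of_fIso h𝒳 h𝒳' φ.src _ _ hV hV' himg2 h2

end Groth.Agent.Lib.Helper27.IsoNatQcMor
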