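import Groth.Agent.Lib.Helper27.StPointsTop4
import Groth.Agent.Lib.Helper27.AlgStackRep

/-!
# The points of the category of an algebraic space, topologically (helper27)
-/

set_option autoImplicit false
set_option backward.isDefEq.respectTransparency false
set_option backward.isDefEq.respectTransparency.types false

universe u

open CategoryTheory CategoryTheory.Limits FibCat AlgebraicGeometry Opposite
  Groth.Agent.Lib.Helper27.FpKit Groth.Agent.Lib.Helper27.PointsKit
  Groth.Agent.Lib.Helper27.RepWithComp Groth.Agent.Lib.Helper27.PshKit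

namespace Groth.Agent.Lib.Helper27.StPoints

variable {S : Scheme.{u}}

theorem isAlgStack_ofSp (Z : AlgSp.Space S) :
    AlgSt.IsAlgStack Scheme.fppfPrecoverage (AlgSt.ofSp Z.obj) :=
  Groth.Agent.Lib.Helper27.AlgStackRep.isAlgStack_of_repByAlgSp
    (Stk.isFibGrpd_ofPsh (P := Z.obj.obj)) ⟨Z, BasedFunctor.id _, isEquivOver_id _⟩

theorem map_ofOverCat_ptOf (T : Over S) (t : ↥T.left) :
    AlgSt.Points.map (AlgSt.ofOverCat T) (ptOf T t) =
      toSt ((AlgSp.yon S).obj T) (AlgSp.Points.schemeHomeo T t) := rfl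

/-- The chart of the category of a sheaf attached to a map from a representable sheaf. -/
theorem ofChart_ofSpMap {F : AlgSp.Sp S} {T : Over S} (g : (AlgSp.yon S).obj T ⟶ F) (t : ↥T.left) :
    AlgSt.Points.ofChart (BasedFunctor.comp (AlgSt.ofOverCat T) (AlgSt.ofSpMap g)) t =
      toSt F (AlgSp.Points.ofPt g t) := by
  rw [ofChart_eq, map_comp, map_ofOverCat_ptOf, toSt_map, AlgSp.Points.ofPt_eq_map_ofScheme]
  rfl

/-- Every functor from a slice to the category of a sheaf comes from a map of sheaves. -/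
theorem exists_ofSpMap_iso {F : AlgSp.Sp S} {T : Over S} (c : overCat T ⥤ᵇ AlgSt.ofSp F) :
    ∃ g : (AlgSp.yon S).obj T ⟶ F,
      Nonempty (BasedFunctor.comp (AlgSt.ofOverCat T) (AlgSt.ofSpMap g) ≅ c) := by
  refine ⟨ObjectProperty.homMk (pshMapOf (BasedFunctor.comp (AlgSt.toOverCat T) c)), ⟨?_⟩⟩
  exact Groth.Agent.Lib.Helper27.RepCancel.whiskerLeftIso (AlgSt.ofOverCat T)
      (τIso (BasedFunctor.comp (AlgSt.toOverCat T) c)) ≪≫
    Groth.Agent.Lib.Helper27.RepCancel.whiskerRightIso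
      (Groth.Agent.Lib.Helper27.RepChart.ofToIso T) c

theorem continuous_toSt (Z : AlgSp.Space S) : Continuous (toSt Z.obj) := by
  rw [continuous_def]
  intro W hW
  rw [AlgSp.Points.isOpen_iff]
  intro T g
  have h1 := (continuous_ofChart (isAlgStack_ofSp Z)
    (BasedFunctor.comp (AlgSt.ofOverCat T) (AlgSt.ofSpMap g))).isOpen_preimage W hW
  have h2 : AlgSt.Points.ofChart (BasedFunctor.comp (AlgSt.ofOverCat T) (AlgSt.ofSpMap g)) ⁻¹' W =
      AlgSp.Points.ofPt g ⁻¹' (toSt Z.obj ⁻¹' W) := by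
    ext t
    change AlgSt.Points.ofChart _ t ∈ W ↔ toSt Z.obj (AlgSp.Points.ofPt g t) ∈ W
    rw [ofChart_ofSpMap]
  rw [← h2]
  exact h1

theorem isOpenMap_toSt (F : AlgSp.Sp S) : IsOpenMap (toSt F) := by
  intro W' hW' T c _
  obtain ⟨g, ⟨e⟩⟩ := exists_ofSpMap_iso c
  have h1 : IsOpen (AlgSp.Points.ofPt g ⁻¹' W') := AlgSp.Points.isOpen_iff.1 hW' T g
  have h2 : AlgSt.Points.ofChart c ⁻¹' (toSt F '' W') = AlgSp.Points.ofPt g ⁻¹' W' := by
    ext t
    change AlgSt.Points.ofChart c t ∈ toSt F '' W' ↔ AlgSp.Points.ofPt g t ∈ W'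
    rw [← ofChart_congr e t, ofChart_ofSpMap]
    exact (toSt_injective F).mem_set_image
  rw [h2]
  exact h1

/-- The homeomorphism between the points of an algebraic space and the points of its
category. -/
noncomputable def toStHomeo (Z : AlgSp.Space S) :
    AlgSp.Points Z.obj ≃ₜ AlgSt.Points (AlgSt.ofSp Z.obj) :=
  (Equiv.ofBijective (toSt Z.obj) (toSt_bijective Z.obj)).toHomeomorphOfContinuousOpen
    (continuous_toSt Z) (isOpenMap_toSt Z.obj)

theorem toStHomeo_apply (Z : AlgSp.Space S) (x : AlgSp.Points Z.obj) :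
    toStHomeo Z x = toSt Z.obj x := rfl

end Groth.Agent.Lib.Helper27.StPoints
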