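import Groth.Agent.Lib.Helper27.FpBaseChange
import Groth.Agent.Lib.Helper27.ReprDiag
import Groth.Agent.Lib.Helper27.AlgStackEquiv
import Groth.Agent.Lib.Helper27.StPointsTop2
import Groth.Agent.Lib.Helper27.StPointsHomeo
import Groth.Agent.Lib.Helper27.LocQSmoothOpen

/-!
# Categories of isomorphisms between two objects of a stack (helper27)
-/

set_option autoImplicit false
set_option backward.isDefEq.respectTransparency false
set_option backward.isDefEq.respectTransparency.types false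

universe u

open CategoryTheory CategoryTheory.Limits FibCat AlgebraicGeometry Opposite
  Groth.Agent.Lib.Helper27.FpKit Groth.Agent.Lib.Helper27.PointsKit
  Groth.Agent.Lib.Helper27.StPoints Groth.Agent.Lib.Helper27.ReprDiag

namespace Groth.Agent.Lib.Helper27.IsomQc

variable {S : Scheme.{u}} {𝒳 : AlgSt.Cat S}

local infixr:80 " ⊚ " => BasedFunctor.comp

/-- The category of isomorphisms between two objects over a scheme. -/
abbrev IsomCat {U : Over S} (a b : overCat U ⥤ᵇ 𝒳) : AlgSt.Cat S :=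
  fp (pairK a b) (diag (toSelf 𝒳))

section Iso

variable {U : Over S} {a a' b b' : overCat U ⥤ᵇ 𝒳} (α : a ≅ a') (β : b ≅ b')

/-- Isomorphic pairs of objects give isomorphic functors to the square. -/
def pairKIso : pairK a b ≅ pairK a' b' :=
  Groth.Agent.Lib.Helper27.LocQSmoothOpen.fpLiftCongr (toSelf 𝒳) (toSelf 𝒳) α β
    (eIso a b) (eIso a' b') (fun u => by
      apply selfOver_ext (𝟙 _)
      · exact (((Vert.app α.hom u).map (toSelf 𝒳)).comp (Vert.app (eIso a' b').hom u)).lift rfl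
      · exact ((Vert.app (eIso a b).hom u).comp ((Vert.app β.hom u).map (toSelf 𝒳))).lift rfl)

end Iso

section IsoFst

variable {𝒜 ℬ 𝒵 : AlgSt.Cat S} (K : ℬ ⥤ᵇ 𝒵) (F₁ F₂ : 𝒜 ⥤ᵇ 𝒵) (κ : F₂ ≅ F₁)

/-- The cospan morphism attached to an isomorphism of the first functors. -/
def DisoFst : MapData F₁ K F₂ K (BasedFunctor.id 𝒜) (BasedFunctor.id ℬ) (BasedFunctor.id 𝒵) where
  e₁ := fun x' => ((BasedNatTrans.forgetful _ _).mapIso κ).app x'
  n₁ := fun α => κ.hom.toNatTrans.naturality α
  l₁ := fun x' => Vert.app κ.hom x'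
  e₂ := fun _ => Iso.refl _
  n₂ := fun _ => (Category.comp_id _).trans (Category.id_comp _).symm
  l₂ := fun _ => Vert.id _

/-- Fibre products along isomorphic first functors are equivalent. -/
abbrev isoMapFst : fp F₂ K ⥤ᵇ fp F₁ K := fpMap (DisoFst K F₁ F₂ κ)

theorem isEquivOver_isoMapFst : IsEquivOver (isoMapFst K F₁ F₂ κ) :=
  isEquivOver_fpMap (DisoFst K F₁ F₂ κ) (isEquivOver_id _) (isEquivOver_id _) (isEquivOver_id _)

theorem isoMapFst_fst : isoMapFst K F₁ F₂ κ ⊚ fpFst F₁ K = fpFst F₂ K := rfl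

end IsoFst

section Alg

variable (h𝒳 : AlgSt.IsAlgStack Scheme.fppfPrecoverage 𝒳) {U : Over S} (a b : overCat U ⥤ᵇ 𝒳)

include h𝒳

theorem isAlgStack_isomCat : AlgSt.IsAlgStack Scheme.fppfPrecoverage (IsomCat a b) := by
  obtain ⟨F, e, he⟩ := h𝒳.diag U (pairK a b)
  exact Groth.Agent.Lib.Helper27.AlgStackEquiv.isAlgStack_of_equiv _ e he (isAlgStack_ofSp F)

/-- Compactness of the points passes along functors which are surjective on points. -/
theorem compactSpace_of_surjective {𝒜 : AlgSt.Cat S} {U' : Over S} {a' b' : overCat U' ⥤ᵇ 𝒳}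
    (E : 𝒜 ⥤ᵇ IsomCat a' b') (hE : Function.Surjective (AlgSt.Points.map E))
    (h : CompactSpace (AlgSt.Points 𝒜)) : CompactSpace (AlgSt.Points (IsomCat a' b')) := by
  have hc := continuous_map (isAlgStack_isomCat h𝒳 a' b') E
  have h1 : IsCompact (Set.range (AlgSt.Points.map E)) := isCompact_range hc
  rw [hE.range_eq] at h1
  exact ⟨h1⟩

theorem compactSpace_of_iso {a' b' : overCat U ⥤ᵇ 𝒳} (α : a ≅ a') (β : b ≅ b')
    (h : CompactSpace (AlgSt.Points (IsomCat a b))) :
    CompactSpace (AlgSt.Points (IsomCat a' b')) :=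
  compactSpace_of_surjective h𝒳 (isoMapFst (diag (toSelf 𝒳)) (pairK a' b') (pairK a b)
      (pairKIso α β))
    (map_surjective_of_equiv _ (isEquivOver_isoMapFst _ _ _ _)) h

end Alg

end Groth.Agent.Lib.Helper27.IsomQc
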