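import Groth.Agent.Lib.Helper27.IsomQc9

/-!
# Quasi-compactness of base changes of the diagonal: pairs factoring through an atlas (helper27)
-/

set_option autoImplicit false
set_option backward.isDefEq.respectTransparency false
set_option backward.isDefEq.respectTransparency.types false

universe u

open CategoryTheory CategoryTheory.Limits FibCat AlgebraicGeometry Opposite
  Groth.Agent.Lib.Helper27.FpKit Groth.Agent.Lib.Helper27.PointsKit
  Groth.Agent.Lib.Helper27.StPoints Groth.Agent.Lib.Helper27.ReprDiag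
  Groth.Agent.Lib.Helper27.FpBaseChange Groth.Agent.Lib.Helper27.DescentKit
  Groth.Agent.Lib.Helper27.RepCancel Groth.Agent.Lib.Helper27.ValWit
  Groth.Agent.Lib.Helper27.RepWithComp

namespace Groth.Agent.Lib.Helper27.IsomQc

variable {S : Scheme.{u}} {𝒳 : AlgSt.Cat S}

local infixr:80 " ⊚ " => BasedFunctor.comp

theorem qcAt_pairK_of_factor {T W : Over S} (c : T ⟶ W) (a' b' : overCat W ⥤ᵇ 𝒳)
    (a b : overCat T ⥤ᵇ 𝒳) (α : a ≅ AlgSt.overMap c ⊚ a') (β : b ≅ AlgSt.overMap c ⊚ b')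
    (h : QCAt (pairK a' b')) : QCAt (pairK a b) :=
  qcAt_of_iso (pairKIso α β) (qcAt_overMap c h)

/-- Composites of composition functors applied to a functor. -/
noncomputable def overMapCompIso {T V W : Over S} (f : T ⟶ V) (g : V ⟶ W) (k : T ⟶ W)
    (hk : f ≫ g = k) (x : overCat W ⥤ᵇ 𝒳) :
    AlgSt.overMap f ⊚ AlgSt.overMap g ⊚ x ≅ AlgSt.overMap k ⊚ x :=
  whiskerRightIso (overMapComp f g ≪≫ eqToIso (by rw [hk])) x

section Main

variable (h𝒳 : AlgSt.IsAlgStack Scheme.fppfPrecoverage 𝒳) (hi : AutQc 𝒳) (hii : GenIso 𝒳)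

include h𝒳 hi hii

theorem qcAt_of_factor {T₀ : Over S} [IsLocallyNoetherian T₀.left]
    (hT₀ : LocallyOfFinitePresentation T₀.hom) (x : overCat T₀ ⥤ᵇ 𝒳) {T : Over S}
    (u₁ u₂ : T ⟶ T₀) : QCAt (pairK (AlgSt.overMap u₁ ⊚ x) (AlgSt.overMap u₂ ⊚ x)) := by
  haveI := hT₀
  haveI : IsLocallyNoetherian (pullback T₀.hom T₀.hom) :=
    LocallyOfFiniteType.isLocallyNoetherian (pullback.fst T₀.hom T₀.hom)
  let W'O : Over S := Over.mk (pullback.fst T₀.hom T₀.hom ≫ T₀.hom)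
  haveI : IsLocallyNoetherian W'O.left :=
    inferInstanceAs (IsLocallyNoetherian (pullback T₀.hom T₀.hom))
  let pr₁ : W'O ⟶ T₀ := Over.homMk (pullback.fst T₀.hom T₀.hom) rfl
  let pr₂ : W'O ⟶ T₀ := Over.homMk (pullback.snd T₀.hom T₀.hom) pullback.condition.symm
  let c : T ⟶ W'O := Over.homMk
    (pullback.lift u₁.left u₂.left ((Over.w u₁).trans (Over.w u₂).symm)) (by
      change pullback.lift _ _ _ ≫ pullback.fst T₀.hom T₀.hom ≫ T₀.hom = T.hom
      rw [pullback.lift_fst_assoc]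
      exact Over.w u₁)
  have hc₁ : c ≫ pr₁ = u₁ := Over.OverMorphism.ext (pullback.lift_fst _ _ _)
  have hc₂ : c ≫ pr₂ = u₂ := Over.OverMorphism.ext (pullback.lift_snd _ _ _)
  have hex : ∀ t : ↥T.left, ∃ W : W'O.left.Opens, IsAffineOpen W ∧ c.left t ∈ W := fun t => by
    obtain ⟨W, hW, htW, -⟩ :=
      exists_isAffineOpen_mem_and_subset (x := c.left t) (U := (⊤ : W'O.left.Opens)) trivial
    exact ⟨W, hW, htW⟩
  choose W hWaff htW using hex
  refine qcAt_of_cover h𝒳 _ (ι := ↥T.left)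
    (fun t => Over.mk ((c.left ⁻¹ᵁ W t).ι ≫ T.hom))
    (fun t => Over.homMk (c.left ⁻¹ᵁ W t).ι rfl)
    (fun t => inferInstanceAs (Flat (c.left ⁻¹ᵁ W t).ι))
    (fun t => inferInstanceAs (LocallyOfFinitePresentation (c.left ⁻¹ᵁ W t).ι))
    (fun t => ⟨t, ⟨⟨t, htW t⟩, rfl⟩⟩) (fun t => ?_)
  let WO : Over S := Over.mk ((W t).ι ≫ W'O.hom)
  let jW : WO ⟶ W'O := Over.homMk (W t).ι rfl
  let VO : Over S := Over.mk ((c.left ⁻¹ᵁ W t).ι ≫ T.hom)
  let hV : VO ⟶ T := Over.homMk (c.left ⁻¹ᵁ W t).ι rfl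
  let ct : VO ⟶ WO := Over.homMk (c.left ∣_ W t) (by
    change (c.left ∣_ W t) ≫ (W t).ι ≫ W'O.hom = (c.left ⁻¹ᵁ W t).ι ≫ T.hom
    rw [morphismRestrict_ι_assoc]
    congr 1
    exact Over.w c)
  have hct : ct ≫ jW = hV ≫ c := Over.OverMorphism.ext (morphismRestrict_ι c.left (W t))
  have hWaff' : IsAffine WO.left := hWaff t
  haveI : IsLocallyNoetherian WO.left := isLocallyNoetherian_of_isOpenImmersion (W t).ι
  have h1 : QCAt (pairK (AlgSt.overMap (jW ≫ pr₁) ⊚ x) (AlgSt.overMap (jW ≫ pr₂) ⊚ x)) :=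
    qcAt_pairK_affine h𝒳 hi hii hWaff' _ _
  have e₁ : ct ≫ jW ≫ pr₁ = hV ≫ u₁ := by rw [← Category.assoc, hct, Category.assoc, hc₁]
  have e₂ : ct ≫ jW ≫ pr₂ = hV ≫ u₂ := by rw [← Category.assoc, hct, Category.assoc, hc₂]
  exact qcAt_pairK_of_factor ct _ _ _ _
    (overMapCompIso hV u₁ _ rfl x ≪≫ (overMapCompIso ct (jW ≫ pr₁) _ e₁ x).symm)
    (overMapCompIso hV u₂ _ rfl x ≪≫ (overMapCompIso ct (jW ≫ pr₂) _ e₂ x).symm) h1

end Main

end Groth.Agent.Lib.Helper27.IsomQc
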