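import Groth.Agent.Lib.Helper27.IsomQc10
import Groth.Agent.Lib.Helper27.DiagLft
import Groth.Agent.Lib.Helper27.LocQChart

/-!
# Quasi-compactness of the diagonal from quasi-compact automorphism spaces and generic
isomorphisms (helper27)
-/

set_option autoImplicit false
set_option backward.isDefEq.respectTransparency false
set_option backward.isDefEq.respectTransparency.types false

universe u

open CategoryTheory CategoryTheory.Limits FibCat AlgebraicGeometry Opposite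
  Groth.Agent.Lib.Helper27.FpKit Groth.Agent.Lib.Helper27.PointsKit
  Groth.Agent.Lib.Helper27.StPoints Groth.Agent.Lib.Helper27.ReprDiag
  Groth.Agent.Lib.Helper27.FpBaseChange Groth.Agent.Lib.Helper27.DescentKit
  Groth.Agent.Lib.Helper27.RepCancel Groth.Agent.Lib.Helper27.ValWit
  Groth.Agent.Lib.Helper27.RepWithComp Groth.Agent.Lib.Helper27.GraphDiag
  Groth.Agent.Lib.Helper27.LocQChart Groth.Agent.Lib.Helper27.DiagLft

namespace Groth.Agent.Lib.Helper27.IsomQc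

variable {S : Scheme.{u}} {𝒳 : AlgSt.Cat S}

local infixr:80 " ⊚ " => BasedFunctor.comp

theorem main [IsLocallyNoetherian S] (h𝒳 : AlgSt.IsAlgStack Scheme.fppfPrecoverage 𝒳)
    (hlfp : ∀ (U : Over S) (x : FibCat.overCat U ⥤ᵇ 𝒳),
      AlgSt.RepByAlgSpWith (AlgSp.LocP @Smooth) x → LocallyOfFinitePresentation U.hom)
    (hi : AutQc 𝒳) (hii : GenIso 𝒳) :
    AlgSt.RepByAlgSpWith AlgSp.IsQuasiCompactMor (FibCat.diag (FibCat.toSelf 𝒳)) := by
  obtain ⟨T₀, x, hx₁, hx₂⟩ := h𝒳.atlas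
  have hT₀ : LocallyOfFinitePresentation T₀.hom := hlfp T₀ x hx₁
  haveI : IsLocallyNoetherian T₀.left := by
    haveI := hT₀
    exact LocallyOfFiniteType.isLocallyNoetherian T₀.hom
  have hf𝒳 : FibCat.IsFibGrpd 𝒳.p := h𝒳.isStack.1
  have hU : FibCat.IsFibGrpd (overCat T₀).p :=
    Groth.Agent.Lib.Helper27.ReprAux.isFibGrpd_overCat T₀
  have hself : FibCat.IsFibGrpd (selfOver (Over S)).p :=
    Groth.Agent.Lib.Helper27.ReprDiag.isFibGrpd_selfOver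
  have hz₁ : AlgSt.RepByAlgSpWith (AlgSp.LocP @Flat) (P x (toSelf 𝒳) x) :=
    Groth.Agent.Lib.Helper27.ProdFunctor.repByAlgSpWith_P x (toSelf 𝒳) x _
      (compHyp_locP Groth.Agent.Lib.Helper3.isEtLocal_flat) hU hf𝒳 hself hU
      (flat_of_smooth x hx₁) (flat_of_smooth x hx₁)
  have hz₂ : AlgSt.RepByAlgSpWith (AlgSp.LocP @LocallyOfFinitePresentation)
      (P x (toSelf 𝒳) x) :=
    Groth.Agent.Lib.Helper27.ProdFunctor.repByAlgSpWith_P x (toSelf 𝒳) x _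
      (compHyp_locP Groth.Agent.Lib.Helper3.isEtLocal_locallyOfFinitePresentation) hU hf𝒳 hself hU
      (lfp_of_smooth x hx₁) (lfp_of_smooth x hx₁)
  have hz₃ : AlgSt.RepByAlgSpWith AlgSp.IsSurjectiveMor (P x (toSelf 𝒳) x) :=
    Groth.Agent.Lib.Helper27.ProdFunctor.repByAlgSpWith_P x (toSelf 𝒳) x _
      compHyp_isSurjectiveMor hU hf𝒳 hself hU hx₂ hx₂
  refine repByAlgSpWith_of_fpFst_cover _
    (isLocalOnBase_fppf_of_fpqc _ (Groth.Agent.S10519.result S)) hf𝒳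
    (Groth.Agent.Lib.Helper27.FpFib.isFibGrpd_fp _ _ hf𝒳 hf𝒳 hself)
    (Groth.Agent.Lib.Helper27.FpFib.isFibGrpd_fp _ _ hU hU hself)
    (diag (toSelf 𝒳)) h𝒳.diag (P x (toSelf 𝒳) x) hz₁ hz₂ hz₃ ?_
  intro T y
  let y₁ : overCat T ⥤ᵇ overCat T₀ := y ⊚ fpFst (x ⊚ toSelf 𝒳) (x ⊚ toSelf 𝒳)
  let y₂ : overCat T ⥤ᵇ overCat T₀ := y ⊚ fpSnd (x ⊚ toSelf 𝒳) (x ⊚ toSelf 𝒳)
  have hq : QCAt (y ⊚ P x (toSelf 𝒳) x) := by
    refine qcAt_of_iso (isoPairK (y ⊚ P x (toSelf 𝒳) x) ≪≫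
      pairKIso (whiskerRightIso (isoOverMap y₁) x) (whiskerRightIso (isoOverMap y₂) x)) ?_
    exact qcAt_of_factor h𝒳 hi hii hT₀ x (homOf y₁) (homOf y₂)
  exact Groth.Agent.Lib.Helper27.RepWithKit.transport' _
    (pasteL (diag (toSelf 𝒳)) (P x (toSelf 𝒳) x) y) (isEquivOver_pasteL _ _ _)
    (fpFst y (fpFst (P x (toSelf 𝒳) x) (diag (toSelf 𝒳))))
    (fpFst (y ⊚ P x (toSelf 𝒳) x) (diag (toSelf 𝒳)))
    (fun _ => ⟨Iso.refl _, Vert.id _⟩) hq

end Groth.Agent.Lib.Helper27.IsomQc
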