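import Groth.Agent.Lib.Helper27.IsomQc1
import Groth.Agent.Lib.Helper3.AlgSpQC3

/-!
# Compactness of categories of isomorphisms (helper27)
-/

set_option autoImplicit false
set_option backward.isDefEq.respectTransparency false
set_option backward.isDefEq.respectTransparency.types false

universe u

open CategoryTheory CategoryTheory.Limits FibCat AlgebraicGeometry Opposite
  Groth.Agent.Lib.Helper27.FpKit Groth.Agent.Lib.Helper27.PointsKit
  Groth.Agent.Lib.Helper27.StPoints Groth.Agent.Lib.Helper27.ReprDiag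

namespace Groth.Agent.Lib.Helper27.IsomQc

variable {S : Scheme.{u}} {𝒳 : AlgSt.Cat S}

local infixr:80 " ⊚ " => BasedFunctor.comp

/-- Compactness of the points passes along functors which are surjective on points. -/
theorem compactSpace_of_surjective' {𝒜 ℬ : AlgSt.Cat S}
    (hℬ : AlgSt.IsAlgStack Scheme.fppfPrecoverage ℬ)
    (E : 𝒜 ⥤ᵇ ℬ) (hE : Function.Surjective (AlgSt.Points.map E))
    (h : CompactSpace (AlgSt.Points 𝒜)) : CompactSpace (AlgSt.Points ℬ) := by
  have hc := continuous_map hℬ E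
  have h1 : IsCompact (Set.range (AlgSt.Points.map E)) := isCompact_range hc
  rw [hE.range_eq] at h1
  exact ⟨h1⟩

/-- A category presented by a quasi-compact algebraic space has compact points. -/
theorem compactSpace_of_presentation {ℬ : AlgSt.Cat S} (F : AlgSp.Space S)
    (e : AlgSt.ofSp F.obj ⥤ᵇ ℬ) (he : IsEquivOver e) (hF : AlgSp.IsQuasiCompactSp F.obj) :
    CompactSpace (AlgSt.Points ℬ) := by
  have h1 : CompactSpace (AlgSp.Points F.obj) :=
    Groth.Agent.Lib.Helper3.compactSpace_points_of_isQuasiCompactSp hF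
  have h2 : CompactSpace (AlgSt.Points (AlgSt.ofSp F.obj)) := (toStHomeo F).compactSpace
  exact compactSpace_of_surjective'
    (Groth.Agent.Lib.Helper27.AlgStackEquiv.isAlgStack_of_equiv _ e he (isAlgStack_ofSp F))
    e (map_surjective_of_equiv e he) h2

/-- An algebraic space presenting a category with compact points is quasi-compact. -/
theorem isQuasiCompactSp_of_compactSpace {ℬ : AlgSt.Cat S} (F : AlgSp.Space S)
    (e : AlgSt.ofSp F.obj ⥤ᵇ ℬ) (he : IsEquivOver e) (h : CompactSpace (AlgSt.Points ℬ)) :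
    AlgSp.IsQuasiCompactSp F.obj := by
  obtain ⟨e', he', -, -⟩ := exists_inverse e he
  have h2 : CompactSpace (AlgSt.Points (AlgSt.ofSp F.obj)) :=
    compactSpace_of_surjective' (isAlgStack_ofSp F) e' (map_surjective_of_equiv e' he') h
  have h1 : CompactSpace (AlgSp.Points F.obj) := (toStHomeo F).symm.compactSpace
  exact (Groth.Agent.Lib.Helper3.isQuasiCompactSp_iff_compactSpace F.property).2 h1

section Aut

variable (h𝒳 : AlgSt.IsAlgStack Scheme.fppfPrecoverage 𝒳)

include h𝒳 in
/-- Quasi-compact automorphism spaces over affine schemes have compact points. -/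
theorem compactSpace_aut {U : Over S} (hU : IsAffine U.left) (x : overCat U ⥤ᵇ 𝒳)
    (hi : ∃ (F : AlgSp.Space S) (e : AlgSt.ofSp F.obj ⥤ᵇ
        FibCat.fp (FibCat.fpLift x x (Iso.refl _)) (FibCat.diag (FibCat.toSelf 𝒳))),
        FibCat.IsEquivOver e ∧
          AlgSp.IsQuasiCompactMor (AlgSt.spMapOfOver (BasedFunctor.comp e (FibCat.fpFst _ _)))) :
    CompactSpace (AlgSt.Points (IsomCat x x)) := by
  obtain ⟨F, e, he, hπ⟩ := hi
  have hc : CompactSpace ↥U.left := by
    have : IsAffine U.left := hU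
    infer_instance
  have hF : AlgSp.IsQuasiCompactSp F.obj :=
    hπ (AlgSp.IsAlgSpace.yon_obj U) (Groth.Agent.Lib.Helper3.isQuasiCompactSp_yon hc) (𝟙 _) (𝟙 _)
      (AlgSt.spMapOfOver (BasedFunctor.comp e (fpFst _ _)))
      (IsPullback.of_horiz_isIso ⟨by simp⟩)
  have h1 := compactSpace_of_presentation F e he hF
  let κ : FibCat.fpLift x x (Iso.refl _) ≅ pairK x x :=
    Groth.Agent.Lib.Helper27.LocQSmoothOpen.fpLiftCongr (toSelf 𝒳) (toSelf 𝒳) (Iso.refl x)
      (Iso.refl x) (Iso.refl _) (eIso x x) (fun u => by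
        apply selfOver_ext (𝟙 _)
        · exact (((Vert.id _).map (toSelf 𝒳)).comp (Vert.app (eIso x x).hom u)).lift rfl
        · exact ((Vert.id _).comp ((Vert.id _).map (toSelf 𝒳))).lift rfl)
  exact compactSpace_of_surjective' (isAlgStack_isomCat h𝒳 x x)
    (isoMapFst (diag (toSelf 𝒳)) (pairK x x) (FibCat.fpLift x x (Iso.refl _)) κ)
    (map_surjective_of_equiv _ (isEquivOver_isoMapFst _ _ _ _)) h1

end Aut

end Groth.Agent.Lib.Helper27.IsomQc
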