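import Groth.Agent.Lib.Helper27.IsomQc3
import Groth.Agent.Lib.Helper27.GerbSecA

/-!
# Points of categories of isomorphisms (helper27)
-/

set_option autoImplicit false
set_option backward.isDefEq.respectTransparency false
set_option backward.isDefEq.respectTransparency.types false

universe u

open CategoryTheory CategoryTheory.Limits FibCat AlgebraicGeometry Opposite
  Groth.Agent.Lib.Helper27.FpKit Groth.Agent.Lib.Helper27.PointsKit
  Groth.Agent.Lib.Helper27.StPoints Groth.Agent.Lib.Helper27.ReprDiag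
  Groth.Agent.Lib.Helper27.FpBaseChange Groth.Agent.Lib.Helper27.DescentKit

namespace Groth.Agent.Lib.Helper27.IsomQc

variable {S : Scheme.{u}} {𝒳 : AlgSt.Cat S}

local infixr:80 " ⊚ " => BasedFunctor.comp

theorem pairK_overMap {U' U : Over S} (h : U' ⟶ U) (a b : overCat U ⥤ᵇ 𝒳) :
    pairK (AlgSt.overMap h ⊚ a) (AlgSt.overMap h ⊚ b) = AlgSt.overMap h ⊚ pairK a b := rfl

/-- The restriction functor between categories of isomorphisms. -/
abbrev resE {U' U : Over S} (h : U' ⟶ U) (a b : overCat U ⥤ᵇ 𝒳) :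
    IsomCat (AlgSt.overMap h ⊚ a) (AlgSt.overMap h ⊚ b) ⥤ᵇ IsomCat a b :=
  mapFst (pairK a b) (diag (toSelf 𝒳)) (AlgSt.overMap h)

/-- 2-Yoneda at an object of a slice. -/
theorem nonempty_iso_of_obj (h𝒳 : FibCat.IsFibGrpd 𝒳.p) {U V : Over S} (h : V ⟶ U)
    (a b : overCat U ⥤ᵇ 𝒳) (φ : a.obj (Over.mk h) ⟶ b.obj (Over.mk h))
    (hφ : 𝒳.p.IsHomLift (𝟙 V) φ) :
    Nonempty (AlgSt.overMap h ⊚ a ≅ AlgSt.overMap h ⊚ b) := by
  let ε : (Over.map h).obj (Over.mk (𝟙 V)) ≅ Over.mk h := Over.isoMk (Iso.refl _) (by simp)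
  have e1 : (overCat U).p.IsHomLift (𝟙 V) ε.hom :=
    (inferInstance : (overCat U).p.IsHomLift ((overCat U).p.map ε.hom) ε.hom)
  have e2 : (overCat U).p.IsHomLift (𝟙 V) ε.inv :=
    (inferInstance : (overCat U).p.IsHomLift ((overCat U).p.map ε.inv) ε.inv)
  have h1 : 𝒳.p.IsHomLift (𝟙 V) (a.map ε.hom) :=
    BasedFunctor.preserves_isHomLift a (𝟙 V) ε.hom
  have h2 : 𝒳.p.IsHomLift (𝟙 V) (b.map ε.inv) :=
    BasedFunctor.preserves_isHomLift b (𝟙 V) ε.inv
  refine Groth.Agent.Lib.Helper27.GerbSecA.nonempty_iso_of_vert_at_id h𝒳 _ _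
    (a.map ε.hom ≫ φ ≫ b.map ε.inv) ?_
  have h3 : 𝒳.p.IsHomLift (𝟙 V ≫ 𝟙 V ≫ 𝟙 V) (a.map ε.hom ≫ φ ≫ b.map ε.inv) := inferInstance
  simpa using h3

end Groth.Agent.Lib.Helper27.IsomQc

namespace Groth.Agent.Lib.Helper27.IsomQc

variable {S : Scheme.{u}} {𝒳 : AlgSt.Cat S}

local infixr:80 " ⊚ " => BasedFunctor.comp

/-- The point of a slice defined by a field valued object. -/
theorem mk_eq_ptOf {U : Over S} {K : Type u} [Field K] (str : Spec (CommRingCat.of K) ⟶ S)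
    (cr : Discrete PUnit) (ch : Over.mk str ⟶ (Functor.fromPUnit U).obj cr)
    (pt : ↥(Spec (CommRingCat.of K)))
    (lies : (overCat U).p.obj (⟨Over.mk str, cr, ch⟩ : Over U) = Over.mk str) :
    AlgSt.Points.mk (⟨K, str, (⟨Over.mk str, cr, ch⟩ : Over U), lies⟩ : AlgSt.FPt (overCat U)) =
      ptOf U (ch.left pt) := by
  haveI : Subsingleton ↥(Over.mk str).left := inferInstanceAs (Subsingleton (PrimeSpectrum K))
  let P₀ : AlgSt.FPt (overCat (Over.mk str)) := ⟨K, str, Over.mk (𝟙 (Over.mk str)), rfl⟩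
  have h0 : ptOf (Over.mk str) pt = AlgSt.Points.mk P₀ := by
    obtain ⟨pt', h⟩ := (ptOf_bijective (Over.mk str)).2 (AlgSt.Points.mk P₀)
    rw [← h]
    exact congrArg _ (Subsingleton.elim _ _)
  have h1 := map_overMap_ptOf (U' := Over.mk str) (U := U) ch pt
  rw [h0, AlgSt.Points.map_mk] at h1
  refine Eq.trans ?_ h1
  symm
  let m : (Over.map ch).obj (Over.mk (𝟙 (Over.mk str))) ⟶ (⟨Over.mk str, cr, ch⟩ : Over U) :=
    Over.homMk (𝟙 _) (by simp)
  exact AlgSt.Points.sound (rel_of_hom (p := P₀.map (AlgSt.overMap ch))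
    (q := (⟨K, str, (⟨Over.mk str, cr, ch⟩ : Over U), lies⟩ : AlgSt.FPt (overCat U))) m)

end Groth.Agent.Lib.Helper27.IsomQc

namespace Groth.Agent.Lib.Helper27.IsomQc

variable {S : Scheme.{u}} {𝒳 : AlgSt.Cat S}

local infixr:80 " ⊚ " => BasedFunctor.comp

section BaseOf

variable {U : Over S} (a b : overCat U ⥤ᵇ 𝒳)

/-- The image in the base scheme of a point of a category of isomorphisms. -/
noncomputable def baseOf (q : AlgSt.Points (IsomCat a b)) : ↥U.left :=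
  (Equiv.ofBijective (ptOf U) (ptOf_bijective U)).symm
    (AlgSt.Points.map (fpFst (pairK a b) (diag (toSelf 𝒳))) q)

theorem ptOf_baseOf (q : AlgSt.Points (IsomCat a b)) :
    ptOf U (baseOf a b q) = AlgSt.Points.map (fpFst (pairK a b) (diag (toSelf 𝒳))) q :=
  (Equiv.ofBijective (ptOf U) (ptOf_bijective U)).apply_symm_apply _

theorem baseOf_eq_iff (q : AlgSt.Points (IsomCat a b)) (t : ↥U.left) :
    baseOf a b q = t ↔ AlgSt.Points.map (fpFst (pairK a b) (diag (toSelf 𝒳))) q = ptOf U t := by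
  rw [← ptOf_baseOf]
  exact ⟨fun h => congrArg _ h, fun h => (ptOf_bijective U).1 h⟩

end BaseOf

/-- A point of a category of isomorphisms gives an isomorphism over a field. -/
theorem exists_field_iso (h𝒳 : FibCat.IsFibGrpd 𝒳.p) {U : Over S} (a b : overCat U ⥤ᵇ 𝒳)
    (q : AlgSt.Points (IsomCat a b)) :
    ∃ (L : Type u) (_ : Field L) (g : Spec (CommRingCat.of L) ⟶ U.left),
      Set.range g.base = {baseOf a b q} ∧
      Nonempty (AlgSt.overMap (Over.homMk g rfl : Over.mk (g ≫ U.hom) ⟶ U) ⊚ a ≅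
        AlgSt.overMap (Over.homMk g rfl : Over.mk (g ≫ U.hom) ⟶ U) ⊚ b) := by
  obtain ⟨p, rfl⟩ := AlgSt.Points.mk_surjective q
  obtain ⟨K, str, obj, lies⟩ := p
  obtain ⟨⟨c, x, iso⟩, hv⟩ := obj
  obtain ⟨cl, cr, ch⟩ := c
  change cl = Over.mk str at lies
  subst lies
  haveI : Subsingleton ↥(Spec (CommRingCat.of K)) :=
    inferInstanceAs (Subsingleton (PrimeSpectrum K))
  haveI : Nonempty ↥(Spec (CommRingCat.of K)) := inferInstanceAs (Nonempty (PrimeSpectrum K))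
  obtain ⟨pt⟩ := (inferInstance : Nonempty ↥(Spec (CommRingCat.of K)))
  refine ⟨K, inferInstance, ch.left, ?_, ?_⟩
  · have h1 : baseOf a b (AlgSt.Points.mk ⟨K, str, ⟨⟨⟨Over.mk str, cr, ch⟩, x, iso⟩, hv⟩, rfl⟩) =
        ch.left pt := by
      rw [baseOf_eq_iff, AlgSt.Points.map_mk]
      exact mk_eq_ptOf str cr ch pt rfl
    rw [h1]
    ext t
    constructor
    · rintro ⟨pt', rfl⟩
      exact congrArg _ (Subsingleton.elim pt' pt)
    · intro ht
      exact ⟨pt, ht.symm⟩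
  · let V : Over S := Over.mk (ch.left ≫ U.hom)
    let h : V ⟶ U := Over.homMk ch.left rfl
    let c : Over U := ⟨Over.mk str, cr, ch⟩
    let ε₀ : V ≅ Over.mk str := Over.isoMk (Iso.refl _) (by
      rw [Iso.refl_hom, Category.id_comp]
      exact (Over.w ch).symm)
    let ε : Over.mk h ≅ c := Over.isoMk ε₀ (by
      apply Over.OverMorphism.ext
      simp [ε₀, h, c])
    have e1 : (overCat U).p.IsHomLift ε₀.hom ε.hom :=
      (inferInstance : (overCat U).p.IsHomLift ((overCat U).p.map ε.hom) ε.hom)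
    have ha : 𝒳.p.IsHomLift ε₀.hom (a.map ε.hom) :=
      BasedFunctor.preserves_isHomLift a ε₀.hom ε.hom
    have hb : 𝒳.p.IsHomLift ε₀.hom (b.map ε.hom) :=
      BasedFunctor.preserves_isHomLift b ε₀.hom ε.hom
    have hv' : (fp (toSelf 𝒳) (toSelf 𝒳)).p.IsHomLift (𝟙 (Over.mk str)) iso.hom := hv
    have h1 : 𝒳.p.IsHomLift (𝟙 (Over.mk str)) iso.hom.hom.fst :=
      BasedFunctor.preserves_isHomLift (fpFst (toSelf 𝒳) (toSelf 𝒳)) (𝟙 (Over.mk str)) iso.hom
    have h2 : 𝒳.p.IsHomLift (𝟙 (Over.mk str)) iso.hom.hom.snd :=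
      BasedFunctor.preserves_isHomLift (fpSnd (toSelf 𝒳) (toSelf 𝒳)) (𝟙 (Over.mk str)) iso.hom
    have hψ₁ : 𝒳.p.IsHomLift (ε₀.hom ≫ 𝟙 (Over.mk str)) (a.map ε.hom ≫ iso.hom.hom.fst) :=
      inferInstance
    have hψ₂ : 𝒳.p.IsHomLift (ε₀.hom ≫ 𝟙 (Over.mk str)) (b.map ε.hom ≫ iso.hom.hom.snd) :=
      inferInstance
    exact nonempty_iso_of_obj h𝒳 h a b
      (FG.lift h𝒳 (ε₀.hom ≫ 𝟙 (Over.mk str)) (b.map ε.hom ≫ iso.hom.hom.snd) hψ₂ (𝟙 V)
        (Category.id_comp _).symm (a.map ε.hom ≫ iso.hom.hom.fst) hψ₁)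
      (FG.lift_isHomLift h𝒳 _ _ _ _ _ _ _)

end Groth.Agent.Lib.Helper27.IsomQc
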