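import Mathlib

/-!
# Noetherian induction for compactness with generic local compactness (helper27)
-/

set_option autoImplicit false
set_option backward.isDefEq.respectTransparency false
set_option backward.isDefEq.respectTransparency.types false

universe u w

namespace Groth.Agent.Lib.Helper27.NoethGeneric

variable {B : Type u} [CommRing B] [IsNoetherianRing B] {X : Type w} [TopologicalSpace X]
  (ρ : X → PrimeSpectrum B)

/-- Let `ρ` be a map from a topological space to the spectrum of a Noetherian ring. Assume that
for every prime ideal `I` such that the image of `ρ` is dense in `V(I)`, there is a nonempty open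
`W` of `V(I)` whose preimage under `ρ` is compact. Then the preimage of every closed subset is
compact. -/
theorem isCompact_preimage_zeroLocus
    (H : ∀ (I : Ideal B), I.IsPrime →
      Dense {p : PrimeSpectrum (B ⧸ I) | PrimeSpectrum.comap (Ideal.Quotient.mk I) p ∈ Set.range ρ} →
      ∃ W : Set (PrimeSpectrum (B ⧸ I)), IsOpen W ∧ W.Nonempty ∧
        IsCompact (ρ ⁻¹' (PrimeSpectrum.comap (Ideal.Quotient.mk I) '' W)))
    (I : Ideal B) :
    IsCompact (ρ ⁻¹' (PrimeSpectrum.zeroLocus (I : Set B) : Set (PrimeSpectrum B))) := by
  induction I using IsNoetherian.induction with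
  | hgt I IH =>
  by_cases hI : Ideal.IsPrime (I : Ideal B)
  · haveI := hI
    let A := B ⧸ (I : Ideal B)
    let φ : B →+* A := Ideal.Quotient.mk I
    have hφ : Function.Surjective φ := Ideal.Quotient.mk_surjective
    have hinj : Function.Injective (PrimeSpectrum.comap φ) :=
      PrimeSpectrum.comap_injective_of_surjective φ hφ
    have hrange : Set.range (PrimeSpectrum.comap φ) = PrimeSpectrum.zeroLocus (I : Set B) := by
      rw [range_comap_of_surjective _ φ hφ, Ideal.mk_ker]
    let J : Set (PrimeSpectrum A) → Ideal B := fun T =>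
      Ideal.comap φ (PrimeSpectrum.vanishingIdeal T)
    have hJ : ∀ T, PrimeSpectrum.zeroLocus (J T : Set B) = PrimeSpectrum.comap φ '' closure T := by
      intro T
      rw [← PrimeSpectrum.zeroLocus_vanishingIdeal_eq_closure,
        image_comap_zeroLocus_eq_zeroLocus_comap _ _ hφ]
    have hIJ : ∀ T, I ≤ J T := by
      intro T x hx
      change φ x ∈ PrimeSpectrum.vanishingIdeal T
      rw [(Ideal.Quotient.eq_zero_iff_mem (I := I)).2 hx]
      exact Ideal.zero_mem _
    have hlt : ∀ T, closure T ≠ Set.univ → I < J T := by
      intro T hT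
      refine lt_of_le_of_ne (hIJ T) (fun h => hT ?_)
      have h1 : PrimeSpectrum.comap φ '' closure T = PrimeSpectrum.comap φ '' Set.univ := by
        rw [← hJ T, ← h, Set.image_univ, hrange]
      exact (Set.image_injective.2 hinj) h1
    let D : Set (PrimeSpectrum A) := {p | PrimeSpectrum.comap φ p ∈ Set.range ρ}
    by_cases hD : Dense D
    · obtain ⟨W, hWo, hWne, hWc⟩ := H I hI hD
      let T : Set (PrimeSpectrum A) := Wᶜ
      have hTc : IsClosed T := hWo.isClosed_compl
      have hT : closure T ≠ Set.univ := by
        rw [hTc.closure_eq]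
        intro h
        obtain ⟨u, hu⟩ := hWne
        have : u ∈ T := h ▸ Set.mem_univ u
        exact this hu
      have h1 := IH (J T) (hlt T hT)
      rw [hJ T, hTc.closure_eq] at h1
      have heq : ρ ⁻¹' (PrimeSpectrum.zeroLocus (I : Set B) : Set (PrimeSpectrum B)) =
          ρ ⁻¹' (PrimeSpectrum.comap φ '' T) ∪ ρ ⁻¹' (PrimeSpectrum.comap φ '' W) := by
        ext z
        constructor
        · intro hz
          have hz' : ρ z ∈ Set.range (PrimeSpectrum.comap φ) := by rw [hrange]; exact hz
          obtain ⟨p, hp⟩ := hz'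
          by_cases hpT : p ∈ T
          · exact Or.inl ⟨p, hpT, hp⟩
          · exact Or.inr ⟨p, not_not.1 hpT, hp⟩
        · rintro (⟨p, -, hp⟩ | ⟨p, -, hp⟩)
          · refine Set.mem_preimage.2 ?_
            rw [← hrange]
            exact ⟨p, hp⟩
          · refine Set.mem_preimage.2 ?_
            rw [← hrange]
            exact ⟨p, hp⟩
      rw [heq]
      exact h1.union hWc
    · have hD' : closure D ≠ Set.univ := fun h => hD (dense_iff_closure_eq.2 h)
      have h1 := IH (J D) (hlt D hD')
      have heq : ρ ⁻¹' (PrimeSpectrum.zeroLocus (I : Set B) : Set (PrimeSpectrum B)) =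
          ρ ⁻¹' (PrimeSpectrum.zeroLocus (J D : Set B) : Set (PrimeSpectrum B)) := by
        ext z
        constructor
        · intro hz
          have hz' : ρ z ∈ Set.range (PrimeSpectrum.comap φ) := by rw [hrange]; exact hz
          obtain ⟨p, hp⟩ := hz'
          change ρ z ∈ PrimeSpectrum.zeroLocus (J D : Set B)
          rw [hJ D]
          exact ⟨p, subset_closure (show p ∈ D from ⟨z, hp.symm⟩), hp⟩
        · intro hz
          exact PrimeSpectrum.zeroLocus_anti_mono_ideal (hIJ D) hz
      rw [heq]
      exact h1
  · rcases Ideal.not_isPrime_iff.1 hI with h | ⟨x, hx, y, hy, hxy⟩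
    · have h0 : (PrimeSpectrum.zeroLocus (I : Set B) : Set (PrimeSpectrum B)) = ∅ := by
        rw [h]; simp
      rw [h0, Set.preimage_empty]
      exact isCompact_empty
    · have key : ∀ w : B, w ∉ I → I < I ⊔ Ideal.span {w} := fun w hw =>
        lt_of_le_of_ne le_sup_left (fun h => hw (h ▸ Ideal.mem_sup_right (Ideal.mem_span_singleton_self w)))
      have h1 := IH _ (key x hx)
      have h2 := IH _ (key y hy)
      have heq : (PrimeSpectrum.zeroLocus (I : Set B) : Set (PrimeSpectrum B)) =
          PrimeSpectrum.zeroLocus ((I ⊔ Ideal.span {x} : Ideal B) : Set B) ∪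
            PrimeSpectrum.zeroLocus ((I ⊔ Ideal.span {y} : Ideal B) : Set B) := by
        apply Set.Subset.antisymm
        · intro p hp
          rw [PrimeSpectrum.mem_zeroLocus, SetLike.coe_subset_coe] at hp
          rcases p.isPrime.mem_or_mem (hp hxy) with h | h
          · left
            rw [PrimeSpectrum.mem_zeroLocus, SetLike.coe_subset_coe]
            exact sup_le hp ((Ideal.span_singleton_le_iff_mem _).2 h)
          · right
            rw [PrimeSpectrum.mem_zeroLocus, SetLike.coe_subset_coe]
            exact sup_le hp ((Ideal.span_singleton_le_iff_mem _).2 h)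
        · exact Set.union_subset (PrimeSpectrum.zeroLocus_anti_mono_ideal le_sup_left)
            (PrimeSpectrum.zeroLocus_anti_mono_ideal le_sup_left)
      rw [heq, Set.preimage_union]
      exact h1.union h2

theorem compactSpace
    (H : ∀ (I : Ideal B), I.IsPrime →
      Dense {p : PrimeSpectrum (B ⧸ I) | PrimeSpectrum.comap (Ideal.Quotient.mk I) p ∈ Set.range ρ} →
      ∃ W : Set (PrimeSpectrum (B ⧸ I)), IsOpen W ∧ W.Nonempty ∧
        IsCompact (ρ ⁻¹' (PrimeSpectrum.comap (Ideal.Quotient.mk I) '' W))) :
    CompactSpace X := by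
  have h := isCompact_preimage_zeroLocus ρ H ⊥
  have h0 : (PrimeSpectrum.zeroLocus ((⊥ : Ideal B) : Set B) : Set (PrimeSpectrum B)) =
      Set.univ := by simp
  rw [h0, Set.preimage_univ] at h
  exact ⟨h⟩

end Groth.Agent.Lib.Helper27.NoethGeneric
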