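import Groth.Agent.Lib.Helper27.QcFppf
import Groth.Agent.Lib.Helper27.QcStack
import Groth.Agent.Lib.Helper27.LocQSmoothOpen
import Groth.Agent.Lib.Helper27.LocQChart
import Groth.Agent.Lib.Helper27.LocQTriple
import Groth.Agent.Lib.Helper27.StPointsTop3
import Groth.Agent.Lib.Helper27.StPointsSurj
import Groth.Agent.Lib.Helper3.SchImVal
import Groth.Agent.Lib.Helper9.ImmDesc1

/-!
# Valuation rings witnessing the closure of the image of a quasi-compact morphism of stacks
(helper27)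
-/

set_option autoImplicit false
set_option backward.isDefEq.respectTransparency false
set_option backward.isDefEq.respectTransparency.types false

universe u

open CategoryTheory CategoryTheory.Limits FibCat AlgebraicGeometry Opposite
  Groth.Agent.Lib.Helper27.FpKit Groth.Agent.Lib.Helper27.PointsKit
  Groth.Agent.Lib.Helper27.StPoints Groth.Agent.Lib.Helper27.RepWithComp
  Groth.Agent.Lib.Helper27.PshKit

namespace Groth.Agent.Lib.Helper27.ValWit

section Sch

open IsLocalRing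

/-- A point in the closure of the image of a quasi-compact morphism of schemes is reached by a
valuation ring of the residue field of a point of the source. -/
theorem exists_val_of_mem_closure {W V : Scheme.{u}} (g : W ⟶ V) [QuasiCompact g] (v : V)
    (hv : v ∈ closure (Set.range g)) :
    ∃ (w : W) (A : ValuationSubring (W.residueField w)) (a₀ : Spec (.of A) ⟶ V),
      a₀ (closedPoint A) = v ∧
      W.fromSpecResidueField w ≫ g =
        Spec.map (CommRingCat.ofHom (algebraMap A (W.residueField w))) ≫ a₀ := by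
  rw [← Scheme.Hom.support_ker, ← Scheme.IdealSheafData.range_subschemeι] at hv
  obtain ⟨z, rfl⟩ := hv
  haveI := Groth.Agent.Lib.Helper9.ImmDesc.isSchemeTheoreticallyDominant_toImage g
  obtain ⟨t, ht⟩ :=
    Groth.Agent.Lib.Helper3.SchIm.exists_specializes_of_schemeTheoreticallyDominant g.toImage z
  have hs : g t ⤳ g.imageι z := by
    have h1 := ht.map g.imageι.continuous
    have h2 : g.imageι (g.toImage t) = g t := by
      rw [← Scheme.Hom.comp_apply, g.toImage_imageι]
    rw [h2] at h1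
    exact h1
  exact ⟨t, Groth.Agent.Lib.Helper3.SchIm.exists_valuationSubring_of_specializes g t _ hs⟩

/-- The spectrum of the fraction ring of a valuation subring maps to the spectrum of the field. -/
theorem exists_fractionRing_factor {K : Type u} [Field K] (A : ValuationSubring K) :
    ∃ k₀ : Spec (CommRingCat.of (FractionRing A)) ⟶ Spec (CommRingCat.of K),
      k₀ ≫ Spec.map (CommRingCat.ofHom (algebraMap A K)) =
        Spec.map (CommRingCat.ofHom (algebraMap A (FractionRing A))) := by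
  let ρ : K →+* FractionRing A := ((FractionRing.algEquiv A K).symm : K →+* FractionRing A)
  refine ⟨Spec.map (CommRingCat.ofHom ρ), ?_⟩
  rw [← Spec.map_comp, ← CommRingCat.ofHom_comp]
  congr 2
  ext a
  exact (FractionRing.algEquiv A K).symm.commutes a

end Sch

variable {S : Scheme.{u}}

local infixr:80 " ⊚ " => BasedFunctor.comp

open Groth.Agent.Lib.Helper27.LocQChart Groth.Agent.Lib.Helper27.LocQTriple in
/-- Composition functors of slices compose. -/
noncomputable def overMapComp {U V W : Over S} (k : U ⟶ V) (g : V ⟶ W) :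
    AlgSt.overMap k ⊚ AlgSt.overMap g ≅ AlgSt.overMap (k ≫ g) :=
  isoOverMap _ ≪≫ eqToIso (by rw [homOf_comp_overMap, homOf_overMap])

open Groth.Agent.Lib.Helper27.LocQChart Groth.Agent.Lib.Helper27.RepCancel in
theorem main (𝒳 𝒴 : AlgSt.Cat S)
    (h𝒳 : AlgSt.IsAlgStack Scheme.fppfPrecoverage 𝒳)
    (h𝒴 : AlgSt.IsAlgStack Scheme.fppfPrecoverage 𝒴)
    (f : 𝒳 ⥤ᵇ 𝒴)
    (hf : AlgSt.IsQuasiCompactMor Scheme.fppfPrecoverage f)
    (y : AlgSt.Points 𝒴) (hy : y ∈ closure (Set.range (AlgSt.Points.map f))) :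
    ∃ (A : Type u) (_ : CommRing A) (_ : IsDomain A) (_ : ValuationRing A)
      (sA : Spec (CommRingCat.of A) ⟶ S)
      (a : FibCat.overCat (Over.mk sA) ⥤ᵇ 𝒴)
      (x : FibCat.overCat (Over.mk (Spec.map (CommRingCat.ofHom (algebraMap A (FractionRing A)))
        ≫ sA)) ⥤ᵇ 𝒳),
      Nonempty (BasedFunctor.comp x f ≅
        BasedFunctor.comp (AlgSt.overMap (Over.homMk (Spec.map (CommRingCat.ofHom
          (algebraMap A (FractionRing A)))) rfl :
          Over.mk (Spec.map (CommRingCat.ofHom (algebraMap A (FractionRing A))) ≫ sA) ⟶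
            Over.mk sA)) a) ∧
      AlgSt.Points.ofChart a (IsLocalRing.closedPoint A) = y := by
  obtain ⟨V, v, hv₁, hv₂⟩ := h𝒴.atlas
  obtain ⟨v₁, rfl⟩ := ofChart_surjective h𝒴.isStack.1 v hv₂ y
  obtain ⟨V₀, hV₀, hv₁V₀, -⟩ :=
    exists_isAffineOpen_mem_and_subset (x := v₁) (U := (⊤ : V.left.Opens)) trivial
  let V₀' : Over S := Over.mk (V₀.ι ≫ V.hom)
  let j : V₀' ⟶ V := Over.homMk V₀.ι rfl
  have hV₀a : IsAffine V₀'.left := hV₀
  have hfV := Groth.Agent.Lib.Helper27.ReprAux.isFibGrpd_overCat V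
  have hfV₀ := Groth.Agent.Lib.Helper27.ReprAux.isFibGrpd_overCat V₀'
  let v₀ : overCat V₀' ⥤ᵇ 𝒴 := AlgSt.overMap j ⊚ v
  have hjs : Smooth j.left := by
    change Smooth V₀.ι
    infer_instance
  have hv₀ : AlgSt.RepByAlgSpWith (AlgSp.LocP @Smooth) v₀ :=
    comp_gen _ (compHyp_locP Groth.Agent.Lib.Helper3.isEtLocal_smooth) hfV₀ hfV
      (AlgSt.overMap j) v
      (Groth.Agent.Lib.Helper27.LocQSmoothOpen.repByAlgSpWith_overMap _
        (Groth.Agent.Lib.Helper27.QcImage.locP_stable Groth.Agent.Lib.Helper3.isEtLocal_smooth) j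
        (Groth.Agent.Lib.Helper27.LocQSmoothOpen.locP_smooth_yon_map j hjs)) hv₁
  obtain ⟨W, w, hWa, hw₁, hw₂⟩ := hf (overCat V₀')
    (Groth.Agent.Lib.Helper27.QcStack.isAlgStack_overCat V₀')
    (Groth.Agent.Lib.Helper27.QcStack.isQuasiCompact_overCat V₀' hV₀a) v₀
  have hfW := Groth.Agent.Lib.Helper27.ReprAux.isFibGrpd_overCat W
  have hffp := Groth.Agent.Lib.Helper27.FpFib.isFibGrpd_fp v₀ f hfV₀ h𝒳.isStack.1 h𝒴.isStack.1
  let Φ : overCat W ⥤ᵇ overCat V₀' := w ⊚ fpFst v₀ f
  let g : W ⟶ V₀' := homOf Φ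
  have iΦ : Φ ≅ AlgSt.overMap g := isoOverMap Φ
  haveI : IsAffine W.left := hWa
  haveI : IsAffine V₀'.left := hV₀a
  haveI : QuasiCompact g.left := inferInstance
  let v₁' : V₀'.left := ⟨v₁, hv₁V₀⟩
  have hjv : j.left v₁' = v₁ := rfl
  -- the point lies in the closure of the image of `g`
  have hcl : v₁' ∈ closure (Set.range g.left) := by
    have hPo := isOpenMap_ofChart_of_smooth h𝒴.isStack.1 v₀ hv₀
    have hP : AlgSt.Points.ofChart v₀ v₁' = AlgSt.Points.ofChart v v₁ := by
      rw [ofChart_overMap, hjv]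
    have h1 : v₁' ∈ AlgSt.Points.ofChart v₀ ⁻¹' closure (Set.range (AlgSt.Points.map f)) := by
      rw [Set.mem_preimage, hP]
      exact hy
    have h2 := hPo.preimage_closure_subset_closure_preimage h1
    refine closure_mono ?_ h2
    rintro t ⟨p, hp⟩
    rw [ofChart_eq] at hp
    obtain ⟨z, hz, -⟩ := exists_points_fp h𝒳.isStack.1 h𝒴.isStack.1 hfV₀ f v₀ (ptOf V₀' t) p hp.symm
    obtain ⟨q, rfl⟩ := isSurjective_of_rep hfW hffp w hw₂ z
    obtain ⟨t', rfl⟩ := (ptOf_bijective W).2 q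
    rw [← map_comp, map_iso iΦ, map_overMap_ptOf] at hz
    exact ⟨t', (ptOf_bijective V₀').1 hz⟩
  obtain ⟨w₀, A, a₀, ha₀, hcomm⟩ := exists_val_of_mem_closure g.left v₁' hcl
  obtain ⟨k₀, hk₀⟩ := exists_fractionRing_factor A
  let sA : Spec (CommRingCat.of A) ⟶ S := a₀ ≫ V₀'.hom
  let a₀' : Over.mk sA ⟶ V₀' := Over.homMk a₀ rfl
  have hWg : g.left ≫ V₀'.hom = W.hom := Over.w g
  have hkw : (k₀ ≫ W.left.fromSpecResidueField w₀) ≫ W.hom =
      Spec.map (CommRingCat.ofHom (algebraMap A (FractionRing A))) ≫ sA := by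
    rw [← hWg, Category.assoc, reassoc_of% hcomm, reassoc_of% hk₀]
  let kW : Over.mk (Spec.map (CommRingCat.ofHom (algebraMap A (FractionRing A))) ≫ sA) ⟶ W :=
    Over.homMk (k₀ ≫ W.left.fromSpecResidueField w₀) hkw
  let m : Over.mk (Spec.map (CommRingCat.ofHom (algebraMap A (FractionRing A))) ≫ sA) ⟶
      Over.mk sA := Over.homMk (Spec.map (CommRingCat.ofHom (algebraMap A (FractionRing A)))) rfl
  have hkg : kW ≫ g = m ≫ a₀' := by
    apply Over.OverMorphism.ext
    change (k₀ ≫ W.left.fromSpecResidueField w₀) ≫ g.left =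
      Spec.map (CommRingCat.ofHom (algebraMap A (FractionRing A))) ≫ a₀
    rw [Category.assoc, hcomm, reassoc_of% hk₀]
  refine ⟨A, inferInstance, inferInstance, inferInstance, sA, AlgSt.overMap a₀' ⊚ v₀,
    AlgSt.overMap kW ⊚ w ⊚ fpSnd v₀ f, ⟨?_⟩, ?_⟩
  · exact whiskerLeftIso (AlgSt.overMap kW ⊚ w) (fpIso v₀ f).symm ≪≫
      whiskerRightIso (whiskerLeftIso (AlgSt.overMap kW) iΦ) v₀ ≪≫
      whiskerRightIso (overMapComp kW g ≪≫ eqToIso (by rw [hkg]) ≪≫ (overMapComp m a₀').symm) v₀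
  · rw [ofChart_overMap, ofChart_overMap]
    change AlgSt.Points.ofChart v (j.left (a₀ (IsLocalRing.closedPoint A))) = _
    rw [ha₀, hjv]

end Groth.Agent.Lib.Helper27.ValWit
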