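import Groth.Agent.Lib.Helper27.IsomQc4
import Groth.Agent.Lib.Helper27.NoethGeneric
import Groth.Agent.Lib.Helper27.ValWit

/-!
# Compactness of categories of isomorphisms over Noetherian affine schemes (helper27)
-/

set_option autoImplicit false
set_option backward.isDefEq.respectTransparency false
set_option backward.isDefEq.respectTransparency.types false

universe u

open CategoryTheory CategoryTheory.Limits FibCat AlgebraicGeometry Opposite
  Groth.Agent.Lib.Helper27.FpKit Groth.Agent.Lib.Helper27.PointsKit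
  Groth.Agent.Lib.Helper27.StPoints Groth.Agent.Lib.Helper27.ReprDiag
  Groth.Agent.Lib.Helper27.FpBaseChange Groth.Agent.Lib.Helper27.DescentKit

namespace Groth.Agent.Lib.Helper27.IsomQc

variable {S : Scheme.{u}} {𝒳 : AlgSt.Cat S}

local infixr:80 " ⊚ " => BasedFunctor.comp

section Restrict

variable {U' U : Over S} (h : U' ⟶ U) (a b : overCat U ⥤ᵇ 𝒳)

theorem baseOf_resE (q' : AlgSt.Points (IsomCat (AlgSt.overMap h ⊚ a) (AlgSt.overMap h ⊚ b))) :
    baseOf a b (AlgSt.Points.map (resE h a b) q') =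
      h.left (baseOf (AlgSt.overMap h ⊚ a) (AlgSt.overMap h ⊚ b) q') := by
  rw [baseOf_eq_iff]
  have h1 := map_mapFst_fst (pairK a b) (diag (toSelf 𝒳)) (AlgSt.overMap h) q'
  rw [h1, ← map_overMap_ptOf, ptOf_baseOf]
  rfl

theorem exists_lift_resE (h𝒳 : AlgSt.IsAlgStack Scheme.fppfPrecoverage 𝒳)
    (q : AlgSt.Points (IsomCat a b)) (t' : ↥U'.left) (hq : baseOf a b q = h.left t') :
    ∃ q' : AlgSt.Points (IsomCat (AlgSt.overMap h ⊚ a) (AlgSt.overMap h ⊚ b)),
      AlgSt.Points.map (resE h a b) q' = q ∧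
        baseOf (AlgSt.overMap h ⊚ a) (AlgSt.overMap h ⊚ b) q' = t' := by
  obtain ⟨q', hq'₁, hq'₂⟩ := exists_point_mapFst (pairK a b) (diag (toSelf 𝒳)) (AlgSt.overMap h)
    (Groth.Agent.Lib.Helper27.ReprAux.isFibGrpd_overCat U)
    (Groth.Agent.Lib.Helper27.ReprAux.isFibGrpd_overCat U')
    (isAlgStack_isomCat h𝒳 a b).isStack.1 q (ptOf U' t') (by
      rw [map_overMap_ptOf, ← hq, ptOf_baseOf])
  refine ⟨q', hq'₁, ?_⟩
  rw [baseOf_eq_iff]
  exact hq'₂

theorem isCompact_preimage_range (h𝒳 : AlgSt.IsAlgStack Scheme.fppfPrecoverage 𝒳)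
    (hc : CompactSpace (AlgSt.Points (IsomCat (AlgSt.overMap h ⊚ a) (AlgSt.overMap h ⊚ b)))) :
    IsCompact (baseOf a b ⁻¹' Set.range h.left.base) := by
  have heq : baseOf a b ⁻¹' Set.range h.left.base =
      Set.range (AlgSt.Points.map (resE h a b)) := by
    ext q
    constructor
    · rintro ⟨t', ht'⟩
      obtain ⟨q', hq', -⟩ := exists_lift_resE h a b h𝒳 q t' ht'.symm
      exact ⟨q', hq'⟩
    · rintro ⟨q', rfl⟩
      exact ⟨_, (baseOf_resE h a b q').symm⟩
  rw [heq]
  exact isCompact_range (continuous_map (isAlgStack_isomCat h𝒳 a b) (resE h a b))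

end Restrict

end Groth.Agent.Lib.Helper27.IsomQc
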