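import Groth.Agent.Lib.Helper27.IsomQc5

/-!
# Compactness of categories of isomorphisms over Noetherian affine schemes: the induction
(helper27)
-/

set_option autoImplicit false
set_option backward.isDefEq.respectTransparency false
set_option backward.isDefEq.respectTransparency.types false

universe u

open CategoryTheory CategoryTheory.Limits FibCat AlgebraicGeometry Opposite
  Groth.Agent.Lib.Helper27.FpKit Groth.Agent.Lib.Helper27.PointsKit
  Groth.Agent.Lib.Helper27.StPoints Groth.Agent.Lib.Helper27.ReprDiag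
  Groth.Agent.Lib.Helper27.FpBaseChange Groth.Agent.Lib.Helper27.DescentKit
  Groth.Agent.Lib.Helper27.RepCancel Groth.Agent.Lib.Helper27.ValWit

namespace Groth.Agent.Lib.Helper27.IsomQc

variable {S : Scheme.{u}} {𝒳 : AlgSt.Cat S}

local infixr:80 " ⊚ " => BasedFunctor.comp

/-- The hypothesis on automorphism spaces. -/
def AutQc (𝒳 : AlgSt.Cat S) : Prop :=
  ∀ (U : Over S), IsAffine U.left → ∀ (x : FibCat.overCat U ⥤ᵇ 𝒳),
      ∃ (F : AlgSp.Space S) (e : AlgSt.ofSp F.obj ⥤ᵇ FibCat.fp (FibCat.fpLift x x (Iso.refl _)) (FibCat.diag (FibCat.toSelf 𝒳))),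
        FibCat.IsEquivOver e ∧
          AlgSp.IsQuasiCompactMor (AlgSt.spMapOfOver (BasedFunctor.comp e (FibCat.fpFst _ _)))

/-- The hypothesis on generic isomorphisms. -/
def GenIso (𝒳 : AlgSt.Cat S) : Prop :=
  ∀ (U : Over S), IsAffine U.left → IsIntegral U.left → ∀ (x y : FibCat.overCat U ⥤ᵇ 𝒳)
      (D : Set ↥U.left), Dense D →
      (∀ t ∈ D, ∃ (L : Type u) (_ : Field L) (g : Spec (CommRingCat.of L) ⟶ U.left), Set.range g.base = {t} ∧
        Nonempty (BasedFunctor.comp (AlgSt.overMap (Over.homMk g rfl : Over.mk (g ≫ U.hom) ⟶ U)) x ≅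
          BasedFunctor.comp (AlgSt.overMap (Over.homMk g rfl : Over.mk (g ≫ U.hom) ⟶ U)) y)) →
      ∃ V : U.left.Opens, Dense (V : Set ↥U.left) ∧
        Nonempty (BasedFunctor.comp (AlgSt.overMap (Over.homMk V.ι rfl : Over.mk (V.ι ≫ U.hom) ⟶ U)) x ≅
          BasedFunctor.comp (AlgSt.overMap (Over.homMk V.ι rfl : Over.mk (V.ι ≫ U.hom) ⟶ U)) y)

section Main

variable (h𝒳 : AlgSt.IsAlgStack Scheme.fppfPrecoverage 𝒳) (hi : AutQc 𝒳) (hii : GenIso 𝒳)

include h𝒳 hi in
/-- Isomorphic objects over an affine scheme have a compact space of isomorphisms. -/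
theorem compactSpace_of_iso_affine {U : Over S} (hU : IsAffine U.left) (x y : overCat U ⥤ᵇ 𝒳)
    (e : x ≅ y) : CompactSpace (AlgSt.Points (IsomCat x y)) :=
  compactSpace_of_iso h𝒳 x x (Iso.refl x) e (compactSpace_aut h𝒳 hU x (hi U hU x))

include h𝒳 hi hii in
theorem compactSpace_isomCat_spec {B : Type u} [CommRing B] [IsNoetherianRing B]
    (sB : Spec (CommRingCat.of B) ⟶ S) (a b : overCat (Over.mk sB) ⥤ᵇ 𝒳) :
    CompactSpace (AlgSt.Points (IsomCat a b)) := by
  refine Groth.Agent.Lib.Helper27.NoethGeneric.compactSpace (B := B)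
    (fun q => (baseOf a b q : PrimeSpectrum B)) ?_
  intro I hI hD
  haveI := hI
  let A := B ⧸ I
  let φ : B →+* A := Ideal.Quotient.mk I
  let UA : Over S := Over.mk (Spec.map (CommRingCat.ofHom φ) ≫ sB)
  let hA : UA ⟶ Over.mk sB := Over.homMk (Spec.map (CommRingCat.ofHom φ)) rfl
  have hAff : IsAffine UA.left := inferInstanceAs (IsAffine (Spec (CommRingCat.of A)))
  have hInt : IsIntegral UA.left := inferInstanceAs (IsIntegral (Spec (CommRingCat.of A)))
  obtain ⟨V, hV, ⟨iso⟩⟩ := hii UA hAff hInt (AlgSt.overMap hA ⊚ a) (AlgSt.overMap hA ⊚ b)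
    {p : PrimeSpectrum A | PrimeSpectrum.comap φ p ∈
      Set.range (fun q => (baseOf a b q : PrimeSpectrum B))} hD (fun t ht => by
    obtain ⟨q, hq⟩ := ht
    obtain ⟨q', -, hq'⟩ := exists_lift_resE hA a b h𝒳 q t hq
    obtain ⟨L, hL, g, hg, hiso⟩ := exists_field_iso h𝒳.isStack.1 _ _ q'
    rw [hq'] at hg
    exact ⟨L, hL, g, hg, hiso⟩)
  haveI : Nonempty ↥UA.left := inferInstanceAs (Nonempty (PrimeSpectrum A))
  obtain ⟨u, hu⟩ := hV.nonempty
  obtain ⟨W, hWaff, huW, hWV⟩ := exists_isAffineOpen_mem_and_subset (x := u) (U := V) hu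
  refine ⟨(W : Set ↥UA.left), W.isOpen, ⟨u, huW⟩, ?_⟩
  let UW : Over S := Over.mk (W.ι ≫ UA.hom)
  let hW : UW ⟶ UA := Over.homMk W.ι rfl
  let UV : Over S := Over.mk (V.ι ≫ UA.hom)
  let hV' : UV ⟶ UA := Over.homMk V.ι rfl
  let jWV : UW ⟶ UV := Over.homMk (UA.left.homOfLE hWV) (by
    change UA.left.homOfLE hWV ≫ V.ι ≫ UA.hom = W.ι ≫ UA.hom
    rw [Scheme.homOfLE_ι_assoc])
  have hfac : hW = jWV ≫ hV' := by
    apply Over.OverMorphism.ext
    exact (Scheme.homOfLE_ι _ hWV).symm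
  have hWaff' : IsAffine UW.left := hWaff
  let isoW : AlgSt.overMap hW ⊚ AlgSt.overMap hA ⊚ a ≅ AlgSt.overMap hW ⊚ AlgSt.overMap hA ⊚ b :=
    whiskerRightIso (eqToIso (by rw [hfac]) ≪≫ (overMapComp jWV hV').symm) (AlgSt.overMap hA ⊚ a) ≪≫
      whiskerLeftIso (AlgSt.overMap jWV) iso ≪≫
      whiskerRightIso (overMapComp jWV hV' ≪≫ eqToIso (by rw [hfac])) (AlgSt.overMap hA ⊚ b)
  have h1 := compactSpace_of_iso_affine h𝒳 hi hWaff' _ _ isoW
  have h2 := compactSpace_of_iso h𝒳 _ _ (whiskerRightIso (overMapComp hW hA) a)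
    (whiskerRightIso (overMapComp hW hA) b) h1
  have h3 := isCompact_preimage_range (hW ≫ hA) a b h𝒳 h2
  have hr : Set.range (hW ≫ hA).left.base = PrimeSpectrum.comap φ '' (W : Set ↥UA.left) := by
    change Set.range (W.ι ≫ Spec.map (CommRingCat.ofHom φ)).base = _
    rw [Scheme.Hom.comp_base, TopCat.coe_comp, Set.range_comp]
    congr 1
    exact Scheme.Opens.range_ι W
  rw [hr] at h3
  exact h3

end Main

end Groth.Agent.Lib.Helper27.IsomQc
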