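import Groth.Agent.Lib.Helper3.AlgSpQC4
import Groth.Agent.Lib.Helper3.AlgSpFibre

/-!
# Quasi-compact algebraic spaces over affine schemes (helper27)
-/

set_option autoImplicit false
set_option backward.isDefEq.respectTransparency false
set_option backward.isDefEq.respectTransparency.types false

universe u

open CategoryTheory CategoryTheory.Limits AlgebraicGeometry Opposite

namespace Groth.Agent.Lib.Helper27.QcAffine

variable {S : Scheme.{u}}

/-- The underlying scheme of a fibre product of affine schemes over an affine scheme in the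
slice is compact. -/
theorem compactSpace_pullback_left {M Z W : Over S} (k : M ⟶ W) (g : Z ⟶ W)
    (hM : IsAffine M.left) (hZ : IsAffine Z.left) (hW : IsAffine W.left) :
    CompactSpace ↥(pullback k g).left := by
  have : IsAffine M.left := hM
  have : IsAffine Z.left := hZ
  have : IsAffine W.left := hW
  let i : (pullback k g).left ≅ pullback k.left g.left :=
    PreservesPullback.iso (Over.forget S) k g
  have : CompactSpace ↥(pullback k.left g.left) := inferInstance
  exact i.hom.homeomorph.symm.compactSpace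

/-- A morphism from a quasi-compact algebraic space to an affine scheme is quasi-compact. -/
theorem isQuasiCompactMor_of_isAffine {F : AlgSp.Sp S} (hF : AlgSp.IsAlgSpace F) {W : Over S}
    (hW : IsAffine W.left) (f : F ⟶ (AlgSp.yon S).obj W) (hqc : AlgSp.IsQuasiCompactSp F) :
    AlgSp.IsQuasiCompactMor f := by
  apply Groth.Agent.Lib.Helper3.isQuasiCompactMor_of_forall_affine hF
    (AlgSp.IsAlgSpace.yon_obj W).diag
  intro Z hZ g P fst snd sq
  obtain ⟨M, m, -, hms, hMa⟩ := Groth.Agent.Lib.Helper3.exists_affine_chart_of_isQuasiCompactSp hqc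
  obtain ⟨k, hk⟩ := (AlgSp.yon S).map_surjective (m ≫ f)
  obtain ⟨g', rfl⟩ := (AlgSp.yon S).map_surjective g
  have sqQ : IsPullback ((AlgSp.yon S).map (pullback.fst k g'))
      ((AlgSp.yon S).map (pullback.snd k g')) ((AlgSp.yon S).map k) ((AlgSp.yon S).map g') :=
    (IsPullback.of_hasPullback k g').map (AlgSp.yon S)
  have hw : ((AlgSp.yon S).map (pullback.fst k g') ≫ m) ≫ f =
      (AlgSp.yon S).map (pullback.snd k g') ≫ (AlgSp.yon S).map g' := by
    rw [Category.assoc, ← hk, sqQ.w]
  let l : (AlgSp.yon S).obj (pullback k g') ⟶ P := sq.lift _ _ hw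
  have hl₁ : l ≫ fst = (AlgSp.yon S).map (pullback.fst k g') ≫ m := sq.lift_fst _ _ hw
  have hl₂ : l ≫ snd = (AlgSp.yon S).map (pullback.snd k g') := sq.lift_snd _ _ hw
  have sqL : IsPullback ((AlgSp.yon S).map (pullback.fst k g')) l m fst := by
    refine IsPullback.of_bot ?_ hl₁.symm sq
    rw [hl₂, ← hk]
    exact sqQ
  have hP : AlgSp.IsAlgSpace P :=
    Groth.Agent.Lib.Helper3.isAlgSpace_of_isPullback (AlgSp.IsAlgSpace.yon_obj W).diag hF
      (AlgSp.IsAlgSpace.yon_obj Z) sq
  have hl : AlgSp.IsSurjectiveMor l :=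
    Groth.Agent.Lib.Helper3.isSurjectiveMor_fst_of_isPullback sqL.flip
      (Groth.Agent.Lib.Helper3.isSurjectiveMor_of_repWith hms)
  exact Groth.Agent.Lib.Helper3.isQuasiCompactSp_of_isSurjectiveMor l hl
    (Groth.Agent.Lib.Helper3.isQuasiCompactSp_yon (compactSpace_pullback_left k g' hMa hZ hW)) hP

end Groth.Agent.Lib.Helper27.QcAffine
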