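import Groth.Agent.Lib.Helper27.IsomQc6
import Groth.Agent.Lib.Helper27.QcAffine
import Groth.Agent.Lib.Helper27.RepChart
import Groth.Agent.Lib.Helper27.ImmNoeth
import Groth.Agent.Lib.Helper27.DescentFam
import Groth.Agent.Lib.Helper27.RepWithKit
import Groth.Agent.S10519

/-!
# Quasi-compactness of base changes of the diagonal (helper27)
-/

set_option autoImplicit false
set_option backward.isDefEq.respectTransparency false
set_option backward.isDefEq.respectTransparency.types false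

universe u

open CategoryTheory CategoryTheory.Limits FibCat AlgebraicGeometry Opposite
  Groth.Agent.Lib.Helper27.FpKit Groth.Agent.Lib.Helper27.PointsKit
  Groth.Agent.Lib.Helper27.StPoints Groth.Agent.Lib.Helper27.ReprDiag
  Groth.Agent.Lib.Helper27.FpBaseChange Groth.Agent.Lib.Helper27.DescentKit
  Groth.Agent.Lib.Helper27.RepCancel Groth.Agent.Lib.Helper27.ValWit
  Groth.Agent.Lib.Helper27.RepWithComp

namespace Groth.Agent.Lib.Helper27.IsomQc

variable {S : Scheme.{u}} {𝒳 : AlgSt.Cat S}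

local infixr:80 " ⊚ " => BasedFunctor.comp

/-- The base change of the diagonal along `y` is presented by a quasi-compact morphism. -/
def QCAt {T : Over S} (y : overCat T ⥤ᵇ fp (toSelf 𝒳) (toSelf 𝒳)) : Prop :=
  ∃ (F : AlgSp.Space S) (e : AlgSt.ofSp F.obj ⥤ᵇ fp y (diag (toSelf 𝒳))), IsEquivOver e ∧
    AlgSp.IsQuasiCompactMor (AlgSt.spMapOfOver (e ⊚ fpFst y (diag (toSelf 𝒳))))

theorem qcAt_of_iso {T : Over S} {y y' : overCat T ⥤ᵇ fp (toSelf 𝒳) (toSelf 𝒳)} (κ : y' ≅ y)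
    (h : QCAt y) : QCAt y' :=
  Groth.Agent.Lib.Helper27.RepWithKit.transport' _
    (isoMapFst (diag (toSelf 𝒳)) y y' κ) (isEquivOver_isoMapFst _ _ _ _)
    (fpFst y' (diag (toSelf 𝒳))) (fpFst y (diag (toSelf 𝒳)))
    (fun _ => ⟨Iso.refl _, Vert.id _⟩) h

theorem qcAt_overMap {T V : Over S} (h : V ⟶ T) {y : overCat T ⥤ᵇ fp (toSelf 𝒳) (toSelf 𝒳)}
    (hy : QCAt y) : QCAt (AlgSt.overMap h ⊚ y) := by
  obtain ⟨F, e, he, hqc⟩ := hy
  have h1 : AlgSt.RepByAlgSpWith AlgSp.IsQuasiCompactMor (fpFst y (diag (toSelf 𝒳))) :=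
    Groth.Agent.Lib.Helper27.RepChart.repByAlgSpWith_of_struct _
      Groth.Agent.Lib.Helper27.ImmNoeth.qc_stable (fpFst y (diag (toSelf 𝒳))) F e he hqc
  exact Groth.Agent.Lib.Helper27.RepWithKit.transport _
    (pasteL (diag (toSelf 𝒳)) y (AlgSt.overMap h)) (isEquivOver_pasteL _ _ _)
    (fpFst (AlgSt.overMap h) (fpFst y (diag (toSelf 𝒳))))
    (fpFst (AlgSt.overMap h ⊚ y) (diag (toSelf 𝒳)))
    (fun _ => ⟨Iso.refl _, Vert.id _⟩) (h1 V (AlgSt.overMap h))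

theorem qcAt_of_cover (h𝒳 : AlgSt.IsAlgStack Scheme.fppfPrecoverage 𝒳) {T : Over S}
    (y : overCat T ⥤ᵇ fp (toSelf 𝒳) (toSelf 𝒳)) {ι : Type u} (V : ι → Over S)
    (h : ∀ i, V i ⟶ T) (hfl : ∀ i, Flat (h i).left)
    (hfp : ∀ i, LocallyOfFinitePresentation (h i).left)
    (hsurj : ∀ u : ↥T.left, ∃ i, u ∈ Set.range (h i).left)
    (H : ∀ i, QCAt (AlgSt.overMap (h i) ⊚ y)) : QCAt y := by
  obtain ⟨F, e, he⟩ := h𝒳.diag T y
  exact ⟨F, e, he, Groth.Agent.Lib.Helper27.DescentFam.descent_over_schemes _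
    (isLocalOnBase_fppf_of_fpqc _ (Groth.Agent.S10519.result S)) (diag (toSelf 𝒳)) y F e he V h
    hfl hfp hsurj (fun i => AlgSt.overMap (h i) ⊚ y) (fun i => Iso.refl _) H⟩

end Groth.Agent.Lib.Helper27.IsomQc
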