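import Groth.Agent.Lib.Helper27.IsomQc7

/-!
# Quasi-compactness of base changes of the diagonal over Noetherian affine schemes (helper27)
-/

set_option autoImplicit false
set_option backward.isDefEq.respectTransparency false
set_option backward.isDefEq.respectTransparency.types false

universe u

open CategoryTheory CategoryTheory.Limits FibCat AlgebraicGeometry Opposite
  Groth.Agent.Lib.Helper27.FpKit Groth.Agent.Lib.Helper27.PointsKit
  Groth.Agent.Lib.Helper27.StPoints Groth.Agent.Lib.Helper27.ReprDiag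
  Groth.Agent.Lib.Helper27.FpBaseChange Groth.Agent.Lib.Helper27.DescentKit
  Groth.Agent.Lib.Helper27.RepCancel Groth.Agent.Lib.Helper27.ValWit
  Groth.Agent.Lib.Helper27.RepWithComp

namespace Groth.Agent.Lib.Helper27.IsomQc

variable {S : Scheme.{u}} {𝒳 : AlgSt.Cat S}

local infixr:80 " ⊚ " => BasedFunctor.comp

section Main

variable (h𝒳 : AlgSt.IsAlgStack Scheme.fppfPrecoverage 𝒳) (hi : AutQc 𝒳) (hii : GenIso 𝒳)

include h𝒳 hi hii

theorem compactSpace_isomCat_affine {U : Over S} (hU : IsAffine U.left)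
    [IsLocallyNoetherian U.left] (a b : overCat U ⥤ᵇ 𝒳) :
    CompactSpace (AlgSt.Points (IsomCat a b)) := by
  haveI := hU
  haveI : IsNoetherianRing Γ(U.left, ⊤) :=
    IsLocallyNoetherian.component_noetherian ⟨⊤, isAffineOpen_top U.left⟩
  let sB : Spec (CommRingCat.of Γ(U.left, ⊤)) ⟶ S := U.left.isoSpec.inv ≫ U.hom
  let θ : Over.mk sB ⟶ U := Over.homMk U.left.isoSpec.inv rfl
  have h1 := compactSpace_isomCat_spec h𝒳 hi hii sB (AlgSt.overMap θ ⊚ a) (AlgSt.overMap θ ⊚ b)
  have h2 := isCompact_preimage_range θ a b h𝒳 h1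
  have hr : Set.range θ.left.base = Set.univ := by
    have : Function.Surjective U.left.isoSpec.inv.base := U.left.isoSpec.inv.homeomorph.surjective
    exact this.range_eq
  rw [hr, Set.preimage_univ] at h2
  exact ⟨h2⟩

theorem qcAt_pairK_affine {U : Over S} (hU : IsAffine U.left)
    [IsLocallyNoetherian U.left] (a b : overCat U ⥤ᵇ 𝒳) : QCAt (pairK a b) := by
  obtain ⟨F, e, he⟩ := h𝒳.diag U (pairK a b)
  have hc := compactSpace_isomCat_affine h𝒳 hi hii hU a b
  have hF : AlgSp.IsQuasiCompactSp F.obj := isQuasiCompactSp_of_compactSpace F e he hc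
  exact ⟨F, e, he, Groth.Agent.Lib.Helper27.QcAffine.isQuasiCompactMor_of_isAffine F.property hU _ hF⟩

end Main

end Groth.Agent.Lib.Helper27.IsomQc
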