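import Groth.Agent.Lib.Helper27.IsomQc8

/-!
# Functors to the square of a stack are pairs (helper27)
-/

set_option autoImplicit false
set_option backward.isDefEq.respectTransparency false
set_option backward.isDefEq.respectTransparency.types false

universe u

open CategoryTheory CategoryTheory.Limits FibCat AlgebraicGeometry Opposite
  Groth.Agent.Lib.Helper27.FpKit Groth.Agent.Lib.Helper27.PointsKit
  Groth.Agent.Lib.Helper27.StPoints Groth.Agent.Lib.Helper27.ReprDiag
  Groth.Agent.Lib.Helper27.FpBaseChange Groth.Agent.Lib.Helper27.DescentKit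
  Groth.Agent.Lib.Helper27.RepCancel Groth.Agent.Lib.Helper27.ValWit
  Groth.Agent.Lib.Helper27.RepWithComp

namespace Groth.Agent.Lib.Helper27.IsomQc

variable {S : Scheme.{u}} {𝒳 : AlgSt.Cat S}

local infixr:80 " ⊚ " => BasedFunctor.comp

section Pair

variable {T : Over S} (y : overCat T ⥤ᵇ fp (toSelf 𝒳) (toSelf 𝒳))

/-- Objectwise comparison of a functor to the square with the pair of its components. -/
def isoPairKObj (c : Over T) :
    y.toFunctor.obj c ≅ (pairK (y ⊚ fpFst (toSelf 𝒳) (toSelf 𝒳))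
      (y ⊚ fpSnd (toSelf 𝒳) (toSelf 𝒳))).toFunctor.obj c :=
  mkIso (t := y.toFunctor.obj c) (t' := (pairK (y ⊚ fpFst (toSelf 𝒳) (toSelf 𝒳))
      (y ⊚ fpSnd (toSelf 𝒳) (toSelf 𝒳))).toFunctor.obj c) (Iso.refl _) (Iso.refl _) (by
    apply selfOver_ext (𝟙 _)
    · exact (((Vert.id _).map (toSelf 𝒳)).comp (vert_iso ((pairK (y ⊚ fpFst (toSelf 𝒳) (toSelf 𝒳))
        (y ⊚ fpSnd (toSelf 𝒳) (toSelf 𝒳))).toFunctor.obj c))).lift rfl
    · exact ((vert_iso (y.toFunctor.obj c)).comp ((Vert.id _).map (toSelf 𝒳))).lift rfl)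

/-- A functor to the square is isomorphic to the pair of its components. -/
def isoPairK : y ≅ pairK (y ⊚ fpFst (toSelf 𝒳) (toSelf 𝒳)) (y ⊚ fpSnd (toSelf 𝒳) (toSelf 𝒳)) :=
  BasedNatIso.mkNatIso
    (NatIso.ofComponents (fun c => isoPairKObj y c)
      (fun {c c'} m => by
        apply Groth.Agent.Lib.Helper27.StackFp.hom_ext'
        · exact (Category.comp_id _).trans (Category.id_comp _).symm
        · exact (Category.comp_id _).trans (Category.id_comp _).symm))
    (fun c => ((vert_hom_iff (isoPairKObj y c).hom).2 (Vert.id _)).lift (y.w_obj c))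

end Pair

end Groth.Agent.Lib.Helper27.IsomQc
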