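import Mathlib.Topology.Connected.Clopen
import Mathlib.Topology.Connected.TotallyDisconnected
import Mathlib.Topology.Sets.Closeds
import Mathlib.Data.Set.Finite.Powerset

/-!
# Finiteness of the set of connected components under finite-to-one open and closed maps
-/

set_option autoImplicit false
universe u

open TopologicalSpace Set

namespace Groth.Agent.Lib.Helper27.KPi1

variable {X Y : Type u} [TopologicalSpace X] [TopologicalSpace Y]

/-- A space with finitely many clopen subsets has finitely many connected components. -/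
theorem finite_connectedComponents_of_finite_clopens (h : Finite (Clopens X)) :
    Finite (ConnectedComponents X) := by
  classical
  -- the intersection of all clopens containing `x` is clopen and preconnected
  have key : ∀ x x' : X, (∀ Z : Clopens X, x ∈ Z → x' ∈ Z) → x' ∈ connectedComponent x := by
    intro x x' hxx'
    let Q : Set X := ⋂ Z ∈ {Z : Clopens X | x ∈ Z}, (Z : Set X)
    have hQc : IsClopen Q := by
      have hfin : ({Z : Clopens X | x ∈ Z}).Finite := Set.toFinite _
      exact hfin.isClopen_biInter fun Z _ => Z.isClopen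
    have hxQ : x ∈ Q := by
      simp only [Q, mem_iInter]
      exact fun Z hZ => hZ
    have hx'Q : x' ∈ Q := by
      simp only [Q, mem_iInter]
      exact fun Z hZ => hxx' Z hZ
    have hQmin : ∀ A : Set X, IsClopen A → x ∈ A → Q ⊆ A := by
      intro A hA hxA
      exact biInter_subset_of_mem (s := {Z : Clopens X | x ∈ Z}) (t := fun Z => (Z : Set X))
        (show (⟨A, hA⟩ : Clopens X) ∈ {Z : Clopens X | x ∈ Z} from hxA)
    have hQpre : IsPreconnected Q := by
      rw [isPreconnected_iff_subset_of_disjoint_closed]
      intro u v hu hv hQuv huv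
      -- `Q ∩ u` is clopen
      have hA : IsClopen (Q ∩ u) := by
        refine ⟨hQc.1.inter hu, ?_⟩
        have : Q ∩ u = Q \ v := by
          ext z
          constructor
          · rintro ⟨hzQ, hzu⟩
            exact ⟨hzQ, fun hzv => (huv ▸ (⟨hzQ, hzu, hzv⟩ : z ∈ Q ∩ (u ∩ v)) : z ∈ (∅ : Set X))⟩
          · rintro ⟨hzQ, hzv⟩
            exact ⟨hzQ, (hQuv hzQ).resolve_right hzv⟩
        rw [this]
        exact hQc.2.sdiff hv
      have hB : IsClopen (Q ∩ v) := by
        refine ⟨hQc.1.inter hv, ?_⟩
        have : Q ∩ v = Q \ u := by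
          ext z
          constructor
          · rintro ⟨hzQ, hzv⟩
            exact ⟨hzQ, fun hzu => (huv ▸ (⟨hzQ, hzu, hzv⟩ : z ∈ Q ∩ (u ∩ v)) : z ∈ (∅ : Set X))⟩
          · rintro ⟨hzQ, hzu⟩
            exact ⟨hzQ, (hQuv hzQ).resolve_left hzu⟩
        rw [this]
        exact hQc.2.sdiff hu
      rcases hQuv hxQ with hxu | hxv
      · left
        exact fun z hz => (hQmin _ hA ⟨hxQ, hxu⟩ hz).2
      · right
        exact fun z hz => (hQmin _ hB ⟨hxQ, hxv⟩ hz).2
    exact hQpre.subset_connectedComponent hxQ hx'Q
  let Φ : ConnectedComponents X → Set (Clopens X) :=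
    fun c => {Z | ConnectedComponents.mk ⁻¹' {c} ⊆ (Z : Set X)}
  refine Finite.of_injective Φ ?_
  intro c c' hcc'
  obtain ⟨x, rfl⟩ := ConnectedComponents.surjective_coe c
  obtain ⟨x', rfl⟩ := ConnectedComponents.surjective_coe c'
  rw [ConnectedComponents.coe_eq_coe']
  apply key x' x
  intro Z hZ
  have h1 : (Z : Clopens X) ∈ Φ (x' : ConnectedComponents X) := by
    show ConnectedComponents.mk ⁻¹' {(x' : ConnectedComponents X)} ⊆ (Z : Set X)
    rw [connectedComponents_preimage_singleton]
    exact Z.isClopen.connectedComponent_subset hZ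
  rw [← hcc'] at h1
  have h2 : ConnectedComponents.mk ⁻¹' {(x : ConnectedComponents X)} ⊆ (Z : Set X) := h1
  rw [connectedComponents_preimage_singleton] at h2
  exact h2 mem_connectedComponent

/-- For an open and closed map with finite fibres onto a space with finitely many connected
components, the source has finitely many clopen subsets. -/
theorem finite_clopens_of_isOpenMap_of_isClosedMap (f : X → Y) (ho : IsOpenMap f)
    (hc : IsClosedMap f) (hfib : ∀ y, (f ⁻¹' {y}).Finite) (hY : Finite (ConnectedComponents Y)) :
    Finite (Clopens X) := by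
  classical
  choose rep hrep using fun c : ConnectedComponents Y => ConnectedComponents.surjective_coe c
  let T : Set X := ⋃ c : ConnectedComponents Y, f ⁻¹' {rep c}
  have hT : T.Finite := Set.finite_iUnion fun c => hfib (rep c)
  haveI : Finite {s : Set X | s ⊆ T} := hT.finite_subsets
  let Ψ : Clopens X → {s : Set X | s ⊆ T} := fun Z => ⟨(Z : Set X) ∩ T, inter_subset_right⟩
  refine Finite.of_injective Ψ ?_
  intro Z Z' hZZ'
  have hZZ : (Z : Set X) ∩ T = (Z' : Set X) ∩ T := congrArg Subtype.val hZZ'
  -- one inclusion, by symmetry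
  have key : ∀ A B : Clopens X, (A : Set X) ∩ T = (B : Set X) ∩ T → (A : Set X) ⊆ B := by
    intro A B hAB x hxA
    by_contra hxB
    let D : Set X := (A : Set X) \ B
    have hD : IsClopen D := A.isClopen.diff B.isClopen
    have hfD : IsClopen (f '' D) := ⟨hc _ hD.1, ho _ hD.2⟩
    have hsub := hfD.connectedComponent_subset (mem_image_of_mem f (show x ∈ D from ⟨hxA, hxB⟩))
    have hr : rep (f x : ConnectedComponents Y) ∈ connectedComponent (f x) := by
      have := hrep (f x : ConnectedComponents Y)
      rw [ConnectedComponents.coe_eq_coe'] at this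
      exact this
    obtain ⟨x'', hx''D, hx''⟩ := hsub hr
    have hx''T : x'' ∈ T := mem_iUnion.2 ⟨(f x : ConnectedComponents Y), hx''⟩
    have : x'' ∈ (B : Set X) ∩ T := hAB ▸ (⟨hx''D.1, hx''T⟩ : x'' ∈ (A : Set X) ∩ T)
    exact hx''D.2 this.1
  exact SetLike.coe_injective (Subset.antisymm (key Z Z' hZZ) (key Z' Z hZZ.symm))

end Groth.Agent.Lib.Helper27.KPi1
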