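import Groth.Agent.Lib.Helper27.KPi1a
import Groth.Agent.Lib.Helper27.KPi1b
import Groth.Agent.Lib.Helper27.EtNorm6
import Groth.Agent.Lib.Helper23.FlcBasic
import Groth.Agent.S0106

/-!
# Invariance of the `K(π,1)` property under finite étale surjective morphisms
-/

set_option autoImplicit false
set_option backward.isDefEq.respectTransparency false
universe u

open CategoryTheory Limits Opposite AlgebraicGeometry Abelian

namespace Groth.Agent.Lib.Helper27.KPi1

open Groth.Agent.Lib.Helper23.HpullComp Groth.Agent.Lib.Helper23.HpullNat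
  Groth.Agent.Lib.Helper23.ExtAdj Groth.Agent.Lib.Helper27.EtNorm

section Killed

variable {X Y : Scheme.{u}}

theorem killedBy_iff (n : ℕ) (F : EtCoh.Ab X) : EtCoh.KilledBy n F ↔ n • 𝟙 F = 0 := by
  constructor
  · intro h
    apply Sheaf.hom_ext
    apply NatTrans.ext
    funext U
    apply AddCommGrpCat.hom_ext
    ext s
    have h1 := nsmul_id_apply F n U s
    have h2 : n • s = 0 := h U.unop s
    exact h1.trans h2
  · intro h U s
    have h1 := nsmul_id_apply F n (op U) s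
    rw [h] at h1
    exact h1.symm

theorem killedBy_map (Φ : EtCoh.Ab X ⥤ EtCoh.Ab Y) [Φ.Additive] (n : ℕ) (F : EtCoh.Ab X)
    (h : EtCoh.KilledBy n F) : EtCoh.KilledBy n (Φ.obj F) := by
  rw [killedBy_iff] at h ⊢
  rw [← Φ.map_id, ← Φ.map_nsmul, h, Φ.map_zero]

end Killed

/-- `Z` is a `K(π,1)` for `P`-torsion coefficients. -/
def IsKPi1 (P : Set ℕ) (Z : Scheme.{u}) : Prop :=
  ∀ (F : EtCoh.Ab Z), EtCoh.IsFiniteLocallyConstant F →
    (∃ n : ℕ, 0 < n ∧ (∀ p : ℕ, p.Prime → p ∣ n → p ∈ P) ∧ EtCoh.KilledBy n F) →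
    ∀ q : ℕ, 0 < q → ∀ ζ : EtCoh.H Z F q,
      ∃ (Z' : Scheme.{u}) (g : Z' ⟶ Z), IsFinite g ∧ Etale g ∧ Surjective g ∧
        ∀ [PreservesFiniteLimits (EtCoh.pull g)], EtCore.Hpull g F q ζ = 0

variable (P : Set ℕ) {X Y : Scheme.{u}} (f : X ⟶ Y) [IsFinite f] [Etale f] [Surjective f]

include f in
theorem isKPi1_source (hY : IsKPi1 P Y) : IsKPi1 P X := by
  intro F hF hn q hq ζ
  obtain ⟨n, hn0, hP, hk⟩ := hn
  obtain ⟨ζY, hζ⟩ := exists_push_class f F q ζ
  have hG : EtCoh.IsFiniteLocallyConstant ((EtCoh.push f).obj F) := Groth.Agent.S0106.result f F hF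
  have hkG : EtCoh.KilledBy n ((EtCoh.push f).obj F) := killedBy_map (EtCoh.push f) n F hk
  obtain ⟨Y', g, hgf, hge, hgs, hg0⟩ := hY _ hG ⟨n, hn0, hP, hkG⟩ q hq ζY
  haveI := hgf
  haveI := hge
  haveI := hgs
  have hg0' : EtCore.Hpull g _ q ζY = 0 := hg0
  refine ⟨pullback f g, pullback.fst f g, inferInstance, inferInstance, inferInstance, ?_⟩
  intro _
  rw [hζ, Hpull_comp_mk₀,
    Hpull_Hpull (pullback.fst f g) f (pullback.fst f g ≫ f) rfl _ q ζY
      (Hpull_eq_zero_of_factor (pullback.snd f g) g _ pullback.condition.symm _ q ζY hg0'),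
    Ext.zero_comp]

include f in
theorem isKPi1_target (hX : IsKPi1 P X) : IsKPi1 P Y := by
  intro F hF hn q hq ζ
  obtain ⟨n, hn0, hP, hk⟩ := hn
  have hF' : EtCoh.IsFiniteLocallyConstant ((EtCoh.pull f).obj F) :=
    Groth.Agent.Lib.Helper23.Flc.flc_pull f F hF
  haveI : (EtCoh.pull f).Additive := inferInstance
  have hk' : EtCoh.KilledBy n ((EtCoh.pull f).obj F) := killedBy_map (EtCoh.pull f) n F hk
  obtain ⟨X', g, hgf, hge, hgs, hg0⟩ := hX _ hF' ⟨n, hn0, hP, hk'⟩ q hq (EtCore.Hpull f F q ζ)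
  haveI := hgf
  haveI := hge
  haveI := hgs
  have hg0' : EtCore.Hpull g _ q (EtCore.Hpull f F q ζ) = 0 := hg0
  refine ⟨X', g ≫ f, inferInstance, inferInstance, inferInstance, ?_⟩
  intro _
  rw [← HpullVia_Hpull g f (g ≫ f) rfl F q ζ]
  have hv : EtCore.HpullVia g f (g ≫ f) rfl F q (EtCore.Hpull f F q ζ) =
      (EtCore.Hpull g _ q (EtCore.Hpull f F q ζ)).comp
        (Ext.mk₀ ((((EtCore.pullComp g f).symm ≪≫ EtCore.pullCongr rfl).app F).hom))
        (add_zero q) := rfl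
  rw [hv, hg0', Ext.zero_comp]

end Groth.Agent.Lib.Helper27.KPi1
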