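import Groth.Agent.Lib.Helper27.KPi1c
import Mathlib.AlgebraicGeometry.Morphisms.QuasiFinite
import Mathlib.AlgebraicGeometry.Morphisms.UniversallyOpen
import Mathlib.AlgebraicGeometry.Morphisms.QuasiSeparated

/-!
# Topological finiteness of a finite étale cover
-/

set_option autoImplicit false
universe u

open CategoryTheory Limits Opposite AlgebraicGeometry

namespace Groth.Agent.Lib.Helper27.KPi1

variable {X Y : Scheme.{u}} (f : X ⟶ Y) [IsFinite f] [Etale f]

include f in
theorem finite_connectedComponents (hconn : Finite (_root_.ConnectedComponents ↥Y)) :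
    Finite (_root_.ConnectedComponents ↥X) := by
  apply finite_connectedComponents_of_finite_clopens
  exact finite_clopens_of_isOpenMap_of_isClosedMap f.base f.isOpenMap f.isClosedMap
    (fun y => f.finite_preimage_singleton y) hconn

include f in
theorem top_part [CompactSpace ↥Y] [QuasiSeparatedSpace ↥Y]
    (hconn : Finite (_root_.ConnectedComponents ↥Y)) :
    CompactSpace ↥X ∧ QuasiSeparatedSpace ↥X ∧ Finite (_root_.ConnectedComponents ↥X) :=
  ⟨QuasiCompact.compactSpace_of_compactSpace f, quasiSeparatedSpace_of_quasiSeparated f,
    finite_connectedComponents f hconn⟩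

end Groth.Agent.Lib.Helper27.KPi1
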