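import Groth.Agent.Lib.Helper27.LargestPres
import Groth.Agent.Lib.Helper27.AlgSpMono
import Groth.Agent.Lib.Helper27.StPointsSurj

/-!
# The largest open substack on which a representable morphism has a property: the restriction
has the property, and maximality (helper27)
-/

set_option autoImplicit false
set_option backward.isDefEq.respectTransparency false
set_option backward.isDefEq.respectTransparency.types false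

universe u

open CategoryTheory CategoryTheory.Limits AlgebraicGeometry Opposite FibCat
  Groth.Agent.Lib.Helper27.FpKit Groth.Agent.Lib.Helper27.PshKit Groth.Agent.Lib.Helper27.PshFp
  Groth.Agent.Lib.Helper27.PshRep Groth.Agent.Lib.Helper27.RepWithComp
  Groth.Agent.Lib.Helper27.Descent Groth.Agent.Lib.Helper27.BaseChangePres
  Groth.Agent.Lib.Helper27.OpenSub Groth.Agent.Lib.Helper27.StPoints

namespace Groth.Agent.Lib.Helper27.Largest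

variable {S : Scheme.{u}}

open Stk

local infixr:80 " ⊚ " => BasedFunctor.comp

section PPart

variable {𝒳 𝒴 : AlgSt.Cat S} (f : 𝒳 ⥤ᵇ 𝒴) (Q₀ : 𝒳.obj → Prop)
  {Y' X' W : AlgSp.Space S} (y' : AlgSt.ofSp Y'.obj ⥤ᵇ 𝒴) (e : AlgSt.ofSp X'.obj ⥤ᵇ fp y' f)
  (w : W ⟶ X')

/-- The restriction to the open substack has `P` as soon as the open subspace has. -/
theorem repByAlgSpWith_subIncl (P : MorphismProperty (AlgSp.Sp S))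
    (hPb : ∀ ⦃X₁ Y₁ X₂ Y₂ : AlgSp.Sp S⦄, AlgSp.IsAlgSpace X₁ → AlgSp.IsAlgSpace Y₁ →
      AlgSp.IsAlgSpace X₂ → AlgSp.IsAlgSpace Y₂ → ∀ (a : X₁ ⟶ Y₁) (b : Y₂ ⟶ Y₁) (a' : X₂ ⟶ Y₂)
      (b' : X₂ ⟶ X₁), IsPullback b' a' a b → P a → P a')
    (hP : AlgSp.IsLocalOnBase AlgSp.IsFppfCover P)
    (hf₀ : AlgSt.RepByAlgSp1 (AlgSt.subIncl 𝒳 Q₀ ⊚ f))
    (hy'₁ : AlgSt.RepByAlgSpWith (AlgSp.LocP @Flat) y')
    (hy'₂ : AlgSt.RepByAlgSpWith (AlgSp.LocP @LocallyOfFinitePresentation) y')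
    (hy'₃ : AlgSt.RepByAlgSpWith AlgSp.IsSurjectiveMor y')
    (hQ₀ : ∀ ⦃a b : 𝒳.obj⦄ (_ : a ⟶ b), Q₀ b → Q₀ a)
    (he : IsEquivOver e) (hw : Mono w.hom)
    (π : X' ⟶ Y') (hπ : π.hom.hom = pshMapOf (e ⊚ fpFst y' f)) (hPa : P (w ≫ π).hom)
    (H1 : ∀ u, Q₀ ((e ⊚ fpSnd y' f).toFunctor.obj ((AlgSt.ofSpMap w.hom).toFunctor.obj u)))
    (H2 : ∀ z, Q₀ ((e ⊚ fpSnd y' f).toFunctor.obj z) → InRange w.hom z) :
    AlgSt.RepByAlgSpWith P (AlgSt.subIncl 𝒳 Q₀ ⊚ f) := by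
  obtain ⟨e₀, he₀, hfst⟩ := exists_pres_subIncl f Q₀ y' e w.hom hQ₀ he H1 H2
  have κ : e₀ ⊚ fpFst y' (AlgSt.subIncl 𝒳 Q₀ ⊚ f) ≅ AlgSt.ofSpMap (w ≫ π).hom := by
    rw [hfst]
    have k1 : AlgSt.ofSpMap w.hom ⊚ (e ⊚ fpFst y' f) ≅
        AlgSt.ofSpMap w.hom ⊚ ofPshMap (pshMapOf (e ⊚ fpFst y' f)) :=
      whiskerLeftIso (AlgSt.ofSpMap w.hom) (τIso (e ⊚ fpFst y' f)).symm
    rw [← hπ] at k1
    exact k1
  exact descent_cover P hP _ hf₀ y' hy'₁ hy'₂ hy'₃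
    (fun G g => cover_hyp P hPb _ Y' y' W (w ≫ π) e₀ he₀ κ hPa G g)

end PPart

section Max

variable {𝒳 𝒴 : AlgSt.Cat S} (f : 𝒳 ⥤ᵇ 𝒴)
  {Y' X' W : AlgSp.Space S} (y' : AlgSt.ofSp Y'.obj ⥤ᵇ 𝒴) (e : AlgSt.ofSp X'.obj ⥤ᵇ fp y' f)
  (w : W ⟶ X')

/-- The open subspace of a chart cut out by an open substack. -/
theorem exists_open_preimage (h𝒳 : FibCat.IsFibGrpd 𝒳.p) (cF : AlgSt.ofSp X'.obj ⥤ᵇ 𝒳)
    (Q₁ : 𝒳.obj → Prop) (hQ₁ : AlgSt.IsOpenSubstack 𝒳 Q₁ Scheme.fppfPrecoverage) :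
    ∃ (X₁ : AlgSp.Space S) (j₁ : X₁ ⟶ X'), AlgSp.RepWith @IsOpenImmersion j₁.hom ∧
      (∀ u, Q₁ (cF.toFunctor.obj ((AlgSt.ofSpMap j₁.hom).toFunctor.obj u))) ∧
      ∀ z, Q₁ (cF.toFunctor.obj z) → InRange j₁.hom z := by
  have hpull := pull_of_isOpenSubstack h𝒳 hQ₁
  have H := compHyp_repWith (S := S) @IsOpenImmersion
  obtain ⟨X₁, e₁, he₁, hj₁⟩ := from_space_gen (AlgSp.RepWith @IsOpenImmersion) H.iso H.loc
    hQ₁.2.1.isStack.1 h𝒳 (AlgSt.subIncl 𝒳 Q₁) hQ₁.2.2 X' cF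
  refine ⟨X₁, ObjectProperty.homMk (ObjectProperty.homMk
    (pshMapOf (e₁ ⊚ fpFst cF (AlgSt.subIncl 𝒳 Q₁)))), hj₁, ?_, ?_⟩
  · intro u
    have h1 : Q₁ (cF.toFunctor.obj (e₁.toFunctor.obj u).obj.fst) :=
      hpull (e₁.toFunctor.obj u).obj.iso.hom (e₁.toFunctor.obj u).obj.snd.property
    exact hpull (cF.toFunctor.map (τ (e₁ ⊚ fpFst cF (AlgSt.subIncl 𝒳 Q₁)) u).hom) h1
  · intro z hz
    obtain ⟨u₁, ε, -⟩ := ess_of_equiv e₁ he₁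
      (mkObj (F := cF) (G := AlgSt.subIncl 𝒳 Q₁) z ⟨cF.toFunctor.obj z, hz⟩ (Iso.refl _)
        (Vert.id _))
    exact ⟨u₁, ⟨(fpFst cF (AlgSt.subIncl 𝒳 Q₁)).toFunctor.map ε.inv ≫
      (τ (e₁ ⊚ fpFst cF (AlgSt.subIncl 𝒳 Q₁)) u₁).inv⟩⟩

/-- Maximality: an open substack on which `f` has `P` lies in the image of the largest open
subspace of a presentation over a surjective atlas. -/
theorem le_of_isLg (P : MorphismProperty (AlgSp.Sp S))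
    (hP : AlgSp.IsLocalOnBase AlgSp.IsFppfCover P)
    (h𝒳 : AlgSt.IsAlgStack Scheme.fppfPrecoverage 𝒳) (h𝒴 : FibCat.IsFibGrpd 𝒴.p)
    (hy'₃ : AlgSt.RepByAlgSpWith AlgSp.IsSurjectiveMor y') (he : IsEquivOver e)
    (π : X' ⟶ Y') (hπ : π.hom.hom = pshMapOf (e ⊚ fpFst y' f)) (hLg : IsLg P π w)
    (Q₁ : 𝒳.obj → Prop) (hQ₁ : AlgSt.IsOpenSubstack 𝒳 Q₁ Scheme.fppfPrecoverage)
    (hP₁ : AlgSt.RepByAlgSpWith P (AlgSt.subIncl 𝒳 Q₁ ⊚ f)) (x : 𝒳.obj) (hx : Q₁ x) :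
    QW (Set.range (AlgSt.Points.map (AlgSt.ofSpMap w.hom ⊚ (e ⊚ fpSnd y' f)))) x := by
  have hf𝒳 : FibCat.IsFibGrpd 𝒳.p := h𝒳.isStack.1
  have hpull := pull_of_isOpenSubstack hf𝒳 hQ₁
  obtain ⟨cF, hcF⟩ : ∃ cF : AlgSt.ofSp X'.obj ⥤ᵇ 𝒳, cF = e ⊚ fpSnd y' f := ⟨_, rfl⟩
  obtain ⟨X₁, j₁, hj₁, M2a, M2b⟩ := exists_open_preimage hf𝒳 cF Q₁ hQ₁
  have hmono : Mono j₁.hom := Groth.Agent.Lib.Helper27.AlgSpMono.mono_of_repWith @IsOpenImmersion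
    (fun _ _ g hg => by have : IsOpenImmersion g := hg; exact inferInstanceAs (Mono g)) j₁.hom hj₁
  -- the open subspace presents the base change of the restriction
  obtain ⟨e₁₀, he₁₀, hfst⟩ := exists_pres_subIncl f Q₁ y' e j₁.hom hpull he
    (by rw [← hcF]; exact M2a) (by rw [← hcF]; exact M2b)
  obtain ⟨X₁'', e₁'', he₁'', hP''⟩ := from_space P hP hQ₁.2.1.isStack.1 h𝒴 _ hP₁ Y' y'
  have hP₁₀ := indep_sp P (fun _ _ _ i _ g hX hX' hY h => precomp_iso P hP i g hX hX' hY h)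
    X₁.property X₁''.property Y'.property e₁₀ e₁'' he₁₀ he₁''
    (fpFst y' (AlgSt.subIncl 𝒳 Q₁ ⊚ f)) hP''
  have hP₁' : P (j₁ ≫ π).hom := by
    have h0 : (ObjectProperty.homMk (pshMapOf (e₁₀ ⊚ fpFst y' (AlgSt.subIncl 𝒳 Q₁ ⊚ f))) :
        X₁.obj ⟶ Y'.obj) = (j₁ ≫ π).hom := by
      apply ObjectProperty.hom_ext
      change pshMapOf (e₁₀ ⊚ fpFst y' (AlgSt.subIncl 𝒳 Q₁ ⊚ f)) = j₁.hom.hom ≫ π.hom.hom
      rw [hfst, hπ]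
      change pshMapOf (AlgSt.ofSpMap j₁.hom ⊚ (e ⊚ fpFst y' f)) = _
      rw [pshMapOf_comp, pshMapOf_ofPshMap]
    rw [← h0]
    exact hP₁₀
  obtain ⟨k, hk⟩ := hLg.2.2 X₁ j₁ hj₁ hP₁'
  have M5 : ∀ z, Q₁ (cF.toFunctor.obj z) → InRange w.hom z := by
    intro z hz
    have h1 := M2b z hz
    rw [← hk] at h1
    exact inRange_comp k.hom w.hom z h1
  -- points
  rintro p ⟨φ⟩
  have hp : Q₁ p.obj := hpull φ hx
  have hsurj : AlgSt.IsSurjective cF := by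
    rw [hcF]
    apply isSurjective_of_rep (Stk.isFibGrpd_ofPsh (P := X'.obj.obj)) hf𝒳
    have h2 := Groth.Agent.Lib.Helper27.FpSwap.repByAlgSpWith_fpSnd AlgSp.IsSurjectiveMor f y' hy'₃
    refine Groth.Agent.Lib.Helper27.RepWithGeneral.repByAlgSpWith_of_equiv _ (fpSnd y' f)
      (e ⊚ fpSnd y' f) e (BasedFunctor.id 𝒳) he (isEquivOver_id _) (Iso.refl _) h2
  obtain ⟨s, hs⟩ := hsurj (AlgSt.Points.mk p)
  obtain ⟨s, rfl⟩ := AlgSt.Points.mk_surjective s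
  rw [AlgSt.Points.map_mk, mk_eq_mk_iff hf𝒳] at hs
  obtain ⟨r, m₁, m₂, -⟩ := hs
  have hr : Q₁ r.obj := hpull m₂ hp
  obtain ⟨g₁, hg₁⟩ : ∃ g₁ : Over.mk r.str ⟶ Over.mk s.str,
      g₁ = base (p := r) (q := s.map cF) m₁ := ⟨_, rfl⟩
  have hm₁ : 𝒳.p.IsHomLift g₁ m₁ := by
    rw [hg₁]
    exact base_lift (p := r) (q := s.map cF) m₁
  obtain ⟨s', ν, hν⟩ := Groth.Agent.Lib.Helper16.FpFibGrpd.FibGrpd.exists_lift'
    (AlgSt.ofSp X'.obj).p (Stk.isFibGrpd_ofPsh (P := X'.obj.obj)) s.lies g₁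
  have h1 : 𝒳.p.IsHomLift g₁ (cF.toFunctor.map ν) := inferInstance
  obtain ⟨e₁, he₁, -⟩ := exists_vert_iso hf𝒳 g₁ m₁ (cF.toFunctor.map ν)
  have hs' : Q₁ (cF.toFunctor.obj s') := hpull e₁.inv hr
  obtain ⟨u, ⟨n⟩⟩ := M5 s' hs'
  -- the point of the open subspace
  have hbase : (AlgSt.ofSp X'.obj).p.obj s' = Over.mk r.str :=
    IsHomLift.domain_eq (AlgSt.ofSp X'.obj).p g₁ ν
  obtain ⟨u', ν', hν'⟩ := Groth.Agent.Lib.Helper16.FpFibGrpd.FibGrpd.exists_lift'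
    (AlgSt.ofSp W.obj).p (Stk.isFibGrpd_ofPsh (P := W.obj.obj)) (rfl : _ = u.base)
    (eqToHom hbase.symm ≫ n.hom)
  have hu' : (AlgSt.ofSp W.obj).p.obj u' = Over.mk r.str :=
    IsHomLift.domain_eq (AlgSt.ofSp W.obj).p (eqToHom hbase.symm ≫ n.hom) ν'
  have hn : (AlgSt.ofSp X'.obj).p.IsHomLift (eqToHom hbase.symm ≫ n.hom) n :=
    IsHomLift.of_fac _ _ _ hbase rfl (by simp)
  have hν'' : (AlgSt.ofSp X'.obj).p.IsHomLift (eqToHom hbase.symm ≫ n.hom)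
      ((AlgSt.ofSpMap w.hom).toFunctor.map ν') :=
    BasedFunctor.preserves_isHomLift (AlgSt.ofSpMap w.hom) (eqToHom hbase.symm ≫ n.hom) ν'
  obtain ⟨e₂, -, -⟩ := exists_vert_iso (Stk.isFibGrpd_ofPsh (P := X'.obj.obj))
    (eqToHom hbase.symm ≫ n.hom) n ((AlgSt.ofSpMap w.hom).toFunctor.map ν')
  subst hcF
  refine ⟨AlgSt.Points.mk ⟨r.K, r.str, u', hu'⟩, ?_⟩
  rw [AlgSt.Points.map_mk]
  apply AlgSt.Points.sound
  exact ⟨r, e₁.hom ≫ (e ⊚ fpSnd y' f).toFunctor.map e₂.hom, m₂, trivial⟩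

end Max

end Groth.Agent.Lib.Helper27.Largest
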