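import Groth.Agent.Lib.Helper27.DiagLft

/-!
# Cancellation of covers on the source (helper27)
-/

set_option autoImplicit false
set_option backward.isDefEq.respectTransparency false
set_option backward.isDefEq.respectTransparency.types false

universe u

open CategoryTheory CategoryTheory.Limits AlgebraicGeometry Opposite FibCat
  Groth.Agent.Lib.Helper27.FpKit Groth.Agent.Lib.Helper27.PshKit Groth.Agent.Lib.Helper27.PshFp
  Groth.Agent.Lib.Helper27.PshRep Groth.Agent.Lib.Helper27.RepWithComp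

namespace Groth.Agent.Lib.Helper27.SourceCancel

variable {S : Scheme.{u}} {𝒳 𝒴 𝒵 : AlgSt.Cat S}

/-- If `x` is representable by algebraic spaces with a property `Q` whose members are coverings
for `τ`, `P` is local on the source for `τ` and `y ∘ x` has `P`, then `y` has `P`. -/
theorem cancel_source_cover (P : MorphismProperty (AlgSp.Sp S))
    (hP : AlgSp.IsLocalOnBase AlgSp.IsFppfCover P) (Q : MorphismProperty (AlgSp.Sp S))
    (hQiso : ∀ ⦃X X' Y : AlgSp.Sp S⦄ (i : X' ⟶ X) [IsIso i] (f : X ⟶ Y), AlgSp.IsAlgSpace X →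
      AlgSp.IsAlgSpace X' → AlgSp.IsAlgSpace Y → Q f → Q (i ≫ f))
    (hQloc : ∀ ⦃X' Y' : AlgSp.Sp S⦄ (c : X' ⟶ Y'), AlgSp.IsAlgSpace X' → AlgSp.IsAlgSpace Y' →
      (∀ (V : Over S) (a : (AlgSp.yon S).obj V ⟶ Y'), Q (pullback.snd c a)) → Q c)
    (τ : AlgSp.CovNotion S)
    (hτ : ∀ ⦃X' Y' : AlgSp.Sp S⦄ (c : X' ⟶ Y'), Q c →
      τ (fun _ : PUnit.{u + 1} => X') (fun _ => c))
    (hP' : AlgSp.IsLocalOnSource τ P)
    (h𝒳 : FibCat.IsFibGrpd 𝒳.p) (h𝒴 : FibCat.IsFibGrpd 𝒴.p)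
    (x : 𝒳 ⥤ᵇ 𝒴) (y : 𝒴 ⥤ᵇ 𝒵) (hy : AlgSt.RepByAlgSp1 y) (hx : AlgSt.RepByAlgSpWith Q x)
    (h : AlgSt.RepByAlgSpWith P (BasedFunctor.comp x y)) : AlgSt.RepByAlgSpWith P y := by
  intro U z
  obtain ⟨Y', e₁, he₁⟩ := hy U z
  refine ⟨Y', e₁, he₁, ?_⟩
  obtain ⟨X', e, he, hc⟩ := from_space_gen Q hQiso hQloc h𝒳 h𝒴 x hx Y'
    (BasedFunctor.comp e₁ (fpSnd z y))
  let D' : MapData (fpSnd z y) x (BasedFunctor.comp e₁ (fpSnd z y)) x e₁ (BasedFunctor.id 𝒳)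
      (BasedFunctor.id 𝒴) :=
    { e₁ := fun _ => Iso.refl _
      n₁ := fun α => (Category.comp_id _).trans (Category.id_comp _).symm
      l₁ := fun _ => Vert.id _
      e₂ := fun _ => Iso.refl _
      n₂ := fun β => (Category.comp_id _).trans (Category.id_comp _).symm
      l₂ := fun _ => Vert.id _ }
  have hD' : IsEquivOver (fpMap D') :=
    isEquivOver_fpMap D' he₁ (isEquivOver_id _) (isEquivOver_id _)
  have hR : IsEquivOver (pasteR x y z) := isEquivOver_pasteR x y z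
  obtain ⟨e', he'def⟩ : ∃ e' : AlgSt.ofSp X'.obj ⥤ᵇ fp z (BasedFunctor.comp x y),
    e' = BasedFunctor.comp e (BasedFunctor.comp (fpMap D') (pasteR x y z)) := ⟨_, rfl⟩
  have he' : IsEquivOver e' := by
    rw [he'def]
    exact isEquivOver_comp _ _ he (isEquivOver_comp _ _ hD' hR)
  obtain ⟨X₀, e₀, he₀, hP₀⟩ := h U z
  have h2 : P (AlgSt.spMapOfOver (BasedFunctor.comp e' (fpFst z (BasedFunctor.comp x y)))) :=
    indep' P hP X'.property X₀.property e' e₀ he' he₀ (fpFst z (BasedFunctor.comp x y)) hP₀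
  have h1 : AlgSt.spMapOfOver (BasedFunctor.comp e' (fpFst z (BasedFunctor.comp x y))) =
      AlgSt.spMapOfOver (BasedFunctor.comp
        (BasedFunctor.comp e (fpFst (BasedFunctor.comp e₁ (fpSnd z y)) x))
        (BasedFunctor.comp e₁ (fpFst z y))) := by
    apply Groth.Agent.Lib.Helper27.RepWithKit.spMapOfOver_congr
    intro t
    rw [he'def]
    exact ⟨𝟙 _, Vert.id _⟩
  rw [h1, spMapOfOver_comp] at h2
  have key := hP' (fun _ : PUnit.{u + 1} => X'.obj) (fun _ => ObjectProperty.homMk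
    (pshMapOf (BasedFunctor.comp e (fpFst (BasedFunctor.comp e₁ (fpSnd z y)) x))))
    Y'.property (fun _ => X'.property) (hτ _ hc)
    (AlgSt.spMapOfOver (BasedFunctor.comp e₁ (fpFst z y))) (AlgSp.IsAlgSpace.yon_obj U)
  exact key.2 (fun _ => h2)

end Groth.Agent.Lib.Helper27.SourceCancel

namespace Groth.Agent.Lib.Helper27.SourceCancel

open CategoryTheory CategoryTheory.Limits AlgebraicGeometry Opposite FibCat
  Groth.Agent.Lib.Helper27.FpKit Groth.Agent.Lib.Helper27.RepWithComp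

universe u₁

variable {S : Scheme.{u₁}} {𝒳 𝒴 𝒵 : AlgSt.Cat S}

theorem isLocalOnBase_inf (τ : AlgSp.CovNotion S) (A B : MorphismProperty (AlgSp.Sp S))
    (hA : AlgSp.IsLocalOnBase τ A) (hB : AlgSp.IsLocalOnBase τ B) :
    AlgSp.IsLocalOnBase τ (A ⊓ B) := by
  intro ι Y Yi g hY hYi hcov X f hX Xi p q hXi sq
  have h1 := hA Yi g hY hYi hcov f hX Xi p q hXi sq
  have h2 := hB Yi g hY hYi hcov f hX Xi p q hXi sq
  constructor
  · intro h i
    exact ⟨h1.1 h.1 i, h2.1 h.2 i⟩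
  · intro h
    exact ⟨h1.2 fun i => (h i).1, h2.2 fun i => (h i).2⟩

/-- Cancellation of a surjective functor with a property `R` whose surjective members are
coverings for `τ`. -/
theorem cancel_surj (P : MorphismProperty (AlgSp.Sp S))
    (hP : AlgSp.IsLocalOnBase AlgSp.IsFppfCover P) (R : MorphismProperty (AlgSp.Sp S))
    (hR : AlgSp.IsLocalOnBase AlgSp.IsFppfCover R) (τ : AlgSp.CovNotion S)
    (hτ : ∀ ⦃X' Y' : AlgSp.Sp S⦄ (c : X' ⟶ Y'), AlgSp.IsSurjectiveMor c → R c →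
      τ (fun _ : PUnit.{u₁ + 1} => X') (fun _ => c))
    (hP' : AlgSp.IsLocalOnSource τ P)
    (h𝒳 : FibCat.IsFibGrpd 𝒳.p) (h𝒴 : FibCat.IsFibGrpd 𝒴.p)
    (x : 𝒳 ⥤ᵇ 𝒴) (y : 𝒴 ⥤ᵇ 𝒵) (hy : AlgSt.RepByAlgSp1 y) (hx₁ : AlgSt.RepByAlgSpWith R x)
    (hx₂ : AlgSt.RepByAlgSpWith AlgSp.IsSurjectiveMor x)
    (h : AlgSt.RepByAlgSpWith P (BasedFunctor.comp x y)) : AlgSt.RepByAlgSpWith P y :=
  cancel_source_cover P hP (AlgSp.IsSurjectiveMor ⊓ R)
    (fun _ _ _ i _ f hX hX' hY h =>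
      ⟨Groth.Agent.Lib.Helper27.Descent.isSurjectiveMor_precomp_iso i f hX hX' hY h.1,
        precomp_iso R hR i f hX hX' hY h.2⟩)
    (fun _ _ c hX' hY' h =>
      ⟨Groth.Agent.Lib.Helper27.DiagLft.compHyp_isSurjectiveMor.loc c hX' hY'
        (fun V a => (h V a).1), loc_of_fppf R hR c hX' hY' (fun V a => (h V a).2)⟩)
    τ (fun _ _ c hc => hτ c hc.1 hc.2) hP' h𝒳 h𝒴 x y hy
    (Groth.Agent.Lib.Helper27.SepDiag.repByAlgSpWith_inf x _ _ hR hx₂ hx₁) h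

end Groth.Agent.Lib.Helper27.SourceCancel
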