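import Groth.Agent.Lib.Helper27.RepCancel
import Groth.Agent.Lib.Helper27.QcStack3
import Groth.Agent.Lib.Helper27.SourceCancel
import Groth.Agent.Lib.Helper27.RepChart
import Groth.Agent.S10542
import Groth.Agent.Lib.Helper27.RepWithComp2
import Groth.Agent.Lib.Helper3.AlgSpChart
import Groth.Agent.Lib.Helper3.AlgSpSrcLocal
import Groth.Agent.Lib.Helper3.AlgSpQC6

/-!
# Surjective images of quasi-compact algebraic stacks (helper27)
-/

set_option autoImplicit false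
set_option backward.isDefEq.respectTransparency false
set_option backward.isDefEq.respectTransparency.types false

universe u

open CategoryTheory CategoryTheory.Limits AlgebraicGeometry Opposite FibCat
  Groth.Agent.Lib.Helper27.FpKit Groth.Agent.Lib.Helper27.PshKit
  Groth.Agent.Lib.Helper27.RepWithComp Groth.Agent.Lib.Helper27.FpBaseChange

namespace Groth.Agent.Lib.Helper27.QcImage

variable {S : Scheme.{u}} {𝒜 ℬ 𝒞 : AlgSt.Cat S}

/-- If a composite is representable by algebraic spaces and surjective, so is its second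
factor (once it is representable by algebraic spaces). -/
theorem surj_of_comp (a : 𝒜 ⥤ᵇ ℬ) (b : ℬ ⥤ᵇ 𝒞) (hb : AlgSt.RepByAlgSp1 b)
    (hab : AlgSt.RepByAlgSpWith AlgSp.IsSurjectiveMor (BasedFunctor.comp a b)) :
    AlgSt.RepByAlgSpWith AlgSp.IsSurjectiveMor b := by
  intro U t
  obtain ⟨Y, eY, heY⟩ := hb U t
  obtain ⟨X, eX, heX, hX⟩ := hab U t
  refine ⟨Y, eY, heY, ?_⟩
  obtain ⟨c, -, hc⟩ := Groth.Agent.Lib.Helper27.RepCancel.exists_map
    (BasedFunctor.comp eX (mapSnd t b a)) eY heY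
  have h1 := hc U (fpFst t b)
  have h2 : AlgSt.spMapOfOver (BasedFunctor.comp (BasedFunctor.comp eX (mapSnd t b a))
      (fpFst t b)) = AlgSt.spMapOfOver (BasedFunctor.comp eX (fpFst t (BasedFunctor.comp a b))) := by
    apply Groth.Agent.Lib.Helper27.RepWithKit.spMapOfOver_congr
    intro s
    exact ⟨𝟙 _, Vert.id _⟩
  rw [h2] at h1
  intro y
  obtain ⟨x, hx⟩ := hX y
  refine ⟨AlgSp.Points.map c x, ?_⟩
  rw [← AlgSp.Points.map_comp, h1]
  exact hx

/-- Compact refinement: if `p : W₀ ⟶ F` is open and surjective on points, `F` has a compact space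
of points and `q : W₀ ⟶ h_Y`, then a compact open subscheme `Y'` of `Y` already has the property
that the part of `W₀` over `Y'` surjects onto `F`. -/
theorem exists_compact_open {F W₀ : AlgSp.Sp S} (p : W₀ ⟶ F)
    (hpo : IsOpenMap (AlgSp.Points.map p)) (hps : AlgSp.IsSurjectiveMor p)
    [CompactSpace (AlgSp.Points F)] (Y : Over S) (q : W₀ ⟶ (AlgSp.yon S).obj Y) :
    ∃ (Y' : Over S) (j : Y' ⟶ Y), IsOpenImmersion j.left ∧ CompactSpace ↥Y'.left ∧
      ∀ φ : AlgSp.Points F, ∃ w : AlgSp.Points W₀, AlgSp.Points.map p w = φ ∧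
        ∃ y' : ↥Y'.left, AlgSp.Points.map q w = AlgSp.Points.schemeHomeo Y (j.left y') := by
  let O : Y.left.affineOpens → Set (AlgSp.Points F) := fun V =>
    AlgSp.Points.map p '' (AlgSp.Points.map q ⁻¹' ((AlgSp.Points.schemeHomeo Y) '' (V.1 : Set ↥Y.left)))
  have hO : ∀ V, IsOpen (O V) := fun V =>
    hpo _ (((AlgSp.Points.schemeHomeo Y).isOpenMap _ V.1.2).preimage (AlgSp.Points.continuous_map q))
  have hcov : (Set.univ : Set (AlgSp.Points F)) ⊆ ⋃ V, O V := by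
    intro φ _
    obtain ⟨w, hw⟩ := hps φ
    obtain ⟨V, hV, hyV, -⟩ := exists_isAffineOpen_mem_and_subset
      (x := (AlgSp.Points.schemeHomeo Y).symm (AlgSp.Points.map q w)) (U := ⊤) trivial
    refine Set.mem_iUnion.2 ⟨⟨V, hV⟩, w, ?_, hw⟩
    exact ⟨_, hyV, (AlgSp.Points.schemeHomeo Y).apply_symm_apply _⟩
  obtain ⟨t, ht⟩ := isCompact_univ.elim_finite_subcover O hO hcov
  let U₀ : Y.left.Opens := ⨆ V ∈ t, (V.1 : Y.left.Opens)
  have hU₀ : IsCompact (U₀ : Set ↥Y.left) := by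
    have : (U₀ : Set ↥Y.left) = ⋃ V ∈ t, (V.1 : Set ↥Y.left) := by
      simp [U₀]
    rw [this]
    exact t.isCompact_biUnion (fun V _ => V.2.isCompact)
  refine ⟨Over.mk (U₀.ι ≫ Y.hom), Over.homMk U₀.ι rfl, inferInstanceAs (IsOpenImmersion U₀.ι),
    isCompact_iff_compactSpace.mp hU₀, fun φ => ?_⟩
  obtain ⟨V, hV⟩ := Set.mem_iUnion.1 (ht (Set.mem_univ φ))
  obtain ⟨hVt, hφV⟩ := Set.mem_iUnion.1 hV
  obtain ⟨w, ⟨y, hyV, hy⟩, hw⟩ := hφV
  have hyU : y ∈ U₀ := by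
    simp only [U₀, TopologicalSpace.Opens.mem_iSup]
    exact ⟨V, hVt, hyV⟩
  exact ⟨w, hw, ⟨y, hyU⟩, hy.symm⟩

/-- A surjective (representable by algebraic spaces) image of a quasi-compact algebraic space
in an algebraic stack: the target is quasi-compact. -/
theorem isQuasiCompact_of_surj {𝒳 : AlgSt.Cat S}
    (h𝒳 : AlgSt.IsAlgStack Scheme.fppfPrecoverage 𝒳) (F : AlgSp.Space S)
    (hF : AlgSp.IsQuasiCompactSp F.obj) (c : AlgSt.ofSp F.obj ⥤ᵇ 𝒳)
    (hc : AlgSt.RepByAlgSpWith AlgSp.IsSurjectiveMor c) : AlgSt.IsQuasiCompact 𝒳 := by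
  obtain ⟨Y, y, hy₁, hy₂⟩ := h𝒳.atlas
  have hsm : AlgSp.IsLocalOnBase AlgSp.IsFppfCover (AlgSp.LocP @Smooth : MorphismProperty (AlgSp.Sp S)) :=
    isLocalOnBase_fppf_of_fpqc _ (Groth.Agent.S10542.result S)
  have hy : AlgSt.RepByAlgSpWith (AlgSp.IsSurjectiveMor ⊓ AlgSp.LocP @Smooth) y :=
    Groth.Agent.Lib.Helper27.SepDiag.repByAlgSpWith_inf y _ _ hsm hy₂ hy₁
  have hfY : FibCat.IsFibGrpd (overCat Y).p := Groth.Agent.Lib.Helper27.ReprAux.isFibGrpd_overCat Y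
  obtain ⟨W₀, e, he, hp⟩ := from_space_gen (AlgSp.IsSurjectiveMor ⊓ AlgSp.LocP @Smooth)
    (fun _ _ _ i _ f hX hX' hY h =>
      ⟨Groth.Agent.Lib.Helper27.Descent.isSurjectiveMor_precomp_iso i f hX hX' hY h.1,
        precomp_iso _ hsm i f hX hX' hY h.2⟩)
    (fun _ _ c hX' hY' h =>
      ⟨Groth.Agent.Lib.Helper27.DiagLft.compHyp_isSurjectiveMor.loc c hX' hY'
        (fun V a => (h V a).1), loc_of_fppf _ hsm c hX' hY' (fun V a => (h V a).2)⟩)
    hfY h𝒳.isStack.1 y hy F c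
  obtain ⟨p, hpdef⟩ : ∃ p : W₀.obj ⟶ F.obj,
    p = ObjectProperty.homMk (pshMapOf (BasedFunctor.comp e (fpFst c y))) := ⟨_, rfl⟩
  rw [← hpdef] at hp
  obtain ⟨q, hqdef⟩ : ∃ q : W₀.obj ⟶ (AlgSp.yon S).obj Y,
    q = AlgSt.spMapOfOver (BasedFunctor.comp e (fpSnd c y)) := ⟨_, rfl⟩
  have hpo : IsOpenMap (AlgSp.Points.map p) :=
    Groth.Agent.Lib.Helper3.isOpenMor_of_isUnivOpenMor F.property
      (Groth.Agent.Lib.Helper3.isUnivOpenMor_of_flat_lfp W₀.property F.property p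
        (Groth.Agent.Lib.Helper3.locP_mono
          (fun _ _ m hm => by have : Smooth m := hm; infer_instance) hp.2)
        (Groth.Agent.Lib.Helper3.locP_mono
          (fun _ _ m hm => by have : Smooth m := hm; infer_instance) hp.2))
  haveI := Groth.Agent.Lib.Helper3.compactSpace_points_of_isQuasiCompactSp hF
  obtain ⟨Y', j, hj, hY'c, hsurj⟩ := exists_compact_open p hpo hp.1 Y q
  obtain ⟨fst', hfst'⟩ : ∃ k : pullback q ((AlgSp.yon S).map j) ⟶ W₀.obj,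
    k = pullback.fst q ((AlgSp.yon S).map j) := ⟨_, rfl⟩
  obtain ⟨snd', hsnd'⟩ : ∃ k : pullback q ((AlgSp.yon S).map j) ⟶ (AlgSp.yon S).obj Y',
    k = pullback.snd q ((AlgSp.yon S).map j) := ⟨_, rfl⟩
  have sq : IsPullback fst' snd' q ((AlgSp.yon S).map j) := by
    rw [hfst', hsnd']
    exact IsPullback.of_hasPullback _ _
  have hW' : AlgSp.IsAlgSpace (pullback q ((AlgSp.yon S).map j)) :=
    Groth.Agent.S9874.result S _ (AlgSp.IsAlgSpace.yon_obj Y).diag W₀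
      ⟨(AlgSp.yon S).obj Y', AlgSp.IsAlgSpace.yon_obj Y'⟩ q ((AlgSp.yon S).map j) _ _ _ sq
  have hs' : AlgSp.IsSurjectiveMor (fst' ≫ p) := by
    intro φ
    obtain ⟨w, hw, y', hy'⟩ := hsurj φ
    obtain ⟨z, hz, -⟩ := Groth.Agent.Lib.Helper3.Points.exists_of_isPullback sq w
      (AlgSp.Points.schemeHomeo Y' y') (by rw [hy', AlgSp.Points.map_yon_map_apply])
    exact ⟨z, by rw [AlgSp.Points.map_comp, hz, hw]⟩
  have hfW' : FibCat.IsFibGrpd (AlgSt.ofSp (pullback q ((AlgSp.yon S).map j))).p :=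
    Stk.isFibGrpd_ofPsh (P := (pullback q ((AlgSp.yon S).map j)).obj)
  have hfF : FibCat.IsFibGrpd (AlgSt.ofSp F.obj).p := Stk.isFibGrpd_ofPsh (P := F.obj.obj)
  have hfY' : FibCat.IsFibGrpd (AlgSt.ofSp ((AlgSp.yon S).obj Y')).p :=
    Stk.isFibGrpd_ofPsh (P := ((AlgSp.yon S).obj Y').obj)
  have hfYs : FibCat.IsFibGrpd (AlgSt.ofSp ((AlgSp.yon S).obj Y)).p :=
    Stk.isFibGrpd_ofPsh (P := ((AlgSp.yon S).obj Y).obj)
  -- the composite from the part over `Y'` is surjective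
  have hA : AlgSt.RepByAlgSpWith AlgSp.IsSurjectiveMor
      (BasedFunctor.comp (AlgSt.ofSpMap (fst' ≫ p)) c) :=
    comp_gen _ Groth.Agent.Lib.Helper27.DiagLft.compHyp_isSurjectiveMor hfW' hfF _ c
      (Groth.Agent.Lib.Helper27.LocQComp.repByAlgSpWith_ofSpMap_of_stable _
        Groth.Agent.Lib.Helper27.LocQComp.surj_stable hW' F.property (fst' ≫ p) hs') hc
  -- the chart
  obtain ⟨c', hc'def⟩ : ∃ c' : AlgSt.ofSp ((AlgSp.yon S).obj Y') ⥤ᵇ 𝒳,
    c' = BasedFunctor.comp (AlgSt.ofSpMap ((AlgSp.yon S).map j))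
      (BasedFunctor.comp (AlgSt.toOverCat Y) y) := ⟨_, rfl⟩
  have hje : Etale j.left := inferInstance
  have hc'sm : AlgSt.RepByAlgSpWith (AlgSp.LocP @Smooth) c' := by
    rw [hc'def]
    exact comp_gen _ (compHyp_locP Groth.Agent.Lib.Helper3.isEtLocal_smooth) hfY' hfYs _ _
      (Groth.Agent.Lib.Helper27.LocQSpace.repByAlgSpWith_ofSpMap_of_repWith @Etale _
        Groth.Agent.Lib.Helper27.LocQSpace.smooth_of_etale (AlgSp.IsAlgSpace.yon_obj Y')
        (AlgSp.IsAlgSpace.yon_obj Y) _ ((AlgSp.repWith_yon_map_iff _ j).2 hje))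
      (Groth.Agent.Lib.Helper27.LocQOver.repByAlgSpWith_equiv_comp _ (AlgSt.toOverCat Y)
        (Groth.Agent.Lib.Helper27.PshRep.isEquivOver_toOverCat Y) y hy₁)
  have e1 : BasedFunctor.comp (AlgSt.ofSpMap (fst' ≫ p)) c =
      BasedFunctor.comp (AlgSt.ofSpMap fst') (BasedFunctor.comp (AlgSt.ofSpMap p) c) := rfl
  have i2 : BasedFunctor.comp (AlgSt.ofSpMap p) c ≅
      BasedFunctor.comp (BasedFunctor.comp e (fpFst c y)) c := by
    rw [hpdef]
    exact Groth.Agent.Lib.Helper27.RepCancel.whiskerRightIso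
      (τIso (BasedFunctor.comp e (fpFst c y))) c
  have i3 : BasedFunctor.comp (BasedFunctor.comp e (fpFst c y)) c ≅
      BasedFunctor.comp (BasedFunctor.comp e (fpSnd c y)) y :=
    Groth.Agent.Lib.Helper27.RepCancel.whiskerLeftIso e (fpIso c y)
  have i4 : BasedFunctor.comp (BasedFunctor.comp e (fpSnd c y)) y ≅
      BasedFunctor.comp (BasedFunctor.comp (AlgSt.ofSpMap q) (AlgSt.toOverCat Y)) y := by
    rw [hqdef]
    exact Groth.Agent.Lib.Helper27.RepCancel.whiskerRightIso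
      (Groth.Agent.Lib.Helper27.RepChart.structIso _).symm y
  have e5 : BasedFunctor.comp (AlgSt.ofSpMap fst')
      (BasedFunctor.comp (BasedFunctor.comp (AlgSt.ofSpMap q) (AlgSt.toOverCat Y)) y) =
      BasedFunctor.comp (AlgSt.ofSpMap (fst' ≫ q)) (BasedFunctor.comp (AlgSt.toOverCat Y) y) := rfl
  have e6 : BasedFunctor.comp (AlgSt.ofSpMap (snd' ≫ (AlgSp.yon S).map j))
      (BasedFunctor.comp (AlgSt.toOverCat Y) y) = BasedFunctor.comp (AlgSt.ofSpMap snd') c' := by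
    rw [hc'def]
    rfl
  have e7 : BasedFunctor.comp (AlgSt.ofSpMap (fst' ≫ q)) (BasedFunctor.comp (AlgSt.toOverCat Y) y) =
      BasedFunctor.comp (AlgSt.ofSpMap (snd' ≫ (AlgSp.yon S).map j))
        (BasedFunctor.comp (AlgSt.toOverCat Y) y) := by
    rw [sq.w]
  have iso : BasedFunctor.comp (AlgSt.ofSpMap (fst' ≫ p)) c ≅
      BasedFunctor.comp (AlgSt.ofSpMap snd') c' :=
    eqToIso e1 ≪≫ Groth.Agent.Lib.Helper27.RepCancel.whiskerLeftIso (AlgSt.ofSpMap fst')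
      (i2 ≪≫ i3 ≪≫ i4) ≪≫ eqToIso (e5.trans (e7.trans e6))
  have hB : AlgSt.RepByAlgSpWith AlgSp.IsSurjectiveMor
      (BasedFunctor.comp (AlgSt.ofSpMap snd') c') :=
    Groth.Agent.Lib.Helper27.LocQOver.repByAlgSpWith_of_iso _ iso hA
  have hc'1 : AlgSt.RepByAlgSp1 c' := fun U t => by
    obtain ⟨G, eG, heG, -⟩ := hc'sm U t
    exact ⟨G, eG, heG⟩
  exact Groth.Agent.Lib.Helper27.QcStack.isQuasiCompact_of_space
    ⟨(AlgSp.yon S).obj Y', AlgSp.IsAlgSpace.yon_obj Y'⟩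
    (Groth.Agent.Lib.Helper3.isQuasiCompactSp_yon hY'c) c' hc'sm
    (surj_of_comp (AlgSt.ofSpMap snd') c' hc'1 hB)

end Groth.Agent.Lib.Helper27.QcImage
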