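/-
Helper27: core lemmas for the largest open substack on which a representable morphism of
algebraic stacks has a property `P` (invariance under the groupoid of a smooth atlas).
-/
import Groth.Agent.Lib.Helper27.LargestMain
import Groth.Agent.Lib.Helper27.StPointsTop4
import Groth.Agent.Lib.Helper27.QcImage
import Groth.Agent.Lib.Helper27.DiagLft

set_option autoImplicit false
set_option backward.isDefEq.respectTransparency false
set_option backward.isDefEq.respectTransparency.types false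

universe u

open CategoryTheory CategoryTheory.Limits AlgebraicGeometry Opposite FibCat
  Groth.Agent.Lib.Helper27.FpKit Groth.Agent.Lib.Helper27.PshKit Groth.Agent.Lib.Helper27.PshFp
  Groth.Agent.Lib.Helper27.PshRep Groth.Agent.Lib.Helper27.RepWithComp
  Groth.Agent.Lib.Helper27.Descent Groth.Agent.Lib.Helper27.BaseChangePres
  Groth.Agent.Lib.Helper27.OpenSub Groth.Agent.Lib.Helper27.StPoints

namespace Groth.Agent.Lib.Helper27.Largest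

variable {S : Scheme.{u}}

open Stk

local infixr:80 " ⊚ " => BasedFunctor.comp

section Core

variable {𝒳 𝒴 : AlgSt.Cat S} (f : 𝒳 ⥤ᵇ 𝒴)
  {Y' X' W : AlgSp.Space S} (y' : AlgSt.ofSp Y'.obj ⥤ᵇ 𝒴) (e : AlgSt.ofSp X'.obj ⥤ᵇ fp y' f)
  (w : W ⟶ X')

/-- The second projection of the groupoid of a smooth atlas is smooth. -/
theorem locP_smooth_pr₂ (h𝒴 : FibCat.IsFibGrpd 𝒴.p)
    (hy' : AlgSt.RepByAlgSpWith (AlgSp.LocP @Smooth) y') {A : AlgSp.Space S}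
    (E_A : AlgSt.ofSp A.obj ⥤ᵇ fp y' y') (hE_A : IsEquivOver E_A) :
    AlgSp.LocP @Smooth (pr₂ y' E_A) := by
  have h2 := Groth.Agent.Lib.Helper27.FpSwap.repByAlgSpWith_fpSnd (AlgSp.LocP @Smooth) y' y' hy'
  have h3 : AlgSt.RepByAlgSpWith (AlgSp.LocP @Smooth) (AlgSt.ofSpMap (pr₂ y' E_A)) :=
    Groth.Agent.Lib.Helper27.RepWithGeneral.repByAlgSpWith_of_equiv _ (fpSnd y' y')
      (AlgSt.ofSpMap (pr₂ y' E_A)) E_A (BasedFunctor.id _) hE_A (isEquivOver_id _)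
      (τIso (E_A ⊚ fpSnd y' y')) h2
  exact Groth.Agent.Lib.Helper27.LocQSpace.prop_of_repByAlgSpWith _
    (compHyp_locP Groth.Agent.Lib.Helper3.isEtLocal_smooth) A.property Y'.property _ h3

/-- Invariance of the largest open under the groupoid of an atlas, from the compatibility of
largest opens with base change along morphisms with `R`. -/
theorem inRange_of_iso' (P Q R : MorphismProperty (AlgSp.Sp S))
    (hPb : ∀ ⦃X₁ Y₁ X₂ Y₂ : AlgSp.Sp S⦄, AlgSp.IsAlgSpace X₁ → AlgSp.IsAlgSpace Y₁ →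
      AlgSp.IsAlgSpace X₂ → AlgSp.IsAlgSpace Y₂ → ∀ (a : X₁ ⟶ Y₁) (b : Y₂ ⟶ Y₁) (a' : X₂ ⟶ Y₂)
      (b' : X₂ ⟶ X₁), IsPullback b' a' a b → P a → P a')
    (h₄ : ∀ (X Y X' Y' : AlgSp.Space S) (f : X ⟶ Y) (g : Y' ⟶ Y) (f' : X' ⟶ Y') (g' : X' ⟶ X),
      IsPullback g'.hom f'.hom f.hom g.hom → Q f.hom → R g.hom →
      ∀ (W : AlgSp.Space S) (w : W ⟶ X), IsLg P f w →
        ∀ (W' : AlgSp.Space S) (w' : W' ⟶ X') (k : W' ⟶ W), IsPullback k.hom w'.hom w.hom g'.hom →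
          IsLg P f' w')
    {A : AlgSp.Space S} (E_A : AlgSt.ofSp A.obj ⥤ᵇ fp y' y') (hE_A : IsEquivOver E_A)
    (hR₂ : R (pr₂ y' E_A)) (he : IsEquivOver e)
    (π : X' ⟶ Y') (hπ : π.hom.hom = pshMapOf (e ⊚ fpFst y' f)) (hQπ : Q π.hom)
    (hLg : IsLg P π w)
    (s₁ s₂ : (AlgSt.ofSp X'.obj).obj)
    (ψ : (e ⊚ fpSnd y' f).toFunctor.obj s₁ ≅ (e ⊚ fpSnd y' f).toFunctor.obj s₂)
    (hψ : Vert ψ.hom) (hs₁ : InRange w.hom s₁) : InRange w.hom s₂ := by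
  have hπ' : π = ObjectProperty.homMk (ObjectProperty.homMk (pshMapOf (e ⊚ fpFst y' f))) := by
    apply ObjectProperty.hom_ext
    apply ObjectProperty.hom_ext
    exact hπ
  subst hπ'
  obtain ⟨π, hπdef⟩ : ∃ π : X' ⟶ Y',
    π = ObjectProperty.homMk (ObjectProperty.homMk (pshMapOf (e ⊚ fpFst y' f))) := ⟨_, rfl⟩
  rw [← hπdef] at hQπ hLg
  obtain ⟨p₁, hp₁⟩ : ∃ p₁ : A ⟶ Y', p₁ = ObjectProperty.homMk (pr₁ y' E_A) := ⟨_, rfl⟩
  obtain ⟨p₂, hp₂⟩ : ∃ p₂ : A ⟶ Y', p₂ = ObjectProperty.homMk (pr₂ y' E_A) := ⟨_, rfl⟩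
  -- the two fibre products
  have sqS₁ : IsPullback (pullback.fst π.hom p₁.hom) (pullback.snd π.hom p₁.hom) π.hom p₁.hom :=
    IsPullback.of_hasPullback _ _
  have sqS₂ : IsPullback (pullback.fst π.hom p₂.hom) (pullback.snd π.hom p₂.hom) π.hom p₂.hom :=
    IsPullback.of_hasPullback _ _
  have hX₁ : AlgSp.IsAlgSpace (pullback π.hom p₁.hom) :=
    Groth.Agent.S9874.result S Y'.obj Y'.property.diag X' A π.hom p₁.hom _ _ _ sqS₁
  have hX₂ : AlgSp.IsAlgSpace (pullback π.hom p₂.hom) :=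
    Groth.Agent.S9874.result S Y'.obj Y'.property.diag X' A π.hom p₂.hom _ _ _ sqS₂
  obtain ⟨X₁, fst₁, snd₁, hsq₁⟩ : ∃ (X₁ : AlgSp.Space S) (fst₁ : X₁ ⟶ X') (snd₁ : X₁ ⟶ A),
      IsPullback fst₁.hom snd₁.hom π.hom p₁.hom :=
    ⟨⟨_, hX₁⟩, ObjectProperty.homMk (pullback.fst π.hom p₁.hom),
      ObjectProperty.homMk (pullback.snd π.hom p₁.hom), sqS₁⟩
  obtain ⟨X₂, fst₂, snd₂, hsq₂⟩ : ∃ (X₂ : AlgSp.Space S) (fst₂ : X₂ ⟶ X') (snd₂ : X₂ ⟶ A),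
      IsPullback fst₂.hom snd₂.hom π.hom p₂.hom :=
    ⟨⟨_, hX₂⟩, ObjectProperty.homMk (pullback.fst π.hom p₂.hom),
      ObjectProperty.homMk (pullback.snd π.hom p₂.hom), sqS₂⟩
  -- the inverse images of the open
  have sqW₁ : IsPullback (pullback.fst w.hom fst₁.hom) (pullback.snd w.hom fst₁.hom) w.hom
      fst₁.hom := IsPullback.of_hasPullback _ _
  have sqW₂ : IsPullback (pullback.fst w.hom fst₂.hom) (pullback.snd w.hom fst₂.hom) w.hom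
      fst₂.hom := IsPullback.of_hasPullback _ _
  have hW₁ : AlgSp.IsAlgSpace (pullback w.hom fst₁.hom) :=
    Groth.Agent.S9874.result S X'.obj X'.property.diag W X₁ w.hom fst₁.hom _ _ _ sqW₁
  have hW₂ : AlgSp.IsAlgSpace (pullback w.hom fst₂.hom) :=
    Groth.Agent.S9874.result S X'.obj X'.property.diag W X₂ w.hom fst₂.hom _ _ _ sqW₂
  obtain ⟨W₁, k₁, w₁, hsqW₁⟩ : ∃ (W₁ : AlgSp.Space S) (k₁ : W₁ ⟶ W) (w₁ : W₁ ⟶ X₁),
      IsPullback k₁.hom w₁.hom w.hom fst₁.hom :=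
    ⟨⟨_, hW₁⟩, ObjectProperty.homMk (pullback.fst w.hom fst₁.hom),
      ObjectProperty.homMk (pullback.snd w.hom fst₁.hom), sqW₁⟩
  obtain ⟨W₂, k₂, w₂, hsqW₂⟩ : ∃ (W₂ : AlgSp.Space S) (k₂ : W₂ ⟶ W) (w₂ : W₂ ⟶ X₂),
      IsPullback k₂.hom w₂.hom w.hom fst₂.hom :=
    ⟨⟨_, hW₂⟩, ObjectProperty.homMk (pullback.fst w.hom fst₂.hom),
      ObjectProperty.homMk (pullback.snd w.hom fst₂.hom), sqW₂⟩
  have hw₁ : AlgSp.RepWith @IsOpenImmersion w₁.hom :=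
    MorphismProperty.of_isPullback hsqW₁ hLg.1
  have hP₁ : P (w₁ ≫ snd₁).hom := by
    have hpaste := hsqW₁.paste_vert hsq₁
    exact hPb W.property Y'.property W₁.property A.property (w ≫ π).hom p₁.hom (w₁ ≫ snd₁).hom
      k₁.hom hpaste hLg.2.1
  have hLg₂ : IsLg P snd₂ w₂ :=
    h₄ X' Y' X₂ A π p₂ snd₂ fst₂ hsq₂ hQπ (by rw [hp₂]; exact hR₂) W w hLg W₂ w₂ k₂ hsqW₂
  have hk₂ : w₂ ≫ fst₂ = k₂ ≫ w := by
    apply ObjectProperty.hom_ext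
    exact hsqW₂.w.symm
  -- presheaf level squares
  have sq₁ : IsPullback fst₁.hom.hom snd₁.hom.hom (pshMapOf (e ⊚ fpFst y' f))
      (pr₁ y' E_A).hom := by
    have := hsq₁.map (sheafToPresheaf (AlgSp.J S) (Type (u + 1)))
    rw [hπdef, hp₁] at this
    exact this
  have sq₂ : IsPullback fst₂.hom.hom snd₂.hom.hom (pshMapOf (e ⊚ fpFst y' f))
      (pr₂ y' E_A).hom := by
    have := hsq₂.map (sheafToPresheaf (AlgSp.J S) (Type (u + 1)))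
    rw [hπdef, hp₂] at this
    exact this
  have sqWP₁ : IsPullback k₁.hom.hom w₁.hom.hom w.hom.hom fst₁.hom.hom :=
    hsqW₁.map (sheafToPresheaf (AlgSp.J S) (Type (u + 1)))
  exact inRange_of_iso P f y' E_A hE_A e he w fst₁ snd₁ fst₂ snd₂ sq₁ sq₂ w₁ k₁ sqWP₁ w₂ k₂ hk₂
    hw₁ hP₁ hLg₂ s₁ s₂ ψ hψ hs₁

end Core

end Groth.Agent.Lib.Helper27.Largest
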