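/-
Helper27: the largest open substack on which a representable morphism of algebraic stacks has
a property `P`, computed on a smooth atlas of the target.
-/
import Groth.Agent.Lib.Helper27.LargestCore
import Groth.Agent.Lib.Helper27.OpenSub4
import Groth.Agent.Lib.Helper27.SepDiag
import Groth.Agent.Lib.Helper27.AlgSpMono
import Groth.Agent.Lib.Helper27.FpSwap
import Groth.Agent.Lib.Helper27.RepWithGeneral
import Groth.Agent.S10542

set_option autoImplicit false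
set_option backward.isDefEq.respectTransparency false
set_option backward.isDefEq.respectTransparency.types false

universe u

open CategoryTheory CategoryTheory.Limits AlgebraicGeometry Opposite FibCat
  Groth.Agent.Lib.Helper27.FpKit Groth.Agent.Lib.Helper27.PshKit Groth.Agent.Lib.Helper27.PshFp
  Groth.Agent.Lib.Helper27.PshRep Groth.Agent.Lib.Helper27.RepWithComp
  Groth.Agent.Lib.Helper27.Descent Groth.Agent.Lib.Helper27.BaseChangePres
  Groth.Agent.Lib.Helper27.OpenSub Groth.Agent.Lib.Helper27.StPoints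

namespace Groth.Agent.Lib.Helper27.Largest

variable {S : Scheme.{u}}

open Stk

local infixr:80 " ⊚ " => BasedFunctor.comp

section Thm

variable {𝒳 𝒴 : AlgSt.Cat S} (f : 𝒳 ⥤ᵇ 𝒴)
  {Y' X' W : AlgSp.Space S} (y' : AlgSt.ofSp Y'.obj ⥤ᵇ 𝒴) (e : AlgSt.ofSp X'.obj ⥤ᵇ fp y' f)
  (w : W ⟶ X')

/-- The largest open substack on which a representable morphism has `P`, computed on a smooth
atlas. -/
theorem largest_of_atlas (h𝒳 : AlgSt.IsAlgStack Scheme.fppfPrecoverage 𝒳)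
    (h𝒴 : AlgSt.IsAlgStack Scheme.fppfPrecoverage 𝒴)
    (P Q R : MorphismProperty (AlgSp.Sp S))
    (hPb : ∀ ⦃X₁ Y₁ X₂ Y₂ : AlgSp.Sp S⦄, AlgSp.IsAlgSpace X₁ → AlgSp.IsAlgSpace Y₁ →
      AlgSp.IsAlgSpace X₂ → AlgSp.IsAlgSpace Y₂ → ∀ (a : X₁ ⟶ Y₁) (b : Y₂ ⟶ Y₁) (a' : X₂ ⟶ Y₂)
      (b' : X₂ ⟶ X₁), IsPullback b' a' a b → P a → P a')
    (hP : AlgSp.IsLocalOnBase AlgSp.IsFppfCover P)
    (h₂ : ∀ (X Y : AlgSp.Space S) (g : X ⟶ Y), AlgSp.LocP @Smooth g.hom → R g.hom)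
    (h₄ : ∀ (X Y X' Y' : AlgSp.Space S) (f : X ⟶ Y) (g : Y' ⟶ Y) (f' : X' ⟶ Y') (g' : X' ⟶ X),
      IsPullback g'.hom f'.hom f.hom g.hom → Q f.hom → R g.hom →
      ∀ (W : AlgSp.Space S) (w : W ⟶ X), IsLg P f w →
        ∀ (W' : AlgSp.Space S) (w' : W' ⟶ X') (k : W' ⟶ W), IsPullback k.hom w'.hom w.hom g'.hom →
          IsLg P f' w')
    (hf1 : AlgSt.RepByAlgSp1 f)
    (hy'sm : AlgSt.RepByAlgSpWith (AlgSp.LocP @Smooth) y')
    (hy'surj : AlgSt.RepByAlgSpWith AlgSp.IsSurjectiveMor y')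
    (he : IsEquivOver e)
    (π : X' ⟶ Y') (hπ : π.hom.hom = pshMapOf (e ⊚ fpFst y' f)) (hQπ : Q π.hom)
    (hLg : IsLg P π w) :
    AlgSt.IsOpenSubstack 𝒳
        (QW (Set.range (AlgSt.Points.map (AlgSt.ofSpMap w.hom ⊚ (e ⊚ fpSnd y' f)))))
        Scheme.fppfPrecoverage ∧
      AlgSt.RepByAlgSpWith P (AlgSt.subIncl 𝒳
        (QW (Set.range (AlgSt.Points.map (AlgSt.ofSpMap w.hom ⊚ (e ⊚ fpSnd y' f))))) ⊚ f) ∧
      ∀ Q₁ : 𝒳.obj → Prop, AlgSt.IsOpenSubstack 𝒳 Q₁ Scheme.fppfPrecoverage →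
        AlgSt.RepByAlgSpWith P (AlgSt.subIncl 𝒳 Q₁ ⊚ f) → ∀ x, Q₁ x →
          QW (Set.range (AlgSt.Points.map (AlgSt.ofSpMap w.hom ⊚ (e ⊚ fpSnd y' f)))) x := by
  have hfX' : FibCat.IsFibGrpd (AlgSt.ofSp X'.obj).p := Stk.isFibGrpd_ofPsh (P := X'.obj.obj)
  have hfW : FibCat.IsFibGrpd (AlgSt.ofSp W.obj).p := Stk.isFibGrpd_ofPsh (P := W.obj.obj)
  have hfY' : FibCat.IsFibGrpd (AlgSt.ofSp Y'.obj).p := Stk.isFibGrpd_ofPsh (P := Y'.obj.obj)
  have hsm : AlgSp.IsLocalOnBase AlgSp.IsFppfCover (AlgSp.LocP (S := S) @Smooth) :=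
    isLocalOnBase_fppf_of_fpqc _ (Groth.Agent.S10542.result S)
  obtain ⟨A, E_A, hE_A, -⟩ := from_space (AlgSp.LocP @Smooth) hsm hfY' h𝒴.isStack.1 y' hy'sm Y' y'
  have hR₂ : R (pr₂ y' E_A) :=
    h₂ A Y' (ObjectProperty.homMk (pr₂ y' E_A)) (locP_smooth_pr₂ y' h𝒴.isStack.1 hy'sm E_A hE_A)
  have hinv := inRange_of_iso' f y' e w P Q R hPb h₄ E_A hE_A hR₂ he π hπ hQπ hLg
  obtain ⟨c, hc⟩ : ∃ c : AlgSt.ofSp X'.obj ⥤ᵇ 𝒳, c = e ⊚ fpSnd y' f := ⟨_, rfl⟩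
  rw [← hc] at hinv ⊢
  have hsnd := Groth.Agent.Lib.Helper27.FpSwap.repByAlgSpWith_fpSnd (AlgSp.LocP @Smooth) f y' hy'sm
  have hcsm : AlgSt.RepByAlgSpWith (AlgSp.LocP @Smooth) c := by
    rw [hc]
    exact Groth.Agent.Lib.Helper27.RepWithGeneral.repByAlgSpWith_of_equiv _ (fpSnd y' f)
      (e ⊚ fpSnd y' f) e (BasedFunctor.id _) he (isEquivOver_id _) (Iso.refl _) hsnd
  have hw' : AlgSt.RepByAlgSpWith (AlgSp.LocP @Smooth) (AlgSt.ofSpMap w.hom) :=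
    Groth.Agent.Lib.Helper27.LocQSpace.repByAlgSpWith_ofSpMap_of_repWith @IsOpenImmersion _
      (fun _ _ k hk => Groth.Agent.Lib.Helper27.LocQSpace.smooth_of_etale k
        (Groth.Agent.Lib.Helper3.repWith_mono
          (fun _ _ m hm => by have : IsOpenImmersion m := hm; infer_instance) hk))
      W.property X'.property w.hom hLg.1
  obtain ⟨cW, hcW⟩ : ∃ cW : AlgSt.ofSp W.obj ⥤ᵇ 𝒳, cW = AlgSt.ofSpMap w.hom ⊚ c := ⟨_, rfl⟩
  have hcWsm : AlgSt.RepByAlgSpWith (AlgSp.LocP @Smooth) cW := by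
    rw [hcW]
    exact comp_gen _ (compHyp_locP Groth.Agent.Lib.Helper3.isEtLocal_smooth) hfW hfX' _ c hw' hcsm
  have hopen : IsOpen (Set.range (AlgSt.Points.map cW)) :=
    (isOpenMap_map_of_flat_lfp_space h𝒳.isStack.1 W cW
      (Groth.Agent.Lib.Helper27.DiagLft.flat_of_smooth cW hcWsm)
      (Groth.Agent.Lib.Helper27.DiagLft.lfp_of_smooth cW hcWsm)).isOpen_range
  have hsub := isOpenSubstack_QW h𝒳 _ hopen
  have SAT := inRange_of_QW h𝒳.isStack.1 w.hom hLg.1 c hinv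
  rw [← hcW] at SAT ⊢
  refine ⟨hsub, ?_, ?_⟩
  · have hι : AlgSt.RepByAlgSpWith (⊤ : MorphismProperty (AlgSp.Sp S))
        (AlgSt.subIncl 𝒳 (QW (Set.range (AlgSt.Points.map cW)))) :=
      Groth.Agent.Lib.Helper27.SepDiag.repByAlgSpWith_mono _ (fun _ _ _ _ => trivial) hsub.2.2
    have hftop : AlgSt.RepByAlgSpWith (⊤ : MorphismProperty (AlgSp.Sp S)) f := fun U y => by
      obtain ⟨F, e, he⟩ := hf1 U y
      exact ⟨F, e, he, trivial⟩
    have hf₀ : AlgSt.RepByAlgSp1 (AlgSt.subIncl 𝒳 (QW (Set.range (AlgSt.Points.map cW))) ⊚ f) :=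
      Groth.Agent.Lib.Helper27.DiagRep.repByAlgSp1_of_with _ (Q := ⊤)
        (comp_gen ⊤ compHyp_top hsub.2.1.isStack.1 h𝒳.isStack.1 _ f hι hftop)
    have hmono : Mono w.hom :=
      Groth.Agent.Lib.Helper27.AlgSpMono.mono_of_repWith @IsOpenImmersion
        (fun _ _ g hg => by have : IsOpenImmersion g := hg; exact (inferInstance : Mono g)) w.hom hLg.1
    have H1 : ∀ u : (AlgSt.ofSp W.obj).obj, QW (Set.range (AlgSt.Points.map cW))
        ((e ⊚ fpSnd y' f).toFunctor.obj ((AlgSt.ofSpMap w.hom).toFunctor.obj u)) := by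
      intro u
      have := QW_range_obj hfW h𝒳.isStack.1 cW u
      rw [hcW, hc] at this ⊢
      exact this
    have H2 : ∀ z : (AlgSt.ofSp X'.obj).obj, QW (Set.range (AlgSt.Points.map cW))
        ((e ⊚ fpSnd y' f).toFunctor.obj z) → InRange w.hom z := by
      intro z hz
      rw [← hc] at hz
      exact SAT z hz
    exact repByAlgSpWith_subIncl f _ y' e w P hPb hP hf₀
      (Groth.Agent.Lib.Helper27.DiagLft.flat_of_smooth y' hy'sm)
      (Groth.Agent.Lib.Helper27.DiagLft.lfp_of_smooth y' hy'sm) hy'surj (QW_pull _) he hmono π hπ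
      hLg.2.1 H1 H2
  · have := le_of_isLg f y' e w P hP h𝒳 h𝒴.isStack.1 hy'surj he π hπ hLg
    rw [← hc, ← hcW] at this
    exact this

end Thm

end Groth.Agent.Lib.Helper27.Largest
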