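/-
Helper27: the inverse image of the largest open substack in a base change along a morphism with
`R` is the largest open substack for the base change (maximality, on charts).
-/
import Groth.Agent.Lib.Helper27.LargestThm

set_option autoImplicit false
set_option backward.isDefEq.respectTransparency false
set_option backward.isDefEq.respectTransparency.types false

universe u

open CategoryTheory CategoryTheory.Limits AlgebraicGeometry Opposite FibCat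
  Groth.Agent.Lib.Helper27.FpKit Groth.Agent.Lib.Helper27.PshKit Groth.Agent.Lib.Helper27.PshFp
  Groth.Agent.Lib.Helper27.PshRep Groth.Agent.Lib.Helper27.RepWithComp
  Groth.Agent.Lib.Helper27.Descent Groth.Agent.Lib.Helper27.BaseChangePres
  Groth.Agent.Lib.Helper27.OpenSub Groth.Agent.Lib.Helper27.StPoints

namespace Groth.Agent.Lib.Helper27.Largest

variable {S : Scheme.{u}}

open Stk

local infixr:80 " ⊚ " => BasedFunctor.comp

section BC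

variable {𝒳 𝒴 𝒵 : AlgSt.Cat S} (f : 𝒳 ⥤ᵇ 𝒴) (z : 𝒵 ⥤ᵇ 𝒴)
  {Y' X' Z' X'' : AlgSp.Sp S} (y' : AlgSt.ofSp Y' ⥤ᵇ 𝒴) (e : AlgSt.ofSp X' ⥤ᵇ fp y' f)
  (e_Z : AlgSt.ofSp Z' ⥤ᵇ fp y' z)

/-- The map to the atlas from the presentation of the base change of the atlas. -/
def rZ : Z' ⟶ Y' := ObjectProperty.homMk (pshMapOf (e_Z ⊚ fpFst y' z))

/-- The induced atlas of the source of the base change morphism. -/
abbrev yZ : AlgSt.ofSp Z' ⥤ᵇ 𝒵 := e_Z ⊚ fpSnd y' z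

/-- The 2-commutativity of the square of atlases. -/
def κZ : AlgSt.ofSpMap (rZ z y' e_Z) ⊚ y' ≅ yZ z y' e_Z ⊚ z :=
  whiskerRightIso (τIso (e_Z ⊚ fpFst y' z)) y' ≪≫ whiskerLeftIso e_Z (fpIso y' z)

/-- The fibre product of the presentations presents the base change of the base change. -/
theorem exists_pres_baseChange (he : IsEquivOver e) {fst : X''.obj ⟶ X'.obj}
    {snd : X''.obj ⟶ Z'.obj}
    (sq : IsPullback fst snd (pshMapOf (e ⊚ fpFst y' f)) (rZ z y' e_Z).hom) :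
    ∃ e'' : AlgSt.ofSp X'' ⥤ᵇ fp (yZ z y' e_Z) (fpFst z f), IsEquivOver e'' ∧
      pshMapOf (e'' ⊚ fpFst (yZ z y' e_Z) (fpFst z f)) = snd ∧
      ∀ t : (AlgSt.ofSp X'').obj,
        Nonempty (((e'' ⊚ fpSnd (yZ z y' e_Z) (fpFst z f)) ⊚ fpSnd z f).toFunctor.obj t ⟶
          (e ⊚ fpSnd y' f).toFunctor.obj ((Stk.ofPshMap fst).toFunctor.obj t)) := by
  obtain ⟨L', hL', -, ⟨ε⟩⟩ := exists_inverse (pasteL f z (yZ z y' e_Z))
    (isEquivOver_pasteL f z (yZ z y' e_Z))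
  obtain ⟨E₀, hE₀def⟩ : ∃ E₀ : AlgSt.ofSp X'' ⥤ᵇ fp (yZ z y' e_Z ⊚ z) f,
      E₀ = Ξ f y' e (rZ z y' e_Z) sq ⊚
        isoMap f (yZ z y' e_Z ⊚ z) (AlgSt.ofSpMap (rZ z y' e_Z) ⊚ y') (κZ z y' e_Z) := ⟨_, rfl⟩
  have hE₀ : IsEquivOver E₀ := by
    rw [hE₀def]
    exact isEquivOver_comp _ _ (isEquivOver_Ξ f y' e he (rZ z y' e_Z) sq)
      (isEquivOver_isoMap f _ _ (κZ z y' e_Z))
  subst hE₀def
  refine ⟨_ ⊚ L', isEquivOver_comp _ _ hE₀ hL', ?_, ?_⟩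
  · refine Eq.trans ?_ (pshMapOf_Ξ_fst f y' e (rZ z y' e_Z) sq)
    apply pshMapOf_congr
    intro t
    obtain ⟨x, hx⟩ : ∃ x : (fp (yZ z y' e_Z ⊚ z) f).obj,
      x = (Ξ f y' e (rZ z y' e_Z) sq ⊚ isoMap f (yZ z y' e_Z ⊚ z)
        (AlgSt.ofSpMap (rZ z y' e_Z) ⊚ y') (κZ z y' e_Z)).toFunctor.obj t := ⟨_, rfl⟩
    have hv : Vert (ε.hom.toNatTrans.app x) := Vert.app ε.hom x
    have hv' := hv.map (fpFst (yZ z y' e_Z ⊚ z) f)
    rw [hx] at hv'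
    exact ⟨(fpFst (yZ z y' e_Z ⊚ z) f).toFunctor.map (ε.hom.toNatTrans.app _), hv'⟩
  · intro t
    exact ⟨(fpSnd (yZ z y' e_Z ⊚ z) f).toFunctor.map (ε.hom.toNatTrans.app
      ((Ξ f y' e (rZ z y' e_Z) sq ⊚ isoMap f (yZ z y' e_Z ⊚ z)
        (AlgSt.ofSpMap (rZ z y' e_Z) ⊚ y') (κZ z y' e_Z)).toFunctor.obj t))⟩

end BC

section BC2

variable {𝒳 𝒴 𝒵 : AlgSt.Cat S} (f : 𝒳 ⥤ᵇ 𝒴) (z : 𝒵 ⥤ᵇ 𝒴)
  {Y' X' Z' W : AlgSp.Space S} (y' : AlgSt.ofSp Y'.obj ⥤ᵇ 𝒴) (e : AlgSt.ofSp X'.obj ⥤ᵇ fp y' f)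
  (e_Z : AlgSt.ofSp Z'.obj ⥤ᵇ fp y' z) (w : W ⟶ X')

/-- Maximality of the inverse image of the largest open, on a chart of the base change. -/
theorem le_of_baseChange (P Q R : MorphismProperty (AlgSp.Sp S))
    (hP : AlgSp.IsLocalOnBase AlgSp.IsFppfCover P)
    (h₄ : ∀ (X Y X' Y' : AlgSp.Space S) (f : X ⟶ Y) (g : Y' ⟶ Y) (f' : X' ⟶ Y') (g' : X' ⟶ X),
      IsPullback g'.hom f'.hom f.hom g.hom → Q f.hom → R g.hom →
      ∀ (W : AlgSp.Space S) (w : W ⟶ X), IsLg P f w →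
        ∀ (W' : AlgSp.Space S) (w' : W' ⟶ X') (k : W' ⟶ W), IsPullback k.hom w'.hom w.hom g'.hom →
          IsLg P f' w')
    (hfp : AlgSt.IsAlgStack Scheme.fppfPrecoverage (fp z f)) (h𝒵 : FibCat.IsFibGrpd 𝒵.p)
    (hy'surj : AlgSt.RepByAlgSpWith AlgSp.IsSurjectiveMor y')
    (he : IsEquivOver e) (he_Z : IsEquivOver e_Z)
    (π : X' ⟶ Y') (hπ : π.hom.hom = pshMapOf (e ⊚ fpFst y' f)) (hQπ : Q π.hom)
    (hRr : R (rZ z y' e_Z)) (hLg : IsLg P π w) :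
    ∃ (W'' : AlgSp.Space S) (cW : AlgSt.ofSp W''.obj ⥤ᵇ fp z f),
      (∀ Q₁ : (fp z f).obj → Prop, AlgSt.IsOpenSubstack (fp z f) Q₁ Scheme.fppfPrecoverage →
        AlgSt.RepByAlgSpWith P (AlgSt.subIncl (fp z f) Q₁ ⊚ fpFst z f) → ∀ b, Q₁ b →
          QW (Set.range (AlgSt.Points.map cW)) b) ∧
      ∀ u'' : (AlgSt.ofSp W''.obj).obj, ∃ u : (AlgSt.ofSp W.obj).obj,
        Nonempty ((cW.toFunctor.obj u'').obj.snd ⟶
          (e ⊚ fpSnd y' f).toFunctor.obj ((AlgSt.ofSpMap w.hom).toFunctor.obj u)) := by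
  have hπ' : π = ObjectProperty.homMk (ObjectProperty.homMk (pshMapOf (e ⊚ fpFst y' f))) := by
    apply ObjectProperty.hom_ext
    apply ObjectProperty.hom_ext
    exact hπ
  subst hπ'
  obtain ⟨π, hπdef⟩ : ∃ π : X' ⟶ Y',
    π = ObjectProperty.homMk (ObjectProperty.homMk (pshMapOf (e ⊚ fpFst y' f))) := ⟨_, rfl⟩
  rw [← hπdef] at hQπ hLg
  obtain ⟨r, hr⟩ : ∃ r : Z' ⟶ Y', r = ObjectProperty.homMk (rZ z y' e_Z) := ⟨_, rfl⟩
  -- the fibre product of the presentations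
  have sqS : IsPullback (pullback.fst π.hom r.hom) (pullback.snd π.hom r.hom) π.hom r.hom :=
    IsPullback.of_hasPullback _ _
  have hX'' : AlgSp.IsAlgSpace (pullback π.hom r.hom) :=
    Groth.Agent.S9874.result S Y'.obj Y'.property.diag X' Z' π.hom r.hom _ _ _ sqS
  obtain ⟨X'', fst'', snd'', hsq⟩ : ∃ (X'' : AlgSp.Space S) (fst'' : X'' ⟶ X') (snd'' : X'' ⟶ Z'),
      IsPullback fst''.hom snd''.hom π.hom r.hom :=
    ⟨⟨_, hX''⟩, ObjectProperty.homMk (pullback.fst π.hom r.hom),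
      ObjectProperty.homMk (pullback.snd π.hom r.hom), sqS⟩
  -- the inverse image of the open
  have sqW : IsPullback (pullback.fst w.hom fst''.hom) (pullback.snd w.hom fst''.hom) w.hom
      fst''.hom := IsPullback.of_hasPullback _ _
  have hW'' : AlgSp.IsAlgSpace (pullback w.hom fst''.hom) :=
    Groth.Agent.S9874.result S X'.obj X'.property.diag W X'' w.hom fst''.hom _ _ _ sqW
  obtain ⟨W'', k'', w'', hsqW⟩ : ∃ (W'' : AlgSp.Space S) (k'' : W'' ⟶ W) (w'' : W'' ⟶ X''),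
      IsPullback k''.hom w''.hom w.hom fst''.hom :=
    ⟨⟨_, hW''⟩, ObjectProperty.homMk (pullback.fst w.hom fst''.hom),
      ObjectProperty.homMk (pullback.snd w.hom fst''.hom), sqW⟩
  have hLg'' : IsLg P snd'' w'' :=
    h₄ X' Y' X'' Z' π r snd'' fst'' hsq hQπ (by rw [hr]; exact hRr) W w hLg W'' w'' k'' hsqW
  have sq : IsPullback fst''.hom.hom snd''.hom.hom (pshMapOf (e ⊚ fpFst y' f))
      (rZ z y' e_Z).hom := by
    have := hsq.map (sheafToPresheaf (AlgSp.J S) (Type (u + 1)))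
    rw [hπdef, hr] at this
    exact this
  obtain ⟨e'', he'', hπ'', hc''⟩ := exists_pres_baseChange f z y' e e_Z he sq
  have hsnd := Groth.Agent.Lib.Helper27.FpSwap.repByAlgSpWith_fpSnd AlgSp.IsSurjectiveMor z y'
    hy'surj
  have hyZ : AlgSt.RepByAlgSpWith AlgSp.IsSurjectiveMor (yZ z y' e_Z) :=
    Groth.Agent.Lib.Helper27.RepWithGeneral.repByAlgSpWith_of_equiv _ (fpSnd y' z)
      (e_Z ⊚ fpSnd y' z) e_Z (BasedFunctor.id _) he_Z (isEquivOver_id _) (Iso.refl _) hsnd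
  refine ⟨W'', AlgSt.ofSpMap w''.hom ⊚ (e'' ⊚ fpSnd (yZ z y' e_Z) (fpFst z f)), ?_, ?_⟩
  · exact le_of_isLg (fpFst z f) (yZ z y' e_Z) e'' w'' P hP hfp h𝒵 hyZ he'' snd'' hπ''.symm hLg''
  · intro u''
    refine ⟨(AlgSt.ofSpMap k''.hom).toFunctor.obj u'', ?_⟩
    obtain ⟨m⟩ := hc'' ((AlgSt.ofSpMap w''.hom).toFunctor.obj u'')
    have hcomm : w''.hom.hom ≫ fst''.hom.hom = k''.hom.hom ≫ w.hom.hom := by
      have := congrArg (fun (t : W''.obj ⟶ X'.obj) => t.hom) hsqW.w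
      exact this.symm
    have hobj : (Stk.ofPshMap fst''.hom.hom).toFunctor.obj
        ((AlgSt.ofSpMap w''.hom).toFunctor.obj u'') =
        (AlgSt.ofSpMap w.hom).toFunctor.obj ((AlgSt.ofSpMap k''.hom).toFunctor.obj u'') := by
      have := congrArg (fun (t : W''.obj.obj ⟶ X'.obj.obj) =>
        (⟨u''.base, t.app (op u''.base) u''.sec⟩ : EltObj X'.obj.obj)) hcomm
      exact this
    rw [hobj] at m
    exact ⟨m⟩

end BC2

end Groth.Agent.Lib.Helper27.Largest
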