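/-
Helper27: the inverse image of the largest open substack on which a representable morphism has
`P`, under base change along a morphism with `R`, is the largest such open substack.
-/
import Groth.Agent.Lib.Helper27.LargestBC
import Groth.Agent.Lib.Helper27.LocQSmoothOpen2
import Groth.Agent.Lib.Helper27.AlgStackFp2

set_option autoImplicit false
set_option backward.isDefEq.respectTransparency false
set_option backward.isDefEq.respectTransparency.types false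

universe u

open CategoryTheory CategoryTheory.Limits AlgebraicGeometry Opposite FibCat
  Groth.Agent.Lib.Helper27.FpKit Groth.Agent.Lib.Helper27.PshKit Groth.Agent.Lib.Helper27.PshFp
  Groth.Agent.Lib.Helper27.PshRep Groth.Agent.Lib.Helper27.RepWithComp
  Groth.Agent.Lib.Helper27.Descent Groth.Agent.Lib.Helper27.BaseChangePres
  Groth.Agent.Lib.Helper27.OpenSub Groth.Agent.Lib.Helper27.StPoints

namespace Groth.Agent.Lib.Helper27.Largest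

variable {S : Scheme.{u}}

open Stk

local infixr:80 " ⊚ " => BasedFunctor.comp

section Final

variable {𝒳 𝒴 𝒵 : AlgSt.Cat S}

/-- A smooth surjective atlas of an algebraic stack, from an algebraic space. -/
theorem exists_space_atlas (h𝒴 : AlgSt.IsAlgStack Scheme.fppfPrecoverage 𝒴) :
    ∃ (Y' : AlgSp.Space S) (y' : AlgSt.ofSp Y'.obj ⥤ᵇ 𝒴),
      AlgSt.RepByAlgSpWith (AlgSp.LocP @Smooth) y' ∧ AlgSt.RepByAlgSpWith AlgSp.IsSurjectiveMor y' := by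
  obtain ⟨V, y, hy₁, hy₂⟩ := h𝒴.atlas
  refine ⟨⟨(AlgSp.yon S).obj V, AlgSp.IsAlgSpace.yon_obj V⟩, AlgSt.toOverCat V ⊚ y, ?_, ?_⟩
  · exact Groth.Agent.Lib.Helper27.RepWithGeneral.repByAlgSpWith_of_equiv _ y
      (AlgSt.toOverCat V ⊚ y) (AlgSt.toOverCat V) (BasedFunctor.id _)
      (isEquivOver_toOverCat V) (isEquivOver_id _) (Iso.refl _) hy₁
  · exact Groth.Agent.Lib.Helper27.RepWithGeneral.repByAlgSpWith_of_equiv _ y
      (AlgSt.toOverCat V ⊚ y) (AlgSt.toOverCat V) (BasedFunctor.id _)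
      (isEquivOver_toOverCat V) (isEquivOver_id _) (Iso.refl _) hy₂

/-- The restriction of the base change to the inverse image of an open substack on which `f` has
`P`, has `P`. -/
theorem repByAlgSpWith_preimage (P : MorphismProperty (AlgSp.Sp S)) (f : 𝒳 ⥤ᵇ 𝒴) (z : 𝒵 ⥤ᵇ 𝒴)
    (Q₀ : 𝒳.obj → Prop) (hQ₀P : AlgSt.RepByAlgSpWith P (AlgSt.subIncl 𝒳 Q₀ ⊚ f)) :
    AlgSt.RepByAlgSpWith P (AlgSt.subIncl (fp z f) (fun b => Q₀ b.obj.snd) ⊚ fpFst z f) := by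
  have hΘ : IsEquivOver (corestr f z Q₀ (AlgSt.subIncl (fp z f) fun b => Q₀ b.obj.snd)
      (fun u => u.property)) :=
    isEquivOver_corestr f z Q₀ _ _
      (inferInstanceAs (ObjectProperty.ι (fun b : (fp z f).obj => Q₀ b.obj.snd)).Full)
      (inferInstanceAs (ObjectProperty.ι (fun b : (fp z f).obj => Q₀ b.obj.snd)).Faithful)
      (fun t ht => ⟨⟨t, ht⟩, Iso.refl _, Vert.id _⟩)
  exact Groth.Agent.Lib.Helper27.RepWithGeneral.repByAlgSpWith_of_equiv P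
    (fpFst z (AlgSt.subIncl 𝒳 Q₀ ⊚ f))
    (AlgSt.subIncl (fp z f) (fun b => Q₀ b.obj.snd) ⊚ fpFst z f)
    _ (BasedFunctor.id 𝒵) hΘ (isEquivOver_id _) (Iso.refl _)
    (Groth.Agent.Lib.Helper27.RepWithGeneral.repByAlgSpWith_fpFst P (AlgSt.subIncl 𝒳 Q₀ ⊚ f) z hQ₀P)

/-- Objects of a category of points in the image of a functor landing in an open substack. -/
theorem QW_range_le {𝒜 : AlgSt.Cat S} (h𝒳 : AlgSt.IsAlgStack Scheme.fppfPrecoverage 𝒳)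
    {Q' : 𝒳.obj → Prop} (hQ' : AlgSt.IsOpenSubstack 𝒳 Q' Scheme.fppfPrecoverage)
    (c : 𝒜 ⥤ᵇ 𝒳) (hc : ∀ a, Q' (c.toFunctor.obj a)) (b : 𝒳.obj)
    (hb : QW (Set.range (AlgSt.Points.map c)) b) : Q' b := by
  apply (iff_QW_range h𝒳 hQ' b).2
  refine QW_mono ?_ b hb
  rintro _ ⟨q, rfl⟩
  obtain ⟨q, rfl⟩ := AlgSt.Points.mk_surjective q
  exact ⟨AlgSt.Points.mk
    (⟨q.K, q.str, ⟨c.toFunctor.obj q.obj, hc q.obj⟩, (q.map c).lies⟩ :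
      AlgSt.FPt (AlgSt.fullSub 𝒳 Q')), rfl⟩

/-- The inverse image of the largest open substack on which `f` has `P`, in the base change
along a morphism with `R`, is the largest open substack on which the base change has `P`. -/
theorem baseChange_largest (h𝒳 : AlgSt.IsAlgStack Scheme.fppfPrecoverage 𝒳)
    (h𝒴 : AlgSt.IsAlgStack Scheme.fppfPrecoverage 𝒴)
    (h𝒵 : AlgSt.IsAlgStack Scheme.fppfPrecoverage 𝒵)
    (P Q R : MorphismProperty (AlgSp.Sp S))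
    (hPb : ∀ ⦃X₁ Y₁ X₂ Y₂ : AlgSp.Sp S⦄, AlgSp.IsAlgSpace X₁ → AlgSp.IsAlgSpace Y₁ →
      AlgSp.IsAlgSpace X₂ → AlgSp.IsAlgSpace Y₂ → ∀ (a : X₁ ⟶ Y₁) (b : Y₂ ⟶ Y₁) (a' : X₂ ⟶ Y₂)
      (b' : X₂ ⟶ X₁), IsPullback b' a' a b → P a → P a')
    (hP : AlgSp.IsLocalOnBase AlgSp.IsFppfCover P) (hQ : AlgSp.IsLocalOnBase AlgSp.IsFppfCover Q)
    (hR : AlgSp.IsLocalOnBase AlgSp.IsFppfCover R)
    (h₂ : ∀ (X Y : AlgSp.Space S) (g : X ⟶ Y), AlgSp.LocP @Smooth g.hom → R g.hom)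
    (h₃ : ∀ (X Y : AlgSp.Space S) (f : X ⟶ Y), Q f.hom →
      ∃ (W : AlgSp.Space S) (w : W ⟶ X), IsLg P f w)
    (h₄ : ∀ (X Y X' Y' : AlgSp.Space S) (f : X ⟶ Y) (g : Y' ⟶ Y) (f' : X' ⟶ Y') (g' : X' ⟶ X),
      IsPullback g'.hom f'.hom f.hom g.hom → Q f.hom → R g.hom →
      ∀ (W : AlgSp.Space S) (w : W ⟶ X), IsLg P f w →
        ∀ (W' : AlgSp.Space S) (w' : W' ⟶ X') (k : W' ⟶ W), IsPullback k.hom w'.hom w.hom g'.hom →
          IsLg P f' w')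
    (f : 𝒳 ⥤ᵇ 𝒴) (hf : AlgSt.RepByAlgSpWith Q f)
    (Q₀ : 𝒳.obj → Prop) (hQ₀ : AlgSt.IsOpenSubstack 𝒳 Q₀ Scheme.fppfPrecoverage)
    (hQ₀P : AlgSt.RepByAlgSpWith P (AlgSt.subIncl 𝒳 Q₀ ⊚ f))
    (hQ₀max : ∀ Q₁ : 𝒳.obj → Prop, AlgSt.IsOpenSubstack 𝒳 Q₁ Scheme.fppfPrecoverage →
      AlgSt.RepByAlgSpWith P (AlgSt.subIncl 𝒳 Q₁ ⊚ f) → ∀ y, Q₁ y → Q₀ y)
    (z : 𝒵 ⥤ᵇ 𝒴) (hz : AlgSt.RepByAlgSpWith R z) :
    AlgSt.IsOpenSubstack (fp z f) (fun b => Q₀ b.obj.snd) Scheme.fppfPrecoverage ∧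
      AlgSt.RepByAlgSpWith P (AlgSt.subIncl (fp z f) (fun b => Q₀ b.obj.snd) ⊚ fpFst z f) ∧
        ∀ Q₁ : (fp z f).obj → Prop, AlgSt.IsOpenSubstack (fp z f) Q₁ Scheme.fppfPrecoverage →
          AlgSt.RepByAlgSpWith P (AlgSt.subIncl (fp z f) Q₁ ⊚ fpFst z f) →
            ∀ b, Q₁ b → Q₀ b.obj.snd := by
  have hfp : AlgSt.IsAlgStack Scheme.fppfPrecoverage (fp z f) :=
    Groth.Agent.Lib.Helper27.AlgStackFp2.isAlgStack_fp' z f _ h𝒵 h𝒳 h𝒴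
  have h1 : AlgSt.IsOpenSubstack (fp z f) (fun b => Q₀ b.obj.snd) Scheme.fppfPrecoverage :=
    Groth.Agent.Lib.Helper27.LocQSmoothOpen.isOpenSubstack_preimage hfp h𝒳 (fpSnd z f) hQ₀
  refine ⟨h1, repByAlgSpWith_preimage P f z Q₀ hQ₀P, ?_⟩
  intro Q₁ hQ₁ hQ₁P b hb
  obtain ⟨Y', y', hy'sm, hy'surj⟩ := exists_space_atlas h𝒴
  obtain ⟨X', e, he, hQπ⟩ := from_space Q hQ h𝒳.isStack.1 h𝒴.isStack.1 f hf Y' y'
  obtain ⟨π, hπ⟩ : ∃ π : X' ⟶ Y', π = ObjectProperty.homMk (ObjectProperty.homMk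
      (pshMapOf (e ⊚ fpFst y' f))) := ⟨_, rfl⟩
  have hQπ' : Q π.hom := by rw [hπ]; exact hQπ
  have hπ' : π.hom.hom = pshMapOf (e ⊚ fpFst y' f) := by rw [hπ]; rfl
  obtain ⟨W, w, hLg⟩ := h₃ X' Y' π hQπ'
  have hf1 : AlgSt.RepByAlgSp1 f := Groth.Agent.Lib.Helper27.DiagRep.repByAlgSp1_of_with f hf
  have key := largest_of_atlas f y' e w h𝒳 h𝒴 P Q R hPb hP h₂ h₄ hf1 hy'sm hy'surj he π hπ'
    hQπ' hLg
  have hle := hQ₀max (QW (Set.range (AlgSt.Points.map (AlgSt.ofSpMap w.hom ⊚ (e ⊚ fpSnd y' f)))))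
    key.1 key.2.1
  obtain ⟨Z', e_Z, he_Z, hRr⟩ := from_space R hR h𝒵.isStack.1 h𝒴.isStack.1 z hz Y' y'
  obtain ⟨W'', cW, hmax, hcW⟩ := le_of_baseChange f z y' e e_Z w P Q R hP h₄ hfp h𝒵.isStack.1
    hy'surj he he_Z π hπ' hQπ' hRr hLg
  have h2 := hmax Q₁ hQ₁ hQ₁P b hb
  have hfW : FibCat.IsFibGrpd (AlgSt.ofSp W.obj).p := Stk.isFibGrpd_ofPsh (P := W.obj.obj)
  have h3 : ∀ u'', Q₀ (cW.toFunctor.obj u'').obj.snd := by
    intro u''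
    obtain ⟨u, ⟨m⟩⟩ := hcW u''
    apply pull_of_isOpenSubstack h𝒳.isStack.1 hQ₀ m
    apply hle
    exact QW_range_obj hfW h𝒳.isStack.1 (AlgSt.ofSpMap w.hom ⊚ (e ⊚ fpSnd y' f)) u
  exact QW_range_le hfp h1 cW h3 b h2

end Final

end Groth.Agent.Lib.Helper27.Largest
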