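import Groth.Agent.Lib.Helper27.LargestKit

/-!
# Invariance of the largest open under the groupoid of an atlas (helper27)
-/

set_option autoImplicit false
set_option backward.isDefEq.respectTransparency false
set_option backward.isDefEq.respectTransparency.types false

universe u

open CategoryTheory CategoryTheory.Limits AlgebraicGeometry Opposite FibCat
  Groth.Agent.Lib.Helper27.FpKit Groth.Agent.Lib.Helper27.PshKit Groth.Agent.Lib.Helper27.PshFp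
  Groth.Agent.Lib.Helper27.PshRep Groth.Agent.Lib.Helper27.RepWithComp
  Groth.Agent.Lib.Helper27.Descent Groth.Agent.Lib.Helper27.BaseChangePres

namespace Groth.Agent.Lib.Helper27.Largest

variable {S : Scheme.{u}}

open Stk

local infixr:80 " ⊚ " => BasedFunctor.comp

section KL

variable {𝒳 𝒴 : AlgSt.Cat S} (f : 𝒳 ⥤ᵇ 𝒴) {Y' A : AlgSp.Sp S} (y' : AlgSt.ofSp Y' ⥤ᵇ 𝒴)
  (p₁ p₂ : A ⟶ Y') (κ : AlgSt.ofSpMap p₁ ⊚ y' ≅ AlgSt.ofSpMap p₂ ⊚ y')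

theorem exists_hom_of_compat (a : (AlgSt.ofSp A).obj) (ξ₁ ξ₂ : (fp y' f).obj)
    (ι₁ : (AlgSt.ofSpMap p₁).toFunctor.obj a ≅ (fpFst y' f).toFunctor.obj ξ₁) (hι₁ : Vert ι₁.hom)
    (ι₂ : (AlgSt.ofSpMap p₂).toFunctor.obj a ≅ (fpFst y' f).toFunctor.obj ξ₂) (hι₂ : Vert ι₂.hom)
    (ψ : ξ₁.obj.snd ≅ ξ₂.obj.snd)
    (H : y'.toFunctor.map ι₁.hom ≫ ξ₁.obj.iso.hom ≫ f.toFunctor.map ψ.hom =
      κ.hom.toNatTrans.app a ≫ y'.toFunctor.map ι₂.hom ≫ ξ₂.obj.iso.hom) :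
    Nonempty ((pasteL f y' (AlgSt.ofSpMap p₂)).toFunctor.obj
        (mkObj (F := AlgSt.ofSpMap p₂) (G := fpFst y' f) a ξ₂ ι₂ hι₂) ⟶
      (isoMap f (AlgSt.ofSpMap p₂ ⊚ y') (AlgSt.ofSpMap p₁ ⊚ y') κ).toFunctor.obj
        ((pasteL f y' (AlgSt.ofSpMap p₁)).toFunctor.obj
          (mkObj (F := AlgSt.ofSpMap p₁) (G := fpFst y' f) a ξ₁ ι₁ hι₁))) := by
  have hκ : κ.inv.toNatTrans.app a ≫ κ.hom.toNatTrans.app a = 𝟙 _ := by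
    have := congrArg (fun (t : AlgSt.ofSpMap p₂ ⊚ y' ⟶ AlgSt.ofSpMap p₂ ⊚ y') => t.toNatTrans.app a)
      κ.inv_hom_id
    exact this
  have hψ : f.toFunctor.map ψ.hom ≫ f.toFunctor.map ψ.inv = 𝟙 _ := by
    rw [← f.toFunctor.map_comp, Iso.hom_inv_id, f.toFunctor.map_id]
  refine ⟨mkHom (𝟙 a) ψ.inv ?_⟩
  change (AlgSt.ofSpMap p₂ ⊚ y').toFunctor.map (𝟙 a) ≫
      (κ.inv.toNatTrans.app a ≫ (y'.toFunctor.map ι₁.hom ≫ ξ₁.obj.iso.hom) ≫ 𝟙 _) =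
    (y'.toFunctor.map ι₂.hom ≫ ξ₂.obj.iso.hom) ≫ f.toFunctor.map ψ.inv
  rw [(AlgSt.ofSpMap p₂ ⊚ y').toFunctor.map_id, Category.id_comp, Category.comp_id]
  have h1 : y'.toFunctor.map ι₁.hom ≫ ξ₁.obj.iso.hom =
      (κ.hom.toNatTrans.app a ≫ y'.toFunctor.map ι₂.hom ≫ ξ₂.obj.iso.hom) ≫
        f.toFunctor.map ψ.inv := by
    rw [← H]
    simp only [Category.assoc]
    rw [hψ, Category.comp_id]
  rw [h1]
  simp only [Category.assoc]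
  rw [← Category.assoc, hκ, Category.id_comp]

end KL

section Inv

variable {𝒴 : AlgSt.Cat S} {Y' A : AlgSp.Sp S} (y' : AlgSt.ofSp Y' ⥤ᵇ 𝒴)
  (E_A : AlgSt.ofSp A ⥤ᵇ fp y' y')

/-- The first projection of the groupoid of an atlas. -/
def pr₁ : A ⟶ Y' := ObjectProperty.homMk (pshMapOf (E_A ⊚ fpFst y' y'))

/-- The second projection of the groupoid of an atlas. -/
def pr₂ : A ⟶ Y' := ObjectProperty.homMk (pshMapOf (E_A ⊚ fpSnd y' y'))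

/-- The universal isomorphism over the groupoid of an atlas. -/
def κA : AlgSt.ofSpMap (pr₁ y' E_A) ⊚ y' ≅ AlgSt.ofSpMap (pr₂ y' E_A) ⊚ y' :=
  (whiskerRightIso (τIso (E_A ⊚ fpFst y' y')) y' ≪≫ whiskerLeftIso E_A (fpIso y' y')) ≪≫
    (whiskerRightIso (τIso (E_A ⊚ fpSnd y' y')) y').symm

theorem κA_app (a : (AlgSt.ofSp A).obj) : (κA y' E_A).hom.toNatTrans.app a =
    y'.toFunctor.map (τ (E_A ⊚ fpFst y' y') a).hom ≫ (E_A.toFunctor.obj a).obj.iso.hom ≫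
      y'.toFunctor.map (τ (E_A ⊚ fpSnd y' y') a).inv := by
  have h : (κA y' E_A).hom.toNatTrans.app a =
      (y'.toFunctor.map (τ (E_A ⊚ fpFst y' y') a).hom ≫ (E_A.toFunctor.obj a).obj.iso.hom) ≫
        y'.toFunctor.map (τ (E_A ⊚ fpSnd y' y') a).inv := rfl
  rw [h, Category.assoc]


/-- The presentation of the base change, before pasting. -/
abbrev Ξ' {𝒳 : AlgSt.Cat S} (f : 𝒳 ⥤ᵇ 𝒴) {X' Z W : AlgSp.Sp S}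
    (e : AlgSt.ofSp X' ⥤ᵇ fp y' f) (a : Z ⟶ Y') {fst : W.obj ⟶ X'.obj} {snd : W.obj ⟶ Z.obj}
    (sq : IsPullback fst snd (pshMapOf (e ⊚ fpFst y' f)) a.hom) :
    AlgSt.ofSp W ⥤ᵇ fp (AlgSt.ofSpMap a) (fpFst y' f) :=
  bridge sq ⊚ fpMap (D₃ f y' e (AlgSt.ofSpMap a))

theorem isEquivOver_Ξ' {𝒳 : AlgSt.Cat S} (f : 𝒳 ⥤ᵇ 𝒴) {X' Z W : AlgSp.Sp S}
    (e : AlgSt.ofSp X' ⥤ᵇ fp y' f) (he : IsEquivOver e) (a : Z ⟶ Y') {fst : W.obj ⟶ X'.obj}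
    {snd : W.obj ⟶ Z.obj}
    (sq : IsPullback fst snd (pshMapOf (e ⊚ fpFst y' f)) a.hom) :
    IsEquivOver (Ξ' y' f e a sq) :=
  isEquivOver_comp _ _ (isEquivOver_bridge sq)
    (isEquivOver_fpMap (D₃ f y' e (AlgSt.ofSpMap a)) (isEquivOver_id _) he (isEquivOver_id _))

/-- Invariance of the largest open under the groupoid of an atlas. -/
theorem inRange_of_iso (P : MorphismProperty (AlgSp.Sp S))
    {𝒳 𝒴 : AlgSt.Cat S} (f : 𝒳 ⥤ᵇ 𝒴) {Y' A X' : AlgSp.Space S} (y' : AlgSt.ofSp Y'.obj ⥤ᵇ 𝒴)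
    (E_A : AlgSt.ofSp A.obj ⥤ᵇ fp y' y') (hE_A : IsEquivOver E_A)
    (e : AlgSt.ofSp X'.obj ⥤ᵇ fp y' f) (he : IsEquivOver e)
    {W : AlgSp.Space S} (w : W ⟶ X')
    {X₁ X₂ W₁ W₂ : AlgSp.Space S} (fst₁ : X₁ ⟶ X') (snd₁ : X₁ ⟶ A) (fst₂ : X₂ ⟶ X')
    (snd₂ : X₂ ⟶ A)
    (sq₁ : IsPullback fst₁.hom.hom snd₁.hom.hom (pshMapOf (e ⊚ fpFst y' f)) (pr₁ y' E_A).hom)
    (sq₂ : IsPullback fst₂.hom.hom snd₂.hom.hom (pshMapOf (e ⊚ fpFst y' f)) (pr₂ y' E_A).hom)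
    (w₁ : W₁ ⟶ X₁) (k₁ : W₁ ⟶ W)
    (sqW₁ : IsPullback k₁.hom.hom w₁.hom.hom w.hom.hom fst₁.hom.hom)
    (w₂ : W₂ ⟶ X₂) (k₂ : W₂ ⟶ W) (hk₂ : w₂ ≫ fst₂ = k₂ ≫ w)
    (hw₁ : AlgSp.RepWith @IsOpenImmersion w₁.hom) (hP₁ : P (w₁ ≫ snd₁).hom)
    (hLg₂ : IsLg P snd₂ w₂)
    (s₁ s₂ : (AlgSt.ofSp X'.obj).obj)
    (ψ : (e ⊚ fpSnd y' f).toFunctor.obj s₁ ≅ (e ⊚ fpSnd y' f).toFunctor.obj s₂)
    (hψ : Vert ψ.hom) (hs₁ : InRange w.hom s₁) : InRange w.hom s₂ := by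
  obtain ⟨ξ₁, hξ₁⟩ : ∃ ξ₁ : (fp y' f).obj, ξ₁ = e.toFunctor.obj s₁ := ⟨_, rfl⟩
  obtain ⟨ξ₂, hξ₂⟩ : ∃ ξ₂ : (fp y' f).obj, ξ₂ = e.toFunctor.obj s₂ := ⟨_, rfl⟩
  obtain ⟨ψ', hψ'⟩ : ∃ ψ' : ξ₁.obj.snd ≅ ξ₂.obj.snd, Vert ψ'.hom := by
    rw [hξ₁, hξ₂]
    exact ⟨ψ, hψ⟩
  clear hψ ψ
  -- the point of the groupoid
  obtain ⟨α, hαdef⟩ : ∃ α : y'.toFunctor.obj ξ₁.obj.fst ≅ y'.toFunctor.obj ξ₂.obj.fst,
      α = ξ₁.obj.iso ≪≫ f.toFunctor.mapIso ψ' ≪≫ ξ₂.obj.iso.symm := ⟨_, rfl⟩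
  have hα : Vert α.hom := by
    rw [hαdef]
    exact (vert_iso ξ₁).comp ((hψ'.map f).comp (Vert.inv (vert_iso ξ₂)))
  obtain ⟨a, η, hη⟩ := ess_of_equiv E_A hE_A (mkObj (F := y') (G := y') ξ₁.obj.fst ξ₂.obj.fst α hα)
  obtain ⟨ι₁, hι₁def⟩ : ∃ ι₁ : (AlgSt.ofSpMap (pr₁ y' E_A)).toFunctor.obj a ≅
      (fpFst y' f).toFunctor.obj ξ₁,
      ι₁ = τ (E_A ⊚ fpFst y' y') a ≪≫ (fpFst y' y').toFunctor.mapIso η := ⟨_, rfl⟩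
  obtain ⟨ι₂, hι₂def⟩ : ∃ ι₂ : (AlgSt.ofSpMap (pr₂ y' E_A)).toFunctor.obj a ≅
      (fpFst y' f).toFunctor.obj ξ₂,
      ι₂ = τ (E_A ⊚ fpSnd y' y') a ≪≫ (fpSnd y' y').toFunctor.mapIso η := ⟨_, rfl⟩
  have hι₁ : Vert ι₁.hom := by
    rw [hι₁def]
    exact (τ_vert _ a).comp (hη.map (fpFst y' y'))
  have hι₂ : Vert ι₂.hom := by
    rw [hι₂def]
    exact (τ_vert _ a).comp (hη.map (fpSnd y' y'))
  have H : y'.toFunctor.map ι₁.hom ≫ ξ₁.obj.iso.hom ≫ f.toFunctor.map ψ'.hom =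
      (κA y' E_A).hom.toNatTrans.app a ≫ y'.toFunctor.map ι₂.hom ≫ ξ₂.obj.iso.hom := by
    have hw := hom_w η.hom
    change y'.toFunctor.map η.hom.hom.fst ≫ α.hom =
      (E_A.toFunctor.obj a).obj.iso.hom ≫ y'.toFunctor.map η.hom.hom.snd at hw
    have h1 : y'.toFunctor.map ι₁.hom = y'.toFunctor.map (τ (E_A ⊚ fpFst y' y') a).hom ≫
        y'.toFunctor.map η.hom.hom.fst := by
      rw [hι₁def, ← y'.toFunctor.map_comp]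
      rfl
    have h2 : y'.toFunctor.map ι₂.hom = y'.toFunctor.map (τ (E_A ⊚ fpSnd y' y') a).hom ≫
        y'.toFunctor.map η.hom.hom.snd := by
      rw [hι₂def, ← y'.toFunctor.map_comp]
      rfl
    have h3 : y'.toFunctor.map (τ (E_A ⊚ fpSnd y' y') a).inv ≫
        y'.toFunctor.map (τ (E_A ⊚ fpSnd y' y') a).hom = 𝟙 _ := by
      rw [← y'.toFunctor.map_comp, Iso.inv_hom_id, y'.toFunctor.map_id]
    have h4 : α.hom ≫ ξ₂.obj.iso.hom = ξ₁.obj.iso.hom ≫ f.toFunctor.map ψ'.hom := by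
      rw [hαdef]
      simp
    rw [κA_app, h1, h2]
    simp only [Category.assoc]
    rw [reassoc_of% h3, ← reassoc_of% hw, h4]
  obtain ⟨m₀⟩ := exists_hom_of_compat f y' (pr₁ y' E_A) (pr₂ y' E_A) (κA y' E_A) a ξ₁ ξ₂ ι₁ hι₁
    ι₂ hι₂ ψ' H
  -- the two points of the fibre products
  obtain ⟨z₁, ρ₁, hρ₁⟩ := ess_of_equiv (Ξ' y' f e (pr₁ y' E_A) sq₁)
    (isEquivOver_Ξ' y' f e he (pr₁ y' E_A) sq₁)
    (mkObj (F := AlgSt.ofSpMap (pr₁ y' E_A)) (G := fpFst y' f) a ξ₁ ι₁ hι₁)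
  obtain ⟨z₂, ρ₂, hρ₂⟩ := ess_of_equiv (Ξ' y' f e (pr₂ y' E_A) sq₂)
    (isEquivOver_Ξ' y' f e he (pr₂ y' E_A) sq₂)
    (mkObj (F := AlgSt.ofSpMap (pr₂ y' E_A)) (G := fpFst y' f) a ξ₂ ι₂ hι₂)
  have hfull : e.toFunctor.Full := full_of_equiv e he
  -- the first point lies in the open
  have hz₁ : InRange w₁.hom z₁ := by
    have n₁ : e.toFunctor.obj ((ofPshMap fst₁.hom.hom).obj z₁) ⟶ e.toFunctor.obj s₁ := by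
      rw [← hξ₁]
      exact ρ₁.hom.hom.snd
    have h5 : InRange w.hom ((ofPshMap fst₁.hom.hom).obj z₁) :=
      hs₁.of_hom (e.toFunctor.preimage n₁)
    obtain ⟨u, hu⟩ := h5.exists_sec
    obtain ⟨t, -, ht⟩ := sq_exists sqW₁ (T := op z₁.base) u z₁.sec hu
    exact inRange_of_sec w₁.hom z₁ t ht
  -- transport
  have hπ₂ : snd₂.hom.hom = pshMapOf (Ξ f y' e (pr₂ y' E_A) sq₂ ⊚
      fpFst (AlgSt.ofSpMap (pr₂ y' E_A) ⊚ y') f) := (pshMapOf_Ξ_fst f y' e (pr₂ y' E_A) sq₂).symm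
  have hπ₁ : snd₁.hom.hom = pshMapOf ((Ξ f y' e (pr₁ y' E_A) sq₁ ⊚
      isoMap f (AlgSt.ofSpMap (pr₂ y' E_A) ⊚ y') (AlgSt.ofSpMap (pr₁ y' E_A) ⊚ y') (κA y' E_A)) ⊚
      fpFst (AlgSt.ofSpMap (pr₂ y' E_A) ⊚ y') f) := by
    refine (pshMapOf_Ξ_fst f y' e (pr₁ y' E_A) sq₁).symm.trans ?_
    apply pshMapOf_congr
    intro t
    exact ⟨𝟙 _, Vert.id _⟩
  have m : (Ξ f y' e (pr₂ y' E_A) sq₂).obj z₂ ⟶ (Ξ f y' e (pr₁ y' E_A) sq₁ ⊚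
      isoMap f (AlgSt.ofSpMap (pr₂ y' E_A) ⊚ y') (AlgSt.ofSpMap (pr₁ y' E_A) ⊚ y')
        (κA y' E_A)).obj z₁ :=
    (pasteL f y' (AlgSt.ofSpMap (pr₂ y' E_A))).toFunctor.map ρ₂.hom ≫ m₀ ≫
      (isoMap f (AlgSt.ofSpMap (pr₂ y' E_A) ⊚ y') (AlgSt.ofSpMap (pr₁ y' E_A) ⊚ y')
        (κA y' E_A)).toFunctor.map ((pasteL f y' (AlgSt.ofSpMap (pr₁ y' E_A))).toFunctor.map ρ₁.inv)
  have hz₂ : InRange w₂.hom z₂ :=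
    inRange_transport P _ _
      (isEquivOver_comp _ _ (isEquivOver_Ξ f y' e he (pr₁ y' E_A) sq₁)
        (isEquivOver_isoMap f _ _ (κA y' E_A)))
      (isEquivOver_Ξ f y' e he (pr₂ y' E_A) sq₂)
      (fpFst (AlgSt.ofSpMap (pr₂ y' E_A) ⊚ y') f) snd₁ hπ₁ snd₂ hπ₂ w₁ w₂ hw₁ hP₁ hLg₂ z₁ z₂ m hz₁
  -- back to the second object
  have h6 : InRange w.hom ((ofPshMap fst₂.hom.hom).obj z₂) := by
    obtain ⟨u, ⟨n⟩⟩ := hz₂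
    have h7 : InRange (k₂ ≫ w).hom ((AlgSt.ofSpMap (k₂ ≫ w).hom).obj u) := inRange_map _ u
    have h8 : InRange (k₂ ≫ w).hom ((AlgSt.ofSpMap (w₂ ≫ fst₂).hom).obj u) := by
      rw [hk₂]
      exact h7
    have h9 : InRange w.hom ((AlgSt.ofSpMap fst₂.hom).obj ((AlgSt.ofSpMap w₂.hom).obj u)) :=
      inRange_comp k₂.hom w.hom _ h8
    exact h9.of_hom ((ofPshMap fst₂.hom.hom).map n)
  have n₂ : e.toFunctor.obj s₂ ⟶ e.toFunctor.obj ((ofPshMap fst₂.hom.hom).obj z₂) := by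
    rw [← hξ₂]
    exact ρ₂.inv.hom.snd
  exact h6.of_hom (e.toFunctor.preimage n₂)

end Inv

end Groth.Agent.Lib.Helper27.Largest
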