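import Groth.Agent.Lib.Helper27.StPoints
import Groth.Prelude.Def_AlgSp4

/-!
# Points of the category of a sheaf (helper27)
-/

set_option autoImplicit false
set_option backward.isDefEq.respectTransparency false
set_option backward.isDefEq.respectTransparency.types false

universe u

open CategoryTheory CategoryTheory.Limits FibCat AlgebraicGeometry Opposite
  Groth.Agent.Lib.Helper27.FpKit

namespace Groth.Agent.Lib.Helper27.StPoints

variable {S : Scheme.{u}} {F G : AlgSp.Sp S}

/-- The field-valued point of the category of a sheaf attached to a field-valued point of the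
sheaf. -/
noncomputable def ofFieldPt (p : AlgSp.FieldPt F) : AlgSt.FPt (AlgSt.ofSp F) :=
  { K := p.K, str := p.str, obj := ⟨Over.mk p.str, p.val⟩, lies := rfl }

theorem rel_ofFieldPt {p q : AlgSp.FieldPt F} (h : AlgSp.FieldPt.Rel p q) :
    AlgSt.FPt.Rel (ofFieldPt p) (ofFieldPt q) := by
  obtain ⟨Ω, _, w, a, b, h⟩ := h
  let r : AlgSt.FPt (AlgSt.ofSp F) :=
    { K := Ω, str := w, obj := ⟨Over.mk w, F.obj.map a.op p.val⟩, lies := rfl }
  exact ⟨r, ⟨a, rfl⟩, ⟨b, h.symm⟩, trivial⟩

/-- The comparison from the points of a sheaf to the points of its category. -/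
noncomputable def toSt (F : AlgSp.Sp S) : AlgSp.Points F → AlgSt.Points (AlgSt.ofSp F) :=
  Quotient.lift (fun p => AlgSt.Points.mk (ofFieldPt p))
    (fun _ _ h => AlgSt.Points.sound (rel_ofFieldPt h))

theorem toSt_mk (p : AlgSp.FieldPt F) : toSt F (AlgSp.Points.mk p) = AlgSt.Points.mk (ofFieldPt p) :=
  rfl

theorem toSt_surjective (F : AlgSp.Sp S) : Function.Surjective (toSt F) := by
  intro x
  obtain ⟨p, rfl⟩ := AlgSt.Points.mk_surjective x
  obtain ⟨K, str, ⟨T, s⟩, lies⟩ := p
  change T = Over.mk str at lies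
  subst lies
  exact ⟨AlgSp.Points.mk ⟨K, str, s⟩, rfl⟩

theorem toSt_injective (F : AlgSp.Sp S) : Function.Injective (toSt F) := by
  intro x y h
  induction x using AlgSp.Points.ind with
  | h p =>
    induction y using AlgSp.Points.ind with
    | h q =>
      rw [toSt_mk, toSt_mk, mk_eq_mk_iff (Stk.isFibGrpd_ofPsh (P := F.obj))] at h
      obtain ⟨r, a, b, -⟩ := h
      obtain ⟨Ω, w, ⟨T, s⟩, lies⟩ := r
      change T = Over.mk w at lies
      subst lies
      exact AlgSp.Points.sound ⟨Ω, inferInstance, w, a.hom, b.hom, a.map_sec.trans b.map_sec.symm⟩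

theorem toSt_bijective (F : AlgSp.Sp S) : Function.Bijective (toSt F) :=
  ⟨toSt_injective F, toSt_surjective F⟩

theorem toSt_map (c : F ⟶ G) (x : AlgSp.Points F) :
    AlgSt.Points.map (AlgSt.ofSpMap c) (toSt F x) = toSt G (AlgSp.Points.map c x) := by
  induction x using AlgSp.Points.ind with
  | h p => rfl

end Groth.Agent.Lib.Helper27.StPoints
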