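import Groth.Agent.Lib.Helper27.RepChart
import Groth.Agent.Lib.Helper27.StPointsSp
import Groth.Agent.Lib.Helper3.AlgSpOpenSub
import Groth.Agent.S9937

/-!
# Largest open subspaces on which a morphism has a property: transport along presentations
(helper27)
-/

set_option autoImplicit false
set_option backward.isDefEq.respectTransparency false
set_option backward.isDefEq.respectTransparency.types false

universe u

open CategoryTheory CategoryTheory.Limits AlgebraicGeometry Opposite FibCat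
  Groth.Agent.Lib.Helper27.FpKit Groth.Agent.Lib.Helper27.PshKit
  Groth.Agent.Lib.Helper27.PshRep Groth.Agent.Lib.Helper27.RepWithComp

namespace Groth.Agent.Lib.Helper27.Largest

variable {S : Scheme.{u}}

open Stk

local infixr:80 " ⊚ " => BasedFunctor.comp

/-- `w` is the largest open subspace of the source of `f` on which `f` has `P`. -/
def IsLg (P : MorphismProperty (AlgSp.Sp S)) {X Y : AlgSp.Space S} (f : X ⟶ Y)
    {W : AlgSp.Space S} (w : W ⟶ X) : Prop :=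
  AlgSp.RepWith @IsOpenImmersion w.hom ∧ P (w ≫ f).hom ∧
    ∀ (W₁ : AlgSp.Space S) (w₁ : W₁ ⟶ X), AlgSp.RepWith @IsOpenImmersion w₁.hom →
      P (w₁ ≫ f).hom → ∃ k : W₁ ⟶ W, k ≫ w = w₁

/-- The object `z` of the category of the sheaf `X` maps to an object coming from `W`. -/
def InRange {W X : AlgSp.Sp S} (w : W ⟶ X) (z : (AlgSt.ofSp X).obj) : Prop :=
  ∃ u : (AlgSt.ofSp W).obj, Nonempty (z ⟶ (AlgSt.ofSpMap w).obj u)

theorem InRange.of_hom {W X : AlgSp.Sp S} {w : W ⟶ X} {z z' : (AlgSt.ofSp X).obj} (m : z' ⟶ z)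
    (h : InRange w z) : InRange w z' := by
  obtain ⟨u, ⟨n⟩⟩ := h
  exact ⟨u, ⟨m ≫ n⟩⟩

theorem inRange_map {W X : AlgSp.Sp S} (w : W ⟶ X) (u : (AlgSt.ofSp W).obj) :
    InRange w ((AlgSt.ofSpMap w).obj u) := ⟨u, ⟨𝟙 _⟩⟩

/-- An object in the range is the image of an object over the same base. -/
theorem InRange.exists_sec {W X : AlgSp.Sp S} {w : W ⟶ X} {z : (AlgSt.ofSp X).obj}
    (h : InRange w z) : ∃ u : W.obj.obj (op z.base), w.hom.app (op z.base) u = z.sec := by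
  obtain ⟨u, ⟨n⟩⟩ := h
  refine ⟨W.obj.map n.hom.op u.sec, ?_⟩
  have h1 := n.map_sec
  change X.obj.map n.hom.op (w.hom.app (op u.base) u.sec) = z.sec at h1
  rw [← h1]
  exact NatTrans.naturality_apply w.hom n.hom.op u.sec

theorem inRange_of_sec {W X : AlgSp.Sp S} (w : W ⟶ X) (z : (AlgSt.ofSp X).obj)
    (u : W.obj.obj (op z.base)) (h : w.hom.app (op z.base) u = z.sec) : InRange w z :=
  ⟨⟨z.base, u⟩, ⟨⟨𝟙 _, by
    change X.obj.map (𝟙 z.base).op (w.hom.app (op z.base) u) = z.sec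
    rw [h, op_id, X.obj.map_id]
    rfl⟩⟩⟩

theorem inRange_comp {W W' X : AlgSp.Sp S} (k : W' ⟶ W) (w : W ⟶ X) (z : (AlgSt.ofSp X).obj)
    (h : InRange (k ≫ w) z) : InRange w z := by
  obtain ⟨u, ⟨n⟩⟩ := h
  exact ⟨(AlgSt.ofSpMap k).obj u, ⟨n⟩⟩

/-- Transport of membership in the largest open along two presentations of the same category. -/
theorem inRange_transport (P : MorphismProperty (AlgSp.Sp S))
    {𝒲 : AlgSt.Cat S} {X₁ X₂ B : AlgSp.Space S}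
    (E₁ : AlgSt.ofSp X₁.obj ⥤ᵇ 𝒲) (E₂ : AlgSt.ofSp X₂.obj ⥤ᵇ 𝒲) (h₁ : IsEquivOver E₁)
    (h₂ : IsEquivOver E₂) (q : 𝒲 ⥤ᵇ AlgSt.ofSp B.obj)
    (π₁ : X₁ ⟶ B) (hπ₁ : π₁.hom.hom = pshMapOf (E₁ ⊚ q))
    (π₂ : X₂ ⟶ B) (hπ₂ : π₂.hom.hom = pshMapOf (E₂ ⊚ q))
    {W₁ W₂ : AlgSp.Space S} (w₁ : W₁ ⟶ X₁) (w₂ : W₂ ⟶ X₂)
    (hw₁ : AlgSp.RepWith @IsOpenImmersion w₁.hom) (hP₁ : P (w₁ ≫ π₁).hom)
    (hw₂ : IsLg P π₂ w₂)
    (z₁ : (AlgSt.ofSp X₁.obj).obj) (z₂ : (AlgSt.ofSp X₂.obj).obj)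
    (m : E₂.obj z₂ ⟶ E₁.obj z₁) (hz₁ : InRange w₁.hom z₁) : InRange w₂.hom z₂ := by
  obtain ⟨E₂', hE₂', -, ⟨ε⟩⟩ := exists_inverse E₂ h₂
  obtain ⟨Ψ, hΨdef⟩ : ∃ Ψ : AlgSt.ofSp X₁.obj ⥤ᵇ AlgSt.ofSp X₂.obj, Ψ = E₁ ⊚ E₂' := ⟨_, rfl⟩
  have hΨ : IsEquivOver Ψ := by rw [hΨdef]; exact isEquivOver_comp E₁ E₂' h₁ hE₂'
  have hiso' : IsIso (pshMapOf Ψ) := isIso_pshMapOf Ψ hΨ
  obtain ⟨θ, hθ⟩ : ∃ θ : X₁ ⟶ X₂, θ.hom.hom = pshMapOf Ψ :=
    ⟨ObjectProperty.homMk (ObjectProperty.homMk (pshMapOf Ψ)), rfl⟩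
  have hθiso : IsIso θ.hom := by
    have h0 : θ.hom = ObjectProperty.homMk (pshMapOf Ψ) := by
      apply ObjectProperty.hom_ext
      exact hθ
    rw [h0]
    exact isIso_homMk (F₁ := X₁.obj) (F₂ := X₂.obj) (pshMapOf Ψ) hiso'
  have h1 : pshMapOf (E₁ ⊚ q) = pshMapOf Ψ ≫ pshMapOf (E₂ ⊚ q) := by
    rw [← pshMapOf_comp, hΨdef]
    apply pshMapOf_congr
    intro a
    exact ⟨q.toFunctor.map (ε.inv.toNatTrans.app (E₁.toFunctor.obj a)),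
      (Vert.app ε.inv (E₁.toFunctor.obj a)).map q⟩
  have hθπ : θ ≫ π₂ = π₁ := by
    apply ObjectProperty.hom_ext
    apply ObjectProperty.hom_ext
    change θ.hom.hom ≫ π₂.hom.hom = π₁.hom.hom
    rw [hθ, hπ₂, hπ₁, h1]
  have hopen : AlgSp.RepWith @IsOpenImmersion (w₁ ≫ θ).hom := by
    change AlgSp.RepWith @IsOpenImmersion (w₁.hom ≫ θ.hom)
    exact (AlgSp.RepWith @IsOpenImmersion).comp_mem _ _ hw₁
      (Groth.Agent.S9937.repWith_of_isIso @IsOpenImmersion (fun g _ => inferInstance) θ.hom)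
  have hP₂ : P ((w₁ ≫ θ) ≫ π₂).hom := by
    rw [Category.assoc, hθπ]
    exact hP₁
  obtain ⟨k, hk⟩ := hw₂.2.2 W₁ (w₁ ≫ θ) hopen hP₂
  obtain ⟨u, ⟨n⟩⟩ := hz₁
  have hfull : E₂.toFunctor.Full := full_of_equiv E₂ h₂
  obtain ⟨a, -⟩ : ∃ a : z₂ ⟶ Ψ.obj z₁, True := by
    rw [hΨdef]
    exact ⟨E₂.toFunctor.preimage (m ≫ ε.inv.toNatTrans.app (E₁.toFunctor.obj z₁)), trivial⟩
  have hfin : InRange w₂.hom ((AlgSt.ofSpMap θ.hom).obj ((AlgSt.ofSpMap w₁.hom).obj u)) := by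
    have h3 : InRange (k ≫ w₂).hom ((AlgSt.ofSpMap (k ≫ w₂).hom).obj u) := inRange_map _ u
    have h4 : InRange (k ≫ w₂).hom ((AlgSt.ofSpMap (w₁ ≫ θ).hom).obj u) := by
      rw [← hk]
      exact h3
    exact inRange_comp k.hom w₂.hom _ h4
  have hτ : (AlgSt.ofSpMap θ.hom).obj ((AlgSt.ofSpMap w₁.hom).obj u) =
      (ofPshMap (pshMapOf Ψ)).obj ((AlgSt.ofSpMap w₁.hom).obj u) := by
    change (ofPshMap θ.hom.hom).obj _ = _
    rw [hθ]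
  rw [hτ] at hfin
  exact hfin.of_hom (a ≫ Ψ.toFunctor.map n ≫ (τ Ψ _).inv)

end Groth.Agent.Lib.Helper27.Largest
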