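import Groth.Agent.Lib.Helper27.LargestSat
import Groth.Agent.Lib.Helper27.MonoFull

/-!
# Open subspaces presenting base changes of restrictions to open substacks (helper27)
-/

set_option autoImplicit false
set_option backward.isDefEq.respectTransparency false
set_option backward.isDefEq.respectTransparency.types false

universe u

open CategoryTheory CategoryTheory.Limits AlgebraicGeometry Opposite FibCat
  Groth.Agent.Lib.Helper27.FpKit Groth.Agent.Lib.Helper27.PshKit Groth.Agent.Lib.Helper27.PshFp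
  Groth.Agent.Lib.Helper27.PshRep Groth.Agent.Lib.Helper27.RepWithComp
  Groth.Agent.Lib.Helper27.Descent Groth.Agent.Lib.Helper27.BaseChangePres
  Groth.Agent.Lib.Helper27.OpenSub Groth.Agent.Lib.Helper27.StPoints

namespace Groth.Agent.Lib.Helper27.Largest

variable {S : Scheme.{u}}

open Stk

local infixr:80 " ⊚ " => BasedFunctor.comp

section Corestrict

variable {𝒳 𝒴 𝒜 ℬ : AlgSt.Cat S} (f : 𝒳 ⥤ᵇ 𝒴) (y' : ℬ ⥤ᵇ 𝒴) (Q₀ : 𝒳.obj → Prop)
  (G : 𝒜 ⥤ᵇ fp y' f) (H1 : ∀ u, Q₀ ((G ⊚ fpSnd y' f).toFunctor.obj u))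

/-- The corestriction of a functor to a base change, to the base change of the restriction to a
full subcategory. -/
def corestr : 𝒜 ⥤ᵇ fp y' (AlgSt.subIncl 𝒳 Q₀ ⊚ f) :=
  fpLift (G ⊚ fpFst y' f) (liftSub Q₀ (G ⊚ fpSnd y' f) H1) (whiskerLeftIso G (fpIso y' f))

theorem corestr_fst : corestr f y' Q₀ G H1 ⊚ fpFst y' (AlgSt.subIncl 𝒳 Q₀ ⊚ f) = G ⊚ fpFst y' f :=
  rfl

theorem isEquivOver_corestr (hfull : G.toFunctor.Full) (hfaith : G.toFunctor.Faithful)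
    (Hess : ∀ t : (fp y' f).obj, Q₀ t.obj.snd →
      ∃ (u : 𝒜.obj) (ε : G.toFunctor.obj u ≅ t), Vert ε.hom) :
    IsEquivOver (corestr f y' Q₀ G H1) := by
  apply isEquivOver_of_ess
  · constructor
    intro u u' Φ
    have hw := hom_w Φ
    obtain ⟨Φ', hΦ'1, hΦ'2⟩ : ∃ Φ' : G.toFunctor.obj u ⟶ G.toFunctor.obj u',
        Φ'.hom.fst = Φ.hom.fst ∧ Φ'.hom.snd = Φ.hom.snd.hom :=
      ⟨mkHom (t := G.toFunctor.obj u) (t' := G.toFunctor.obj u') Φ.hom.fst Φ.hom.snd.hom hw,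
        rfl, rfl⟩
    refine ⟨G.toFunctor.preimage Φ', ?_⟩
    apply Groth.Agent.Lib.Helper27.StackFp.hom_ext'
    · change (G.toFunctor.map (G.toFunctor.preimage Φ')).hom.fst = _
      rw [G.toFunctor.map_preimage, hΦ'1]
    · apply ObjectProperty.hom_ext
      change (G.toFunctor.map (G.toFunctor.preimage Φ')).hom.snd = _
      rw [G.toFunctor.map_preimage, hΦ'2]
  · constructor
    intro u u' ν ν' h
    apply G.toFunctor.map_injective
    apply Groth.Agent.Lib.Helper27.StackFp.hom_ext'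
    · exact congrArg (fun Θ => Θ.hom.fst) h
    · exact congrArg (fun Θ => Θ.hom.snd.hom) h
  · intro t
    obtain ⟨u, ε, hε⟩ := Hess ⟨⟨t.obj.fst, t.obj.snd.obj, t.obj.iso⟩, t.property⟩ t.obj.snd.property
    refine ⟨u, mkIso (t := (corestr f y' Q₀ G H1).toFunctor.obj u) (t' := t)
      ((fpFst y' f).toFunctor.mapIso ε)
      (ObjectProperty.isoMk Q₀ ((fpSnd y' f).toFunctor.mapIso ε)) (hom_w ε.hom), ?_⟩
    rw [vert_hom_iff]
    exact hε.map (fpFst y' f)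

end Corestrict

section Pres

theorem full_ofSpMap {W X : AlgSp.Sp S} (w : W ⟶ X) [Mono w] : (AlgSt.ofSpMap w).toFunctor.Full := by
  constructor
  intro u u' ν'
  have h1 : X.obj.map ν'.hom.op (w.hom.app _ u'.sec) = w.hom.app _ u.sec := ν'.map_sec
  have h2 : W.obj.map ν'.hom.op u'.sec = u.sec := by
    apply Groth.Agent.Lib.Helper27.MonoFull.injective_of_mono w
    exact (NatTrans.naturality_apply w.hom ν'.hom.op u'.sec).trans h1
  exact ⟨⟨ν'.hom, h2⟩, EltObj.hom_ext rfl⟩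

theorem faithful_of_ofPsh {C : Type*} [Category C] {P : Cᵒᵖ ⥤ Type*} {𝒜 : BasedCategory C}
    (Ψ : ofPsh P ⥤ᵇ 𝒜) : Ψ.toFunctor.Faithful := by
  constructor
  intro a b f g h
  apply EltObj.hom_ext
  have h1 := Functor.congr_hom Ψ.w f
  have h2 := Functor.congr_hom Ψ.w g
  have h3 : (Ψ.toFunctor ⋙ 𝒜.p).map f = (Ψ.toFunctor ⋙ 𝒜.p).map g := by
    change 𝒜.p.map (Ψ.toFunctor.map f) = 𝒜.p.map (Ψ.toFunctor.map g)
    rw [h]
  rw [h1, h2] at h3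
  have h4 := (cancel_epi _).1 h3
  exact (cancel_mono _).1 h4

variable {𝒳 𝒴 : AlgSt.Cat S} (f : 𝒳 ⥤ᵇ 𝒴) (Q₀ : 𝒳.obj → Prop)
  {Y' X' W : AlgSp.Sp S} (y' : AlgSt.ofSp Y' ⥤ᵇ 𝒴) (e : AlgSt.ofSp X' ⥤ᵇ fp y' f)
  (w : W ⟶ X')

/-- The open subspace corresponding to an open substack presents the base change of the
restriction. -/
theorem exists_pres_subIncl (hQ₀ : ∀ ⦃a b : 𝒳.obj⦄ (_ : a ⟶ b), Q₀ b → Q₀ a)
    (he : IsEquivOver e) [Mono w]
    (H1 : ∀ u, Q₀ ((e ⊚ fpSnd y' f).toFunctor.obj ((AlgSt.ofSpMap w).toFunctor.obj u)))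
    (H2 : ∀ z, Q₀ ((e ⊚ fpSnd y' f).toFunctor.obj z) → InRange w z) :
    ∃ e₀ : AlgSt.ofSp W ⥤ᵇ fp y' (AlgSt.subIncl 𝒳 Q₀ ⊚ f), IsEquivOver e₀ ∧
      e₀ ⊚ fpFst y' (AlgSt.subIncl 𝒳 Q₀ ⊚ f) = (AlgSt.ofSpMap w ⊚ e) ⊚ fpFst y' f := by
  refine ⟨corestr f y' Q₀ (AlgSt.ofSpMap w ⊚ e) H1, ?_, rfl⟩
  have hfe : e.toFunctor.Full := full_of_equiv e he
  have hfw : (AlgSt.ofSpMap w).toFunctor.Full := full_ofSpMap w
  apply isEquivOver_corestr f y' Q₀ (AlgSt.ofSpMap w ⊚ e) H1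
  · exact inferInstanceAs ((AlgSt.ofSpMap w).toFunctor ⋙ e.toFunctor).Full
  · exact faithful_of_ofPsh _
  · intro t ht
    obtain ⟨z, ε, hε⟩ := ess_of_equiv e he t
    have hz : Q₀ ((e ⊚ fpSnd y' f).toFunctor.obj z) := hQ₀ ((fpSnd y' f).toFunctor.map ε.hom) ht
    obtain ⟨u₀, hu₀⟩ := (H2 z hz).exists_sec
    refine ⟨⟨z.base, u₀⟩, e.toFunctor.mapIso (isoOfEq hu₀) ≪≫ ε, ?_⟩
    exact ((isoOfEq_vert hu₀).map e).comp hε

end Pres

end Groth.Agent.Lib.Helper27.Largest
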