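import Groth.Agent.Lib.Helper27.LargestInv
import Groth.Agent.Lib.Helper27.OpenSub4
import Groth.Agent.Lib.Helper3.AlgSpOpenSubsp2

/-!
# Saturation of the largest open under the groupoid of an atlas (helper27)
-/

set_option autoImplicit false
set_option backward.isDefEq.respectTransparency false
set_option backward.isDefEq.respectTransparency.types false

universe u

open CategoryTheory CategoryTheory.Limits AlgebraicGeometry Opposite FibCat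
  Groth.Agent.Lib.Helper27.FpKit Groth.Agent.Lib.Helper27.PshKit Groth.Agent.Lib.Helper27.PshFp
  Groth.Agent.Lib.Helper27.PshRep Groth.Agent.Lib.Helper27.RepWithComp
  Groth.Agent.Lib.Helper27.Descent Groth.Agent.Lib.Helper27.BaseChangePres
  Groth.Agent.Lib.Helper27.OpenSub Groth.Agent.Lib.Helper27.StPoints

namespace Groth.Agent.Lib.Helper27.Largest

variable {S : Scheme.{u}}

open Stk

local infixr:80 " ⊚ " => BasedFunctor.comp

section Sat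

/-- A section all of whose points lie in the image of an open immersion factors through it. -/
theorem inRange_of_forall_ofPt {W X : AlgSp.Sp S} (w : W ⟶ X)
    (hw : AlgSp.RepWith @IsOpenImmersion w) (z : (AlgSt.ofSp X).obj)
    (h : ∀ t : ↥z.base.left, AlgSp.Points.ofPt ((AlgSp.J S).uliftYonedaEquiv.{u+1}.symm z.sec) t ∈
      Set.range (AlgSp.Points.map w)) : InRange w z := by
  obtain ⟨g', hg'⟩ := Groth.Agent.Lib.Helper3.exists_factor_of_range_subset w hw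
    ((AlgSp.J S).uliftYonedaEquiv.{u+1}.symm z.sec) (by
      rw [Groth.Agent.Lib.Helper3.range_map_eq_range_ofPt]
      rintro _ ⟨t, rfl⟩
      exact h t)
  refine inRange_of_sec w z ((AlgSp.J S).uliftYonedaEquiv.{u+1} g') ?_
  rw [← (AlgSp.J S).uliftYonedaEquiv_comp, hg', Equiv.apply_symm_apply]

variable {𝒳 : AlgSt.Cat S} (h𝒳 : FibCat.IsFibGrpd 𝒳.p) {W X' : AlgSp.Sp S} (w : W ⟶ X')
  (hw : AlgSp.RepWith @IsOpenImmersion w) (cF : AlgSt.ofSp X' ⥤ᵇ 𝒳)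

include h𝒳 hw in
/-- Saturation: an object whose image lies in the image of the open belongs to the open. -/
theorem inRange_of_QW
    (hinv : ∀ (s₁ s₂ : (AlgSt.ofSp X').obj) (ψ : cF.toFunctor.obj s₁ ≅ cF.toFunctor.obj s₂),
      Vert ψ.hom → InRange w s₁ → InRange w s₂)
    (z : (AlgSt.ofSp X').obj)
    (hz : QW (Set.range (AlgSt.Points.map (AlgSt.ofSpMap w ⊚ cF))) (cF.toFunctor.obj z)) :
    InRange w z := by
  apply inRange_of_forall_ofPt w hw z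
  intro t
  obtain ⟨T, σ⟩ := z
  -- the field point at `t`
  obtain ⟨kt, hkt⟩ : ∃ kt : Over.mk (T.left.fromSpecResidueField t ≫ T.hom) ⟶ T,
      kt = Over.homMk (T.left.fromSpecResidueField t) rfl := ⟨_, rfl⟩
  obtain ⟨zt, hzt⟩ : ∃ zt : (AlgSt.ofSp X').obj,
      zt = ⟨Over.mk (T.left.fromSpecResidueField t ≫ T.hom), X'.obj.map kt.op σ⟩ := ⟨_, rfl⟩
  have μ : zt ⟶ (⟨T, σ⟩ : (AlgSt.ofSp X').obj) := by
    rw [hzt]
    exact ⟨kt, rfl⟩
  have hlies : 𝒳.p.obj (cF.toFunctor.obj zt) =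
      Over.mk (T.left.fromSpecResidueField t ≫ T.hom) := by
    rw [cF.w_obj zt, hzt]
    rfl
  obtain ⟨Pt, hPt⟩ : ∃ Pt : AlgSt.FPt 𝒳, Pt =
      { K := ↥(T.left.residueField t), str := T.left.fromSpecResidueField t ≫ T.hom,
        obj := cF.toFunctor.obj zt, lies := hlies } := ⟨_, rfl⟩
  have hmem : AlgSt.Points.mk Pt ∈ Set.range (AlgSt.Points.map (AlgSt.ofSpMap w ⊚ cF)) := by
    apply hz Pt
    rw [hPt]
    exact ⟨cF.toFunctor.map μ⟩
  obtain ⟨x, hx⟩ := hmem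
  obtain ⟨q', rfl⟩ := AlgSt.Points.mk_surjective x
  rw [AlgSt.Points.map_mk, mk_eq_mk_iff h𝒳] at hx
  obtain ⟨r, m₁, m₂, -⟩ := hx
  -- the first object
  obtain ⟨g₁, hg₁⟩ : ∃ g₁ : Over.mk r.str ⟶ Over.mk q'.str,
      g₁ = base (p := r) (q := q'.map (AlgSt.ofSpMap w ⊚ cF)) m₁ := ⟨_, rfl⟩
  have hm₁ : 𝒳.p.IsHomLift g₁ m₁ := by
    rw [hg₁]
    exact base_lift (p := r) (q := q'.map (AlgSt.ofSpMap w ⊚ cF)) m₁
  obtain ⟨u₁, ν₁, hν₁⟩ := Groth.Agent.Lib.Helper16.FpFibGrpd.FibGrpd.exists_lift' (AlgSt.ofSp W).p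
    (Stk.isFibGrpd_ofPsh (P := W.obj)) q'.lies g₁
  have h1 : 𝒳.p.IsHomLift g₁ ((AlgSt.ofSpMap w ⊚ cF).toFunctor.map ν₁) := inferInstance
  obtain ⟨e₁, he₁, -⟩ := exists_vert_iso h𝒳 g₁ m₁ ((AlgSt.ofSpMap w ⊚ cF).toFunctor.map ν₁)
  -- the second object
  subst hPt
  obtain ⟨g₂, hg₂⟩ : ∃ g₂ : Over.mk r.str ⟶ Over.mk (T.left.fromSpecResidueField t ≫ T.hom),
      g₂ = base (p := r) (q := (⟨↥(T.left.residueField t), T.left.fromSpecResidueField t ≫ T.hom,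
        cF.toFunctor.obj zt, hlies⟩ : AlgSt.FPt 𝒳)) m₂ := ⟨_, rfl⟩
  have hm₂ : 𝒳.p.IsHomLift g₂ m₂ := by
    rw [hg₂]
    exact base_lift (p := r) (q := (⟨↥(T.left.residueField t), T.left.fromSpecResidueField t ≫ T.hom,
        cF.toFunctor.obj zt, hlies⟩ : AlgSt.FPt 𝒳)) m₂
  subst hzt
  obtain ⟨ν₂, hν₂, hν₂hom⟩ : ∃ ν₂ : (⟨Over.mk r.str, X'.obj.map g₂.op (X'.obj.map kt.op σ)⟩ :
      (AlgSt.ofSp X').obj) ⟶ (⟨Over.mk (T.left.fromSpecResidueField t ≫ T.hom),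
      X'.obj.map kt.op σ⟩ : (AlgSt.ofSp X').obj),
      (AlgSt.ofSp X').p.IsHomLift g₂ ν₂ ∧ ν₂.hom = g₂ :=
    ⟨⟨g₂, rfl⟩, IsHomLift.map (AlgSt.ofSp X').p
      (⟨g₂, rfl⟩ : (⟨Over.mk r.str, X'.obj.map g₂.op (X'.obj.map kt.op σ)⟩ :
      (AlgSt.ofSp X').obj) ⟶ (⟨Over.mk (T.left.fromSpecResidueField t ≫ T.hom),
      X'.obj.map kt.op σ⟩ : (AlgSt.ofSp X').obj)), rfl⟩
  have h2 : 𝒳.p.IsHomLift g₂ (cF.toFunctor.map ν₂) := inferInstance
  obtain ⟨e₂, he₂, -⟩ := exists_vert_iso h𝒳 g₂ m₂ (cF.toFunctor.map ν₂)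
  have hin := hinv _ _ (e₁.symm ≪≫ e₂) (Vert.comp (Vert.inv he₁) he₂) (inRange_map w u₁)
  obtain ⟨u₂, hu₂⟩ := hin.exists_sec
  refine ⟨AlgSp.Points.mk ⟨r.K, r.str, u₂⟩, ?_⟩
  rw [AlgSp.Points.map_mk]
  apply AlgSp.Points.sound
  refine ⟨r.K, inferInstance, r.str, 𝟙 _, g₂, ?_⟩
  change X'.obj.map (𝟙 (Over.mk r.str)).op (w.hom.app _ u₂) = X'.obj.map g₂.op
    (X'.obj.map (Over.homMk (T.left.fromSpecResidueField t) rfl :
      Over.mk (T.left.fromSpecResidueField t ≫ T.hom) ⟶ T).op σ)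
  rw [op_id, X'.obj.map_id, ← hkt]
  exact hu₂

end Sat

end Groth.Agent.Lib.Helper27.Largest
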