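import Groth.Agent.Lib.Helper27.LocQEquiv
import Groth.Agent.Lib.Helper27.SmLocP
import Groth.Agent.Lib.Helper27.AlgStackFp

/-!
# The diagonal of a morphism locally of finite type is locally of finite presentation (helper27)
-/

set_option autoImplicit false
set_option backward.isDefEq.respectTransparency false
set_option backward.isDefEq.respectTransparency.types false

universe u

open CategoryTheory CategoryTheory.Limits AlgebraicGeometry Opposite FibCat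
  Groth.Agent.Lib.Helper27.FpKit Groth.Agent.Lib.Helper27.RepWithComp
  Groth.Agent.Lib.Helper27.LocQChart Groth.Agent.Lib.Helper27.Descent
  Groth.Agent.Lib.Helper27.LocQComp Groth.Agent.Lib.Helper27.FpBaseChange
  Groth.Agent.Lib.Helper27.LocQBase Groth.Agent.Lib.Helper27.FpSwap
  Groth.Agent.Lib.Helper27.LocQTriple Groth.Agent.Lib.Helper27.LocQEquiv

namespace Groth.Agent.Lib.Helper27.LocQDiagLfp

variable {S : Scheme.{u}}

open Stk

local infixr:80 " ⊚ " => BasedFunctor.comp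

variable {𝒳 𝒴 𝒵 : AlgSt.Cat S}

theorem lft_baseChange : ∀ ⦃X₁ Y₁ X₂ Y₂ : AlgSp.Sp S⦄, AlgSp.IsAlgSpace X₁ → AlgSp.IsAlgSpace Y₁ →
    AlgSp.IsAlgSpace X₂ → AlgSp.IsAlgSpace Y₂ → ∀ (a : X₁ ⟶ Y₁) (b : Y₂ ⟶ Y₁) (a' : X₂ ⟶ Y₂)
    (b' : X₂ ⟶ X₁), IsPullback b' a' a b → AlgSp.LocP @LocallyOfFiniteType a →
    AlgSp.LocP @LocallyOfFiniteType a' :=
  fun _ _ _ _ h1 h2 h3 h4 a b a' b' sq ha =>
    Groth.Agent.Lib.Helper3.locP_of_isPullback Groth.Agent.Lib.Helper3.isEtLocal_locallyOfFiniteType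
      h1 h2 h4 h3 a b b' a' sq ha

/-- If `g` is locally of finite type and `f ≫ g` locally of finite presentation, then `f` is
locally of finite presentation. -/
theorem locQ_lfp_of_comp (h𝒳 : AlgSt.IsAlgStack Scheme.fppfPrecoverage 𝒳)
    (h𝒴 : AlgSt.IsAlgStack Scheme.fppfPrecoverage 𝒴)
    (h𝒵 : AlgSt.IsAlgStack Scheme.fppfPrecoverage 𝒵)
    (f : 𝒳 ⥤ᵇ 𝒴) (g : 𝒴 ⥤ᵇ 𝒵)
    (H : AlgSt.LocQ (AlgSp.LocP @LocallyOfFinitePresentation) (f ⊚ g))
    (Hg : AlgSt.LocQ (AlgSp.LocP @LocallyOfFiniteType) g) :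
    AlgSt.LocQ (AlgSp.LocP @LocallyOfFinitePresentation) f := by
  obtain ⟨U, V, W, x, y, z, h, k, α, β, hx₁, hx₂, hy₁, hy₂, hz₁, hc₂, hPhk⟩ :=
    exists_triple_chart _ Groth.Agent.Lib.Helper27.SmLocP.isSmoothLocalST_locP_lfp h𝒳 h𝒴 h𝒵 f g H
  refine ⟨U, V, x, y, h, α, hx₁, hx₂, hy₁, ?_⟩
  have hk : AlgSp.LocP @LocallyOfFiniteType ((AlgSp.yon S).map k) :=
    Groth.Agent.Lib.Helper27.LocQAll.prop_of_locQ _
      Groth.Agent.Lib.Helper27.SmLocP.isSmoothLocalST_locP_lft h𝒴.isStack.1 h𝒵.isStack.1 g Hg y z k β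
      hz₁ hc₂
  have h0 : LocallyOfFiniteType k.left := AlgSp.locP_yon_map hk
  have h1 : LocallyOfFinitePresentation (h ≫ k).left := AlgSp.locP_yon_map hPhk
  rw [Over.comp_left] at h1
  have h2 : LocallyOfFinitePresentation h.left :=
    Groth.Agent.Lib.Helper3.locallyOfFinitePresentation_of_comp h.left k.left h1 h0
  exact Groth.Agent.Lib.Helper3.locP_of_repWith
    Groth.Agent.Lib.Helper3.isEtLocal_locallyOfFinitePresentation _
    ((AlgSp.repWith_yon_map_iff _ h).2 h2)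

theorem homOf_id (U : Over S) : homOf (BasedFunctor.id (overCat U)) = 𝟙 U := by
  unfold homOf
  change eqToHom _ ≫ 𝟙 U = 𝟙 U
  simp

/-- The identity is locally of finite presentation on chart squares. -/
theorem locQ_lfp_id (h𝒳 : AlgSt.IsAlgStack Scheme.fppfPrecoverage 𝒳) :
    AlgSt.LocQ (AlgSp.LocP @LocallyOfFinitePresentation) (BasedFunctor.id 𝒳) := by
  obtain ⟨U, x, hx₁, hx₂⟩ := h𝒳.atlas
  have e : x ⊚ BasedFunctor.id 𝒳 ≅ AlgSt.overMap (homOf (BasedFunctor.id (overCat U))) ⊚ x :=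
    whiskerRightIso (isoOverMap (BasedFunctor.id (overCat U))) x
  refine ⟨U, U, x, x, homOf (BasedFunctor.id (overCat U)), e, hx₁, hx₂, hx₁, ?_⟩
  rw [homOf_id]
  have h2 : LocallyOfFinitePresentation (𝟙 U : U ⟶ U).left := by
    rw [Over.id_left]
    infer_instance
  exact Groth.Agent.Lib.Helper3.locP_of_repWith
    Groth.Agent.Lib.Helper3.isEtLocal_locallyOfFinitePresentation _
    ((AlgSp.repWith_yon_map_iff _ (𝟙 U)).2 h2)

/-- The diagonal of a morphism locally of finite type is locally of finite presentation. -/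
theorem locQ_lfp_diag (h𝒳 : AlgSt.IsAlgStack Scheme.fppfPrecoverage 𝒳)
    (h𝒴 : AlgSt.IsAlgStack Scheme.fppfPrecoverage 𝒴) (f : 𝒳 ⥤ᵇ 𝒴)
    (H : AlgSt.LocQ (AlgSp.LocP @LocallyOfFiniteType) f) :
    AlgSt.LocQ (AlgSp.LocP @LocallyOfFinitePresentation) (diag f) := by
  have hfp : AlgSt.IsAlgStack Scheme.fppfPrecoverage (fp f f) :=
    Groth.Agent.Lib.Helper27.AlgStackFp.isAlgStack_fp f f h𝒴.isStack h𝒴.diag h𝒳 h𝒳
  obtain ⟨U₀, x₀, hx₀₁, hx₀₂⟩ := h𝒳.atlas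
  have h1 : AlgSt.LocQ (AlgSp.LocP @LocallyOfFiniteType) (fpSnd f f) :=
    locQ_fpSnd _ Groth.Agent.Lib.Helper27.SmLocP.isSmoothLocalST_locP_lft lft_baseChange
      h𝒳.isStack.1 h𝒴.isStack.1 f f x₀ hx₀₁ hx₀₂ H
  have h2 : diag f ⊚ fpSnd f f = BasedFunctor.id 𝒳 := rfl
  have h3 : AlgSt.LocQ (AlgSp.LocP @LocallyOfFinitePresentation) (diag f ⊚ fpSnd f f) := by
    rw [h2]
    exact locQ_lfp_id h𝒳
  exact locQ_lfp_of_comp h𝒳 hfp h𝒳 (diag f) (fpSnd f f) h3 h1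

end Groth.Agent.Lib.Helper27.LocQDiagLfp
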