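import Groth.Agent.Lib.Helper27.LocQFlatCancel

/-!
# Flatness descends along flat surjective morphisms of algebraic stacks (helper27)
-/

set_option autoImplicit false
set_option backward.isDefEq.respectTransparency false
set_option backward.isDefEq.respectTransparency.types false

universe u

open CategoryTheory CategoryTheory.Limits AlgebraicGeometry Opposite FibCat
  Groth.Agent.Lib.Helper27.FpKit Groth.Agent.Lib.Helper27.RepWithComp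
  Groth.Agent.Lib.Helper27.LocQComp Groth.Agent.Lib.Helper27.FpBaseChange
  Groth.Agent.Lib.Helper27.LocQBase Groth.Agent.Lib.Helper27.FpSwap
  Groth.Agent.Lib.Helper27.LocQEquiv Groth.Agent.Lib.Helper27.LocQFlatCancel

namespace Groth.Agent.Lib.Helper27.LocQFlatCancel

variable {S : Scheme.{u}}

open Stk

local infixr:80 " ⊚ " => BasedFunctor.comp

variable {𝒳 𝒴 𝒵 : AlgSt.Cat S}

theorem flat_comp : ∀ ⦃X₁ Y₁ Z₁ : AlgSp.Sp S⦄, AlgSp.IsAlgSpace X₁ → AlgSp.IsAlgSpace Y₁ →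
    AlgSp.IsAlgSpace Z₁ → ∀ (a : X₁ ⟶ Y₁) (b : Y₁ ⟶ Z₁), AlgSp.LocP @Flat a → AlgSp.LocP @Flat b →
    AlgSp.LocP @Flat (a ≫ b) :=
  fun _ _ _ h1 h2 h3 a b ha hb =>
    Groth.Agent.Lib.Helper3.locP_comp Groth.Agent.Lib.Helper3.isEtLocal_flat h1 h2 h3 a b ha hb

/-- Flatness (on chart squares) descends along flat surjective morphisms. -/
theorem locQ_flat_of_fpFst (h𝒳 : AlgSt.IsAlgStack Scheme.fppfPrecoverage 𝒳)
    (h𝒴 : AlgSt.IsAlgStack Scheme.fppfPrecoverage 𝒴)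
    (h𝒵 : AlgSt.IsAlgStack Scheme.fppfPrecoverage 𝒵)
    (f : 𝒳 ⥤ᵇ 𝒴) (z : 𝒵 ⥤ᵇ 𝒴)
    (hz₁ : AlgSt.LocQ (AlgSp.LocP @Flat) z) (hz₂ : AlgSt.IsSurjective z)
    (H : AlgSt.LocQ (AlgSp.LocP @Flat) (fpFst z f)) : AlgSt.LocQ (AlgSp.LocP @Flat) f := by
  have hPfl : AlgSp.IsSmoothLocalST (AlgSp.LocP (S := S) @Flat) :=
    Groth.Agent.Lib.Helper27.SmLocP.isSmoothLocalST_locP_flat
  have hfp : AlgSt.IsAlgStack Scheme.fppfPrecoverage (fp z f) :=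
    Groth.Agent.Lib.Helper27.AlgStackFp.isAlgStack_fp z f h𝒴.isStack h𝒴.diag h𝒵 h𝒳
  obtain ⟨U₀, x₀, hx₀₁, hx₀₂⟩ := h𝒳.atlas
  have h1 : AlgSt.LocQ (AlgSp.LocP @Flat) (fpSnd z f) :=
    locQ_fpSnd _ hPfl flat_baseChange h𝒵.isStack.1 h𝒴.isStack.1 z f x₀ hx₀₁ hx₀₂ hz₁
  have h2 : AlgSt.IsSurjective (fpSnd z f) :=
    isSurjective_fpSnd h𝒵.isStack.1 h𝒴.isStack.1 h𝒳.isStack.1 z f hz₂
  have h3 : AlgSt.LocQ (AlgSp.LocP @Flat) (fpFst z f ⊚ z) :=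
    locQ_comp _ hPfl flat_comp _ _ H hz₁
  have h4 : AlgSt.LocQ (AlgSp.LocP @Flat) (fpSnd z f ⊚ f) := locQ_of_iso _ (fpIso z f) h3
  exact locQ_flat_of_comp hfp h𝒳 h𝒴 (fpSnd z f) f h1 h2 h4

end Groth.Agent.Lib.Helper27.LocQFlatCancel
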