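import Groth.Agent.Lib.Helper27.LocQSpace

/-!
# Charts over a chart of the target (helper27)
-/

set_option autoImplicit false
set_option backward.isDefEq.respectTransparency false
set_option backward.isDefEq.respectTransparency.types false

universe v₄ u₄ v₃ u₃ v₂ u₂ u

open CategoryTheory CategoryTheory.Limits AlgebraicGeometry Opposite FibCat
  Groth.Agent.Lib.Helper27.FpKit Groth.Agent.Lib.Helper27.PshKit Groth.Agent.Lib.Helper27.PshFp
  Groth.Agent.Lib.Helper27.PshRep Groth.Agent.Lib.Helper27.RepWithComp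
  Groth.Agent.Lib.Helper27.Descent Groth.Agent.Lib.Helper27.LocQChart
  Groth.Agent.Lib.Helper27.LocQSpace

namespace Groth.Agent.Lib.Helper27.LocQOver

variable {S : Scheme.{u}}

open Stk

section Transport

variable {𝒜 : BasedCategory.{v₂, u₂} (Over S)} {ℬ : BasedCategory.{v₃, u₃} (Over S)}
  {𝒞 : BasedCategory.{v₄, u₄} (Over S)}

theorem repByAlgSpWith_of_iso (R : MorphismProperty (AlgSp.Sp S)) {k k' : 𝒜 ⥤ᵇ ℬ} (e : k ≅ k')
    (h : AlgSt.RepByAlgSpWith R k) : AlgSt.RepByAlgSpWith R k' :=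
  Groth.Agent.Lib.Helper27.RepWithGeneral.repByAlgSpWith_of_equiv R k k' (BasedFunctor.id _)
    (BasedFunctor.id _) (isEquivOver_id _) (isEquivOver_id _) e.symm h

theorem repByAlgSpWith_equiv_comp (R : MorphismProperty (AlgSp.Sp S)) (E : 𝒜 ⥤ᵇ ℬ)
    (hE : IsEquivOver E) (k : ℬ ⥤ᵇ 𝒞) (h : AlgSt.RepByAlgSpWith R k) :
    AlgSt.RepByAlgSpWith R (BasedFunctor.comp E k) :=
  Groth.Agent.Lib.Helper27.RepWithGeneral.repByAlgSpWith_of_equiv R k _ E (BasedFunctor.id _) hE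
    (isEquivOver_id _) (Iso.refl _) h

theorem repByAlgSpWith_comp_equiv (R : MorphismProperty (AlgSp.Sp S)) (k : 𝒜 ⥤ᵇ ℬ) (E : ℬ ⥤ᵇ 𝒞)
    (hE : IsEquivOver E) (h : AlgSt.RepByAlgSpWith R k) :
    AlgSt.RepByAlgSpWith R (BasedFunctor.comp k E) :=
  Groth.Agent.Lib.Helper27.RepWithGeneral.repByAlgSpWith_of_equiv' R (BasedFunctor.comp k E) k
    (BasedFunctor.id _) E (isEquivOver_id _) hE (Iso.refl _) h

end Transport

section Atlas

/-- A scheme atlas of a category equivalent to an algebraic space. -/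
theorem exists_atlas_of_equiv {𝒲 : AlgSt.Cat S} (C : AlgSp.Space S) (eC : AlgSt.ofSp C.obj ⥤ᵇ 𝒲)
    (heC : IsEquivOver eC) :
    ∃ (U : Over S) (c : overCat U ⥤ᵇ 𝒲), AlgSt.RepByAlgSpWith (AlgSp.LocP @Smooth) c ∧
      AlgSt.RepByAlgSpWith AlgSp.IsSurjectiveMor c := by
  obtain ⟨U, q, hqe, hqs⟩ := C.property.atlas
  have hA : ∀ (R : MorphismProperty (AlgSp.Sp S)), AlgSt.RepByAlgSpWith R (AlgSt.ofSpMap q) →
      AlgSt.RepByAlgSpWith R (BasedFunctor.comp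
        (BasedFunctor.comp (AlgSt.ofOverCat U) (AlgSt.ofSpMap q)) eC) :=
    fun R hR => repByAlgSpWith_comp_equiv R _ eC heC
      (repByAlgSpWith_equiv_comp R (AlgSt.ofOverCat U) (isEquivOver_ofOverCat U) _ hR)
  exact ⟨U, BasedFunctor.comp (BasedFunctor.comp (AlgSt.ofOverCat U) (AlgSt.ofSpMap q)) eC,
    hA _ (repByAlgSpWith_ofSpMap_of_repWith @Etale _ smooth_of_etale
      (AlgSp.IsAlgSpace.yon_obj U) C.property q hqe),
    hA _ (repByAlgSpWith_ofSpMap_of_repWith @Surjective _ surj_of_surj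
      (AlgSp.IsAlgSpace.yon_obj U) C.property q hqs)⟩

end Atlas

section Over

variable {𝒳 𝒴 : AlgSt.Cat S}

/-- A smooth surjective chart of the source over a smooth surjective chart of the target. -/
theorem exists_chart_over (h𝒳 : FibCat.IsFibGrpd 𝒳.p) (h𝒴 : FibCat.IsFibGrpd 𝒴.p) (f : 𝒳 ⥤ᵇ 𝒴)
    {U₀ V : Over S} (x₀ : overCat U₀ ⥤ᵇ 𝒳)
    (hx₀₁ : AlgSt.RepByAlgSpWith (AlgSp.LocP @Smooth) x₀)
    (hx₀₂ : AlgSt.RepByAlgSpWith AlgSp.IsSurjectiveMor x₀) (y : overCat V ⥤ᵇ 𝒴)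
    (hy₁ : AlgSt.RepByAlgSpWith (AlgSp.LocP @Smooth) y)
    (hy₂ : AlgSt.RepByAlgSpWith AlgSp.IsSurjectiveMor y) :
    ∃ (U : Over S) (c : overCat U ⥤ᵇ fp (BasedFunctor.comp x₀ f) y),
      AlgSt.RepByAlgSpWith (AlgSp.LocP @Smooth) c ∧ AlgSt.RepByAlgSpWith AlgSp.IsSurjectiveMor c ∧
      AlgSt.RepByAlgSpWith (AlgSp.LocP @Smooth)
        (BasedFunctor.comp (BasedFunctor.comp c (fpFst (BasedFunctor.comp x₀ f) y)) x₀) ∧
      AlgSt.RepByAlgSpWith AlgSp.IsSurjectiveMor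
        (BasedFunctor.comp (BasedFunctor.comp c (fpFst (BasedFunctor.comp x₀ f) y)) x₀) := by
  obtain ⟨C, eC, heC, -⟩ := hy₁ U₀ (BasedFunctor.comp x₀ f)
  obtain ⟨U, c, hc₁, hc₂⟩ := exists_atlas_of_equiv C eC heC
  have hfU : FibCat.IsFibGrpd (overCat U).p := Groth.Agent.Lib.Helper27.ReprAux.isFibGrpd_overCat U
  have hfU₀ : FibCat.IsFibGrpd (overCat U₀).p :=
    Groth.Agent.Lib.Helper27.ReprAux.isFibGrpd_overCat U₀
  have hfV : FibCat.IsFibGrpd (overCat V).p := Groth.Agent.Lib.Helper27.ReprAux.isFibGrpd_overCat V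
  have hfp : FibCat.IsFibGrpd (fp (BasedFunctor.comp x₀ f) y).p :=
    Groth.Agent.Lib.Helper27.FpFib.isFibGrpd_fp _ _ hfU₀ hfV h𝒴
  refine ⟨U, c, hc₁, hc₂, ?_, ?_⟩
  · exact comp_gen _ (compHyp_locP Groth.Agent.Lib.Helper3.isEtLocal_smooth) hfU hfU₀ _ x₀
      (comp_gen _ (compHyp_locP Groth.Agent.Lib.Helper3.isEtLocal_smooth) hfU hfp c _ hc₁
        (Groth.Agent.Lib.Helper27.RepWithGeneral.repByAlgSpWith_fpFst _ y _ hy₁)) hx₀₁
  · exact comp_gen _ Groth.Agent.Lib.Helper27.DiagLft.compHyp_isSurjectiveMor hfU hfU₀ _ x₀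
      (comp_gen _ Groth.Agent.Lib.Helper27.DiagLft.compHyp_isSurjectiveMor hfU hfp c _ hc₂
        (Groth.Agent.Lib.Helper27.RepWithGeneral.repByAlgSpWith_fpFst _ y _ hy₂)) hx₀₂

/-- The 2-cell of the chart over a chart. -/
def chartIso (f : 𝒳 ⥤ᵇ 𝒴) {U₀ V U : Over S} (x₀ : overCat U₀ ⥤ᵇ 𝒳) (y : overCat V ⥤ᵇ 𝒴)
    (c : overCat U ⥤ᵇ fp (BasedFunctor.comp x₀ f) y) :
    BasedFunctor.comp
      (BasedFunctor.comp (BasedFunctor.comp c (fpFst (BasedFunctor.comp x₀ f) y)) x₀) f ≅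
    BasedFunctor.comp
      (AlgSt.overMap (homOf (BasedFunctor.comp c (fpSnd (BasedFunctor.comp x₀ f) y)))) y :=
  (whiskerLeftIso c (fpIso (BasedFunctor.comp x₀ f) y)) ≪≫
    (whiskerRightIso (isoOverMap (BasedFunctor.comp c (fpSnd (BasedFunctor.comp x₀ f) y))) y)

end Over

end Groth.Agent.Lib.Helper27.LocQOver
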