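import Groth.Agent.Lib.Helper27.LocQChart
import Groth.Agent.Lib.Helper27.DiagPres
import Groth.Agent.Lib.Helper27.DiagLft
import Groth.Agent.Lib.Helper27.PshRepSp
import Groth.Agent.Lib.Helper3.AlgSpSmLocal2
import Groth.Prelude.Def_AlgSpCov

/-!
# Space charts and scheme charts for `AlgSt.LocQ` (helper27)
-/

set_option autoImplicit false
set_option backward.isDefEq.respectTransparency false
set_option backward.isDefEq.respectTransparency.types false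

universe v₄ u₄ v₃ u₃ v₂ u₂ u

open CategoryTheory CategoryTheory.Limits AlgebraicGeometry Opposite FibCat
  Groth.Agent.Lib.Helper27.FpKit Groth.Agent.Lib.Helper27.PshKit Groth.Agent.Lib.Helper27.PshFp
  Groth.Agent.Lib.Helper27.PshRep Groth.Agent.Lib.Helper27.RepWithComp
  Groth.Agent.Lib.Helper27.Descent Groth.Agent.Lib.Helper27.LocQChart

namespace Groth.Agent.Lib.Helper27.LocQSpace

variable {S : Scheme.{u}}

open Stk

section OfSpMap

/-- A map of algebraic spaces all of whose base changes to schemes have `Q` gives a functor which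
is representable by algebraic spaces with `Q`. -/
theorem repByAlgSpWith_ofSpMap_of_forall (Q : MorphismProperty (AlgSp.Sp S)) {X Y : AlgSp.Sp S}
    (hX : AlgSp.IsAlgSpace X) (hY : AlgSp.IsAlgSpace Y) (g : X ⟶ Y)
    (H : ∀ (V : Over S) (b : (AlgSp.yon S).obj V ⟶ Y) (W : AlgSp.Sp S) (fst : W ⟶ X)
      (snd : W ⟶ (AlgSp.yon S).obj V), IsPullback fst snd g b → AlgSp.IsAlgSpace W → Q snd) :
    AlgSt.RepByAlgSpWith Q (AlgSt.ofSpMap g) := by
  apply repByAlgSpWith_of_repBySpWith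
  intro U ξ F' fst snd sq
  obtain ⟨hsh, halg⟩ := Groth.Agent.Lib.Helper27.PshRepSp.repBySp_of_spaces
    (F := ⟨X, hX⟩) (G := ⟨Y, hY⟩) g ξ fst snd sq
  refine ⟨hsh, halg, ?_⟩
  refine H U (ObjectProperty.homMk ξ) ⟨F', hsh⟩ (ObjectProperty.homMk fst)
    (ObjectProperty.homMk snd) ?_ halg
  apply IsPullback.of_map_of_faithful (sheafToPresheaf (AlgSp.J S) (Type (u + 1)))
  exact sq

/-- A representable map with a property of morphisms of schemes. -/
theorem repByAlgSpWith_ofSpMap_of_repWith (Qs : MorphismProperty Scheme.{u})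
    [Qs.IsStableUnderBaseChange] (Q : MorphismProperty (AlgSp.Sp S))
    (hQ : ∀ ⦃X Y : AlgSp.Sp S⦄ (f : X ⟶ Y), AlgSp.RepWith Qs f → Q f) {X Y : AlgSp.Sp S}
    (hX : AlgSp.IsAlgSpace X) (hY : AlgSp.IsAlgSpace Y) (g : X ⟶ Y) (hg : AlgSp.RepWith Qs g) :
    AlgSt.RepByAlgSpWith Q (AlgSt.ofSpMap g) :=
  repByAlgSpWith_ofSpMap_of_forall Q hX hY g
    (fun _ _ _ _ snd sq _ => hQ snd (MorphismProperty.of_isPullback sq hg))

theorem smooth_of_etale ⦃X Y : AlgSp.Sp S⦄ (f : X ⟶ Y) (hf : AlgSp.RepWith @Etale f) :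
    AlgSp.LocP @Smooth f :=
  Groth.Agent.Lib.Helper3.locP_mono
    (fun _ _ k hk => by have : Etale k := hk; exact inferInstanceAs (Smooth k))
    (Groth.Agent.Lib.Helper3.locP_of_repWith Groth.Agent.Lib.Helper3.isEtLocal_etale f hf)

theorem surj_of_surj ⦃X Y : AlgSp.Sp S⦄ (f : X ⟶ Y) (hf : AlgSp.RepWith @Surjective f) :
    AlgSp.IsSurjectiveMor f :=
  Groth.Agent.Lib.Helper3.isSurjectiveMor_of_repWith hf

/-- The space-level property of a map from the functor-level one. -/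
theorem prop_of_repByAlgSpWith (Q : MorphismProperty (AlgSp.Sp S)) (H : CompHyp Q)
    {X Y : AlgSp.Sp S} (hX : AlgSp.IsAlgSpace X) (hY : AlgSp.IsAlgSpace Y) (g : X ⟶ Y)
    (h : AlgSt.RepByAlgSpWith Q (AlgSt.ofSpMap g)) : Q g :=
  H.loc g hX hY (fun V a =>
    Groth.Agent.Lib.Helper27.DiagPres.prop_snd_of_repByAlgSpWith Q H.iso hX hY g h V a _ _ _
      (IsPullback.of_hasPullback g a))

end OfSpMap

section Charts

variable {𝒳 𝒴 : AlgSt.Cat S} (f : 𝒳 ⥤ᵇ 𝒴)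

/-- A chart square from algebraic spaces gives a chart square from schemes. -/
theorem locQ_of_space_charts (P : MorphismProperty (AlgSp.Sp S)) (hP' : AlgSp.IsSmoothLocalST P)
    (U V : AlgSp.Space S) (x : AlgSt.ofSp U.obj ⥤ᵇ 𝒳) (y : AlgSt.ofSp V.obj ⥤ᵇ 𝒴) (h : U ⟶ V)
    (α : BasedFunctor.comp x f ≅ BasedFunctor.comp (AlgSt.ofSpMap h.hom) y)
    (hx₁ : AlgSt.RepByAlgSpWith (AlgSp.LocP @Smooth) x)
    (hx₂ : AlgSt.RepByAlgSpWith AlgSp.IsSurjectiveMor x)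
    (hy₁ : AlgSt.RepByAlgSpWith (AlgSp.LocP @Smooth) y) (hP : P h.hom) : AlgSt.LocQ P f := by
  obtain ⟨V', p, hpe, hps⟩ := V.property.atlas
  have sq : IsPullback (pullback.fst h.hom p) (pullback.snd h.hom p) h.hom p :=
    IsPullback.of_hasPullback _ _
  have hW : AlgSp.IsAlgSpace (pullback h.hom p) :=
    Groth.Agent.S9874.result S V.obj V.property.diag U
      ⟨(AlgSp.yon S).obj V', AlgSp.IsAlgSpace.yon_obj V'⟩ h.hom p _ _ _ sq
  obtain ⟨U', q, hqe, hqs⟩ := hW.atlas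
  obtain ⟨h', hh'⟩ := (AlgSp.yon S).map_surjective (q ≫ pullback.snd h.hom p)
  obtain ⟨x₀, hx₀⟩ : ∃ x₀ : (AlgSp.yon S).obj U' ⟶ U.obj, x₀ = q ≫ pullback.fst h.hom p :=
    ⟨_, rfl⟩
  have hx₀e : AlgSp.RepWith @Etale x₀ := by
    rw [hx₀]
    exact (AlgSp.RepWith (S := S) @Etale).comp_mem _ _ hqe
      (MorphismProperty.of_isPullback sq.flip hpe)
  have hx₀s : AlgSp.RepWith @Surjective x₀ := by
    rw [hx₀]
    exact (AlgSp.RepWith (S := S) @Surjective).comp_mem _ _ hqs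
      (MorphismProperty.of_isPullback sq.flip hps)
  have e : x₀ ≫ h.hom = (AlgSp.yon S).map h' ≫ p := by
    rw [hx₀, hh', Category.assoc, Category.assoc, sq.w]
  have hPh' : P ((AlgSp.yon S).map h') := by
    rw [hh']
    exact hP'.precomp (AlgSp.IsAlgSpace.yon_obj U') hW (AlgSp.IsAlgSpace.yon_obj V') q _
      (smooth_of_etale q hqe)
      (hP'.baseChange U.property V.property hW (AlgSp.IsAlgSpace.yon_obj V') h.hom p _ _ sq
        (smooth_of_etale p hpe) hP)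
  have hA : ∀ (R : MorphismProperty (AlgSp.Sp S)) {T : Over S} {Z : AlgSp.Sp S}
      (k : (AlgSp.yon S).obj T ⟶ Z), AlgSt.RepByAlgSpWith R (AlgSt.ofSpMap k) →
      AlgSt.RepByAlgSpWith R (BasedFunctor.comp (AlgSt.ofOverCat T) (AlgSt.ofSpMap k)) :=
    fun R T Z k hR =>
      Groth.Agent.Lib.Helper27.RepWithGeneral.repByAlgSpWith_of_equiv R (AlgSt.ofSpMap k) _
        (AlgSt.ofOverCat T) (BasedFunctor.id _) (isEquivOver_ofOverCat T) (isEquivOver_id _)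
        (Iso.refl _) hR
  have hfU' : FibCat.IsFibGrpd (overCat U').p :=
    Groth.Agent.Lib.Helper27.ReprAux.isFibGrpd_overCat U'
  have hfV' : FibCat.IsFibGrpd (overCat V').p :=
    Groth.Agent.Lib.Helper27.ReprAux.isFibGrpd_overCat V'
  have hfU : FibCat.IsFibGrpd (AlgSt.ofSp U.obj).p := Stk.isFibGrpd_ofPsh (P := U.obj.obj)
  have hfV : FibCat.IsFibGrpd (AlgSt.ofSp V.obj).p := Stk.isFibGrpd_ofPsh (P := V.obj.obj)
  have hx'₁ : AlgSt.RepByAlgSpWith (AlgSp.LocP @Smooth)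
      (BasedFunctor.comp (BasedFunctor.comp (AlgSt.ofOverCat U') (AlgSt.ofSpMap x₀)) x) :=
    comp_gen _ (compHyp_locP Groth.Agent.Lib.Helper3.isEtLocal_smooth) hfU' hfU _ x
      (hA _ x₀ (repByAlgSpWith_ofSpMap_of_repWith @Etale _ smooth_of_etale
        (AlgSp.IsAlgSpace.yon_obj U') U.property x₀ hx₀e)) hx₁
  have hx'₂ : AlgSt.RepByAlgSpWith AlgSp.IsSurjectiveMor
      (BasedFunctor.comp (BasedFunctor.comp (AlgSt.ofOverCat U') (AlgSt.ofSpMap x₀)) x) :=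
    comp_gen _ Groth.Agent.Lib.Helper27.DiagLft.compHyp_isSurjectiveMor hfU' hfU _ x
      (hA _ x₀ (repByAlgSpWith_ofSpMap_of_repWith @Surjective _ surj_of_surj
        (AlgSp.IsAlgSpace.yon_obj U') U.property x₀ hx₀s)) hx₂
  have hy'₁ : AlgSt.RepByAlgSpWith (AlgSp.LocP @Smooth)
      (BasedFunctor.comp (BasedFunctor.comp (AlgSt.ofOverCat V') (AlgSt.ofSpMap p)) y) :=
    comp_gen _ (compHyp_locP Groth.Agent.Lib.Helper3.isEtLocal_smooth) hfV' hfV _ y
      (hA _ p (repByAlgSpWith_ofSpMap_of_repWith @Etale _ smooth_of_etale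
        (AlgSp.IsAlgSpace.yon_obj V') V.property p hpe)) hy₁
  have hβ : BasedFunctor.comp (BasedFunctor.comp (AlgSt.ofOverCat U') (AlgSt.ofSpMap x₀))
      (AlgSt.ofSpMap h.hom) =
      BasedFunctor.comp (AlgSt.overMap h')
        (BasedFunctor.comp (AlgSt.ofOverCat V') (AlgSt.ofSpMap p)) := by
    have h1 : BasedFunctor.comp (BasedFunctor.comp (AlgSt.ofOverCat U') (AlgSt.ofSpMap x₀))
        (AlgSt.ofSpMap h.hom) =
        BasedFunctor.comp (AlgSt.ofOverCat U') (AlgSt.ofSpMap (x₀ ≫ h.hom)) := rfl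
    have h2 : BasedFunctor.comp (AlgSt.overMap h')
        (BasedFunctor.comp (AlgSt.ofOverCat V') (AlgSt.ofSpMap p)) =
        BasedFunctor.comp (AlgSt.ofOverCat U') (AlgSt.ofSpMap ((AlgSp.yon S).map h' ≫ p)) := rfl
    rw [h1, h2, e]
  refine ⟨U', V',
    BasedFunctor.comp (BasedFunctor.comp (AlgSt.ofOverCat U') (AlgSt.ofSpMap x₀)) x,
    BasedFunctor.comp (BasedFunctor.comp (AlgSt.ofOverCat V') (AlgSt.ofSpMap p)) y, h', ?_,
    hx'₁, hx'₂, hy'₁, hPh'⟩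
  exact (whiskerLeftIso (BasedFunctor.comp (AlgSt.ofOverCat U') (AlgSt.ofSpMap x₀)) α) ≪≫
    (whiskerRightIso (eqToIso hβ) y)

/-- A chart square from schemes is a chart square from algebraic spaces. -/
theorem space_charts_of_locQ (P : MorphismProperty (AlgSp.Sp S)) (hf : AlgSt.LocQ P f) :
    ∃ (U V : AlgSp.Space S) (x : AlgSt.ofSp U.obj ⥤ᵇ 𝒳) (y : AlgSt.ofSp V.obj ⥤ᵇ 𝒴) (h : U ⟶ V)
      (_ : BasedFunctor.comp x f ≅ BasedFunctor.comp (AlgSt.ofSpMap h.hom) y),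
      AlgSt.RepByAlgSpWith (AlgSp.LocP @Smooth) x ∧ AlgSt.RepByAlgSpWith AlgSp.IsSurjectiveMor x ∧
      AlgSt.RepByAlgSpWith (AlgSp.LocP @Smooth) y ∧ P h.hom := by
  obtain ⟨U, V, x, y, h, α, hx₁, hx₂, hy₁, hP⟩ := hf
  have hA : ∀ (R : MorphismProperty (AlgSp.Sp S)) {T : Over S} {𝒵 : AlgSt.Cat S}
      (k : overCat T ⥤ᵇ 𝒵), AlgSt.RepByAlgSpWith R k →
      AlgSt.RepByAlgSpWith R (BasedFunctor.comp (AlgSt.toOverCat T) k) :=
    fun R T 𝒵 k hR =>
      Groth.Agent.Lib.Helper27.RepWithGeneral.repByAlgSpWith_of_equiv R k _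
        (AlgSt.toOverCat T) (BasedFunctor.id _) (isEquivOver_toOverCat T) (isEquivOver_id _)
        (Iso.refl _) hR
  refine ⟨⟨(AlgSp.yon S).obj U, AlgSp.IsAlgSpace.yon_obj U⟩,
    ⟨(AlgSp.yon S).obj V, AlgSp.IsAlgSpace.yon_obj V⟩,
    BasedFunctor.comp (AlgSt.toOverCat U) x, BasedFunctor.comp (AlgSt.toOverCat V) y,
    ObjectProperty.homMk ((AlgSp.yon S).map h), ?_, hA _ x hx₁, hA _ x hx₂, hA _ y hy₁, hP⟩
  have hβ : BasedFunctor.comp (AlgSt.toOverCat U) (AlgSt.overMap h) =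
      BasedFunctor.comp (AlgSt.ofSpMap ((AlgSp.yon S).map h)) (AlgSt.toOverCat V) := rfl
  exact (whiskerLeftIso (AlgSt.toOverCat U) α) ≪≫ (whiskerRightIso (eqToIso hβ) y)

end Charts

end Groth.Agent.Lib.Helper27.LocQSpace
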