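import Groth.Agent.Lib.Helper27.DescentFam

/-!
# Base change and descent of presentations along one morphism, for a general covering notion
(helper27)
-/

set_option autoImplicit false
set_option backward.isDefEq.respectTransparency false
set_option backward.isDefEq.respectTransparency.types false

universe u

open CategoryTheory CategoryTheory.Limits AlgebraicGeometry Opposite FibCat
  Groth.Agent.Lib.Helper27.FpKit Groth.Agent.Lib.Helper27.PshKit Groth.Agent.Lib.Helper27.PshFp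
  Groth.Agent.Lib.Helper27.PshRep Groth.Agent.Lib.Helper27.RepWithComp
  Groth.Agent.Lib.Helper27.BaseChangePres Groth.Agent.Lib.Helper27.Descent

namespace Groth.Agent.Lib.Helper27.LqfFib

variable {S : Scheme.{u}}

open Stk

variable {𝒳 𝒴 : AlgSt.Cat S}

local infixr:80 " ⊚ " => BasedFunctor.comp

/-- The base change of a presentation along a map of sheaves has the property of any presentation
of the base-changed functor. -/
theorem bc_sp (P : MorphismProperty (AlgSp.Sp S))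
    (hiso : ∀ ⦃X X' Y : AlgSp.Sp S⦄ (i : X' ⟶ X) [IsIso i] (f : X ⟶ Y), AlgSp.IsAlgSpace X →
      AlgSp.IsAlgSpace X' → AlgSp.IsAlgSpace Y → P f → P (i ≫ f))
    (f : 𝒳 ⥤ᵇ 𝒴) {X' Y' G X'' : AlgSp.Sp S}
    (hX' : AlgSp.IsAlgSpace X') (hY' : AlgSp.IsAlgSpace Y') (hG : AlgSp.IsAlgSpace G)
    (hX'' : AlgSp.IsAlgSpace X'') (y' : AlgSt.ofSp Y' ⥤ᵇ 𝒴) (e : AlgSt.ofSp X' ⥤ᵇ fp y' f)
    (he : IsEquivOver e) (c : G ⟶ Y')
    (e'' : AlgSt.ofSp X'' ⥤ᵇ fp (AlgSt.ofSpMap c ⊚ y') f)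
    (he'' : IsEquivOver e'')
    (hP'' : P (ObjectProperty.homMk (pshMapOf (e'' ⊚ fpFst (AlgSt.ofSpMap c ⊚ y') f)) :
      X'' ⟶ G)) :
    P (pullback.snd (ObjectProperty.homMk (pshMapOf (e ⊚ fpFst y' f)) : X' ⟶ Y') c) := by
  obtain ⟨π, hπ⟩ : ∃ π : X' ⟶ Y',
    π = ObjectProperty.homMk (pshMapOf (e ⊚ fpFst y' f)) := ⟨_, rfl⟩
  rw [← hπ]
  have sqS : IsPullback (pullback.fst π c) (pullback.snd π c) π c := IsPullback.of_hasPullback π c
  have hW : AlgSp.IsAlgSpace (pullback π c) :=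
    Groth.Agent.S9874.result S Y' hY'.diag ⟨X', hX'⟩ ⟨G, hG⟩ π c _ _ _ sqS
  have sqP : IsPullback (pullback.fst π c).hom (pullback.snd π c).hom
      (pshMapOf (e ⊚ fpFst y' f)) c.hom := by
    have := sqS.map (sheafToPresheaf (AlgSp.J S) (Type (u + 1)))
    rw [hπ] at this
    rw [hπ]
    exact this
  have h1 := indep_sp P hiso
    hW hX'' hG (Ξ f y' e c sqP) e'' (isEquivOver_Ξ f y' e he c sqP) he''
    (fpFst (AlgSt.ofSpMap c ⊚ y') f) hP''
  have h2 : (ObjectProperty.homMk (pshMapOf ((Ξ f y' e c sqP) ⊚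
      (fpFst (AlgSt.ofSpMap c ⊚ y') f))) : pullback π c ⟶ G) =
      pullback.snd π c := by
    apply ObjectProperty.hom_ext
    exact pshMapOf_Ξ_fst f y' e c sqP
  rw [h2] at h1
  exact h1

/-- The base change of a presentation along a morphism of schemes has the property of any
presentation of the base-changed functor. -/
theorem bc_over (P : MorphismProperty (AlgSp.Sp S))
    (hiso : ∀ ⦃X X' Y : AlgSp.Sp S⦄ (i : X' ⟶ X) [IsIso i] (f : X ⟶ Y), AlgSp.IsAlgSpace X →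
      AlgSp.IsAlgSpace X' → AlgSp.IsAlgSpace Y → P f → P (i ≫ f))
    (f : 𝒳 ⥤ᵇ 𝒴) {U V : Over S}
    (y : overCat U ⥤ᵇ 𝒴) (F : AlgSp.Space S) (e : AlgSt.ofSp F.obj ⥤ᵇ fp y f)
    (he : IsEquivOver e) (h : V ⟶ U)
    (X'' : AlgSp.Space S) (e'' : AlgSt.ofSp X''.obj ⥤ᵇ fp (AlgSt.overMap h ⊚ y) f)
    (he'' : IsEquivOver e'')
    (hP'' : P (AlgSt.spMapOfOver (e'' ⊚ fpFst (AlgSt.overMap h ⊚ y) f))) :
    P (pullback.snd (AlgSt.spMapOfOver (e ⊚ fpFst y f)) ((AlgSp.yon S).map h)) := by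
  have heq : AlgSt.toOverCat V ⊚ (AlgSt.overMap h ⊚ y) =
      AlgSt.ofSpMap ((AlgSp.yon S).map h) ⊚ (AlgSt.toOverCat U ⊚ y) := rfl
  have h3' : (ObjectProperty.homMk (pshMapOf ((e'' ⊚ toSp f (AlgSt.overMap h ⊚ y)) ⊚
      (fpFst (AlgSt.toOverCat V ⊚ (AlgSt.overMap h ⊚ y)) f))) :
        X''.obj ⟶ (AlgSp.yon S).obj V) =
      AlgSt.spMapOfOver (e'' ⊚ fpFst (AlgSt.overMap h ⊚ y) f) := by
    apply ObjectProperty.hom_ext
    exact pshMapOf_toSp f (AlgSt.overMap h ⊚ y) e''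
  have h := bc_sp P hiso f F.property (AlgSp.IsAlgSpace.yon_obj U)
    (AlgSp.IsAlgSpace.yon_obj V) X''.property
    (AlgSt.toOverCat U ⊚ y) (e ⊚ toSp f y)
    (isEquivOver_comp _ _ he (isEquivOver_toSp f y)) ((AlgSp.yon S).map h)
    (e'' ⊚ toSp f (AlgSt.overMap h ⊚ y))
    (isEquivOver_comp _ _ he'' (isEquivOver_toSp f (AlgSt.overMap h ⊚ y))) (by
      rw [← h3'] at hP''
      exact hP'')
  have h3 : (ObjectProperty.homMk (pshMapOf ((e ⊚ toSp f y) ⊚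
      (fpFst (AlgSt.toOverCat U ⊚ y) f))) : F.obj ⟶ (AlgSp.yon S).obj U) =
      AlgSt.spMapOfOver (e ⊚ fpFst y f) := by
    apply ObjectProperty.hom_ext
    exact pshMapOf_toSp f y e
  rw [h3] at h
  exact h

/-- Descent of the property of a presentation along a one-member covering of the test scheme by
a scheme, for a general covering notion. -/
theorem descent_over_tau (τ : AlgSp.CovNotion S) (P : MorphismProperty (AlgSp.Sp S))
    (hP : AlgSp.IsLocalOnBase τ P)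
    (hiso : ∀ ⦃X X' Y : AlgSp.Sp S⦄ (i : X' ⟶ X) [IsIso i] (f : X ⟶ Y), AlgSp.IsAlgSpace X →
      AlgSp.IsAlgSpace X' → AlgSp.IsAlgSpace Y → P f → P (i ≫ f))
    (f : 𝒳 ⥤ᵇ 𝒴) {U V : Over S}
    (y : overCat U ⥤ᵇ 𝒴) (F : AlgSp.Space S) (e : AlgSt.ofSp F.obj ⥤ᵇ fp y f)
    (he : IsEquivOver e) (h : V ⟶ U)
    (hc : τ (fun _ : PUnit.{u + 1} => (AlgSp.yon S).obj V) (fun _ => (AlgSp.yon S).map h))
    (X'' : AlgSp.Space S) (e'' : AlgSt.ofSp X''.obj ⥤ᵇ fp (AlgSt.overMap h ⊚ y) f)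
    (he'' : IsEquivOver e'')
    (hP'' : P (AlgSt.spMapOfOver (e'' ⊚ fpFst (AlgSt.overMap h ⊚ y) f))) :
    P (AlgSt.spMapOfOver (e ⊚ fpFst y f)) := by
  have h1 := bc_over P hiso f y F e he h X'' e'' he'' hP''
  obtain ⟨π, hπ⟩ : ∃ π : F.obj ⟶ (AlgSp.yon S).obj U,
    π = AlgSt.spMapOfOver (e ⊚ fpFst y f) := ⟨_, rfl⟩
  rw [← hπ] at h1 ⊢
  have sqS : IsPullback (pullback.fst π ((AlgSp.yon S).map h))
      (pullback.snd π ((AlgSp.yon S).map h)) π ((AlgSp.yon S).map h) :=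
    IsPullback.of_hasPullback _ _
  have hW : AlgSp.IsAlgSpace (pullback π ((AlgSp.yon S).map h)) :=
    Groth.Agent.S9874.result S _ (AlgSp.IsAlgSpace.yon_obj U).diag F
      ⟨(AlgSp.yon S).obj V, AlgSp.IsAlgSpace.yon_obj V⟩ π ((AlgSp.yon S).map h) _ _ _ sqS
  have key := hP (fun _ : PUnit.{u + 1} => (AlgSp.yon S).obj V)
    (fun _ => (AlgSp.yon S).map h) (AlgSp.IsAlgSpace.yon_obj U)
    (fun _ => AlgSp.IsAlgSpace.yon_obj V) hc π F.property
    (fun _ => pullback π ((AlgSp.yon S).map h)) (fun _ => pullback.snd π ((AlgSp.yon S).map h))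
    (fun _ => pullback.fst π ((AlgSp.yon S).map h))
    (fun _ => hW) (fun _ => sqS)
  exact key.2 (fun _ => h1)

end Groth.Agent.Lib.Helper27.LqfFib
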