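import Groth.Agent.Lib.Helper27.LqfFib1
import Groth.Agent.Lib.Helper3.AlgSpLocP5

/-!
# Fibre criterion for locally quasi-finite morphisms from an algebraic space to a scheme (helper27)
-/

set_option autoImplicit false
set_option backward.isDefEq.respectTransparency false
set_option backward.isDefEq.respectTransparency.types false

universe u

open CategoryTheory CategoryTheory.Limits AlgebraicGeometry Opposite

namespace Groth.Agent.Lib.Helper27.LqfFib

variable {S : Scheme.{u}}

/-- The residue field point of a scheme over `S`, as a morphism over `S`. -/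
noncomputable abbrev resPt (T : Over S) (x : ↥T.left) :
    Over.mk (T.left.fromSpecResidueField x ≫ T.hom) ⟶ T :=
  Over.homMk (T.left.fromSpecResidueField x) rfl

/-- A morphism from an algebraic space to a scheme which is locally of finite type and whose
fibres over residue field points are locally quasi-finite is locally quasi-finite. -/
theorem locP_lqf_of_fibres {F : AlgSp.Sp S} (hF : AlgSp.IsAlgSpace F) {T : Over S}
    (m : F ⟶ (AlgSp.yon S).obj T) (hlft : AlgSp.LocP @LocallyOfFiniteType m)
    (H : ∀ x : ↥T.left, AlgSp.LocP (@LocallyQuasiFinite ⊓ @LocallyOfFiniteType)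
      (pullback.snd m ((AlgSp.yon S).map (resPt T x)))) :
    AlgSp.LocP (@LocallyQuasiFinite ⊓ @LocallyOfFiniteType) m := by
  obtain ⟨U, a, hae, has⟩ := hF.atlas
  obtain ⟨g, hg⟩ := (AlgSp.yon S).map_surjective (a ≫ m)
  have hcomm : a ≫ m = (AlgSp.yon S).map g ≫ 𝟙 _ := by rw [hg, Category.comp_id]
  refine Groth.Agent.Lib.Helper3.locP_of_chart Groth.Agent.Lib.Helper3.isEtLocal_locallyQuasiFinite
    m a hae has (𝟙 _) (AlgSp.repWith_id _ T) g hcomm ⟨?_, ?_⟩
  · apply LocallyQuasiFinite.of_fiberToSpecResidueField
    intro x
    have hx := H x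
    let c := (AlgSp.yon S).map (resPt T x)
    have sqO := IsPullback.of_hasPullback g (resPt T x)
    have sqY : IsPullback ((AlgSp.yon S).map (pullback.fst g (resPt T x)))
        ((AlgSp.yon S).map (pullback.snd g (resPt T x))) ((AlgSp.yon S).map g) c :=
      sqO.map (AlgSp.yon S)
    have sqS : IsPullback (pullback.fst m c) (pullback.snd m c) m c :=
      IsPullback.of_hasPullback m c
    have hw : ((AlgSp.yon S).map (pullback.fst g (resPt T x)) ≫ a) ≫ m =
        (AlgSp.yon S).map (pullback.snd g (resPt T x)) ≫ c := by
      rw [Category.assoc, ← hg]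
      exact sqY.w
    let b : (AlgSp.yon S).obj (pullback g (resPt T x)) ⟶ pullback m c :=
      pullback.lift _ _ hw
    have hb1 : b ≫ pullback.fst m c = (AlgSp.yon S).map (pullback.fst g (resPt T x)) ≫ a :=
      pullback.lift_fst _ _ _
    have hb2 : b ≫ pullback.snd m c = (AlgSp.yon S).map (pullback.snd g (resPt T x)) :=
      pullback.lift_snd _ _ _
    have sqL : IsPullback b ((AlgSp.yon S).map (pullback.fst g (resPt T x)))
        (pullback.fst m c) a := by
      refine IsPullback.of_right ?_ hb1 sqS.flip
      rw [hb2, ← hg]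
      exact sqY.flip
    have hbe : AlgSp.RepWith @Etale b := MorphismProperty.of_isPullback sqL.flip hae
    have h1 := hx b (𝟙 _) (pullback.snd g (resPt T x)) hbe (AlgSp.repWith_id _ _)
      (by rw [hb2, Category.comp_id])
    have sq3 : IsPullback (pullback.fst g (resPt T x)).left (pullback.snd g (resPt T x)).left
        g.left (resPt T x).left := sqO.map (Over.forget S)
    have h2 : LocallyQuasiFinite (pullback.snd g (resPt T x)).left := h1.1
    have h3 : sq3.isoPullback.hom ≫ pullback.snd g.left (resPt T x).left =
        (pullback.snd g (resPt T x)).left := sq3.isoPullback_hom_snd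
    rw [← h3] at h2
    exact (MorphismProperty.cancel_left_of_respectsIso @LocallyQuasiFinite
      sq3.isoPullback.hom _).1 h2
  · exact hlft a (𝟙 _) g hae (AlgSp.repWith_id _ T) hcomm

end Groth.Agent.Lib.Helper27.LqfFib
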