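import Groth.Agent.Lib.Helper27.LqfFib2
import Mathlib.AlgebraicGeometry.Morphisms.Flat

/-!
# One-member fpqc coverings of affine schemes; morphisms of spectra of fields (helper27)
-/

set_option autoImplicit false
set_option backward.isDefEq.respectTransparency false
set_option backward.isDefEq.respectTransparency.types false

universe u

open CategoryTheory CategoryTheory.Limits AlgebraicGeometry Opposite

namespace Groth.Agent.Lib.Helper27.LqfFib

variable {S : Scheme.{u}}

theorem surjective_of_subsingleton {X Y : Scheme.{u}} (g : X ⟶ Y) [Subsingleton ↥Y]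
    [Nonempty ↥X] : Surjective g := by
  refine ⟨fun x => ?_⟩
  obtain ⟨y⟩ := ‹Nonempty ↥X›
  exact ⟨y, Subsingleton.elim _ _⟩

theorem lqf_of_isEmpty {X Y : Scheme.{u}} (g : X ⟶ Y) [IsEmpty X] :
    (@LocallyQuasiFinite ⊓ @LocallyOfFiniteType) g :=
  ⟨inferInstance, inferInstance⟩

/-- A flat surjective morphism of affine schemes is a one-member fpqc covering. -/
theorem isFpqcCover_single {U V : Over S} (h : V ⟶ U) (hU : IsAffine U.left)
    (hV : IsAffine V.left) (hfl : Flat h.left) (hs : Surjective h.left) :
    AlgSp.IsFpqcCover (fun _ : PUnit.{u + 1} => (AlgSp.yon S).obj V)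
      (fun _ => (AlgSp.yon S).map h) := by
  refine ⟨fun _ => ?_, fun Z hZ z => ?_⟩
  · exact Groth.Agent.Lib.Helper3.locP_of_repWith Groth.Agent.Lib.Helper3.isEtLocal_flat _
      ((AlgSp.repWith_yon_map_iff @Flat h).2 hfl)
  · obtain ⟨z₀, hz₀⟩ := (AlgSp.yon S).map_surjective z
    have sq := IsPullback.of_hasPullback z₀ h
    have sq3 : IsPullback (pullback.fst z₀ h).left (pullback.snd z₀ h).left z₀.left h.left :=
      sq.map (Over.forget S)
    refine ⟨1, fun _ => pullback z₀ h, fun _ => pullback.fst z₀ h, fun _ => ?_, fun _ => ?_,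
      fun p => ⟨0, ?_⟩, fun _ => ⟨PUnit.unit, (AlgSp.yon S).map (pullback.snd z₀ h), ?_⟩⟩
    · haveI := hU
      haveI := hV
      haveI := hZ
      exact IsAffine.of_isIso sq3.isoPullback.hom
    · exact MorphismProperty.of_isPullback (P := @Flat) sq3.flip hfl
    · have h1 : Surjective (pullback.fst z₀ h).left :=
        MorphismProperty.of_isPullback (P := @Surjective) sq3.flip hs
      exact h1.surj p
    · rw [← hz₀, ← Functor.map_comp, ← Functor.map_comp, sq.w]

end Groth.Agent.Lib.Helper27.LqfFib
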