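import Groth.Agent.Lib.Helper27.LqfFib3
import Groth.Agent.Lib.Helper27.IsomQc1
import Groth.Agent.Lib.Helper27.InertiaSep
import Groth.Agent.Lib.Helper27.DiagLft
import Groth.Agent.Lib.Helper27.LocQChart
import Groth.Agent.Lib.Helper27.RepCancel
import Groth.Agent.S10541

/-!
# Locally quasi-finite inertia implies quasi-DM (helper27)
-/

set_option autoImplicit false
set_option backward.isDefEq.respectTransparency false
set_option backward.isDefEq.respectTransparency.types false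

universe u

open CategoryTheory CategoryTheory.Limits AlgebraicGeometry Opposite FibCat
  Groth.Agent.Lib.Helper27.FpKit Groth.Agent.Lib.Helper27.RepWithComp
  Groth.Agent.Lib.Helper27.IsomQc Groth.Agent.Lib.Helper27.LocQChart
  Groth.Agent.Lib.Helper27.RepCancel

namespace Groth.Agent.Lib.Helper27.LqfFib

variable {S : Scheme.{u}} {𝒳 𝒴 : AlgSt.Cat S}

local infixr:80 " ⊚ " => BasedFunctor.comp

local notation "LQF" => AlgSp.LocP (@LocallyQuasiFinite ⊓ @LocallyOfFiniteType)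

theorem lqf_iso ⦃X X' Y : AlgSp.Sp S⦄ (i : X' ⟶ X) [IsIso i] (f : X ⟶ Y)
    (hX : AlgSp.IsAlgSpace X) (hX' : AlgSp.IsAlgSpace X') (hY : AlgSp.IsAlgSpace Y)
    (h : LQF f) : LQF (i ≫ f) :=
  (compHyp_locP Groth.Agent.Lib.Helper3.isEtLocal_locallyQuasiFinite).iso i f hX hX' hY h

section Field

variable (f : 𝒳 ⥤ᵇ 𝒴)
  (hI' : AlgSt.RepByAlgSpWith LQF (fpFst (diag f) (diag f)))

include hI'

/-- Over a one-point integral affine scheme, the base change of the diagonal is locally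
quasi-finite as soon as the inertia is. -/
theorem locP_lqf_field (TK : Over S) [Subsingleton ↥TK.left] [IsIntegral TK.left]
    [IsAffine TK.left] (yK : overCat TK ⥤ᵇ fp f f) (F' : AlgSp.Space S)
    (e' : AlgSt.ofSp F'.obj ⥤ᵇ fp yK (diag f)) (he' : IsEquivOver e') :
    LQF (AlgSt.spMapOfOver (e' ⊚ fpFst yK (diag f))) := by
  obtain ⟨U', a', hae', has'⟩ := F'.property.atlas
  obtain ⟨g', hg'⟩ := (AlgSp.yon S).map_surjective
    (a' ≫ AlgSt.spMapOfOver (e' ⊚ fpFst yK (diag f)))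
  have hcomm : a' ≫ AlgSt.spMapOfOver (e' ⊚ fpFst yK (diag f)) =
      (AlgSp.yon S).map g' ≫ 𝟙 _ := by rw [hg', Category.comp_id]
  by_cases hemp : IsEmpty ↥U'.left
  · exact Groth.Agent.Lib.Helper3.locP_of_chart
      Groth.Agent.Lib.Helper3.isEtLocal_locallyQuasiFinite _ a' hae' has' (𝟙 _)
      (AlgSp.repWith_id _ TK) g' hcomm (lqf_of_isEmpty g'.left)
  · rw [not_isEmpty_iff] at hemp
    obtain ⟨u⟩ := hemp
    let TL : Over S := Over.mk (U'.left.fromSpecResidueField u ≫ U'.hom)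
    let ℓ : TL ⟶ U' := resPt U' u
    let z : overCat TL ⥤ᵇ fp yK (diag f) :=
      AlgSt.ofOverCat TL ⊚ AlgSt.ofSpMap ((AlgSp.yon S).map ℓ ≫ a') ⊚ e'
    let s : overCat TL ⥤ᵇ overCat TK := z ⊚ fpFst yK (diag f)
    let ξ : overCat TL ⥤ᵇ 𝒳 := z ⊚ fpSnd yK (diag f)
    let κ : s ⊚ yK ≅ ξ ⊚ diag f := whiskerLeftIso z (fpIso yK (diag f))
    have h1 : ∃ (F'' : AlgSp.Space S) (e'' : AlgSt.ofSp F''.obj ⥤ᵇ fp (ξ ⊚ diag f) (diag f)),
        IsEquivOver e'' ∧ LQF (AlgSt.spMapOfOver (e'' ⊚ fpFst (ξ ⊚ diag f) (diag f))) :=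
      Groth.Agent.Lib.Helper27.RepWithKit.transport _
        (pasteL (diag f) (diag f) ξ) (isEquivOver_pasteL _ _ _)
        (fpFst ξ (fpFst (diag f) (diag f))) (fpFst (ξ ⊚ diag f) (diag f))
        (fun _ => ⟨Iso.refl _, Vert.id _⟩) (hI' TL ξ)
    have h2 : ∃ (F'' : AlgSp.Space S) (e'' : AlgSt.ofSp F''.obj ⥤ᵇ fp (s ⊚ yK) (diag f)),
        IsEquivOver e'' ∧ LQF (AlgSt.spMapOfOver (e'' ⊚ fpFst (s ⊚ yK) (diag f))) :=
      Groth.Agent.Lib.Helper27.RepWithKit.transport' _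
        (isoMapFst (diag f) (ξ ⊚ diag f) (s ⊚ yK) κ) (isEquivOver_isoMapFst _ _ _ _)
        (fpFst (s ⊚ yK) (diag f)) (fpFst (ξ ⊚ diag f) (diag f))
        (fun _ => ⟨Iso.refl _, Vert.id _⟩) h1
    let sO : TL ⟶ TK := homOf s
    let κ' : AlgSt.overMap sO ⊚ yK ≅ s ⊚ yK := whiskerRightIso (isoOverMap s).symm yK
    obtain ⟨F'', e'', he'', hP''⟩ :
        ∃ (F'' : AlgSp.Space S)
          (e'' : AlgSt.ofSp F''.obj ⥤ᵇ fp (AlgSt.overMap sO ⊚ yK) (diag f)),
        IsEquivOver e'' ∧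
          LQF (AlgSt.spMapOfOver (e'' ⊚ fpFst (AlgSt.overMap sO ⊚ yK) (diag f))) :=
      Groth.Agent.Lib.Helper27.RepWithKit.transport' _
        (isoMapFst (diag f) (s ⊚ yK) (AlgSt.overMap sO ⊚ yK) κ') (isEquivOver_isoMapFst _ _ _ _)
        (fpFst (AlgSt.overMap sO ⊚ yK) (diag f)) (fpFst (s ⊚ yK) (diag f))
        (fun _ => ⟨Iso.refl _, Vert.id _⟩) h2
    have hTLaff : IsAffine TL.left :=
      inferInstanceAs (IsAffine (Spec (U'.left.residueField u)))
    haveI : Nonempty ↥TL.left :=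
      inferInstanceAs (Nonempty ↥(Spec (U'.left.residueField u)))
    have hfl : Flat sO.left := inferInstance
    have hsurj : Surjective sO.left := surjective_of_subsingleton sO.left
    exact descent_over_tau AlgSp.IsFpqcCover _
      (Groth.Agent.S10541.result S).1
      lqf_iso (diag f) yK F' e' he' sO
      (isFpqcCover_single sO inferInstance hTLaff hfl hsurj) F'' e'' he'' hP''

end Field

theorem main (h𝒳 : AlgSt.IsAlgStack Scheme.fppfPrecoverage 𝒳)
    (h𝒴 : AlgSt.IsAlgStack Scheme.fppfPrecoverage 𝒴) (f : 𝒳 ⥤ᵇ 𝒴)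
    (hI : AlgSt.RepByAlgSpWith LQF (inertiaToBase f)) :
    AlgSt.RepByAlgSpWith LQF (diag f) := by
  have hI' : AlgSt.RepByAlgSpWith LQF (fpFst (diag f) (diag f)) :=
    Groth.Agent.Lib.Helper27.RepWithGeneral.repByAlgSpWith_of_equiv' _
      (fpFst (diag f) (diag f)) (inertiaToBase f)
      (Groth.Agent.Lib.Helper27.InertiaDiag.E f) (BasedFunctor.id 𝒳)
      (Groth.Agent.Lib.Helper27.InertiaDiag.isEquivOver_E f) (isEquivOver_id _)
      (Groth.Agent.Lib.Helper27.InertiaSep.toBaseIso f) hI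
  have hlft := Groth.Agent.Lib.Helper27.DiagLft.lft_diag_of_algStack h𝒳 h𝒴.isStack.1 h𝒴.diag f
  intro T y
  obtain ⟨F, e, he, hm⟩ := hlft T y
  refine ⟨F, e, he, ?_⟩
  apply locP_lqf_of_fibres F.property _ hm
  intro x
  obtain ⟨F', e', he', -⟩ := hlft _ (AlgSt.overMap (resPt T x) ⊚ y)
  refine bc_over _ lqf_iso (diag f) y F e he (resPt T x) F' e' he' ?_
  haveI : Subsingleton ↥(Over.mk (T.left.fromSpecResidueField x ≫ T.hom)).left :=
    inferInstanceAs (Subsingleton ↥(Spec (T.left.residueField x)))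
  haveI : IsIntegral (Over.mk (T.left.fromSpecResidueField x ≫ T.hom)).left :=
    inferInstanceAs (IsIntegral (Spec (T.left.residueField x)))
  haveI : IsAffine (Over.mk (T.left.fromSpecResidueField x ≫ T.hom)).left :=
    inferInstanceAs (IsAffine (Spec (T.left.residueField x)))
  exact locP_lqf_field f hI' _ _ F' e' he'

end Groth.Agent.Lib.Helper27.LqfFib
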