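import Mathlib.Algebra.Homology.Refinements
import Mathlib.Algebra.Category.ModuleCat.Abelian
import Mathlib.Algebra.Category.ModuleCat.EpiMono

/-!
# Elementwise criteria for mono/epi of homology maps of complexes of modules (helper27)
-/

set_option autoImplicit false

universe v u

namespace Groth.Agent.Lib.Helper27

open CategoryTheory

variable {R : Type u} [Ring R] {ι : Type*} {c : ComplexShape ι}
  {K L : HomologicalComplex (ModuleCat.{v} R) c} (φ : K ⟶ L)

lemma mono_homologyMap_iff_elem (i j k : ι) (hi : c.prev j = i) (hk : c.next j = k) :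
    Mono (HomologicalComplex.homologyMap φ j) ↔
      ∀ x : K.X j, (K.d j k).hom x = 0 → ∀ y : L.X i, (φ.f j).hom x = (L.d i j).hom y →
        ∃ z : K.X i, (K.d i j).hom z = x := by
  rw [HomologicalComplex.mono_homologyMap_iff_up_to_refinements φ i j k hi hk]
  constructor
  · intro H x hx y hxy
    let P : Submodule R (K.X j × L.X i) :=
      LinearMap.ker ((K.d j k).hom ∘ₗ LinearMap.fst R _ _) ⊓
        LinearMap.ker ((φ.f j).hom ∘ₗ LinearMap.fst R _ _ - (L.d i j).hom ∘ₗ LinearMap.snd R _ _)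
    have hP : ∀ p : P, (K.d j k).hom p.1.1 = 0 ∧ (φ.f j).hom p.1.1 = (L.d i j).hom p.1.2 := by
      rintro ⟨p, hp⟩
      obtain ⟨hp1, hp2⟩ := Submodule.mem_inf.mp hp
      simp only [LinearMap.mem_ker, LinearMap.comp_apply, LinearMap.fst_apply,
        LinearMap.sub_apply, LinearMap.snd_apply, sub_eq_zero] at hp1 hp2
      exact ⟨hp1, hp2⟩
    obtain ⟨A', π, hπ, x₁, hx₁⟩ := H (A := ModuleCat.of R P)
      (ModuleCat.ofHom (LinearMap.fst R _ _ ∘ₗ P.subtype))
      (by ext p; exact (hP p).1)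
      (ModuleCat.ofHom (LinearMap.snd R _ _ ∘ₗ P.subtype))
      (by ext p; exact (hP p).2)
    have hxy' : ((x, y) : K.X j × L.X i) ∈ P := by
      refine ⟨?_, ?_⟩
      · simpa using hx
      · simpa [sub_eq_zero] using hxy
    obtain ⟨a', ha'⟩ := (ModuleCat.epi_iff_surjective π).mp hπ ⟨(x, y), hxy'⟩
    refine ⟨x₁.hom a', ?_⟩
    have := congrArg (fun g => g.hom a') hx₁
    simp only [ModuleCat.hom_comp, LinearMap.comp_apply] at this
    rw [← this, ha']
    rfl
  · intro H A x₂ hx₂ y₁ hy₁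
    let P' : Submodule R (A × K.X i) :=
      LinearMap.ker (x₂.hom ∘ₗ LinearMap.fst R _ _ - (K.d i j).hom ∘ₗ LinearMap.snd R _ _)
    have hP' : ∀ p : P', x₂.hom p.1.1 = (K.d i j).hom p.1.2 := by
      rintro ⟨p, hp⟩
      simpa [P', sub_eq_zero] using hp
    refine ⟨ModuleCat.of R P', ModuleCat.ofHom (LinearMap.fst R _ _ ∘ₗ P'.subtype), ?_,
      ModuleCat.ofHom (LinearMap.snd R _ _ ∘ₗ P'.subtype), ?_⟩
    · rw [ModuleCat.epi_iff_surjective]
      intro a
      have h1 : (K.d j k).hom (x₂.hom a) = 0 := by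
        have := congrArg (fun g => g.hom a) hx₂
        simpa using this
      have h2 : (φ.f j).hom (x₂.hom a) = (L.d i j).hom (y₁.hom a) := by
        have := congrArg (fun g => g.hom a) hy₁
        simpa using this
      obtain ⟨z, hz⟩ := H (x₂.hom a) h1 (y₁.hom a) h2
      refine ⟨⟨(a, z), ?_⟩, rfl⟩
      simp [P', sub_eq_zero, hz]
    · ext p
      exact hP' p

lemma epi_homologyMap_iff_elem (i j k : ι) (hi : c.prev j = i) (hk : c.next j = k) :
    Epi (HomologicalComplex.homologyMap φ j) ↔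
      ∀ y : L.X j, (L.d j k).hom y = 0 →
        ∃ x : K.X j, (K.d j k).hom x = 0 ∧ ∃ z : L.X i, y = (φ.f j).hom x + (L.d i j).hom z := by
  rw [HomologicalComplex.epi_homologyMap_iff_up_to_refinements φ i j k hi hk]
  constructor
  · intro H y hy
    obtain ⟨A', π, hπ, x₂, hx₂, y₁, h⟩ := H (A := ModuleCat.of R (LinearMap.ker (L.d j k).hom))
      (ModuleCat.ofHom (LinearMap.ker (L.d j k).hom).subtype) (by ext p; exact p.2)
    obtain ⟨a', ha'⟩ := (ModuleCat.epi_iff_surjective π).mp hπ ⟨y, hy⟩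
    refine ⟨x₂.hom a', ?_, y₁.hom a', ?_⟩
    · have := congrArg (fun g => g.hom a') hx₂
      simpa using this
    · have := congrArg (fun g => g.hom a') h
      simp only [ModuleCat.hom_comp, LinearMap.comp_apply, ModuleCat.hom_add,
        LinearMap.add_apply] at this
      rw [← this, ha']
      rfl
  · intro H A y₂ hy₂
    let P' : Submodule R (A × K.X j × L.X i) :=
      LinearMap.ker ((K.d j k).hom ∘ₗ LinearMap.fst R _ _ ∘ₗ LinearMap.snd R _ _) ⊓
      LinearMap.ker (y₂.hom ∘ₗ LinearMap.fst R _ _ -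
        ((φ.f j).hom ∘ₗ LinearMap.fst R _ _ ∘ₗ LinearMap.snd R _ _ +
          (L.d i j).hom ∘ₗ LinearMap.snd R _ _ ∘ₗ LinearMap.snd R _ _))
    have hP' : ∀ p : P', (K.d j k).hom p.1.2.1 = 0 ∧
        y₂.hom p.1.1 = (φ.f j).hom p.1.2.1 + (L.d i j).hom p.1.2.2 := by
      rintro ⟨p, hp⟩
      obtain ⟨hp1, hp2⟩ := Submodule.mem_inf.mp hp
      simp only [LinearMap.mem_ker, LinearMap.comp_apply, LinearMap.fst_apply,
        LinearMap.sub_apply, LinearMap.snd_apply, LinearMap.add_apply, sub_eq_zero] at hp1 hp2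
      exact ⟨hp1, hp2⟩
    refine ⟨ModuleCat.of R P', ModuleCat.ofHom (LinearMap.fst R _ _ ∘ₗ P'.subtype), ?_,
      ModuleCat.ofHom (LinearMap.fst R _ _ ∘ₗ LinearMap.snd R _ _ ∘ₗ P'.subtype), ?_,
      ModuleCat.ofHom (LinearMap.snd R _ _ ∘ₗ LinearMap.snd R _ _ ∘ₗ P'.subtype), ?_⟩
    · rw [ModuleCat.epi_iff_surjective]
      intro a
      have h1 : (L.d j k).hom (y₂.hom a) = 0 := by
        have := congrArg (fun g => g.hom a) hy₂
        simpa using this
      obtain ⟨x, hx, z, hz⟩ := H (y₂.hom a) h1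
      refine ⟨⟨(a, x, z), ?_, ?_⟩, rfl⟩
      · simpa using hx
      · simp [sub_eq_zero, hz]
    · ext p
      exact (hP' p).1
    · ext p
      exact (hP' p).2

section Chain

variable {C D : ChainComplex (ModuleCat.{v} R) ℕ} (f : C ⟶ D)

lemma chain_mono_one :
    Mono (HomologicalComplex.homologyMap f 1) ↔
      ∀ x : C.X 1, (C.d 1 0).hom x = 0 → ∀ y : D.X 2, (f.f 1).hom x = (D.d 2 1).hom y →
        ∃ z : C.X 2, (C.d 2 1).hom z = x :=
  mono_homologyMap_iff_elem f 2 1 0 (by simp) (by simp)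

lemma chain_epi_one :
    Epi (HomologicalComplex.homologyMap f 1) ↔
      ∀ y : D.X 1, (D.d 1 0).hom y = 0 →
        ∃ x : C.X 1, (C.d 1 0).hom x = 0 ∧ ∃ z : D.X 2, y = (f.f 1).hom x + (D.d 2 1).hom z :=
  epi_homologyMap_iff_elem f 2 1 0 (by simp) (by simp)

lemma chain_mono_zero :
    Mono (HomologicalComplex.homologyMap f 0) ↔
      ∀ x : C.X 0, ∀ y : D.X 1, (f.f 0).hom x = (D.d 1 0).hom y →
        ∃ z : C.X 1, (C.d 1 0).hom z = x := by
  rw [mono_homologyMap_iff_elem f 1 0 0 (by simp) (by simp)]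
  have h0 : C.d 0 0 = 0 := C.shape 0 0 (by simp)
  constructor
  · intro H x y hxy
    exact H x (by rw [h0]; rfl) y hxy
  · intro H x _ y hxy
    exact H x y hxy

lemma chain_epi_zero :
    Epi (HomologicalComplex.homologyMap f 0) ↔
      ∀ y : D.X 0, ∃ x : C.X 0, ∃ z : D.X 1, y = (f.f 0).hom x + (D.d 1 0).hom z := by
  rw [epi_homologyMap_iff_elem f 1 0 0 (by simp) (by simp)]
  have h0 : D.d 0 0 = 0 := D.shape 0 0 (by simp)
  have h0' : C.d 0 0 = 0 := C.shape 0 0 (by simp)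
  constructor
  · intro H y
    obtain ⟨x, -, z, hz⟩ := H y (by rw [h0]; rfl)
    exact ⟨x, z, hz⟩
  · intro H y _
    obtain ⟨x, z, hz⟩ := H y
    exact ⟨x, by rw [h0']; rfl, z, hz⟩

end Chain

end Groth.Agent.Lib.Helper27
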