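import Groth.Agent.Lib.Helper27.MonoFull
import Groth.Agent.Lib.Helper27.DiagBaseChange

/-!
# The diagonal square of a fully faithful functor is 2-cartesian (helper27)
-/

set_option autoImplicit false
set_option backward.isDefEq.respectTransparency false
set_option backward.isDefEq.respectTransparency.types false

universe v₄ u₄ v₃ u₃ v₂ u₂ v u

open CategoryTheory CategoryTheory.Limits FibCat Groth.Agent.Lib.Helper27.FpKit
  Groth.Agent.Lib.Helper27.DiagBaseChange

namespace Groth.Agent.Lib.Helper27.MonoDiagSq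

variable {C : Type u} [Category.{v} C] {𝒳 : BasedCategory.{v₂, u₂} C}
  {𝒳' : BasedCategory.{v₃, u₃} C} {𝒴 : BasedCategory.{v₄, u₄} C}
  (i : 𝒳 ⥤ᵇ 𝒳') (g : 𝒳' ⥤ᵇ 𝒴)

/-- The functor induced by `i` on both factors. -/
abbrev ii : fp (BasedFunctor.comp i g) (BasedFunctor.comp i g) ⥤ᵇ fp g g :=
  FibCat.fpLift (BasedFunctor.comp (FibCat.fpFst (BasedFunctor.comp i g) (BasedFunctor.comp i g)) i)
    (BasedFunctor.comp (FibCat.fpSnd (BasedFunctor.comp i g) (BasedFunctor.comp i g)) i)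
    (FibCat.fpIso (BasedFunctor.comp i g) (BasedFunctor.comp i g))

/-- The comparison functor of the square. -/
abbrev L : 𝒳 ⥤ᵇ fp (ii i g) (diag g) :=
  FibCat.fpLift (F := ii i g) (G := diag g) (FibCat.diag (BasedFunctor.comp i g)) i (Iso.refl _)

theorem ii_iso_hom (q : (fp (BasedFunctor.comp i g) (BasedFunctor.comp i g)).obj) :
    ((ii i g).toFunctor.obj q).obj.iso.hom = q.obj.iso.hom := rfl

theorem L_iso_hom (x : 𝒳.obj) : ((L i g).toFunctor.obj x).obj.iso.hom = 𝟙 _ := rfl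

theorem L_faithful : (L i g).toFunctor.Faithful := by
  constructor
  intro x y α β h
  have h1 := congrArg (fun m => m.hom.fst.hom.fst) h
  exact h1

theorem L_full [i.toFunctor.Faithful] : (L i g).toFunctor.Full := by
  constructor
  intro x y Ξ
  have hw := hom_w Ξ
  rw [L_iso_hom, L_iso_hom] at hw
  have h1 : i.toFunctor.map Ξ.hom.fst.hom.fst = Ξ.hom.snd := by
    have := congrArg (fun m => m.hom.fst) hw
    exact (Category.comp_id _).symm.trans (this.trans (Category.id_comp _))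
  have h2 : i.toFunctor.map Ξ.hom.fst.hom.snd = Ξ.hom.snd := by
    have := congrArg (fun m => m.hom.snd) hw
    exact (Category.comp_id _).symm.trans (this.trans (Category.id_comp _))
  have h3 : Ξ.hom.fst.hom.fst = Ξ.hom.fst.hom.snd :=
    i.toFunctor.map_injective (h1.trans h2.symm)
  refine ⟨Ξ.hom.fst.hom.fst, ?_⟩
  apply Groth.Agent.Lib.Helper27.StackFp.hom_ext'
  · apply Groth.Agent.Lib.Helper27.StackFp.hom_ext'
    · rfl
    · exact h3
  · exact h1

theorem L_ess [i.toFunctor.Faithful] [i.toFunctor.Full] (r : (fp (ii i g) (diag g)).obj) :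
    ∃ (x : 𝒳.obj) (e : (L i g).toFunctor.obj x ≅ r), Vert e.hom := by
  obtain ⟨q, hq⟩ : ∃ q : (fp (BasedFunctor.comp i g) (BasedFunctor.comp i g)).obj,
    q = r.obj.fst := ⟨_, rfl⟩
  let θ₁ : i.toFunctor.obj q.obj.fst ≅ r.obj.snd :=
    eqToIso (by rw [hq]; rfl) ≪≫ (fpFst g g).toFunctor.mapIso r.obj.iso
  let θ₂ : i.toFunctor.obj q.obj.snd ≅ r.obj.snd :=
    eqToIso (by rw [hq]; rfl) ≪≫ (fpSnd g g).toFunctor.mapIso r.obj.iso
  have hθ₁ : Vert θ₁.hom := by
    subst hq
    have : Vert ((fpFst g g).toFunctor.mapIso r.obj.iso).hom :=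
      Groth.Agent.Lib.Helper27.GraphDiag.vert_fst _ (vert_iso r)
    simpa [θ₁] using this
  have hr : g.toFunctor.map θ₁.hom = q.obj.iso.hom ≫ g.toFunctor.map θ₂.hom := by
    subst hq
    have h := hom_w r.obj.iso.hom
    rw [Groth.Agent.Lib.Helper27.GraphDiag.diag_iso_hom, ii_iso_hom] at h
    have h' : g.toFunctor.map ((fpFst g g).toFunctor.mapIso r.obj.iso).hom =
        r.obj.fst.obj.iso.hom ≫ g.toFunctor.map ((fpSnd g g).toFunctor.mapIso r.obj.iso).hom :=
      (Category.comp_id _).symm.trans h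
    simpa [θ₁, θ₂] using h'
  let γ : q.obj.fst ≅ q.obj.snd := i.toFunctor.preimageIso (θ₁ ≪≫ θ₂.symm)
  have hγ : i.toFunctor.map γ.hom = θ₁.hom ≫ θ₂.inv := by
    simp [γ]
  have hψ : (BasedFunctor.comp i g).toFunctor.map (Iso.refl q.obj.fst).hom ≫ q.obj.iso.hom =
      ((diag (BasedFunctor.comp i g)).toFunctor.obj q.obj.fst).obj.iso.hom ≫
        (BasedFunctor.comp i g).toFunctor.map γ.hom := by
    rw [Groth.Agent.Lib.Helper27.GraphDiag.diag_iso_hom]
    change g.toFunctor.map (i.toFunctor.map (𝟙 _)) ≫ q.obj.iso.hom =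
      𝟙 _ ≫ g.toFunctor.map (i.toFunctor.map γ.hom)
    rw [hγ, g.toFunctor.map_comp, hr, i.toFunctor.map_id, g.toFunctor.map_id, Category.id_comp,
      Category.id_comp, Category.assoc, ← g.toFunctor.map_comp, Iso.hom_inv_id,
      g.toFunctor.map_id]
    exact (Category.comp_id _).symm
  let κ : (diag (BasedFunctor.comp i g)).toFunctor.obj q.obj.fst ≅ q :=
    mkIso (t := (diag (BasedFunctor.comp i g)).toFunctor.obj q.obj.fst) (t' := q)
      (Iso.refl _) γ hψ
  subst hq
  have hfin : (ii i g).toFunctor.map κ.hom ≫ r.obj.iso.hom =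
      ((L i g).toFunctor.obj r.obj.fst.obj.fst).obj.iso.hom ≫
        (diag g).toFunctor.map θ₁.hom := by
    rw [L_iso_hom]
    apply Groth.Agent.Lib.Helper27.StackFp.hom_ext'
    · change i.toFunctor.map (𝟙 _) ≫ r.obj.iso.hom.hom.fst = 𝟙 _ ≫ θ₁.hom
      rw [i.toFunctor.map_id]
      simp [θ₁]
      rfl
    · change i.toFunctor.map γ.hom ≫ r.obj.iso.hom.hom.snd = 𝟙 _ ≫ θ₁.hom
      rw [hγ, Category.id_comp, Category.assoc]
      have : θ₂.inv ≫ r.obj.iso.hom.hom.snd = 𝟙 _ := by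
        have h0 : r.obj.iso.hom.hom.snd = θ₂.hom := by
          simp [θ₂]
          rfl
        rw [h0, Iso.inv_hom_id]
      rw [this, Category.comp_id]
  refine ⟨r.obj.fst.obj.fst, mkIso (t := (L i g).toFunctor.obj r.obj.fst.obj.fst) (t' := r) κ θ₁
    hfin, ?_⟩
  rw [vert_hom_iff]
  change Vert κ.hom
  rw [vert_hom_iff]
  exact Vert.id _

theorem isEquivOver_L [i.toFunctor.Faithful] [i.toFunctor.Full] : IsEquivOver (L i g) :=
  isEquivOver_of_ess _ (L_full i g) (L_faithful i g) (L_ess i g)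

end Groth.Agent.Lib.Helper27.MonoDiagSq
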