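import Groth.Agent.Lib.Helper27.OpenSub4
import Groth.Agent.Lib.Helper27.StPointsTop2
import Groth.Agent.Lib.Helper3.SpCoprod4
import Groth.Agent.Lib.Helper3.ZarGlue
import Groth.Agent.Lib.Helper27.PshRep
import Groth.Agent.Lib.Helper27.DiagRep2
import Groth.Agent.Lib.Helper27.LocQOver
import Groth.Agent.Lib.Helper27.FpRepSp
import Groth.Agent.Lib.Helper27.EquivOverAux
import Groth.Agent.Lib.Helper27.StackPsh
import Groth.Agent.Lib.Helper27.StPointsSurj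

/-!
# Algebraic stacks covered by open substacks which are algebraic spaces (helper27)
-/

set_option autoImplicit false
set_option backward.isDefEq.respectTransparency false
set_option backward.isDefEq.respectTransparency.types false

universe w u

open CategoryTheory CategoryTheory.Limits FibCat AlgebraicGeometry Opposite
  Groth.Agent.Lib.Helper27.FpKit Groth.Agent.Lib.Helper27.PointsKit
  Groth.Agent.Lib.Helper27.StPoints Groth.Agent.Lib.Helper27.OpenSub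
  Groth.Agent.Lib.Helper27.DescentKit Groth.Agent.Lib.Helper27.PshKit

namespace Groth.Agent.Lib.Helper27.OpenCoverSp

variable {S : Scheme.{u}} {𝒳 : AlgSt.Cat S}

local infixr:80 " ⊚ " => BasedFunctor.comp

section Locus

variable {Q : 𝒳.obj → Prop}

/-- Objects over a scheme all of whose points land in an open substack belong to it. -/
theorem mem_of_range_subset (h𝒳 : AlgSt.IsAlgStack Scheme.fppfPrecoverage 𝒳)
    (hQ : AlgSt.IsOpenSubstack 𝒳 Q Scheme.fppfPrecoverage) {T : Over S} (y : overCat T ⥤ᵇ 𝒳)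
    {V : Over S} (f : V ⟶ T)
    (hf : ∀ v : ↥V.left, AlgSt.Points.ofChart y (f.left v) ∈
      Set.range (AlgSt.Points.map (AlgSt.subIncl 𝒳 Q))) {x' : 𝒳.obj}
    (a : x' ⟶ y.toFunctor.obj (Over.mk (𝟙 T))) (ha : 𝒳.p.IsHomLift f a) : Q x' := by
  have h1 : Q ((AlgSt.overMap f ⊚ y).toFunctor.obj (Over.mk (𝟙 V))) := by
    apply of_forall_mem_range h𝒳 hQ (AlgSt.overMap f ⊚ y)
    intro v
    rw [ofChart_overMap]
    exact hf v
  let μ : (AlgSt.overMap f).toFunctor.obj (Over.mk (𝟙 V)) ⟶ Over.mk (𝟙 T) := Over.homMk f (by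
    change f ≫ 𝟙 T = 𝟙 V ≫ f
    rw [Category.comp_id, Category.id_comp])
  have hμ : (overCat T).p.IsHomLift f μ :=
    inferInstanceAs ((overCat T).p.IsHomLift ((overCat T).p.map μ) μ)
  have hl' : 𝒳.p.IsHomLift f (y.toFunctor.map μ) := inferInstance
  obtain ⟨e, -, -⟩ := exists_vert_iso h𝒳.isStack.1 f a (y.toFunctor.map μ)
  have := hQ.1
  exact ObjectProperty.IsClosedUnderIsomorphisms.of_iso e.symm h1

end Locus

section Thin

variable {ι : Type w} (Q : ι → 𝒳.obj → Prop)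

/-- If an algebraic stack is covered by open substacks whose objects have no nontrivial vertical
endomorphisms, then its fibre categories are thin. -/
theorem thin_of_open_cover (h𝒳 : AlgSt.IsAlgStack Scheme.fppfPrecoverage 𝒳)
    (hQ : ∀ i, AlgSt.IsOpenSubstack 𝒳 (Q i) Scheme.fppfPrecoverage)
    (hcov : ⋃ i, Set.range (AlgSt.Points.map (AlgSt.subIncl 𝒳 (Q i))) = Set.univ)
    (hthin : ∀ i (a : 𝒳.obj), Q i a → ∀ θ : a ⟶ a, Vert θ → θ = 𝟙 a) (T : Over S) :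
    Quiver.IsThin (𝒳.p.Fiber T) := by
  rw [Groth.Agent.Lib.Helper27.StackFp.thin_iff]
  intro a b φ ψ hφ hψ
  have ha : 𝒳.p.obj a = T := IsHomLift.domain_eq 𝒳.p (𝟙 T) φ
  obtain ⟨y, κ, hκ⟩ := Groth.Agent.Lib.Helper27.MonoFF.exists_yoneda h𝒳.isStack.1 a ha
  -- the open cover of `T`
  let V : ι → T.left.Opens := fun i =>
    ⟨AlgSt.Points.ofChart y ⁻¹' Set.range (AlgSt.Points.map (AlgSt.subIncl 𝒳 (Q i))),
      (continuous_ofChart h𝒳 y).isOpen_preimage _ (isOpen_range_subIncl h𝒳 (hQ i))⟩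
  let Ti : ι → Over S := fun i => Over.mk ((V i).ι ≫ T.hom)
  let j : ∀ i, Ti i ⟶ T := fun i => Over.homMk (V i).ι rfl
  have hVcov : ∀ t : ↥T.left, ∃ i, t ∈ Set.range (j i).left := by
    intro t
    have ht : AlgSt.Points.ofChart y t ∈
        ⋃ i, Set.range (AlgSt.Points.map (AlgSt.subIncl 𝒳 (Q i))) := by
      rw [hcov]; exact Set.mem_univ _
    obtain ⟨i, hi⟩ := Set.mem_iUnion.1 ht
    refine ⟨i, ?_⟩
    change t ∈ Set.range (V i).ι
    rw [Scheme.Opens.range_ι]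
    exact hi
  have hR : Sieve.generate (Presieve.ofArrows Ti j) ∈ AlgSp.J S T :=
    Groth.Agent.Lib.Helper3.generate_ofArrows_mem_J_of_fppf Ti j
      (fun i => inferInstanceAs (Flat (V i).ι))
      (fun i => inferInstanceAs (LocallyOfFinitePresentation (V i).ι)) hVcov
  obtain ⟨huniq, -, -⟩ := (isStackFor_iff _ h𝒳.isStack.1).1 (h𝒳.isStack.2 _ hR)
  apply huniq a b φ ψ hφ hψ
  intro V' f x' α hf hα
  obtain ⟨W, g, _, ⟨i⟩, rfl⟩ := hf
  -- `x'` lies in `Q i`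
  have hx' : Q i x' := by
    have hα' : 𝒳.p.IsHomLift ((g ≫ j i) ≫ 𝟙 T) (α ≫ κ.inv) := by
      have : 𝒳.p.IsHomLift (𝟙 T) κ.inv := (hκ.inv).lift ha
      exact IsHomLift.comp 𝒳.p (g ≫ j i) (𝟙 T) α κ.inv
    rw [Category.comp_id] at hα'
    apply mem_of_range_subset h𝒳 (hQ i) y (g ≫ j i) ?_ (α ≫ κ.inv) hα'
    intro v
    have hv : (g ≫ j i).left v ∈ (V i : Set T.left) := by
      have : (g ≫ j i).left v = (V i).ι (g.left v) := rfl
      rw [this]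
      exact (g.left v).2
    exact hv
  -- compare the two composites
  have h1 : 𝒳.p.IsHomLift ((g ≫ j i) ≫ 𝟙 T) (α ≫ φ) := IsHomLift.comp 𝒳.p (g ≫ j i) (𝟙 T) α φ
  have h2 : 𝒳.p.IsHomLift ((g ≫ j i) ≫ 𝟙 T) (α ≫ ψ) := IsHomLift.comp 𝒳.p (g ≫ j i) (𝟙 T) α ψ
  obtain ⟨e, he, hfac⟩ := exists_vert_iso h𝒳.isStack.1 ((g ≫ j i) ≫ 𝟙 T) (α ≫ φ) (α ≫ ψ)
  rw [hthin i x' hx' e.hom he, Category.id_comp] at hfac
  exact hfac.symm

end Thin

section RepWith

/-- A map of sheaves whose associated functor is representable by algebraic spaces with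
representable base changes having `P` is representable with `P`. -/
theorem repWith_of_repByAlgSpWith (P : MorphismProperty Scheme.{u}) [P.IsStableUnderBaseChange]
    {A F : AlgSp.Sp S} (f : A ⟶ F)
    (h : AlgSt.RepByAlgSpWith (AlgSp.RepWith P) (AlgSt.ofSpMap f)) : AlgSp.RepWith P f := by
  have h1 : AlgSp.RepBySp f.hom :=
    Groth.Agent.Lib.Helper27.PshRep.repBySp_of_repByAlgSp1 f.hom
      (Groth.Agent.Lib.Helper27.DiagRep.repByAlgSp1_of_with _ h)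
  have h2 : AlgSp.RepBySpWith (AlgSp.RepWith P) f.hom :=
    Groth.Agent.Lib.Helper27.PshRep.repBySpWith_of_repByAlgSpWith f.hom _ h1 h
  apply MorphismProperty.relative.of_exists
  intro T g
  have sqS : IsPullback (pullback.fst f g) (pullback.snd f g) f g := IsPullback.of_hasPullback f g
  have sqP : IsPullback (pullback.fst f g).hom (pullback.snd f g).hom f.hom g.hom :=
    sqS.map (sheafToPresheaf (AlgSp.J S) (Type (u + 1)))
  obtain ⟨hsh, halg, hQ⟩ := h2 g.hom _ _ sqP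
  have hQ' : AlgSp.RepWith P (pullback.snd f g) := hQ
  have sq1 := hQ'.rep.isPullback (𝟙 ((AlgSp.yon S).obj T))
  have hP : P (hQ'.rep.snd (𝟙 ((AlgSp.yon S).obj T))).left := hQ'.2 _ _ _ sq1
  have sq2 := sq1.paste_horiz sqS
  rw [Category.id_comp] at sq2
  exact ⟨_, _, _, sq2, hP⟩

end RepWith

section Main

variable {ι : Type w} (Q : ι → 𝒳.obj → Prop)

theorem vert_eq_id_of_rep (i : ι) (hrep : AlgSt.RepByAlgSp (AlgSt.fullSub 𝒳 (Q i))) (a : 𝒳.obj)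
    (ha : Q i a) (θ : a ⟶ a) (hθ : Vert θ) : θ = 𝟙 a := by
  have hv : Vert (𝒳 := AlgSt.fullSub 𝒳 (Q i))
      (ObjectProperty.homMk θ : (⟨a, ha⟩ : (AlgSt.fullSub 𝒳 (Q i)).obj) ⟶ ⟨a, ha⟩) :=
    (BasedFunctor.isHomLift_iff (AlgSt.subIncl 𝒳 (Q i)) _ _).1 hθ
  have h1 : (ObjectProperty.homMk θ : (⟨a, ha⟩ : (AlgSt.fullSub 𝒳 (Q i)).obj) ⟶ ⟨a, ha⟩) = 𝟙 _ :=
    Groth.Agent.Lib.Helper27.MonoFF.vert_ext_of_rep hrep _ _ hv (Vert.id _)
  exact congrArg (fun m => m.hom) h1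

/-- The sheaf of isomorphism classes of an algebraic stack covered by open substacks which are
algebraic spaces, with its Zariski covering by these spaces. -/
theorem exists_zarCover (h𝒳 : AlgSt.IsAlgStack Scheme.fppfPrecoverage 𝒳)
    (hQ : ∀ i, AlgSt.IsOpenSubstack 𝒳 (Q i) Scheme.fppfPrecoverage)
    (hcov : ⋃ i, Set.range (AlgSt.Points.map (AlgSt.subIncl 𝒳 (Q i))) = Set.univ)
    (A : ι → AlgSp.Space S) (e : ∀ i, AlgSt.ofSp (A i).obj ⥤ᵇ AlgSt.fullSub 𝒳 (Q i))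
    (he : ∀ i, IsEquivOver (e i)) :
    ∃ (F : AlgSp.Sp S) (E : AlgSt.ofSp F ⥤ᵇ 𝒳) (_ : IsEquivOver E) (κ : Type u) (i : κ → ι)
      (f : ∀ k, (A (i k)).obj ⟶ F), AlgSp.IsZarCover (fun k => (A (i k)).obj) f := by
  have hthin := thin_of_open_cover Q h𝒳 hQ hcov
    (fun i a ha θ hθ => vert_eq_id_of_rep Q i ⟨A i, e i, he i⟩ a ha θ hθ)
  obtain ⟨W, E₀, hE₀⟩ := Groth.Agent.Lib.Helper27.FpRepSp.exists_psh_of_fibSetoid h𝒳.isStack.1 hthin
  have hstW : Stk.IsStack (AlgSp.J S) (Stk.ofPsh W) :=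
    (Groth.Agent.Lib.Helper27.EquivOverAux.isStack_iff (AlgSp.J S) E₀ hE₀).1 h𝒳.isStack
  have hshW : Presheaf.IsSheaf (AlgSp.J S) W :=
    (isSheaf_iff_isSheaf_of_type _ _).2
      ((Groth.Agent.Lib.Helper27.StackPsh.isStack_iff_isSheaf (AlgSp.J S)).1 hstW)
  obtain ⟨F, hF⟩ : ∃ F : AlgSp.Sp S, F.obj = W := ⟨⟨W, hshW⟩, rfl⟩
  subst hF
  obtain ⟨E, hE, -, ⟨ε⟩⟩ := exists_inverse E₀ hE₀
  -- a small subfamily
  obtain ⟨U₀, x₀, -, hx₀⟩ := h𝒳.atlas
  have hfU₀ : FibCat.IsFibGrpd (overCat U₀).p :=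
    Groth.Agent.Lib.Helper27.ReprAux.isFibGrpd_overCat U₀
  have hsurj : AlgSt.IsSurjective x₀ := isSurjective_of_rep hfU₀ h𝒳.isStack.1 x₀ hx₀
  have hi : ∀ t : ↥U₀.left, ∃ i, AlgSt.Points.ofChart x₀ t ∈
      Set.range (AlgSt.Points.map (AlgSt.subIncl 𝒳 (Q i))) := by
    intro t
    have ht : AlgSt.Points.ofChart x₀ t ∈
        ⋃ i, Set.range (AlgSt.Points.map (AlgSt.subIncl 𝒳 (Q i))) := by
      rw [hcov]; exact Set.mem_univ _
    exact Set.mem_iUnion.1 ht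
  choose i hi using hi
  obtain ⟨Ψ, hΨ⟩ : ∃ Ψ : ∀ t : ↥U₀.left, AlgSt.ofSp (A (i t)).obj ⥤ᵇ AlgSt.ofSp F,
      Ψ = fun t => (e (i t) ⊚ AlgSt.subIncl 𝒳 (Q (i t))) ⊚ E₀ := ⟨_, rfl⟩
  refine ⟨F, E, hE, ↥U₀.left, i, fun t => ObjectProperty.homMk (pshMapOf (Ψ t)), ⟨?_, ?_⟩⟩
  · intro t
    apply repWith_of_repByAlgSpWith
    have h1 : AlgSt.RepByAlgSpWith (AlgSp.RepWith @IsOpenImmersion) (Ψ t) := by
      rw [hΨ]
      exact Groth.Agent.Lib.Helper27.LocQOver.repByAlgSpWith_comp_equiv _ _ E₀ hE₀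
        (Groth.Agent.Lib.Helper27.LocQOver.repByAlgSpWith_equiv_comp _ (e (i t)) (he (i t)) _
          (hQ (i t)).2.2)
    exact Groth.Agent.Lib.Helper27.LocQOver.repByAlgSpWith_of_iso _ (τIso (Ψ t)).symm h1
  · intro x
    obtain ⟨pt, hpt⟩ := hsurj (AlgSt.Points.map E (toSt F x))
    obtain ⟨t, rfl⟩ := (ptOf_bijective U₀).2 pt
    rw [← ofChart_eq] at hpt
    obtain ⟨q, hq⟩ := hi t
    obtain ⟨q', rfl⟩ := map_surjective_of_equiv (e (i t)) (he (i t)) q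
    obtain ⟨z, rfl⟩ := toSt_surjective (A (i t)).obj q'
    refine ⟨t, z, ?_⟩
    apply toSt_injective F
    have h2 : AlgSt.Points.map (AlgSt.ofSpMap (ObjectProperty.homMk (pshMapOf (Ψ t)) :
        (A (i t)).obj ⟶ F)) (toSt (A (i t)).obj z) =
        AlgSt.Points.map (Ψ t) (toSt (A (i t)).obj z) := map_iso (τIso (Ψ t)) _
    rw [← toSt_map, h2, hΨ, map_comp, map_comp, hq, hpt, ← map_comp, map_iso ε, map_id]

/-- An algebraic stack covered by open substacks which are algebraic spaces is an algebraic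
space. -/
theorem repByAlgSp_of_cover (h𝒳 : AlgSt.IsAlgStack Scheme.fppfPrecoverage 𝒳)
    (hQ : ∀ i, AlgSt.IsOpenSubstack 𝒳 (Q i) Scheme.fppfPrecoverage)
    (hcov : ⋃ i, Set.range (AlgSt.Points.map (AlgSt.subIncl 𝒳 (Q i))) = Set.univ)
    (hsp : ∀ i, AlgSt.RepByAlgSp (AlgSt.fullSub 𝒳 (Q i))) : AlgSt.RepByAlgSp 𝒳 := by
  choose A e he using hsp
  obtain ⟨F, E, hE, κ, i, f, hcov'⟩ := exists_zarCover Q h𝒳 hQ hcov A e he
  have hF : AlgSp.IsAlgSpace F :=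
    Groth.Agent.Lib.Helper3.isAlgSpace_of_zarCover _ f hcov' (fun k => (A (i k)).property)
  exact ⟨⟨F, hF⟩, E, hE⟩

/-- An algebraic stack covered by open substacks which are schemes is a scheme. -/
theorem isRepresentable_of_cover (h𝒳 : AlgSt.IsAlgStack Scheme.fppfPrecoverage 𝒳)
    (hQ : ∀ i, AlgSt.IsOpenSubstack 𝒳 (Q i) Scheme.fppfPrecoverage)
    (hcov : ⋃ i, Set.range (AlgSt.Points.map (AlgSt.subIncl 𝒳 (Q i))) = Set.univ)
    (hsch : ∀ i, FibCat.IsRepresentable (AlgSt.fullSub 𝒳 (Q i))) : FibCat.IsRepresentable 𝒳 := by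
  choose U G hG using hsch
  have hinv := fun i => exists_inverse (G i) (hG i)
  choose G' hG' _ _ using hinv
  obtain ⟨F, E, hE, κ, i, f, hcov'⟩ := exists_zarCover Q h𝒳 hQ hcov
    (fun i => ⟨(AlgSp.yon S).obj (U i), AlgSp.IsAlgSpace.yon_obj (U i)⟩)
    (fun i => AlgSt.toOverCat (U i) ⊚ G' i)
    (fun i => isEquivOver_comp _ _ (Groth.Agent.Lib.Helper27.PshRep.isEquivOver_toOverCat (U i))
      (hG' i))
  have hs : ∀ x : AlgSp.Points F, ∃ (k : κ) (u : ↥(U (i k)).left),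
      AlgSp.Points.ofPt (f k) u = x := by
    intro x
    obtain ⟨k, z, hz⟩ := hcov'.2 x
    obtain ⟨u, rfl⟩ := (AlgSp.Points.schemeHomeo (U (i k))).surjective z
    exact ⟨k, u, (AlgSp.Points.ofPt_eq_map_ofScheme (f k) u).trans hz⟩
  obtain ⟨G₀, e₀, -, -, -, -⟩ :=
    Groth.Agent.Lib.Helper3.exists_iso_yon_of_openCover f hcov'.1 hs
  have : IsIso e₀.hom.hom := by
    have : IsIso ((sheafToPresheaf (AlgSp.J S) (Type (u + 1))).map e₀.hom) := inferInstance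
    exact this
  apply isRepresentable_of_equiv' ((AlgSt.ofOverCat G₀ ⊚ AlgSt.ofSpMap e₀.hom) ⊚ E)
  · exact isEquivOver_comp _ _ (isEquivOver_comp _ _
      (Groth.Agent.Lib.Helper27.Descent.isEquivOver_ofOverCat G₀)
      (Groth.Agent.Lib.Helper27.LocQChart.isEquivOver_ofPshMap_of_isIso e₀.hom.hom)) hE
  · exact ⟨G₀, BasedFunctor.id _, isEquivOver_id _⟩

end Main

end Groth.Agent.Lib.Helper27.OpenCoverSp
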