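import Groth.Prelude.Def_AlgSt
import Groth.Prelude.Def_FibCat2
import Groth.Agent.Lib.Helper27.DescentKit

/-!
# Full substacks (helper27)
-/

set_option autoImplicit false
set_option backward.isDefEq.respectTransparency false
set_option backward.isDefEq.respectTransparency.types false

universe v₄ u₄ v₃ u₃ v₂ u₂ v u

open CategoryTheory Groth.Agent.Lib.Helper27.DescentKit
  Groth.Agent.Lib.Helper16.FpFibGrpd

namespace Groth.Agent.Lib.Helper27.StackSub

variable {C : Type u} [Category.{v} C] {𝒳 : BasedCategory.{v₂, u₂} C} (Q : ObjectProperty 𝒳.obj)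

open FibCat

/-- The full subcategory on `Q` as a category over `C`. -/
abbrev sub : BasedCategory.{v₂, u₂} C := BasedCategory.ofFunctor (Q.ι ⋙ 𝒳.p)

/-- The inclusion. -/
def incl : sub Q ⥤ᵇ 𝒳 where
  toFunctor := Q.ι
  w := rfl

variable {Q}

theorem lift_iff {a b : (sub Q).obj} (Φ : a ⟶ b) {V U : C} (f : V ⟶ U) :
    (sub Q).p.IsHomLift f Φ ↔ 𝒳.p.IsHomLift f Φ.hom :=
  (BasedFunctor.isHomLift_iff (incl Q) f Φ).symm

/-- Hypothesis (1): sources of morphisms into `Q` are isomorphic to objects of `Q`. -/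
def H1 (Q : ObjectProperty 𝒳.obj) : Prop :=
  ∀ ⦃y x : 𝒳.obj⦄ (_ : y ⟶ x), Q x →
    ∃ (y' : 𝒳.obj) (e : y ≅ y'), Q y' ∧ 𝒳.p.IsHomLift (𝟙 (𝒳.p.obj y)) e.hom

section Choice

variable (h1 : H1 Q) {x : 𝒳.obj} (hx : Q x) {y : 𝒳.obj} (a : y ⟶ x)

/-- A chosen replacement in `Q`. -/
noncomputable def repl : (sub Q).obj := ⟨(h1 a hx).choose, (h1 a hx).choose_spec.choose_spec.1⟩

/-- The chosen isomorphism. -/
noncomputable def replIso : y ≅ (repl h1 hx a).obj := (h1 a hx).choose_spec.choose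

theorem replIso_lift : 𝒳.p.IsHomLift (𝟙 (𝒳.p.obj y)) (replIso h1 hx a).hom :=
  (h1 a hx).choose_spec.choose_spec.2

theorem replIso_lift' {V : C} (hy : 𝒳.p.obj y = V) : 𝒳.p.IsHomLift (𝟙 V) (replIso h1 hx a).hom := by
  have := replIso_lift h1 hx a
  exact isHomLift_id_of_eq 𝒳.p hy _

theorem replIso_inv_lift' {V : C} (hy : 𝒳.p.obj y = V) :
    𝒳.p.IsHomLift (𝟙 V) (replIso h1 hx a).inv := by
  have := replIso_lift' h1 hx a hy
  infer_instance

/-- The morphism from the replacement. -/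
noncomputable def replHom : repl h1 hx a ⟶ (⟨x, hx⟩ : (sub Q).obj) :=
  ObjectProperty.homMk ((replIso h1 hx a).inv ≫ a)

theorem replHom_lift {V U : C} (f : V ⟶ U) (ha : 𝒳.p.IsHomLift f a) :
    (sub Q).p.IsHomLift f (replHom h1 hx a) := by
  rw [lift_iff]
  have hy : 𝒳.p.obj y = V := IsHomLift.domain_eq 𝒳.p f a
  have := replIso_inv_lift' h1 hx a hy
  exact inferInstanceAs (𝒳.p.IsHomLift f ((replIso h1 hx a).inv ≫ a))

end Choice

theorem isFibGrpd_sub (hp : FibCat.IsFibGrpd 𝒳.p) (h1 : H1 Q) : FibCat.IsFibGrpd (sub Q).p := by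
  constructor
  · intro x V f
    obtain ⟨y, φ, hφ⟩ := hp.exists_lift (x := x.obj) f
    exact ⟨repl h1 x.property φ, replHom h1 x.property φ, replHom_lift h1 x.property φ f hφ⟩
  · intro b a Φ
    have hΦ : 𝒳.p.IsStronglyCartesian (𝒳.p.map Φ.hom) Φ.hom := hp.isStronglyCartesian Φ.hom
    refine @Functor.IsStronglyCartesian.mk _ _ _ _ _ _ _ _ _ _ _ inferInstance ?_
    intro c g Ψ hΨ
    have hΨ' : 𝒳.p.IsHomLift (g ≫ 𝒳.p.map Φ.hom) Ψ.hom := (lift_iff Ψ _).1 hΨ
    obtain ⟨χ₀, ⟨hχl, hχ⟩, huniq⟩ := hΦ.universal_property' g Ψ.hom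
    refine ⟨ObjectProperty.homMk χ₀, ⟨(lift_iff _ g).2 hχl, ?_⟩, ?_⟩
    · apply ObjectProperty.hom_ext
      exact hχ
    · rintro χ' ⟨hχ'l, hχ'⟩
      apply ObjectProperty.hom_ext
      apply huniq
      exact ⟨(lift_iff χ' g).1 hχ'l, congrArg (fun Θ => Θ.hom) hχ'⟩

section Descent

variable (hp : FibCat.IsFibGrpd 𝒳.p) (h1 : H1 Q) {U : C} (R : Sieve U)

include h1 in
theorem uniqMor_sub (hu : UniqMor R 𝒳) : UniqMor R (sub Q) := by
  intro x y φ ψ hφ hψ hloc
  apply ObjectProperty.hom_ext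
  apply hu _ _ _ _ ((lift_iff φ _).1 hφ) ((lift_iff ψ _).1 hψ)
  intro V f x'' a hf ha
  have h := hloc f (replHom h1 x.property a) hf (replHom_lift h1 x.property a f ha)
  have h' : ((replIso h1 x.property a).inv ≫ a) ≫ φ.hom =
      ((replIso h1 x.property a).inv ≫ a) ≫ ψ.hom := congrArg (fun Θ => Θ.hom) h
  rw [Category.assoc, Category.assoc] at h'
  exact (cancel_epi _).1 h'

end Descent

section Glue

variable (hp : FibCat.IsFibGrpd 𝒳.p) (h1 : H1 Q) {U : C} (R : Sieve U)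

/-- The matching family in `𝒳` attached to one in the subcategory. -/
noncomputable def matchUp {x y : (sub Q).obj} (M : MatchFam R (sub Q) x y) :
    MatchFam R 𝒳 x.obj y.obj where
  m := fun V f x'' a hf ha =>
    (replIso h1 x.property a).hom ≫
      (M.m f (replHom h1 x.property a) hf (replHom_lift h1 x.property a f ha)).hom
  lift := fun V f x'' a hf ha => by
    have hy : 𝒳.p.obj x'' = V := IsHomLift.domain_eq 𝒳.p f a
    have h2 := replIso_lift' h1 x.property a hy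
    have h3 : 𝒳.p.IsHomLift f
        (M.m f (replHom h1 x.property a) hf (replHom_lift h1 x.property a f ha)).hom :=
      (lift_iff _ f).1 (M.lift _ _ _ _)
    infer_instance
  compat := fun V W f g x' x'' a b hf ha hb hba => by
    have hx' : 𝒳.p.obj x' = V := IsHomLift.domain_eq 𝒳.p f a
    have hx'' : 𝒳.p.obj x'' = W := IsHomLift.domain_eq 𝒳.p g b
    have i1 := replIso_inv_lift' h1 x.property (b ≫ a) hx''
    have i2 := replIso_lift' h1 x.property a hx'
    have hβ0 : 𝒳.p.IsHomLift g (b ≫ (replIso h1 x.property a).hom) := inferInstance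
    have hβ' : 𝒳.p.IsHomLift g
        ((replIso h1 x.property (b ≫ a)).inv ≫ b ≫ (replIso h1 x.property a).hom) :=
      inferInstance
    let β : repl h1 x.property (b ≫ a) ⟶ repl h1 x.property a :=
      ObjectProperty.homMk
        ((replIso h1 x.property (b ≫ a)).inv ≫ b ≫ (replIso h1 x.property a).hom)
    have hβ : (sub Q).p.IsHomLift g β := (lift_iff β g).2 hβ'
    have hA : (sub Q).p.IsHomLift f (replHom h1 x.property a) :=
      replHom_lift h1 x.property a f ha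
    have hβA : (sub Q).p.IsHomLift (g ≫ f) (β ≫ replHom h1 x.property a) := inferInstance
    have e1 : β ≫ replHom h1 x.property a = replHom h1 x.property (b ≫ a) := by
      apply ObjectProperty.hom_ext
      change ((replIso h1 x.property (b ≫ a)).inv ≫ b ≫ (replIso h1 x.property a).hom) ≫
        ((replIso h1 x.property a).inv ≫ a) = (replIso h1 x.property (b ≫ a)).inv ≫ b ≫ a
      simp
    have e2 := M.compat f g (replHom h1 x.property a) β hf hA hβ hβA
    have e3 : M.m (g ≫ f) (replHom h1 x.property (b ≫ a)) (R.downward_closed hf g)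
        (replHom_lift h1 x.property (b ≫ a) (g ≫ f) hba) =
        β ≫ M.m f (replHom h1 x.property a) hf hA := by
      rw [← e2]
      exact M.m_congr rfl e1.symm _ _ _ _
    change (replIso h1 x.property (b ≫ a)).hom ≫
      (M.m (g ≫ f) (replHom h1 x.property (b ≫ a)) (R.downward_closed hf g)
        (replHom_lift h1 x.property (b ≫ a) (g ≫ f) hba)).hom =
      b ≫ (replIso h1 x.property a).hom ≫ (M.m f (replHom h1 x.property a) hf hA).hom
    rw [e3]
    change (replIso h1 x.property (b ≫ a)).hom ≫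
      ((replIso h1 x.property (b ≫ a)).inv ≫ b ≫ (replIso h1 x.property a).hom) ≫
        (M.m f (replHom h1 x.property a) hf hA).hom = _
    simp

include h1 in
theorem glueMor_sub (hg : GlueMor R 𝒳) : GlueMor R (sub Q) := by
  intro x y hx hy M
  obtain ⟨φ₀, hφ₀l, hφ₀⟩ := hg x.obj y.obj hx hy (matchUp h1 R M)
  refine ⟨ObjectProperty.homMk φ₀, (lift_iff _ _).2 hφ₀l, ?_⟩
  intro V f x' a hf ha
  have ha' : 𝒳.p.IsHomLift f a.hom := (lift_iff a f).1 ha
  have hx' : 𝒳.p.obj x'.obj = V := IsHomLift.domain_eq 𝒳.p f a.hom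
  apply ObjectProperty.hom_ext
  change a.hom ≫ φ₀ = _
  rw [hφ₀ f a.hom hf ha']
  change (replIso h1 x.property a.hom).hom ≫
    (M.m f (replHom h1 x.property a.hom) hf (replHom_lift h1 x.property a.hom f ha')).hom = _
  -- the isomorphism from `x'` to its replacement, as a morphism of the subcategory
  have i2 := replIso_lift' h1 x.property a.hom hx'
  let β : x' ⟶ repl h1 x.property a.hom := ObjectProperty.homMk (replIso h1 x.property a.hom).hom
  have hβ : (sub Q).p.IsHomLift (𝟙 V) β := (lift_iff β _).2 i2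
  have hA : (sub Q).p.IsHomLift f (replHom h1 x.property a.hom) :=
    replHom_lift h1 x.property a.hom f ha'
  have hβA : (sub Q).p.IsHomLift (𝟙 V ≫ f) (β ≫ replHom h1 x.property a.hom) := inferInstance
  have e1 : β ≫ replHom h1 x.property a.hom = a := by
    apply ObjectProperty.hom_ext
    change (replIso h1 x.property a.hom).hom ≫ ((replIso h1 x.property a.hom).inv ≫ a.hom) = a.hom
    simp
  have e2 := M.compat f (𝟙 V) (replHom h1 x.property a.hom) β hf hA hβ hβA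
  have e3 : M.m f a hf ha = β ≫ M.m f (replHom h1 x.property a.hom) hf hA := by
    rw [← e2]
    exact M.m_congr (Category.id_comp f).symm e1.symm _ _ _ _
  rw [e3]
  rfl

end Glue

section Eff

variable (hp : FibCat.IsFibGrpd 𝒳.p) {U : C} (R : Sieve U)

include hp in
theorem effective_sub (he : Effective R 𝒳)
    (h3 : ∀ (x : 𝒳.obj), 𝒳.p.obj x = U →
      (∀ ⦃V : C⦄ (f : V ⟶ U), R f → ∀ (y : 𝒳.obj) (φ : y ⟶ x), 𝒳.p.IsHomLift f φ →
        ∃ (y' : 𝒳.obj) (e : y ≅ y'), Q y' ∧ 𝒳.p.IsHomLift (𝟙 V) e.hom) →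
      ∃ (x' : 𝒳.obj) (e : x ≅ x'), Q x' ∧ 𝒳.p.IsHomLift (𝟙 U) e.hom) :
    Effective R (sub Q) := by
  intro D
  obtain ⟨x₀, c, hx₀, hc, hcomp⟩ := he (BasedFunctor.comp D (incl Q))
  have hc' : ∀ s : (Stk.sieveCat R).obj, 𝒳.p.IsHomLift s.obj.hom (c s) := hc
  obtain ⟨x', e, hx', he'⟩ := h3 x₀ hx₀ (by
    intro V f hf y φ hφ
    have hcs : 𝒳.p.IsHomLift f (c ⟨Over.mk f, hf⟩) := hc' ⟨Over.mk f, hf⟩
    have hl : 𝒳.p.IsHomLift (𝟙 V) (FG.lift hp f (c ⟨Over.mk f, hf⟩) hcs (𝟙 V)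
      (Category.id_comp _).symm φ hφ) := FG.lift_isHomLift hp _ _ _ _ _ _ _
    haveI : IsIso (FG.lift hp f (c ⟨Over.mk f, hf⟩) hcs (𝟙 V)
      (Category.id_comp _).symm φ hφ) := FG.isIso hp _ hl
    exact ⟨(D.obj ⟨Over.mk f, hf⟩).obj, asIso (FG.lift hp f (c ⟨Over.mk f, hf⟩) hcs (𝟙 V)
      (Category.id_comp _).symm φ hφ), (D.obj ⟨Over.mk f, hf⟩).property, hl⟩)
  refine ⟨⟨x', hx'⟩, fun s => ObjectProperty.homMk (c s ≫ e.hom), ?_, ?_, ?_⟩
  · change 𝒳.p.obj x' = U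
    exact IsHomLift.codomain_eq 𝒳.p (𝟙 U) e.hom
  · intro s
    rw [lift_iff]
    have := hc' s
    exact inferInstanceAs (𝒳.p.IsHomLift s.obj.hom (c s ≫ e.hom))
  · intro s s' g
    apply ObjectProperty.hom_ext
    change (D.map g).hom ≫ c s' ≫ e.hom = c s ≫ e.hom
    rw [← Category.assoc]
    congr 1
    exact hcomp g

end Eff

section Main

theorem isStack_sub {𝒳 : BasedCategory.{v₂, u₂} C} (J : GrothendieckTopology C)
    (h𝒳 : Stk.IsStack J 𝒳) (Q : ObjectProperty 𝒳.obj) (h1 : H1 Q)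
    (h3 : ∀ ⦃U : C⦄ (R : Sieve U), R ∈ J U → ∀ (x : 𝒳.obj), 𝒳.p.obj x = U →
      (∀ ⦃V : C⦄ (f : V ⟶ U), R f → ∀ (y : 𝒳.obj) (φ : y ⟶ x), 𝒳.p.IsHomLift f φ →
        ∃ (y' : 𝒳.obj) (e : y ≅ y'), Q y' ∧ 𝒳.p.IsHomLift (𝟙 V) e.hom) →
      ∃ (x' : 𝒳.obj) (e : x ≅ x'), Q x' ∧ 𝒳.p.IsHomLift (𝟙 U) e.hom) :
    Stk.IsStack J (sub Q) := by
  have hsub := isFibGrpd_sub h𝒳.1 h1
  refine ⟨hsub, fun U R hR => ?_⟩
  obtain ⟨ux, gx, ex⟩ := (isStackFor_iff R h𝒳.1).1 (h𝒳.2 R hR)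
  exact (isStackFor_iff R hsub).2 ⟨uniqMor_sub h1 R ux, glueMor_sub h1 R gx,
    effective_sub h𝒳.1 R ex (h3 R hR)⟩

end Main

end Groth.Agent.Lib.Helper27.StackSub
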