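import Groth.Agent.Lib.Helper27.StPointsOpen
import Groth.Agent.Lib.Helper27.AlgStackRep
import Groth.Agent.Lib.Helper27.StackSub
import Groth.Agent.Lib.Helper27.Descent3
import Groth.Agent.Lib.Helper27.MonoFF

/-!
# Open substacks from predicates with open loci (helper27)
-/

set_option autoImplicit false
set_option backward.isDefEq.respectTransparency false
set_option backward.isDefEq.respectTransparency.types false

universe v₂ u₂ u

open CategoryTheory CategoryTheory.Limits FibCat AlgebraicGeometry Opposite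
  Groth.Agent.Lib.Helper27.FpKit Groth.Agent.Lib.Helper27.PointsKit

namespace Groth.Agent.Lib.Helper27.OpenSub

variable {S : Scheme.{u}} {𝒳 : AlgSt.Cat S}

section Lift

variable {𝒜 : BasedCategory.{v₂, u₂} (Over S)} (Q : 𝒳.obj → Prop)

/-- The lift of a functor with values in `Q` to the full subcategory on `Q`. -/
def liftSub (F : 𝒜 ⥤ᵇ 𝒳) (hF : ∀ a, Q (F.toFunctor.obj a)) : 𝒜 ⥤ᵇ AlgSt.fullSub 𝒳 Q where
  toFunctor := ObjectProperty.lift Q F.toFunctor hF
  w := F.w

theorem liftSub_comp (F : 𝒜 ⥤ᵇ 𝒳) (hF : ∀ a, Q (F.toFunctor.obj a)) :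
    BasedFunctor.comp (liftSub Q F hF) (AlgSt.subIncl 𝒳 Q) = F := rfl

end Lift

section Equiv

variable (Q : 𝒳.obj → Prop) {T : Over S} (y : overCat T ⥤ᵇ 𝒳) (V : T.left.Opens)

/-- The open subscheme as a scheme over `S`. -/
noncomputable abbrev opObj : Over S := Over.mk (V.ι ≫ T.hom)

/-- The inclusion of the open subscheme, over `S`. -/
noncomputable abbrev opHom : opObj V ⟶ T := Over.homMk V.ι rfl

instance : Mono (opHom V) := by
  have : Mono (opHom V).left := inferInstanceAs (Mono V.ι)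
  exact Over.mono_of_mono_left _

variable (hq : ∀ g : Over (opObj V), Q (y.toFunctor.obj ((AlgSt.overMap (opHom V)).toFunctor.obj g)))

/-- The comparison functor from the slice of the open locus to the fibre product. -/
noncomputable def cmp : overCat (opObj V) ⥤ᵇ fp y (AlgSt.subIncl 𝒳 Q) :=
  fpLift (AlgSt.overMap (opHom V)) (liftSub Q (BasedFunctor.comp (AlgSt.overMap (opHom V)) y) hq)
    (Iso.refl _)

theorem cmp_fst : BasedFunctor.comp (cmp Q y V hq) (fpFst y (AlgSt.subIncl 𝒳 Q)) =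
    AlgSt.overMap (opHom V) := rfl

theorem cmp_map_fst {g g' : Over (opObj V)} (α : g ⟶ g') :
    ((cmp Q y V hq).toFunctor.map α).hom.fst = (Over.map (opHom V)).map α := rfl

theorem cmp_iso_hom (g : Over (opObj V)) :
    ((cmp Q y V hq).toFunctor.obj g).obj.iso.hom = 𝟙 _ := rfl

theorem cmp_faithful : (cmp Q y V hq).toFunctor.Faithful := by
  constructor
  intro g g' α α' h
  have h1 : (Over.map (opHom V)).map α = (Over.map (opHom V)).map α' := by
    rw [← cmp_map_fst Q y V hq α, ← cmp_map_fst Q y V hq α', h]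
  apply Over.OverMorphism.ext
  exact congrArg (fun k => k.left) h1

theorem cmp_full : (cmp Q y V hq).toFunctor.Full := by
  constructor
  intro g g' Φ
  have hw : Φ.hom.fst.left ≫ g'.hom = g.hom := by
    rw [← cancel_mono (opHom V), Category.assoc]
    exact Over.w Φ.hom.fst
  have hα : (Over.map (opHom V)).map (Over.homMk Φ.hom.fst.left hw : g ⟶ g') = Φ.hom.fst := by
    apply Over.OverMorphism.ext
    rfl
  refine ⟨Over.homMk Φ.hom.fst.left hw, ?_⟩
  apply Groth.Agent.Lib.Helper27.StackFp.hom_ext'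
  · rw [cmp_map_fst]
    exact hα
  · apply ObjectProperty.hom_ext
    have h1 := hom_w Φ
    rw [cmp_iso_hom, cmp_iso_hom, Category.comp_id, Category.id_comp] at h1
    change y.toFunctor.map ((Over.map (opHom V)).map (Over.homMk Φ.hom.fst.left hw : g ⟶ g')) =
      Φ.hom.snd.hom
    rw [hα]
    exact h1

variable (hpull : ∀ ⦃a b : 𝒳.obj⦄ (_ : a ⟶ b), Q b → Q a)
  (hloc : ∀ g : Over T, Q (y.toFunctor.obj g) → Set.range g.hom.left ⊆ (V : Set T.left))

include hpull hloc in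
theorem cmp_ess (s : (fp y (AlgSt.subIncl 𝒳 Q)).obj) :
    ∃ (g : Over (opObj V)) (e : (cmp Q y V hq).toFunctor.obj g ≅ s), Vert e.hom := by
  have hQ : Q (y.toFunctor.obj s.obj.fst) := hpull s.obj.iso.hom s.obj.snd.property
  have hr : Set.range s.obj.fst.hom.left ⊆ Set.range V.ι := by
    rw [Scheme.Opens.range_ι]
    exact hloc _ hQ
  have hfac := IsOpenImmersion.lift_fac V.ι s.obj.fst.hom.left hr
  have hw : IsOpenImmersion.lift V.ι s.obj.fst.hom.left hr ≫ (opObj V).hom = s.obj.fst.left.hom := by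
    change _ ≫ V.ι ≫ T.hom = _
    rw [← Category.assoc, hfac]
    exact Over.w s.obj.fst.hom
  let g : Over (opObj V) := Over.mk (Over.homMk (IsOpenImmersion.lift V.ι s.obj.fst.hom.left hr) hw :
    s.obj.fst.left ⟶ opObj V)
  have hε : (Iso.refl s.obj.fst.left).hom ≫ s.obj.fst.hom =
      ((Over.map (opHom V)).obj g).hom := by
    apply Over.OverMorphism.ext
    change 𝟙 _ ≫ s.obj.fst.hom.left = IsOpenImmersion.lift V.ι s.obj.fst.hom.left hr ≫ V.ι
    rw [hfac, Category.id_comp]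
  let ε : (Over.map (opHom V)).obj g ≅ s.obj.fst := Over.isoMk (Iso.refl _) hε
  let δ : (liftSub Q (BasedFunctor.comp (AlgSt.overMap (opHom V)) y) hq).toFunctor.obj g ≅
      s.obj.snd := ObjectProperty.isoMk Q (y.toFunctor.mapIso ε ≪≫ s.obj.iso)
  refine ⟨g, mkIso (t := (cmp Q y V hq).toFunctor.obj g) (t' := s) ε δ ?_, ?_⟩
  · rw [cmp_iso_hom, Category.id_comp]
    rfl
  · rw [vert_hom_iff]
    exact Vert.of_lift (U := s.obj.fst.left) (IsHomLift.of_fac _ _ _ rfl rfl (by
      rfl))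

include hpull hloc in
theorem isEquivOver_cmp : IsEquivOver (cmp Q y V hq) :=
  isEquivOver_of_ess _ (cmp_full Q y V hq) (cmp_faithful Q y V hq) (cmp_ess Q y V hq hpull hloc)

end Equiv

section Criterion

variable (Q : 𝒳.obj → Prop) (hpull : ∀ ⦃a b : 𝒳.obj⦄ (_ : a ⟶ b), Q b → Q a)
  (hlocus : ∀ (T : Over S) (y : overCat T ⥤ᵇ 𝒳), ∃ V : T.left.Opens,
    ∀ g : Over T, Q (y.toFunctor.obj g) ↔ Set.range g.hom.left ⊆ (V : Set T.left))

include hpull hlocus

theorem isOpenImm_subIncl : AlgSt.IsOpenImm (AlgSt.subIncl 𝒳 Q) := by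
  intro T y
  obtain ⟨V, hV⟩ := hlocus T y
  have hq : ∀ g : Over (opObj V),
      Q (y.toFunctor.obj ((AlgSt.overMap (opHom V)).toFunctor.obj g)) := by
    intro g
    rw [hV]
    rintro _ ⟨t, rfl⟩
    exact (g.hom.left t).2
  refine ⟨⟨(AlgSp.yon S).obj (opObj V), AlgSp.IsAlgSpace.yon_obj _⟩,
    BasedFunctor.comp (AlgSt.toOverCat (opObj V)) (cmp Q y V hq),
    isEquivOver_comp _ _ (Groth.Agent.Lib.Helper27.PshRep.isEquivOver_toOverCat _)
      (isEquivOver_cmp Q y V hq hpull (fun g hg => (hV g).1 hg)), ?_⟩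
  have h1 : AlgSt.spMapOfOver (BasedFunctor.comp
      (BasedFunctor.comp (AlgSt.toOverCat (opObj V)) (cmp Q y V hq))
      (fpFst y (AlgSt.subIncl 𝒳 Q))) = (AlgSp.yon S).map (opHom V) :=
    Groth.Agent.Lib.Helper27.Descent.spMapOfOver_ofSpMap ((AlgSp.yon S).map (opHom V))
  rw [h1]
  exact (AlgSp.repWith_yon_map_iff _ _).2 (inferInstanceAs (IsOpenImmersion V.ι))

theorem isOpenSubstack_of_locus (h𝒳 : AlgSt.IsAlgStack Scheme.fppfPrecoverage 𝒳) :
    AlgSt.IsOpenSubstack 𝒳 Q Scheme.fppfPrecoverage := by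
  have hOI := isOpenImm_subIncl Q hpull hlocus
  refine ⟨⟨fun e h => hpull e.inv h⟩, ?_, hOI⟩
  have hfib : FibCat.IsFibGrpd (AlgSt.fullSub 𝒳 Q).p :=
    Groth.Agent.Lib.Helper27.StackSub.isFibGrpd_sub h𝒳.isStack.1
      (fun y x φ hx => ⟨y, Iso.refl _, hpull φ hx, IsHomLift.id rfl⟩)
  exact Groth.Agent.Lib.Helper27.AlgStackRep.isAlgStack_of_repByAlgSp1 hfib h𝒳
    (AlgSt.subIncl 𝒳 Q) (fun U z => by
      obtain ⟨F, e, he, -⟩ := hOI U z
      exact ⟨F, e, he⟩)

end Criterion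

end Groth.Agent.Lib.Helper27.OpenSub
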