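import Groth.Agent.Lib.Helper27.OpenSub

/-!
# The open substack attached to an open set of points (helper27)
-/

set_option autoImplicit false
set_option backward.isDefEq.respectTransparency false
set_option backward.isDefEq.respectTransparency.types false

universe u

open CategoryTheory CategoryTheory.Limits FibCat AlgebraicGeometry Opposite
  Groth.Agent.Lib.Helper27.FpKit Groth.Agent.Lib.Helper27.PointsKit
  Groth.Agent.Lib.Helper27.StPoints

namespace Groth.Agent.Lib.Helper27.OpenSub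

variable {S : Scheme.{u}} {𝒳 : AlgSt.Cat S}

/-- The predicate on objects attached to a set of points: every field-valued point mapping to
the object has its class in the set. -/
def QW (W : Set (AlgSt.Points 𝒳)) : 𝒳.obj → Prop :=
  fun a => ∀ p : AlgSt.FPt 𝒳, Nonempty (p.obj ⟶ a) → AlgSt.Points.mk p ∈ W

theorem QW_pull (W : Set (AlgSt.Points 𝒳)) ⦃a b : 𝒳.obj⦄ (φ : a ⟶ b) (h : QW W b) : QW W a :=
  fun p ⟨ψ⟩ => h p ⟨ψ ≫ φ⟩

theorem QW_mono {W W' : Set (AlgSt.Points 𝒳)} (h : W ⊆ W') (a : 𝒳.obj) (ha : QW W a) :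
    QW W' a :=
  fun p hp => h (ha p hp)

theorem QW_obj {W : Set (AlgSt.Points 𝒳)} (p : AlgSt.FPt 𝒳) (hp : AlgSt.Points.mk p ∈ W) :
    QW W p.obj := by
  rintro p' ⟨ψ⟩
  rw [AlgSt.Points.sound (rel_of_hom ψ)]
  exact hp

theorem range_subIncl_QW (W : Set (AlgSt.Points 𝒳)) :
    Set.range (AlgSt.Points.map (AlgSt.subIncl 𝒳 (QW W))) = W := by
  ext x
  constructor
  · rintro ⟨q, rfl⟩
    obtain ⟨q, rfl⟩ := AlgSt.Points.mk_surjective q
    exact q.obj.property (q.map (AlgSt.subIncl 𝒳 (QW W))) ⟨𝟙 _⟩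
  · intro hx
    obtain ⟨p, rfl⟩ := AlgSt.Points.mk_surjective x
    exact ⟨AlgSt.Points.mk { K := p.K, str := p.str, obj := ⟨p.obj, QW_obj p hx⟩, lies := p.lies },
      rfl⟩

theorem QW_locus (h𝒳 : AlgSt.IsAlgStack Scheme.fppfPrecoverage 𝒳) (W : Set (AlgSt.Points 𝒳))
    (hW : IsOpen W) (T : Over S) (y : overCat T ⥤ᵇ 𝒳) :
    ∃ V : T.left.Opens, ∀ g : Over T,
      QW W (y.toFunctor.obj g) ↔ Set.range g.hom.left ⊆ (V : Set T.left) := by
  refine ⟨⟨AlgSt.Points.ofChart y ⁻¹' W, (continuous_ofChart h𝒳 y).isOpen_preimage W hW⟩, ?_⟩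
  intro g
  constructor
  · intro h
    rintro _ ⟨t', rfl⟩
    change AlgSt.Points.ofChart y (g.hom.left t') ∈ W
    rw [← ofChart_overMap g.hom y t']
    exact h _ ⟨y.toFunctor.map (Over.homMk (Over.homMk (g.left.left.fromSpecResidueField t') rfl :
      Over.mk (g.left.left.fromSpecResidueField t' ≫ g.left.hom) ⟶ g.left) rfl)⟩
  · intro hr p hp
    obtain ⟨ψ⟩ := hp
    obtain ⟨k, hk⟩ : ∃ k : Over.mk p.str ⟶ g.left,
        k = eqToHom p.lies.symm ≫ 𝒳.p.map ψ ≫ eqToHom (y.w_obj g) := ⟨_, rfl⟩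
    have hl : 𝒳.p.IsHomLift k ψ := by
      rw [hk]
      exact IsHomLift.of_fac _ _ _ p.lies (y.w_obj g) rfl
    let μ : Over.mk (k ≫ g.hom) ⟶ g := Over.homMk k rfl
    have hμ : (overCat T).p.IsHomLift k μ :=
      inferInstanceAs ((overCat T).p.IsHomLift ((overCat T).p.map μ) μ)
    have hl' : 𝒳.p.IsHomLift k (y.toFunctor.map μ) := inferInstance
    obtain ⟨e, -, -⟩ := exists_vert_iso h𝒳.isStack.1 k ψ (y.toFunctor.map μ)
    let q₀ : AlgSt.FPt (overCat g.left) := { K := p.K, str := p.str, obj := Over.mk k, lies := rfl }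
    have h1 : AlgSt.Points.mk p =
        AlgSt.Points.map y (AlgSt.Points.map (AlgSt.overMap g.hom) (AlgSt.Points.mk q₀)) :=
      AlgSt.Points.sound (rel_of_hom (q := (q₀.map (AlgSt.overMap g.hom)).map y) e.hom)
    obtain ⟨t', ht'⟩ := (ptOf_bijective g.left).2 (AlgSt.Points.mk q₀)
    rw [h1, ← ht', map_overMap_ptOf, ← ofChart_eq]
    exact hr ⟨t', rfl⟩

theorem isOpenSubstack_QW (h𝒳 : AlgSt.IsAlgStack Scheme.fppfPrecoverage 𝒳)
    (W : Set (AlgSt.Points 𝒳)) (hW : IsOpen W) :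
    AlgSt.IsOpenSubstack 𝒳 (QW W) Scheme.fppfPrecoverage :=
  isOpenSubstack_of_locus (QW W) (QW_pull W) (QW_locus h𝒳 W hW) h𝒳

section Char

variable {Q : 𝒳.obj → Prop}

/-- Open substacks are stable under pullback. -/
theorem pull_of_isOpenSubstack (h𝒳 : FibCat.IsFibGrpd 𝒳.p) {K : Precoverage Scheme.{u}}
    (hQ : AlgSt.IsOpenSubstack 𝒳 Q K) ⦃a b : 𝒳.obj⦄ (φ : a ⟶ b) (hb : Q b) : Q a := by
  have hfib : FibCat.IsFibGrpd (AlgSt.fullSub 𝒳 Q).p := hQ.2.1.isStack.1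
  obtain ⟨y', φ', hφ'⟩ := hfib.exists_lift (x := (⟨b, hb⟩ : (AlgSt.fullSub 𝒳 Q).obj)) (𝒳.p.map φ)
  have h1 : 𝒳.p.IsHomLift (𝒳.p.map φ) φ'.hom :=
    (Groth.Agent.Lib.Helper27.StackSub.lift_iff (Q := Q) φ' (𝒳.p.map φ)).1 hφ'
  obtain ⟨e, -, -⟩ := exists_vert_iso h𝒳 (𝒳.p.map φ) φ φ'.hom
  have := hQ.1
  exact ObjectProperty.IsClosedUnderIsomorphisms.of_iso e.symm y'.property

end Char

end Groth.Agent.Lib.Helper27.OpenSub
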