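import Groth.Agent.Lib.Helper27.OpenSub
import Groth.Prelude.Def_W4c2isonaturalstkIso

/-!
# Open subfunctors of the presheaf of isomorphism classes give open substacks (helper27)
-/

set_option autoImplicit false
set_option backward.isDefEq.respectTransparency false
set_option backward.isDefEq.respectTransparency.types false

universe u

open CategoryTheory CategoryTheory.Limits FibCat AlgebraicGeometry Opposite

namespace Groth.Agent.Lib.Helper27.OpenSub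

variable {S : Scheme.{u}} {𝒴 : AlgSt.Cat S}

theorem cls_mem_iff (W : ∀ T : Over S, Set (IsoNat.IsoCl 𝒴 T)) {η : 𝒴.obj} {U : Over S}
    (h : 𝒴.p.obj η = U) :
    IsoNat.cls (⟨η, h⟩ : 𝒴.p.Fiber U) ∈ W U ↔
      IsoNat.cls (⟨η, rfl⟩ : 𝒴.p.Fiber (𝒴.p.obj η)) ∈ W (𝒴.p.obj η) := by
  subst h
  rfl

theorem isOpenSubstack_of_open_subfunctor
    (h𝒴 : AlgSt.IsAlgStack Scheme.fppfPrecoverage 𝒴)
    (W : ∀ T : Over S, Set (IsoNat.IsoCl 𝒴 T))
    (hWpull : ∀ (T' T : Over S) (g : T' ⟶ T) (x' : 𝒴.p.Fiber T') (x : 𝒴.p.Fiber T) (a : x'.1 ⟶ x.1),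
      𝒴.p.IsHomLift g a → IsoNat.cls x ∈ W T → IsoNat.cls x' ∈ W T')
    (hWopen : ∀ (T : Over S) (x : 𝒴.p.Fiber T), ∃ V : T.left.Opens,
      ∀ (T' : Over S) (g : T' ⟶ T) (x' : 𝒴.p.Fiber T') (a : x'.1 ⟶ x.1), 𝒴.p.IsHomLift g a →
        (IsoNat.cls x' ∈ W T' ↔ ∃ g' : T'.left ⟶ ↑V, g' ≫ V.ι = g.left)) :
    AlgSt.IsOpenSubstack 𝒴
      (fun η => IsoNat.cls (⟨η, rfl⟩ : 𝒴.p.Fiber (𝒴.p.obj η)) ∈ W (𝒴.p.obj η))
      Scheme.fppfPrecoverage := by
  apply isOpenSubstack_of_locus _ _ _ h𝒴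
  · intro a b φ hb
    exact hWpull (𝒴.p.obj a) (𝒴.p.obj b) (𝒴.p.map φ) ⟨a, rfl⟩ ⟨b, rfl⟩ φ inferInstance hb
  · intro T y
    obtain ⟨V, hV⟩ := hWopen T ⟨y.toFunctor.obj (Over.mk (𝟙 T)), y.w_obj _⟩
    refine ⟨V, fun g => ?_⟩
    have hμ : (overCat T).p.IsHomLift g.hom (Over.homMk g.hom (Category.comp_id _) :
        g ⟶ Over.mk (𝟙 T)) :=
      inferInstanceAs ((overCat T).p.IsHomLift ((overCat T).p.map
        (Over.homMk g.hom (Category.comp_id _) : g ⟶ Over.mk (𝟙 T))) _)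
    have hl : 𝒴.p.IsHomLift g.hom (y.toFunctor.map (Over.homMk g.hom (Category.comp_id _) :
        g ⟶ Over.mk (𝟙 T))) := inferInstance
    have h1 := hV g.left g.hom ⟨y.toFunctor.obj g, y.w_obj g⟩
      (y.toFunctor.map (Over.homMk g.hom (Category.comp_id _) : g ⟶ Over.mk (𝟙 T))) hl
    refine ((cls_mem_iff W (U := g.left) (y.w_obj g)).symm.trans h1).trans ?_
    constructor
    · rintro ⟨g', hg'⟩ _ ⟨t, rfl⟩
      rw [← hg']
      exact (g' t).2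
    · intro hr
      have hr' : Set.range g.hom.left ⊆ Set.range V.ι := by
        rw [Scheme.Opens.range_ι]
        exact hr
      exact ⟨IsOpenImmersion.lift V.ι g.hom.left hr', IsOpenImmersion.lift_fac _ _ _⟩

end Groth.Agent.Lib.Helper27.OpenSub
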