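import Groth.Prelude.Def_FibCat2
import Groth.Agent.Lib.Helper27.TwoYoneda
import Groth.Agent.Lib.Helper27.StackLocal
import Groth.Agent.Lib.Helper27.DiagEquiv

/-!
# Fully faithful functors over `C` and postcomposition on `C/U ⟶ 𝒳` (helper27)
-/

set_option autoImplicit false
set_option backward.isDefEq.respectTransparency false
set_option backward.isDefEq.respectTransparency.types false

universe v u

open CategoryTheory Groth.Agent.Lib.Helper27.DescentKit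
  Groth.Agent.Lib.Helper16.FpFibGrpd

namespace Groth.Agent.Lib.Helper27.PostcompFF

variable {C : Type u} [Category.{v} C] {𝒳 𝒴 : BasedCategory.{v, max u v} C}
  (h𝒳 : FibCat.IsFibGrpd 𝒳.p) (h𝒴 : FibCat.IsFibGrpd 𝒴.p) (F : 𝒳 ⟶ 𝒴)

open FibCat

theorem postcomp_map_app (U : C) {H H' : overCat U ⟶ 𝒳} (α : H ⟶ H') (g : Over U) :
    ((Bicategory.postcomp (overCat U) F).map α).toNatTrans.app g = F.map (α.toNatTrans.app g) :=
  rfl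

theorem postcomp_faithful [F.toFunctor.Faithful] (U : C) :
    (Bicategory.postcomp (FibCat.overCat U) F).Faithful := by
  constructor
  intro H H' α α' h
  apply BasedNatTrans.homCategory.ext
  ext g
  apply F.toFunctor.map_injective
  have := congrArg (fun γ => (BasedNatTrans.toNatTrans γ).app g) h
  exact this

theorem postcomp_full [F.toFunctor.Full] [F.toFunctor.Faithful] (U : C) :
    (Bicategory.postcomp (FibCat.overCat U) F).Full := by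
  constructor
  intro H H' β
  have hβl : ∀ g : Over U, 𝒴.p.IsHomLift (𝟙 g.left) (β.toNatTrans.app g) :=
    fun g => BasedNatTrans.isHomLift β rfl
  let α : H ⟶ H' :=
    { toNatTrans :=
        { app := fun g => F.toFunctor.preimage
            (β.toNatTrans.app g : F.toFunctor.obj (H.obj g) ⟶ F.toFunctor.obj (H'.obj g))
          naturality := by
            intro g g' k
            apply F.toFunctor.map_injective
            rw [F.toFunctor.map_comp, F.toFunctor.map_comp, F.toFunctor.map_preimage,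
              F.toFunctor.map_preimage]
            exact β.toNatTrans.naturality k }
      isHomLift' := fun g => by
        apply (BasedFunctor.isHomLift_iff F _ _).1
        change 𝒴.p.IsHomLift _ (F.toFunctor.map (F.toFunctor.preimage _))
        rw [F.toFunctor.map_preimage]
        exact hβl g }
  refine ⟨α, ?_⟩
  apply BasedNatTrans.homCategory.ext
  ext g
  change F.toFunctor.map (F.toFunctor.preimage _) = _
  rw [F.toFunctor.map_preimage]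

include h𝒳 h𝒴 in
theorem faithful_of_postcomp
    (h : ∀ U : C, (Bicategory.postcomp (FibCat.overCat U) F).Faithful) :
    F.toFunctor.Faithful := by
  apply Groth.Agent.Lib.Helper27.StackLocal.faithful_of_aut h𝒳 h𝒴 F
  intro t α hα hFα
  have hc : cleaveHom h𝒳 rfl rfl α hα = 𝟙 (cleave h𝒳 t rfl) := by
    apply (h (𝒳.p.obj t)).map_injective
    apply BasedNatTrans.homCategory.ext
    ext g
    change F.map (cleaveHomApp h𝒳 rfl rfl α hα g) = F.map (𝟙 _)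
    have hl := cleaveHomApp_isHomLift h𝒳 rfl rfl α hα g
    have hp1 := pbHom_isHomLift h𝒳 t rfl g
    have h1 : 𝒴.p.IsHomLift (𝟙 g.left) (F.map (cleaveHomApp h𝒳 rfl rfl α hα g)) := inferInstance
    have h2 : 𝒴.p.IsHomLift (𝟙 g.left) (F.map (𝟙 (pbObj h𝒳 t rfl g))) := by
      rw [F.map_id]
      exact IsHomLift.id ((F.w_obj _).trans (p_pbObj h𝒳 t rfl g))
    have h3 : 𝒴.p.IsHomLift g.hom (F.map (pbHom h𝒳 t rfl g)) := inferInstance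
    refine FG.cancel h𝒴 g.hom (F.map (pbHom h𝒳 t rfl g)) h3 (𝟙 g.left) h1 h2 ?_
    rw [← F.map_comp, ← F.map_comp, cleaveHomApp_fac, Category.id_comp, F.map_comp, hFα,
      Category.comp_id]
  have e : cleaveHomApp h𝒳 rfl rfl α hα (Over.mk (𝟙 (𝒳.p.obj t))) = 𝟙 _ :=
    congrArg (fun γ => (BasedNatTrans.toNatTrans γ).app (Over.mk (𝟙 (𝒳.p.obj t)))) hc
  have hfac := cleaveHomApp_fac h𝒳 rfl rfl α hα (Over.mk (𝟙 (𝒳.p.obj t)))
  rw [e, Category.id_comp] at hfac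
  have hl := pbHom_isHomLift h𝒳 t rfl (Over.mk (𝟙 (𝒳.p.obj t)))
  haveI : IsIso (pbHom h𝒳 t rfl (Over.mk (𝟙 (𝒳.p.obj t)))) := FG.isIso h𝒳 _ hl
  have : pbHom h𝒳 t rfl (Over.mk (𝟙 (𝒳.p.obj t))) ≫ α =
      pbHom h𝒳 t rfl (Over.mk (𝟙 (𝒳.p.obj t))) ≫ 𝟙 t := by
    rw [Category.comp_id]; exact hfac.symm
  exact (cancel_epi _).1 this

include h𝒳 h𝒴 in
theorem full_of_postcomp
    (h : ∀ U : C, (Bicategory.postcomp (FibCat.overCat U) F).Full) :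
    F.toFunctor.Full := by
  constructor
  intro x x' ψ
  obtain ⟨f, hf⟩ := Groth.Agent.Lib.Helper27.DiagEquiv.exists_base 𝒴.p ψ (F.w_obj x) (F.w_obj x')
  have hφ : 𝒳.p.IsHomLift f (pbHom h𝒳 x' rfl (Over.mk f)) := pbHom_isHomLift h𝒳 x' rfl (Over.mk f)
  have hFφ : 𝒴.p.IsHomLift f (F.map (pbHom h𝒳 x' rfl (Over.mk f))) := inferInstance
  have hz : 𝒳.p.obj (pbObj h𝒳 x' rfl (Over.mk f)) = 𝒳.p.obj x := p_pbObj h𝒳 x' rfl (Over.mk f)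
  have hψ₀l : 𝒴.p.IsHomLift (𝟙 (𝒳.p.obj x)) (FG.lift h𝒴 f (F.map (pbHom h𝒳 x' rfl (Over.mk f)))
      hFφ (𝟙 _) (Category.id_comp _).symm ψ hf) := FG.lift_isHomLift h𝒴 _ _ _ _ _ _ _
  have hψ₀ : FG.lift h𝒴 f (F.map (pbHom h𝒳 x' rfl (Over.mk f))) hFφ (𝟙 _)
      (Category.id_comp _).symm ψ hf ≫ F.map (pbHom h𝒳 x' rfl (Over.mk f)) = ψ :=
    FG.lift_fac h𝒴 _ _ _ _ _ _ _
  -- the two cleavage functors
  have hx1 := pbHom_isHomLift h𝒳 x rfl (Over.mk (𝟙 (𝒳.p.obj x)))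
  have hx1' : 𝒳.p.IsHomLift (𝟙 (𝒳.p.obj x)) (pbHom h𝒳 x rfl (Over.mk (𝟙 (𝒳.p.obj x)))) := hx1
  have hz1 := pbHom_isHomLift h𝒳 (pbObj h𝒳 x' rfl (Over.mk f)) hz (Over.mk (𝟙 (𝒳.p.obj x)))
  have hz1' : 𝒳.p.IsHomLift (𝟙 (𝒳.p.obj x))
      (pbHom h𝒳 (pbObj h𝒳 x' rfl (Over.mk f)) hz (Over.mk (𝟙 (𝒳.p.obj x)))) := hz1
  haveI : IsIso (pbHom h𝒳 x rfl (Over.mk (𝟙 (𝒳.p.obj x)))) := FG.isIso h𝒳 _ hx1'
  haveI : IsIso (pbHom h𝒳 (pbObj h𝒳 x' rfl (Over.mk f)) hz (Over.mk (𝟙 (𝒳.p.obj x)))) :=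
    FG.isIso h𝒳 _ hz1'
  have hFx1 : 𝒴.p.IsHomLift (𝟙 (𝒳.p.obj x))
      (F.map (pbHom h𝒳 x rfl (Over.mk (𝟙 (𝒳.p.obj x))))) := inferInstance
  have hFz1 : 𝒴.p.IsHomLift (𝟙 (𝒳.p.obj x))
      (F.map (pbHom h𝒳 (pbObj h𝒳 x' rfl (Over.mk f)) hz (Over.mk (𝟙 (𝒳.p.obj x))))) :=
    inferInstance
  have hFz1i : 𝒴.p.IsHomLift (𝟙 (𝒳.p.obj x))
      (inv (F.map (pbHom h𝒳 (pbObj h𝒳 x' rfl (Over.mk f)) hz (Over.mk (𝟙 (𝒳.p.obj x)))))) :=
    inferInstance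
  have h5 : 𝒴.p.IsHomLift (𝟙 (𝒳.p.obj x)) (FG.lift h𝒴 f (F.map (pbHom h𝒳 x' rfl (Over.mk f)))
      hFφ (𝟙 _) (Category.id_comp _).symm ψ hf ≫
      inv (F.map (pbHom h𝒳 (pbObj h𝒳 x' rfl (Over.mk f)) hz (Over.mk (𝟙 (𝒳.p.obj x)))))) :=
    inferInstance
  have h6 : 𝒴.p.IsHomLift (𝟙 (𝒳.p.obj x))
      (F.map (pbHom h𝒳 x rfl (Over.mk (𝟙 (𝒳.p.obj x)))) ≫
      FG.lift h𝒴 f (F.map (pbHom h𝒳 x' rfl (Over.mk f)))
      hFφ (𝟙 _) (Category.id_comp _).symm ψ hf ≫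
      inv (F.map (pbHom h𝒳 (pbObj h𝒳 x' rfl (Over.mk f)) hz (Over.mk (𝟙 (𝒳.p.obj x)))))) :=
    inferInstance
  let H : overCat (𝒳.p.obj x) ⟶ 𝒳 := cleave h𝒳 x rfl
  let H' : overCat (𝒳.p.obj x) ⟶ 𝒳 := cleave h𝒳 (pbObj h𝒳 x' rfl (Over.mk f)) hz
  let e : (evalAtId 𝒴 (𝒳.p.obj x)).obj (H ≫ F) ⟶ (evalAtId 𝒴 (𝒳.p.obj x)).obj (H' ≫ F) :=
    ⟨F.map (pbHom h𝒳 x rfl (Over.mk (𝟙 (𝒳.p.obj x)))) ≫
      FG.lift h𝒴 f (F.map (pbHom h𝒳 x' rfl (Over.mk f)))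
      hFφ (𝟙 _) (Category.id_comp _).symm ψ hf ≫
      inv (F.map (pbHom h𝒳 (pbObj h𝒳 x' rfl (Over.mk f)) hz (Over.mk (𝟙 (𝒳.p.obj x))))), h6⟩
  obtain ⟨β, hβ⟩ := (Groth.Agent.Lib.Helper27.TwoYoneda.evalAtId_full h𝒴
    (𝒳.p.obj x)).map_surjective e
  have hβ' : β.toNatTrans.app (Over.mk (𝟙 (𝒳.p.obj x))) =
      F.map (pbHom h𝒳 x rfl (Over.mk (𝟙 (𝒳.p.obj x)))) ≫
      FG.lift h𝒴 f (F.map (pbHom h𝒳 x' rfl (Over.mk f)))
      hFφ (𝟙 _) (Category.id_comp _).symm ψ hf ≫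
      inv (F.map (pbHom h𝒳 (pbObj h𝒳 x' rfl (Over.mk f)) hz (Over.mk (𝟙 (𝒳.p.obj x))))) :=
    congrArg Subtype.val hβ
  obtain ⟨α, hα⟩ := (h (𝒳.p.obj x)).map_surjective β
  have hα' : F.map (α.toNatTrans.app (Over.mk (𝟙 (𝒳.p.obj x)))) =
      β.toNatTrans.app (Over.mk (𝟙 (𝒳.p.obj x))) :=
    congrArg (fun γ => (BasedNatTrans.toNatTrans γ).app (Over.mk (𝟙 (𝒳.p.obj x)))) hα
  refine ⟨inv (pbHom h𝒳 x rfl (Over.mk (𝟙 (𝒳.p.obj x)))) ≫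
    α.toNatTrans.app (Over.mk (𝟙 (𝒳.p.obj x))) ≫
    pbHom h𝒳 (pbObj h𝒳 x' rfl (Over.mk f)) hz (Over.mk (𝟙 (𝒳.p.obj x))) ≫
    pbHom h𝒳 x' rfl (Over.mk f), ?_⟩
  change F.map _ = ψ
  rw [F.map_comp, F.map_comp, F.map_comp, hα', hβ']
  have hinv : F.map (inv (pbHom h𝒳 x rfl (Over.mk (𝟙 (𝒳.p.obj x))))) =
      inv (F.map (pbHom h𝒳 x rfl (Over.mk (𝟙 (𝒳.p.obj x))))) :=
    Functor.map_inv F.toFunctor _
  rw [hinv]
  simp only [Category.assoc, IsIso.inv_hom_id_assoc, IsIso.inv_hom_id, Category.comp_id]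
  exact hψ₀

include h𝒳 h𝒴 in
theorem ff_iff_postcomp :
    (F.toFunctor.Full ∧ F.toFunctor.Faithful) ↔
      ∀ U : C, (Bicategory.postcomp (FibCat.overCat U) F).Full ∧
        (Bicategory.postcomp (FibCat.overCat U) F).Faithful := by
  constructor
  · rintro ⟨h1, h2⟩ U
    exact ⟨postcomp_full F U, postcomp_faithful F U⟩
  · intro h
    exact ⟨full_of_postcomp h𝒳 h𝒴 F (fun U => (h U).1),
      faithful_of_postcomp h𝒳 h𝒴 F (fun U => (h U).2)⟩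

end Groth.Agent.Lib.Helper27.PostcompFF
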