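import Mathlib.RingTheory.PowerSeries.Substitution
import Mathlib.RingTheory.PowerSeries.Inverse
import Mathlib.RingTheory.MvPowerSeries.Equiv
import Mathlib.RingTheory.MvPowerSeries.Rename
import Mathlib.RingTheory.MvPowerSeries.Substitution
import Mathlib.RingTheory.MvPowerSeries.Inverse

/-!
# Automorphisms of power series rings given by substitutions (helper27)

* `psSubstEquiv P` : for `P : S⟦X⟧` with zero constant coefficient and unit linear coefficient,
  the `S`-algebra automorphism `f ↦ f(P)` of `S⟦X⟧`.
* `scaleAut0 W` : the `R`-algebra automorphism of `R⟦X₀,…,Xₙ⟧` with `X₀ ↦ X₀ * W`, `Xⱼ ↦ Xⱼ` (j ≠ 0),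
  for `W` with unit constant coefficient.
* `scaleAut i W` : same for the variable `Xᵢ`.
* `shiftAut` : `Xᵢ ↦ Xᵢ + g`.
-/

set_option autoImplicit false

namespace Groth.Agent.Lib.Helper27

section OneVar

variable {S : Type*} [CommRing S]

/-- Substitution by `P` as an `S`-algebra automorphism of `S⟦X⟧`. -/
noncomputable def psSubstEquiv (P : PowerSeries S) (hP : PowerSeries.constantCoeff P = 0)
    (hP' : IsUnit (PowerSeries.coeff 1 P)) : PowerSeries S ≃ₐ[S] PowerSeries S :=
  AlgEquiv.ofAlgHom
    (PowerSeries.substAlgHom (PowerSeries.HasSubst.of_constantCoeff_zero' hP))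
    (PowerSeries.substAlgHom (PowerSeries.HasSubst.substInvOfIsUnit P hP'))
    (by
      ext f : 1
      simp only [AlgHom.comp_apply, PowerSeries.coe_substAlgHom, AlgHom.id_apply]
      rw [PowerSeries.subst_comp_subst_apply (PowerSeries.HasSubst.substInvOfIsUnit P hP')
        (PowerSeries.HasSubst.of_constantCoeff_zero' hP),
        PowerSeries.subst_substInvOfIsUnit_left P hP hP', PowerSeries.X_subst])
    (by
      ext f : 1
      simp only [AlgHom.comp_apply, PowerSeries.coe_substAlgHom, AlgHom.id_apply]
      rw [PowerSeries.subst_comp_subst_apply (PowerSeries.HasSubst.of_constantCoeff_zero' hP)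
        (PowerSeries.HasSubst.substInvOfIsUnit P hP'),
        PowerSeries.subst_substInvOfIsUnit_right P hP hP', PowerSeries.X_subst])

lemma psSubstEquiv_apply (P : PowerSeries S) (hP : PowerSeries.constantCoeff P = 0)
    (hP' : IsUnit (PowerSeries.coeff 1 P)) (f : PowerSeries S) :
    psSubstEquiv P hP hP' f = f.subst P := by
  simp [psSubstEquiv, PowerSeries.coe_substAlgHom]

lemma psSubstEquiv_X (P : PowerSeries S) (hP : PowerSeries.constantCoeff P = 0)
    (hP' : IsUnit (PowerSeries.coeff 1 P)) :
    psSubstEquiv P hP hP' PowerSeries.X = P := by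
  rw [psSubstEquiv_apply, PowerSeries.subst_X (PowerSeries.HasSubst.of_constantCoeff_zero' hP)]

lemma psSubstEquiv_C (P : PowerSeries S) (hP : PowerSeries.constantCoeff P = 0)
    (hP' : IsUnit (PowerSeries.coeff 1 P)) (s : S) :
    psSubstEquiv P hP hP' (PowerSeries.C s) = PowerSeries.C s := by
  have := (psSubstEquiv P hP hP').commutes s
  simpa using this

end OneVar

section MultiVar

variable {R : Type*} [CommRing R] {n : ℕ}

open MvPowerSeries

lemma isUnit_constantCoeff_finSuccEquiv {W : MvPowerSeries (Fin (n + 1)) R}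
    (hW : IsUnit (MvPowerSeries.constantCoeff W)) :
    IsUnit (PowerSeries.coeff 1 (PowerSeries.X * MvPowerSeries.finSuccEquiv R n W)) := by
  have h1 : PowerSeries.coeff 1 (PowerSeries.X * MvPowerSeries.finSuccEquiv R n W) =
      PowerSeries.coeff 0 (MvPowerSeries.finSuccEquiv R n W) :=
    PowerSeries.coeff_succ_X_mul 0 _
  rw [h1, MvPowerSeries.isUnit_iff_constantCoeff]
  have : MvPowerSeries.constantCoeff (PowerSeries.coeff 0 (MvPowerSeries.finSuccEquiv R n W)) =
      MvPowerSeries.constantCoeff W := by
    rw [← MvPowerSeries.coeff_zero_eq_constantCoeff_apply,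
      ← MvPowerSeries.coeff_zero_eq_constantCoeff_apply, MvPowerSeries.coeff_coeff_finSuccEquiv,
      Finsupp.cons_zero_zero]
  rwa [this]

/-- The automorphism `X₀ ↦ X₀ * W`, `Xⱼ ↦ Xⱼ` for `j ≠ 0`. -/
noncomputable def scaleAut0 (W : MvPowerSeries (Fin (n + 1)) R)
    (hW : IsUnit (MvPowerSeries.constantCoeff W)) :
    MvPowerSeries (Fin (n + 1)) R ≃ₐ[R] MvPowerSeries (Fin (n + 1)) R :=
  (MvPowerSeries.finSuccEquiv R n).trans
    (((psSubstEquiv (PowerSeries.X * MvPowerSeries.finSuccEquiv R n W) (by simp)
      (isUnit_constantCoeff_finSuccEquiv hW)).restrictScalars R).trans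
      (MvPowerSeries.finSuccEquiv R n).symm)

lemma finSuccEquiv_scaleAut0 (W : MvPowerSeries (Fin (n + 1)) R)
    (hW : IsUnit (MvPowerSeries.constantCoeff W)) (f : MvPowerSeries (Fin (n + 1)) R) :
    MvPowerSeries.finSuccEquiv R n (scaleAut0 W hW f) =
      (MvPowerSeries.finSuccEquiv R n f).subst
        (PowerSeries.X * MvPowerSeries.finSuccEquiv R n W) := by
  simp [scaleAut0, psSubstEquiv_apply]

lemma scaleAut0_X_zero (W : MvPowerSeries (Fin (n + 1)) R)
    (hW : IsUnit (MvPowerSeries.constantCoeff W)) :
    scaleAut0 W hW (X 0) = X 0 * W := by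
  apply (MvPowerSeries.finSuccEquiv R n).injective
  rw [finSuccEquiv_scaleAut0, map_mul, MvPowerSeries.finSuccEquiv_X_zero,
    PowerSeries.subst_X (PowerSeries.HasSubst.of_constantCoeff_zero' (by simp))]

lemma scaleAut0_fix (W : MvPowerSeries (Fin (n + 1)) R)
    (hW : IsUnit (MvPowerSeries.constantCoeff W)) (s : MvPowerSeries (Fin n) R) :
    scaleAut0 W hW ((MvPowerSeries.finSuccEquiv R n).symm (PowerSeries.C s)) =
      (MvPowerSeries.finSuccEquiv R n).symm (PowerSeries.C s) := by
  apply (MvPowerSeries.finSuccEquiv R n).injective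
  rw [finSuccEquiv_scaleAut0, AlgEquiv.apply_symm_apply, PowerSeries.subst_C]
  rfl

lemma scaleAut0_X_succ (W : MvPowerSeries (Fin (n + 1)) R)
    (hW : IsUnit (MvPowerSeries.constantCoeff W)) (j : Fin n) :
    scaleAut0 W hW (X j.succ) = X j.succ := by
  have := scaleAut0_fix W hW (X j)
  rwa [← MvPowerSeries.finSuccEquiv_X_succ, AlgEquiv.symm_apply_apply] at this

lemma scaleAut0_X_ne (W : MvPowerSeries (Fin (n + 1)) R)
    (hW : IsUnit (MvPowerSeries.constantCoeff W)) (j : Fin (n + 1)) (hj : j ≠ 0) :
    scaleAut0 W hW (X j) = X j := by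
  obtain ⟨k, rfl⟩ := Fin.exists_succ_eq.mpr hj
  exact scaleAut0_X_succ W hW k

lemma constantCoeff_finSuccEquiv_symm_C (s : MvPowerSeries (Fin n) R) :
    MvPowerSeries.constantCoeff ((MvPowerSeries.finSuccEquiv R n).symm (PowerSeries.C s)) =
      MvPowerSeries.constantCoeff s := by
  have := MvPowerSeries.coeff_coeff_finSuccEquiv
    ((MvPowerSeries.finSuccEquiv R n).symm (PowerSeries.C s)) (k := 0) (x := 0)
  rw [AlgEquiv.apply_symm_apply, Finsupp.cons_zero_zero] at this
  simpa using this.symm

lemma algEquiv_C {σ : Type*} (ψ : MvPowerSeries σ R ≃ₐ[R] MvPowerSeries σ R) (r : R) :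
    ψ (C r) = C r := by
  have := ψ.commutes r
  simpa [MvPowerSeries.algebraMap_apply] using this

/-- The automorphism `Xᵢ ↦ Xᵢ * W`, `Xⱼ ↦ Xⱼ` for `j ≠ i`. -/
noncomputable def scaleAut (i : Fin (n + 1)) (W : MvPowerSeries (Fin (n + 1)) R)
    (hW : IsUnit (MvPowerSeries.constantCoeff W)) :
    MvPowerSeries (Fin (n + 1)) R ≃ₐ[R] MvPowerSeries (Fin (n + 1)) R :=
  (MvPowerSeries.renameEquiv R (Equiv.swap 0 i)).trans
    ((scaleAut0 (MvPowerSeries.renameEquiv R (Equiv.swap 0 i) W)
      (by
        have : MvPowerSeries.constantCoeff (MvPowerSeries.renameEquiv R (Equiv.swap 0 i) W) =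
            MvPowerSeries.constantCoeff W := MvPowerSeries.constantCoeff_rename _ W
        rwa [this])).trans
      (MvPowerSeries.renameEquiv R (Equiv.swap 0 i)).symm)

lemma renameEquiv_X {σ τ : Type*} (e : σ ≃ τ) (i : σ) :
    MvPowerSeries.renameEquiv R e (X i : MvPowerSeries σ R) = X (e i) :=
  MvPowerSeries.rename_X _ i

lemma scaleAut_X_self (i : Fin (n + 1)) (W : MvPowerSeries (Fin (n + 1)) R)
    (hW : IsUnit (MvPowerSeries.constantCoeff W)) :
    scaleAut i W hW (X i) = X i * W := by
  simp only [scaleAut, AlgEquiv.trans_apply, renameEquiv_X, Equiv.swap_apply_right,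
    scaleAut0_X_zero, map_mul, AlgEquiv.symm_apply_apply]
  rw [MvPowerSeries.renameEquiv_symm, renameEquiv_X, Equiv.symm_swap, Equiv.swap_apply_left]

lemma scaleAut_X_ne (i : Fin (n + 1)) (W : MvPowerSeries (Fin (n + 1)) R)
    (hW : IsUnit (MvPowerSeries.constantCoeff W)) (j : Fin (n + 1)) (hj : j ≠ i) :
    scaleAut i W hW (X j) = X j := by
  simp only [scaleAut, AlgEquiv.trans_apply, renameEquiv_X]
  rw [scaleAut0_X_ne, ← renameEquiv_X, AlgEquiv.symm_apply_apply]
  intro h
  apply hj
  have := congrArg (Equiv.swap 0 i) h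
  simpa using this

end MultiVar

section Shift

variable {σ : Type*} [Finite σ] [DecidableEq σ] {R : Type*} [CommRing R]

open MvPowerSeries

lemma hasSubst_update_X (i : σ) (g : MvPowerSeries σ R) (hg0 : constantCoeff g = 0) :
    HasSubst (Function.update (X : σ → MvPowerSeries σ R) i g) := by
  refine hasSubst_of_constantCoeff_zero fun s => ?_
  by_cases hs : s = i
  · subst hs; simpa using hg0
  · simp [Function.update_of_ne hs]

/-- The automorphism `Xᵢ ↦ Xᵢ + g`, `Xⱼ ↦ Xⱼ` for `j ≠ i`, when `g` is invariant under these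
substitutions. -/
noncomputable def shiftAut (i : σ) (g : MvPowerSeries σ R) (hg0 : constantCoeff g = 0)
    (h1 : subst (Function.update X i (X i + g)) g = g)
    (h2 : subst (Function.update X i (X i - g)) g = g) :
    MvPowerSeries σ R ≃ₐ[R] MvPowerSeries σ R :=
  have ha : HasSubst (Function.update (X : σ → MvPowerSeries σ R) i (X i + g)) :=
    hasSubst_update_X i _ (by simp [hg0])
  have hb : HasSubst (Function.update (X : σ → MvPowerSeries σ R) i (X i - g)) :=
    hasSubst_update_X i _ (by simp [hg0])
  AlgEquiv.ofAlgHom (substAlgHom ha) (substAlgHom hb)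
    (by
      ext f : 1
      simp only [AlgHom.comp_apply, coe_substAlgHom, AlgHom.id_apply]
      rw [subst_comp_subst_apply hb ha]
      have : (fun s => subst (Function.update X i (X i + g))
          (Function.update (X : σ → MvPowerSeries σ R) i (X i - g) s)) = X := by
        funext s
        by_cases hs : s = i
        · subst hs
          rw [Function.update_self, subst_sub ha, subst_X ha, h1, Function.update_self]
          ring
        · rw [Function.update_of_ne hs, subst_X ha, Function.update_of_ne hs]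
      rw [this, subst_self]; rfl)
    (by
      ext f : 1
      simp only [AlgHom.comp_apply, coe_substAlgHom, AlgHom.id_apply]
      rw [subst_comp_subst_apply ha hb]
      have : (fun s => subst (Function.update X i (X i - g))
          (Function.update (X : σ → MvPowerSeries σ R) i (X i + g) s)) = X := by
        funext s
        by_cases hs : s = i
        · subst hs
          rw [Function.update_self, subst_add hb, subst_X hb, h2, Function.update_self]
          ring
        · rw [Function.update_of_ne hs, subst_X hb, Function.update_of_ne hs]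
      rw [this, subst_self]; rfl)

lemma shiftAut_apply (i : σ) (g : MvPowerSeries σ R) (hg0 : constantCoeff g = 0)
    (h1 : subst (Function.update X i (X i + g)) g = g)
    (h2 : subst (Function.update X i (X i - g)) g = g) (f : MvPowerSeries σ R) :
    shiftAut i g hg0 h1 h2 f = subst (Function.update X i (X i + g)) f := by
  simp [shiftAut]

lemma shiftAut_X_self (i : σ) (g : MvPowerSeries σ R) (hg0 : constantCoeff g = 0)
    (h1 : subst (Function.update X i (X i + g)) g = g)
    (h2 : subst (Function.update X i (X i - g)) g = g) :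
    shiftAut i g hg0 h1 h2 (X i) = X i + g := by
  rw [shiftAut_apply, subst_X (hasSubst_update_X i _ (by simp [hg0])), Function.update_self]

lemma shiftAut_X_ne (i : σ) (g : MvPowerSeries σ R) (hg0 : constantCoeff g = 0)
    (h1 : subst (Function.update X i (X i + g)) g = g)
    (h2 : subst (Function.update X i (X i - g)) g = g) (j : σ) (hj : j ≠ i) :
    shiftAut i g hg0 h1 h2 (X j) = X j := by
  rw [shiftAut_apply, subst_X (hasSubst_update_X i _ (by simp [hg0])), Function.update_of_ne hj]

end Shift

end Groth.Agent.Lib.Helper27
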