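import Groth.Agent.Lib.Helper27.EtNorm7

/-!
# Restriction–corestriction with the degree counted by geometric points (helper27)
-/

set_option autoImplicit false
set_option backward.isDefEq.respectTransparency false
universe u
open CategoryTheory Limits Opposite AlgebraicGeometry Abelian
open Groth.Agent.Lib.Helper23.EtGlue Groth.Agent.Lib.Helper27.EtTrace

namespace Groth.Agent.Lib.Helper27.EtNorm

section Lifts

variable {X X' U : Scheme.{u}} (f : X' ⟶ X) [Etale f] (g : U ⟶ X) [Etale g] {n : ℕ}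
  (V : Fin n → Scheme.{u}) (c : ∀ j, V j ⟶ U) [∀ j, IsIso (c j)] (e : (∐ V) ≅ pullback f g)
  (he : ∀ j, Sigma.ι V j ≫ e.hom ≫ pullback.snd f g = c j)
  {Ω : Type u} [Field Ω] (ξ : Spec (CommRingCat.of Ω) ⟶ U)

/-- the lift of a field-valued point through the `j`-th sheet -/
noncomputable def liftJ (j : Fin n) :
    {t : Spec (CommRingCat.of Ω) ⟶ X' // t ≫ f = ξ ≫ g} :=
  ⟨ξ ≫ sec f g V c e j, by rw [Category.assoc, sec_comp f g V c e he j]⟩

theorem liftJ_bijective : Function.Bijective (liftJ f g V c e he ξ) := by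
  let pt : ↥(Spec (CommRingCat.of Ω)) := default
  constructor
  · intro j j' h
    have h0 : ξ ≫ sec f g V c e j = ξ ≫ sec f g V c e j' := congrArg Subtype.val h
    have h1 : ξ ≫ inv (c j) ≫ Sigma.ι V j ≫ e.hom = ξ ≫ inv (c j') ≫ Sigma.ι V j' ≫ e.hom := by
      rw [← lift_sec f g V c e he ξ j, ← lift_sec f g V c e he ξ j']
      congr 1
    have h2 : (ξ ≫ inv (c j)) ≫ Sigma.ι V j = (ξ ≫ inv (c j')) ≫ Sigma.ι V j' := by
      have := congrArg (fun z => z ≫ e.inv) h1
      simpa only [Category.assoc, Iso.hom_inv_id, Category.comp_id] using this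
    by_contra hne
    have hd := disjoint_opensRange_sigmaι V j j' hne
    have m1 : ((ξ ≫ inv (c j)) ≫ Sigma.ι V j) pt ∈ Set.range (Sigma.ι V j) :=
      ⟨(ξ ≫ inv (c j)) pt, rfl⟩
    have m2 : ((ξ ≫ inv (c j)) ≫ Sigma.ι V j) pt ∈ Set.range (Sigma.ι V j') := by
      rw [h2]
      exact ⟨(ξ ≫ inv (c j')) pt, rfl⟩
    exact Set.disjoint_iff.mp (TopologicalSpace.Opens.coe_disjoint.mpr hd) ⟨m1, m2⟩
  · rintro ⟨t, ht⟩
    let b : Spec (CommRingCat.of Ω) ⟶ ∐ V := pullback.lift t ξ ht ≫ e.inv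
    obtain ⟨j, v, hv⟩ : ∃ (j : Fin n) (v : V j), Sigma.ι V j v = b pt :=
      (sigmaOpenCover V).exists_eq (b pt)
    have hr : Set.range b ⊆ Set.range (Sigma.ι V j) := by
      rintro _ ⟨z, rfl⟩
      rw [Subsingleton.elim z pt]
      exact ⟨v, hv⟩
    let τ : Spec (CommRingCat.of Ω) ⟶ V j := IsOpenImmersion.lift (Sigma.ι V j) b hr
    have hτ : τ ≫ Sigma.ι V j = b := IsOpenImmersion.lift_fac _ _ _
    have hb1 : b ≫ e.hom ≫ pullback.fst f g = t := by
      simp only [b, Category.assoc, Iso.inv_hom_id_assoc, pullback.lift_fst]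
    have hb2 : b ≫ e.hom ≫ pullback.snd f g = ξ := by
      simp only [b, Category.assoc, Iso.inv_hom_id_assoc, pullback.lift_snd]
    have hτc : τ ≫ c j = ξ := by
      rw [← he j, ← Category.assoc, hτ, hb2]
    have hτ' : τ = ξ ≫ inv (c j) := by
      rw [← hτc, Category.assoc, IsIso.hom_inv_id, Category.comp_id]
    refine ⟨j, Subtype.ext ?_⟩
    change ξ ≫ sec f g V c e j = t
    unfold sec
    rw [← hb1, ← hτ, hτ']
    simp only [Category.assoc]

include he in
/-- the number of lifts of a field-valued point to a trivialised cover is the number of sheets -/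
theorem card_lifts_eq :
    Nat.card {t : Spec (CommRingCat.of Ω) ⟶ X' // t ≫ f = ξ ≫ g} = n := by
  rw [← Nat.card_eq_of_bijective _ (liftJ_bijective f g V c e he ξ), Nat.card_fin]

end Lifts

variable {X X' : Scheme.{u}} (f : X' ⟶ X) [IsFinite f] [Etale f]

/-- a finite étale morphism with `d` geometric points in every geometric fibre is trivialised
with `d` sheets étale-locally around every point -/
theorem exists_triv' (d : ℕ)
    (hd : ∀ (Ω : Type u) [Field Ω] [IsAlgClosed Ω] (η : Spec (CommRingCat.of Ω) ⟶ X),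
      Nat.card {t : Spec (CommRingCat.of Ω) ⟶ X' // t ≫ f = η} = d) (x : X) :
    ∃ t : Triv f, x ∈ Set.range t.g ∧ t.n = d := by
  obtain ⟨U, g, hg, u, hu, n, V, c, hc, e, he⟩ := Groth.Agent.Lib.Helper19.FinEtTriv.main f x
  refine ⟨⟨U, g, hg, n, V, c, hc, e, he⟩, ⟨u, hu⟩, ?_⟩
  let Ω : Type u := AlgebraicClosure (U.residueField u)
  let ξ : Spec (CommRingCat.of Ω) ⟶ U :=
    Spec.map (CommRingCat.ofHom (algebraMap (U.residueField u) Ω)) ≫ U.fromSpecResidueField u
  have h1 := card_lifts_eq f g V c e he ξ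
  have h2 := hd Ω (ξ ≫ g)
  exact h1.symm.trans h2

/-- **Restriction–corestriction**: a class with coefficients of torsion prime to the degree
that dies on a finite étale cover of constant degree is zero. -/
theorem eq_zero_of_Hpull_eq_zero (d : ℕ)
    (htr : ∀ x : X, ∃ t : Triv f, x ∈ Set.range t.g ∧ t.n = d)
    (L : Set ℕ) (hL : ∀ p : ℕ, p.Prime → p ∈ L → ¬ p ∣ d) (F : EtCoh.Ab X)
    (hF : EtAcyc.IsLTorsion L F) [PreservesFiniteLimits (EtCoh.pull f)] (q : ℕ)
    (x : EtCoh.H X F q) (hx : EtCore.Hpull f F q x = 0) : x = 0 := by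
  obtain ⟨N, hN⟩ := exists_norm f d htr
  haveI : IsIso (d • 𝟙 F) := by
    apply isIso_nsmul_id
    intro U s x
    obtain ⟨V, g, m, ⟨v, hv⟩, hm, hs⟩ := hF U s x
    exact ⟨V, g, m, ⟨v, hv⟩, coprime_of_primesIn L d m hL hm, hs⟩
  apply eq_zero_of_nsmul_eq_zero F d q x
  exact nsmul_eq_zero_of_norm f d N hN F q x hx

end Groth.Agent.Lib.Helper27.EtNorm
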