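import Groth.Agent.Lib.Helper27.EtTorsion1
import Groth.Agent.Lib.Helper23.LTorsPull

/-!
# `ℓ`-power torsion sheaves: inverse and direct images (helper27)
-/

set_option autoImplicit false
set_option backward.isDefEq.respectTransparency false
universe u
open CategoryTheory Limits Opposite AlgebraicGeometry

namespace Groth.Agent.Lib.Helper27.PrimeTo

/-- the local `ℓ`-power torsion predicate -/
def IsEllTors (ℓ : ℕ) {Y : Scheme.{u}} (G : EtCoh.Ab Y) : Prop :=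
  ∀ (U : Y.Etale) (s : EtCoh.sect G U) (y : ↥U.left), ∃ (V : Y.Etale) (φ : V ⟶ U),
    (∃ v : ↥V.left, φ.left.base v = y) ∧ ∃ m : ℕ, (ℓ ^ m) • G.obj.map φ.op s = 0

theorem primesIn_singleton_iff (ℓ : ℕ) [hℓ : Fact ℓ.Prime] (m : ℕ) :
    EtAcyc.PrimesIn {ℓ} m ↔ ∃ k : ℕ, m = ℓ ^ k := by
  constructor
  · rintro ⟨hpos, h⟩
    exact ⟨_, Nat.eq_prime_pow_of_unique_prime_dvd hpos.ne' (fun {d} hd hdm => h d hd hdm)⟩
  · rintro ⟨k, rfl⟩
    refine ⟨pow_pos hℓ.out.pos k, fun p hp hpd => ?_⟩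
    exact (Nat.prime_dvd_prime_iff_eq hp hℓ.out).1 (hp.dvd_of_dvd_pow hpd)

theorem isEllTors_iff (ℓ : ℕ) [Fact ℓ.Prime] {Y : Scheme.{u}} (G : EtCoh.Ab Y) :
    IsEllTors ℓ G ↔ EtAcyc.IsLTorsion {ℓ} G := by
  constructor
  · intro h U s y
    obtain ⟨V, φ, hv, m, hm⟩ := h U s y
    exact ⟨V, φ, ℓ ^ m, hv, (primesIn_singleton_iff ℓ _).2 ⟨m, rfl⟩, hm⟩
  · intro h U s y
    obtain ⟨V, φ, m, hv, hm, hs⟩ := h U s y
    obtain ⟨k, rfl⟩ := (primesIn_singleton_iff ℓ m).1 hm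
    exact ⟨V, φ, hv, k, hs⟩

/-- inverse image preserves `ℓ`-power torsion -/
theorem isEllTors_pull (ℓ : ℕ) [Fact ℓ.Prime] {X Y : Scheme.{u}} (p : X ⟶ Y) (G : EtCoh.Ab Y)
    (hG : IsEllTors ℓ G) : IsEllTors ℓ ((EtCoh.pull p).obj G) :=
  (isEllTors_iff ℓ _).2
    (Groth.Agent.Lib.Helper23.LTorsPull.isLTorsion_pull p {ℓ} G ((isEllTors_iff ℓ G).1 hG))

/-- a section of an `ℓ`-power torsion sheaf over a quasi-compact object is killed by a power
of `ℓ` -/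
theorem exists_pow_smul_eq_zero (ℓ : ℕ) {X : Scheme.{u}} (F : EtCoh.Ab X) (hF : IsEllTors ℓ F)
    (P : X.Etale) [CompactSpace P.left] (s : F.obj.obj (op P)) :
    ∃ m : ℕ, (ℓ ^ m) • s = 0 := by
  classical
  choose W ψ hψ m hm using fun p : P.left => hF P s p
  have hopen : ∀ p, IsOpen (Set.range (ψ p).left) := fun p => (ψ p).left.isOpenMap.isOpen_range
  obtain ⟨t, ht⟩ := isCompact_univ.elim_finite_subcover
    (fun p => Set.range (ψ p).left) hopen (fun p _ => Set.mem_iUnion.2 ⟨p, hψ p⟩)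
  refine ⟨t.sup m, ?_⟩
  apply Groth.Agent.Lib.Helper27.EtTransport.eq_zero_of_locally F
  intro x
  obtain ⟨p, hp⟩ := Set.mem_iUnion.1 (ht (Set.mem_univ x))
  obtain ⟨hpt, hx⟩ := Set.mem_iUnion.1 hp
  refine ⟨W p, ψ p, hx, ?_⟩
  have hle : m p ≤ t.sup m := Finset.le_sup hpt
  obtain ⟨r, hr⟩ := Nat.exists_eq_add_of_le hle
  rw [map_nsmul, hr, pow_add, mul_comm, mul_smul, hm p, smul_zero]

end Groth.Agent.Lib.Helper27.PrimeTo

namespace Groth.Agent.Lib.Helper27.PrimeTo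

/-- direct image along a quasi-compact morphism preserves `ℓ`-power torsion -/
theorem isEllTors_push (ℓ : ℕ) {X S : Scheme.{u}} (g : X ⟶ S) [QuasiCompact g] (F : EtCoh.Ab X)
    (hF : IsEllTors ℓ F) : IsEllTors ℓ ((EtCoh.push g).obj F) := by
  intro U s y
  obtain ⟨_, ⟨W, hW, rfl⟩, hyW, -⟩ :=
    U.left.isBasis_affineOpens.exists_subset_of_mem_open (Set.mem_univ y) isOpen_univ
  replace hW : IsAffineOpen (W : U.left.Opens) := hW
  let W : U.left.Opens := W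
  haveI : IsAffine W.toScheme := hW
  let V : S.Etale := Scheme.Etale.mk (W.ι ≫ U.hom)
  let φ : V ⟶ U := MorphismProperty.Over.homMk W.ι rfl trivial
  haveI : CompactSpace V.left := inferInstanceAs (CompactSpace W.toScheme)
  haveI : CompactSpace ↥((𝟭 Scheme).obj V.left) := ‹CompactSpace V.left›
  haveI : CompactSpace ((EtCoh.bc g).obj V).left :=
    QuasiCompact.compactSpace_of_compactSpace (pullback.fst V.hom g)
  obtain ⟨m, hm⟩ := exists_pow_smul_eq_zero ℓ F hF ((EtCoh.bc g).obj V)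
    (F.obj.map ((EtCoh.bc g).map φ).op s)
  exact ⟨V, φ, ⟨⟨y, hyW⟩, rfl⟩, m, hm⟩

end Groth.Agent.Lib.Helper27.PrimeTo
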