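import Mathlib

/-!
# A cofiltered limit of finite `S`-schemes is integral over `S` (helper27)
-/

set_option autoImplicit false
set_option backward.isDefEq.respectTransparency false
universe u
open CategoryTheory Limits Opposite AlgebraicGeometry

namespace Groth.Agent.Lib.Helper27.PrimeTo

section Lim

variable {S : Scheme.{u}} {ι : Type u} [Preorder ι] [IsDirected ι (· ≤ ·)] [Nonempty ι]
  (Xs : ιᵒᵖ ⥤ Over S)

instance isCofiltered_op : IsCofiltered ιᵒᵖ := by
  haveI : IsFiltered ι := isFiltered_of_directed_le_nonempty _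
  infer_instance

/-- the underlying diagram of schemes -/
abbrev Ds : ιᵒᵖ ⥤ Scheme.{u} := Xs ⋙ Over.forget S

/-- the underlying cone of schemes -/
abbrev cs (c : Cone Xs) : Cone (Ds Xs) := (Over.forget S).mapCone c

attribute [local instance] IsCofiltered.isConnected in
/-- the underlying cone of schemes is a limit cone -/
noncomputable def isLimitCs {c : Cone Xs} (hc : IsLimit c) : IsLimit (cs Xs c) :=
  isLimitOfPreserves (Over.forget S) hc

variable (hfin : ∀ i, IsFinite (Xs.obj i).hom)

include hfin in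
theorem isFinite_map {a b : ιᵒᵖ} (h : a ⟶ b) : IsFinite (Xs.map h).left := by
  haveI := hfin a
  haveI := hfin b
  haveI : IsFinite ((Xs.map h).left ≫ (Xs.obj b).hom) := by
    rw [Over.w]; infer_instance
  exact IsFinite.of_comp (Xs.map h).left (Xs.obj b).hom

include hfin in
theorem isAffineHom_map {a b : ιᵒᵖ} (h : a ⟶ b) : IsAffineHom ((Ds Xs).map h) := by
  haveI := isFinite_map Xs hfin h
  exact inferInstanceAs (IsAffineHom (Xs.map h).left)

variable (c : Cone Xs) (hc : IsLimit c)

include hfin hc in
theorem isAffineHom_pt : IsAffineHom c.pt.hom := by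
  haveI : ∀ {a b : ιᵒᵖ} (h : a ⟶ b), IsAffineHom ((Ds Xs).map h) :=
    fun h => isAffineHom_map Xs hfin h
  obtain ⟨i⟩ : Nonempty ιᵒᵖ := inferInstance
  haveI : IsAffineHom ((cs Xs c).π.app i) := isAffineHom_π_app (Ds Xs) (cs Xs c) (isLimitCs Xs hc) i
  haveI := hfin i
  have h : (c.π.app i).left ≫ (Xs.obj i).hom = c.pt.hom := Over.w (c.π.app i)
  rw [← h]
  haveI : IsAffineHom (c.π.app i).left := ‹IsAffineHom ((cs Xs c).π.app i)›
  infer_instance

include hfin hc in
theorem existence_pt : ValuativeCriterion.Existence c.pt.hom := by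
  intro Sq
  -- the squares over the stages
  have hsq : ∀ i : ιᵒᵖ, CommSq (Sq.i₁ ≫ (c.π.app i).left)
      (Spec.map (CommRingCat.ofHom (algebraMap Sq.R Sq.K))) (Xs.obj i).hom Sq.i₂ := by
    intro i
    constructor
    rw [Category.assoc, Over.w (c.π.app i)]
    exact Sq.commSq.w
  let Sqi : ∀ i : ιᵒᵖ, ValuativeCommSq (Xs.obj i).hom := fun i =>
    { R := Sq.R, K := Sq.K, i₁ := Sq.i₁ ≫ (c.π.app i).left, i₂ := Sq.i₂, commSq := hsq i }
  have hex : ∀ i : ιᵒᵖ, (Sqi i).commSq.HasLift := by
    intro i
    haveI := hfin i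
    have h1 : (ValuativeCriterion.Existence ⊓ @QuasiCompact) (Xs.obj i).hom := by
      rw [← UniversallyClosed.eq_valuativeCriterion]
      infer_instance
    exact h1.1 (Sqi i)
  have huniq : ∀ i : ιᵒᵖ, Subsingleton (Sqi i).commSq.LiftStruct := by
    intro i
    haveI := hfin i
    exact IsSeparated.valuativeCriterion (Xs.obj i).hom (Sqi i)
  let L : ∀ i : ιᵒᵖ, (Sqi i).commSq.LiftStruct := fun i => (hex i).exists_lift.some
  -- compatibility
  have hcompat : ∀ {a b : ιᵒᵖ} (h : a ⟶ b), (L a).l ≫ (Xs.map h).left = (L b).l := by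
    intro a b h
    let L' : (Sqi b).commSq.LiftStruct :=
      { l := (L a).l ≫ (Xs.map h).left
        fac_left := by
          rw [← Category.assoc, (L a).fac_left]
          change (Sq.i₁ ≫ (c.π.app a).left) ≫ (Xs.map h).left = Sq.i₁ ≫ (c.π.app b).left
          rw [Category.assoc, ← Over.comp_left, c.w h]
        fac_right := by
          rw [Category.assoc, Over.w (Xs.map h)]
          exact (L a).fac_right }
    have := (huniq b).elim L' (L b)
    exact congrArg CommSq.LiftStruct.l this
  -- the cone of lifts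
  let T : Over S := Over.mk Sq.i₂
  let cT : Cone Xs :=
    { pt := T
      π :=
        { app := fun i => Over.homMk (L i).l (L i).fac_right
          naturality := fun a b h => by
            apply Over.OverMorphism.ext
            change 𝟙 _ ≫ (L b).l = (L a).l ≫ (Xs.map h).left
            rw [Category.id_comp, hcompat h] } }
  let l : T ⟶ c.pt := hc.lift cT
  have hl : ∀ i, l.left ≫ (c.π.app i).left = (L i).l := fun i =>
    congrArg CommaMorphism.left (hc.fac cT i)
  refine ⟨⟨{ l := l.left, fac_left := ?_, fac_right := Over.w l }⟩⟩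
  -- the restriction to the generic point
  let TK : Over S := Over.mk (Sq.i₁ ≫ c.pt.hom)
  let m1 : TK ⟶ c.pt := Over.homMk Sq.i₁ rfl
  let m2 : TK ⟶ c.pt := Over.homMk (Spec.map (CommRingCat.ofHom (algebraMap Sq.R Sq.K)) ≫ l.left)
    (by
      change (Spec.map (CommRingCat.ofHom (algebraMap Sq.R Sq.K)) ≫ l.left) ≫ c.pt.hom =
        Sq.i₁ ≫ c.pt.hom
      rw [Category.assoc, Over.w l]
      exact Sq.commSq.w.symm)
  have hm : m2 = m1 := by
    apply hc.hom_ext
    intro i
    apply Over.OverMorphism.ext
    change (Spec.map (CommRingCat.ofHom (algebraMap Sq.R Sq.K)) ≫ l.left) ≫ (c.π.app i).left =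
      Sq.i₁ ≫ (c.π.app i).left
    rw [Category.assoc, hl i]
    exact (L i).fac_left
  exact congrArg CommaMorphism.left hm

include hfin hc in
/-- a cofiltered limit of finite `S`-schemes is integral over `S` -/
theorem isIntegralHom_pt : IsIntegralHom c.pt.hom := by
  haveI := isAffineHom_pt Xs hfin c hc
  rw [IsIntegralHom.iff_universallyClosed_and_isAffineHom]
  exact ⟨UniversallyClosed.of_valuativeCriterion _ (existence_pt Xs hfin c hc), inferInstance⟩

end Lim

end Groth.Agent.Lib.Helper27.PrimeTo
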