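import Groth.Agent.Lib.Helper27.PrimeTo1
import Groth.Agent.Lib.Helper27.PrimeTo2
import Groth.Agent.Lib.Helper27.PrimeTo3
import Groth.Agent.Lib.Helper27.EtLimL3
import Groth.Agent.Lib.Helper27.IntShapiro
import Groth.Agent.Lib.Helper23.HpullComp

/-!
# Cohomology of a pro-(finite étale of degree prime to `ℓ`) cover (helper27)
-/

set_option autoImplicit false
set_option backward.isDefEq.respectTransparency false
set_option backward.isDefEq.respectTransparency.types false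
universe u
open CategoryTheory Limits Opposite AlgebraicGeometry Abelian

namespace Groth.Agent.Lib.Helper27.PrimeTo

open Groth.Agent.Lib.Helper27.EtLimA Groth.Agent.Lib.Helper27.EtLimB
  Groth.Agent.Lib.Helper27.EtLimC Groth.Agent.Lib.Helper27.EtLimD
  Groth.Agent.Lib.Helper27.EtLimE Groth.Agent.Lib.Helper27.EtLimI
  Groth.Agent.Lib.Helper27.EtLimJ Groth.Agent.Lib.Helper27.EtLimK
  Groth.Agent.Lib.Helper27.EtLimL Groth.Agent.Lib.Helper27.EtNorm
  Groth.Agent.Lib.Helper23.HpullComp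

variable (ℓ : ℕ) [Fact ℓ.Prime] (n : ℕ)
  (S : Scheme.{u}) [CompactSpace ↥S] [QuasiSeparatedSpace ↥S]
  {ι : Type u} [Preorder ι] [IsDirected ι (· ≤ ·)] [Nonempty ι] (Xs : ιᵒᵖ ⥤ Over S)
  (hfin : ∀ i, IsFinite (Xs.obj i).hom) (het : ∀ i, AlgebraicGeometry.Etale (Xs.obj i).hom)
  (d : ιᵒᵖ → ℕ) (hd : ∀ i, ℓ.Coprime (d i))
  (hdeg : ∀ (i : ιᵒᵖ) (Ω : Type u) [Field Ω] [IsAlgClosed Ω] (η : Spec (CommRingCat.of Ω) ⟶ S),
    Nat.card {t : Spec (CommRingCat.of Ω) ⟶ (Xs.obj i).left // t ≫ (Xs.obj i).hom = η} = d i)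
  (c : Cone Xs) (hc : IsLimit c)

include hfin het hd hdeg hc in
/-- a class with `ℓ`-power torsion coefficients that dies on the pro-cover is zero -/
theorem nontrivial_pull (G : EtCoh.Ab S) (hG : IsEllTors ℓ G)
    (hne : Nontrivial (EtCoh.H S G n)) :
    Nontrivial (EtCoh.H c.pt.left ((EtCoh.pull c.pt.hom).obj G) n) := by
  rw [← not_subsingleton_iff_nontrivial]
  intro hsub
  obtain ⟨ζ, hζ⟩ := exists_ne (0 : EtCoh.H S G n)
  obtain ⟨i₀⟩ : Nonempty ι := inferInstance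
  haveI : ∀ (a b : ιᵒᵖ) (h : a ⟶ b), IsAffineHom ((Ds Xs).map h) :=
    fun a b h => isAffineHom_map Xs hfin h
  haveI : ∀ a, CompactSpace ↥((Ds Xs).obj a) := fun a => by
    haveI := hfin a
    exact QuasiCompact.compactSpace_of_compactSpace (Xs.obj a).hom
  haveI : ∀ a, QuasiSeparatedSpace ↥((Ds Xs).obj a) := fun a => by
    haveI := hfin a
    exact quasiSeparatedSpace_of_quasiSeparated (Xs.obj a).hom
  let t : ∀ j : ι, (Ds Xs).obj (op j) ⟶ S := fun j => (Xs.obj (op j)).hom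
  have ht : ∀ {j k : ι} (h : j ≤ k), tr (Ds Xs) h ≫ t j = t k :=
    fun h => Over.w (Xs.map (homOfLE h).op)
  have ht' : ∀ j : ι, pr (cs Xs c) j ≫ t j = c.pt.hom := fun j => Over.w (c.π.app (op j))
  obtain ⟨-, h2⟩ := limThm (cs Xs c) (isLimitCs Xs hc) (pbSys t ht G)
    (pbCocone t ht G (cs Xs c) c.pt.hom ht') (isColimitOfIsIso _) n
  obtain ⟨k, hk, hk'⟩ := h2 i₀ (EtCore.Hpull (t i₀) G n ζ) (hsub.elim _ _)
  have h3 : EtCore.Hpull (t k) G n ζ = 0 := by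
    rw [← HpullVia_Hpull (tr (Ds Xs) hk) (t i₀) (t k) (ht hk) G n ζ]
    have e : Sys.φ (pbSys t ht G) hk =
        ((EtCore.pullComp (tr (Ds Xs) hk) (t i₀)).symm ≪≫ EtCore.pullCongr (ht hk)).hom.app G :=
      pbSys_φ t ht G hk
    rw [e] at hk'
    exact hk'
  haveI := hfin (op k)
  haveI := het (op k)
  have hL : ∀ p : ℕ, p.Prime → p ∈ ({ℓ} : Set ℕ) → ¬ p ∣ d (op k) := by
    intro p hp hpl
    rw [Set.mem_singleton_iff] at hpl
    subst hpl
    exact (Nat.Prime.coprime_iff_not_dvd hp).1 (hd (op k))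
  exact hζ (eq_zero_of_Hpull_eq_zero (t k) (d (op k))
    (exists_triv' (t k) (d (op k)) (hdeg (op k))) {ℓ} hL G ((isEllTors_iff ℓ G).1 hG) n ζ h3)

include hfin hc in
theorem nontrivial_push (F : EtCoh.Ab c.pt.left)
    (hne : Nontrivial (EtCoh.H c.pt.left F n)) :
    Nontrivial (EtCoh.H S ((EtCoh.push c.pt.hom).obj F) n) := by
  haveI := isIntegralHom_pt Xs hfin c hc
  exact (Groth.Agent.Lib.Helper27.IntShapiro.shapiro_bijective c.pt.hom F n).2.nontrivial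

include hfin hc in
theorem isEllTors_push_pt (F : EtCoh.Ab c.pt.left) (hF : IsEllTors ℓ F) :
    IsEllTors ℓ ((EtCoh.push c.pt.hom).obj F) := by
  haveI := isIntegralHom_pt Xs hfin c hc
  exact isEllTors_push ℓ c.pt.hom F hF

include hfin het hd hdeg hc in
/-- **S6652** -/
theorem main (hn : 0 < n) (T : ∀ (Y : Scheme.{u}), EtCoh.Ab Y → Prop)
    (hT : ∀ (Y : Scheme.{u}) (G : EtCoh.Ab Y), T Y G ↔
      ∀ (U : Y.Etale) (s : EtCoh.sect G U) (y : ↥U.left), ∃ (V : Y.Etale) (φ : V ⟶ U),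
        (∃ v : ↥V.left, φ.left.base v = y) ∧ ∃ m : ℕ, (ℓ ^ m) • G.obj.map φ.op s = 0) :
    (∀ G : EtCoh.Ab S, T S G → Nontrivial (EtCoh.H S G n) →
      T c.pt.left ((EtCoh.pull c.pt.hom).obj G) ∧
        Nontrivial (EtCoh.H c.pt.left ((EtCoh.pull c.pt.hom).obj G) n)) ∧
    (∀ F : EtCoh.Ab c.pt.left, T c.pt.left F → Nontrivial (EtCoh.H c.pt.left F n) →
      T S ((EtCoh.push c.pt.hom).obj F) ∧
        Nontrivial (EtCoh.H S ((EtCoh.push c.pt.hom).obj F) n)) := by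
  have hT' : ∀ (Y : Scheme.{u}) (G : EtCoh.Ab Y), T Y G ↔ IsEllTors ℓ G := hT
  constructor
  · intro G hG hne
    rw [hT'] at hG ⊢
    exact ⟨isEllTors_pull ℓ c.pt.hom G hG,
      nontrivial_pull ℓ n S Xs hfin het d hd hdeg c hc G hG hne⟩
  · intro F hF hne
    rw [hT'] at hF ⊢
    exact ⟨isEllTors_push_pt ℓ S Xs hfin c hc F hF, nontrivial_push n S Xs hfin c hc F hne⟩

end Groth.Agent.Lib.Helper27.PrimeTo
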