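import Groth.Agent.Lib.Helper27.FpBaseChange
import Groth.Agent.Lib.Helper27.DiagTransport
import Groth.Agent.Lib.Helper27.DiagComp
import Groth.Agent.Lib.Helper27.DiagRepWith
import Groth.Agent.Lib.Helper27.RepWithComp2

/-!
# The functor induced on 2-fibre products by a pair of functors (helper27)
-/

set_option autoImplicit false
set_option backward.isDefEq.respectTransparency false
set_option backward.isDefEq.respectTransparency.types false

universe u

open CategoryTheory CategoryTheory.Limits AlgebraicGeometry Opposite FibCat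
  Groth.Agent.Lib.Helper27.FpKit Groth.Agent.Lib.Helper27.RepWithComp
  Groth.Agent.Lib.Helper27.FpBaseChange

namespace Groth.Agent.Lib.Helper27.ProdMap

variable {S : Scheme.{u}}

section Transport

variable {𝒳 𝒴 𝒳' 𝒴' : AlgSt.Cat S}
  (q : 𝒳 ⥤ᵇ 𝒴) (p : 𝒳' ⥤ᵇ 𝒴') (a : 𝒳' ⥤ᵇ 𝒳) (c : 𝒴' ⥤ᵇ 𝒴)
  (κ : BasedFunctor.comp p c ≅ BasedFunctor.comp a q)

include κ in
/-- Properties of the diagonal are transported along equivalences (other direction). -/
theorem repByAlgSpWith_diag_of_equiv' (P : MorphismProperty (AlgSp.Sp S)) (ha : IsEquivOver a)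
    (hc : IsEquivOver c) (h : AlgSt.RepByAlgSpWith P (diag p)) :
    AlgSt.RepByAlgSpWith P (diag q) :=
  Groth.Agent.Lib.Helper27.RepWithGeneral.repByAlgSpWith_of_equiv' P (diag q) (diag p) a
    (fpMap (Groth.Agent.Lib.Helper27.DiagTransport.DD q p a c κ)) ha
    (isEquivOver_fpMap (Groth.Agent.Lib.Helper27.DiagTransport.DD q p a c κ) ha ha hc)
    (Groth.Agent.Lib.Helper27.DiagTransport.diagSq q p a c κ) h

end Transport

section BaseChange

variable {𝒜 ℬ 𝒵 𝒜' ℬ' : AlgSt.Cat S} (F : 𝒜 ⥤ᵇ 𝒵) (K : ℬ ⥤ᵇ 𝒵)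

theorem repByAlgSpWith_diag_fpSnd (P : MorphismProperty (AlgSp.Sp S)) (a : 𝒜' ⥤ᵇ 𝒜)
    (z : ℬ' ⥤ᵇ 𝒜) (h : AlgSt.RepByAlgSpWith P (diag a)) :
    AlgSt.RepByAlgSpWith P (diag (fpSnd a z)) := by
  have h1 := Groth.Agent.Lib.Helper27.DiagRepWith.repByAlgSpWith_diag_fpFst P a z h
  refine Groth.Agent.Lib.Helper27.DiagTransport.repByAlgSpWith_diag_of_equiv (fpFst z a)
    (fpSnd a z) (Groth.Agent.Lib.Helper27.FpSwap.swap a z) (BasedFunctor.id _) ?_ P
    (Groth.Agent.Lib.Helper27.FpSwap.isEquivOver_swap a z) (isEquivOver_id _) h1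
  exact BasedNatIso.mkNatIso (NatIso.ofComponents (fun t => Iso.refl _)
    (fun α => (Category.comp_id _).trans (Category.id_comp _).symm))
    (fun t => (Vert.id _).lift ((fpSnd a z).w_obj t))

theorem repByAlgSpWith_diag_mapFst (P : MorphismProperty (AlgSp.Sp S)) (a : 𝒜' ⥤ᵇ 𝒜)
    (h : AlgSt.RepByAlgSpWith P (diag a)) : AlgSt.RepByAlgSpWith P (diag (mapFst F K a)) :=
  repByAlgSpWith_diag_of_equiv' (mapFst F K a) (fpSnd a (fpFst F K)) (pasteL K F a)
    (BasedFunctor.id _) (isoFst F K a) P (isEquivOver_pasteL K F a) (isEquivOver_id _)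
    (repByAlgSpWith_diag_fpSnd P a (fpFst F K) h)

theorem repByAlgSpWith_diag_mapSnd (P : MorphismProperty (AlgSp.Sp S)) (b : ℬ' ⥤ᵇ ℬ)
    (h : AlgSt.RepByAlgSpWith P (diag b)) : AlgSt.RepByAlgSpWith P (diag (mapSnd F K b)) :=
  repByAlgSpWith_diag_of_equiv' (mapSnd F K b) (fpFst (fpSnd F K) b) (pasteR b K F)
    (BasedFunctor.id _) (isoSnd F K b) P (isEquivOver_pasteR b K F) (isEquivOver_id _)
    (Groth.Agent.Lib.Helper27.DiagRepWith.repByAlgSpWith_diag_fpFst P b (fpSnd F K) h)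

end BaseChange

section Prod

variable {𝒳 𝒳' 𝒴 𝒴' 𝒵 : AlgSt.Cat S} (F : 𝒳' ⥤ᵇ 𝒵) (K : 𝒴' ⥤ᵇ 𝒵) (f : 𝒳 ⥤ᵇ 𝒳') (g : 𝒴 ⥤ᵇ 𝒴')

/-- The product functor as a composite of two base changes. -/
abbrev m : fp (BasedFunctor.comp f F) (BasedFunctor.comp g K) ⥤ᵇ fp F K :=
  BasedFunctor.comp (mapSnd (BasedFunctor.comp f F) K g) (mapFst F K f)

theorem m_iso_hom (x : (fp (BasedFunctor.comp f F) (BasedFunctor.comp g K)).obj) :
    ((m F K f g).toFunctor.obj x).obj.iso.hom = x.obj.iso.hom := by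
  change ((mapFst F K f).toFunctor.obj
    ((mapSnd (BasedFunctor.comp f F) K g).toFunctor.obj x)).obj.iso.hom = _
  rw [mapFst_iso_hom, mapSnd_iso_hom]

variable (e : BasedFunctor.comp (BasedFunctor.comp
    (fpFst (BasedFunctor.comp f F) (BasedFunctor.comp g K)) f) F ≅
  BasedFunctor.comp (BasedFunctor.comp
    (fpSnd (BasedFunctor.comp f F) (BasedFunctor.comp g K)) g) K)

/-- The product functor. -/
abbrev M : fp (BasedFunctor.comp f F) (BasedFunctor.comp g K) ⥤ᵇ fp F K :=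
  fpLift (BasedFunctor.comp (fpFst (BasedFunctor.comp f F) (BasedFunctor.comp g K)) f)
    (BasedFunctor.comp (fpSnd (BasedFunctor.comp f F) (BasedFunctor.comp g K)) g) e

theorem M_iso_hom (x : (fp (BasedFunctor.comp f F) (BasedFunctor.comp g K)).obj) :
    ((M F K f g e).toFunctor.obj x).obj.iso.hom = e.hom.toNatTrans.app x := rfl

variable (he : ∀ x, e.hom.toNatTrans.app x = x.obj.iso.hom)

include he in
/-- `M ≅ m`. -/
def isoM : BasedFunctor.comp (M F K f g e) (BasedFunctor.id _) ≅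
    BasedFunctor.comp (BasedFunctor.id _) (m F K f g) :=
  BasedNatIso.mkNatIso
    (NatIso.ofComponents (fun x =>
      mkIso (t := (M F K f g e).toFunctor.obj x) (t' := (m F K f g).toFunctor.obj x)
        (Iso.refl _) (Iso.refl _) (by
          rw [m_iso_hom, M_iso_hom, he]
          have h2 : F.toFunctor.map (Iso.refl ((M F K f g e).toFunctor.obj x).obj.fst).hom = 𝟙 _ :=
            F.toFunctor.map_id _
          have h3 : K.toFunctor.map (Iso.refl ((M F K f g e).toFunctor.obj x).obj.snd).hom = 𝟙 _ :=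
            K.toFunctor.map_id _
          rw [h2, h3]
          exact (Category.id_comp _).trans (Category.comp_id _).symm))
      (fun {x x'} α => by
        apply Groth.Agent.Lib.Helper27.StackFp.hom_ext'
        · exact (Category.comp_id _).trans (Category.id_comp _).symm
        · exact (Category.comp_id _).trans (Category.id_comp _).symm))
    (fun x => by
      refine Vert.lift ?_ (BasedFunctor.w_obj _ x)
      rw [vert_hom_iff]
      exact Vert.id _)

include he in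
theorem repByAlgSpWith_M (P : MorphismProperty (AlgSp.Sp S)) (H : CompHyp P)
    (h𝒳 : FibCat.IsFibGrpd 𝒳.p) (h𝒴 : FibCat.IsFibGrpd 𝒴.p) (h𝒴' : FibCat.IsFibGrpd 𝒴'.p)
    (h𝒵 : FibCat.IsFibGrpd 𝒵.p)
    (hf : AlgSt.RepByAlgSpWith P f) (hg : AlgSt.RepByAlgSpWith P g) :
    AlgSt.RepByAlgSpWith P (M F K f g e) := by
  have h1 : AlgSt.RepByAlgSpWith P (m F K f g) :=
    comp_gen P H (Groth.Agent.Lib.Helper27.FpFib.isFibGrpd_fp _ _ h𝒳 h𝒴 h𝒵)
      (Groth.Agent.Lib.Helper27.FpFib.isFibGrpd_fp _ _ h𝒳 h𝒴' h𝒵) _ _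
      (repByAlgSpWith_mapSnd (BasedFunctor.comp f F) K g P hg) (repByAlgSpWith_mapFst F K f P hf)
  exact Groth.Agent.Lib.Helper27.RepWithGeneral.repByAlgSpWith_of_equiv P (m F K f g)
    (M F K f g e) (BasedFunctor.id _) (BasedFunctor.id _) (isEquivOver_id _) (isEquivOver_id _)
    (isoM F K f g e he) h1

include he in
theorem repByAlgSpWith_diag_M (P : MorphismProperty (AlgSp.Sp S)) (H : CompHyp P)
    (h𝒳 : FibCat.IsFibGrpd 𝒳.p) (h𝒴 : FibCat.IsFibGrpd 𝒴.p) (h𝒴' : FibCat.IsFibGrpd 𝒴'.p)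
    (h𝒵 : FibCat.IsFibGrpd 𝒵.p)
    (hf : AlgSt.RepByAlgSpWith P (diag f)) (hg : AlgSt.RepByAlgSpWith P (diag g)) :
    AlgSt.RepByAlgSpWith P (diag (M F K f g e)) := by
  have h1 : AlgSt.RepByAlgSpWith P (diag (m F K f g)) :=
    Groth.Agent.Lib.Helper27.DiagComp.repByAlgSpWith_diag_comp _ _ P H
      (Groth.Agent.Lib.Helper27.FpFib.isFibGrpd_fp _ _ h𝒳 h𝒴 h𝒵)
      (Groth.Agent.Lib.Helper27.FpFib.isFibGrpd_fp _ _ h𝒳 h𝒴' h𝒵)
      (repByAlgSpWith_diag_mapSnd (BasedFunctor.comp f F) K P g hg)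
      (repByAlgSpWith_diag_mapFst F K P f hf)
  exact Groth.Agent.Lib.Helper27.DiagTransport.repByAlgSpWith_diag_of_equiv (m F K f g)
    (M F K f g e) (BasedFunctor.id _) (BasedFunctor.id _) (isoM F K f g e he) P
    (isEquivOver_id _) (isEquivOver_id _) h1

end Prod

end Groth.Agent.Lib.Helper27.ProdMap
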