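import Groth.Agent.Lib.Helper27.FpKit
import Groth.Agent.Lib.Helper27.FpSwap
import Groth.Agent.Lib.Helper27.StackFp
import Groth.Agent.Lib.Helper27.ReprDiag
import Groth.Agent.S12784
import Groth.Agent.S12785
import Groth.Agent.S12786

/-!
# Products of representable functors over a general base category (helper27)
-/

set_option autoImplicit false
set_option backward.isDefEq.respectTransparency false
set_option backward.isDefEq.respectTransparency.types false

universe w v u

open CategoryTheory CategoryTheory.Limits FibCat Groth.Agent.Lib.Helper27.FpKit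

namespace Groth.Agent.Lib.Helper27.ProdMapRep

variable {C : Type u} [Category.{v} C] {𝒜 ℬ 𝒜' ℬ' : BasedCategory.{v, max u v} C}
  {𝒵 : BasedCategory.{v, w} C} (F : 𝒜 ⥤ᵇ 𝒵) (K : ℬ ⥤ᵇ 𝒵)

section Fst


variable (a : 𝒜' ⥤ᵇ 𝒜)

/-- The cospan morphism changing the first variable. -/
def DFst : MapData F K (BasedFunctor.comp a F) K a (BasedFunctor.id ℬ) (BasedFunctor.id 𝒵) where
  e₁ := fun _ => Iso.refl _
  n₁ := fun _ => (Category.comp_id _).trans (Category.id_comp _).symm
  l₁ := fun _ => Vert.id _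
  e₂ := fun _ => Iso.refl _
  n₂ := fun _ => (Category.comp_id _).trans (Category.id_comp _).symm
  l₂ := fun _ => Vert.id _

/-- `(s, b, ψ) ↦ (a s, b, ψ)`. -/
abbrev mapFst : fp (BasedFunctor.comp a F) K ⥤ᵇ fp F K := fpMap (DFst F K a)

theorem mapFst_iso_hom (t : (fp (BasedFunctor.comp a F) K).obj) :
    ((mapFst F K a).toFunctor.obj t).obj.iso.hom = t.obj.iso.hom := by
  change (Iso.refl _).inv ≫ t.obj.iso.hom ≫ (Iso.refl _).hom = _
  simp

theorem isoFst_w (t : (fp a (fpFst F K)).obj) :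
    F.toFunctor.map t.obj.iso.inv ≫
      ((mapFst F K a).toFunctor.obj ((pasteL K F a).toFunctor.obj t)).obj.iso.hom =
      t.obj.snd.obj.iso.hom ≫ K.toFunctor.map (𝟙 t.obj.snd.obj.snd) := by
  rw [mapFst_iso_hom]
  have h : ((pasteL K F a).toFunctor.obj t).obj.iso.hom =
      F.toFunctor.map t.obj.iso.hom ≫ t.obj.snd.obj.iso.hom := rfl
  rw [h, ← Category.assoc, ← F.toFunctor.map_comp, Iso.inv_hom_id,
    CategoryTheory.Functor.map_id, CategoryTheory.Functor.map_id, Category.id_comp,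
    Category.comp_id]

/-- The comparison for `mapFst`, objectwise. -/
def isoFstObj (t : (fp a (fpFst F K)).obj) :
    (fpSnd a (fpFst F K)).toFunctor.obj t ≅
      (mapFst F K a).toFunctor.obj ((pasteL K F a).toFunctor.obj t) :=
  mkIso (t := t.obj.snd)
    (t' := (mapFst F K a).toFunctor.obj ((pasteL K F a).toFunctor.obj t))
    t.obj.iso.symm (Iso.refl _) (isoFst_w F K a t)

theorem isoFstObj_vert (t : (fp a (fpFst F K)).obj) : Vert (isoFstObj F K a t).hom := by
  rw [vert_hom_iff]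
  exact Vert.inv (vert_iso t)

/-- `mapFst` is a base change of `a`. -/
def isoFst : BasedFunctor.comp (fpSnd a (fpFst F K)) (BasedFunctor.id _) ≅
    BasedFunctor.comp (pasteL K F a) (mapFst F K a) :=
  BasedNatIso.mkNatIso
    (NatIso.ofComponents (fun t => isoFstObj F K a t)
      (fun {t t'} m => by
        apply Groth.Agent.Lib.Helper27.StackFp.hom_ext'
        · have h := hom_w m
          change a.toFunctor.map m.hom.fst ≫ t'.obj.iso.hom =
            t.obj.iso.hom ≫ m.hom.snd.hom.fst at h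
          change m.hom.snd.hom.fst ≫ t'.obj.iso.inv = t.obj.iso.inv ≫ a.toFunctor.map m.hom.fst
          rw [Iso.comp_inv_eq, Category.assoc, h, Iso.inv_hom_id_assoc]
        · exact (Category.comp_id _).trans (Category.id_comp _).symm))
    (fun t => (isoFstObj_vert F K a t).lift
      ((BasedFunctor.comp (fpSnd a (fpFst F K)) (BasedFunctor.id _)).w_obj t))


end Fst

section Snd


variable (b : ℬ' ⥤ᵇ ℬ)

/-- The cospan morphism changing the second variable. -/
def DSnd : MapData F K F (BasedFunctor.comp b K) (BasedFunctor.id 𝒜) b (BasedFunctor.id 𝒵) where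
  e₁ := fun _ => Iso.refl _
  n₁ := fun _ => (Category.comp_id _).trans (Category.id_comp _).symm
  l₁ := fun _ => Vert.id _
  e₂ := fun _ => Iso.refl _
  n₂ := fun _ => (Category.comp_id _).trans (Category.id_comp _).symm
  l₂ := fun _ => Vert.id _

/-- `(s, x, ψ) ↦ (s, b x, ψ)`. -/
abbrev mapSnd : fp F (BasedFunctor.comp b K) ⥤ᵇ fp F K := fpMap (DSnd F K b)

theorem mapSnd_iso_hom (t : (fp F (BasedFunctor.comp b K)).obj) :
    ((mapSnd F K b).toFunctor.obj t).obj.iso.hom = t.obj.iso.hom := by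
  change (Iso.refl _).inv ≫ t.obj.iso.hom ≫ (Iso.refl _).hom = _
  simp

theorem isoSnd_w (t : (fp (fpSnd F K) b).obj) :
    F.toFunctor.map (𝟙 t.obj.fst.obj.fst) ≫
      ((mapSnd F K b).toFunctor.obj ((pasteR b K F).toFunctor.obj t)).obj.iso.hom =
      t.obj.fst.obj.iso.hom ≫ K.toFunctor.map t.obj.iso.hom := by
  rw [mapSnd_iso_hom]
  have h : ((pasteR b K F).toFunctor.obj t).obj.iso.hom =
      t.obj.fst.obj.iso.hom ≫ K.toFunctor.map t.obj.iso.hom := rfl
  rw [h, CategoryTheory.Functor.map_id, Category.id_comp]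

/-- The comparison for `mapSnd`, objectwise. -/
def isoSndObj (t : (fp (fpSnd F K) b).obj) :
    (fpFst (fpSnd F K) b).toFunctor.obj t ≅
      (mapSnd F K b).toFunctor.obj ((pasteR b K F).toFunctor.obj t) :=
  mkIso (t := t.obj.fst) (t' := (mapSnd F K b).toFunctor.obj ((pasteR b K F).toFunctor.obj t))
    (Iso.refl _) t.obj.iso (isoSnd_w F K b t)

theorem isoSndObj_vert (t : (fp (fpSnd F K) b).obj) : Vert (isoSndObj F K b t).hom := by
  rw [vert_hom_iff]
  exact Vert.id _

/-- `mapSnd` is a base change of `b`. -/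
def isoSnd : BasedFunctor.comp (fpFst (fpSnd F K) b) (BasedFunctor.id _) ≅
    BasedFunctor.comp (pasteR b K F) (mapSnd F K b) :=
  BasedNatIso.mkNatIso
    (NatIso.ofComponents (fun t => isoSndObj F K b t)
      (fun {t t'} m => by
        apply Groth.Agent.Lib.Helper27.StackFp.hom_ext'
        · exact (Category.comp_id _).trans (Category.id_comp _).symm
        · have h := hom_w m
          change m.hom.fst.hom.snd ≫ t'.obj.iso.hom =
            t.obj.iso.hom ≫ b.toFunctor.map m.hom.snd at h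
          exact h))
    (fun t => (isoSndObj_vert F K b t).lift
      ((BasedFunctor.comp (fpFst (fpSnd F K) b) (BasedFunctor.id _)).w_obj t))


end Snd

section Rep

theorem isRepresentable1_fpSnd (f : 𝒜' ⥤ᵇ 𝒜) (z : ℬ' ⥤ᵇ 𝒜) (hz : IsRepresentable1 z) :
    IsRepresentable1 (fpSnd z f) := by
  have h1 := Groth.Agent.S12786.result z f hz
  refine (Groth.Agent.S12784.result (fpFst f z) (fpSnd z f)
    (Groth.Agent.Lib.Helper27.FpSwap.swap z f) (BasedFunctor.id _)
    (Groth.Agent.Lib.Helper27.FpSwap.isEquivOver_swap z f) (isEquivOver_id _) ?_).1 h1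
  exact BasedNatIso.mkNatIso (NatIso.ofComponents (fun t => Iso.refl _)
    (fun α => (Category.comp_id _).trans (Category.id_comp _).symm))
    (fun t => (Vert.id _).lift ((fpSnd z f).w_obj t))

theorem isRepresentable1_mapFst (a : 𝒜' ⥤ᵇ 𝒜) (ha : IsRepresentable1 a) :
    IsRepresentable1 (mapFst F K a) :=
  (Groth.Agent.S12784.result (mapFst F K a) (fpSnd a (fpFst F K)) (pasteL K F a)
    (BasedFunctor.id _) (isEquivOver_pasteL K F a) (isEquivOver_id _) (isoFst F K a)).2
    (isRepresentable1_fpSnd (fpFst F K) a ha)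

theorem isRepresentable1_mapSnd (b : ℬ' ⥤ᵇ ℬ) (hb : IsRepresentable1 b) :
    IsRepresentable1 (mapSnd F K b) :=
  (Groth.Agent.S12784.result (mapSnd F K b) (fpFst (fpSnd F K) b) (pasteR b K F)
    (BasedFunctor.id _) (isEquivOver_pasteR b K F) (isEquivOver_id _) (isoSnd F K b)).2
    (Groth.Agent.S12786.result b (fpSnd F K) hb)

end Rep

section Prod

variable {𝒳 𝒳' 𝒴 𝒴' : BasedCategory.{v, max u v} C} (F : 𝒳' ⥤ᵇ 𝒵) (K : 𝒴' ⥤ᵇ 𝒵)
  (f : 𝒳 ⥤ᵇ 𝒳') (g : 𝒴 ⥤ᵇ 𝒴')

/-- The product functor as a composite of two base changes. -/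
abbrev m : fp (BasedFunctor.comp f F) (BasedFunctor.comp g K) ⥤ᵇ fp F K :=
  BasedFunctor.comp (mapSnd (BasedFunctor.comp f F) K g) (mapFst F K f)

theorem m_iso_hom (x : (fp (BasedFunctor.comp f F) (BasedFunctor.comp g K)).obj) :
    ((m F K f g).toFunctor.obj x).obj.iso.hom = x.obj.iso.hom := by
  change ((mapFst F K f).toFunctor.obj
    ((mapSnd (BasedFunctor.comp f F) K g).toFunctor.obj x)).obj.iso.hom = _
  rw [mapFst_iso_hom, mapSnd_iso_hom]

variable (e : BasedFunctor.comp (BasedFunctor.comp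
    (fpFst (BasedFunctor.comp f F) (BasedFunctor.comp g K)) f) F ≅
  BasedFunctor.comp (BasedFunctor.comp
    (fpSnd (BasedFunctor.comp f F) (BasedFunctor.comp g K)) g) K)

/-- The product functor. -/
abbrev M : fp (BasedFunctor.comp f F) (BasedFunctor.comp g K) ⥤ᵇ fp F K :=
  fpLift (BasedFunctor.comp (fpFst (BasedFunctor.comp f F) (BasedFunctor.comp g K)) f)
    (BasedFunctor.comp (fpSnd (BasedFunctor.comp f F) (BasedFunctor.comp g K)) g) e

theorem M_iso_hom (x : (fp (BasedFunctor.comp f F) (BasedFunctor.comp g K)).obj) :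
    ((M F K f g e).toFunctor.obj x).obj.iso.hom = e.hom.toNatTrans.app x := rfl

variable (he : ∀ x, e.hom.toNatTrans.app x = x.obj.iso.hom)

include he in
/-- `M ≅ m`. -/
def isoM : BasedFunctor.comp (M F K f g e) (BasedFunctor.id _) ≅
    BasedFunctor.comp (BasedFunctor.id _) (m F K f g) :=
  BasedNatIso.mkNatIso
    (NatIso.ofComponents (fun x =>
      mkIso (t := (M F K f g e).toFunctor.obj x) (t' := (m F K f g).toFunctor.obj x)
        (Iso.refl _) (Iso.refl _) (by
          rw [m_iso_hom, M_iso_hom, he]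
          have h2 : F.toFunctor.map (Iso.refl ((M F K f g e).toFunctor.obj x).obj.fst).hom = 𝟙 _ :=
            F.toFunctor.map_id _
          have h3 : K.toFunctor.map (Iso.refl ((M F K f g e).toFunctor.obj x).obj.snd).hom = 𝟙 _ :=
            K.toFunctor.map_id _
          rw [h2, h3]
          exact (Category.id_comp _).trans (Category.comp_id _).symm))
      (fun {x x'} α => by
        apply Groth.Agent.Lib.Helper27.StackFp.hom_ext'
        · exact (Category.comp_id _).trans (Category.id_comp _).symm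
        · exact (Category.comp_id _).trans (Category.id_comp _).symm))
    (fun x => by
      refine Vert.lift ?_ (BasedFunctor.w_obj _ x)
      rw [vert_hom_iff]
      exact Vert.id _)

include he in
theorem isRepresentable1_M (hf : IsRepresentable1 f) (hg : IsRepresentable1 g) :
    IsRepresentable1 (M F K f g e) := by
  have h1 : IsRepresentable1 (m F K f g) :=
    Groth.Agent.S12785.result _ _ (isRepresentable1_mapSnd (BasedFunctor.comp f F) K g hg)
      (isRepresentable1_mapFst F K f hf)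
  exact (Groth.Agent.S12784.result (m F K f g) (M F K f g e) (BasedFunctor.id _)
    (BasedFunctor.id _) (isEquivOver_id _) (isEquivOver_id _) (isoM F K f g e he)).1 h1

end Prod

section SelfProd

variable {𝒳₁ 𝒳₂ 𝒴₁ 𝒴₂ : BasedCategory.{v, max u v} C} (f₁ : 𝒳₁ ⥤ᵇ 𝒴₁) (f₂ : 𝒳₂ ⥤ᵇ 𝒴₂)

theorem basedFunctor_ext' {𝒜 : BasedCategory.{v, max u v} C} {ℬ : BasedCategory.{v, w} C}
    (a b : 𝒜 ⥤ᵇ ℬ)
    (h : a.toFunctor = b.toFunctor) : a = b := by
  cases a
  cases b
  cases h
  rfl

theorem comp_toSelf' {𝒴 𝒵' : BasedCategory.{v, max u v} C} (g : 𝒴 ⥤ᵇ 𝒵') :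
    BasedFunctor.comp g (toSelf 𝒵') = toSelf 𝒴 :=
  basedFunctor_ext' _ _ g.w

theorem isRepresentable1_prod_aux (hf₁ : IsRepresentable1 f₁) (hf₂ : IsRepresentable1 f₂)
    (F' : 𝒳₁ ⥤ᵇ selfOver C) (K' : 𝒳₂ ⥤ᵇ selfOver C)
    (hF : BasedFunctor.comp f₁ (toSelf 𝒴₁) = F') (hK : BasedFunctor.comp f₂ (toSelf 𝒴₂) = K')
    (e : BasedFunctor.comp (BasedFunctor.comp (fpFst F' K') f₁) (toSelf 𝒴₁) ≅
      BasedFunctor.comp (BasedFunctor.comp (fpSnd F' K') f₂) (toSelf 𝒴₂)) :
    IsRepresentable1 (fpLift (BasedFunctor.comp (fpFst F' K') f₁)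
      (BasedFunctor.comp (fpSnd F' K') f₂) e) := by
  subst hF hK
  exact isRepresentable1_M (toSelf 𝒴₁) (toSelf 𝒴₂) f₁ f₂ e
    (fun x => Groth.Agent.Lib.Helper27.ReprDiag.selfOver_ext (𝟙 _) _ _ (Vert.app e.hom x)
      (vert_iso x)) hf₁ hf₂

theorem isRepresentable1_prod (hf₁ : IsRepresentable1 f₁) (hf₂ : IsRepresentable1 f₂)
    (e : BasedFunctor.comp (BasedFunctor.comp (fpFst (toSelf 𝒳₁) (toSelf 𝒳₂)) f₁) (toSelf 𝒴₁) ≅
      BasedFunctor.comp (BasedFunctor.comp (fpSnd (toSelf 𝒳₁) (toSelf 𝒳₂)) f₂) (toSelf 𝒴₂)) :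
    IsRepresentable1 (fpLift (BasedFunctor.comp (fpFst (toSelf 𝒳₁) (toSelf 𝒳₂)) f₁)
      (BasedFunctor.comp (fpSnd (toSelf 𝒳₁) (toSelf 𝒳₂)) f₂) e) :=
  isRepresentable1_prod_aux f₁ f₂ hf₁ hf₂ _ _ (comp_toSelf' f₁) (comp_toSelf' f₂) e

end SelfProd

end Groth.Agent.Lib.Helper27.ProdMapRep
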