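import Groth.Agent.Lib.Helper27.PshKit
import Mathlib.CategoryTheory.Limits.Types.Pullbacks
import Mathlib.CategoryTheory.Limits.Shapes.Pullback.IsPullback.Basic

/-!
# The 2-fibre product of categories of elements is the category of elements of the fibre product
(helper27)
-/

set_option autoImplicit false
set_option backward.isDefEq.respectTransparency false
set_option backward.isDefEq.respectTransparency.types false

universe w v u

open CategoryTheory CategoryTheory.Limits Opposite FibCat Groth.Agent.Lib.Helper27.FpKit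

namespace Groth.Agent.Lib.Helper27.PshFp

variable {C : Type u} [Category.{v} C]

open Stk

section Pointwise

variable {F G H F' : Cᵒᵖ ⥤ Type w} {a : F ⟶ G} {ξ : H ⟶ G} {fst : F' ⟶ F} {snd : F' ⟶ H}

theorem sq_app (sq : IsPullback fst snd a ξ) (T : Cᵒᵖ) (z : F'.obj T) :
    a.app T (fst.app T z) = ξ.app T (snd.app T z) := by
  have := congrArg (fun (m : F' ⟶ G) => m.app T z) sq.w
  exact this

theorem sq_ext (sq : IsPullback fst snd a ξ) {T : Cᵒᵖ} {z z' : F'.obj T}
    (h1 : fst.app T z = fst.app T z') (h2 : snd.app T z = snd.app T z') : z = z' :=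
  Types.ext_of_isPullback (sq.app T) h1 h2

theorem sq_exists (sq : IsPullback fst snd a ξ) {T : Cᵒᵖ} (x : F.obj T) (h : H.obj T)
    (hx : a.app T x = ξ.app T h) : ∃ z : F'.obj T, fst.app T z = x ∧ snd.app T z = h :=
  Types.exists_of_isPullback (sq.app T) x h hx

end Pointwise

section IsoOfEq

variable {Q : Cᵒᵖ ⥤ Type w}

/-- The identity as an isomorphism between objects with equal sections. -/
def isoOfEq {T : C} {s s' : Q.obj (op T)} (h : s = s') : (⟨T, s⟩ : EltObj Q) ≅ ⟨T, s'⟩ where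
  hom := ⟨𝟙 T, by subst h; simp⟩
  inv := ⟨𝟙 T, by subst h; simp⟩
  hom_inv_id := EltObj.hom_ext (by simp)
  inv_hom_id := EltObj.hom_ext (by simp)

@[simp] theorem isoOfEq_hom_hom {T : C} {s s' : Q.obj (op T)} (h : s = s') :
    (isoOfEq (Q := Q) h).hom.hom = 𝟙 T := rfl

@[simp] theorem isoOfEq_inv_hom {T : C} {s s' : Q.obj (op T)} (h : s = s') :
    (isoOfEq (Q := Q) h).inv.hom = 𝟙 T := rfl

theorem isoOfEq_vert {T : C} {s s' : Q.obj (op T)} (h : s = s') :
    Vert (𝒳 := ofPsh Q) (isoOfEq (Q := Q) h).hom := by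
  apply Vert.of_lift (U := T)
  apply IsHomLift.of_fac (ofPsh Q).p (𝟙 T) (isoOfEq (Q := Q) h).hom rfl rfl
  change 𝟙 T = eqToHom rfl ≫ 𝟙 T ≫ eqToHom rfl
  simp

end IsoOfEq

section Bridge

variable {F G H F' : Cᵒᵖ ⥤ Type w} {a : F ⟶ G} {ξ : H ⟶ G} {fst : F' ⟶ F} {snd : F' ⟶ H}
  (sq : IsPullback fst snd a ξ)

/-- The object of the 2-fibre product attached to a section of the fibre product presheaf. -/
def bridgeObj (t : EltObj F') : (fp (ofPshMap ξ) (ofPshMap a)).obj :=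
  mkObj (F := ofPshMap ξ) (G := ofPshMap a) ((ofPshMap snd).obj t) ((ofPshMap fst).obj t)
    (isoOfEq (sq_app sq (op t.base) t.sec).symm) (isoOfEq_vert _)

/-- The comparison functor. -/
def bridge : ofPsh F' ⥤ᵇ fp (ofPshMap ξ) (ofPshMap a) where
  toFunctor :=
    { obj := bridgeObj sq
      map := fun {t t'} f =>
        mkHom (t := bridgeObj sq t) (t' := bridgeObj sq t') ((ofPshMap snd).map f)
          ((ofPshMap fst).map f) (by
            apply EltObj.hom_ext
            change f.hom ≫ 𝟙 _ = 𝟙 _ ≫ f.hom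
            simp)
      map_id := fun t => by
        apply Groth.Agent.Lib.Helper27.StackFp.hom_ext'
        · rfl
        · rfl
      map_comp := fun f g => by
        apply Groth.Agent.Lib.Helper27.StackFp.hom_ext'
        · rfl
        · rfl }
  w := CategoryTheory.Functor.ext (fun t => rfl) (fun t t' f => by
    simp only [eqToHom_refl, Category.id_comp, Category.comp_id]
    rfl)

theorem bridge_faithful : (bridge sq).toFunctor.Faithful := by
  constructor
  intro t t' f f' h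
  apply EltObj.hom_ext
  have h1 := congrArg (fun Θ => Θ.hom.fst.hom) h
  exact h1

theorem bridge_full : (bridge sq).toFunctor.Full := by
  constructor
  intro t t' Φ
  have hw := congrArg (fun (m : (ofPshMap ξ).obj (bridgeObj sq t).obj.fst ⟶
      (ofPshMap a).obj (bridgeObj sq t').obj.snd) => m.hom) (hom_w Φ)
  obtain ⟨g, hgdef⟩ : ∃ g : t.base ⟶ t'.base, g = Φ.hom.fst.hom := ⟨_, rfl⟩
  obtain ⟨g', hg'def⟩ : ∃ g' : t.base ⟶ t'.base, g' = Φ.hom.snd.hom := ⟨_, rfl⟩
  have hg : g = g' := by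
    change Φ.hom.fst.hom ≫ 𝟙 _ = 𝟙 _ ≫ Φ.hom.snd.hom at hw
    rw [Category.comp_id, Category.id_comp] at hw
    rw [hgdef, hg'def]
    exact hw
  have h1 : H.map g.op (snd.app (op t'.base) t'.sec) = snd.app (op t.base) t.sec := by
    rw [hgdef]
    exact Φ.hom.fst.map_sec
  have h2 : F.map g'.op (fst.app (op t'.base) t'.sec) = fst.app (op t.base) t.sec := by
    rw [hg'def]
    exact Φ.hom.snd.map_sec
  have hsec : F'.map g.op t'.sec = t.sec := by
    apply sq_ext sq
    · rw [NatTrans.naturality_apply, hg, h2]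
    · rw [NatTrans.naturality_apply, h1]
  refine ⟨⟨g, hsec⟩, ?_⟩
  apply Groth.Agent.Lib.Helper27.StackFp.hom_ext'
  · apply EltObj.hom_ext
    exact hgdef
  · apply EltObj.hom_ext
    exact hg.trans hg'def

theorem bridge_ess (s : (fp (ofPshMap ξ) (ofPshMap a)).obj) :
    ∃ (t : (ofPsh F').obj) (ε : (bridge sq).toFunctor.obj t ≅ s), Vert ε.hom := by
  obtain ⟨⟨⟨T₁, h⟩, ⟨T₂, x⟩, φ⟩, hφ⟩ := s
  let m : T₁ ⟶ T₂ := φ.hom.hom
  let m' : T₂ ⟶ T₁ := φ.inv.hom
  have hmm' : m ≫ m' = 𝟙 T₁ := congrArg (fun (k : (⟨T₁, ξ.app _ h⟩ : EltObj G) ⟶ _) => k.hom) φ.hom_inv_id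
  have hm'm : m' ≫ m = 𝟙 T₂ := congrArg (fun (k : (⟨T₂, a.app _ x⟩ : EltObj G) ⟶ _) => k.hom) φ.inv_hom_id
  have hsec : G.map m.op (a.app _ x) = ξ.app _ h := φ.hom.map_sec
  obtain ⟨z, hz1, hz2⟩ := sq_exists sq (T := op T₁) (F.map m.op x) h (by
    rw [NatTrans.naturality_apply, hsec])
  let α : (⟨T₁, snd.app _ z⟩ : EltObj H) ≅ ⟨T₁, h⟩ := isoOfEq hz2
  let β : (⟨T₁, fst.app _ z⟩ : EltObj F) ≅ ⟨T₂, x⟩ :=
    { hom := ⟨m, hz1.symm⟩
      inv := ⟨m', by
        change F.map m'.op (fst.app _ z) = x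
        rw [hz1, ← Functor.map_comp_apply, ← op_comp, hm'm, op_id, F.map_id]
        rfl⟩
      hom_inv_id := EltObj.hom_ext hmm'
      inv_hom_id := EltObj.hom_ext hm'm }
  refine ⟨⟨T₁, z⟩, mkIso (t := bridgeObj sq ⟨T₁, z⟩) (t' := ⟨⟨⟨T₁, h⟩, ⟨T₂, x⟩, φ⟩, hφ⟩) α β ?_, ?_⟩
  · apply EltObj.hom_ext
    change 𝟙 T₁ ≫ m = 𝟙 T₁ ≫ m
    rfl
  · rw [vert_hom_iff]
    exact isoOfEq_vert hz2

theorem isEquivOver_bridge : IsEquivOver (bridge sq) :=
  isEquivOver_of_ess (bridge sq) (bridge_full sq) (bridge_faithful sq) (bridge_ess sq)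

end Bridge

end Groth.Agent.Lib.Helper27.PshFp
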