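import Groth.Agent.Lib.Helper27.RepWithComp2
import Groth.Agent.Lib.Helper27.RepWithGeneral
import Groth.Agent.Lib.Helper27.FpSwap
import Groth.Agent.Lib.Helper27.FpFib

/-!
# Quasi-affine morphisms of algebraic spaces: composition with closed immersions and affine
morphisms, and mixed composition/cancellation for functors (helper27)
-/

set_option autoImplicit false
set_option backward.isDefEq.respectTransparency false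
set_option backward.isDefEq.respectTransparency.types false

universe u

open CategoryTheory CategoryTheory.Limits AlgebraicGeometry Opposite FibCat
  Groth.Agent.Lib.Helper27.FpKit Groth.Agent.Lib.Helper27.RepWithComp Groth.Agent.Lib.Helper27.PshKit
  Groth.Agent.Lib.Helper27.PshFp Groth.Agent.Lib.Helper27.PshRep

namespace Groth.Agent.Lib.Helper27.QADiag

variable {S : Scheme.{u}}

local infixr:80 " ⊚ " => BasedFunctor.comp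

section Space

theorem qa_iso ⦃X X' Y : AlgSp.Sp S⦄ (i : X' ⟶ X) [IsIso i] (f : X ⟶ Y)
    (h : AlgSp.IsQuasiAffineMor f) : AlgSp.IsQuasiAffineMor (i ≫ f) := by
  intro Z hZ g
  obtain ⟨W, ι, fst, sq, hR⟩ := h hZ g
  refine ⟨W, ι, fst ≫ inv i, ?_, hR⟩
  exact IsPullback.of_iso sq (Iso.refl _) (asIso i).symm (Iso.refl _) (Iso.refl _)
    (by simp) (by simp) (by simp) (by simp)

theorem qa_loc ⦃X' Y' : AlgSp.Sp S⦄ (c : X' ⟶ Y')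
    (h : ∀ (V : Over S) (a : (AlgSp.yon S).obj V ⟶ Y'),
      AlgSp.IsQuasiAffineMor (pullback.snd c a)) : AlgSp.IsQuasiAffineMor c := by
  intro Z hZ g
  obtain ⟨W, ι, fst, sq, hR⟩ := h Z g hZ (𝟙 _)
  have sqS : IsPullback (pullback.fst c g) (pullback.snd c g) c g :=
    IsPullback.of_hasPullback c g
  refine ⟨W, ι, fst ≫ pullback.fst c g, ?_, hR⟩
  have := sq.paste_horiz sqS
  rwa [Category.id_comp] at this

theorem qa_stable ⦃X₁ Y₁ X₂ Y₂ : AlgSp.Sp S⦄ (a : X₁ ⟶ Y₁) (b : Y₂ ⟶ Y₁) (a' : X₂ ⟶ Y₂)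
    (b' : X₂ ⟶ X₁) (sq : IsPullback b' a' a b) (ha : AlgSp.IsQuasiAffineMor a) :
    AlgSp.IsQuasiAffineMor a' := by
  intro Z hZ g
  obtain ⟨W, ι, fst, sq₁, hR⟩ := ha hZ (g ≫ b)
  refine ⟨W, ι, sq.lift fst ((AlgSp.yon S).map ι ≫ g) (by rw [sq₁.w, Category.assoc]), ?_, hR⟩
  refine IsPullback.of_right ?_ (sq.lift_snd _ _ _) sq
  rw [sq.lift_fst]
  exact sq₁

/-- A closed immersion followed by a quasi-affine morphism is quasi-affine. -/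
theorem qa_comp_ci ⦃X Y Z' : AlgSp.Sp S⦄ (a : X ⟶ Y) (b : Y ⟶ Z')
    (ha : AlgSp.RepWith @IsClosedImmersion a) (hb : AlgSp.IsQuasiAffineMor b) :
    AlgSp.IsQuasiAffineMor (a ≫ b) := by
  intro Z hZ g
  obtain ⟨W₁, ι₁, fst₁, sq₁, hR₁⟩ := hb hZ g
  have sq₂ := ha.rep.isPullback fst₁
  have hci : IsClosedImmersion (ha.rep.snd fst₁).left := ha.property_snd fst₁
  refine ⟨ha.rep.pullback fst₁, ha.rep.snd fst₁ ≫ ι₁, ha.rep.fst fst₁, ?_, ?_⟩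
  · rw [Functor.map_comp]
    exact sq₂.paste_vert sq₁
  · haveI := hR₁
    exact Scheme.IsQuasiAffine.of_isAffineHom (ha.rep.snd fst₁).left

/-- A quasi-affine morphism followed by an affine morphism is quasi-affine. -/
theorem qa_comp_affine ⦃X Y Z' : AlgSp.Sp S⦄ (a : X ⟶ Y) (b : Y ⟶ Z')
    (ha : AlgSp.IsQuasiAffineMor a) (hb : AlgSp.IsAffineMor b) :
    AlgSp.IsQuasiAffineMor (a ≫ b) := by
  intro Z hZ g
  obtain ⟨W₁, ι₁, fst₁, sq₁, hR₁⟩ := hb hZ g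
  obtain ⟨W₂, ι₂, fst₂, sq₂, hR₂⟩ := ha hR₁ fst₁
  refine ⟨W₂, ι₂ ≫ ι₁, fst₂, ?_, hR₂⟩
  rw [Functor.map_comp]
  exact sq₂.paste_vert sq₁

end Space

section Comp

variable {𝒳 𝒴 𝒵 : AlgSt.Cat S}

/-- Composition of functors representable by algebraic spaces with three properties related by
a composition rule. -/
theorem comp_mixed (P₁ P₂ P₃ : MorphismProperty (AlgSp.Sp S))
    (hiso : ∀ ⦃X X' Y : AlgSp.Sp S⦄ (i : X' ⟶ X) [IsIso i] (f : X ⟶ Y), AlgSp.IsAlgSpace X →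
      AlgSp.IsAlgSpace X' → AlgSp.IsAlgSpace Y → P₁ f → P₁ (i ≫ f))
    (hloc : ∀ ⦃X' Y' : AlgSp.Sp S⦄ (c : X' ⟶ Y'), AlgSp.IsAlgSpace X' → AlgSp.IsAlgSpace Y' →
      (∀ (V : Over S) (a : (AlgSp.yon S).obj V ⟶ Y'), P₁ (pullback.snd c a)) → P₁ c)
    (hcomp : ∀ ⦃X Y Z : AlgSp.Sp S⦄, AlgSp.IsAlgSpace X → AlgSp.IsAlgSpace Y →
      AlgSp.IsAlgSpace Z → ∀ (a : X ⟶ Y) (b : Y ⟶ Z), P₁ a → P₂ b → P₃ (a ≫ b))
    (h𝒳 : FibCat.IsFibGrpd 𝒳.p) (h𝒴 : FibCat.IsFibGrpd 𝒴.p)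
    (f : 𝒳 ⥤ᵇ 𝒴) (g : 𝒴 ⥤ᵇ 𝒵) (hf : AlgSt.RepByAlgSpWith P₁ f)
    (hg : AlgSt.RepByAlgSpWith P₂ g) : AlgSt.RepByAlgSpWith P₃ (f ⊚ g) := by
  intro U z
  obtain ⟨Y', e₁, he₁, hb⟩ := hg U z
  obtain ⟨X', e, he, hc⟩ := from_space_gen P₁ hiso hloc h𝒳 h𝒴 f hf Y' (e₁ ⊚ fpSnd z g)
  let D' : MapData (fpSnd z g) f (e₁ ⊚ fpSnd z g) f e₁ (BasedFunctor.id 𝒳)
      (BasedFunctor.id 𝒴) :=
    { e₁ := fun _ => Iso.refl _
      n₁ := fun α => (Category.comp_id _).trans (Category.id_comp _).symm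
      l₁ := fun _ => Vert.id _
      e₂ := fun _ => Iso.refl _
      n₂ := fun β => (Category.comp_id _).trans (Category.id_comp _).symm
      l₂ := fun _ => Vert.id _ }
  have hD' : IsEquivOver (fpMap D') :=
    isEquivOver_fpMap D' he₁ (isEquivOver_id _) (isEquivOver_id _)
  have hR : IsEquivOver (pasteR f g z) := isEquivOver_pasteR f g z
  refine ⟨X', e ⊚ (fpMap D' ⊚ pasteR f g z),
    isEquivOver_comp _ _ he (isEquivOver_comp _ _ hD' hR), ?_⟩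
  have h1 : AlgSt.spMapOfOver ((e ⊚ (fpMap D' ⊚ pasteR f g z)) ⊚ fpFst z (f ⊚ g)) =
      AlgSt.spMapOfOver ((e ⊚ fpFst (e₁ ⊚ fpSnd z g) f) ⊚ (e₁ ⊚ fpFst z g)) := by
    apply Groth.Agent.Lib.Helper27.RepWithKit.spMapOfOver_congr
    intro t
    exact ⟨𝟙 _, Vert.id _⟩
  rw [h1, spMapOfOver_comp]
  exact hcomp X'.property Y'.property (AlgSp.IsAlgSpace.yon_obj U) _ _ hc hb

/-- If `g ∘ f` has `P₂` and the diagonal of `g` has `P₁` then `f` has `P₃` (graph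
factorisation). -/
theorem cancel_mixed (P₁ P₂ P₃ : MorphismProperty (AlgSp.Sp S))
    (hiso : ∀ ⦃X X' Y : AlgSp.Sp S⦄ (i : X' ⟶ X) [IsIso i] (f : X ⟶ Y), AlgSp.IsAlgSpace X →
      AlgSp.IsAlgSpace X' → AlgSp.IsAlgSpace Y → P₁ f → P₁ (i ≫ f))
    (hloc : ∀ ⦃X' Y' : AlgSp.Sp S⦄ (c : X' ⟶ Y'), AlgSp.IsAlgSpace X' → AlgSp.IsAlgSpace Y' →
      (∀ (V : Over S) (a : (AlgSp.yon S).obj V ⟶ Y'), P₁ (pullback.snd c a)) → P₁ c)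
    (hcomp : ∀ ⦃X Y Z : AlgSp.Sp S⦄, AlgSp.IsAlgSpace X → AlgSp.IsAlgSpace Y →
      AlgSp.IsAlgSpace Z → ∀ (a : X ⟶ Y) (b : Y ⟶ Z), P₁ a → P₂ b → P₃ (a ≫ b))
    (h𝒳 : FibCat.IsFibGrpd 𝒳.p) (h𝒴 : FibCat.IsFibGrpd 𝒴.p) (h𝒵 : FibCat.IsFibGrpd 𝒵.p)
    (f : 𝒳 ⥤ᵇ 𝒴) (g : 𝒴 ⥤ᵇ 𝒵) (hgf : AlgSt.RepByAlgSpWith P₂ (f ⊚ g))
    (hΔ : AlgSt.RepByAlgSpWith P₁ (diag g)) : AlgSt.RepByAlgSpWith P₃ f := by
  let e : BasedFunctor.id 𝒳 ⊚ (f ⊚ g) ≅ f ⊚ g := Iso.refl _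
  have h1 := Groth.Agent.Lib.Helper27.RepWithGeneral.repByAlgSpWith_graph P₁ (f ⊚ g) g f e hΔ
  have h2 := Groth.Agent.Lib.Helper27.FpSwap.repByAlgSpWith_fpSnd P₂ g (f ⊚ g) hgf
  exact comp_mixed P₁ P₂ P₃ hiso hloc hcomp h𝒳
    (Groth.Agent.Lib.Helper27.FpFib.isFibGrpd_fp (f ⊚ g) g h𝒳 h𝒴 h𝒵)
    (FibCat.fpLift (BasedFunctor.id 𝒳) f e) (FibCat.fpSnd (f ⊚ g) g) h1 h2

end Comp

end Groth.Agent.Lib.Helper27.QADiag
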