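import Groth.Prelude.Def_W4stkstmodspWNA
import Groth.Agent.Lib.Helper27.DiagProp2
import Groth.Agent.Lib.Helper27.DiagRepQF
import Groth.Agent.Lib.Helper27.QcProd
import Groth.Agent.Lib.Helper27.QcPoints
import Groth.Agent.Lib.Helper27.LocQSmoothOpen
import Groth.Agent.Lib.Helper3.PropQF
import Groth.Agent.S10536

/-!
# Well-nigh affine algebraic stacks (helper27)
-/

set_option autoImplicit false
set_option backward.isDefEq.respectTransparency false
set_option backward.isDefEq.respectTransparency.types false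

universe u

open CategoryTheory CategoryTheory.Limits AlgebraicGeometry Opposite FibCat
  Groth.Agent.Lib.Helper27.FpKit Groth.Agent.Lib.Helper27.RepWithComp

namespace Groth.Agent.Lib.Helper27.WNA

variable {S : Scheme.{u}}

local infixr:80 " ⊚ " => BasedFunctor.comp

theorem isSeparatedMor_of_isPullback ⦃X₁ Y₁ X₂ Y₂ : AlgSp.Sp S⦄ (a : X₁ ⟶ Y₁) (b : Y₂ ⟶ Y₁)
    (a' : X₂ ⟶ Y₂) (b' : X₂ ⟶ X₁) (sq : IsPullback b' a' a b) (ha : AlgSp.IsSeparatedMor a) :
    AlgSp.IsSeparatedMor a' := by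
  have : (AlgSp.RepWith @IsClosedImmersion (S := S)).diagonal.IsStableUnderBaseChange :=
    inferInstance
  exact MorphismProperty.of_isPullback (P := (AlgSp.RepWith @IsClosedImmersion).diagonal) sq ha

/-- The structure functor of the slice of an affine scheme is separated. -/
theorem repByAlgSpWith_isSeparatedMor_toSelf (U : Over S) (hU : IsAffine U.left) :
    AlgSt.RepByAlgSpWith AlgSp.IsSeparatedMor (toSelf (overCat U)) := by
  have hsep : IsSeparated (Groth.Agent.Lib.Helper27.QcProd.toTop U).left := by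
    have h1 : IsSeparated ((Groth.Agent.Lib.Helper27.QcProd.toTop U).left ≫
        terminal.from (Over.mk (𝟙 S)).left) := by
      have : (terminal.from U.left) = (Groth.Agent.Lib.Helper27.QcProd.toTop U).left ≫
          terminal.from (Over.mk (𝟙 S)).left := terminal.hom_ext _ _
      rw [← this]
      infer_instance
    exact IsSeparated.of_comp _ (terminal.from (Over.mk (𝟙 S)).left)
  have h2 : AlgSt.RepByAlgSpWith AlgSp.IsSeparatedMor
      (AlgSt.overMap (Groth.Agent.Lib.Helper27.QcProd.toTop U)) :=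
    Groth.Agent.Lib.Helper27.LocQSmoothOpen.repByAlgSpWith_overMap _
      (fun _ _ _ _ _ _ _ _ a b a' b' sq ha => isSeparatedMor_of_isPullback a b a' b' sq ha)
      _ ((AlgSp.isSeparatedMor_yon_map_iff _).2 hsep)
  refine Groth.Agent.Lib.Helper27.RepWithGeneral.repByAlgSpWith_of_equiv' _ _
    (AlgSt.overMap (Groth.Agent.Lib.Helper27.QcProd.toTop U)) (BasedFunctor.id _)
    (toSelf (overCat (Over.mk (𝟙 S)))) (isEquivOver_id _)
    Groth.Agent.Lib.Helper27.DiagLft.isEquivOver_toSelf_terminal ?_ h2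
  exact eqToIso ((Groth.Agent.Lib.Helper27.QcProd.eq_toSelf _).trans
    (Groth.Agent.Lib.Helper27.QcProd.eq_toSelf _).symm)

open Groth.Agent.Lib.Helper27.SepDiag in
theorem main (𝒳 : AlgSt.Cat S) (h𝒳 : AlgSt.IsAlgStack Scheme.fppfPrecoverage 𝒳)
    (hw : AlgSt.IsWellNighAffine 𝒳) :
    AlgSt.IsQuasiCompact 𝒳 ∧ AlgSt.IsQuasiDMOver 𝒳 ∧ AlgSt.IsSeparatedOver 𝒳 := by
  obtain ⟨U, x, hU, hx⟩ := hw
  have hU' := Groth.Agent.Lib.Helper27.ReprAux.isFibGrpd_overCat U
  have hx₃ : AlgSt.RepByAlgSpWith AlgSp.IsSurjectiveMor x :=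
    repByAlgSpWith_mono x (fun _ _ g hg => hg.1.1.1) hx
  have hx₁ : AlgSt.RepByAlgSpWith (AlgSp.LocP @Flat) x :=
    repByAlgSpWith_mono x (fun _ _ g hg => hg.1.1.2) hx
  have hx₂ : AlgSt.RepByAlgSpWith (AlgSp.LocP @LocallyOfFinitePresentation) x :=
    repByAlgSpWith_mono x (fun _ _ g hg => hg.2) hx
  have hxp : AlgSt.RepByAlgSpWith AlgSp.IsProperMor x :=
    repByAlgSpWith_mono x
      (fun _ _ g hg => (Groth.Agent.Lib.Helper3.PropQF.proper_lqf_of_isFiniteMor g hg.1.2).1) hx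
  have hxq : AlgSt.RepByAlgSpWith (AlgSp.LocP (@LocallyQuasiFinite ⊓ @LocallyOfFiniteType)) x :=
    repByAlgSpWith_mono x
      (fun _ _ g hg => (Groth.Agent.Lib.Helper3.PropQF.proper_lqf_of_isFiniteMor g hg.1.2).2) hx
  refine ⟨?_, ?_, ?_⟩
  · exact Groth.Agent.Lib.Helper27.QcImage.isQuasiCompact_of_isSurjective hU' h𝒳 x
      (Groth.Agent.Lib.Helper27.StPoints.isSurjective_of_rep hU' h𝒳.isStack.1 x hx₃)
      (Groth.Agent.Lib.Helper27.QcStack.isQuasiCompact_overCat U hU)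
  · have hloc : AlgSp.IsLocalOnBase (AlgSp.IsFpqcCover (S := S))
        (AlgSp.LocP (@LocallyQuasiFinite ⊓ @LocallyOfFiniteType)) :=
      Groth.Agent.Lib.Helper3.isLocalOnBase_fpqc_locP
        Groth.Agent.Lib.Helper3.isEtLocal_locallyQuasiFinite
    exact Groth.Agent.Lib.Helper27.DiagProp.prop_diag_toSelf _
      (Groth.Agent.Lib.Helper27.RepWithComp.compHyp_locP
        Groth.Agent.Lib.Helper3.isEtLocal_locallyQuasiFinite)
      (Groth.Agent.Lib.Helper27.RepWithComp.isLocalOnBase_fppf_of_fpqc _ hloc)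
      (fun k hk => Groth.Agent.Lib.Helper27.DiagRep.isQuasiDMMor_of_repByAlgSp1 k hk)
      h𝒳.isStack.1 h𝒳.diag hU' (Groth.Agent.Lib.Helper27.FpRepSp2.repByAlgSp_overCat U)
      x hx₁ hx₂ hx₃ hxq
  · have hsep : AlgSt.RepByAlgSpWith AlgSp.IsSeparatedMor (x ⊚ toSelf 𝒳) := by
      rw [Groth.Agent.Lib.Helper27.QcProd.eq_toSelf (x ⊚ toSelf 𝒳)]
      exact repByAlgSpWith_isSeparatedMor_toSelf U hU
    have hdiag : AlgSt.RepByAlgSpWith AlgSp.IsProperMor (diag (x ⊚ toSelf 𝒳)) :=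
      isSeparatedMor_of_isClosedImm_diag _ (isClosedImm_diag _ hsep)
    exact Groth.Agent.Lib.Helper27.DiagProp.prop_diag_toSelf' _
      Groth.Agent.Lib.Helper27.DiagCancel.compHyp_isProperMor
      (Groth.Agent.Lib.Helper27.RepWithComp.isLocalOnBase_fppf_of_fpqc _
        (Groth.Agent.S10536.result S))
      h𝒳.isStack.1 h𝒳.diag hU' x hdiag hx₁ hx₂ hx₃ hxp

end Groth.Agent.Lib.Helper27.WNA
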