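import Groth.Agent.Lib.Helper27.QADiag1
import Groth.Agent.Lib.Helper27.WNA

/-!
# Charts of a stack with quasi-affine diagonal (helper27)
-/

set_option autoImplicit false
set_option backward.isDefEq.respectTransparency false
set_option backward.isDefEq.respectTransparency.types false

universe u

open CategoryTheory CategoryTheory.Limits AlgebraicGeometry Opposite FibCat
  Groth.Agent.Lib.Helper27.FpKit Groth.Agent.Lib.Helper27.RepWithComp

namespace Groth.Agent.Lib.Helper27.QADiag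

variable {S : Scheme.{u}}

local infixr:80 " ⊚ " => BasedFunctor.comp

theorem isAffineMor_yon_map {V T : Over S} (j : V ⟶ T) [IsAffineHom j.left] :
    AlgSp.IsAffineMor ((AlgSp.yon S).map j) := by
  have h : AlgSp.RepWith @IsAffineHom ((AlgSp.yon S).map j) :=
    (AlgSp.repWith_yon_map_iff @IsAffineHom j).2 inferInstance
  intro Z hZ g
  refine ⟨h.rep.pullback g, h.rep.snd g, h.rep.fst g, h.rep.isPullback g, ?_⟩
  have : IsAffineHom (h.rep.snd g).left := h.property_snd g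
  exact isAffine_of_isAffineHom (h.rep.snd g).left

theorem affine_stable ⦃X₁ Y₁ X₂ Y₂ : AlgSp.Sp S⦄ (a : X₁ ⟶ Y₁) (b : Y₂ ⟶ Y₁) (a' : X₂ ⟶ Y₂)
    (b' : X₂ ⟶ X₁) (sq : IsPullback b' a' a b) (ha : AlgSp.IsAffineMor a) :
    AlgSp.IsAffineMor a' := by
  intro Z hZ g
  obtain ⟨W, ι, fst, sq₁, hR⟩ := ha hZ (g ≫ b)
  refine ⟨W, ι, sq.lift fst ((AlgSp.yon S).map ι ≫ g) (by rw [sq₁.w, Category.assoc]), ?_, hR⟩
  refine IsPullback.of_right ?_ (sq.lift_snd _ _ _) sq
  rw [sq.lift_fst]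
  exact sq₁

/-- The structure functor of the slice of an affine scheme over an affine base is affine. -/
theorem repByAlgSpWith_isAffineMor_toSelf [IsAffine S] (U : Over S) (hU : IsAffine U.left) :
    AlgSt.RepByAlgSpWith AlgSp.IsAffineMor (toSelf (overCat U)) := by
  haveI : IsAffineHom (Groth.Agent.Lib.Helper27.QcProd.toTop U).left := by
    haveI : IsAffine (Over.mk (𝟙 S)).left := inferInstanceAs (IsAffine S)
    exact isAffineHom_of_isAffine _
  have h2 : AlgSt.RepByAlgSpWith AlgSp.IsAffineMor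
      (AlgSt.overMap (Groth.Agent.Lib.Helper27.QcProd.toTop U)) :=
    Groth.Agent.Lib.Helper27.LocQSmoothOpen.repByAlgSpWith_overMap _
      (fun _ _ _ _ _ _ _ _ a b a' b' sq ha => affine_stable a b a' b' sq ha)
      _ (isAffineMor_yon_map _)
  refine Groth.Agent.Lib.Helper27.RepWithGeneral.repByAlgSpWith_of_equiv' _ _
    (AlgSt.overMap (Groth.Agent.Lib.Helper27.QcProd.toTop U)) (BasedFunctor.id _)
    (toSelf (overCat (Over.mk (𝟙 S)))) (isEquivOver_id _)
    Groth.Agent.Lib.Helper27.DiagLft.isEquivOver_toSelf_terminal ?_ h2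
  exact eqToIso ((Groth.Agent.Lib.Helper27.QcProd.eq_toSelf _).trans
    (Groth.Agent.Lib.Helper27.QcProd.eq_toSelf _).symm)

/-- Over an affine base, every functor from an affine scheme to a stack with quasi-affine
diagonal is quasi-affine. -/
theorem repByAlgSpWith_qa_of_affine [IsAffine S] {𝒳 : AlgSt.Cat S} (h𝒳 : FibCat.IsFibGrpd 𝒳.p)
    (hΔ : AlgSt.RepByAlgSpWith AlgSp.IsQuasiAffineMor (diag (toSelf 𝒳)))
    (V : Over S) (hV : IsAffine V.left) (x : overCat V ⥤ᵇ 𝒳) :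
    AlgSt.RepByAlgSpWith AlgSp.IsQuasiAffineMor x := by
  have hgf : AlgSt.RepByAlgSpWith AlgSp.IsAffineMor (x ⊚ toSelf 𝒳) := by
    rw [Groth.Agent.Lib.Helper27.QcProd.eq_toSelf (x ⊚ toSelf 𝒳)]
    exact repByAlgSpWith_isAffineMor_toSelf V hV
  exact cancel_mixed AlgSp.IsQuasiAffineMor AlgSp.IsAffineMor AlgSp.IsQuasiAffineMor
    (fun _ _ _ i _ f _ _ _ h => qa_iso i f h) (fun _ _ c _ _ h => qa_loc c h)
    (fun _ _ _ _ _ _ a b ha hb => qa_comp_affine a b ha hb)
    (Groth.Agent.Lib.Helper27.ReprAux.isFibGrpd_overCat V) h𝒳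
    Groth.Agent.Lib.Helper27.ReprDiag.isFibGrpd_selfOver x (toSelf 𝒳) hgf hΔ

end Groth.Agent.Lib.Helper27.QADiag
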