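import Groth.Agent.Lib.Helper27.QADiag2
import Groth.Agent.Lib.Helper27.IsomQc10
import Groth.Agent.Lib.Helper27.DiagLft
import Groth.Agent.Lib.Helper27.LocQChart
import Groth.Agent.S10537

/-!
# Base changes of the diagonal with a property local on the base (helper27)
-/

set_option autoImplicit false
set_option backward.isDefEq.respectTransparency false
set_option backward.isDefEq.respectTransparency.types false

universe u

open CategoryTheory CategoryTheory.Limits FibCat AlgebraicGeometry Opposite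
  Groth.Agent.Lib.Helper27.FpKit Groth.Agent.Lib.Helper27.PointsKit
  Groth.Agent.Lib.Helper27.StPoints Groth.Agent.Lib.Helper27.ReprDiag
  Groth.Agent.Lib.Helper27.FpBaseChange Groth.Agent.Lib.Helper27.DescentKit
  Groth.Agent.Lib.Helper27.RepCancel Groth.Agent.Lib.Helper27.ValWit
  Groth.Agent.Lib.Helper27.RepWithComp Groth.Agent.Lib.Helper27.IsomQc

namespace Groth.Agent.Lib.Helper27.QADiag

variable {S : Scheme.{u}} {𝒳 : AlgSt.Cat S}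

local infixr:80 " ⊚ " => BasedFunctor.comp

/-- The base change of the diagonal along `y` is presented by a morphism with `P`. -/
def PAt (P : MorphismProperty (AlgSp.Sp S)) {T : Over S}
    (y : overCat T ⥤ᵇ fp (toSelf 𝒳) (toSelf 𝒳)) : Prop :=
  ∃ (F : AlgSp.Space S) (e : AlgSt.ofSp F.obj ⥤ᵇ fp y (diag (toSelf 𝒳))), IsEquivOver e ∧
    P (AlgSt.spMapOfOver (e ⊚ fpFst y (diag (toSelf 𝒳))))

variable (P : MorphismProperty (AlgSp.Sp S))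

theorem pAt_of_iso {T : Over S} {y y' : overCat T ⥤ᵇ fp (toSelf 𝒳) (toSelf 𝒳)} (κ : y' ≅ y)
    (h : PAt P y) : PAt P y' :=
  Groth.Agent.Lib.Helper27.RepWithKit.transport' _
    (isoMapFst (diag (toSelf 𝒳)) y y' κ) (isEquivOver_isoMapFst _ _ _ _)
    (fpFst y' (diag (toSelf 𝒳))) (fpFst y (diag (toSelf 𝒳)))
    (fun _ => ⟨Iso.refl _, Vert.id _⟩) h

theorem pAt_overMap
    (hPb : ∀ ⦃X₁ Y₁ X₂ Y₂ : AlgSp.Sp S⦄, AlgSp.IsAlgSpace X₁ → AlgSp.IsAlgSpace Y₁ →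
      AlgSp.IsAlgSpace X₂ → AlgSp.IsAlgSpace Y₂ → ∀ (a : X₁ ⟶ Y₁) (b : Y₂ ⟶ Y₁) (a' : X₂ ⟶ Y₂)
      (b' : X₂ ⟶ X₁), IsPullback b' a' a b → P a → P a')
    {T V : Over S} (h : V ⟶ T) {y : overCat T ⥤ᵇ fp (toSelf 𝒳) (toSelf 𝒳)}
    (hy : PAt P y) : PAt P (AlgSt.overMap h ⊚ y) := by
  obtain ⟨F, e, he, hqc⟩ := hy
  have h1 : AlgSt.RepByAlgSpWith P (fpFst y (diag (toSelf 𝒳))) :=
    Groth.Agent.Lib.Helper27.RepChart.repByAlgSpWith_of_struct _ hPb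
      (fpFst y (diag (toSelf 𝒳))) F e he hqc
  exact Groth.Agent.Lib.Helper27.RepWithKit.transport _
    (pasteL (diag (toSelf 𝒳)) y (AlgSt.overMap h)) (isEquivOver_pasteL _ _ _)
    (fpFst (AlgSt.overMap h) (fpFst y (diag (toSelf 𝒳))))
    (fpFst (AlgSt.overMap h ⊚ y) (diag (toSelf 𝒳)))
    (fun _ => ⟨Iso.refl _, Vert.id _⟩) (h1 V (AlgSt.overMap h))

theorem pAt_of_cover (hP : AlgSp.IsLocalOnBase AlgSp.IsFppfCover P)
    (h𝒳 : AlgSt.IsAlgStack Scheme.fppfPrecoverage 𝒳) {T : Over S}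
    (y : overCat T ⥤ᵇ fp (toSelf 𝒳) (toSelf 𝒳)) {ι : Type u} (V : ι → Over S)
    (h : ∀ i, V i ⟶ T) (hfl : ∀ i, Flat (h i).left)
    (hfp : ∀ i, LocallyOfFinitePresentation (h i).left)
    (hsurj : ∀ u : ↥T.left, ∃ i, u ∈ Set.range (h i).left)
    (H : ∀ i, PAt P (AlgSt.overMap (h i) ⊚ y)) : PAt P y := by
  obtain ⟨F, e, he⟩ := h𝒳.diag T y
  exact ⟨F, e, he, Groth.Agent.Lib.Helper27.DescentFam.descent_over_schemes _
    hP (diag (toSelf 𝒳)) y F e he V h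
    hfl hfp hsurj (fun i => AlgSt.overMap (h i) ⊚ y) (fun i => Iso.refl _) H⟩

theorem pAt_pairK_of_factor
    (hPb : ∀ ⦃X₁ Y₁ X₂ Y₂ : AlgSp.Sp S⦄, AlgSp.IsAlgSpace X₁ → AlgSp.IsAlgSpace Y₁ →
      AlgSp.IsAlgSpace X₂ → AlgSp.IsAlgSpace Y₂ → ∀ (a : X₁ ⟶ Y₁) (b : Y₂ ⟶ Y₁) (a' : X₂ ⟶ Y₂)
      (b' : X₂ ⟶ X₁), IsPullback b' a' a b → P a → P a')
    {T W : Over S} (c : T ⟶ W) (a' b' : overCat W ⥤ᵇ 𝒳)
    (a b : overCat T ⥤ᵇ 𝒳) (α : a ≅ AlgSt.overMap c ⊚ a') (β : b ≅ AlgSt.overMap c ⊚ b')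
    (h : PAt P (pairK a' b')) : PAt P (pairK a b) :=
  pAt_of_iso P (pairKIso α β) (pAt_overMap P hPb c h)

end Groth.Agent.Lib.Helper27.QADiag
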