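import Groth.Agent.Lib.Helper27.QADiag3

/-!
# Quasi-affine diagonal from quasi-affine affine charts: the local statement (helper27)
-/

set_option autoImplicit false
set_option backward.isDefEq.respectTransparency false
set_option backward.isDefEq.respectTransparency.types false

universe u

open CategoryTheory CategoryTheory.Limits FibCat AlgebraicGeometry Opposite
  Groth.Agent.Lib.Helper27.FpKit Groth.Agent.Lib.Helper27.PointsKit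
  Groth.Agent.Lib.Helper27.StPoints Groth.Agent.Lib.Helper27.ReprDiag
  Groth.Agent.Lib.Helper27.FpBaseChange Groth.Agent.Lib.Helper27.DescentKit
  Groth.Agent.Lib.Helper27.RepCancel Groth.Agent.Lib.Helper27.ValWit
  Groth.Agent.Lib.Helper27.RepWithComp Groth.Agent.Lib.Helper27.IsomQc
  Groth.Agent.Lib.Helper27.GraphDiag Groth.Agent.Lib.Helper27.CompareDiag
  Groth.Agent.Lib.Helper27.DiagLft

namespace Groth.Agent.Lib.Helper27.QADiag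

variable {S : Scheme.{u}}

local infixr:80 " ⊚ " => BasedFunctor.comp

section E12

variable {𝒳₁ 𝒳₂ 𝒴 𝒵 : AlgSt.Cat S} (f₁ : 𝒳₁ ⥤ᵇ 𝒴) (f₂ : 𝒳₂ ⥤ᵇ 𝒴) (g : 𝒴 ⥤ᵇ 𝒵)

/-- The canonical 2-isomorphism of `𝒳₁ ×_𝒴 𝒳₂` pushed to `𝒵`. -/
def e₁₂ : fpFst f₁ f₂ ⊚ (f₁ ⊚ g) ≅ fpSnd f₁ f₂ ⊚ (f₂ ⊚ g) :=
  BasedNatIso.mkNatIso
    (NatIso.ofComponents (fun x => g.toFunctor.mapIso x.obj.iso) (fun {x x'} m => by
      change g.toFunctor.map (f₁.toFunctor.map m.hom.fst) ≫ g.toFunctor.map x'.obj.iso.hom =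
        g.toFunctor.map x.obj.iso.hom ≫ g.toFunctor.map (f₂.toFunctor.map m.hom.snd)
      rw [← g.toFunctor.map_comp, ← g.toFunctor.map_comp, hom_w m]))
    (fun x => ((vert_iso x).map g).lift ((f₁ ⊚ g).w_obj x.obj.fst))

theorem he₁₂ (x : (fp f₁ f₂).obj) :
    (e₁₂ f₁ f₂ g).hom.toNatTrans.app x = g.map x.obj.iso.hom := rfl

end E12

section Core

variable {𝒳 : AlgSt.Cat S} [IsAffine S] {V₁ V₂ : Over S} (x₁ : overCat V₁ ⥤ᵇ 𝒳)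
  (x₂ : overCat V₂ ⥤ᵇ 𝒳)

theorem qa_cmp (h𝒳f : FibCat.IsFibGrpd 𝒳.p) (hV₂ : IsAffine V₂.left)
    (hx₂ : AlgSt.RepByAlgSpWith AlgSp.IsQuasiAffineMor x₂) :
    AlgSt.RepByAlgSpWith AlgSp.IsQuasiAffineMor
      (cmp x₁ x₂ (toSelf 𝒳) (e₁₂ x₁ x₂ (toSelf 𝒳))) := by
  have hU₁ : FibCat.IsFibGrpd (overCat V₁).p :=
    Groth.Agent.Lib.Helper27.ReprAux.isFibGrpd_overCat V₁
  have hU₂ : FibCat.IsFibGrpd (overCat V₂).p :=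
    Groth.Agent.Lib.Helper27.ReprAux.isFibGrpd_overCat V₂
  have hself : FibCat.IsFibGrpd (selfOver (Over S)).p :=
    Groth.Agent.Lib.Helper27.ReprDiag.isFibGrpd_selfOver
  have hsep : AlgSt.RepByAlgSpWith AlgSp.IsSeparatedMor (x₂ ⊚ toSelf 𝒳) := by
    rw [Groth.Agent.Lib.Helper27.QcProd.eq_toSelf (x₂ ⊚ toSelf 𝒳)]
    exact Groth.Agent.Lib.Helper27.WNA.repByAlgSpWith_isSeparatedMor_toSelf V₂ hV₂
  have hΔ : AlgSt.RepByAlgSpWith (AlgSp.RepWith @IsClosedImmersion)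
      (diag (fpFst (x₁ ⊚ toSelf 𝒳) (x₂ ⊚ toSelf 𝒳))) :=
    Groth.Agent.Lib.Helper27.DiagRepWith.repByAlgSpWith_diag_fpFst _ (x₂ ⊚ toSelf 𝒳)
      (x₁ ⊚ toSelf 𝒳) (Groth.Agent.Lib.Helper27.SepDiag.isClosedImm_diag _ hsep)
  have hgf : AlgSt.RepByAlgSpWith AlgSp.IsQuasiAffineMor
      (cmp x₁ x₂ (toSelf 𝒳) (e₁₂ x₁ x₂ (toSelf 𝒳)) ⊚
        fpFst (x₁ ⊚ toSelf 𝒳) (x₂ ⊚ toSelf 𝒳)) :=
    Groth.Agent.Lib.Helper27.RepWithGeneral.repByAlgSpWith_fpFst _ x₂ x₁ hx₂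
  have H := compHyp_repWith (S := S) @IsClosedImmersion
  exact cancel_mixed (AlgSp.RepWith @IsClosedImmersion) AlgSp.IsQuasiAffineMor
    AlgSp.IsQuasiAffineMor H.iso H.loc (fun _ _ _ _ _ _ a b ha hb => qa_comp_ci a b ha hb)
    (Groth.Agent.Lib.Helper27.FpFib.isFibGrpd_fp x₁ x₂ hU₁ hU₂ h𝒳f)
    (Groth.Agent.Lib.Helper27.FpFib.isFibGrpd_fp _ _ hU₁ hU₂ hself) hU₁ _ _ hgf hΔ

theorem pAt_core (h𝒳f : FibCat.IsFibGrpd 𝒳.p) (hV₂ : IsAffine V₂.left)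
    (hx₂ : AlgSt.RepByAlgSpWith AlgSp.IsQuasiAffineMor x₂) {T : Over S} (c₁ : T ⟶ V₁)
    (c₂ : T ⟶ V₂) :
    PAt AlgSp.IsQuasiAffineMor (pairK (AlgSt.overMap c₁ ⊚ x₁) (AlgSt.overMap c₂ ⊚ x₂)) := by
  have h2 : AlgSt.RepByAlgSpWith AlgSp.IsQuasiAffineMor
      (fpFst (P x₂ (toSelf 𝒳) x₁) (diag (toSelf 𝒳))) :=
    repByAlgSpWith_fpFst_P_of_cmp x₁ x₂ (toSelf 𝒳) (e₁₂ x₁ x₂ (toSelf 𝒳))
      (he₁₂ x₁ x₂ (toSelf 𝒳)) _ (qa_cmp x₁ x₂ h𝒳f hV₂ hx₂)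
  let y : overCat T ⥤ᵇ fp (x₁ ⊚ toSelf 𝒳) (x₂ ⊚ toSelf 𝒳) :=
    fpLift (AlgSt.overMap c₁) (AlgSt.overMap c₂)
      (eIso (AlgSt.overMap c₁ ⊚ x₁) (AlgSt.overMap c₂ ⊚ x₂))
  have h3 : PAt AlgSp.IsQuasiAffineMor (y ⊚ P x₂ (toSelf 𝒳) x₁) :=
    Groth.Agent.Lib.Helper27.RepWithKit.transport _
      (pasteL (diag (toSelf 𝒳)) (P x₂ (toSelf 𝒳) x₁) y) (isEquivOver_pasteL _ _ _)
      (fpFst y (fpFst (P x₂ (toSelf 𝒳) x₁) (diag (toSelf 𝒳))))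
      (fpFst (y ⊚ P x₂ (toSelf 𝒳) x₁) (diag (toSelf 𝒳)))
      (fun _ => ⟨Iso.refl _, Vert.id _⟩) (h2 T y)
  exact pAt_of_iso _ (isoPairK (y ⊚ P x₂ (toSelf 𝒳) x₁)).symm h3

end Core

end Groth.Agent.Lib.Helper27.QADiag
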