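import Groth.Agent.Lib.Helper27.QADiag4

/-!
# Quasi-affine diagonal from quasi-affine affine charts (helper27)
-/

set_option autoImplicit false
set_option backward.isDefEq.respectTransparency false
set_option backward.isDefEq.respectTransparency.types false

universe u

open CategoryTheory CategoryTheory.Limits FibCat AlgebraicGeometry Opposite
  Groth.Agent.Lib.Helper27.FpKit Groth.Agent.Lib.Helper27.PointsKit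
  Groth.Agent.Lib.Helper27.StPoints Groth.Agent.Lib.Helper27.ReprDiag
  Groth.Agent.Lib.Helper27.FpBaseChange Groth.Agent.Lib.Helper27.DescentKit
  Groth.Agent.Lib.Helper27.RepCancel Groth.Agent.Lib.Helper27.ValWit
  Groth.Agent.Lib.Helper27.RepWithComp Groth.Agent.Lib.Helper27.IsomQc
  Groth.Agent.Lib.Helper27.GraphDiag Groth.Agent.Lib.Helper27.CompareDiag
  Groth.Agent.Lib.Helper27.DiagLft Groth.Agent.Lib.Helper27.LocQChart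

namespace Groth.Agent.Lib.Helper27.QADiag

variable {S : Scheme.{u}} {𝒳 : AlgSt.Cat S}

local infixr:80 " ⊚ " => BasedFunctor.comp

theorem qa_stable' ⦃X₁ Y₁ X₂ Y₂ : AlgSp.Sp S⦄ (_ : AlgSp.IsAlgSpace X₁)
    (_ : AlgSp.IsAlgSpace Y₁) (_ : AlgSp.IsAlgSpace X₂) (_ : AlgSp.IsAlgSpace Y₂)
    (a : X₁ ⟶ Y₁) (b : Y₂ ⟶ Y₁) (a' : X₂ ⟶ Y₂) (b' : X₂ ⟶ X₁) (sq : IsPullback b' a' a b)
    (ha : AlgSp.IsQuasiAffineMor a) : AlgSp.IsQuasiAffineMor a' :=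
  qa_stable a b a' b' sq ha

section Charts

variable [IsAffine S] (h𝒳 : AlgSt.IsAlgStack Scheme.fppfPrecoverage 𝒳) {U : Over S}
  (x : overCat U ⥤ᵇ 𝒳)
  (hV : ∀ (V : U.left.Opens), IsAffineOpen V →
    AlgSt.RepByAlgSpWith AlgSp.IsQuasiAffineMor
      (AlgSt.overMap (Over.homMk V.ι rfl : Over.mk (V.ι ≫ U.hom) ⟶ U) ⊚ x))

include h𝒳 hV

theorem pAt_of_charts {T : Over S} (u₁ u₂ : T ⟶ U) :
    PAt AlgSp.IsQuasiAffineMor (pairK (AlgSt.overMap u₁ ⊚ x) (AlgSt.overMap u₂ ⊚ x)) := by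
  have hex : ∀ t : ↥T.left, ∃ W₁ W₂ : U.left.Opens, IsAffineOpen W₁ ∧ IsAffineOpen W₂ ∧
      u₁.left t ∈ W₁ ∧ u₂.left t ∈ W₂ := fun t => by
    obtain ⟨W₁, hW₁, ht₁, -⟩ :=
      exists_isAffineOpen_mem_and_subset (x := u₁.left t) (U := (⊤ : U.left.Opens)) trivial
    obtain ⟨W₂, hW₂, ht₂, -⟩ :=
      exists_isAffineOpen_mem_and_subset (x := u₂.left t) (U := (⊤ : U.left.Opens)) trivial
    exact ⟨W₁, W₂, hW₁, hW₂, ht₁, ht₂⟩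
  choose W₁ W₂ hW₁ hW₂ ht₁ ht₂ using hex
  refine pAt_of_cover _ (isLocalOnBase_fppf_of_fpqc _ (Groth.Agent.S10537.result S)) h𝒳 _
    (ι := ↥T.left)
    (fun t => Over.mk ((u₁.left ⁻¹ᵁ W₁ t ⊓ u₂.left ⁻¹ᵁ W₂ t).ι ≫ T.hom))
    (fun t => Over.homMk (u₁.left ⁻¹ᵁ W₁ t ⊓ u₂.left ⁻¹ᵁ W₂ t).ι rfl)
    (fun t => inferInstanceAs (Flat (u₁.left ⁻¹ᵁ W₁ t ⊓ u₂.left ⁻¹ᵁ W₂ t).ι))
    (fun t => inferInstanceAs
      (LocallyOfFinitePresentation (u₁.left ⁻¹ᵁ W₁ t ⊓ u₂.left ⁻¹ᵁ W₂ t).ι))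
    (fun t => ⟨t, ⟨⟨t, ⟨ht₁ t, ht₂ t⟩⟩, rfl⟩⟩) (fun t => ?_)
  let O : T.left.Opens := u₁.left ⁻¹ᵁ W₁ t ⊓ u₂.left ⁻¹ᵁ W₂ t
  let VO : Over S := Over.mk (O.ι ≫ T.hom)
  let hVO : VO ⟶ T := Over.homMk O.ι rfl
  let W₁O : Over S := Over.mk ((W₁ t).ι ≫ U.hom)
  let W₂O : Over S := Over.mk ((W₂ t).ι ≫ U.hom)
  let j₁ : W₁O ⟶ U := Over.homMk (W₁ t).ι rfl
  let j₂ : W₂O ⟶ U := Over.homMk (W₂ t).ι rfl
  have hle₁ : O ≤ u₁.left ⁻¹ᵁ W₁ t := inf_le_left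
  have hle₂ : O ≤ u₂.left ⁻¹ᵁ W₂ t := inf_le_right
  let c₁ : VO ⟶ W₁O := Over.homMk (T.left.homOfLE hle₁ ≫ (u₁.left ∣_ W₁ t)) (by
    change (T.left.homOfLE hle₁ ≫ (u₁.left ∣_ W₁ t)) ≫ (W₁ t).ι ≫ U.hom = O.ι ≫ T.hom
    rw [Category.assoc, morphismRestrict_ι_assoc, Scheme.homOfLE_ι_assoc]
    congr 1
    exact Over.w u₁)
  let c₂ : VO ⟶ W₂O := Over.homMk (T.left.homOfLE hle₂ ≫ (u₂.left ∣_ W₂ t)) (by
    change (T.left.homOfLE hle₂ ≫ (u₂.left ∣_ W₂ t)) ≫ (W₂ t).ι ≫ U.hom = O.ι ≫ T.hom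
    rw [Category.assoc, morphismRestrict_ι_assoc, Scheme.homOfLE_ι_assoc]
    congr 1
    exact Over.w u₂)
  have e₁ : c₁ ≫ j₁ = hVO ≫ u₁ := by
    apply Over.OverMorphism.ext
    change (T.left.homOfLE hle₁ ≫ (u₁.left ∣_ W₁ t)) ≫ (W₁ t).ι = O.ι ≫ u₁.left
    rw [Category.assoc, morphismRestrict_ι, Scheme.homOfLE_ι_assoc]
  have e₂ : c₂ ≫ j₂ = hVO ≫ u₂ := by
    apply Over.OverMorphism.ext
    change (T.left.homOfLE hle₂ ≫ (u₂.left ∣_ W₂ t)) ≫ (W₂ t).ι = O.ι ≫ u₂.left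
    rw [Category.assoc, morphismRestrict_ι, Scheme.homOfLE_ι_assoc]
  have hW₂aff : IsAffine W₂O.left := hW₂ t
  have h1 : PAt AlgSp.IsQuasiAffineMor
      (pairK (AlgSt.overMap c₁ ⊚ (AlgSt.overMap j₁ ⊚ x)) (AlgSt.overMap c₂ ⊚ (AlgSt.overMap j₂ ⊚ x))) :=
    pAt_core (AlgSt.overMap j₁ ⊚ x) (AlgSt.overMap j₂ ⊚ x) h𝒳.isStack.1 hW₂aff
      (hV (W₂ t) (hW₂ t)) c₁ c₂
  exact pAt_of_iso _ (pairKIso
    (overMapCompIso hVO u₁ _ rfl x ≪≫ (overMapCompIso c₁ j₁ _ e₁ x).symm)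
    (overMapCompIso hVO u₂ _ rfl x ≪≫ (overMapCompIso c₂ j₂ _ e₂ x).symm)) h1

end Charts

theorem main_mpr [IsAffine S] (h𝒳 : AlgSt.IsAlgStack Scheme.fppfPrecoverage 𝒳) {U : Over S}
    (x : overCat U ⥤ᵇ 𝒳)
    (hx₁ : AlgSt.RepByAlgSpWith (AlgSp.LocP @Smooth) x)
    (hx₂ : AlgSt.RepByAlgSpWith AlgSp.IsSurjectiveMor x)
    (hV : ∀ (V : U.left.Opens), IsAffineOpen V →
      AlgSt.RepByAlgSpWith AlgSp.IsQuasiAffineMor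
        (AlgSt.overMap (Over.homMk V.ι rfl : Over.mk (V.ι ≫ U.hom) ⟶ U) ⊚ x)) :
    AlgSt.RepByAlgSpWith AlgSp.IsQuasiAffineMor (FibCat.diag (FibCat.toSelf 𝒳)) := by
  have hf𝒳 : FibCat.IsFibGrpd 𝒳.p := h𝒳.isStack.1
  have hU : FibCat.IsFibGrpd (overCat U).p :=
    Groth.Agent.Lib.Helper27.ReprAux.isFibGrpd_overCat U
  have hself : FibCat.IsFibGrpd (selfOver (Over S)).p :=
    Groth.Agent.Lib.Helper27.ReprDiag.isFibGrpd_selfOver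
  have hz₁ : AlgSt.RepByAlgSpWith (AlgSp.LocP @Flat) (P x (toSelf 𝒳) x) :=
    Groth.Agent.Lib.Helper27.ProdFunctor.repByAlgSpWith_P x (toSelf 𝒳) x _
      (compHyp_locP Groth.Agent.Lib.Helper3.isEtLocal_flat) hU hf𝒳 hself hU
      (flat_of_smooth x hx₁) (flat_of_smooth x hx₁)
  have hz₂ : AlgSt.RepByAlgSpWith (AlgSp.LocP @LocallyOfFinitePresentation)
      (P x (toSelf 𝒳) x) :=
    Groth.Agent.Lib.Helper27.ProdFunctor.repByAlgSpWith_P x (toSelf 𝒳) x _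
      (compHyp_locP Groth.Agent.Lib.Helper3.isEtLocal_locallyOfFinitePresentation) hU hf𝒳 hself hU
      (lfp_of_smooth x hx₁) (lfp_of_smooth x hx₁)
  have hz₃ : AlgSt.RepByAlgSpWith AlgSp.IsSurjectiveMor (P x (toSelf 𝒳) x) :=
    Groth.Agent.Lib.Helper27.ProdFunctor.repByAlgSpWith_P x (toSelf 𝒳) x _
      compHyp_isSurjectiveMor hU hf𝒳 hself hU hx₂ hx₂
  refine repByAlgSpWith_of_fpFst_cover _
    (isLocalOnBase_fppf_of_fpqc _ (Groth.Agent.S10537.result S)) hf𝒳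
    (Groth.Agent.Lib.Helper27.FpFib.isFibGrpd_fp _ _ hf𝒳 hf𝒳 hself)
    (Groth.Agent.Lib.Helper27.FpFib.isFibGrpd_fp _ _ hU hU hself)
    (diag (toSelf 𝒳)) h𝒳.diag (P x (toSelf 𝒳) x) hz₁ hz₂ hz₃ ?_
  intro T y
  let y₁ : overCat T ⥤ᵇ overCat U := y ⊚ fpFst (x ⊚ toSelf 𝒳) (x ⊚ toSelf 𝒳)
  let y₂ : overCat T ⥤ᵇ overCat U := y ⊚ fpSnd (x ⊚ toSelf 𝒳) (x ⊚ toSelf 𝒳)
  have hq : PAt AlgSp.IsQuasiAffineMor (y ⊚ P x (toSelf 𝒳) x) := by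
    refine pAt_of_iso _ (isoPairK (y ⊚ P x (toSelf 𝒳) x) ≪≫
      pairKIso (whiskerRightIso (isoOverMap y₁) x) (whiskerRightIso (isoOverMap y₂) x)) ?_
    exact pAt_of_charts h𝒳 x hV (homOf y₁) (homOf y₂)
  exact Groth.Agent.Lib.Helper27.RepWithKit.transport' _
    (pasteL (diag (toSelf 𝒳)) (P x (toSelf 𝒳) x) y) (isEquivOver_pasteL _ _ _)
    (fpFst y (fpFst (P x (toSelf 𝒳) x) (diag (toSelf 𝒳))))
    (fpFst (y ⊚ P x (toSelf 𝒳) x) (diag (toSelf 𝒳)))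
    (fun _ => ⟨Iso.refl _, Vert.id _⟩) hq

theorem main [IsAffine S] (h𝒳 : AlgSt.IsAlgStack Scheme.fppfPrecoverage 𝒳) :
    AlgSt.RepByAlgSpWith AlgSp.IsQuasiAffineMor (FibCat.diag (FibCat.toSelf 𝒳)) ↔
      ∃ (U : Over S) (x : FibCat.overCat U ⥤ᵇ 𝒳),
        AlgSt.RepByAlgSpWith (AlgSp.LocP @Smooth) x ∧
          AlgSt.RepByAlgSpWith AlgSp.IsSurjectiveMor x ∧
          ∀ (V : U.left.Opens), IsAffineOpen V →
            AlgSt.RepByAlgSpWith AlgSp.IsQuasiAffineMor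
              (BasedFunctor.comp
                (AlgSt.overMap (Over.homMk V.ι rfl : Over.mk (V.ι ≫ U.hom) ⟶ U)) x) := by
  constructor
  · intro hΔ
    obtain ⟨U, x, hx₁, hx₂⟩ := h𝒳.atlas
    refine ⟨U, x, hx₁, hx₂, fun V hVaff => ?_⟩
    exact repByAlgSpWith_qa_of_affine h𝒳.isStack.1 hΔ (Over.mk (V.ι ≫ U.hom)) hVaff _
  · rintro ⟨U, x, hx₁, hx₂, hV⟩
    exact main_mpr h𝒳 x hx₁ hx₂ hV

end Groth.Agent.Lib.Helper27.QADiag
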