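import Groth.Agent.Lib.Helper27.QcImage
import Groth.Agent.Lib.Helper27.AlgStackFp2
import Groth.Agent.Lib.Helper27.AlgStackEquiv
import Groth.Agent.S10530
import Groth.Agent.S10527

/-!
# Quasi-compact morphisms: fppf descent on the base (helper27)
-/

set_option autoImplicit false
set_option backward.isDefEq.respectTransparency false
set_option backward.isDefEq.respectTransparency.types false

universe u

open CategoryTheory CategoryTheory.Limits AlgebraicGeometry Opposite FibCat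
  Groth.Agent.Lib.Helper27.FpKit Groth.Agent.Lib.Helper27.PshKit
  Groth.Agent.Lib.Helper27.RepWithComp Groth.Agent.Lib.Helper27.FpBaseChange

namespace Groth.Agent.Lib.Helper27.QcImage

variable {S : Scheme.{u}}

/-- A surjective image of a quasi-compact category is quasi-compact. -/
theorem isQuasiCompact_of_surj' {𝒬 𝒳 : AlgSt.Cat S}
    (h𝒳 : AlgSt.IsAlgStack Scheme.fppfPrecoverage 𝒳) (h𝒬f : FibCat.IsFibGrpd 𝒬.p)
    (h𝒬 : AlgSt.IsQuasiCompact 𝒬) (m : 𝒬 ⥤ᵇ 𝒳)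
    (hm : AlgSt.RepByAlgSpWith AlgSp.IsSurjectiveMor m) : AlgSt.IsQuasiCompact 𝒳 := by
  obtain ⟨U, x, hU, -, hx⟩ := h𝒬
  have hc : CompactSpace ↥U.left := by
    have : IsAffine U.left := hU
    infer_instance
  refine isQuasiCompact_of_surj h𝒳 ⟨(AlgSp.yon S).obj U, AlgSp.IsAlgSpace.yon_obj U⟩
    (Groth.Agent.Lib.Helper3.isQuasiCompactSp_yon hc)
    (BasedFunctor.comp (AlgSt.toOverCat U) (BasedFunctor.comp x m)) ?_
  exact Groth.Agent.Lib.Helper27.LocQOver.repByAlgSpWith_equiv_comp _ (AlgSt.toOverCat U)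
    (Groth.Agent.Lib.Helper27.PshRep.isEquivOver_toOverCat U) _
    (comp_gen _ Groth.Agent.Lib.Helper27.DiagLft.compHyp_isSurjectiveMor
      (Groth.Agent.Lib.Helper27.ReprAux.isFibGrpd_overCat U) h𝒬f x m hx hm)

/-- A flat, locally finitely presented, surjective map to a quasi-compact algebraic space is
already surjective on a quasi-compact scheme mapping to the source. -/
theorem exists_compact_chart {X' G : AlgSp.Sp S} (hX' : AlgSp.IsAlgSpace X')
    (hG : AlgSp.IsAlgSpace G) (hGq : AlgSp.IsQuasiCompactSp G) (t : X' ⟶ G)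
    (hfl : AlgSp.LocP @Flat t) (hfp : AlgSp.LocP @LocallyOfFinitePresentation t)
    (hs : AlgSp.IsSurjectiveMor t) :
    ∃ (A' : Over S) (a' : (AlgSp.yon S).obj A' ⟶ X'), CompactSpace ↥A'.left ∧
      AlgSp.IsSurjectiveMor (a' ≫ t) := by
  obtain ⟨A, a, hae, has⟩ := hX'.atlas
  have hto : IsOpenMap (AlgSp.Points.map t) :=
    Groth.Agent.Lib.Helper3.isOpenMor_of_isUnivOpenMor hG
      (Groth.Agent.Lib.Helper3.isUnivOpenMor_of_flat_lfp hX' hG t hfl hfp)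
  have hasm : AlgSp.LocP @Smooth a := Groth.Agent.Lib.Helper27.LocQSpace.smooth_of_etale a hae
  have hao : IsOpenMap (AlgSp.Points.map a) :=
    Groth.Agent.Lib.Helper3.isOpenMor_of_isUnivOpenMor hX'
      (Groth.Agent.Lib.Helper3.isUnivOpenMor_of_flat_lfp (AlgSp.IsAlgSpace.yon_obj A) hX' a
        (Groth.Agent.Lib.Helper3.locP_mono
          (fun _ _ m hm => by have : Smooth m := hm; infer_instance) hasm)
        (Groth.Agent.Lib.Helper3.locP_mono
          (fun _ _ m hm => by have : Smooth m := hm; infer_instance) hasm))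
  have hpo : IsOpenMap (AlgSp.Points.map (a ≫ t)) := by
    have : AlgSp.Points.map (a ≫ t) = AlgSp.Points.map t ∘ AlgSp.Points.map a :=
      funext (AlgSp.Points.map_comp a t)
    rw [this]
    exact hto.comp hao
  have hps : AlgSp.IsSurjectiveMor (a ≫ t) :=
    Groth.Agent.Lib.Helper3.isSurjectiveMor_comp
      (Groth.Agent.Lib.Helper3.isSurjectiveMor_of_repWith has) hs
  haveI := Groth.Agent.Lib.Helper3.compactSpace_points_of_isQuasiCompactSp hGq
  obtain ⟨A', j, -, hA'c, hsurj⟩ := exists_compact_open (a ≫ t) hpo hps A (𝟙 _)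
  refine ⟨A', (AlgSp.yon S).map j ≫ a, hA'c, fun φ => ?_⟩
  obtain ⟨w, hw, y', hy'⟩ := hsurj φ
  rw [AlgSp.Points.map_id] at hy'
  refine ⟨AlgSp.Points.schemeHomeo A' y', ?_⟩
  rw [Category.assoc, AlgSp.Points.map_comp, AlgSp.Points.map_yon_map_apply, ← hy', hw]

theorem compHyp_inf {A B : MorphismProperty (AlgSp.Sp S)} (hA : CompHyp A) (hB : CompHyp B) :
    CompHyp (A ⊓ B) where
  iso := fun _ _ _ i _ f hX hX' hY h => ⟨hA.iso i f hX hX' hY h.1, hB.iso i f hX hX' hY h.2⟩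
  loc := fun _ _ c hX' hY' h =>
    ⟨hA.loc c hX' hY' (fun V a => (h V a).1), hB.loc c hX' hY' (fun V a => (h V a).2)⟩
  comp := fun _ _ _ hX hY hZ a b ha hb =>
    ⟨hA.comp hX hY hZ a b ha.1 hb.1, hB.comp hX hY hZ a b ha.2 hb.2⟩

theorem isQuasiCompact_overCat' (Z : Over S) (hc : CompactSpace ↥Z.left) :
    AlgSt.IsQuasiCompact (overCat Z) := by
  have h1 : AlgSt.RepByAlgSpWith (AlgSp.LocP @Smooth)
      (AlgSt.ofSpMap (𝟙 ((AlgSp.yon S).obj Z))) :=
    Groth.Agent.Lib.Helper27.LocQSpace.repByAlgSpWith_ofSpMap_of_repWith @Etale _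
      Groth.Agent.Lib.Helper27.LocQSpace.smooth_of_etale
      (AlgSp.IsAlgSpace.yon_obj Z) (AlgSp.IsAlgSpace.yon_obj Z) _ (AlgSp.repWith_id @Etale Z)
  have h2 : AlgSt.RepByAlgSpWith AlgSp.IsSurjectiveMor
      (AlgSt.ofSpMap (𝟙 ((AlgSp.yon S).obj Z))) :=
    Groth.Agent.Lib.Helper27.LocQComp.repByAlgSpWith_ofSpMap_of_stable _
      Groth.Agent.Lib.Helper27.LocQComp.surj_stable
      (AlgSp.IsAlgSpace.yon_obj Z) (AlgSp.IsAlgSpace.yon_obj Z) _
      (fun x => ⟨x, AlgSp.Points.map_id x⟩)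
  exact Groth.Agent.Lib.Helper27.QcStack.isQuasiCompact_of_space
    ⟨(AlgSp.yon S).obj Z, AlgSp.IsAlgSpace.yon_obj Z⟩
    (Groth.Agent.Lib.Helper3.isQuasiCompactSp_yon hc)
    (BasedFunctor.comp (AlgSt.ofSpMap (𝟙 ((AlgSp.yon S).obj Z))) (AlgSt.toOverCat Z))
    (Groth.Agent.Lib.Helper27.LocQOver.repByAlgSpWith_comp_equiv _ _ _
      (Groth.Agent.Lib.Helper27.PshRep.isEquivOver_toOverCat Z) h1)
    (Groth.Agent.Lib.Helper27.LocQOver.repByAlgSpWith_comp_equiv _ _ _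
      (Groth.Agent.Lib.Helper27.PshRep.isEquivOver_toOverCat Z) h2)

/-- Quasi-compactness of a functor between algebraic stacks can be checked after a flat, locally
finitely presented, surjective base change from an algebraic space. -/
theorem isQuasiCompactMor_of_fpFst {𝒳 𝒴 : AlgSt.Cat S}
    (h𝒳 : AlgSt.IsAlgStack Scheme.fppfPrecoverage 𝒳)
    (h𝒴 : AlgSt.IsAlgStack Scheme.fppfPrecoverage 𝒴) (f : 𝒳 ⥤ᵇ 𝒴)
    (W : AlgSp.Space S) (w : AlgSt.ofSp W.obj ⥤ᵇ 𝒴)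
    (hw₁ : AlgSt.RepByAlgSpWith (AlgSp.LocP @Flat) w)
    (hw₂ : AlgSt.RepByAlgSpWith (AlgSp.LocP @LocallyOfFinitePresentation) w)
    (hw₃ : AlgSt.RepByAlgSpWith AlgSp.IsSurjectiveMor w)
    (H : AlgSt.IsQuasiCompactMor Scheme.fppfPrecoverage (fpFst w f)) :
    AlgSt.IsQuasiCompactMor Scheme.fppfPrecoverage f := by
  intro 𝒵 h𝒵 h𝒵q g
  obtain ⟨V, v, hV, -, hv⟩ := h𝒵q
  have hcV : CompactSpace ↥V.left := by
    have : IsAffine V.left := hV
    infer_instance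
  have hfl : AlgSp.IsLocalOnBase AlgSp.IsFppfCover
      (AlgSp.LocP @Flat : MorphismProperty (AlgSp.Sp S)) :=
    isLocalOnBase_fppf_of_fpqc _ (Groth.Agent.S10530.result S)
  have hfp : AlgSp.IsLocalOnBase AlgSp.IsFppfCover
      (AlgSp.LocP @LocallyOfFinitePresentation : MorphismProperty (AlgSp.Sp S)) :=
    isLocalOnBase_fppf_of_fpqc _ (Groth.Agent.S10527.result S)
  have hw : AlgSt.RepByAlgSpWith (AlgSp.IsSurjectiveMor ⊓
      (AlgSp.LocP @Flat ⊓ AlgSp.LocP @LocallyOfFinitePresentation)) w :=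
    Groth.Agent.Lib.Helper27.SepDiag.repByAlgSpWith_inf w _ _
      (Groth.Agent.Lib.Helper27.SourceCancel.isLocalOnBase_inf _ _ _ hfl hfp) hw₃
      (Groth.Agent.Lib.Helper27.SepDiag.repByAlgSpWith_inf w _ _ hfp hw₁ hw₂)
  have H3 : CompHyp (AlgSp.IsSurjectiveMor ⊓
      (AlgSp.LocP @Flat ⊓ AlgSp.LocP @LocallyOfFinitePresentation) :
        MorphismProperty (AlgSp.Sp S)) :=
    compHyp_inf Groth.Agent.Lib.Helper27.DiagLft.compHyp_isSurjectiveMor
      (compHyp_inf (compHyp_locP Groth.Agent.Lib.Helper3.isEtLocal_flat)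
        (compHyp_locP Groth.Agent.Lib.Helper3.isEtLocal_locallyOfFinitePresentation))
  have hfW : FibCat.IsFibGrpd (AlgSt.ofSp W.obj).p := Stk.isFibGrpd_ofPsh (P := W.obj.obj)
  have hfV : FibCat.IsFibGrpd (AlgSt.ofSp ((AlgSp.yon S).obj V)).p :=
    Stk.isFibGrpd_ofPsh (P := ((AlgSp.yon S).obj V).obj)
  obtain ⟨v', hv'def⟩ : ∃ v' : AlgSt.ofSp ((AlgSp.yon S).obj V) ⥤ᵇ 𝒵,
    v' = BasedFunctor.comp (AlgSt.toOverCat V) v := ⟨_, rfl⟩
  have hv' : AlgSt.RepByAlgSpWith AlgSp.IsSurjectiveMor v' := by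
    rw [hv'def]
    exact Groth.Agent.Lib.Helper27.LocQOver.repByAlgSpWith_equiv_comp _ (AlgSt.toOverCat V)
      (Groth.Agent.Lib.Helper27.PshRep.isEquivOver_toOverCat V) v hv
  obtain ⟨z, hzdef⟩ : ∃ z : AlgSt.ofSp ((AlgSp.yon S).obj V) ⥤ᵇ 𝒴,
    z = BasedFunctor.comp v' g := ⟨_, rfl⟩
  obtain ⟨X', e, he, ht⟩ := from_space_gen _ H3.iso H3.loc hfW h𝒴.isStack.1 w hw
    ⟨(AlgSp.yon S).obj V, AlgSp.IsAlgSpace.yon_obj V⟩ z
  obtain ⟨t, htdef⟩ : ∃ t : X'.obj ⟶ (AlgSp.yon S).obj V,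
    t = ObjectProperty.homMk (pshMapOf (BasedFunctor.comp e (fpFst z w))) := ⟨_, rfl⟩
  rw [← htdef] at ht
  obtain ⟨A', a', hA'c, hsurj⟩ := exists_compact_chart X'.property (AlgSp.IsAlgSpace.yon_obj V)
    (Groth.Agent.Lib.Helper3.isQuasiCompactSp_yon hcV) t ht.2.1 ht.2.2 ht.1
  have hfA' : FibCat.IsFibGrpd (overCat A').p :=
    Groth.Agent.Lib.Helper27.ReprAux.isFibGrpd_overCat A'
  obtain ⟨r, hrdef⟩ : ∃ r : overCat A' ⥤ᵇ fp z w,
    r = BasedFunctor.comp (AlgSt.ofOverCat A') (BasedFunctor.comp (AlgSt.ofSpMap a') e) :=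
    ⟨_, rfl⟩
  have hr₁ : AlgSt.RepByAlgSpWith AlgSp.IsSurjectiveMor (BasedFunctor.comp r (fpFst z w)) := by
    have h0 : AlgSt.RepByAlgSpWith AlgSp.IsSurjectiveMor (AlgSt.ofSpMap (a' ≫ t)) :=
      Groth.Agent.Lib.Helper27.LocQComp.repByAlgSpWith_ofSpMap_of_stable _
        Groth.Agent.Lib.Helper27.LocQComp.surj_stable (AlgSp.IsAlgSpace.yon_obj A')
        (AlgSp.IsAlgSpace.yon_obj V) _ hsurj
    have i0 : BasedFunctor.comp (AlgSt.ofSpMap a') (AlgSt.ofSpMap t) ≅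
        BasedFunctor.comp (AlgSt.ofSpMap a') (BasedFunctor.comp e (fpFst z w)) := by
      rw [htdef]
      exact Groth.Agent.Lib.Helper27.RepCancel.whiskerLeftIso (AlgSt.ofSpMap a')
        (τIso (BasedFunctor.comp e (fpFst z w)))
    have h1 : AlgSt.RepByAlgSpWith AlgSp.IsSurjectiveMor
        (BasedFunctor.comp (AlgSt.ofSpMap a') (BasedFunctor.comp e (fpFst z w))) :=
      Groth.Agent.Lib.Helper27.LocQOver.repByAlgSpWith_of_iso _ i0 h0
    rw [hrdef]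
    exact Groth.Agent.Lib.Helper27.LocQOver.repByAlgSpWith_equiv_comp _ (AlgSt.ofOverCat A')
      (Groth.Agent.Lib.Helper27.Descent.isEquivOver_ofOverCat A') _ h1
  have ha : AlgSt.RepByAlgSpWith AlgSp.IsSurjectiveMor
      (BasedFunctor.comp (BasedFunctor.comp r (fpFst z w)) v') :=
    comp_gen _ Groth.Agent.Lib.Helper27.DiagLft.compHyp_isSurjectiveMor hfA' hfV _ v' hr₁ hv'
  have hq₁ : AlgSt.IsQuasiCompact (fp (BasedFunctor.comp r (fpSnd z w)) (fpFst w f)) :=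
    H (overCat A') (Groth.Agent.Lib.Helper27.QcStack.isAlgStack_overCat A')
      (isQuasiCompact_overCat' A' hA'c) _
  have hq₂ : AlgSt.IsQuasiCompact
      (fp (BasedFunctor.comp (BasedFunctor.comp r (fpSnd z w)) w) f) :=
    Groth.Agent.Lib.Helper27.QcStack.isQuasiCompact_of_equiv (pasteL f w _)
      (isEquivOver_pasteL f w _) hq₁
  have κ : BasedFunctor.comp (BasedFunctor.comp r (fpSnd z w)) w ≅
      BasedFunctor.comp (BasedFunctor.comp r (fpFst z w)) z :=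
    (Groth.Agent.Lib.Helper27.RepCancel.whiskerLeftIso r (fpIso z w)).symm
  have hq₃ : AlgSt.IsQuasiCompact (fp (BasedFunctor.comp (BasedFunctor.comp r (fpFst z w)) z) f) :=
    Groth.Agent.Lib.Helper27.QcStack.isQuasiCompact_of_equiv
      (Groth.Agent.Lib.Helper27.DiagIff.isoMapFst _ _ f κ)
      (Groth.Agent.Lib.Helper27.DiagIff.isEquivOver_isoMapFst _ _ f κ) hq₂
  have hz' : ∀ ρ : overCat A' ⥤ᵇ AlgSt.ofSp ((AlgSp.yon S).obj V),
      BasedFunctor.comp ρ z = BasedFunctor.comp (BasedFunctor.comp ρ v') g := by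
    intro ρ
    rw [hzdef]
    rfl
  rw [hz' (BasedFunctor.comp r (fpFst z w))] at hq₃
  exact isQuasiCompact_of_surj'
    (Groth.Agent.Lib.Helper27.AlgStackFp2.isAlgStack_fp' g f _ h𝒵 h𝒳 h𝒴)
    (Groth.Agent.Lib.Helper27.FpFib.isFibGrpd_fp _ f hfA' h𝒳.isStack.1 h𝒴.isStack.1) hq₃
    (mapFst g f _) (repByAlgSpWith_mapFst g f _ _ ha)

end Groth.Agent.Lib.Helper27.QcImage
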