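import Mathlib
import Groth.Agent.Lib.Helper3.DecMonoOpen

/-!
# Quasi-compactness of monomorphisms with generic lifts (helper27)
-/

set_option autoImplicit false
set_option backward.isDefEq.respectTransparency false
set_option backward.isDefEq.respectTransparency.types false

universe u

open CategoryTheory CategoryTheory.Limits AlgebraicGeometry Opposite

namespace Groth.Agent.Lib.Helper27.QcMono

/-- A field valued point of the target of a monomorphism whose image is in the image lifts. -/
theorem exists_lift_of_mono {Z Y : Scheme.{u}} (g : Z ⟶ Y) [Mono g] (K : Type u) [Field K]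
    (b : Spec (CommRingCat.of K) ⟶ Y) (z : Z) (t : Spec (CommRingCat.of K))
    (hz : g.base z = b.base t) : ∃ l : Spec (CommRingCat.of K) ⟶ Z, l ≫ g = b := by
  obtain ⟨w, -, -⟩ := Scheme.Pullback.exists_preimage_pullback (f := g) (g := b) z t hz
  haveI : Nonempty ↥(pullback g b) := ⟨w⟩
  haveI : IsIso (pullback.snd g b) :=
    Groth.Agent.Lib.Helper3.DecMono.isIso_of_mono_to_spec_field (pullback.snd g b)
  refine ⟨inv (pullback.snd g b) ≫ pullback.fst g b, ?_⟩
  rw [Category.assoc, pullback.condition, IsIso.inv_hom_id_assoc]

/-- The generic lifting hypothesis: a map from the spectrum of a domain which lifts at a dense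
set of points lifts over a nonempty open. -/
def GenLift {Z Y : Scheme.{u}} (g : Z ⟶ Y) : Prop :=
  ∀ (A : Type u) [CommRing A] [IsDomain A] (a : Spec (CommRingCat.of A) ⟶ Y)
    (D : Set ↥(Spec (CommRingCat.of A))), Dense D →
    (∀ p ∈ D, ∃ l : Spec ((Spec (CommRingCat.of A)).residueField p) ⟶ Z,
        l ≫ g = (Spec (CommRingCat.of A)).fromSpecResidueField p ≫ a) →
    ∃ U : (Spec (CommRingCat.of A)).Opens, (U : Set ↥(Spec (CommRingCat.of A))).Nonempty ∧
      ∃ l : (U : Scheme.{u}) ⟶ Z, l ≫ g = U.ι ≫ a

section Affine

variable {B : Type u} [CommRing B] [IsNoetherianRing B] {Z : Scheme.{u}}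
  (g : Z ⟶ Spec (CommRingCat.of B)) [Mono g] (H : GenLift g)

include H

theorem isCompact_preimage_zeroLocus (I : Ideal B) :
    IsCompact (g.base ⁻¹' (PrimeSpectrum.zeroLocus (I : Set B) : Set (PrimeSpectrum B))) := by
  induction I using IsNoetherian.induction with
  | hgt I IH =>
  by_cases hI : Ideal.IsPrime (I : Ideal B)
  · -- the main case
    haveI := hI
    let A := B ⧸ (I : Ideal B)
    let φ : B →+* A := Ideal.Quotient.mk I
    have hφ : Function.Surjective φ := Ideal.Quotient.mk_surjective
    let a : Spec (CommRingCat.of A) ⟶ Spec (CommRingCat.of B) := Spec.map (CommRingCat.ofHom φ)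
    have ha_eq : ∀ p : PrimeSpectrum A, a.base p = PrimeSpectrum.comap φ p := fun _ => rfl
    have hinj : Function.Injective (PrimeSpectrum.comap φ) :=
      PrimeSpectrum.comap_injective_of_surjective φ hφ
    have hrange : Set.range (PrimeSpectrum.comap φ) = PrimeSpectrum.zeroLocus (I : Set B) := by
      rw [range_comap_of_surjective _ φ hφ, Ideal.mk_ker]
    -- the ideal of the image of the closure of a subset
    let J : Set (PrimeSpectrum A) → Ideal B := fun T =>
      Ideal.comap φ (PrimeSpectrum.vanishingIdeal T)
    have hJ : ∀ T, PrimeSpectrum.zeroLocus (J T : Set B) = PrimeSpectrum.comap φ '' closure T := by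
      intro T
      rw [← PrimeSpectrum.zeroLocus_vanishingIdeal_eq_closure,
        image_comap_zeroLocus_eq_zeroLocus_comap _ _ hφ]
    have hIJ : ∀ T, I ≤ J T := by
      intro T x hx
      change φ x ∈ PrimeSpectrum.vanishingIdeal T
      rw [(Ideal.Quotient.eq_zero_iff_mem (I := I)).2 hx]
      exact Ideal.zero_mem _
    have hlt : ∀ T, closure T ≠ Set.univ → I < J T := by
      intro T hT
      refine lt_of_le_of_ne (hIJ T) (fun h => hT ?_)
      have h1 : PrimeSpectrum.comap φ '' closure T = PrimeSpectrum.comap φ '' Set.univ := by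
        rw [← hJ T, ← h, Set.image_univ, hrange]
      exact (Set.image_injective.2 hinj) h1
    let D : Set (PrimeSpectrum A) := {p | PrimeSpectrum.comap φ p ∈ Set.range g.base}
    by_cases hD : Dense D
    · obtain ⟨U, hUne, l, hl⟩ := H A a D hD (fun p hp => by
        obtain ⟨z, hz⟩ := hp
        have ht : Nonempty ↥(Spec ((Spec (CommRingCat.of A)).residueField p)) := inferInstance
        obtain ⟨t⟩ := ht
        refine exists_lift_of_mono g ((Spec (CommRingCat.of A)).residueField p)
          ((Spec (CommRingCat.of A)).fromSpecResidueField p ≫ a) z t ?_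
        rw [hz]
        change _ = a.base (((Spec (CommRingCat.of A)).fromSpecResidueField p).base t)
        rw [Scheme.fromSpecResidueField_apply]
        rfl)
      let T : Set (PrimeSpectrum A) := (U : Set ↥(Spec (CommRingCat.of A)))ᶜ
      have hTc : IsClosed T := (U.isOpen.isClosed_compl :)
      have hT : closure T ≠ Set.univ := by
        rw [hTc.closure_eq]
        intro h
        obtain ⟨u, hu⟩ := hUne
        have : u ∈ T := h ▸ Set.mem_univ u
        exact this hu
      have h1 := IH (J T) (hlt T hT)
      rw [hJ T, hTc.closure_eq] at h1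
      haveI hU : CompactSpace ↥(U : Scheme.{u}) :=
        isCompact_iff_compactSpace.1
          (TopologicalSpace.NoetherianSpace.isCompact (U : Set ↥(Spec (CommRingCat.of A))))
      have h2 : IsCompact (Set.range l.base) := isCompact_range l.base.hom.continuous
      have hginj : Function.Injective g.base := Scheme.Hom.injective g
      have heq : g.base ⁻¹' (PrimeSpectrum.zeroLocus (I : Set B) : Set (PrimeSpectrum B)) =
          g.base ⁻¹' (PrimeSpectrum.comap φ '' T) ∪ Set.range l.base := by
        ext z
        constructor
        · intro hz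
          have hz' : g.base z ∈ Set.range (PrimeSpectrum.comap φ) := by rw [hrange]; exact hz
          obtain ⟨p, hp⟩ := hz'
          by_cases hpT : p ∈ T
          · exact Or.inl ⟨p, hpT, hp⟩
          · right
            have hpU : p ∈ (U : Set ↥(Spec (CommRingCat.of A))) := not_not.1 hpT
            refine ⟨⟨p, hpU⟩, hginj ?_⟩
            have h3 := congrArg (fun k => k.base ⟨p, hpU⟩) hl
            exact h3.trans hp
        · rintro (⟨p, -, hp⟩ | ⟨u, rfl⟩)
          · refine Set.mem_preimage.2 ?_
            rw [← hrange]
            exact ⟨p, hp⟩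
          · refine Set.mem_preimage.2 ?_
            rw [← hrange]
            have h3 := congrArg (fun k => k.base u) hl
            exact ⟨(U.ι).base u, h3.symm⟩
      rw [heq]
      exact h1.union h2
    · have hD' : closure D ≠ Set.univ := fun h => hD (dense_iff_closure_eq.2 h)
      have h1 := IH (J D) (hlt D hD')
      have heq : g.base ⁻¹' (PrimeSpectrum.zeroLocus (I : Set B) : Set (PrimeSpectrum B)) =
          g.base ⁻¹' (PrimeSpectrum.zeroLocus (J D : Set B) : Set (PrimeSpectrum B)) := by
        ext z
        constructor
        · intro hz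
          have hz' : g.base z ∈ Set.range (PrimeSpectrum.comap φ) := by rw [hrange]; exact hz
          obtain ⟨p, hp⟩ := hz'
          change g.base z ∈ PrimeSpectrum.zeroLocus (J D : Set B)
          rw [hJ D]
          exact ⟨p, subset_closure (show p ∈ D from ⟨z, hp.symm⟩), hp⟩
        · intro hz
          exact PrimeSpectrum.zeroLocus_anti_mono_ideal (hIJ D) hz
      rw [heq]
      exact h1
  · rcases Ideal.not_isPrime_iff.1 hI with h | ⟨x, hx, y, hy, hxy⟩
    · have h0 : (PrimeSpectrum.zeroLocus (I : Set B) : Set (PrimeSpectrum B)) = ∅ := by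
        rw [h]; simp
      rw [h0, Set.preimage_empty]
      exact isCompact_empty
    · have key : ∀ w : B, w ∉ I → I < I ⊔ Ideal.span {w} := fun w hw =>
        lt_of_le_of_ne le_sup_left (fun h => hw (h ▸ Ideal.mem_sup_right (Ideal.mem_span_singleton_self w)))
      have h1 := IH _ (key x hx)
      have h2 := IH _ (key y hy)
      have heq : (PrimeSpectrum.zeroLocus (I : Set B) : Set (PrimeSpectrum B)) =
          PrimeSpectrum.zeroLocus ((I ⊔ Ideal.span {x} : Ideal B) : Set B) ∪
            PrimeSpectrum.zeroLocus ((I ⊔ Ideal.span {y} : Ideal B) : Set B) := by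
        apply Set.Subset.antisymm
        · intro p hp
          rw [PrimeSpectrum.mem_zeroLocus, SetLike.coe_subset_coe] at hp
          rcases p.isPrime.mem_or_mem (hp hxy) with h | h
          · left
            rw [PrimeSpectrum.mem_zeroLocus, SetLike.coe_subset_coe]
            exact sup_le hp ((Ideal.span_singleton_le_iff_mem _).2 h)
          · right
            rw [PrimeSpectrum.mem_zeroLocus, SetLike.coe_subset_coe]
            exact sup_le hp ((Ideal.span_singleton_le_iff_mem _).2 h)
        · exact Set.union_subset (PrimeSpectrum.zeroLocus_anti_mono_ideal le_sup_left)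
            (PrimeSpectrum.zeroLocus_anti_mono_ideal le_sup_left)
      rw [heq, Set.preimage_union]
      exact h1.union h2

theorem compactSpace_of_genLift : CompactSpace ↥Z := by
  have h := isCompact_preimage_zeroLocus g H ⊥
  have h0 : (PrimeSpectrum.zeroLocus ((⊥ : Ideal B) : Set B) : Set (PrimeSpectrum B)) =
      Set.univ := by simp
  rw [h0, Set.preimage_univ] at h
  exact ⟨h⟩

end Affine

/-- Base change of the generic lifting hypothesis. -/
theorem genLift_snd {Z Y Y' : Scheme.{u}} (g : Z ⟶ Y) (H : GenLift g) (j : Y' ⟶ Y) :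
    GenLift (pullback.snd g j) := by
  intro A _ _ a D hD hl
  obtain ⟨U, hU, l, hl'⟩ := H A (a ≫ j) D hD (fun p hp => by
    obtain ⟨l, hl⟩ := hl p hp
    refine ⟨l ≫ pullback.fst g j, ?_⟩
    rw [Category.assoc, pullback.condition, reassoc_of% hl])
  refine ⟨U, hU, pullback.lift l (U.ι ≫ a) (by rw [hl', Category.assoc]), ?_⟩
  rw [pullback.lift_snd]

/-- A monomorphism to a locally Noetherian scheme with the generic lifting property is
quasi-compact. -/
theorem quasiCompact_of_genLift {Z Y : Scheme.{u}} [IsLocallyNoetherian Y] (g : Z ⟶ Y) [Mono g]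
    (H : GenLift g) : QuasiCompact g := by
  rw [quasiCompact_iff_forall_isAffineOpen]
  intro V hV
  haveI : IsNoetherianRing Γ(Y, V) := IsLocallyNoetherian.component_noetherian ⟨V, hV⟩
  have h1 : CompactSpace ↥(pullback g hV.fromSpec) :=
    compactSpace_of_genLift (B := Γ(Y, V)) (pullback.snd g hV.fromSpec) (genLift_snd g H _)
  have h2 : IsCompact (Set.range (pullback.fst g hV.fromSpec).base) :=
    isCompact_range (pullback.fst g hV.fromSpec).base.hom.continuous
  rw [Scheme.Pullback.range_fst, hV.range_fromSpec] at h2
  exact h2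

end Groth.Agent.Lib.Helper27.QcMono
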