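import Groth.Agent.Lib.Helper27.QcMono
import Groth.Agent.Lib.Helper27.ValLift
import Groth.Agent.Lib.Helper27.ValWit
import Groth.Agent.Lib.Helper27.ImmNoeth
import Groth.Agent.Lib.Helper27.StPointsHomeo
import Groth.Agent.Lib.Helper15.MonoLft
import Groth.Agent.S10527

/-!
# Monomorphisms of stacks with generic lifts are quasi-compact (helper27)
-/

set_option autoImplicit false
set_option backward.isDefEq.respectTransparency false
set_option backward.isDefEq.respectTransparency.types false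

universe u

open CategoryTheory CategoryTheory.Limits FibCat AlgebraicGeometry Opposite
  Groth.Agent.Lib.Helper27.FpKit Groth.Agent.Lib.Helper27.RepWithComp
  Groth.Agent.Lib.Helper27.PshKit Groth.Agent.Lib.Helper27.RepCancel
  Groth.Agent.Lib.Helper27.LocQChart Groth.Agent.Lib.Helper27.LocQTriple

namespace Groth.Agent.Lib.Helper27.QcMonoSt

variable {S : Scheme.{u}}

local infixr:80 " ⊚ " => BasedFunctor.comp

open Groth.Agent.Lib.Helper27.QcMono Groth.Agent.Lib.Helper27.ValLift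
  Groth.Agent.Lib.Helper27.ValWit

/-- The lifting hypothesis on functors. -/
def StLift {𝒳 𝒴 : AlgSt.Cat S} (f : 𝒴 ⥤ᵇ 𝒳) : Prop :=
  ∀ (A : Type u) [CommRing A] [IsDomain A] (sA : Spec (CommRingCat.of A) ⟶ S)
    (a : FibCat.overCat (Over.mk sA) ⥤ᵇ 𝒳) (D : Set ↥(Spec (CommRingCat.of A))), Dense D →
    (∀ p ∈ D, ∃ yp : FibCat.overCat (Over.mk ((Spec (CommRingCat.of A)).fromSpecResidueField p ≫ sA)) ⥤ᵇ 𝒴,
        Nonempty (BasedFunctor.comp yp f ≅ BasedFunctor.comp (AlgSt.overMap (Over.homMk ((Spec (CommRingCat.of A)).fromSpecResidueField p) rfl : Over.mk (((Spec (CommRingCat.of A)).fromSpecResidueField p) ≫ sA) ⟶ Over.mk sA)) a)) →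
    ∃ U : (Spec (CommRingCat.of A)).Opens, (U : Set ↥(Spec (CommRingCat.of A))).Nonempty ∧
      ∃ yU : FibCat.overCat (Over.mk (U.ι ≫ sA)) ⥤ᵇ 𝒴,
        Nonempty (BasedFunctor.comp yU f ≅ BasedFunctor.comp (AlgSt.overMap (Over.homMk (U.ι) rfl : Over.mk ((U.ι) ≫ sA) ⟶ Over.mk sA)) a)

section Chart

variable {𝒳 𝒴 : AlgSt.Cat S} (f : 𝒴 ⥤ᵇ 𝒳) {T₀ : Over S} (p : overCat T₀ ⥤ᵇ 𝒳)
  (F : AlgSp.Space S) (e : AlgSt.ofSp F.obj ⥤ᵇ fp p f) (he : IsEquivOver e)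
  {G : Over S} (snd : G ⟶ T₀) (fst : (AlgSp.yon S).obj G ⟶ F.obj) [IsIso fst]
  (hfst : fst ≫ AlgSt.spMapOfOver (e ⊚ fpFst p f) = (AlgSp.yon S).map snd)

include he hfst in
theorem genLift_of_stLift (hc : StLift f) : GenLift snd.left := by
  intro A _ _ a D hD hl
  let sA : Spec (CommRingCat.of A) ⟶ S := a ≫ T₀.hom
  let aO : Over.mk sA ⟶ T₀ := Over.homMk a rfl
  obtain ⟨U, hUne, yU, ⟨iso⟩⟩ := hc A sA (AlgSt.overMap aO ⊚ p) D hD (fun q hq => by
    obtain ⟨l, hl⟩ := hl q hq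
    let Tq : Over S := Over.mk ((Spec (CommRingCat.of A)).fromSpecResidueField q ≫ sA)
    let mq : Tq ⟶ Over.mk sA := Over.homMk ((Spec (CommRingCat.of A)).fromSpecResidueField q) rfl
    let lO : Tq ⟶ G := Over.homMk l (by
      have h1 := Over.w snd
      change l ≫ G.hom = (Spec (CommRingCat.of A)).fromSpecResidueField q ≫ a ≫ T₀.hom
      rw [← h1, reassoc_of% hl])
    have hlO : lO ≫ snd = mq ≫ aO := Over.OverMorphism.ext hl
    have hk : ((AlgSp.yon S).map lO ≫ fst) ≫ AlgSt.spMapOfOver (e ⊚ fpFst p f) =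
        (AlgSp.yon S).map (lO ≫ snd) := by
      rw [Category.assoc, hfst, Functor.map_comp]
    have i := liftIso (e ⊚ fpFst p f) ((AlgSp.yon S).map lO ≫ fst) (lO ≫ snd) hk
    refine ⟨AlgSt.ofOverCat Tq ⊚ AlgSt.ofSpMap ((AlgSp.yon S).map lO ≫ fst) ⊚ e ⊚ fpSnd p f, ⟨?_⟩⟩
    exact (whiskerLeftIso (AlgSt.ofOverCat Tq ⊚ AlgSt.ofSpMap ((AlgSp.yon S).map lO ≫ fst) ⊚ e)
        (fpIso p f)).symm ≪≫
      whiskerRightIso (i ≪≫ eqToIso (by rw [hlO]) ≪≫ (overMapComp mq aO).symm) p)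
  refine ⟨U, hUne, ?_⟩
  let TU : Over S := Over.mk (U.ι ≫ sA)
  let mU : TU ⟶ Over.mk sA := Over.homMk U.ι rfl
  let s : overCat TU ⥤ᵇ fp p f := fpLift (AlgSt.overMap mU ⊚ AlgSt.overMap aO) yU iso.symm
  obtain ⟨e', -, -, ⟨ε⟩⟩ := exists_inverse e he
  obtain ⟨k, ⟨κ⟩⟩ := Groth.Agent.Lib.Helper27.StPoints.exists_ofSpMap_iso (s ⊚ e')
  let l'' : TU ⟶ G := (AlgSp.yon S).preimage (k ≫ inv fst)
  have hk : k ≫ AlgSt.spMapOfOver (e ⊚ fpFst p f) = (AlgSp.yon S).map (l'' ≫ snd) := by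
    rw [Functor.map_comp, Functor.map_preimage, Category.assoc, ← hfst, IsIso.inv_hom_id_assoc]
  have i := liftIso (e ⊚ fpFst p f) k (l'' ≫ snd) hk
  have j : AlgSt.overMap (l'' ≫ snd) ≅ AlgSt.overMap (mU ≫ aO) :=
    i.symm ≪≫ whiskerRightIso κ (e ⊚ fpFst p f) ≪≫
      whiskerLeftIso s (whiskerRightIso ε (fpFst p f)) ≪≫ overMapComp mU aO
  have h1 : l'' ≫ snd = mU ≫ aO := by
    rw [← homOf_overMap (l'' ≫ snd), homOf_congr j, homOf_overMap]
  exact ⟨l''.left, congrArg CommaMorphism.left h1⟩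

end Chart

theorem main {𝒳 𝒴 : AlgSt.Cat S} (h𝒳 : AlgSt.IsAlgStack Scheme.fppfPrecoverage 𝒳)
    (h𝒴 : AlgSt.IsAlgStack Scheme.fppfPrecoverage 𝒴)
    (hnoeth : AlgSt.SmoothLocally (fun X => IsLocallyNoetherian X) 𝒳) (f : 𝒴 ⥤ᵇ 𝒳)
    (hrep : AlgSt.RepByAlgSp1 f)
    (hlfp : AlgSt.RepByAlgSpWith (AlgSp.LocP @LocallyOfFinitePresentation) f)
    (ha : AlgSt.IsMono f) (hc : StLift f) :
    AlgSt.RepByAlgSpWith AlgSp.IsQuasiCompactMor f := by
  obtain ⟨T₀, p, hp₁, hp₂⟩ := h𝒳.atlas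
  haveI : IsLocallyNoetherian T₀.left := hnoeth T₀ p hp₁
  have hP : AlgSp.IsLocalOnBase AlgSp.IsFppfCover (AlgSp.IsQuasiCompactMor (S := S)) :=
    isLocalOnBase_fppf_of_fpqc _ (Groth.Agent.S10519.result S)
  apply Groth.Agent.Lib.Helper27.DiagLft.repByAlgSpWith_of_fpFst_cover _ hP h𝒴.isStack.1
    h𝒳.isStack.1 (Groth.Agent.Lib.Helper27.ReprAux.isFibGrpd_overCat T₀) f hrep p
    (Groth.Agent.Lib.Helper27.DiagLft.flat_of_smooth p hp₁)
    (Groth.Agent.Lib.Helper27.DiagLft.lfp_of_smooth p hp₁) hp₂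
  have h2 : AlgSt.RepByAlgSpWith (MorphismProperty.monomorphisms (AlgSp.Sp S) ⊓
      AlgSp.LocP @LocallyOfFinitePresentation) f :=
    Groth.Agent.Lib.Helper27.SepDiag.repByAlgSpWith_inf f _ _
      (isLocalOnBase_fppf_of_fpqc _ (Groth.Agent.S10527.result S)) ha hlfp
  obtain ⟨F, e, he, hmono, hlfpπ⟩ := h2 T₀ p
  apply Groth.Agent.Lib.Helper27.RepChart.repByAlgSpWith_of_struct _
    Groth.Agent.Lib.Helper27.ImmNoeth.qc_stable (fpFst p f) F e he
  haveI : Mono (AlgSt.spMapOfOver (e ⊚ fpFst p f)) := hmono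
  have hlft : AlgSp.LocP @LocallyOfFiniteType (AlgSt.spMapOfOver (e ⊚ fpFst p f)) :=
    Groth.Agent.Lib.Helper3.locP_mono
      (fun _ _ m hm => by have : LocallyOfFinitePresentation m := hm; infer_instance) hlfpπ
  have hrepπ : AlgSp.Representable (AlgSt.spMapOfOver (e ⊚ fpFst p f)) :=
    Groth.Agent.Lib.Helper15.MonoLft.representable_of_mono_lft F.property
      (AlgSp.IsAlgSpace.yon_obj T₀) _ hlft
  obtain ⟨G, snd, fst, sq⟩ := hrepπ (𝟙 ((AlgSp.yon S).obj T₀))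
  haveI : IsIso fst := sq.isIso_fst_of_isIso
  have hfst : fst ≫ AlgSt.spMapOfOver (e ⊚ fpFst p f) = (AlgSp.yon S).map snd := by
    rw [sq.w, Category.comp_id]
  haveI : Mono ((AlgSp.yon S).map snd) := by rw [← hfst]; infer_instance
  haveI : Mono snd := Functor.mono_of_mono_map (AlgSp.yon S) inferInstance
  haveI : Mono snd.left := inferInstance
  have hqc : QuasiCompact snd.left :=
    quasiCompact_of_genLift snd.left (genLift_of_stLift f p F e he snd fst hfst hc)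
  have h3 : AlgSp.RepWith @QuasiCompact ((AlgSp.yon S).map snd) :=
    (AlgSp.repWith_yon_map_iff _ _).2 hqc
  have h4 : AlgSt.spMapOfOver (e ⊚ fpFst p f) = inv fst ≫ (AlgSp.yon S).map snd := by
    rw [IsIso.eq_inv_comp, hfst]
  rw [h4]
  exact Groth.Agent.Lib.Helper3.isQuasiCompactMor_of_repWith_quasiCompact _
    (MorphismProperty.RespectsIso.precomp _ _ _ h3)

end Groth.Agent.Lib.Helper27.QcMonoSt
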