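import Groth.Agent.Lib.Helper27.QcMonoSt
import Groth.Agent.Lib.Helper15.FieldBase
import Groth.Agent.S15348
import Groth.Agent.S10538

/-!
# Monomorphisms of stacks with valuative and generic lifts are quasi-compact immersions
(helper27)
-/

set_option autoImplicit false
set_option backward.isDefEq.respectTransparency false
set_option backward.isDefEq.respectTransparency.types false

universe u

open CategoryTheory CategoryTheory.Limits FibCat AlgebraicGeometry Opposite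
  Groth.Agent.Lib.Helper27.FpKit Groth.Agent.Lib.Helper27.RepWithComp
  Groth.Agent.Lib.Helper27.PshKit Groth.Agent.Lib.Helper27.RepCancel
  Groth.Agent.Lib.Helper27.LocQChart Groth.Agent.Lib.Helper27.LocQTriple

namespace Groth.Agent.Lib.Helper27.QcMonoSt2

variable {S : Scheme.{u}}

local infixr:80 " ⊚ " => BasedFunctor.comp

open Groth.Agent.Lib.Helper27.QcMono Groth.Agent.Lib.Helper27.QcMonoSt
  Groth.Agent.Lib.Helper27.ValLift Groth.Agent.Lib.Helper27.ValWit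

/-- The valuative lifting hypothesis on functors. -/
def DvrLift {𝒳 𝒴 : AlgSt.Cat S} (f : 𝒴 ⥤ᵇ 𝒳) : Prop :=
  ∀ (A : Type u) [CommRing A] [IsDomain A] [IsDiscreteValuationRing A] (K : Type u) [Field K] [Algebra A K]
      [IsFractionRing A K] (sA : Spec (CommRingCat.of A) ⟶ S) (a : FibCat.overCat (Over.mk sA) ⥤ᵇ 𝒳),
      (∃ yK : FibCat.overCat (Over.mk (Spec.map (CommRingCat.ofHom (algebraMap A K)) ≫ sA)) ⥤ᵇ 𝒴,
          Nonempty (BasedFunctor.comp yK f ≅ BasedFunctor.comp (AlgSt.overMap (Over.homMk (Spec.map (CommRingCat.ofHom (algebraMap A K))) rfl : Over.mk ((Spec.map (CommRingCat.ofHom (algebraMap A K))) ≫ sA) ⟶ Over.mk sA)) a)) →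
      (∃ yk : FibCat.overCat (Over.mk (Spec.map (CommRingCat.ofHom (IsLocalRing.residue A)) ≫ sA)) ⥤ᵇ 𝒴,
          Nonempty (BasedFunctor.comp yk f ≅ BasedFunctor.comp (AlgSt.overMap (Over.homMk (Spec.map (CommRingCat.ofHom (IsLocalRing.residue A))) rfl : Over.mk ((Spec.map (CommRingCat.ofHom (IsLocalRing.residue A))) ≫ sA) ⟶ Over.mk sA)) a)) →
      ∃ y : FibCat.overCat (Over.mk sA) ⥤ᵇ 𝒴, Nonempty (BasedFunctor.comp y f ≅ a)

section Chart

variable {𝒳 𝒴 : AlgSt.Cat S} (f : 𝒴 ⥤ᵇ 𝒳) {T₀ : Over S} (p : overCat T₀ ⥤ᵇ 𝒳)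
  (F : AlgSp.Space S) (e : AlgSt.ofSp F.obj ⥤ᵇ fp p f) (he : IsEquivOver e)
  {G : Over S} (snd : G ⟶ T₀) (fst : (AlgSp.yon S).obj G ⟶ F.obj) [IsIso fst]
  (hfst : fst ≫ AlgSt.spMapOfOver (e ⊚ fpFst p f) = (AlgSp.yon S).map snd)

include hfst in
/-- A scheme valued point of the chart of the fibre product gives a lift to the source. -/
theorem exists_lift_up {T' : Over S} (l : T' ⟶ G) :
    ∃ y : overCat T' ⥤ᵇ 𝒴, Nonempty (y ⊚ f ≅ AlgSt.overMap (l ≫ snd) ⊚ p) := by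
  have hk : ((AlgSp.yon S).map l ≫ fst) ≫ AlgSt.spMapOfOver (e ⊚ fpFst p f) =
      (AlgSp.yon S).map (l ≫ snd) := by
    rw [Category.assoc, hfst, Functor.map_comp]
  have i := liftIso (e ⊚ fpFst p f) ((AlgSp.yon S).map l ≫ fst) (l ≫ snd) hk
  refine ⟨AlgSt.ofOverCat T' ⊚ AlgSt.ofSpMap ((AlgSp.yon S).map l ≫ fst) ⊚ e ⊚ fpSnd p f, ⟨?_⟩⟩
  exact (whiskerLeftIso (AlgSt.ofOverCat T' ⊚ AlgSt.ofSpMap ((AlgSp.yon S).map l ≫ fst) ⊚ e)
      (fpIso p f)).symm ≪≫ whiskerRightIso i p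

include he hfst in
/-- A lift to the source gives a scheme valued point of the chart of the fibre product. -/
theorem exists_lift_down {T' : Over S} (m : T' ⟶ T₀) (y : overCat T' ⥤ᵇ 𝒴)
    (iso : y ⊚ f ≅ AlgSt.overMap m ⊚ p) : ∃ l : T' ⟶ G, l ≫ snd = m := by
  let s : overCat T' ⥤ᵇ fp p f := fpLift (AlgSt.overMap m) y iso.symm
  obtain ⟨e', -, -, ⟨ε⟩⟩ := exists_inverse e he
  obtain ⟨k, ⟨κ⟩⟩ := Groth.Agent.Lib.Helper27.StPoints.exists_ofSpMap_iso (s ⊚ e')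
  let l'' : T' ⟶ G := (AlgSp.yon S).preimage (k ≫ inv fst)
  have hk : k ≫ AlgSt.spMapOfOver (e ⊚ fpFst p f) = (AlgSp.yon S).map (l'' ≫ snd) := by
    rw [Functor.map_comp, Functor.map_preimage, Category.assoc, ← hfst, IsIso.inv_hom_id_assoc]
  have i := liftIso (e ⊚ fpFst p f) k (l'' ≫ snd) hk
  have j : AlgSt.overMap (l'' ≫ snd) ≅ AlgSt.overMap m :=
    i.symm ≪≫ whiskerRightIso κ (e ⊚ fpFst p f) ≪≫
      whiskerLeftIso s (whiskerRightIso ε (fpFst p f))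
  refine ⟨l'', ?_⟩
  rw [← homOf_overMap (l'' ≫ snd), homOf_congr j, homOf_overMap]

include he hfst in
theorem dvr_of_dvrLift [Mono snd.left] (hb : DvrLift f) (Sq : ValuativeCommSq snd.left)
    (hR : IsDiscreteValuationRing Sq.R)
    (hl₀ : ∃ l₀ : Spec (CommRingCat.of (IsLocalRing.ResidueField Sq.R)) ⟶ G.left,
      l₀ ≫ snd.left = Spec.map (CommRingCat.ofHom (IsLocalRing.residue Sq.R)) ≫ Sq.i₂) :
    Sq.commSq.HasLift := by
  obtain ⟨l₀, hl₀⟩ := hl₀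
  let sA : Spec (CommRingCat.of Sq.R) ⟶ S := Sq.i₂ ≫ T₀.hom
  let aO : Over.mk sA ⟶ T₀ := Over.homMk Sq.i₂ rfl
  have hw := Over.w snd
  -- the generic point
  let TK : Over S := Over.mk (Spec.map (CommRingCat.ofHom (algebraMap Sq.R Sq.K)) ≫ sA)
  let mK : TK ⟶ Over.mk sA := Over.homMk (Spec.map (CommRingCat.ofHom (algebraMap Sq.R Sq.K))) rfl
  let iK : TK ⟶ G := Over.homMk Sq.i₁ (by
    change Sq.i₁ ≫ G.hom = Spec.map (CommRingCat.ofHom (algebraMap Sq.R Sq.K)) ≫ Sq.i₂ ≫ T₀.hom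
    rw [← hw, reassoc_of% Sq.commSq.w])
  have hiK : iK ≫ snd = mK ≫ aO := Over.OverMorphism.ext Sq.commSq.w
  obtain ⟨yK, ⟨isoK⟩⟩ := exists_lift_up f p F e snd fst hfst iK
  -- the closed point
  let Tk : Over S := Over.mk (Spec.map (CommRingCat.ofHom (IsLocalRing.residue Sq.R)) ≫ sA)
  let mk : Tk ⟶ Over.mk sA := Over.homMk (Spec.map (CommRingCat.ofHom (IsLocalRing.residue Sq.R))) rfl
  let ik : Tk ⟶ G := Over.homMk l₀ (by
    change l₀ ≫ G.hom = Spec.map (CommRingCat.ofHom (IsLocalRing.residue Sq.R)) ≫ Sq.i₂ ≫ T₀.hom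
    rw [← hw, reassoc_of% hl₀])
  have hik : ik ≫ snd = mk ≫ aO := Over.OverMorphism.ext hl₀
  obtain ⟨yk, ⟨isok⟩⟩ := exists_lift_up f p F e snd fst hfst ik
  obtain ⟨y, ⟨iso⟩⟩ := hb Sq.R Sq.K sA (AlgSt.overMap aO ⊚ p)
    ⟨yK, ⟨isoK ≪≫ whiskerRightIso (eqToIso (by rw [hiK]) ≪≫ (overMapComp mK aO).symm) p⟩⟩
    ⟨yk, ⟨isok ≪≫ whiskerRightIso (eqToIso (by rw [hik]) ≪≫ (overMapComp mk aO).symm) p⟩⟩
  obtain ⟨l, hl⟩ := exists_lift_down f p F e he snd fst hfst aO y iso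
  have hl' : l.left ≫ snd.left = Sq.i₂ := congrArg CommaMorphism.left hl
  refine ⟨⟨⟨l.left, ?_, hl'⟩⟩⟩
  rw [← cancel_mono snd.left, Category.assoc, hl', Sq.commSq.w]

end Chart

theorem main {𝒳 𝒴 : AlgSt.Cat S} (h𝒳 : AlgSt.IsAlgStack Scheme.fppfPrecoverage 𝒳)
    (h𝒴 : AlgSt.IsAlgStack Scheme.fppfPrecoverage 𝒴)
    (hnoeth : AlgSt.SmoothLocally (fun X => IsLocallyNoetherian X) 𝒳) (f : 𝒴 ⥤ᵇ 𝒳)
    (hrep : AlgSt.RepByAlgSp1 f)
    (hlfp : AlgSt.RepByAlgSpWith (AlgSp.LocP @LocallyOfFinitePresentation) f)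
    (ha : AlgSt.IsMono f) (hb : DvrLift f) (hc : StLift f) :
    AlgSt.RepByAlgSpWith (AlgSp.RepWith (@IsImmersion ⊓ @QuasiCompact)) f := by
  obtain ⟨T₀, p, hp₁, hp₂⟩ := h𝒳.atlas
  haveI : IsLocallyNoetherian T₀.left := hnoeth T₀ p hp₁
  have hP : AlgSp.IsLocalOnBase AlgSp.IsFppfCover
      (AlgSp.RepWith (S := S) (@IsImmersion ⊓ @QuasiCompact)) :=
    isLocalOnBase_fppf_of_fpqc _ (Groth.Agent.S10538.result S)
  apply Groth.Agent.Lib.Helper27.DiagLft.repByAlgSpWith_of_fpFst_cover _ hP h𝒴.isStack.1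
    h𝒳.isStack.1 (Groth.Agent.Lib.Helper27.ReprAux.isFibGrpd_overCat T₀) f hrep p
    (Groth.Agent.Lib.Helper27.DiagLft.flat_of_smooth p hp₁)
    (Groth.Agent.Lib.Helper27.DiagLft.lfp_of_smooth p hp₁) hp₂
  have h2 : AlgSt.RepByAlgSpWith (MorphismProperty.monomorphisms (AlgSp.Sp S) ⊓
      AlgSp.LocP @LocallyOfFinitePresentation) f :=
    Groth.Agent.Lib.Helper27.SepDiag.repByAlgSpWith_inf f _ _
      (isLocalOnBase_fppf_of_fpqc _ (Groth.Agent.S10527.result S)) ha hlfp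
  obtain ⟨F, e, he, hmono, hlfpπ⟩ := h2 T₀ p
  apply Groth.Agent.Lib.Helper27.RepChart.repByAlgSpWith_of_struct _
    (fun _ _ _ _ _ _ _ _ a b a' b' sq h => MorphismProperty.of_isPullback sq h)
    (fpFst p f) F e he
  haveI : Mono (AlgSt.spMapOfOver (e ⊚ fpFst p f)) := hmono
  have hlft : AlgSp.LocP @LocallyOfFiniteType (AlgSt.spMapOfOver (e ⊚ fpFst p f)) :=
    Groth.Agent.Lib.Helper3.locP_mono
      (fun _ _ m hm => by have : LocallyOfFinitePresentation m := hm; infer_instance) hlfpπ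
  have hrepπ : AlgSp.Representable (AlgSt.spMapOfOver (e ⊚ fpFst p f)) :=
    Groth.Agent.Lib.Helper15.MonoLft.representable_of_mono_lft F.property
      (AlgSp.IsAlgSpace.yon_obj T₀) _ hlft
  obtain ⟨G, snd, fst, sq⟩ := hrepπ (𝟙 ((AlgSp.yon S).obj T₀))
  haveI : IsIso fst := sq.isIso_fst_of_isIso
  have hfst : fst ≫ AlgSt.spMapOfOver (e ⊚ fpFst p f) = (AlgSp.yon S).map snd := by
    rw [sq.w, Category.comp_id]
  haveI : Mono ((AlgSp.yon S).map snd) := by rw [← hfst]; infer_instance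
  haveI : Mono snd := Functor.mono_of_mono_map (AlgSp.yon S) inferInstance
  haveI : Mono snd.left := inferInstance
  have hlfp' : AlgSp.LocP @LocallyOfFinitePresentation ((AlgSp.yon S).map snd) := by
    rw [← hfst]
    exact Groth.Agent.Lib.Helper15.FieldBase.locP_iso_comp fst hlfpπ
  haveI : LocallyOfFinitePresentation snd.left :=
    hlfp' (𝟙 _) (𝟙 _) snd (AlgSp.repWith_id _ _) (AlgSp.repWith_id _ _) (by simp)
  have hG := genLift_of_stLift f p F e he snd fst hfst hc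
  have hqc : QuasiCompact snd.left := quasiCompact_of_genLift snd.left hG
  have himm : IsImmersion snd.left :=
    Groth.Agent.S15348.result snd.left
      (fun Sq hR hl₀ => dvr_of_dvrLift f p F e he snd fst hfst hb Sq hR hl₀) hG
  have h3 : AlgSp.RepWith (@IsImmersion ⊓ @QuasiCompact) ((AlgSp.yon S).map snd) :=
    (AlgSp.repWith_yon_map_iff _ _).2 ⟨himm, hqc⟩
  have h4 : AlgSt.spMapOfOver (e ⊚ fpFst p f) = inv fst ≫ (AlgSp.yon S).map snd := by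
    rw [IsIso.eq_inv_comp, hfst]
  rw [h4]
  exact MorphismProperty.RespectsIso.precomp _ _ _ h3

end Groth.Agent.Lib.Helper27.QcMonoSt2
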