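import Groth.Agent.Lib.Helper27.AlgStackFp

/-!
# Quasi-compact morphisms of algebraic stacks: permanence (helper27)
-/

set_option autoImplicit false
set_option backward.isDefEq.respectTransparency false
set_option backward.isDefEq.respectTransparency.types false

universe u

open CategoryTheory CategoryTheory.Limits AlgebraicGeometry Opposite FibCat
  Groth.Agent.Lib.Helper27.FpKit Groth.Agent.Lib.Helper27.RepWithComp
  Groth.Agent.Lib.Helper27.LocQOver Groth.Agent.Lib.Helper27.FpBaseChange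

namespace Groth.Agent.Lib.Helper27.QcStack

variable {S : Scheme.{u}}

theorem isQuasiCompact_of_equiv {𝒜 ℬ : AlgSt.Cat S} (E : 𝒜 ⥤ᵇ ℬ) (hE : IsEquivOver E)
    (h : AlgSt.IsQuasiCompact 𝒜) : AlgSt.IsQuasiCompact ℬ := by
  obtain ⟨U, x, hU, hx₁, hx₂⟩ := h
  exact ⟨U, BasedFunctor.comp x E, hU, repByAlgSpWith_comp_equiv _ x E hE hx₁,
    repByAlgSpWith_comp_equiv _ x E hE hx₂⟩

theorem isQuasiCompact_of_equiv' {𝒜 ℬ : AlgSt.Cat S} (E : 𝒜 ⥤ᵇ ℬ) (hE : IsEquivOver E)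
    (h : AlgSt.IsQuasiCompact ℬ) : AlgSt.IsQuasiCompact 𝒜 := by
  obtain ⟨E', hE', -, -⟩ := exists_inverse E hE
  exact isQuasiCompact_of_equiv E' hE' h

variable {𝒳 𝒴 𝒵 𝒴' : AlgSt.Cat S}

theorem isQuasiCompactMor_fpFst (f : 𝒳 ⥤ᵇ 𝒴) (g : 𝒴' ⥤ᵇ 𝒴)
    (hf : AlgSt.IsQuasiCompactMor Scheme.fppfPrecoverage f) :
    AlgSt.IsQuasiCompactMor Scheme.fppfPrecoverage (fpFst g f) := by
  intro 𝒯 h𝒯 hq k
  exact isQuasiCompact_of_equiv' (pasteL f g k) (isEquivOver_pasteL f g k)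
    (hf 𝒯 h𝒯 hq (BasedFunctor.comp k g))

theorem isQuasiCompactMor_comp (h𝒴 : AlgSt.IsAlgStack Scheme.fppfPrecoverage 𝒴)
    (h𝒵 : AlgSt.IsAlgStack Scheme.fppfPrecoverage 𝒵) (f : 𝒳 ⥤ᵇ 𝒴) (g : 𝒴 ⥤ᵇ 𝒵)
    (hf : AlgSt.IsQuasiCompactMor Scheme.fppfPrecoverage f)
    (hg : AlgSt.IsQuasiCompactMor Scheme.fppfPrecoverage g) :
    AlgSt.IsQuasiCompactMor Scheme.fppfPrecoverage (BasedFunctor.comp f g) := by
  intro 𝒯 h𝒯 hq k
  have h1 : AlgSt.IsQuasiCompact (fp k g) := hg 𝒯 h𝒯 hq k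
  have h2 : AlgSt.IsAlgStack Scheme.fppfPrecoverage (fp k g) :=
    Groth.Agent.Lib.Helper27.AlgStackFp.isAlgStack_fp k g h𝒵.isStack h𝒵.diag h𝒯 h𝒴
  have h3 : AlgSt.IsQuasiCompact (fp (fpSnd k g) f) := hf (fp k g) h2 h1 (fpSnd k g)
  exact isQuasiCompact_of_equiv (pasteR f g k) (isEquivOver_pasteR f g k) h3

theorem isQuasiCompactMor_of_iso {f f' : 𝒳 ⥤ᵇ 𝒴} (e : f ≅ f')
    (hf : AlgSt.IsQuasiCompactMor Scheme.fppfPrecoverage f) :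
    AlgSt.IsQuasiCompactMor Scheme.fppfPrecoverage f' := by
  intro 𝒯 h𝒯 hq k
  exact isQuasiCompact_of_equiv' (isoMapSnd k f f' e.symm) (isEquivOver_isoMapSnd k f f' e.symm)
    (hf 𝒯 h𝒯 hq k)

end Groth.Agent.Lib.Helper27.QcStack
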