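import Groth.Agent.Lib.Helper27.QuotCat

/-!
# Categorical / coarse moduli of `[X/G]` versus categorical quotients (helper27)
-/

set_option autoImplicit false
set_option backward.isDefEq.respectTransparency false
set_option backward.isDefEq.respectTransparency.types false

universe u

open CategoryTheory CategoryTheory.Limits MonoidalCategory CartesianMonoidalCategory AlgebraicGeometry
  Opposite MonObj GrpObj

namespace Groth.Agent.Lib.Helper27.QuotCat

open Groth.Agent.Lib.Helper27.QuotDesc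

variable {S : Scheme.{u}} {G : Over S} [GrpObj G] {X Y : Over S} {aX : AlgGrp.Action G X}

theorem yon_inv_iff {Z : Over S} (ψ : X ⟶ Z) :
    ((AlgSp.yon S).map aX.act ≫ (AlgSp.yon S).map ψ =
      (AlgSp.yon S).map (snd G X) ≫ (AlgSp.yon S).map ψ) ↔ aX.act ≫ ψ = snd G X ≫ ψ := by
  rw [← Functor.map_comp, ← Functor.map_comp]
  exact ⟨fun h => (AlgSp.yon S).map_injective h, fun h => by rw [h]⟩

/-- Categorical moduli in a class of sheaves versus universal invariant maps. -/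
theorem isCatModuliIn_iff (C : ObjectProperty (AlgSp.Sp S)) {M : AlgSp.Sp S}
    (π : AlgSt.QuotSt Scheme.fppfPrecoverage G aX ⥤ᵇ AlgSt.ofSp M) :
    AlgSt.IsCatModuliIn C π ↔ C M ∧ ∀ (N : AlgSp.Sp S), C N →
      ∀ ψ : (AlgSp.yon S).obj X ⟶ N,
        (AlgSp.yon S).map aX.act ≫ ψ = (AlgSp.yon S).map (snd G X) ≫ ψ →
          ∃! g : M ⟶ N, restr π ≫ g = ψ := by
  constructor
  · rintro ⟨hM, h⟩
    refine ⟨hM, fun N hN ψ hψ => ?_⟩
    obtain ⟨g, hg, huniq⟩ := h N hN (descFun ψ hψ)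
    rw [nonempty_iso_iff, restr_descFun] at hg
    refine ⟨g, hg, fun g' hg' => huniq g' ?_⟩
    beta_reduce
    rw [nonempty_iso_iff, restr_descFun]
    exact hg'
  · rintro ⟨hM, h⟩
    refine ⟨hM, fun N hN φ => ?_⟩
    obtain ⟨g, hg, huniq⟩ := h N hN (restr φ) (restr_inv φ)
    refine ⟨g, (nonempty_iso_iff π g φ).2 hg, fun g' hg' => huniq g' ?_⟩
    exact (nonempty_iso_iff π g' φ).1 hg'

theorem isCatModuliSch_iff (f : X ⟶ Y)
    (π : AlgSt.QuotSt Scheme.fppfPrecoverage G aX ⥤ᵇ AlgSt.ofSch Y)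
    (hπ : Nonempty (BasedFunctor.comp (AlgSt.quotMap Scheme.fppfPrecoverage G aX) π ≅
      AlgSt.ofSpMap ((AlgSp.yon S).map f))) :
    AlgSt.IsCatModuliSch π ↔ GIT.IsCatQuot aX f := by
  have hr := restr_eq_of_iso f π hπ
  unfold AlgSt.IsCatModuliSch
  rw [isCatModuliIn_iff, hr]
  constructor
  · rintro ⟨-, h⟩
    refine ⟨?_, fun Z ψ hψ => ?_⟩
    · have := restr_inv π
      rw [hr] at this
      exact (yon_inv_iff f).1 this
    · have hZ : ((AlgSp.yon S).obj Z).obj.IsRepresentable :=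
        ⟨Z, ⟨AlgSp.representableByOfIso (Iso.refl _)⟩⟩
      obtain ⟨g, hg, huniq⟩ := h _ hZ ((AlgSp.yon S).map ψ) ((yon_inv_iff ψ).2 hψ)
      refine ⟨(AlgSp.yon S).preimage g, ?_, fun χ' hχ' => ?_⟩
      · apply (AlgSp.yon S).map_injective
        rw [Functor.map_comp, Functor.map_preimage, hg]
      · apply (AlgSp.yon S).map_injective
        rw [Functor.map_preimage]
        apply huniq
        rw [← Functor.map_comp, hχ']
  · rintro ⟨hinv, h⟩
    refine ⟨⟨Y, ⟨AlgSp.representableByOfIso (Iso.refl _)⟩⟩, fun N hN ψ' hψ' => ?_⟩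
    obtain ⟨Z, ⟨e⟩⟩ := hN
    let i : (AlgSp.yon S).obj Z ≅ N := AlgSp.isoOfRepresentableBy e
    let ψ : X ⟶ Z := (AlgSp.yon S).preimage (ψ' ≫ i.inv)
    have hψm : (AlgSp.yon S).map ψ = ψ' ≫ i.inv := Functor.map_preimage _ _
    have hψ : aX.act ≫ ψ = snd G X ≫ ψ := by
      rw [← yon_inv_iff, hψm, reassoc_of% hψ']
    obtain ⟨χ, hχ, huniq⟩ := h Z ψ hψ
    refine ⟨(AlgSp.yon S).map χ ≫ i.hom, ?_, fun g' hg' => ?_⟩
    · beta_reduce
      rw [← Category.assoc, ← Functor.map_comp, hχ, hψm, Category.assoc, Iso.inv_hom_id,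
        Category.comp_id]
    · beta_reduce at hg'
      have h1 : f ≫ (AlgSp.yon S).preimage (g' ≫ i.inv) = ψ := by
        apply (AlgSp.yon S).map_injective
        rw [Functor.map_comp, Functor.map_preimage, hψm, reassoc_of% hg']
      have h2 := huniq _ h1
      rw [← h2, Functor.map_preimage, Category.assoc, Iso.inv_hom_id, Category.comp_id]

end Groth.Agent.Lib.Helper27.QuotCat
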