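import Groth.Agent.Lib.Helper27.QuotCat2

/-!
# Coarse moduli of `[X/G]` from geometric orbits (helper27)
-/

set_option autoImplicit false
set_option backward.isDefEq.respectTransparency false
set_option backward.isDefEq.respectTransparency.types false

universe u

open CategoryTheory CategoryTheory.Limits MonoidalCategory CartesianMonoidalCategory AlgebraicGeometry
  Opposite MonObj GrpObj

namespace Groth.Agent.Lib.Helper27.QuotCat

open Groth.Agent.Lib.Helper27.QuotDesc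

variable {S : Scheme.{u}} {G : Over S} [GrpObj G] {X Y : Over S} {aX : AlgGrp.Action G X}

section IsoBase

variable {K : Precoverage Scheme.{u}}

/-- A morphism of `[X/G]` over an isomorphism of bases is an isomorphism. -/
theorem isIso_of_isIso_base {A B : AlgSt.QuotObj K G aX} (g : A ⟶ B) [IsIso g.base] : IsIso g := by
  have htop : IsIso g.top := g.cart.isIso_fst_of_isIso
  have hw : g.top ≫ B.π = A.π ≫ g.base := g.cart.w
  let g' : B ⟶ A :=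
    { base := inv g.base
      top := inv g.top
      eqv := by
        have h1 := g.eqv
        have h2 : (G ◁ inv g.top) ≫ (G ◁ g.top) = 𝟙 _ := by
          rw [← MonoidalCategory.whiskerLeft_comp, IsIso.inv_hom_id, MonoidalCategory.whiskerLeft_id]
        rw [IsIso.comp_inv_eq, Category.assoc, h1, reassoc_of% h2]
      cart := by
        refine IsPullback.of_horiz_isIso ⟨?_⟩
        rw [IsIso.inv_comp_eq, ← Category.assoc, IsIso.eq_comp_inv, hw]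
      wφ := by
        rw [IsIso.inv_comp_eq, g.wφ] }
  refine ⟨⟨g', ?_, ?_⟩⟩
  · apply AlgSt.QuotObj.hom_ext
    · exact IsIso.hom_inv_id g.base
    · exact IsIso.hom_inv_id g.top
  · apply AlgSt.QuotObj.hom_ext
    · exact IsIso.inv_hom_id g.base
    · exact IsIso.inv_hom_id g.top

end IsoBase

section Fib

variable {𝒳 : AlgSt.Cat S}

/-- An isomorphism over the identity gives an isomorphism in the fibre. -/
noncomputable def fiberIso {T : Over S} (x y : 𝒳.p.Fiber T) (g : x.1 ⟶ y.1)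
    (hg : 𝒳.p.IsHomLift (𝟙 T) g) (hi : IsIso g) : x ≅ y where
  hom := ⟨g, hg⟩
  inv := ⟨inv g, inferInstance⟩
  hom_inv_id := by
    apply Subtype.ext
    exact IsIso.hom_inv_id g
  inv_hom_id := by
    apply Subtype.ext
    exact IsIso.inv_hom_id g

end Fib

/-- Over a base all of whose covering sieves are maximal, every object of `[X/G]` is trivial. -/
theorem exists_triv_iso {T : Over S}
    (hT : ∀ R : Sieve T, R ∈ AlgSp.J S T → R (𝟙 T))
    (A : AlgSt.QuotObj Scheme.fppfPrecoverage G aX) (hA : A.base = T) :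
    ∃ (x₀ : T ⟶ X) (g : (AlgSt.quotMap Scheme.fppfPrecoverage G aX).obj ⟨T, ⟨x₀⟩⟩ ⟶ A),
      IsIso g ∧ (AlgSt.QuotSt Scheme.fppfPrecoverage G aX).p.IsHomLift (𝟙 T) g := by
  subst hA
  obtain ⟨s, hs⟩ := hT (liftSieve A) (liftSieve_mem A)
  refine ⟨s ≫ A.φ, ptHom A s, ?_, ?_⟩
  · have : IsIso (ptHom A s).base := by
      change IsIso (s ≫ A.π)
      rw [hs]
      infer_instance
    exact isIso_of_isIso_base _
  · apply IsHomLift.of_fac _ _ _ rfl rfl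
    change 𝟙 _ = eqToHom _ ≫ (s ≫ A.π) ≫ eqToHom _
    rw [hs]
    simp

/-- Translating a point by a group element gives an isomorphic trivial torsor. -/
theorem exists_translate_iso {T : Over S} (gam : T ⟶ G) (y₀ x₀ : T ⟶ X)
    (h : lift gam y₀ ≫ aX.act = x₀) :
    ∃ g : (AlgSt.quotMap Scheme.fppfPrecoverage G aX).obj ⟨T, ⟨x₀⟩⟩ ⟶
        (AlgSt.quotMap Scheme.fppfPrecoverage G aX).obj ⟨T, ⟨y₀⟩⟩,
      IsIso g ∧ (AlgSt.QuotSt Scheme.fppfPrecoverage G aX).p.IsHomLift (𝟙 T) g := by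
  let B : AlgSt.QuotObj Scheme.fppfPrecoverage G aX :=
    (AlgSt.quotMap Scheme.fppfPrecoverage G aX).obj ⟨T, ⟨y₀⟩⟩
  let p : T ⟶ B.P := lift gam (𝟙 T)
  have hp : p ≫ B.π = 𝟙 T := lift_snd _ _
  have hφ : p ≫ B.φ = x₀ := by
    change lift gam (𝟙 T) ≫ (G ◁ y₀) ≫ aX.act = _
    rw [← h, ← Category.assoc]
    congr 1
    apply CartesianMonoidalCategory.hom_ext <;> simp
  subst hφ
  refine ⟨ptHom B p, ?_, ?_⟩
  · have : IsIso (ptHom B p).base := by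
      change IsIso (p ≫ B.π)
      rw [hp]
      infer_instance
    exact isIso_of_isIso_base _
  · apply IsHomLift.of_fac _ _ _ rfl rfl
    change 𝟙 _ = eqToHom _ ≫ (p ≫ B.π) ≫ eqToHom _
    rw [hp]
    simp

theorem fibSec_quotMap {M : AlgSp.Sp S}
    (π : AlgSt.QuotSt Scheme.fppfPrecoverage G aX ⥤ᵇ AlgSt.ofSp M) {T : Over S} (x₀ : T ⟶ X) :
    AlgSt.fibSec π (⟨(AlgSt.quotMap Scheme.fppfPrecoverage G aX).obj ⟨T, ⟨x₀⟩⟩, rfl⟩ :
      (AlgSt.QuotSt Scheme.fppfPrecoverage G aX).p.Fiber T) = fv (restr π) x₀ := by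
  rw [fv_restr]
  rfl

/-- Bijectivity on geometric points from the orbit condition. -/
theorem geomPtBij (f : X ⟶ Y)
    (horb : ∀ (Ω : Type u) [Field Ω] [IsAlgClosed Ω] (t : Spec (CommRingCat.of Ω) ⟶ S),
      (∀ y : Over.mk t ⟶ Y, ∃ x : Over.mk t ⟶ X, x ≫ f = y) ∧
      (∀ x x' : Over.mk t ⟶ X, x ≫ f = x' ≫ f → ∃ g : Over.mk t ⟶ G, lift g x' ≫ aX.act = x))
    (π : AlgSt.QuotSt Scheme.fppfPrecoverage G aX ⥤ᵇ AlgSt.ofSch Y)
    (hr : restr π = (AlgSp.yon S).map f) : AlgSt.GeomPtBij π := by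
  intro Ω _ _ t
  have hT : ∀ R : Sieve (Over.mk t), R ∈ AlgSp.J S (Over.mk t) → R (𝟙 (Over.mk t)) :=
    fun R hR => GerbCoarse.id_mem_of_algClosed Ω t R hR
  have hfv : ∀ x₀ : Over.mk t ⟶ X, fv (restr π) x₀ = ⟨x₀ ≫ f⟩ := by
    intro x₀
    rw [hr]
    rfl
  refine ⟨fun m => ?_, fun x y hxy => ?_⟩
  · obtain ⟨x₀, hx₀⟩ := (horb Ω t).1 m.down
    refine ⟨⟨(AlgSt.quotMap Scheme.fppfPrecoverage G aX).obj ⟨Over.mk t, ⟨x₀⟩⟩, rfl⟩, ?_⟩
    rw [fibSec_quotMap, hfv, hx₀]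
    rfl
  · obtain ⟨x₀, gx, hgx, hlx⟩ := exists_triv_iso hT x.1 x.2
    obtain ⟨y₀, gy, hgy, hly⟩ := exists_triv_iso hT y.1 y.2
    let x' : (AlgSt.QuotSt Scheme.fppfPrecoverage G aX).p.Fiber (Over.mk t) :=
      ⟨(AlgSt.quotMap Scheme.fppfPrecoverage G aX).obj ⟨Over.mk t, ⟨x₀⟩⟩, rfl⟩
    let y' : (AlgSt.QuotSt Scheme.fppfPrecoverage G aX).p.Fiber (Over.mk t) :=
      ⟨(AlgSt.quotMap Scheme.fppfPrecoverage G aX).obj ⟨Over.mk t, ⟨y₀⟩⟩, rfl⟩
    have h1 : AlgSt.fibSec π x' = AlgSt.fibSec π x := GerbCoarse.fibSec_eq_of_hom π x' x gx hlx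
    have h2 : AlgSt.fibSec π y' = AlgSt.fibSec π y := GerbCoarse.fibSec_eq_of_hom π y' y gy hly
    have h3 : AlgSt.fibSec π x' = AlgSt.fibSec π y' := by rw [h1, h2, hxy]
    rw [fibSec_quotMap, fibSec_quotMap, hfv, hfv] at h3
    have h4 : x₀ ≫ f = y₀ ≫ f := congrArg ULift.down h3
    obtain ⟨gam, hgam⟩ := (horb Ω t).2 x₀ y₀ h4
    obtain ⟨gt, hgt, hlt⟩ := exists_translate_iso gam y₀ x₀ hgam
    exact ⟨(fiberIso x' x gx hlx hgx).symm ≪≫ fiberIso x' y' gt hlt hgt ≪≫ fiberIso y' y gy hly hgy⟩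

/-- The coarse moduli statement. -/
theorem isCoarseModuli (f : X ⟶ Y)
    (horb : ∀ (Ω : Type u) [Field Ω] [IsAlgClosed Ω] (t : Spec (CommRingCat.of Ω) ⟶ S),
      (∀ y : Over.mk t ⟶ Y, ∃ x : Over.mk t ⟶ X, x ≫ f = y) ∧
      (∀ x x' : Over.mk t ⟶ X, x ≫ f = x' ≫ f → ∃ g : Over.mk t ⟶ G, lift g x' ≫ aX.act = x))
    (hcat : ∀ (N : AlgSp.Space S) (ψ : (AlgSp.yon S).obj X ⟶ N.obj),
      (AlgSp.yon S).map aX.act ≫ ψ = (AlgSp.yon S).map (snd G X) ≫ ψ →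
        ∃! χ : (AlgSp.yon S).obj Y ⟶ N.obj, (AlgSp.yon S).map f ≫ χ = ψ)
    (π : AlgSt.QuotSt Scheme.fppfPrecoverage G aX ⥤ᵇ AlgSt.ofSch Y)
    (hπ : Nonempty (BasedFunctor.comp (AlgSt.quotMap Scheme.fppfPrecoverage G aX) π ≅
      AlgSt.ofSpMap ((AlgSp.yon S).map f))) :
    AlgSt.IsCoarseModuli π := by
  have hr := restr_eq_of_iso f π hπ
  refine ⟨?_, geomPtBij f horb π hr⟩
  rw [isCatModuliIn_iff, hr]
  exact ⟨AlgSp.IsAlgSpace.yon_obj Y, fun N hN ψ hψ => hcat ⟨N, hN⟩ ψ hψ⟩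

end Groth.Agent.Lib.Helper27.QuotCat
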