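import Groth.Prelude.Def_AlgSt5
import Groth.Prelude.Def_AlgSt2
import Groth.Prelude.Def_AlgGrp
import Groth.Prelude.Def_AlgSp
import Mathlib.AlgebraicGeometry.Sites.Fpqc

/-!
# Descending an invariant map to the quotient stack `[X/G]` (helper27)
-/

set_option autoImplicit false
set_option backward.isDefEq.respectTransparency false
set_option backward.isDefEq.respectTransparency.types false

universe u

open CategoryTheory CategoryTheory.Limits MonoidalCategory CartesianMonoidalCategory AlgebraicGeometry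
  Opposite MonObj GrpObj

namespace Groth.Agent.Lib.Helper27.QuotDesc

variable {S : Scheme.{u}} {G : Over S} [GrpObj G] {X : Over S} {aX : AlgGrp.Action G X}
  {M : AlgSp.Sp S} (f : (AlgSp.yon S).obj X ⟶ M)

/-- The value of `f` at a point of `X`. -/
def fv {Z : Over S} (x : Z ⟶ X) : M.obj.obj (op Z) := f.hom.app (op Z) ⟨x⟩

theorem fv_comp {Z Z' : Over S} (h : Z' ⟶ Z) (x : Z ⟶ X) :
    fv f (h ≫ x) = M.obj.map h.op (fv f x) := by
  have := NatTrans.naturality_apply f.hom h.op (⟨x⟩ : ((AlgSp.yon S).obj X).obj.obj (op Z))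
  exact this

variable (hf : (AlgSp.yon S).map aX.act ≫ f = (AlgSp.yon S).map (snd G X) ≫ f)

include hf in
theorem fv_act {Z : Over S} (q : Z ⟶ G ⊗ X) : fv f (q ≫ aX.act) = fv f (q ≫ snd G X) := by
  have h1 := congrArg (fun t => t.hom.app (op Z) ⟨q⟩) hf
  exact h1

variable {K : Precoverage Scheme.{u}}

include hf in
/-- Invariance: two points of the torsor over the same point of the base have the same value. -/
theorem fv_inv (A : AlgSt.QuotObj K G aX) {Z : Over S} (p₁ p₂ : Z ⟶ A.P)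
    (h : p₁ ≫ A.π = p₂ ≫ A.π) : fv f (p₁ ≫ A.φ) = fv f (p₂ ≫ A.φ) := by
  obtain ⟨q, hq₁, hq₂⟩ : ∃ q : Z ⟶ G ⊗ A.P, q ≫ A.act.act = p₁ ∧ q ≫ snd G A.P = p₂ :=
    ⟨A.cart.lift p₁ p₂ h, A.cart.lift_fst _ _ _, A.cart.lift_snd _ _ _⟩
  rw [← hq₁, ← hq₂, Category.assoc, A.eqv, ← Category.assoc, fv_act f hf, Category.assoc,
    whiskerLeft_snd, Category.assoc]

/-- The characterising property of the descended section. -/
def IsDesc (A : AlgSt.QuotObj K G aX) (σ : M.obj.obj (op A.base)) : Prop :=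
  ∀ ⦃Z : Over S⦄ (p : Z ⟶ A.P), M.obj.map (p ≫ A.π).op σ = fv f (p ≫ A.φ)

/-- The sieve of morphisms to the base that lift to the torsor. -/
def liftSieve (A : AlgSt.QuotObj K G aX) : Sieve A.base where
  arrows := fun Z k => ∃ p : Z ⟶ A.P, p ≫ A.π = k
  downward_closed := by
    rintro Z Z' k ⟨p, rfl⟩ h
    exact ⟨h ≫ p, Category.assoc _ _ _⟩

theorem liftSieve_mem (A : AlgSt.QuotObj Scheme.fppfPrecoverage G aX) :
    liftSieve A ∈ AlgSp.J S A.base := by
  obtain ⟨R₀, hR₀, hsec⟩ := A.loc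
  change _ ∈ (Scheme.fppfTopology.over S) A.base
  rw [GrothendieckTopology.mem_over_iff]
  refine GrothendieckTopology.superset_covering _ ?_ (Precoverage.generate_mem_toGrothendieck hR₀)
  rw [Sieve.generate_le_iff]
  intro W g hg
  rw [Sieve.overEquiv_iff]
  obtain ⟨s, hs⟩ := hsec g hg
  have hs' : s ≫ A.π.left = g := hs
  refine ⟨Over.homMk s ?_, ?_⟩
  · change s ≫ A.P.hom = g ≫ A.base.hom
    rw [← hs', Category.assoc, Over.w A.π]
  · ext
    exact hs'

theorem isSheaf_type (M : AlgSp.Sp S) : Presieve.IsSheaf (AlgSp.J S) M.obj :=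
  (isSheaf_iff_isSheaf_of_type _ _).1 M.property

theorem desc_unique (A : AlgSt.QuotObj Scheme.fppfPrecoverage G aX) {σ σ' : M.obj.obj (op A.base)}
    (h : IsDesc f A σ) (h' : IsDesc f A σ') : σ = σ' := by
  have hs := isSheaf_type M (liftSieve A) (liftSieve_mem A)
  apply hs.isSeparatedFor.ext
  rintro Z k ⟨p, rfl⟩
  rw [h p, h' p]

include hf in
theorem exists_desc (A : AlgSt.QuotObj Scheme.fppfPrecoverage G aX) : ∃ σ, IsDesc f A σ := by
  have hs := isSheaf_type M (liftSieve A) (liftSieve_mem A)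
  let x : Presieve.FamilyOfElements M.obj (liftSieve A).arrows :=
    fun Z k hk => fv f (hk.choose ≫ A.φ)
  have hx : x.Compatible := by
    intro Z₁ Z₂ W g₁ g₂ k₁ k₂ hk₁ hk₂ comm
    change M.obj.map g₁.op (fv f (hk₁.choose ≫ A.φ)) = M.obj.map g₂.op (fv f (hk₂.choose ≫ A.φ))
    rw [← fv_comp, ← fv_comp, ← Category.assoc, ← Category.assoc]
    apply fv_inv f hf A
    rw [Category.assoc, Category.assoc, hk₁.choose_spec, hk₂.choose_spec, comm]
  refine ⟨hs.amalgamate x hx, fun Z p => ?_⟩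
  have hp : (liftSieve A).arrows (p ≫ A.π) := ⟨p, rfl⟩
  rw [hs.valid_glue hx (p ≫ A.π) hp]
  change fv f (hp.choose ≫ A.φ) = _
  exact fv_inv f hf A _ _ hp.choose_spec

/-- The descended section. -/
noncomputable def desc (A : AlgSt.QuotObj Scheme.fppfPrecoverage G aX) : M.obj.obj (op A.base) :=
  (exists_desc f hf A).choose

theorem desc_spec (A : AlgSt.QuotObj Scheme.fppfPrecoverage G aX) : IsDesc f A (desc f hf A) :=
  (exists_desc f hf A).choose_spec

theorem desc_map {A B : AlgSt.QuotObj Scheme.fppfPrecoverage G aX} (g : A ⟶ B) :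
    M.obj.map g.base.op (desc f hf B) = desc f hf A := by
  apply desc_unique f A _ (desc_spec f hf A)
  intro Z p
  have h1 : (p ≫ A.π) ≫ g.base = (p ≫ g.top) ≫ B.π := by
    rw [Category.assoc, Category.assoc, g.cart.w]
  rw [← FunctorToTypes.map_comp_apply, ← op_comp, h1, desc_spec f hf B (p ≫ g.top),
    Category.assoc, g.wφ]

/-- The descended functor `[X/G] ⟶ M`. -/
noncomputable def descFun : AlgSt.QuotSt Scheme.fppfPrecoverage G aX ⥤ᵇ AlgSt.ofSp M where
  toFunctor :=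
    { obj := fun A => ⟨A.base, desc f hf A⟩
      map := fun {A B} g => ⟨g.base, desc_map f hf g⟩
      map_id := fun A => Stk.EltObj.hom_ext rfl
      map_comp := fun g g' => Stk.EltObj.hom_ext rfl }
  w := rfl

section Ext

universe v₁ u₁ v₂ u₂ w

variable {C : Type u₁} [Category.{v₁} C] {P : Cᵒᵖ ⥤ Type w}

theorem eltObj_eqToHom_hom {a b : Stk.EltObj P} (e : a = b) :
    (eqToHom e).hom = eqToHom (congrArg Stk.EltObj.base e) := by
  subst e
  rfl

theorem eltObj_ext {a b : Stk.EltObj P} (h : a.base = b.base)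
    (h' : P.map (eqToHom h).op b.sec = a.sec) : a = b := by
  obtain ⟨ab, as⟩ := a
  obtain ⟨bb, bs⟩ := b
  dsimp at h
  subst h
  simp at h'
  rw [h']

theorem basedFunctor_ext_ofPsh {𝒜 : BasedCategory.{v₂, u₂} C} (F G : 𝒜 ⥤ᵇ Stk.ofPsh P)
    (h : ∀ a, F.obj a = G.obj a) : F = G := by
  obtain ⟨F, wF⟩ := F
  obtain ⟨G, wG⟩ := G
  have key : F = G := by
    refine CategoryTheory.Functor.ext h (fun a b g => ?_)
    apply Stk.EltObj.hom_ext
    rw [Stk.EltObj.comp_hom, Stk.EltObj.comp_hom, eltObj_eqToHom_hom, eltObj_eqToHom_hom]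
    have h1 : (F.map g).hom = eqToHom _ ≫ 𝒜.p.map g ≫ eqToHom _ := Functor.congr_hom wF g
    have h2 : (G.map g).hom = eqToHom _ ≫ 𝒜.p.map g ≫ eqToHom _ := Functor.congr_hom wG g
    rw [h1, h2]
    simp
  subst key
  rfl

end Ext

theorem unitSec_act {Z : Over S} (x : Z ⟶ X) :
    lift (toUnit Z ≫ η[G]) (𝟙 Z) ≫ (G ◁ x) ≫ aX.act = x := by
  have h1 : lift (toUnit Z ≫ η[G]) (𝟙 Z) ≫ (G ◁ x) = lift (toUnit Z) x ≫ (η[G] ▷ X) := by
    apply CartesianMonoidalCategory.hom_ext <;> simp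
  rw [← Category.assoc, h1, Category.assoc, aX.one_act]
  simp

theorem isDesc_section {A : AlgSt.QuotObj K G aX} {σ : M.obj.obj (op A.base)}
    (h : IsDesc f A σ) (s : A.base ⟶ A.P) (hs : s ≫ A.π = 𝟙 _) : σ = fv f (s ≫ A.φ) := by
  have h1 := h s
  rw [hs] at h1
  rw [← h1]
  simp

include hf in
theorem quotMap_descFun :
    BasedFunctor.comp (AlgSt.quotMap Scheme.fppfPrecoverage G aX) (descFun f hf) =
      AlgSt.ofSpMap f := by
  apply basedFunctor_ext_ofPsh
  intro a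
  change (⟨a.base, desc f hf ((AlgSt.quotMap Scheme.fppfPrecoverage G aX).obj a)⟩ :
    Stk.EltObj M.obj) = ⟨a.base, f.hom.app _ a.sec⟩
  congr 1
  have h1 := isDesc_section f (desc_spec f hf ((AlgSt.quotMap Scheme.fppfPrecoverage G aX).obj a))
    (lift (toUnit a.base ≫ η[G]) (𝟙 a.base)) (lift_snd _ _)
  refine h1.trans ?_
  change fv f (lift (toUnit a.base ≫ η[G]) (𝟙 a.base) ≫ (G ◁ a.sec.down) ≫ aX.act) = _
  rw [unitSec_act]
  rfl

section SecOf

universe v₁ u₁ v₂ u₂ w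

variable {C : Type u₁} [Category.{v₁} C] {P : Cᵒᵖ ⥤ Type w} {𝒜 : BasedCategory.{v₂, u₂} C}

theorem base_obj (F : 𝒜 ⥤ᵇ Stk.ofPsh P) (a : 𝒜.obj) : (F.obj a).base = 𝒜.p.obj a :=
  Functor.congr_obj F.w a

/-- The section attached to an object by a based functor to `ofPsh P`, transported to the base. -/
def secOf (F : 𝒜 ⥤ᵇ Stk.ofPsh P) (a : 𝒜.obj) : P.obj (op (𝒜.p.obj a)) :=
  P.map (eqToHom (base_obj F a).symm).op (F.obj a).sec

theorem obj_eq_secOf (F : 𝒜 ⥤ᵇ Stk.ofPsh P) (a : 𝒜.obj) :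
    F.obj a = ⟨𝒜.p.obj a, secOf F a⟩ := by
  refine eltObj_ext (base_obj F a) ?_
  change P.map _ (P.map _ _) = _
  rw [← FunctorToTypes.map_comp_apply, ← op_comp, eqToHom_trans, eqToHom_refl]
  simp

theorem secOf_map (F : 𝒜 ⥤ᵇ Stk.ofPsh P) {a b : 𝒜.obj} (g : a ⟶ b) :
    P.map (𝒜.p.map g).op (secOf F b) = secOf F a := by
  have h1 : (F.map g).hom = eqToHom _ ≫ 𝒜.p.map g ≫ eqToHom _ := Functor.congr_hom F.w g
  have h2 : 𝒜.p.map g ≫ eqToHom (base_obj F b).symm =
      eqToHom (base_obj F a).symm ≫ (F.map g).hom := by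
    rw [h1]
    simp
  unfold secOf
  rw [← FunctorToTypes.map_comp_apply, ← op_comp, h2, op_comp, FunctorToTypes.map_comp_apply,
    (F.map g).map_sec]

theorem sec_eq_of_eq {B : Stk.EltObj P} {U : C} {s : P.obj (op U)} (h : B = ⟨U, s⟩)
    (hh : U = B.base) : P.map (eqToHom hh).op B.sec = s := by
  subst h
  simp

theorem secOf_eq_of_obj_eq (F : 𝒜 ⥤ᵇ Stk.ofPsh P) (a : 𝒜.obj) (s : P.obj (op (𝒜.p.obj a)))
    (h : F.obj a = ⟨𝒜.p.obj a, s⟩) : secOf F a = s :=
  sec_eq_of_eq h _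

end SecOf

/-- The morphism of `[X/G]` from the trivial torsor at a point of a torsor. -/
noncomputable def ptHom (A : AlgSt.QuotObj Scheme.fppfPrecoverage G aX) {Z : Over S} (p : Z ⟶ A.P) :
    (AlgSt.quotMap Scheme.fppfPrecoverage G aX).obj ⟨Z, ⟨p ≫ A.φ⟩⟩ ⟶ A where
  base := p ≫ A.π
  top := (G ◁ p) ≫ A.act.act
  eqv := by
    have hμ : fst (G ⊗ G) A.P ≫ μ[G] = (fst _ _ ≫ fst G G) * (fst _ _ ≫ snd G G) := by
      rw [Hom.mul_def, ← comp_lift, lift_fst_snd, Category.comp_id]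
    have h : (AlgSt.leftMul G Z).act ≫ (G ◁ p) =
        (G ◁ (G ◁ p)) ≫ (α_ G G A.P).inv ≫ (μ[G] ▷ A.P) := by
      apply CartesianMonoidalCategory.hom_ext
      · simp only [AlgSt.leftMul, Category.assoc, lift_fst, lift_snd, lift_fst_assoc, lift_snd_assoc, comp_lift, comp_mul, whiskerLeft_fst, whiskerLeft_snd, whiskerLeft_fst_assoc, whiskerLeft_snd_assoc, whiskerRight_fst, whiskerRight_snd, whiskerRight_fst_assoc, whiskerRight_snd_assoc, associator_hom_fst, associator_hom_snd_fst, associator_hom_snd_snd, associator_hom_snd_fst_assoc, associator_hom_snd_snd_assoc, associator_inv_fst_fst, associator_inv_fst_snd, associator_inv_snd, associator_inv_fst_fst_assoc, associator_inv_fst_snd_assoc, associator_inv_snd_assoc, hμ]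
      · simp only [AlgSt.leftMul, Category.assoc, lift_fst, lift_snd, lift_fst_assoc, lift_snd_assoc, comp_lift, comp_mul, whiskerLeft_fst, whiskerLeft_snd, whiskerLeft_fst_assoc, whiskerLeft_snd_assoc, whiskerRight_fst, whiskerRight_snd, whiskerRight_fst_assoc, whiskerRight_snd_assoc, associator_hom_fst, associator_hom_snd_fst, associator_hom_snd_snd, associator_hom_snd_fst_assoc, associator_hom_snd_snd_assoc, associator_inv_fst_fst, associator_inv_fst_snd, associator_inv_snd, associator_inv_fst_fst_assoc, associator_inv_fst_snd_assoc, associator_inv_snd_assoc]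
    have hm : (G ◁ A.act.act) ≫ A.act.act = (α_ G G A.P).inv ≫ (μ[G] ▷ A.P) ≫ A.act.act := by
      rw [A.act.mul_act, Iso.inv_hom_id_assoc]
    change (AlgSt.leftMul G Z).act ≫ (G ◁ p) ≫ A.act.act = (G ◁ ((G ◁ p) ≫ A.act.act)) ≫ A.act.act
    rw [MonoidalCategory.whiskerLeft_comp, Category.assoc, hm, reassoc_of% h]
  cart := by
    have h1 := (AlgSt.isPullback_whiskerLeft (G := G) p).paste_horiz A.cart
    exact h1
  wφ := by
    change ((G ◁ p) ≫ A.act.act) ≫ A.φ = (G ◁ (p ≫ A.φ)) ≫ aX.act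
    rw [Category.assoc, A.eqv, MonoidalCategory.whiskerLeft_comp, Category.assoc]

include hf in
theorem descFun_unique (φ' : AlgSt.QuotSt Scheme.fppfPrecoverage G aX ⥤ᵇ AlgSt.ofSp M)
    (hφ' : BasedFunctor.comp (AlgSt.quotMap Scheme.fppfPrecoverage G aX) φ' = AlgSt.ofSpMap f) :
    φ' = descFun f hf := by
  apply basedFunctor_ext_ofPsh
  intro A
  have key : IsDesc f A (secOf φ' A) := by
    intro Z p
    have h1 := secOf_map φ' (ptHom A p)
    refine h1.trans ?_
    apply secOf_eq_of_obj_eq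
    have h2 := congrArg (fun F : AlgSt.ofSch X ⥤ᵇ AlgSt.ofSp M => F.obj ⟨Z, ⟨p ≫ A.φ⟩⟩) hφ'
    exact h2
  have h3 := desc_unique f A key (desc_spec f hf A)
  rw [obj_eq_secOf φ' A, h3]
  rfl

end Groth.Agent.Lib.Helper27.QuotDesc
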