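import Groth.Agent.Lib.Helper27.QuotCat3

/-!
# Quotient stacks `[X/G]`: cartesian lifting, trivial torsors at a point (helper27)

Generic in the precoverage `K`.
-/

set_option autoImplicit false
set_option backward.isDefEq.respectTransparency false
set_option backward.isDefEq.respectTransparency.types false

universe u

open CategoryTheory CategoryTheory.Limits MonoidalCategory CartesianMonoidalCategory AlgebraicGeometry
  Opposite MonObj GrpObj

namespace Groth.Agent.Lib.Helper27.QuotStk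

variable {S : Scheme.{u}} {K : Precoverage Scheme.{u}} {G : Over S} [GrpObj G] {X : Over S}
  {aX : AlgGrp.Action G X}

section Lift

variable {A B C : AlgSt.QuotObj K G aX}

/-- Every morphism of `[X/G]` is cartesian: the lift of `φ'` through `φ` over `g`. -/
noncomputable def liftHom (φ : B ⟶ A) (φ' : C ⟶ A) (g : C.base ⟶ B.base)
    (h : φ'.base = g ≫ φ.base) : C ⟶ B where
  base := g
  top := φ.cart.lift φ'.top (C.π ≫ g) (by rw [φ'.cart.w, h, Category.assoc])
  eqv := by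
    apply φ.cart.hom_ext
    · rw [Category.assoc, IsPullback.lift_fst, Category.assoc, φ.eqv,
        ← MonoidalCategory.whiskerLeft_comp_assoc, IsPullback.lift_fst, φ'.eqv]
    · rw [Category.assoc, IsPullback.lift_snd, Category.assoc, B.cart.w,
        whiskerLeft_snd_assoc, IsPullback.lift_snd, ← Category.assoc, C.cart.w, Category.assoc]
  cart := by
    refine IsPullback.of_right ?_ (IsPullback.lift_snd _ _ _ _) φ.cart
    rw [IsPullback.lift_fst, ← h]
    exact φ'.cart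
  wφ := by
    rw [← φ.wφ, ← Category.assoc, IsPullback.lift_fst, φ'.wφ]

@[simp] theorem liftHom_base (φ : B ⟶ A) (φ' : C ⟶ A) (g : C.base ⟶ B.base)
    (h : φ'.base = g ≫ φ.base) : (liftHom φ φ' g h).base = g := rfl

theorem liftHom_fac (φ : B ⟶ A) (φ' : C ⟶ A) (g : C.base ⟶ B.base)
    (h : φ'.base = g ≫ φ.base) : liftHom φ φ' g h ≫ φ = φ' := by
  apply AlgSt.QuotObj.hom_ext
  · exact h.symm
  · exact IsPullback.lift_fst _ _ _ _

/-- Morphisms into the source of a morphism are determined by base and composite. -/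
theorem hom_ext_of_comp {χ χ' : C ⟶ B} (φ : B ⟶ A) (hb : χ.base = χ'.base)
    (h : χ ≫ φ = χ' ≫ φ) : χ = χ' := by
  apply AlgSt.QuotObj.hom_ext hb
  apply φ.cart.hom_ext
  · exact congrArg AlgSt.QuotObj.Hom.top h
  · rw [χ.cart.w, χ'.cart.w, hb]

end Lift

section Triv

variable [K.HasIsos]

/-- The unit section of the trivial torsor. -/
noncomputable def unitSec (Z : Over S) : Z ⟶ G ⊗ Z := lift (toUnit Z ≫ η[G]) (𝟙 Z)

@[simp] theorem unitSec_snd (Z : Over S) : unitSec (G := G) Z ≫ snd G Z = 𝟙 Z := lift_snd _ _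

theorem unitSec_whisker {Z : Over S} {Y : Over S} (x : Z ⟶ Y) :
    unitSec (G := G) Z ≫ (G ◁ x) = lift (toUnit Z) x ≫ (η[G] ▷ Y) := by
  unfold unitSec
  apply CartesianMonoidalCategory.hom_ext <;> simp

theorem unitSec_act {Y : Over S} (a : AlgGrp.Action G Y) {Z : Over S} (x : Z ⟶ Y) :
    unitSec Z ≫ (G ◁ x) ≫ a.act = x := by
  rw [← Category.assoc, unitSec_whisker, Category.assoc, a.one_act]
  simp

theorem whisker_unitSec_leftMul (Z : Over S) :
    (G ◁ unitSec (G := G) Z) ≫ (AlgSt.leftMul G Z).act = 𝟙 _ := by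
  unfold unitSec AlgSt.leftMul
  apply CartesianMonoidalCategory.hom_ext
  · simp only [Category.assoc, lift_fst, comp_mul, whiskerLeft_fst, whiskerLeft_snd_assoc, lift_fst,
      Category.id_comp]
    rw [show (snd G Z ≫ toUnit Z ≫ η[G]) = (1 : G ⊗ Z ⟶ G) by
      rw [← Category.assoc, toUnit_unique (snd G Z ≫ toUnit Z) (toUnit _), ← Hom.one_def]]
    simp
  · simp

/-- The morphism of `[X/G]` from the trivial torsor at a point of a torsor. -/
noncomputable def ptHom (A : AlgSt.QuotObj K G aX) {Z : Over S} (p : Z ⟶ A.P) :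
    (AlgSt.quotMap K G aX).obj ⟨Z, ⟨p ≫ A.φ⟩⟩ ⟶ A where
  base := p ≫ A.π
  top := (G ◁ p) ≫ A.act.act
  eqv := by
    have hμ : fst (G ⊗ G) A.P ≫ μ[G] = (fst _ _ ≫ fst G G) * (fst _ _ ≫ snd G G) := by
      rw [Hom.mul_def, ← comp_lift, lift_fst_snd, Category.comp_id]
    have h : (AlgSt.leftMul G Z).act ≫ (G ◁ p) =
        (G ◁ (G ◁ p)) ≫ (α_ G G A.P).inv ≫ (μ[G] ▷ A.P) := by
      apply CartesianMonoidalCategory.hom_ext
      · simp only [AlgSt.leftMul, Category.assoc, lift_fst, lift_snd, lift_fst_assoc, lift_snd_assoc, comp_lift, comp_mul, whiskerLeft_fst, whiskerLeft_snd, whiskerLeft_fst_assoc, whiskerLeft_snd_assoc, whiskerRight_fst, whiskerRight_snd, whiskerRight_fst_assoc, whiskerRight_snd_assoc, associator_hom_fst, associator_hom_snd_fst, associator_hom_snd_snd, associator_hom_snd_fst_assoc, associator_hom_snd_snd_assoc, associator_inv_fst_fst, associator_inv_fst_snd, associator_inv_snd, associator_inv_fst_fst_assoc, associator_inv_fst_snd_assoc,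 associator_inv_snd_assoc, hμ]
      · simp only [AlgSt.leftMul, Category.assoc, lift_fst, lift_snd, lift_fst_assoc, lift_snd_assoc, comp_lift, comp_mul, whiskerLeft_fst, whiskerLeft_snd, whiskerLeft_fst_assoc, whiskerLeft_snd_assoc, whiskerRight_fst, whiskerRight_snd, whiskerRight_fst_assoc, whiskerRight_snd_assoc, associator_hom_fst, associator_hom_snd_fst, associator_hom_snd_snd, associator_hom_snd_fst_assoc, associator_hom_snd_snd_assoc, associator_inv_fst_fst, associator_inv_fst_snd, associator_inv_snd, associator_inv_fst_fst_assoc, associator_inv_fst_snd_assoc, associator_inv_snd_assoc]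
    have hm : (G ◁ A.act.act) ≫ A.act.act = (α_ G G A.P).inv ≫ (μ[G] ▷ A.P) ≫ A.act.act := by
      rw [A.act.mul_act, Iso.inv_hom_id_assoc]
    change (AlgSt.leftMul G Z).act ≫ (G ◁ p) ≫ A.act.act = (G ◁ ((G ◁ p) ≫ A.act.act)) ≫ A.act.act
    rw [MonoidalCategory.whiskerLeft_comp, Category.assoc, hm, reassoc_of% h]
  cart := (AlgSt.isPullback_whiskerLeft (G := G) p).paste_horiz A.cart
  wφ := by
    change ((G ◁ p) ≫ A.act.act) ≫ A.φ = (G ◁ (p ≫ A.φ)) ≫ aX.act
    rw [Category.assoc, A.eqv, MonoidalCategory.whiskerLeft_comp, Category.assoc]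

@[simp] theorem ptHom_base (A : AlgSt.QuotObj K G aX) {Z : Over S} (p : Z ⟶ A.P) :
    (ptHom A p).base = p ≫ A.π := rfl

theorem ptHom_top (A : AlgSt.QuotObj K G aX) {Z : Over S} (p : Z ⟶ A.P) :
    (ptHom A p).top = (G ◁ p) ≫ A.act.act := rfl

theorem unitSec_ptHom_top (A : AlgSt.QuotObj K G aX) {Z : Over S} (p : Z ⟶ A.P) :
    unitSec Z ≫ (ptHom A p).top = p := unitSec_act A.act p

/-- A morphism out of a trivial torsor is determined by its value at the unit section. -/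
theorem top_eq_of_triv {A : AlgSt.QuotObj K G aX} {Z : Over S} {x : Z ⟶ X}
    (σ : (AlgSt.quotMap K G aX).obj ⟨Z, ⟨x⟩⟩ ⟶ A) :
    σ.top = (G ◁ (unitSec Z ≫ σ.top)) ≫ A.act.act := by
  have h1 : (AlgSt.leftMul G Z).act ≫ σ.top = (G ◁ σ.top) ≫ A.act.act := σ.eqv
  rw [MonoidalCategory.whiskerLeft_comp, Category.assoc, ← h1, ← Category.assoc,
    whisker_unitSec_leftMul, Category.id_comp]

theorem base_eq_of_triv {A : AlgSt.QuotObj K G aX} {Z : Over S} {x : Z ⟶ X}
    (σ : (AlgSt.quotMap K G aX).obj ⟨Z, ⟨x⟩⟩ ⟶ A) :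
    σ.base = unitSec Z ≫ σ.top ≫ A.π := by
  have h1 : σ.top ≫ A.π = snd G Z ≫ σ.base := σ.cart.w
  rw [h1, ← Category.assoc, unitSec_snd, Category.id_comp]

theorem hom_ext_triv {A : AlgSt.QuotObj K G aX} {Z : Over S} {x : Z ⟶ X}
    (σ σ' : (AlgSt.quotMap K G aX).obj ⟨Z, ⟨x⟩⟩ ⟶ A)
    (h : unitSec Z ≫ σ.top = unitSec Z ≫ σ'.top) : σ = σ' := by
  have ht : σ.top = σ'.top := by rw [top_eq_of_triv σ, top_eq_of_triv σ', h]
  apply AlgSt.QuotObj.hom_ext
  · rw [base_eq_of_triv σ, base_eq_of_triv σ', ht]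
  · exact ht

theorem unitSec_top_φ {A : AlgSt.QuotObj K G aX} {Z : Over S} {x : Z ⟶ X}
    (σ : (AlgSt.quotMap K G aX).obj ⟨Z, ⟨x⟩⟩ ⟶ A) : (unitSec Z ≫ σ.top) ≫ A.φ = x := by
  have h1 : σ.top ≫ A.φ = (G ◁ x) ≫ aX.act := σ.wφ
  rw [Category.assoc, h1, unitSec_act]

/-- `quotMap` on morphisms followed by `ptHom` is `ptHom`. -/
theorem quotMap_map_ptHom (A : AlgSt.QuotObj K G aX) {Z Z' : Over S} (p : Z ⟶ A.P) (g : Z' ⟶ Z)
    (m : (⟨Z', ⟨(g ≫ p) ≫ A.φ⟩⟩ : (AlgSt.ofSch X).obj) ⟶ ⟨Z, ⟨p ≫ A.φ⟩⟩) (hm : m.hom = g) :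
    (AlgSt.quotMap K G aX).map m ≫ ptHom A p = ptHom A (g ≫ p) := by
  apply AlgSt.QuotObj.hom_ext
  · change m.hom ≫ p ≫ A.π = (g ≫ p) ≫ A.π
    rw [hm]
    simp only [Category.assoc]
  · change (G ◁ m.hom) ≫ (G ◁ p) ≫ A.act.act = (G ◁ (g ≫ p)) ≫ A.act.act
    rw [hm, MonoidalCategory.whiskerLeft_comp]
    simp only [Category.assoc]

end Triv

end Groth.Agent.Lib.Helper27.QuotStk
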