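import Groth.Agent.Lib.Helper27.QuotStk1
import Groth.Agent.Lib.Helper27.FpKit

/-!
# Quotient stacks `[X/G]`: the chart `X ⟶ [X/G]` is represented by the torsor (helper27)
-/

set_option autoImplicit false
set_option backward.isDefEq.respectTransparency false
set_option backward.isDefEq.respectTransparency.types false

universe u

open CategoryTheory CategoryTheory.Limits MonoidalCategory CartesianMonoidalCategory AlgebraicGeometry
  Opposite MonObj GrpObj FibCat

namespace Groth.Agent.Lib.Helper27.QuotStk

open Groth.Agent.Lib.Helper27.FpKit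

variable {S : Scheme.{u}} {K : Precoverage Scheme.{u}} [K.HasIsos] {G : Over S} [GrpObj G]
  {X : Over S} {aX : AlgGrp.Action G X} {U : Over S}
  (y : overCat U ⥤ᵇ AlgSt.QuotSt K G aX)

/-- The chart of `[X/G]`. -/
noncomputable abbrev chart (K : Precoverage Scheme.{u}) [K.HasIsos] (aX : AlgGrp.Action G X) :
    overCat X ⥤ᵇ AlgSt.QuotSt K G aX :=
  BasedFunctor.comp (AlgSt.ofOverCat X) (AlgSt.quotMap K G aX)

theorem base_obj (v : Over U) : (y.obj v).base = v.left := y.w_obj v

theorem map_base {v' v : Over U} (g : v' ⟶ v) :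
    (y.map g).base = eqToHom (base_obj y v') ≫ g.left ≫ eqToHom (base_obj y v).symm := by
  have h := Functor.congr_hom y.w g
  exact h

/-- The torsor classified by `y`. -/
noncomputable def tor : AlgSt.QuotObj K G aX := y.obj (Over.mk (𝟙 U))

theorem tor_base : (tor y).base = U := base_obj y _

/-- The structure map of the torsor to `U`. -/
noncomputable def πU : (tor y).P ⟶ U := (tor y).π ≫ eqToHom (tor_base y)

/-- The canonical morphism to the torsor. -/
noncomputable def toTor (v : Over U) : y.obj v ⟶ tor y :=
  y.map (Over.homMk v.hom (Category.comp_id _) : v ⟶ Over.mk (𝟙 U))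

theorem toTor_base (v : Over U) :
    (toTor y v).base = eqToHom (base_obj y v) ≫ v.hom ≫ eqToHom (tor_base y).symm := by
  unfold toTor
  rw [map_base]
  rfl

theorem map_toTor {v' v : Over U} (g : v' ⟶ v) : y.map g ≫ toTor y v = toTor y v' := by
  unfold toTor
  rw [← y.map_comp]
  congr 1
  apply Over.OverMorphism.ext
  change g.left ≫ v.hom = v'.hom
  exact Over.w g

variable {Z : Over S} (p : Z ⟶ (tor y).P)

/-- The object of `(Sch/U)` of a point of the torsor. -/
noncomputable def vOf : Over U := Over.mk (p ≫ πU y)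

theorem eps_aux : (toTor y (vOf y p)).base =
    eqToHom (base_obj y (vOf y p)) ≫ (ptHom (tor y) p).base := by
  rw [toTor_base, ptHom_base]
  unfold vOf πU
  simp

/-- The comparison isomorphism at a point of the torsor. -/
noncomputable def eps : y.obj (vOf y p) ⟶ (chart K aX).obj (Over.mk (p ≫ (tor y).φ)) :=
  liftHom (ptHom (tor y) p) (toTor y (vOf y p)) (eqToHom (base_obj y (vOf y p))) (eps_aux y p)

theorem eps_fac : eps y p ≫ ptHom (tor y) p = toTor y (vOf y p) := liftHom_fac _ _ _ _

theorem eps_base : (eps y p).base = eqToHom (base_obj y (vOf y p)) := rfl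

instance isIso_eps : IsIso (eps y p) := by
  have : IsIso (eps y p).base := by rw [eps_base]; infer_instance
  exact Groth.Agent.Lib.Helper27.QuotCat.isIso_of_isIso_base _

theorem vert_eps : Vert (eps y p) := by
  apply IsHomLift.of_fac' _ _ _ rfl (base_obj y (vOf y p)).symm
  change (eps y p).base = _
  rw [eps_base]
  simp


theorem chart_map_base {x' x : Over X} (β : x' ⟶ x) : ((chart K aX).map β).base = β.left := rfl

theorem chart_map_top {x' x : Over X} (β : x' ⟶ x) : ((chart K aX).map β).top = G ◁ β.left := rfl

/-- Naturality of the comparison isomorphism. -/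
theorem eps_nat {Z' : Over S} (g : Z' ⟶ Z) (p' : Z' ⟶ (tor y).P) (hp : g ≫ p = p')
    (α : vOf y p' ⟶ vOf y p) (hα : α.left = g)
    (β : (Over.mk (p' ≫ (tor y).φ) : Over X) ⟶ Over.mk (p ≫ (tor y).φ)) (hβ : β.left = g) :
    y.map α ≫ eps y p = eps y p' ≫ (chart K aX).map β := by
  subst hp
  apply hom_ext_of_comp (ptHom (tor y) p)
  · change (y.map α).base ≫ (eps y p).base = (eps y (g ≫ p)).base ≫ ((chart K aX).map β).base
    rw [map_base, eps_base, eps_base, chart_map_base, hα, hβ]
    simp
  · rw [Category.assoc, eps_fac, map_toTor, Category.assoc]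
    have h1 : (chart K aX).map β ≫ ptHom (tor y) p = ptHom (tor y) (g ≫ p) :=
      quotMap_map_ptHom (tor y) p g ((AlgSt.ofOverCat X).map β) hβ
    rw [h1, eps_fac]


section Functor

/-- Object part of the comparison functor. -/
noncomputable def EObj (z : (AlgSt.ofSch (tor y).P).obj) : (fp y (chart K aX)).obj :=
  mkObj (vOf y z.sec.down) (Over.mk (z.sec.down ≫ (tor y).φ)) (asIso (eps y z.sec.down))
    (vert_eps y z.sec.down)

theorem hom_sec {z' z : (AlgSt.ofSch (tor y).P).obj} (m : z' ⟶ z) :
    m.hom ≫ z.sec.down = z'.sec.down := congrArg ULift.down m.map_sec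

/-- Morphism part of the comparison functor. -/
noncomputable def EMap {z' z : (AlgSt.ofSch (tor y).P).obj} (m : z' ⟶ z) : EObj y z' ⟶ EObj y z :=
  mkHom (F := y) (G := chart K aX) (t := EObj y z') (t' := EObj y z)
    (Over.homMk m.hom (by
      change m.hom ≫ z.sec.down ≫ πU y = z'.sec.down ≫ πU y
      rw [← Category.assoc, hom_sec]))
    (Over.homMk m.hom (by
      change m.hom ≫ z.sec.down ≫ (tor y).φ = z'.sec.down ≫ (tor y).φ
      rw [← Category.assoc, hom_sec]))
    (eps_nat y z.sec.down m.hom z'.sec.down (hom_sec y m) _ rfl _ rfl)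

/-- The comparison functor from the torsor to the fibre product. -/
noncomputable def E : AlgSt.ofSch (tor y).P ⥤ᵇ fp y (chart K aX) where
  toFunctor :=
    { obj := EObj y
      map := fun m => EMap y m
      map_id := fun z => by
        apply Groth.Agent.Lib.Helper27.StackFp.hom_ext'
        · apply Over.OverMorphism.ext; rfl
        · apply Over.OverMorphism.ext; rfl
      map_comp := fun m m' => by
        apply Groth.Agent.Lib.Helper27.StackFp.hom_ext'
        · apply Over.OverMorphism.ext; rfl
        · apply Over.OverMorphism.ext; rfl }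
  w := rfl

end Functor

end Groth.Agent.Lib.Helper27.QuotStk
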