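import Groth.Agent.Lib.Helper27.QuotStk2

/-!
# Quotient stacks `[X/G]`: the comparison functor is an equivalence (helper27)
-/

set_option autoImplicit false
set_option backward.isDefEq.respectTransparency false
set_option backward.isDefEq.respectTransparency.types false

universe u

open CategoryTheory CategoryTheory.Limits MonoidalCategory CartesianMonoidalCategory AlgebraicGeometry
  Opposite MonObj GrpObj FibCat

namespace Groth.Agent.Lib.Helper27.QuotStk

open Groth.Agent.Lib.Helper27.FpKit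

variable {S : Scheme.{u}} {K : Precoverage Scheme.{u}} [K.HasIsos] {G : Over S} [GrpObj G]
  {X : Over S} {aX : AlgGrp.Action G X} {U : Over S}
  (y : overCat U ⥤ᵇ AlgSt.QuotSt K G aX)

theorem faithful_E : (E y).toFunctor.Faithful where
  map_injective := by
    intro z' z m m' h
    have h1 : ((E y).toFunctor.map m).hom.fst = ((E y).toFunctor.map m').hom.fst := by rw [h]
    have h2 : m.hom = m'.hom := congrArg CommaMorphism.left h1
    exact Stk.EltObj.hom_ext h2

/-- The base of a vertical morphism of `[X/G]` is an `eqToHom`. -/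
theorem base_of_vert {A B : AlgSt.QuotObj K G aX} {φ : A ⟶ B}
    (h : Vert (𝒳 := AlgSt.QuotSt K G aX) φ) :
    φ.base = eqToHom (show A.base = B.base from (h.cod_eq).symm) := by
  have h1 : (AlgSt.QuotSt K G aX).p.IsHomLift (𝟙 A.base) φ := h
  have h2 := IsHomLift.fac' (AlgSt.QuotSt K G aX).p (𝟙 A.base) φ
  change φ.base = _ at h2
  rw [h2]
  simp

theorem full_E : (E y).toFunctor.Full where
  map_surjective := by
    intro z' z Φ
    obtain ⟨Z', ⟨p'⟩⟩ := z'
    obtain ⟨Z, ⟨p⟩⟩ := z
    let α : vOf y p' ⟶ vOf y p := Φ.hom.fst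
    let β : (Over.mk (p' ≫ (tor y).φ) : Over X) ⟶ Over.mk (p ≫ (tor y).φ) := Φ.hom.snd
    have hw : y.map α ≫ eps y p = eps y p' ≫ (chart K aX).map β := Φ.hom.w
    have hb := congrArg AlgSt.QuotObj.Hom.base hw
    have hαβ : α.left = β.left := by
      change (y.map α).base ≫ (eps y p).base = (eps y p').base ≫ ((chart K aX).map β).base at hb
      rw [map_base, eps_base, eps_base, chart_map_base] at hb
      simp only [Category.assoc, eqToHom_trans, eqToHom_refl, Category.comp_id] at hb
      exact (cancel_epi _).1 hb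
    have h1 : (chart K aX).map β ≫ ptHom (tor y) p = ptHom (tor y) p' := by
      rw [← cancel_epi (eps y p'), eps_fac, ← Category.assoc, ← hw, Category.assoc, eps_fac,
        map_toTor]
    have h2 : β.left ≫ p = p' := by
      have h3 := congrArg (fun σ => unitSec Z' ≫ AlgSt.QuotObj.Hom.top σ) h1
      change unitSec Z' ≫ (G ◁ β.left) ≫ (G ◁ p) ≫ (tor y).act.act =
        unitSec Z' ≫ (ptHom (tor y) p').top at h3
      rw [unitSec_ptHom_top, ← MonoidalCategory.whiskerLeft_comp_assoc, unitSec_act] at h3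
      exact h3
    refine ⟨⟨β.left, ULift.ext _ _ h2⟩, ?_⟩
    apply Groth.Agent.Lib.Helper27.StackFp.hom_ext'
    · apply Over.OverMorphism.ext
      exact hαβ.symm
    · apply Over.OverMorphism.ext
      rfl


theorem ess_E (t : (fp y (chart K aX)).obj) :
    ∃ (z : (AlgSt.ofSch (tor y).P).obj) (ε : (E y).toFunctor.obj z ≅ t), Vert ε.hom := by
  obtain ⟨v, hv⟩ : ∃ v : Over U, v = t.obj.fst := ⟨_, rfl⟩
  obtain ⟨x, hx⟩ : ∃ x : Over X, x = t.obj.snd := ⟨_, rfl⟩
  obtain ⟨io, hio⟩ : ∃ io : y.obj v ≅ (chart K aX).obj x, io = eqToIso (by rw [hv]) ≪≫ t.obj.iso ≪≫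
    eqToIso (by rw [hx]) := ⟨_, rfl⟩
  have hvert : Vert (𝒳 := AlgSt.QuotSt K G aX) io.hom := by
    subst hv hx
    rw [hio]
    simpa using vert_iso t
  have hvinv : Vert (𝒳 := AlgSt.QuotSt K G aX) io.inv := hvert.inv
  have hbase : x.left = v.left := hvert.cod_eq.trans (base_obj y v)
  let σ : (chart K aX).obj x ⟶ tor y := io.inv ≫ toTor y v
  let p : x.left ⟶ (tor y).P := unitSec x.left ≫ σ.top
  have hpφ : p ≫ (tor y).φ = x.hom := unitSec_top_φ σ
  have hσb : σ.base = eqToHom hbase ≫ v.hom ≫ eqToHom (tor_base y).symm := by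
    change io.inv.base ≫ (toTor y v).base = _
    rw [base_of_vert hvinv, toTor_base]
    simp
  have hpπ : p ≫ πU y = eqToHom hbase ≫ v.hom := by
    have h1 := base_eq_of_triv σ
    unfold πU
    change unitSec x.left ≫ σ.top ≫ (tor y).π ≫ eqToHom _ = _
    rw [← Category.assoc, ← Category.assoc, Category.assoc (unitSec x.left), ← h1, hσb]
    simp
  let a : vOf y p ≅ v := Over.isoMk (eqToIso hbase) (by
    change eqToHom hbase ≫ v.hom = p ≫ πU y
    exact hpπ.symm)
  let b : (Over.mk (p ≫ (tor y).φ) : Over X) ≅ x := Over.isoMk (Iso.refl _) (by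
    change 𝟙 _ ≫ x.hom = p ≫ (tor y).φ
    rw [hpφ, Category.id_comp])
  have hσ : (chart K aX).map b.hom ≫ σ = ptHom (tor y) p := by
    apply hom_ext_triv
    rw [unitSec_ptHom_top]
    change unitSec x.left ≫ (G ◁ 𝟙 _) ≫ σ.top = p
    rw [MonoidalCategory.whiskerLeft_id, Category.id_comp]
  have w : y.map a.hom ≫ io.hom = eps y p ≫ (chart K aX).map b.hom := by
    apply hom_ext_of_comp σ
    · change (y.map a.hom).base ≫ io.hom.base = (eps y p).base ≫ ((chart K aX).map b.hom).base
      rw [map_base, eps_base, chart_map_base, base_of_vert hvert]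
      change (eqToHom _ ≫ eqToHom hbase ≫ eqToHom _) ≫ eqToHom _ = eqToHom _ ≫ 𝟙 _
      simp
    · rw [Category.assoc, Category.assoc, hσ, eps_fac]
      change y.map a.hom ≫ io.hom ≫ io.inv ≫ toTor y v = _
      rw [Iso.hom_inv_id_assoc, map_toTor]
  subst hv hx
  have w' : y.map a.hom ≫ t.obj.iso.hom = eps y p ≫ (chart K aX).map b.hom := by
    rw [← w, hio]
    simp
  refine ⟨⟨t.obj.snd.left, ⟨p⟩⟩, mkIso (F := y) (G := chart K aX)
    (t := EObj y ⟨t.obj.snd.left, ⟨p⟩⟩) (t' := t) a b w', ?_⟩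
  apply IsHomLift.of_fac' _ _ _ rfl hbase.symm
  change a.hom.left = _
  change eqToHom hbase = _
  simp

theorem isEquivOver_E : IsEquivOver (E y) :=
  isEquivOver_of_ess (E y) (full_E y) (faithful_E y) (ess_E y)

end Groth.Agent.Lib.Helper27.QuotStk
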