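import Groth.Agent.Lib.Helper27.QuotStk3
import Groth.Agent.Lib.Helper3.FppfLocal2
import Groth.Agent.Lib.Helper3.AlgSpQC4
import Groth.Agent.Lib.Helper3.AlgSpLocP5

/-!
# Quotient stacks `[X/G]`: geometry of torsors, representability of the chart (helper27)
-/

set_option autoImplicit false
set_option backward.isDefEq.respectTransparency false
set_option backward.isDefEq.respectTransparency.types false

universe u

open CategoryTheory CategoryTheory.Limits MonoidalCategory CartesianMonoidalCategory AlgebraicGeometry
  Opposite MonObj GrpObj FibCat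

namespace Groth.Agent.Lib.Helper27.QuotStk

open Groth.Agent.Lib.Helper27.FpKit

variable {S : Scheme.{u}} {K : Precoverage Scheme.{u}} [K.HasIsos] {G : Over S} [GrpObj G]
  {X : Over S} {aX : AlgGrp.Action G X}

theorem etale_le_fppf : Scheme.etalePrecoverage.{u} ≤ Scheme.fppfPrecoverage.{u} :=
  Scheme.precoverage_mono fun _ _ _ _ ↦ ⟨inferInstance, inferInstance⟩

theorem toUnit_left (Y : Over S) : (toUnit Y).left = Y.hom := by
  have := Over.w (toUnit Y)
  simpa using this

/-- The projection of a trivial torsor inherits base-change-stable properties of `G ⟶ S`. -/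
theorem prop_snd (P : MorphismProperty Scheme.{u}) [P.IsStableUnderBaseChange] (hG : P G.hom)
    (Z : Over S) : P (snd G Z).left := by
  have h1 := (AlgSt.isPullback_fst_snd G Z).map (Over.forget S)
  change IsPullback (fst G Z).left (snd G Z).left (toUnit G).left (toUnit Z).left at h1
  rw [toUnit_left, toUnit_left] at h1
  exact MorphismProperty.of_isPullback h1 hG

/-- The structure morphism of a torsor inherits fppf-local properties of `G ⟶ S`. -/
theorem prop_π (hK : K ≤ Scheme.fppfPrecoverage) (P : MorphismProperty Scheme.{u})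
    [P.IsStableUnderBaseChange] [P.IsLocalAtTarget Scheme.fppfPrecoverage.{u}] (hG : P G.hom)
    (A : AlgSt.QuotObj K G aX) : P A.π.left := by
  obtain ⟨R, hR, hsec⟩ := A.loc
  refine MorphismProperty.IsLocalAtTarget.of_forall_pullbackSnd (K := Scheme.fppfPrecoverage.{u})
    (hK _ hR) ?_
  intro T' g _ hg
  obtain ⟨s, hs⟩ := hsec g hg
  change s ≫ A.π.left = g at hs
  let Z : Over S := Over.mk (g ≫ A.base.hom)
  let p : Z ⟶ A.P := Over.homMk s (by
    change s ≫ A.P.hom = g ≫ A.base.hom
    rw [← hs, Category.assoc, Over.w A.π])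
  have h1 := (ptHom A p).cart.map (Over.forget S)
  change IsPullback (ptHom A p).top.left (snd G Z).left A.π.left (p ≫ A.π).left at h1
  have h2 : (p ≫ A.π).left = g := hs
  rw [h2] at h1
  have h3 : pullback.snd A.π.left g = h1.isoPullback.inv ≫ (snd G Z).left := by
    rw [Iso.eq_inv_comp, IsPullback.isoPullback_hom_snd]
  rw [h3]
  exact (MorphismProperty.cancel_left_of_respectsIso P _ _).2 (prop_snd P hG Z)

theorem surjective_hom : Surjective G.hom := by
  have h1 : (η[G] : 𝟙_ (Over S) ⟶ G).left ≫ G.hom = 𝟙 S := by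
    have := Over.w (η[G] : 𝟙_ (Over S) ⟶ G)
    simpa using this
  refine ⟨fun s => ⟨(η[G] : 𝟙_ (Over S) ⟶ G).left s, ?_⟩⟩
  rw [← Scheme.Hom.comp_apply, h1]
  rfl

/-- The structure morphism of a torsor is surjective. -/
theorem surjective_π (hK : K ≤ Scheme.fppfPrecoverage) (A : AlgSt.QuotObj K G aX) :
    Surjective A.π.left :=
  haveI := Groth.Agent.Lib.Helper3.isLocalAtTarget_fppf_surjective.{u}
  prop_π hK @Surjective surjective_hom A

end Groth.Agent.Lib.Helper27.QuotStk
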