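import Groth.Agent.Lib.Helper27.QuotStk4

/-!
# Quotient stacks `[X/G]`: the chart is representable with the properties of `G ⟶ S` (helper27)
-/

set_option autoImplicit false
set_option backward.isDefEq.respectTransparency false
set_option backward.isDefEq.respectTransparency.types false

universe u

open CategoryTheory CategoryTheory.Limits MonoidalCategory CartesianMonoidalCategory AlgebraicGeometry
  Opposite MonObj GrpObj FibCat

namespace Groth.Agent.Lib.Helper27.QuotStk

open Groth.Agent.Lib.Helper27.FpKit Groth.Agent.Lib.Helper3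

variable {S : Scheme.{u}} {K : Precoverage Scheme.{u}} [K.HasIsos] {G : Over S} [GrpObj G]
  {X : Over S} {aX : AlgGrp.Action G X}

theorem spMapOfOver_E {U : Over S} (y : overCat U ⥤ᵇ AlgSt.QuotSt K G aX) :
    AlgSt.spMapOfOver (BasedFunctor.comp (E y) (fpFst y (chart K aX))) =
      (AlgSp.yon S).map (πU y) := by
  apply ObjectProperty.hom_ext
  apply NatTrans.ext
  funext T
  ext z
  obtain ⟨T⟩ := T
  change (⟨AlgSt.secHom _ ⟨T, z⟩⟩ : ULift _) = _
  apply ULift.ext
  unfold AlgSt.secHom
  rw [eqToHom_refl, Category.id_comp]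
  rfl

/-- The chart `X ⟶ [X/G]` is representable, with any property that holds for the structure maps of
all torsors. -/
theorem repByAlgSpWith_chart (Pm : MorphismProperty (AlgSp.Sp S))
    (h : ∀ (U : Over S) (y : overCat U ⥤ᵇ AlgSt.QuotSt K G aX), Pm ((AlgSp.yon S).map (πU y))) :
    AlgSt.RepByAlgSpWith Pm (chart K aX) := by
  intro U y
  refine ⟨⟨(AlgSp.yon S).obj (tor y).P, AlgSp.IsAlgSpace.yon_obj _⟩, E y, isEquivOver_E y, ?_⟩
  rw [spMapOfOver_E]
  exact h U y

theorem πU_left {U : Over S} (y : overCat U ⥤ᵇ AlgSt.QuotSt K G aX) :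
    (πU y).left = (tor y).π.left ≫ (eqToHom (tor_base y)).left := rfl

/-- Scheme-level properties of `G ⟶ S` that are fppf local on the target pass to `πU`. -/
theorem prop_πU (hK : K ≤ Scheme.fppfPrecoverage) (P : MorphismProperty Scheme.{u})
    [P.IsStableUnderBaseChange] [P.IsLocalAtTarget Scheme.fppfPrecoverage.{u}] (hG : P G.hom)
    {U : Over S} (y : overCat U ⥤ᵇ AlgSt.QuotSt K G aX) : P (πU y).left := by
  rw [πU_left]
  have : IsIso (eqToHom (tor_base y)).left := by
    rw [← Over.forget_map]; infer_instance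
  exact (MorphismProperty.cancel_right_of_respectsIso P _ _).2 (prop_π hK P hG (tor y))

theorem repByAlgSpWith_chart_locP (hK : K ≤ Scheme.fppfPrecoverage)
    (P : MorphismProperty Scheme.{u}) [P.IsStableUnderBaseChange]
    [P.IsLocalAtTarget Scheme.fppfPrecoverage.{u}] (hP : IsEtLocal P) (hG : P G.hom) :
    AlgSt.RepByAlgSpWith (AlgSp.LocP P) (chart K aX) := by
  apply repByAlgSpWith_chart
  intro U y
  exact locP_of_repWith hP _ ((AlgSp.repWith_yon_map_iff _ (πU y)).2 (prop_πU hK P hG y))

theorem repByAlgSpWith_chart_surjective (hK : K ≤ Scheme.fppfPrecoverage) :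
    AlgSt.RepByAlgSpWith AlgSp.IsSurjectiveMor (chart K aX) := by
  apply repByAlgSpWith_chart
  intro U y
  apply isSurjectiveMor_of_repWith
  rw [AlgSp.repWith_yon_map_iff]
  haveI := Groth.Agent.Lib.Helper3.isLocalAtTarget_fppf_surjective.{u}
  exact prop_πU hK @Surjective surjective_hom y

end Groth.Agent.Lib.Helper27.QuotStk
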