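/-
# The essential image of a monomorphism from a one-point stack is the residual gerbe (helper27)
-/
import Groth.Agent.Lib.Helper27.AlgStackEquiv
import Groth.Agent.Lib.Helper27.OpenSub
import Groth.Agent.Lib.Helper27.MonoFull
import Groth.Agent.Lib.Helper27.LocQOver
import Groth.Agent.Lib.Helper27.StPoints
import Groth.Agent.Lib.Helper27.PointsKit

set_option autoImplicit false
set_option backward.isDefEq.respectTransparency false
set_option backward.isDefEq.respectTransparency.types false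

universe u

open CategoryTheory CategoryTheory.Limits AlgebraicGeometry Opposite FibCat
  Groth.Agent.Lib.Helper27.FpKit Groth.Agent.Lib.Helper27.StPoints
  Groth.Agent.Lib.Helper16.FpFibGrpd

namespace Groth.Agent.Lib.Helper27.ResGerbeImage

variable {S : Scheme.{u}}

local infixr:80 " ⊚ " => BasedFunctor.comp

/-- The essential image of a functor. -/
def EssIm {𝒳 𝒵 : AlgSt.Cat S} (f : 𝒵 ⥤ᵇ 𝒳) : 𝒳.obj → Prop :=
  fun ξ => ∃ ζ : 𝒵.obj, Nonempty (f.obj ζ ≅ ξ)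

theorem essIm_closed {𝒳 𝒵 : AlgSt.Cat S} (f : 𝒵 ⥤ᵇ 𝒳) :
    ObjectProperty.IsClosedUnderIsomorphisms (EssIm f) :=
  ⟨fun e ⟨ζ, ⟨i⟩⟩ => ⟨ζ, ⟨i ≪≫ e⟩⟩⟩

/-- The functor to the essential image. -/
def toEssIm {𝒳 𝒵 : AlgSt.Cat S} (f : 𝒵 ⥤ᵇ 𝒳) : 𝒵 ⥤ᵇ AlgSt.fullSub 𝒳 (EssIm f) :=
  Groth.Agent.Lib.Helper27.OpenSub.liftSub (EssIm f) f (fun ζ => ⟨ζ, ⟨Iso.refl _⟩⟩)

theorem isEquivOver_toEssIm {𝒳 𝒵 : AlgSt.Cat S} (h𝒵 : FibCat.IsFibGrpd 𝒵.p)
    (f : 𝒵 ⥤ᵇ 𝒳)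
    (hf₁ : f.toFunctor.Full) (hf₂ : f.toFunctor.Faithful) : IsEquivOver (toEssIm f) := by
  apply isEquivOver_of_ess
  · constructor
    intro a b m
    obtain ⟨m', hm'⟩ := f.toFunctor.map_surjective (X := a) (Y := b) m.hom
    exact ⟨m', ObjectProperty.hom_ext _ hm'⟩
  · constructor
    intro a b m m' h
    apply f.toFunctor.map_injective
    exact congrArg (fun k => k.hom) h
  · rintro ⟨ξ, ζ, ⟨i⟩⟩
    -- make the isomorphism vertical
    have hφ : IsIso (𝒳.p.map i.inv) := inferInstance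
    obtain ⟨ζ', a, ha⟩ := FibGrpd.exists_lift' 𝒵.p h𝒵 (x := ζ) (f.w_obj ζ).symm (𝒳.p.map i.inv)
    have haiso : IsIso a := FibGrpd.isIso_of_base_isIso 𝒵.p h𝒵 (𝒳.p.map i.inv) a
    have h1 : 𝒳.p.IsHomLift (𝒳.p.map i.inv) (f.toFunctor.map a) :=
      BasedFunctor.preserves_isHomLift f _ a
    have h2 : 𝒳.p.IsHomLift (𝒳.p.map i.hom) i.hom := IsHomLift.map 𝒳.p i.hom
    have h3 : 𝒳.p.IsHomLift (𝒳.p.map i.inv ≫ 𝒳.p.map i.hom) (f.toFunctor.map a ≫ i.hom) :=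
      inferInstance
    have h4 : 𝒳.p.map i.inv ≫ 𝒳.p.map i.hom = 𝟙 _ := by
      rw [← 𝒳.p.map_comp, Iso.inv_hom_id, 𝒳.p.map_id]
    rw [h4] at h3
    let j : f.obj ζ' ≅ ξ := (asIso (f.toFunctor.map a)) ≪≫ i
    refine ⟨ζ', ⟨ObjectProperty.homMk j.hom, ObjectProperty.homMk j.inv, ?_, ?_⟩, ?_⟩
    · apply ObjectProperty.hom_ext
      exact j.hom_inv_id
    · apply ObjectProperty.hom_ext
      exact j.inv_hom_id
    · apply Vert.of_lift (𝒳 := AlgSt.fullSub 𝒳 (EssIm f)) (U := 𝒳.p.obj ξ)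
      rw [← BasedFunctor.isHomLift_iff (AlgSt.subIncl 𝒳 (EssIm f))]
      exact h3

/-- Smooth local properties transfer along equivalences. -/
theorem smoothLocally_of_equiv {𝒵 𝒵' : AlgSt.Cat S} (P : Scheme.{u} → Prop) (E : 𝒵 ⥤ᵇ 𝒵')
    (hE : IsEquivOver E) (h : AlgSt.SmoothLocally P 𝒵) : AlgSt.SmoothLocally P 𝒵' := by
  intro U x' hx'
  obtain ⟨E', hE', -, -⟩ := exists_inverse E hE
  exact h U (x' ⊚ E')
    (Groth.Agent.Lib.Helper27.LocQOver.repByAlgSpWith_comp_equiv _ x' E' hE' hx')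

/-- The essential image of a fully faithful functor from a reduced, locally Noetherian algebraic
stack with one point is the residual gerbe of the image point. -/
theorem isResGerbe_essIm {𝒳 𝒵 : AlgSt.Cat S} (x : AlgSt.Points 𝒳)
    (h𝒵 : AlgSt.IsAlgStack Scheme.fppfPrecoverage 𝒵)
    (hred : AlgSt.SmoothLocally (fun T => IsReduced T) 𝒵)
    (hnoeth : AlgSt.SmoothLocally (fun T => IsLocallyNoetherian T) 𝒵)
    (hne : Nonempty (AlgSt.Points 𝒵)) (hsub : Subsingleton (AlgSt.Points 𝒵))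
    (f : 𝒵 ⥤ᵇ 𝒳) (hf₁ : f.toFunctor.Full) (hf₂ : f.toFunctor.Faithful)
    (hfx : ∀ p : AlgSt.Points 𝒵, AlgSt.Points.map f p = x) :
    Gerb.IsResGerbe Scheme.fppfPrecoverage 𝒳 x (EssIm f) := by
  have hE := isEquivOver_toEssIm h𝒵.isStack.1 f hf₁ hf₂
  have hbij := map_bijective_of_equiv (toEssIm f) hE
  refine ⟨essIm_closed f,
    Groth.Agent.Lib.Helper27.AlgStackEquiv.isAlgStack_of_equiv _ (toEssIm f) hE h𝒵,
    smoothLocally_of_equiv _ (toEssIm f) hE hred, smoothLocally_of_equiv _ (toEssIm f) hE hnoeth,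
    ?_, ?_, ?_⟩
  · obtain ⟨ζ⟩ := hne
    exact ⟨AlgSt.Points.map (toEssIm f) ζ⟩
  · refine ⟨fun a b => ?_⟩
    obtain ⟨a', rfl⟩ := hbij.2 a
    obtain ⟨b', rfl⟩ := hbij.2 b
    rw [Subsingleton.elim a' b']
  · intro z
    obtain ⟨z', rfl⟩ := hbij.2 z
    rw [← Groth.Agent.Lib.Helper27.PointsKit.map_comp]
    exact hfx z'

end Groth.Agent.Lib.Helper27.ResGerbeImage
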