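/-
# Residual gerbes are functorial (helper27)
-/
import Groth.Agent.Lib.Helper27.FFField
import Groth.Agent.Lib.Helper27.FieldPt2
import Groth.Agent.Lib.Helper27.PointsKit
import Groth.Agent.Lib.Helper27.OpenSub

set_option autoImplicit false
set_option backward.isDefEq.respectTransparency false
set_option backward.isDefEq.respectTransparency.types false

universe u

open CategoryTheory CategoryTheory.Limits AlgebraicGeometry Opposite FibCat
  Groth.Agent.Lib.Helper27.FpKit Groth.Agent.Lib.Helper27.StPoints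

namespace Groth.Agent.Lib.Helper27.ResGerbeMap

variable {S : Scheme.{u}}

local infixr:80 " ⊚ " => BasedFunctor.comp

/-- A reduced, locally Noetherian algebraic stack with exactly one point receives a flat, locally
finitely presented, surjective morphism from the spectrum of a field. -/
theorem exists_fppf_fieldPt {𝒵 : AlgSt.Cat S} (h𝒵 : AlgSt.IsAlgStack Scheme.fppfPrecoverage 𝒵)
    (hred : AlgSt.SmoothLocally (fun T => IsReduced T) 𝒵)
    (hnoeth : AlgSt.SmoothLocally (fun T => IsLocallyNoetherian T) 𝒵)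
    (hne : Nonempty (AlgSt.Points 𝒵)) (hsub : Subsingleton (AlgSt.Points 𝒵)) :
    ∃ (k : Type u) (_ : Field k) (a : Spec (CommRingCat.of k) ⟶ S)
      (z : overCat (Over.mk a) ⥤ᵇ 𝒵),
      AlgSt.RepByAlgSpWith (AlgSp.LocP @LocallyOfFinitePresentation) z ∧
      AlgSt.RepByAlgSpWith AlgSp.IsSurjectiveMor z ∧
      AlgSt.RepByAlgSpWith (AlgSp.LocP @Flat) z := by
  obtain ⟨k₁, _, a₁, z₁, hs, hf⟩ :=
    Groth.Agent.Lib.Helper27.FieldPt.exists_flat_fieldPt h𝒵 hred hne hsub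
  have : Subsingleton (Over.mk a₁).left := inferInstanceAs (Subsingleton (PrimeSpectrum k₁))
  have : IsIntegral (Over.mk a₁).left := inferInstanceAs (IsIntegral (Spec (CommRingCat.of k₁)))
  obtain ⟨k, i, a, z, -, hp, hs', hf'⟩ :=
    Groth.Agent.Lib.Helper27.FieldPt.exists_lft_fieldPt h𝒵 (Over.mk a₁) z₁ hs hf
  exact ⟨k, i, a, z, hp hnoeth, hs', hf'⟩

/-- A flat, locally finitely presented, surjective chart is locally essentially surjective. -/
theorem locSurjObj_of_chart {𝒵 : AlgSt.Cat S} (h𝒵 : AlgSt.IsAlgStack Scheme.fppfPrecoverage 𝒵)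
    {V : Over S} (z : overCat V ⥤ᵇ 𝒵)
    (hzp : AlgSt.RepByAlgSpWith (AlgSp.LocP @LocallyOfFinitePresentation) z)
    (hzs : AlgSt.RepByAlgSpWith AlgSp.IsSurjectiveMor z)
    (hzf : AlgSt.RepByAlgSpWith (AlgSp.LocP @Flat) z) : Gerb.LocSurjObj (AlgSp.J S) z := by
  have hgV : FibCat.IsFibGrpd (overCat V).p :=
    Groth.Agent.Lib.Helper27.ReprAux.isFibGrpd_overCat _
  obtain ⟨W, y, hy₁, hy₂⟩ := h𝒵.atlas
  have hzL₁ : AlgSt.LocQ (AlgSp.LocP @Flat) z :=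
    Groth.Agent.Lib.Helper27.LocQRep.locQ_of_repByAlgSpWith _
      Groth.Agent.Lib.Helper27.SmLocP.isSmoothLocalST_locP_flat z y hy₁ hy₂ hzf
  have hzL₂ : AlgSt.LocQ (AlgSp.LocP @LocallyOfFinitePresentation) z :=
    Groth.Agent.Lib.Helper27.LocQRep.locQ_of_repByAlgSpWith _
      Groth.Agent.Lib.Helper27.SmLocP.isSmoothLocalST_locP_lfp z y hy₁ hy₂ hzp
  have hzS : AlgSt.IsSurjective z := isSurjective_of_rep hgV h𝒵.isStack.1 z hzs
  exact Groth.Agent.Lib.Helper27.GerbLoc.locSurjObj_of_fppf hgV h𝒵.isStack.1 z hzL₁ hzL₂ hzS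

/-- A morphism of algebraic stacks maps the residual gerbe of a point into the residual gerbe of
its image. -/
theorem map_mem_of_isResGerbe {𝒳 𝒴 : AlgSt.Cat S}
    (h𝒴 : AlgSt.IsAlgStack Scheme.fppfPrecoverage 𝒴) (f : 𝒳 ⥤ᵇ 𝒴) (x : AlgSt.Points 𝒳)
    (Q : 𝒳.obj → Prop) (hQ : Gerb.IsResGerbe Scheme.fppfPrecoverage 𝒳 x Q)
    (Q' : 𝒴.obj → Prop)
    (hQ' : Gerb.IsResGerbe Scheme.fppfPrecoverage 𝒴 (AlgSt.Points.map f x) Q')
    (ξ : 𝒳.obj) (hξ : Q ξ) : Q' (f.obj ξ) := by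
  obtain ⟨hQiso, hQalg, hQred, hQnoeth, hQne, hQsub, hQx⟩ := hQ
  obtain ⟨k, _, a, z, hzp, hzs, hzf⟩ := exists_fppf_fieldPt hQalg hQred hQnoeth hQne hQsub
  have hloc := locSurjObj_of_chart hQalg z hzp hzs hzf
  have hcls : ∀ t : ↥(Over.mk a).left,
      AlgSt.Points.ofChart ((z ⊚ AlgSt.subIncl 𝒳 Q) ⊚ f) t = AlgSt.Points.map f x := by
    intro t
    change AlgSt.Points.map ((z ⊚ AlgSt.subIncl 𝒳 Q) ⊚ f) (ptOf _ t) = _
    rw [Groth.Agent.Lib.Helper27.PointsKit.map_comp, Groth.Agent.Lib.Helper27.PointsKit.map_comp,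
      hQx]
  have hall := Groth.Agent.Lib.Helper27.FFField.mem_of_isResGerbe h𝒴 _ Q' hQ' k a
    ((z ⊚ AlgSt.subIncl 𝒳 Q) ⊚ f) hcls
  obtain ⟨R, hR, hR'⟩ := hloc ⟨ξ, hξ⟩
  refine Groth.Agent.Lib.Helper27.FFField.mem_of_local (AlgSp.J S) h𝒴.isStack Q' hQ'.1
    hQ'.2.1.isStack (f.obj ξ) (f.w_obj ξ) R hR ?_
  intro T' m hm
  obtain ⟨w, g, hg⟩ := hR' m hm
  have hg' : 𝒳.p.IsHomLift m ((AlgSt.subIncl 𝒳 Q).toFunctor.map g) :=
    BasedFunctor.preserves_isHomLift (AlgSt.subIncl 𝒳 Q) m g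
  exact ⟨_, f.toFunctor.map ((AlgSt.subIncl 𝒳 Q).toFunctor.map g), hall w,
    BasedFunctor.preserves_isHomLift f m _⟩

end Groth.Agent.Lib.Helper27.ResGerbeMap
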