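import Groth.Agent.S12801
import Groth.Agent.Lib.Helper16.FpFibGrpd
import Mathlib.CategoryTheory.Sites.CoverPreserving
import Mathlib.CategoryTheory.Sites.CoverLifting
import Mathlib.CategoryTheory.Sites.Continuous

/-!
# Functors over `C` between categories fibred in groupoids and the inherited topologies (helper27)
-/

set_option autoImplicit false
set_option backward.isDefEq.respectTransparency false
set_option backward.isDefEq.respectTransparency.types false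

universe w v₂ u₂ v u

open CategoryTheory Groth.Agent.Lib.Helper16.FpFibGrpd

namespace Groth.Agent.Lib.Helper27.RestrTop

theorem mem_pushforward_iff {C : Type u} [Category.{v} C] {𝒳 : Type u₂} [Category.{v₂} 𝒳]
    (p : 𝒳 ⥤ C) (hp : FibCat.IsFibGrpd p) {x : 𝒳} (S : Sieve x) {V : C} (g : V ⟶ p.obj x) :
    (S.functorPushforward p).arrows g ↔ ∃ (z : 𝒳) (s : z ⟶ x), S.arrows s ∧ p.IsHomLift g s := by
  constructor
  · rintro ⟨z, s, t, hs, rfl⟩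
    obtain ⟨z', τ, hτ⟩ := hp.exists_lift (x := z) t
    exact ⟨z', τ ≫ s, S.downward_closed hs τ, inferInstance⟩
  · rintro ⟨z, s, hs, hl⟩
    refine ⟨z, s, eqToHom (IsHomLift.domain_eq p g s).symm, hs, ?_⟩
    have := IsHomLift.fac p g s
    simpa using this

variable {C : Type u} [Category.{v} C] (J : GrothendieckTopology C)
  {𝒳 𝒴 : BasedCategory.{v₂, u₂} C}

theorem coverPreserving (h𝒳 : FibCat.IsFibGrpd 𝒳.p) (h𝒴 : FibCat.IsFibGrpd 𝒴.p) (F : 𝒳 ⥤ᵇ 𝒴) :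
    CoverPreserving (𝒳.p.restrictedTopology J) (𝒴.p.restrictedTopology J) F.toFunctor := by
  refine ⟨fun {x S} hS => ?_⟩
  rw [Groth.Agent.S12801.result 𝒳.p h𝒳 J] at hS
  rw [Groth.Agent.S12801.result 𝒴.p h𝒴 J]
  have e : 𝒴.p.obj (F.obj x) = 𝒳.p.obj x := F.w_obj x
  refine J.superset_covering ?_ (J.pullback_stable (eqToHom e) hS)
  intro V g hg
  have hg' : (S.functorPushforward 𝒳.p).arrows (g ≫ eqToHom e) := hg
  obtain ⟨z, s, hs, hl⟩ := (mem_pushforward_iff 𝒳.p h𝒳 S _).1 hg'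
  refine (mem_pushforward_iff 𝒴.p h𝒴 _ _).2 ⟨F.obj z, F.map s,
    Sieve.image_mem_functorPushforward _ _ hs, ?_⟩
  have : 𝒴.p.IsHomLift (g ≫ eqToHom e) (F.map s) := inferInstance
  exact (IsHomLift.lift_comp_eqToHom_iff _ _ _ _).1 this

theorem isCocontinuous (h𝒳 : FibCat.IsFibGrpd 𝒳.p) (h𝒴 : FibCat.IsFibGrpd 𝒴.p) (F : 𝒳 ⥤ᵇ 𝒴) :
    F.toFunctor.IsCocontinuous (𝒳.p.restrictedTopology J) (𝒴.p.restrictedTopology J) := by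
  refine ⟨fun {x T} hT => ?_⟩
  rw [Groth.Agent.S12801.result 𝒴.p h𝒴 J] at hT
  rw [Groth.Agent.S12801.result 𝒳.p h𝒳 J]
  have e : 𝒴.p.obj (F.obj x) = 𝒳.p.obj x := F.w_obj x
  refine J.superset_covering ?_ (J.pullback_stable (eqToHom e.symm) hT)
  intro V g hg
  have hg' : (T.functorPushforward 𝒴.p).arrows (g ≫ eqToHom e.symm) := hg
  obtain ⟨w, s, hs, hl⟩ := (mem_pushforward_iff 𝒴.p h𝒴 T _).1 hg'
  have hl' : 𝒴.p.IsHomLift g s := (IsHomLift.lift_comp_eqToHom_iff _ _ _ _).1 hl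
  obtain ⟨z, r, hr⟩ := h𝒳.exists_lift (x := x) g
  have hsc := FibGrpd.isStronglyCartesian 𝒴.p h𝒴 g s
  have hf' : g = 𝟙 V ≫ g := by simp
  have hχ : Functor.IsStronglyCartesian.map 𝒴.p g s hf' (F.map r) ≫ s = F.map r :=
    Functor.IsStronglyCartesian.fac 𝒴.p g s hf' (F.map r)
  refine (mem_pushforward_iff 𝒳.p h𝒳 _ _).2 ⟨z, r, ?_, hr⟩
  change T.arrows (F.map r)
  rw [← hχ]
  exact T.downward_closed hs _

theorem compatiblePreserving (h𝒳 : FibCat.IsFibGrpd 𝒳.p) (h𝒴 : FibCat.IsFibGrpd 𝒴.p)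
    (F : 𝒳 ⥤ᵇ 𝒴) :
    CompatiblePreserving.{w} (𝒴.p.restrictedTopology J) F.toFunctor := by
  refine ⟨fun ℱ Z T x hx Y₁ Y₂ X f₁ f₂ g₁ g₂ hg₁ hg₂ hcomm => ?_⟩
  -- lift the base of `f₁`
  obtain ⟨W, r₁, hr₁⟩ := FibGrpd.exists_lift' 𝒳.p h𝒳 (x := Y₁) (F.w_obj Y₁).symm (𝒴.p.map f₁)
  have hFr₁ : 𝒴.p.IsHomLift (𝒴.p.map f₁) (F.map r₁) := inferInstance
  have hsc₁ := FibGrpd.isStronglyCartesian 𝒴.p h𝒴 (𝒴.p.map f₁) (F.map r₁)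
  have hf'₁ : 𝒴.p.map f₁ = 𝟙 _ ≫ 𝒴.p.map f₁ := by simp
  let θ : X ⟶ F.obj W := Functor.IsStronglyCartesian.map 𝒴.p (𝒴.p.map f₁) (F.map r₁) hf'₁ f₁
  have hθ : 𝒴.p.IsHomLift (𝟙 _) θ :=
    Functor.IsStronglyCartesian.map_isHomLift 𝒴.p (𝒴.p.map f₁) (F.map r₁) hf'₁ f₁
  have hθfac : θ ≫ F.map r₁ = f₁ :=
    Functor.IsStronglyCartesian.fac 𝒴.p (𝒴.p.map f₁) (F.map r₁) hf'₁ f₁
  -- the second lift
  have hg₁l : 𝒳.p.IsHomLift (𝒴.p.map (F.map g₁)) g₁ :=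
    (BasedFunctor.isHomLift_iff F _ _).1 inferInstance
  have hg₂l : 𝒳.p.IsHomLift (𝒴.p.map (F.map g₂)) g₂ :=
    (BasedFunctor.isHomLift_iff F _ _).1 inferInstance
  have hsc₂ := FibGrpd.isStronglyCartesian 𝒳.p h𝒳 (𝒴.p.map (F.map g₂)) g₂
  have hf'₂ : 𝒴.p.map f₁ ≫ 𝒴.p.map (F.map g₁) = 𝒴.p.map f₂ ≫ 𝒴.p.map (F.map g₂) := by
    rw [← Functor.map_comp, ← Functor.map_comp, hcomm]
  have hr₁g₁ : 𝒳.p.IsHomLift (𝒴.p.map f₁ ≫ 𝒴.p.map (F.map g₁)) (r₁ ≫ g₁) := inferInstance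
  let r₂ : W ⟶ Y₂ :=
    Functor.IsStronglyCartesian.map 𝒳.p (𝒴.p.map (F.map g₂)) g₂ hf'₂ (r₁ ≫ g₁)
  have hr₂ : 𝒳.p.IsHomLift (𝒴.p.map f₂) r₂ :=
    Functor.IsStronglyCartesian.map_isHomLift 𝒳.p (𝒴.p.map (F.map g₂)) g₂ hf'₂ (r₁ ≫ g₁)
  have hr₂fac : r₂ ≫ g₂ = r₁ ≫ g₁ :=
    Functor.IsStronglyCartesian.fac 𝒳.p (𝒴.p.map (F.map g₂)) g₂ hf'₂ (r₁ ≫ g₁)
  -- `θ ≫ F r₂ = f₂`
  have hsc₃ := FibGrpd.isStronglyCartesian 𝒴.p h𝒴 (𝒴.p.map (F.map g₂)) (F.map g₂)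
  have hf'₃ : 𝒴.p.map (f₂ ≫ F.map g₂) = 𝒴.p.map f₂ ≫ 𝒴.p.map (F.map g₂) :=
    Functor.map_comp _ _ _
  have hFr₂ : 𝒴.p.IsHomLift (𝒴.p.map f₂) (F.map r₂) := inferInstance
  have hθr₂ : 𝒴.p.IsHomLift (𝒴.p.map f₂) (θ ≫ F.map r₂) := inferInstance
  have e1 := Functor.IsStronglyCartesian.map_uniq 𝒴.p (𝒴.p.map (F.map g₂)) (F.map g₂) hf'₃
    (f₂ ≫ F.map g₂) (θ ≫ F.map r₂) (by
      rw [Category.assoc, ← Functor.map_comp, hr₂fac, Functor.map_comp, ← Category.assoc,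
        hθfac, hcomm])
  have e2 := Functor.IsStronglyCartesian.map_uniq 𝒴.p (𝒴.p.map (F.map g₂)) (F.map g₂) hf'₃
    (f₂ ≫ F.map g₂) f₂ rfl
  have hθr₂' : θ ≫ F.map r₂ = f₂ := e1.trans e2.symm
  have hc := hx r₁ r₂ hg₁ hg₂ hr₂fac.symm
  have hc' : ℱ.obj.map (F.map r₁).op (x g₁ hg₁) = ℱ.obj.map (F.map r₂).op (x g₂ hg₂) := hc
  rw [← hθfac, ← hθr₂', op_comp, op_comp, FunctorToTypes.map_comp_apply,
    FunctorToTypes.map_comp_apply, hc']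

theorem isContinuous {𝒳 𝒴 : BasedCategory.{v, max u v} C}
    (h𝒳 : FibCat.IsFibGrpd 𝒳.p) (h𝒴 : FibCat.IsFibGrpd 𝒴.p) (F : 𝒳 ⥤ᵇ 𝒴) :
    F.toFunctor.IsContinuous (𝒳.p.restrictedTopology J) (𝒴.p.restrictedTopology J) :=
  Functor.isContinuous_of_coverPreserving (compatiblePreserving J h𝒳 h𝒴 F)
    (coverPreserving J h𝒳 h𝒴 F)

end Groth.Agent.Lib.Helper27.RestrTop
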