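import Groth.Agent.Lib.Helper27.SecRestrA

/-!
# Sections of a category fibred in groupoids over a diagram: existence of cones (helper27)
-/

set_option autoImplicit false
set_option backward.isDefEq.respectTransparency false
set_option backward.isDefEq.respectTransparency.types false

universe w v₁ u₁ v₂ u₂ v₃ u₃

open CategoryTheory Functor Groth.Agent.Lib.Helper16.FpFibGrpd

namespace Groth.Agent.Lib.Helper27.SecRestr

variable {C : Type u₁} [Category.{v₁} C] {D : Type u₂} [Category.{v₂} D]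
  {F : Type u₃} [Category.{v₃} F] (φ : C ⥤ D) (p : F ⥤ D)

/-- A section over the diagram `φ`: a functor `s : C ⥤ F` with `s ⋙ p = φ`. -/
structure Sec where
  fn : C ⥤ F
  w : fn ⋙ p = φ

variable {φ p}

theorem Sec.w_obj (s : Sec φ p) (X : C) : p.obj (s.fn.obj X) = φ.obj X := by
  rw [← Functor.comp_obj, s.w]

theorem Sec.map_lift (s : Sec φ p) {X X' : C} (g : X ⟶ X') :
    p.IsHomLift (φ.map g) (s.fn.map g) := by
  apply IsHomLift.of_fac' p _ _ (s.w_obj X) (s.w_obj X')
  have := Functor.congr_hom s.w g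
  simpa using this

variable (φ p) in
/-- A cone over `Y` for the section `s`: an object over `Y` with compatible arrows to all
`s X` over all `a : Y ⟶ φ X`. -/
structure Cone (s : Sec φ p) (Y : D) where
  pt : F
  over : p.obj pt = Y
  leg : ∀ A : StructuredArrow Y φ, pt ⟶ s.fn.obj A.right
  leg_lift : ∀ A : StructuredArrow Y φ, p.IsHomLift A.hom (leg A)
  leg_comp : ∀ {A B : StructuredArrow Y φ} (g : A ⟶ B), leg A ≫ s.fn.map g.right = leg B

section Exists

variable (hp : FibCat.IsFibGrpd p) (s : Sec φ p) (Y : D)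

/-- Chosen pullbacks. -/
noncomputable def pb (A : StructuredArrow Y φ) : F :=
  (FibGrpd.exists_lift' p hp (s.w_obj A.right) A.hom).choose

noncomputable def pbHom (A : StructuredArrow Y φ) : pb hp s Y A ⟶ s.fn.obj A.right :=
  (FibGrpd.exists_lift' p hp (s.w_obj A.right) A.hom).choose_spec.choose

theorem pbHom_lift (A : StructuredArrow Y φ) : p.IsHomLift A.hom (pbHom hp s Y A) :=
  (FibGrpd.exists_lift' p hp (s.w_obj A.right) A.hom).choose_spec.choose_spec

theorem pb_over (A : StructuredArrow Y φ) : p.obj (pb hp s Y A) = Y :=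
  have := pbHom_lift hp s Y A
  IsHomLift.domain_eq p A.hom (pbHom hp s Y A)

theorem comp_lift {A B : StructuredArrow Y φ} (g : A ⟶ B) :
    p.IsHomLift (𝟙 Y ≫ B.hom) (pbHom hp s Y A ≫ s.fn.map g.right) := by
  have h1 := pbHom_lift hp s Y A
  have h2 := s.map_lift g.right
  have h3 : p.IsHomLift (A.hom ≫ φ.map g.right) (pbHom hp s Y A ≫ s.fn.map g.right) :=
    inferInstance
  have e : A.hom ≫ φ.map g.right = 𝟙 Y ≫ B.hom := by
    rw [StructuredArrow.w g, Category.id_comp]
  rw [← e]; exact h3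

/-- The transition maps between the chosen pullbacks. -/
noncomputable def pbMap {A B : StructuredArrow Y φ} (g : A ⟶ B) : pb hp s Y A ⟶ pb hp s Y B :=
  (existsUnique_lift hp (𝟙 Y) B.hom (pbHom hp s Y B) (pbHom_lift hp s Y B)
    (pbHom hp s Y A ≫ s.fn.map g.right) (comp_lift hp s Y g)).exists.choose

theorem pbMap_lift {A B : StructuredArrow Y φ} (g : A ⟶ B) :
    p.IsHomLift (𝟙 Y) (pbMap hp s Y g) :=
  (existsUnique_lift hp (𝟙 Y) B.hom (pbHom hp s Y B) (pbHom_lift hp s Y B)
    (pbHom hp s Y A ≫ s.fn.map g.right) (comp_lift hp s Y g)).exists.choose_spec.1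

theorem pbMap_fac {A B : StructuredArrow Y φ} (g : A ⟶ B) :
    pbMap hp s Y g ≫ pbHom hp s Y B = pbHom hp s Y A ≫ s.fn.map g.right :=
  (existsUnique_lift hp (𝟙 Y) B.hom (pbHom hp s Y B) (pbHom_lift hp s Y B)
    (pbHom hp s Y A ≫ s.fn.map g.right) (comp_lift hp s Y g)).exists.choose_spec.2

theorem pbMap_eq {A B : StructuredArrow Y φ} (g : A ⟶ B) (χ : pb hp s Y A ⟶ pb hp s Y B)
    (h1 : p.IsHomLift (𝟙 Y) χ) (h2 : χ ≫ pbHom hp s Y B = pbHom hp s Y A ≫ s.fn.map g.right) :
    χ = pbMap hp s Y g :=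
  cancel_lift hp (𝟙 Y) B.hom (pbHom hp s Y B) (pbHom_lift hp s Y B) _ _ h1 (pbMap_lift hp s Y g)
    (h2.trans (pbMap_fac hp s Y g).symm)

/-- The functor of chosen pullbacks. -/
noncomputable def pbFunctor : StructuredArrow Y φ ⥤ p.Fiber Y where
  obj A := ⟨pb hp s Y A, pb_over hp s Y A⟩
  map g := ⟨pbMap hp s Y g, pbMap_lift hp s Y g⟩
  map_id A := by
    apply Functor.Fiber.hom_ext
    symm
    apply pbMap_eq hp s Y (𝟙 A) (𝟙 _) (IsHomLift.id (pb_over hp s Y A))
    change 𝟙 _ ≫ _ = _ ≫ s.fn.map (𝟙 A.right)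
    rw [Category.id_comp, s.fn.map_id, Category.comp_id]
  map_comp {A B E} g g' := by
    apply Functor.Fiber.hom_ext
    symm
    have h1 := pbMap_lift hp s Y g
    have h2 := pbMap_lift hp s Y g'
    apply pbMap_eq hp s Y (g ≫ g') (pbMap hp s Y g ≫ pbMap hp s Y g') (by
      have : p.IsHomLift (𝟙 Y ≫ 𝟙 Y) (pbMap hp s Y g ≫ pbMap hp s Y g') := inferInstance
      rwa [Category.id_comp] at this)
    change _ = _ ≫ s.fn.map (g.right ≫ g'.right)
    rw [Category.assoc, pbMap_fac, ← Category.assoc, pbMap_fac, Category.assoc, s.fn.map_comp]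

include hp in
theorem exists_cone
    (hY : W4c2modmodulilect.HasContractibleNerve.{max w v₃ u₃, max w v₃ u₃}
      (StructuredArrow Y φ)) : Nonempty (Cone φ p s Y) := by
  let _ : Groupoid (p.Fiber Y) := fiberGroupoid hp Y
  obtain ⟨g, ⟨i⟩⟩ := Groth.Agent.Lib.Helper27.CtrNerve.exists_iso_const.{w} hY (pbFunctor hp s Y)
  refine ⟨{ pt := g.1, over := g.2, leg := fun A => (i.inv.app A).1 ≫ pbHom hp s Y A,
            leg_lift := fun A => ?_, leg_comp := fun {A B} k => ?_ }⟩
  · have h1 : p.IsHomLift (𝟙 Y) (i.inv.app A).1 := (i.inv.app A).2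
    have h2 := pbHom_lift hp s Y A
    have h3 : p.IsHomLift (𝟙 Y ≫ A.hom) ((i.inv.app A).1 ≫ pbHom hp s Y A) := inferInstance
    rwa [Category.id_comp] at h3
  · have hn := i.inv.naturality k
    have hn' : (i.inv.app B).1 = (i.inv.app A).1 ≫ pbMap hp s Y k := by
      have := congrArg Subtype.val hn
      simp only [Functor.const_obj_obj, Functor.const_obj_map, Category.id_comp] at this
      exact this
    rw [Category.assoc, ← pbMap_fac, ← Category.assoc, ← hn']

end Exists

end Groth.Agent.Lib.Helper27.SecRestr
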