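import Groth.Agent.Lib.Helper27.SecRestrB

/-!
# Sections of a category fibred in groupoids over a diagram: morphisms of cones (helper27)
-/

set_option autoImplicit false
set_option backward.isDefEq.respectTransparency false
set_option backward.isDefEq.respectTransparency.types false

universe w v₁ u₁ v₂ u₂ v₃ u₃

open CategoryTheory Functor Groth.Agent.Lib.Helper16.FpFibGrpd

namespace Groth.Agent.Lib.Helper27.SecRestr

variable {C : Type u₁} [Category.{v₁} C] {D : Type u₂} [Category.{v₂} D]
  {F : Type u₃} [Category.{v₃} F] {φ : C ⥤ D} {p : F ⥤ D}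

section ConeMap

variable (hp : FibCat.IsFibGrpd p) {s : Sec φ p} {Y' Y : D} (h : Y' ⟶ Y)
  (K' : Cone φ p s Y') (K : Cone φ p s Y)

/-- The shifted structured arrow. -/
abbrev shift (A : StructuredArrow Y φ) : StructuredArrow Y' φ := (StructuredArrow.map h).obj A

theorem leg_shift_lift (A : StructuredArrow Y φ) :
    p.IsHomLift (h ≫ A.hom) (K'.leg (shift h A)) := by
  have := K'.leg_lift (shift h A)
  simpa using this

/-- The candidate for the morphism of cones, computed at `A`. -/
noncomputable def coneMapAt (A : StructuredArrow Y φ) : K'.pt ⟶ K.pt :=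
  (existsUnique_lift hp h A.hom (K.leg A) (K.leg_lift A) (K'.leg (shift h A))
    (leg_shift_lift h K' A)).exists.choose

theorem coneMapAt_lift (A : StructuredArrow Y φ) : p.IsHomLift h (coneMapAt hp h K' K A) :=
  (existsUnique_lift hp h A.hom (K.leg A) (K.leg_lift A) (K'.leg (shift h A))
    (leg_shift_lift h K' A)).exists.choose_spec.1

theorem coneMapAt_fac (A : StructuredArrow Y φ) :
    coneMapAt hp h K' K A ≫ K.leg A = K'.leg (shift h A) :=
  (existsUnique_lift hp h A.hom (K.leg A) (K.leg_lift A) (K'.leg (shift h A))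
    (leg_shift_lift h K' A)).exists.choose_spec.2

theorem coneMapAt_eq (A : StructuredArrow Y φ) (χ : K'.pt ⟶ K.pt) (h1 : p.IsHomLift h χ)
    (h2 : χ ≫ K.leg A = K'.leg (shift h A)) : χ = coneMapAt hp h K' K A :=
  cancel_lift hp h A.hom (K.leg A) (K.leg_lift A) _ _ h1 (coneMapAt_lift hp h K' K A)
    (h2.trans (coneMapAt_fac hp h K' K A).symm)

theorem coneMapAt_of_hom {A B : StructuredArrow Y φ} (g : A ⟶ B) :
    coneMapAt hp h K' K A = coneMapAt hp h K' K B := by
  apply coneMapAt_eq hp h K' K B _ (coneMapAt_lift hp h K' K A)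
  rw [← K.leg_comp g, ← Category.assoc, coneMapAt_fac]
  exact K'.leg_comp ((StructuredArrow.map h).map g)

variable [IsConnected (StructuredArrow Y φ)]

theorem coneMapAt_const (A B : StructuredArrow Y φ) :
    coneMapAt hp h K' K A = coneMapAt hp h K' K B :=
  constant_of_preserves_morphisms (coneMapAt hp h K' K)
    (fun _ _ g => coneMapAt_of_hom hp h K' K g) A B

/-- The morphism of cones over `h`. -/
noncomputable def coneMap : K'.pt ⟶ K.pt :=
  coneMapAt hp h K' K (Classical.arbitrary _)

theorem coneMap_lift : p.IsHomLift h (coneMap hp h K' K) := coneMapAt_lift hp h K' K _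

theorem coneMap_fac (A : StructuredArrow Y φ) :
    coneMap hp h K' K ≫ K.leg A = K'.leg (shift h A) := by
  rw [coneMap, coneMapAt_const hp h K' K _ A]
  exact coneMapAt_fac hp h K' K A

theorem coneMap_eq (A : StructuredArrow Y φ) (χ : K'.pt ⟶ K.pt) (h1 : p.IsHomLift h χ)
    (h2 : χ ≫ K.leg A = K'.leg (shift h A)) : χ = coneMap hp h K' K := by
  rw [coneMap, coneMapAt_const hp h K' K _ A]
  exact coneMapAt_eq hp h K' K A χ h1 h2

end ConeMap

end Groth.Agent.Lib.Helper27.SecRestr
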