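import Groth.Agent.Lib.Helper27.SecRestrC

/-!
# Sections of a category fibred in groupoids over a diagram: extension of sections (helper27)
-/

set_option autoImplicit false
set_option backward.isDefEq.respectTransparency false
set_option backward.isDefEq.respectTransparency.types false

universe w v₁ u₁ v₂ u₂ v₃ u₃

open CategoryTheory Functor Groth.Agent.Lib.Helper16.FpFibGrpd

namespace Groth.Agent.Lib.Helper27.SecRestr

variable {C : Type u₁} [Category.{v₁} C] {D : Type u₂} [Category.{v₂} D]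
  {F : Type u₃} [Category.{v₃} F] {φ : C ⥤ D} {p : F ⥤ D}

section Legs

variable {s : Sec φ p}

theorem leg_shift_id {Y : D} (K : Cone φ p s Y) (A : StructuredArrow Y φ) :
    K.leg (shift (𝟙 Y) A) = K.leg A := by
  have := K.leg_comp (StructuredArrow.homMk (𝟙 A.right) (by simp) : A ⟶ shift (𝟙 Y) A)
  simpa using this.symm

theorem leg_shift_comp {Y'' Y' Y : D} (K : Cone φ p s Y'') (h' : Y'' ⟶ Y') (h : Y' ⟶ Y)
    (A : StructuredArrow Y φ) :
    K.leg (shift (h' ≫ h) A) = K.leg (shift h' (shift h A)) := by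
  have := K.leg_comp (StructuredArrow.homMk (𝟙 A.right) (by simp) :
    shift h' (shift h A) ⟶ shift (h' ≫ h) A)
  simpa using this.symm

end Legs

section Extend

variable (hp : FibCat.IsFibGrpd p) {s : Sec φ p} (K : ∀ Y, Cone φ p s Y)
  [∀ Y : D, IsConnected (StructuredArrow Y φ)]

/-- The extended section, as a functor. -/
noncomputable def extFun : D ⥤ F where
  obj Y := (K Y).pt
  map {Y' Y} h := coneMap hp h (K Y') (K Y)
  map_id Y := by
    symm
    apply coneMap_eq hp (𝟙 Y) (K Y) (K Y) (Classical.arbitrary _) (𝟙 _) (IsHomLift.id (K Y).over)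
    rw [Category.id_comp, leg_shift_id]
  map_comp {Y'' Y' Y} h' h := by
    symm
    have h1 := coneMap_lift hp h' (K Y'') (K Y')
    have h2 := coneMap_lift hp h (K Y') (K Y)
    apply coneMap_eq hp (h' ≫ h) (K Y'') (K Y) (Classical.arbitrary _)
      (coneMap hp h' (K Y'') (K Y') ≫ coneMap hp h (K Y') (K Y)) inferInstance
    rw [Category.assoc, coneMap_fac, coneMap_fac, leg_shift_comp]

theorem extFun_w : extFun hp K ⋙ p = 𝟭 D := by
  refine CategoryTheory.Functor.ext (fun Y => (K Y).over) (fun Y' Y h => ?_)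
  have := coneMap_lift hp h (K Y') (K Y)
  exact IsHomLift.fac' p h (coneMap hp h (K Y') (K Y))

theorem extFun_map_lift {Y' Y : D} (h : Y' ⟶ Y) : p.IsHomLift h ((extFun hp K).map h) :=
  coneMap_lift hp h (K Y') (K Y)

/-- The comparison `extFun (φ X) ⟶ s X`. -/
noncomputable def extLeg (X : C) : (extFun hp K).obj (φ.obj X) ⟶ s.fn.obj X :=
  (K (φ.obj X)).leg (StructuredArrow.mk (𝟙 (φ.obj X)))

theorem extLeg_lift (X : C) : p.IsHomLift (𝟙 (φ.obj X)) (extLeg hp K X) :=
  (K (φ.obj X)).leg_lift (StructuredArrow.mk (𝟙 (φ.obj X)))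

theorem extLeg_isIso (X : C) : IsIso (extLeg hp K X) := by
  have := extLeg_lift hp K X
  exact FibGrpd.isIso_of_base_isIso p hp (𝟙 (φ.obj X)) (extLeg hp K X)

theorem extLeg_naturality {X X' : C} (g : X ⟶ X') :
    (extFun hp K).map (φ.map g) ≫ extLeg hp K X' = extLeg hp K X ≫ s.fn.map g := by
  change coneMap hp (φ.map g) (K _) (K _) ≫ (K (φ.obj X')).leg _ = _
  rw [coneMap_fac]
  exact ((K (φ.obj X)).leg_comp (StructuredArrow.homMk g (by simp) :
    StructuredArrow.mk (𝟙 (φ.obj X)) ⟶ shift (φ.map g) (StructuredArrow.mk (𝟙 (φ.obj X'))))).symm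

end Extend

end Groth.Agent.Lib.Helper27.SecRestr
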