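import Groth.Agent.Lib.Helper27.SecRestrD

/-!
# Restriction of sections along a functor with simply connected comma categories is essentially
surjective (helper27)
-/

set_option autoImplicit false
set_option backward.isDefEq.respectTransparency false
set_option backward.isDefEq.respectTransparency.types false

universe v₁ u₁ v₂ u₂ v₃ u₃

open CategoryTheory Functor Groth.Agent.Lib.Helper16.FpFibGrpd

namespace Groth.Agent.Lib.Helper27.SecRestr

variable {C : Type u₁} [Category.{v₁} C] {D : Type u₂} [Category.{v₂} D]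
  {F : Type u₃} [Category.{v₃} F] (φ : C ⥤ D) (p : F ⥤ D)

/-- The restriction functor on sections. -/
abbrev R : (FibCat.selfOver D ⥤ᵇ BasedCategory.ofFunctor p) ⥤
    (BasedCategory.ofFunctor φ ⥤ᵇ BasedCategory.ofFunctor p) :=
  Stk.restr (FibCat.toSelf (BasedCategory.ofFunctor φ)) (BasedCategory.ofFunctor p)

variable {φ p}

theorem essSurj (hp : FibCat.IsFibGrpd p)
    (hφ : ∀ Y : D, W4c2modmodulilect.HasContractibleNerve.{max u₁ u₂ u₃ v₁ v₂ v₃,
      max u₁ u₂ u₃ v₁ v₂ v₃} (StructuredArrow Y φ)) : (R φ p).EssSurj := by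
  constructor
  intro sB
  let s : Sec φ p := ⟨sB.toFunctor, sB.w⟩
  have hc : ∀ Y : D, IsConnected (StructuredArrow Y φ) := fun Y =>
    Groth.Agent.Lib.Helper27.CtrNerve.isConnected.{max u₂ u₃ v₃} (hφ Y)
  have K : ∀ Y, Cone φ p s Y := fun Y => (exists_cone.{max u₁ u₂ v₁ v₂} hp s Y (hφ Y)).some
  let tB : FibCat.selfOver D ⥤ᵇ BasedCategory.ofFunctor p :=
    { toFunctor := extFun hp K, w := extFun_w hp K }
  refine ⟨tB, ⟨BasedNatIso.mkNatIso (NatIso.ofComponents
    (fun X => @asIso _ _ _ _ (extLeg hp K X) (extLeg_isIso hp K X))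
    (fun g => extLeg_naturality hp K g)) (fun X => extLeg_lift hp K X)⟩⟩

end Groth.Agent.Lib.Helper27.SecRestr
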