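import Groth.Agent.Lib.Helper27.SecRestrE

/-!
# Restriction of sections along a functor with connected comma categories is fully faithful
(helper27)
-/

set_option autoImplicit false
set_option backward.isDefEq.respectTransparency false
set_option backward.isDefEq.respectTransparency.types false

universe v₁ u₁ v₂ u₂ v₃ u₃

open CategoryTheory Functor Groth.Agent.Lib.Helper16.FpFibGrpd

namespace Groth.Agent.Lib.Helper27.SecRestr

variable {C : Type u₁} [Category.{v₁} C] {D : Type u₂} [Category.{v₂} D]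
  {F : Type u₃} [Category.{v₃} F] {φ : C ⥤ D} {p : F ⥤ D}

theorem sec_map_lift (t : FibCat.selfOver D ⥤ᵇ BasedCategory.ofFunctor p) {Y Z : D} (a : Y ⟶ Z) :
    p.IsHomLift a (t.toFunctor.map a) := by
  have h : (FibCat.selfOver D).p.IsHomLift a a := by
    change (𝟭 D).IsHomLift ((𝟭 D).map a) a
    infer_instance
  exact BasedFunctor.preserves_isHomLift t a a

section FF

variable (hp : FibCat.IsFibGrpd p) (t t' : FibCat.selfOver D ⥤ᵇ BasedCategory.ofFunctor p)
  (α : (R φ p).obj t ⟶ (R φ p).obj t')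

/-- The component of `α` at `X`. -/
abbrev αapp (X : C) : t.toFunctor.obj (φ.obj X) ⟶ t'.toFunctor.obj (φ.obj X) :=
  α.toNatTrans.app X

theorem αapp_lift (X : C) : p.IsHomLift (𝟙 (φ.obj X)) (αapp t t' α X) :=
  α.isHomLift' X

theorem αapp_naturality {X X' : C} (g : X ⟶ X') :
    t.toFunctor.map (φ.map g) ≫ αapp t t' α X' = αapp t t' α X ≫ t'.toFunctor.map (φ.map g) :=
  α.toNatTrans.naturality g

theorem comp_α_lift {Y : D} (A : StructuredArrow Y φ) :
    p.IsHomLift (𝟙 Y ≫ A.hom) (t.toFunctor.map A.hom ≫ αapp t t' α A.right) := by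
  have h1 := sec_map_lift t A.hom
  have h2 := αapp_lift t t' α A.right
  have h3 : p.IsHomLift (A.hom ≫ 𝟙 _) (t.toFunctor.map A.hom ≫ αapp t t' α A.right) :=
    inferInstance
  rw [Category.comp_id] at h3
  rw [Category.id_comp]
  exact h3

/-- The candidate component at `Y`, computed at `A`. -/
noncomputable def βAt {Y : D} (A : StructuredArrow Y φ) : t.toFunctor.obj Y ⟶ t'.toFunctor.obj Y :=
  (existsUnique_lift hp (𝟙 Y) A.hom (t'.toFunctor.map A.hom) (sec_map_lift t' A.hom)
    (t.toFunctor.map A.hom ≫ αapp t t' α A.right) (comp_α_lift t t' α A)).exists.choose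

theorem βAt_lift {Y : D} (A : StructuredArrow Y φ) : p.IsHomLift (𝟙 Y) (βAt hp t t' α A) :=
  (existsUnique_lift hp (𝟙 Y) A.hom (t'.toFunctor.map A.hom) (sec_map_lift t' A.hom)
    (t.toFunctor.map A.hom ≫ αapp t t' α A.right) (comp_α_lift t t' α A)).exists.choose_spec.1

theorem βAt_fac {Y : D} (A : StructuredArrow Y φ) :
    βAt hp t t' α A ≫ t'.toFunctor.map A.hom = t.toFunctor.map A.hom ≫ αapp t t' α A.right :=
  (existsUnique_lift hp (𝟙 Y) A.hom (t'.toFunctor.map A.hom) (sec_map_lift t' A.hom)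
    (t.toFunctor.map A.hom ≫ αapp t t' α A.right) (comp_α_lift t t' α A)).exists.choose_spec.2

theorem βAt_eq {Y : D} (A : StructuredArrow Y φ) (χ : t.toFunctor.obj Y ⟶ t'.toFunctor.obj Y)
    (h1 : p.IsHomLift (𝟙 Y) χ)
    (h2 : χ ≫ t'.toFunctor.map A.hom = t.toFunctor.map A.hom ≫ αapp t t' α A.right) :
    χ = βAt hp t t' α A :=
  cancel_lift hp (𝟙 Y) A.hom (t'.toFunctor.map A.hom) (sec_map_lift t' A.hom) _ _ h1
    (βAt_lift hp t t' α A) (h2.trans (βAt_fac hp t t' α A).symm)

theorem βAt_of_hom {Y : D} {A B : StructuredArrow Y φ} (g : A ⟶ B) :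
    βAt hp t t' α A = βAt hp t t' α B := by
  apply βAt_eq hp t t' α B _ (βAt_lift hp t t' α A)
  have hB : B.hom = A.hom ≫ φ.map g.right := (StructuredArrow.w g).symm
  rw [hB, t'.toFunctor.map_comp, ← Category.assoc, βAt_fac, Category.assoc,
    ← αapp_naturality, t.toFunctor.map_comp, Category.assoc]

variable [∀ Y : D, IsConnected (StructuredArrow Y φ)]

theorem βAt_const {Y : D} (A B : StructuredArrow Y φ) : βAt hp t t' α A = βAt hp t t' α B :=
  constant_of_preserves_morphisms (βAt hp t t' α) (fun _ _ g => βAt_of_hom hp t t' α g) A B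

/-- The extended natural transformation. -/
noncomputable def β : t ⟶ t' where
  app Y := βAt hp t t' α (Classical.arbitrary _)
  naturality {Y' Y} h := by
    have A : StructuredArrow Y φ := Classical.arbitrary _
    rw [βAt_const hp t t' α _ (shift h A), βAt_const hp t t' α _ A]
    have l1 := βAt_lift hp t t' α (shift h A)
    have l2 := βAt_lift hp t t' α A
    have l3 := sec_map_lift t h
    have l4 := sec_map_lift t' h
    have l5 : p.IsHomLift (h ≫ 𝟙 Y) (t.toFunctor.map h ≫ βAt hp t t' α A) := inferInstance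
    have l6 : p.IsHomLift (𝟙 Y' ≫ h) (βAt hp t t' α (shift h A) ≫ t'.toFunctor.map h) :=
      inferInstance
    rw [Category.comp_id] at l5
    rw [Category.id_comp] at l6
    refine cancel_lift hp h A.hom (t'.toFunctor.map A.hom) (sec_map_lift t' A.hom) _ _ l5 l6 ?_
    have e1 : (shift h A).hom = h ≫ A.hom := by simp
    have f1 := βAt_fac hp t t' α (shift h A)
    rw [e1, t'.toFunctor.map_comp, t.toFunctor.map_comp] at f1
    rw [Category.assoc, βAt_fac, Category.assoc, f1, Category.assoc]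
    rfl
  isHomLift' Y := βAt_lift hp t t' α _

theorem β_app_eq (X : C) : (β hp t t' α).toNatTrans.app (φ.obj X) = αapp t t' α X := by
  change βAt hp t t' α _ = _
  rw [βAt_const hp t t' α _ (StructuredArrow.mk (𝟙 (φ.obj X)))]
  symm
  apply βAt_eq hp t t' α _ _ (αapp_lift t t' α X)
  change _ ≫ t'.toFunctor.map (𝟙 _) = t.toFunctor.map (𝟙 _) ≫ _
  rw [t'.toFunctor.map_id, t.toFunctor.map_id, Category.comp_id, Category.id_comp]
  rfl

end FF

end Groth.Agent.Lib.Helper27.SecRestr
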