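import Groth.Agent.Lib.Helper27.SecRestrF

/-!
# Restriction of sections along a functor with simply connected comma categories is an
equivalence (helper27)
-/

set_option autoImplicit false
set_option backward.isDefEq.respectTransparency false
set_option backward.isDefEq.respectTransparency.types false

universe v₁ u₁ v₂ u₂ v₃ u₃

open CategoryTheory Functor Groth.Agent.Lib.Helper16.FpFibGrpd

namespace Groth.Agent.Lib.Helper27.SecRestr

variable {C : Type u₁} [Category.{v₁} C] {D : Type u₂} [Category.{v₂} D]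
  {F : Type u₃} [Category.{v₃} F] {φ : C ⥤ D} {p : F ⥤ D}

theorem full (hp : FibCat.IsFibGrpd p) [∀ Y : D, IsConnected (StructuredArrow Y φ)] :
    (R φ p).Full := by
  constructor
  intro t t' α
  refine ⟨β hp t t' α, ?_⟩
  apply BasedNatTrans.homCategory.ext
  ext X
  exact β_app_eq hp t t' α X

theorem faithful (hp : FibCat.IsFibGrpd p) [∀ Y : D, IsConnected (StructuredArrow Y φ)] :
    (R φ p).Faithful := by
  constructor
  intro t t' γ γ' h
  apply BasedNatTrans.homCategory.ext
  ext Y
  have A : StructuredArrow Y φ := Classical.arbitrary _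
  have hX : γ.toNatTrans.app (φ.obj A.right) = γ'.toNatTrans.app (φ.obj A.right) := by
    have := congrArg (fun δ => δ.toNatTrans.app A.right) h
    exact this
  have l1 : p.IsHomLift (𝟙 Y) (γ.toNatTrans.app Y) := γ.isHomLift' Y
  have l2 : p.IsHomLift (𝟙 Y) (γ'.toNatTrans.app Y) := γ'.isHomLift' Y
  refine cancel_lift hp (𝟙 Y) A.hom (t'.toFunctor.map A.hom) (sec_map_lift t' A.hom) _ _ l1 l2 ?_
  rw [← γ.toNatTrans.naturality, ← γ'.toNatTrans.naturality, hX]

theorem isEquivalence (hp : FibCat.IsFibGrpd p)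
    (hφ : ∀ Y : D, W4c2modmodulilect.HasContractibleNerve.{max u₁ u₂ u₃ v₁ v₂ v₃,
      max u₁ u₂ u₃ v₁ v₂ v₃} (StructuredArrow Y φ)) : (R φ p).IsEquivalence := by
  have hc : ∀ Y : D, IsConnected (StructuredArrow Y φ) := fun Y =>
    Groth.Agent.Lib.Helper27.CtrNerve.isConnected.{max u₂ u₃ v₃} (hφ Y)
  have := full (φ := φ) hp
  have := faithful (φ := φ) hp
  have := essSurj hp hφ
  exact {}

end Groth.Agent.Lib.Helper27.SecRestr
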