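import Groth.Agent.Lib.Helper27.CtrNerve
import Mathlib.CategoryTheory.FiberedCategory.Fibered
import Mathlib.CategoryTheory.FiberedCategory.Fiber
import Mathlib.CategoryTheory.Comma.StructuredArrow.Basic

/-!
# For a fibred category, the comma categories have contractible nerve when the fibres do (helper27)
-/

set_option autoImplicit false
set_option backward.isDefEq.respectTransparency false
set_option backward.isDefEq.respectTransparency.types false

universe w v₁ u₁ v₂ u₂

open CategoryTheory Functor

namespace Groth.Agent.Lib.Helper27.SecRestr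

variable {C : Type u₁} [Category.{v₁} C] {D : Type u₂} [Category.{v₂} D]
  (f : C ⥤ D) (Y : D)

/-- The inclusion of the fibre into the comma category. -/
def fibToSA : f.Fiber Y ⥤ StructuredArrow Y f where
  obj P := StructuredArrow.mk (eqToHom P.2.symm : Y ⟶ f.obj P.1)
  map {P Q} n := StructuredArrow.homMk n.1 (by
    have : f.IsHomLift (𝟙 Y) n.1 := n.2
    have h := IsHomLift.fac' f (𝟙 Y) n.1
    simp only [StructuredArrow.mk_right, StructuredArrow.mk_hom_eq_self]
    rw [h]; simp)
  map_id P := by ext; rfl
  map_comp n n' := by ext; rfl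

theorem fibToSA_obj_hom (P : f.Fiber Y) :
    ((fibToSA f Y).obj P).hom = eqToHom P.2.symm := rfl

theorem fibToSA_map_right {P Q : f.Fiber Y} (n : P ⟶ Q) :
    ((fibToSA f Y).map n).right = n.1 := rfl

variable [f.IsFibered]

/-- The chosen pullback of the target of a structured arrow. -/
noncomputable def saPb (b : StructuredArrow Y f) : f.Fiber Y :=
  ⟨IsPreFibered.pullbackObj (p := f) (a := b.right) rfl b.hom, IsPreFibered.pullbackObj_proj rfl b.hom⟩

/-- The counit `J (R b) ⟶ b`. -/
noncomputable def saCounit (b : StructuredArrow Y f) : (fibToSA f Y).obj (saPb f Y b) ⟶ b :=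
  StructuredArrow.homMk (IsPreFibered.pullbackMap (p := f) (a := b.right) rfl b.hom) (by
    have h := IsHomLift.fac' f b.hom (IsPreFibered.pullbackMap (p := f) (a := b.right) rfl b.hom)
    rw [fibToSA_obj_hom, h]; simp)

/-- Factorization through the counit. -/
theorem exists_factor (P : f.Fiber Y) (b : StructuredArrow Y f) (μ : (fibToSA f Y).obj P ⟶ b) :
    ∃ n : P ⟶ saPb f Y b, (fibToSA f Y).map n ≫ saCounit f Y b = μ := by
  have hμ : f.IsHomLift b.hom μ.right := by
    apply IsHomLift.of_fac' f _ _ P.2 rfl
    have := StructuredArrow.w μ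
    rw [fibToSA_obj_hom] at this
    rw [← this]; simp
  let c := IsPreFibered.pullbackMap (p := f) (a := b.right) rfl b.hom
  refine ⟨⟨IsCartesian.map f b.hom c μ.right, inferInstance⟩, ?_⟩
  ext
  exact IsCartesian.fac f b.hom c μ.right

end Groth.Agent.Lib.Helper27.SecRestr
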