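import Groth.Agent.Lib.Helper27.SecRestrH

/-!
# Transfer of contractibility from fibres to comma categories (helper27)
-/

set_option autoImplicit false
set_option backward.isDefEq.respectTransparency false
set_option backward.isDefEq.respectTransparency.types false

universe w v₁ u₁ v₂ u₂

open CategoryTheory Functor

namespace Groth.Agent.Lib.Helper27.SecRestr

variable {C : Type u₁} [Category.{v₁} C] {D : Type u₂} [Category.{v₂} D]
  (f : C ⥤ D) (Y : D) [f.IsFibered]

theorem isConnected_structuredArrow [IsConnected (f.Fiber Y)] :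
    IsConnected (StructuredArrow Y f) := by
  have : Nonempty (StructuredArrow Y f) := ⟨(fibToSA f Y).obj (Classical.arbitrary _)⟩
  have : IsPreconnected (StructuredArrow Y f) := by
    apply IsPreconnected.of_constant_of_preserves_morphisms
    intro α Fn hFn b b'
    have h1 : ∀ b, Fn ((fibToSA f Y).obj (saPb f Y b)) = Fn b := fun b => hFn (saCounit f Y b)
    have h2 : ∀ P Q : f.Fiber Y, Fn ((fibToSA f Y).obj P) = Fn ((fibToSA f Y).obj Q) :=
      constant_of_preserves_morphisms (fun P => Fn ((fibToSA f Y).obj P))
        (fun _ _ n => hFn ((fibToSA f Y).map n))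
    rw [← h1 b, ← h1 b', h2]
  exact {}

theorem hasContractibleNerve_structuredArrow
    (hA : W4c2modmodulilect.HasContractibleNerve.{max w v₁ u₁, max w v₁ u₁} (f.Fiber Y)) :
    W4c2modmodulilect.HasContractibleNerve.{max w v₁ u₁, max w v₁ u₁} (StructuredArrow Y f) := by
  have hcA : IsConnected (f.Fiber Y) := Groth.Agent.Lib.Helper27.CtrNerve.isConnected.{w} hA
  have hcB := isConnected_structuredArrow f Y
  refine ⟨⟨(fibToSA f Y).obj (Classical.arbitrary _)⟩, fun G _ => ?_⟩
  have hfaith : (Functor.const (StructuredArrow Y f) : G ⥤ _ ⥤ G).Faithful := by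
    constructor
    intro g g' γ γ' h
    have := congrArg (fun τ => τ.app (Classical.arbitrary (StructuredArrow Y f))) h
    exact this
  have hfull : (Functor.const (StructuredArrow Y f) : G ⥤ _ ⥤ G).Full := by
    constructor
    intro g g' τ
    refine ⟨τ.app (Classical.arbitrary _), ?_⟩
    ext b
    rw [Functor.const_map_app]
    let Fn : StructuredArrow Y f → (g ⟶ g') := fun b => τ.app b
    refine constant_of_preserves_morphisms Fn (fun b b' m => ?_) _ b
    have := τ.naturality m
    simp only [Functor.const_obj_obj, Functor.const_obj_map, Category.comp_id,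
      Category.id_comp] at this
    exact this.symm
  have hess : (Functor.const (StructuredArrow Y f) : G ⥤ _ ⥤ G).EssSurj := by
    constructor
    intro H
    obtain ⟨g, ⟨θ⟩⟩ := Groth.Agent.Lib.Helper27.CtrNerve.exists_iso_const.{max w v₁ u₁} hA
      (fibToSA f Y ⋙ H)
    let ι : ∀ b : StructuredArrow Y f, H.obj b ≅ g := fun b =>
      (asIso (H.map (saCounit f Y b))).symm ≪≫
        (θ.app (saPb f Y b) : H.obj ((fibToSA f Y).obj (saPb f Y b)) ≅ g)
    refine ⟨g, ⟨(NatIso.ofComponents (F := H) (G := (Functor.const _).obj g) ι ?_).symm⟩⟩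
    intro b b' m
    change H.map m ≫ (ι b').hom = (ι b).hom ≫ 𝟙 g
    simp only [ι]
    obtain ⟨n, hn⟩ := exists_factor f Y (saPb f Y b) b' (saCounit f Y b ≫ m)
    have hθ := θ.hom.naturality n
    simp only [Functor.comp_map, Functor.const_obj_map, Category.comp_id, Functor.comp_obj,
      Functor.const_obj_obj] at hθ
    have hH : H.map ((fibToSA f Y).map n) ≫ H.map (saCounit f Y b') =
        H.map (saCounit f Y b) ≫ H.map m := by
      rw [← H.map_comp, hn, H.map_comp]
    have hH' : inv (H.map (saCounit f Y b)) ≫ H.map ((fibToSA f Y).map n) =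
        H.map m ≫ inv (H.map (saCounit f Y b')) := by
      rw [IsIso.inv_comp_eq, ← Category.assoc, IsIso.eq_comp_inv, hH]
    simp only [Iso.trans_hom, Iso.symm_hom, asIso_inv, Iso.app_hom, Functor.const_obj_obj,
      Functor.const_obj_map, Category.comp_id]
    rw [← hθ, ← Category.assoc, ← hH', Category.assoc]
  exact {}

end Groth.Agent.Lib.Helper27.SecRestr
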