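import Groth.Agent.Lib.Helper27.DiagPres
import Groth.Agent.Lib.Helper27.DiagLft
import Groth.Agent.Lib.Helper27.RepWithComp
import Groth.Agent.S10280
import Groth.Agent.S9925
import Groth.Agent.S10521

/-!
# Separatedness from universally closed first and second diagonals (helper27)
-/

set_option autoImplicit false
set_option backward.isDefEq.respectTransparency false
set_option backward.isDefEq.respectTransparency.types false

universe u

open CategoryTheory CategoryTheory.Limits AlgebraicGeometry Opposite FibCat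

namespace Groth.Agent.Lib.Helper27.SepUC

variable {S : Scheme.{u}}

theorem main (𝒳 𝒴 : AlgSt.Cat S)
    (h𝒳 : AlgSt.IsAlgStack Scheme.fppfPrecoverage 𝒳)
    (h𝒴 : AlgSt.IsAlgStack Scheme.fppfPrecoverage 𝒴)
    (f : 𝒳 ⥤ᵇ 𝒴)
    (h1 : AlgSt.RepByAlgSpWith AlgSp.IsUnivClosedMor (FibCat.diag f))
    (h2 : AlgSt.RepByAlgSpWith AlgSp.IsUnivClosedMor (FibCat.diag (FibCat.diag f))) :
    AlgSt.IsSeparatedMor f := by
  have hlft := Groth.Agent.Lib.Helper27.DiagLft.lft_diag_of_algStack h𝒳 h𝒴.isStack.1 h𝒴.diag f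
  have hloc : AlgSp.IsLocalOnBase (AlgSp.IsFppfCover (S := S)) AlgSp.IsUnivClosedMor :=
    Groth.Agent.Lib.Helper27.RepWithComp.isLocalOnBase_fppf_of_fpqc _ (Groth.Agent.S10521.result S)
  have hlocl : AlgSp.IsLocalOnBase (AlgSp.IsFppfCover (S := S))
      (AlgSp.LocP @LocallyOfFiniteType) :=
    Groth.Agent.Lib.Helper27.RepWithComp.isLocalOnBase_fppf_of_fpqc _
      (Groth.Agent.Lib.Helper3.isLocalOnBase_fpqc_locP
        Groth.Agent.Lib.Helper3.isEtLocal_locallyOfFiniteType)
  have h3 := Groth.Agent.Lib.Helper27.SepDiag.repByAlgSpWith_inf (f := diag f) _ _ hlocl h1 hlft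
  intro T t
  obtain ⟨F, e, he, huc, hl⟩ := h3 T t
  refine ⟨F, e, he, ?_, ⟨hl, ?_⟩, huc⟩
  · have hd := Groth.Agent.Lib.Helper27.DiagPres.prop_diagonal _ hloc (diag f) h2 t F e he
    let π : F ⟶ (AlgSp.ofScheme S).obj T :=
      ObjectProperty.homMk (AlgSt.spMapOfOver (BasedFunctor.comp e (fpFst t (diag f))))
    exact ((Groth.Agent.S10280.result π).1).2 hd
  · let π : F ⟶ (AlgSp.ofScheme S).obj T :=
      ObjectProperty.homMk (AlgSt.spMapOfOver (BasedFunctor.comp e (fpFst t (diag f))))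
    exact Groth.Agent.S9925.result π huc

end Groth.Agent.Lib.Helper27.SepUC
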