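import Groth.Agent.Lib.Helper27.SkyCoprod1

/-!
# Coproducts of skyscraper sheaves `i_{x*} ℤ` at closed points with separably closed residue fields
have no higher cohomology on a qcqs scheme
-/

set_option autoImplicit false
universe u
open CategoryTheory Limits Opposite AlgebraicGeometry Abelian

namespace Groth.Agent.Lib.Helper27.SkyCoprod

variable (X : Scheme.{u})

theorem H_coprod_skyscrapers_subsingleton [CompactSpace X] [QuasiSeparatedSpace X] {J : Type u}
    (z : J → X) (hcl : ∀ j, IsClosed ({z j} : Set X))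
    (hsc : ∀ j, IsSepClosed (X.residueField (z j)))
    (c : Cofan fun j : J => (EtCoh.push (X.fromSpecResidueField (z j))).obj
      (EtCoh.const (Spec (X.residueField (z j))) ℤ))
    (hc : IsColimit c) (q : ℕ) (hq : 1 ≤ q) : Subsingleton (EtCoh.H X c.pt q) := by
  let P : J → EtCoh.Ab X := fun j => (EtCoh.push (X.fromSpecResidueField (z j))).obj
      (EtCoh.const (Spec (X.residueField (z j))) ℤ)
  have hP : ∀ (j : J) (ξ : EtCoh.H X (P j) q), ξ = 0 := by
    intro j ξ
    haveI : IsClosedImmersion (X.fromSpecResidueField (z j)) :=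
      isClosed_singleton_iff_isClosedImmersion.1 (hcl j)
    haveI := hsc j
    exact H_push_eq_zero (X.fromSpecResidueField (z j)) _ q
      (fun ζ => H_field_eq_zero (X.residueField (z j)) _ q hq ζ) ξ
  let e : c.pt ≅ ∐ P := hc.coconePointUniqueUpToIso (colimit.isColimit _)
  refine ⟨fun a b => ?_⟩
  have key : ∀ ξ : EtCoh.H X c.pt q, ξ = 0 := by
    intro ξ
    have h0 := H_coproduct_eq_zero X P q hP (ξ.comp (Ext.mk₀ e.hom) (add_zero q))
    have h1 : ξ = (ξ.comp (Ext.mk₀ e.hom) (add_zero q)).comp (Ext.mk₀ e.inv) (add_zero q) := by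
      rw [Ext.comp_assoc_of_third_deg_zero, Ext.mk₀_comp_mk₀, Iso.hom_inv_id, Ext.comp_mk₀_id]
    rw [h1, h0, Ext.zero_comp]
  rw [key a, key b]

/-- version over an algebraically closed field, all closed points -/
theorem H_coprod_closedPoints_subsingleton {k : Type u} [Field k] [IsAlgClosed k]
    (f : X ⟶ Spec (CommRingCat.of k)) [LocallyOfFiniteType f]
    [CompactSpace X] [QuasiSeparatedSpace X]
    (c : Cofan fun x : {x : ↥X // IsClosed ({x} : Set ↥X)} =>
      (EtCoh.push (X.fromSpecResidueField x.1)).obj (EtCoh.const (Spec (X.residueField x.1)) ℤ))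
    (hc : IsColimit c) (q : ℕ) (hq : 1 ≤ q) : Subsingleton (EtCoh.H X c.pt q) := by
  refine H_coprod_skyscrapers_subsingleton X (fun x : {x : ↥X // IsClosed ({x} : Set ↥X)} => x.1)
    (fun x => x.2) (fun x => ?_) c hc q hq
  have e : k ≃+* X.residueField x.1 :=
    (residueFieldIsoBase f x.1 x.2).symm.commRingCatIsoToRingEquiv
  haveI : IsAlgClosed (X.residueField x.1) := IsAlgClosed.of_ringEquiv _ _ e
  infer_instance

end Groth.Agent.Lib.Helper27.SkyCoprod
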