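import Groth.Agent.Lib.Helper27.SliceYoneda

/-!
# Uniqueness of the representing object (helper27)
-/

set_option autoImplicit false
set_option backward.isDefEq.respectTransparency false
set_option backward.isDefEq.respectTransparency.types false

universe v u

open CategoryTheory CategoryTheory.Limits FibCat Groth.Agent.Lib.Helper27.FpKit
  Groth.Agent.Lib.Helper27.SliceYoneda

namespace Groth.Agent.Lib.Helper27.SliceUnique

variable {C : Type u} [Category.{v} C]

theorem isIso_of_equivalence {X' X : C} (e₀ : X' ⟶ X) (hF : (Over.map e₀).Full)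
    (hE : (Over.map e₀).EssSurj) : IsIso e₀ := by
  obtain ⟨t, ⟨ι⟩⟩ := hE.mem_essImage (Over.mk (𝟙 X))
  let r : X ⟶ X' := ι.inv.left ≫ t.hom
  have hr : r ≫ e₀ = 𝟙 X := by
    have h0 := Over.w ι.inv
    change ι.inv.left ≫ (t.hom ≫ e₀) = 𝟙 X at h0
    rw [← h0, Category.assoc]
  let m : (Over.map e₀).obj (Over.mk (𝟙 X')) ⟶ (Over.map e₀).obj (Over.mk (e₀ ≫ r)) :=
    Over.homMk (𝟙 X') (by
      change 𝟙 X' ≫ ((e₀ ≫ r) ≫ e₀) = 𝟙 X' ≫ e₀
      rw [Category.assoc, hr, Category.comp_id])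
  obtain ⟨γ, hγ⟩ := hF.map_surjective m
  have h1 : γ.left = 𝟙 X' := by
    have h0 := congrArg (fun k => k.left) hγ
    exact h0
  have h2 : e₀ ≫ r = 𝟙 X' := by
    have h0 := Over.w γ
    change γ.left ≫ (e₀ ≫ r) = 𝟙 X' at h0
    rw [h1] at h0
    exact (Category.id_comp _).symm.trans h0
  exact ⟨r, h2, hr⟩

theorem unique_repr {𝒮 : BasedCategory.{v, max u v} C} {X X' : C} (j : 𝒮 ⥤ᵇ overCat X)
    (j' : 𝒮 ⥤ᵇ overCat X') (hj : IsEquivOver j) (hj' : IsEquivOver j') :
    ∃ e : X' ≅ X, Nonempty (BasedFunctor.comp j' (overMap e.hom) ≅ j) := by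
  obtain ⟨j'', hj'', ⟨ε₁⟩, -⟩ := exists_inverse j' hj'
  have hΦ : IsEquivOver (BasedFunctor.comp j'' j) := isEquivOver_comp j'' j hj'' hj
  have hiso := iso (BasedFunctor.comp j'' j)
  have hF1 := full_of_equiv _ hΦ
  have hE1 : (BasedFunctor.comp j'' j).toFunctor.EssSurj := by
    constructor
    intro y
    obtain ⟨x, ε, -⟩ := ess_of_equiv _ hΦ y
    exact ⟨x, ⟨ε⟩⟩
  have hnat : (BasedFunctor.comp j'' j).toFunctor ≅ Over.map (cls (BasedFunctor.comp j'' j)) :=
    (BasedNatTrans.forgetful _ _).mapIso hiso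
  have hFull : (Over.map (cls (BasedFunctor.comp j'' j))).Full :=
    Functor.Full.of_iso hnat
  have hEss : (Over.map (cls (BasedFunctor.comp j'' j))).EssSurj :=
    Functor.essSurj_of_iso hnat
  have hI : IsIso (cls (BasedFunctor.comp j'' j)) := isIso_of_equivalence _ hFull hEss
  refine ⟨asIso (cls (BasedFunctor.comp j'' j)), ⟨?_⟩⟩
  refine BasedNatIso.mkNatIso (NatIso.ofComponents (fun σ =>
    (compIso (BasedFunctor.comp j'' j) (j'.toFunctor.obj σ)).symm ≪≫
      j.toFunctor.mapIso (((BasedNatTrans.forgetful _ _).mapIso ε₁).app σ)) ?_) ?_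
  · intro σ σ' m
    have hn := compIso_nat (BasedFunctor.comp j'' j) (j'.toFunctor.map m)
    have hn' : (Over.map (cls (BasedFunctor.comp j'' j))).map (j'.toFunctor.map m) ≫
        (compIso (BasedFunctor.comp j'' j) (j'.toFunctor.obj σ')).inv =
        (compIso (BasedFunctor.comp j'' j) (j'.toFunctor.obj σ)).inv ≫
          (BasedFunctor.comp j'' j).toFunctor.map (j'.toFunctor.map m) := by
      rw [Iso.comp_inv_eq, Category.assoc, hn, Iso.inv_hom_id_assoc]
    have hε : j''.toFunctor.map (j'.toFunctor.map m) ≫ ε₁.hom.toNatTrans.app σ' =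
        ε₁.hom.toNatTrans.app σ ≫ m := ε₁.hom.toNatTrans.naturality m
    change (Over.map (cls (BasedFunctor.comp j'' j))).map (j'.toFunctor.map m) ≫
        ((compIso (BasedFunctor.comp j'' j) (j'.toFunctor.obj σ')).inv ≫
          j.toFunctor.map (ε₁.hom.toNatTrans.app σ')) =
      ((compIso (BasedFunctor.comp j'' j) (j'.toFunctor.obj σ)).inv ≫
          j.toFunctor.map (ε₁.hom.toNatTrans.app σ)) ≫ j.toFunctor.map m
    rw [← Category.assoc, hn', Category.assoc, Category.assoc, ← j.toFunctor.map_comp, ← hε,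
      j.toFunctor.map_comp]
    rfl
  · intro σ
    have h1 : Vert (𝒳 := overCat X)
        (compIso (BasedFunctor.comp j'' j) (j'.toFunctor.obj σ)).symm.hom :=
      Vert.inv (compIso_vert _ _)
    have h2 : Vert (j.toFunctor.map (ε₁.hom.toNatTrans.app σ)) := (Vert.app ε₁.hom σ).map j
    exact (h1.comp h2).lift ((BasedFunctor.comp j' (overMap _)).w_obj σ)

end Groth.Agent.Lib.Helper27.SliceUnique
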