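import Groth.Agent.Lib.Helper27.FppfLiftSm
import Groth.Agent.Lib.helper19.SmChart5
import Groth.Agent.S10542

set_option autoImplicit false
set_option backward.isDefEq.respectTransparency false
set_option backward.isDefEq.respectTransparency.types false

universe u

open CategoryTheory CategoryTheory.Limits FibCat AlgebraicGeometry Opposite
  Groth.Agent.Lib.Helper27.FpKit Groth.Agent.Lib.Helper27.PointsKit
  Groth.Agent.Lib.Helper27.StPoints Groth.Agent.Lib.Helper27.RepWithComp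
  Groth.Agent.Lib.Helper27.PshKit Groth.Agent.Lib.Helper27.QcImage

namespace Groth.Agent.Lib.Helper27.SmBoot

variable {S : Scheme.{u}}

local infixr:80 " ⊚ " => BasedFunctor.comp

/-- A smooth surjective morphism of schemes has a section after an etale surjective base
change. -/
theorem exists_etale_section {X T : Scheme.{u}} (f : X ⟶ T) [Smooth f]
    (hf : Function.Surjective f) :
    ∃ (T' : Scheme.{u}) (g : T' ⟶ T) (σ : T' ⟶ X), Etale g ∧ Function.Surjective g ∧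
      σ ≫ f = g := by
  have key : ∀ t : T, ∃ (S' : Scheme.{u}) (g : S' ⟶ T) (s' : S'), Etale g ∧ g s' = t ∧
      ∃ h : S' ⟶ X, h ≫ f = g := fun t =>
    Groth.Agent.Lib.Helper19.SmChart5.main f t (hf t)
  choose S' g s' hg hgs h hh using key
  refine ⟨∐ S', Sigma.desc g, Sigma.desc h, ?_, ?_, ?_⟩
  · exact IsZariskiLocalAtSource.sigmaDesc (P := @Etale) hg
  · intro t
    refine ⟨(Sigma.ι S' t) (s' t), ?_⟩
    rw [← Scheme.Hom.comp_apply, Sigma.ι_desc]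
    exact hgs t
  · apply Sigma.hom_ext
    intro t
    rw [← Category.assoc, Sigma.ι_desc, Sigma.ι_desc]
    exact hh t

section Lift

variable {𝒴 : AlgSt.Cat S} {R₀ : AlgSp.Space S} (w : AlgSt.ofSp R₀.obj ⥤ᵇ 𝒴) {U : Over S}
  (y : overCat U ⥤ᵇ 𝒴)

/-- The lift of a chart attached to a map from a scheme to a presentation of the fibre product. -/
theorem nonempty_iso_of_map (G : AlgSp.Space S) (eG : AlgSt.ofSp G.obj ⥤ᵇ fp y w)
    {A : Over S} (a : (AlgSp.yon S).obj A ⟶ G.obj) (h : A ⟶ U)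
    (hh : (AlgSp.yon S).map h = a ≫ AlgSt.spMapOfOver (eG ⊚ fpFst y w)) :
    Nonempty ((AlgSt.ofOverCat A ⊚ (AlgSt.ofSpMap a ⊚ (eG ⊚ fpSnd y w))) ⊚ w ≅
      AlgSt.overMap h ⊚ y) := by
  obtain ⟨π, hπdef⟩ : ∃ π : G.obj ⟶ (AlgSp.yon S).obj U,
    π = AlgSt.spMapOfOver (eG ⊚ fpFst y w) := ⟨_, rfl⟩
  rw [← hπdef] at hh
  have i1 : (eG ⊚ fpSnd y w) ⊚ w ≅ (eG ⊚ fpFst y w) ⊚ y :=
    Groth.Agent.Lib.Helper27.RepCancel.whiskerLeftIso eG (fpIso y w).symm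
  have i2 : (eG ⊚ fpFst y w) ⊚ y ≅ (AlgSt.ofSpMap π ⊚ AlgSt.toOverCat U) ⊚ y := by
    rw [hπdef]
    exact Groth.Agent.Lib.Helper27.RepCancel.whiskerRightIso
      (Groth.Agent.Lib.Helper27.RepChart.structIso _).symm y
  have e3 : AlgSt.ofSpMap a ⊚ ((AlgSt.ofSpMap π ⊚ AlgSt.toOverCat U) ⊚ y) =
      AlgSt.ofSpMap (a ≫ π) ⊚ (AlgSt.toOverCat U ⊚ y) := rfl
  have e4 : AlgSt.ofSpMap ((AlgSp.yon S).map h) ⊚ (AlgSt.toOverCat U ⊚ y) =
      AlgSt.toOverCat A ⊚ (AlgSt.overMap h ⊚ y) := rfl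
  have e34 : AlgSt.ofSpMap (a ≫ π) ⊚ (AlgSt.toOverCat U ⊚ y) =
      AlgSt.ofSpMap ((AlgSp.yon S).map h) ⊚ (AlgSt.toOverCat U ⊚ y) := by rw [hh]
  have i5 : AlgSt.ofSpMap a ⊚ ((eG ⊚ fpSnd y w) ⊚ w) ≅
      AlgSt.toOverCat A ⊚ (AlgSt.overMap h ⊚ y) :=
    Groth.Agent.Lib.Helper27.RepCancel.whiskerLeftIso (AlgSt.ofSpMap a) (i1 ≪≫ i2) ≪≫
      eqToIso (e3.trans (e34.trans e4))
  exact ⟨Groth.Agent.Lib.Helper27.RepCancel.whiskerLeftIso (AlgSt.ofOverCat A) i5 ≪≫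
    Groth.Agent.Lib.Helper27.RepCancel.whiskerRightIso
      (Groth.Agent.Lib.Helper27.RepChart.ofToIso A) (AlgSt.overMap h ⊚ y)⟩

/-- Charts lift, etale locally, along smooth surjective functors from algebraic spaces. -/
theorem exists_etale_lift (hw₁ : AlgSt.RepByAlgSpWith (AlgSp.LocP @Smooth) w)
    (hw₃ : AlgSt.RepByAlgSpWith AlgSp.IsSurjectiveMor w) :
    ∃ (A : Over S) (h : A ⟶ U) (l : overCat A ⥤ᵇ AlgSt.ofSp R₀.obj), Etale h.left ∧
      Function.Surjective h.left ∧ Nonempty (l ⊚ w ≅ AlgSt.overMap h ⊚ y) := by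
  have hsm : AlgSp.IsLocalOnBase AlgSp.IsFppfCover
      (AlgSp.LocP @Smooth : MorphismProperty (AlgSp.Sp S)) :=
    isLocalOnBase_fppf_of_fpqc _ (Groth.Agent.S10542.result S)
  have hw : AlgSt.RepByAlgSpWith (AlgSp.IsSurjectiveMor ⊓ AlgSp.LocP @Smooth) w :=
    Groth.Agent.Lib.Helper27.SepDiag.repByAlgSpWith_inf w _ _ hsm hw₃ hw₁
  obtain ⟨G, eG, heG, hπ⟩ := hw U y
  obtain ⟨π, hπdef⟩ : ∃ π : G.obj ⟶ (AlgSp.yon S).obj U,
    π = AlgSt.spMapOfOver (eG ⊚ fpFst y w) := ⟨_, rfl⟩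
  rw [← hπdef] at hπ
  obtain ⟨A, a, hae, has⟩ := G.property.atlas
  obtain ⟨h, hh⟩ : ∃ h : A ⟶ U, (AlgSp.yon S).map h = a ≫ π :=
    ⟨(AlgSp.yon S).preimage (a ≫ π), (AlgSp.yon S).map_preimage _⟩
  have hcomm : a ≫ π = (AlgSp.yon S).map h ≫ 𝟙 _ := by rw [Category.comp_id, hh]
  have h1 : Smooth h.left := hπ.2 a (𝟙 _) h hae (AlgSp.repWith_id @Etale U) hcomm
  have h3 : Function.Surjective h.left := by
    apply Groth.Agent.Lib.Helper3.surjective_of_isSurjectiveMor_yon_map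
    rw [hh]
    exact Groth.Agent.Lib.Helper3.isSurjectiveMor_comp
      (Groth.Agent.Lib.Helper3.isSurjectiveMor_of_repWith has) hπ.1
  obtain ⟨T', g, σ, hg, hgs, hσ⟩ := exists_etale_section h.left h3
  have hkw : σ ≫ A.hom = g ≫ U.hom := by
    have h2 : h.left ≫ U.hom = A.hom := Over.w h
    rw [← h2, ← Category.assoc, hσ]
  obtain ⟨A', h', k, hh'₁, hh'₂, hk⟩ : ∃ (A' : Over S) (h' : A' ⟶ U) (k : A' ⟶ A),
      Etale h'.left ∧ Function.Surjective h'.left ∧ k ≫ h = h' := by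
    refine ⟨Over.mk (g ≫ U.hom), Over.homMk g rfl, Over.homMk σ hkw, hg, hgs, ?_⟩
    apply Over.OverMorphism.ext
    exact hσ
  refine ⟨A', h', AlgSt.ofOverCat A' ⊚ (AlgSt.ofSpMap ((AlgSp.yon S).map k ≫ a) ⊚
    (eG ⊚ fpSnd y w)), ?_, ?_, ?_⟩
  · exact hh'₁
  · exact hh'₂
  · apply nonempty_iso_of_map w y G eG ((AlgSp.yon S).map k ≫ a) h'
    rw [← hπdef, Category.assoc, ← hh, ← Functor.map_comp, hk]

end Lift

end Groth.Agent.Lib.Helper27.SmBoot
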