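import Groth.Agent.Lib.Helper27.SmBoot
import Groth.Agent.Lib.Helper27.DiagIff
import Groth.Agent.Lib.Helper27.LocQOver
import Groth.Agent.Lib.Helper27.QcStack
import Groth.Agent.Lib.Helper27.AlgStackFp
import Groth.Agent.Lib.Helper27.AlgStackRep
import Groth.Agent.S9873

/-!
# Smooth bootstrap of the diagonal (helper27)

If a stack in groupoids `𝒳` admits a smooth surjective functor, representable by algebraic spaces,
from an algebraic space, then every chart of `𝒳` is representable by algebraic spaces.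
-/

set_option autoImplicit false
set_option backward.isDefEq.respectTransparency false
set_option backward.isDefEq.respectTransparency.types false

universe u

open CategoryTheory CategoryTheory.Limits FibCat AlgebraicGeometry Opposite
  Groth.Agent.Lib.Helper27.FpKit Groth.Agent.Lib.Helper27.PshKit
  Groth.Agent.Lib.Helper27.RepWithComp Groth.Agent.Lib.Helper27.Descent
  Groth.Agent.Lib.Helper27.BaseChangePres Groth.Agent.Lib.Helper27.PshRep

namespace Groth.Agent.Lib.Helper27.SmBoot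

variable {S : Scheme.{u}}

local infixr:80 " ⊚ " => BasedFunctor.comp

section Thin

variable {𝒳 𝒴 𝒵 : AlgSt.Cat S}

theorem thin_fp' (f : 𝒳 ⥤ᵇ 𝒴) (g : 𝒵 ⥤ᵇ 𝒴) (hX : AlgSt.RepByAlgSp 𝒳) (hZ : AlgSt.RepByAlgSp 𝒵)
    (U : Over S) : Quiver.IsThin ((FibCat.fp g f).p.Fiber U) := by
  rw [Groth.Agent.Lib.Helper27.StackFp.thin_iff]
  intro t t' Φ Ψ hΦ hΨ
  have h1 : Φ.hom.fst = Ψ.hom.fst :=
    Groth.Agent.Lib.Helper27.MonoFF.vert_ext_of_rep hZ _ _
      (Vert.of_lift (Groth.Agent.Lib.Helper27.StackFp.fst_lift Φ _ hΦ))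
      (Vert.of_lift (Groth.Agent.Lib.Helper27.StackFp.fst_lift Ψ _ hΨ))
  have h2 : Φ.hom.snd = Ψ.hom.snd :=
    Groth.Agent.Lib.Helper27.MonoFF.vert_ext_of_rep hX _ _
      (Vert.of_lift (Groth.Agent.Lib.Helper27.StackFp.snd_lift Φ _ hΦ))
      (Vert.of_lift (Groth.Agent.Lib.Helper27.StackFp.snd_lift Ψ _ hΨ))
  exact Groth.Agent.Lib.Helper27.StackFp.hom_ext' h1 h2

end Thin

section Space

theorem isAlgSpace_of_repByAlgSp {P : AlgSp.Sp S} (h : AlgSt.RepByAlgSp (AlgSt.ofSp P)) :
    AlgSp.IsAlgSpace P := by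
  obtain ⟨X, e, he⟩ := h
  have hiso' : IsIso (pshMapOf e) := isIso_pshMapOf e he
  have := isIso_homMk (F₁ := X.obj) (F₂ := P) (pshMapOf e) hiso'
  exact X.property.of_iso (asIso (ObjectProperty.homMk (pshMapOf e) : X.obj ⟶ P))

/-- A sheaf which becomes an algebraic space after an etale surjective base change of a
representable target is an algebraic space. -/
theorem isAlgSpace_of_pullback {F : AlgSp.Sp S} {T T₀ : Over S} (a : F ⟶ (AlgSp.yon S).obj T)
    (g : T₀ ⟶ T) (hg : Etale g.left) (hgs : Function.Surjective g.left)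
    {X : AlgSp.Sp S} {fst : X ⟶ F} {snd : X ⟶ (AlgSp.yon S).obj T₀}
    (sq : IsPullback fst snd a ((AlgSp.yon S).map g)) (hX : AlgSp.IsAlgSpace X) :
    AlgSp.IsAlgSpace F := by
  have he : AlgSp.RepWith @Etale fst :=
    MorphismProperty.of_isPullback sq.flip ((AlgSp.repWith_yon_map_iff @Etale g).2 hg)
  have hs : AlgSp.RepWith @Surjective fst :=
    MorphismProperty.of_isPullback sq.flip ((AlgSp.repWith_yon_map_iff @Surjective g).2 ⟨hgs⟩)
  exact Groth.Agent.S9873.result S ⟨X, hX⟩ F fst he hs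

end Space

end Groth.Agent.Lib.Helper27.SmBoot
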