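import Groth.Agent.Lib.Helper27.SmBoot2

set_option autoImplicit false
set_option backward.isDefEq.respectTransparency false
set_option backward.isDefEq.respectTransparency.types false

universe u

open CategoryTheory CategoryTheory.Limits FibCat AlgebraicGeometry Opposite
  Groth.Agent.Lib.Helper27.FpKit Groth.Agent.Lib.Helper27.PshKit
  Groth.Agent.Lib.Helper27.RepWithComp Groth.Agent.Lib.Helper27.Descent
  Groth.Agent.Lib.Helper27.BaseChangePres Groth.Agent.Lib.Helper27.PshRep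

namespace Groth.Agent.Lib.Helper27.SmBoot

variable {S : Scheme.{u}}

local infixr:80 " ⊚ " => BasedFunctor.comp

section Chart

variable {𝒳 : AlgSt.Cat S}

/-- Charts whose pullback along an etale surjective map is representable by algebraic spaces are
representable by algebraic spaces. -/
theorem repByAlgSp_fp_of_etale (h𝒳 : Stk.IsStack (AlgSp.J S) 𝒳) {U U' V : Over S}
    (x : overCat U ⥤ᵇ 𝒳) (h : U' ⟶ U) (hh₁ : Etale h.left) (hh₃ : Function.Surjective h.left)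
    (z : overCat V ⥤ᵇ 𝒳)
    (hx' : AlgSt.RepByAlgSp (fp z (AlgSt.overMap h ⊚ x))) :
    AlgSt.RepByAlgSp (fp z x) := by
  have hfU : FibCat.IsFibGrpd (overCat U).p := Groth.Agent.Lib.Helper27.ReprAux.isFibGrpd_overCat U
  have hfV : FibCat.IsFibGrpd (overCat V).p := Groth.Agent.Lib.Helper27.ReprAux.isFibGrpd_overCat V
  -- reduce to the first slot
  apply Groth.Agent.Lib.Helper27.FpRepSp2.repByAlgSp_of_equiv _
    (Groth.Agent.Lib.Helper27.FpSwap.isEquivOver_swap x z)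
  apply Groth.Agent.Lib.Helper27.DiagIff.repByAlgSp_of_equiv' (toSp z x) (isEquivOver_toSp z x)
  obtain ⟨y', hy'⟩ : ∃ y' : AlgSt.ofSp ((AlgSp.yon S).obj U) ⥤ᵇ 𝒳, y' = AlgSt.toOverCat U ⊚ x :=
    ⟨_, rfl⟩
  rw [← hy']
  -- the fibre product is a stack fibred in setoids
  have hst : Stk.IsStack (AlgSp.J S) (fp y' z) :=
    Groth.Agent.Lib.Helper27.StackFp.isStack_fp _ y' z
      (Groth.Agent.Lib.Helper27.AlgStackRep.isStack_ofSp _)
      (Groth.Agent.Lib.Helper27.QcStack.isStack_overCat V)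
      (Groth.Agent.Lib.Helper27.AlgStackFp.isPrestack_of_isStack h𝒳)
  have hrepU : AlgSt.RepByAlgSp (AlgSt.ofSp ((AlgSp.yon S).obj U)) :=
    ⟨⟨(AlgSp.yon S).obj U, AlgSp.IsAlgSpace.yon_obj U⟩, BasedFunctor.id _, isEquivOver_id _⟩
  obtain ⟨W, E, hE⟩ := Groth.Agent.Lib.Helper27.FpRepSp.exists_psh_of_fibSetoid hst.1
    (thin_fp' z y' (Groth.Agent.Lib.Helper27.FpRepSp2.repByAlgSp_overCat V) hrepU)
  have hstW : Stk.IsStack (AlgSp.J S) (Stk.ofPsh W) :=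
    (Groth.Agent.Lib.Helper27.EquivOverAux.isStack_iff (AlgSp.J S) E hE).1 hst
  have hshW : Presheaf.IsSheaf (AlgSp.J S) W :=
    (isSheaf_iff_isSheaf_of_type _ _).2
      ((Groth.Agent.Lib.Helper27.StackPsh.isStack_iff_isSheaf (AlgSp.J S)).1 hstW)
  obtain ⟨F, hF⟩ : ∃ F : AlgSp.Sp S, F.obj = W := ⟨⟨W, hshW⟩, rfl⟩
  subst hF
  obtain ⟨e, he, -, -⟩ := exists_inverse E hE
  obtain ⟨π, hπ⟩ : ∃ π : F ⟶ (AlgSp.yon S).obj U,
    π = ObjectProperty.homMk (pshMapOf (e ⊚ fpFst y' z)) := ⟨_, rfl⟩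
  have sqS : IsPullback (pullback.fst π ((AlgSp.yon S).map h))
      (pullback.snd π ((AlgSp.yon S).map h)) π ((AlgSp.yon S).map h) :=
    IsPullback.of_hasPullback _ _
  have sqP : IsPullback (pullback.fst π ((AlgSp.yon S).map h)).hom
      (pullback.snd π ((AlgSp.yon S).map h)).hom (pshMapOf (e ⊚ fpFst y' z))
      ((AlgSp.yon S).map h).hom := by
    have := sqS.map (sheafToPresheaf (AlgSp.J S) (Type (u + 1)))
    rw [hπ] at this
    rw [hπ]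
    exact this
  have hΞ := isEquivOver_Ξ z y' e he ((AlgSp.yon S).map h) sqP
  have hrep' : AlgSt.RepByAlgSp (fp (AlgSt.ofSpMap ((AlgSp.yon S).map h) ⊚ y') z) := by
    rw [hy']
    change AlgSt.RepByAlgSp (fp (AlgSt.toOverCat U' ⊚ (AlgSt.overMap h ⊚ x)) z)
    apply Groth.Agent.Lib.Helper27.FpRepSp2.repByAlgSp_of_equiv _
      (isEquivOver_toSp z (AlgSt.overMap h ⊚ x))
    apply Groth.Agent.Lib.Helper27.FpRepSp2.repByAlgSp_of_equiv _
      (Groth.Agent.Lib.Helper27.FpSwap.isEquivOver_swap z (AlgSt.overMap h ⊚ x))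
    exact hx'
  have hP : AlgSp.IsAlgSpace (pullback π ((AlgSp.yon S).map h)) :=
    isAlgSpace_of_repByAlgSp
      (Groth.Agent.Lib.Helper27.DiagIff.repByAlgSp_of_equiv' _ hΞ hrep')
  have hFalg : AlgSp.IsAlgSpace F := isAlgSpace_of_pullback π h hh₁ hh₃ sqS hP
  exact ⟨⟨F, hFalg⟩, e, he⟩

/-- If `𝒳` has a smooth surjective presentation by an algebraic space then every chart of `𝒳` is
representable by algebraic spaces. -/
theorem repByAlgSp1_chart (h𝒳 : Stk.IsStack (AlgSp.J S) 𝒳) {R₀ : AlgSp.Space S}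
    (w : AlgSt.ofSp R₀.obj ⥤ᵇ 𝒳) (hw₁ : AlgSt.RepByAlgSpWith (AlgSp.LocP @Smooth) w)
    (hw₃ : AlgSt.RepByAlgSpWith AlgSp.IsSurjectiveMor w) {U : Over S} (x : overCat U ⥤ᵇ 𝒳) :
    AlgSt.RepByAlgSp1 x := by
  intro V z
  obtain ⟨U', h, l, hh₁, hh₃, ⟨κ⟩⟩ := exists_etale_lift w x hw₁ hw₃
  apply repByAlgSp_fp_of_etale h𝒳 x h hh₁ hh₃ z
  have hfU' : FibCat.IsFibGrpd (overCat U').p :=
    Groth.Agent.Lib.Helper27.ReprAux.isFibGrpd_overCat U'
  have hfR : FibCat.IsFibGrpd (AlgSt.ofSp R₀.obj).p :=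
    (Groth.Agent.Lib.Helper27.AlgStackRep.isStack_ofSp R₀.obj).1
  have hrepR : AlgSt.RepByAlgSp (AlgSt.ofSp R₀.obj) := ⟨R₀, BasedFunctor.id _, isEquivOver_id _⟩
  have hl : AlgSt.RepByAlgSpWith ⊤ l :=
    (Groth.Agent.Lib.Helper27.AlgStackEquiv.repByAlgSp1_iff l).1
      (Groth.Agent.Lib.Helper27.PshRepSp.repByAlgSp1_of_repByAlgSp
        (Groth.Agent.Lib.Helper27.FpRepSp2.repByAlgSp_overCat U') hrepR l)
  have hw : AlgSt.RepByAlgSpWith ⊤ w :=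
    Groth.Agent.Lib.Helper27.SepDiag.repByAlgSpWith_mono w (fun _ _ _ _ => trivial) hw₁
  have hlw : AlgSt.RepByAlgSpWith ⊤ (l ⊚ w) := comp_gen ⊤ compHyp_top hfU' hfR l w hl hw
  have hx' := Groth.Agent.Lib.Helper27.LocQOver.repByAlgSpWith_of_iso ⊤ κ hlw
  obtain ⟨G, eG, heG, -⟩ := hx' V z
  exact ⟨G, eG, heG⟩

/-- A stack in groupoids with a smooth surjective presentation by an algebraic space is an
algebraic stack. -/
theorem isAlgStack_of_space (h𝒳 : Stk.IsStack (AlgSp.J S) 𝒳) {R₀ : AlgSp.Space S}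
    (w : AlgSt.ofSp R₀.obj ⥤ᵇ 𝒳) (hw₁ : AlgSt.RepByAlgSpWith (AlgSp.LocP @Smooth) w)
    (hw₃ : AlgSt.RepByAlgSpWith AlgSp.IsSurjectiveMor w) :
    AlgSt.IsAlgStack Scheme.fppfPrecoverage 𝒳 where
  isStack := h𝒳
  diag := (Groth.Agent.Lib.Helper27.DiagIff.repByAlgSp1_diag_iff h𝒳.1).2
    (fun U x => repByAlgSp1_chart h𝒳 w hw₁ hw₃ x)
  atlas := by
    obtain ⟨U, c, hc₁, hc₂⟩ := Groth.Agent.Lib.Helper27.LocQOver.exists_atlas_of_equiv R₀
      (BasedFunctor.id _) (isEquivOver_id _)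
    have hfU : FibCat.IsFibGrpd (overCat U).p :=
      Groth.Agent.Lib.Helper27.ReprAux.isFibGrpd_overCat U
    have hfR : FibCat.IsFibGrpd (AlgSt.ofSp R₀.obj).p :=
      (Groth.Agent.Lib.Helper27.AlgStackRep.isStack_ofSp R₀.obj).1
    exact ⟨U, c ⊚ w,
      comp_gen _ (compHyp_locP Groth.Agent.Lib.Helper3.isEtLocal_smooth) hfU hfR c w hc₁ hw₁,
      comp_gen _ Groth.Agent.Lib.Helper27.DiagLft.compHyp_isSurjectiveMor hfU hfR c w hc₂ hw₃⟩

/-- A stack in groupoids with a smooth surjective functor, representable by algebraic spaces, from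
a category representable by an algebraic space is an algebraic stack. -/
theorem isAlgStack_of_rep (h𝒳 : Stk.IsStack (AlgSp.J S) 𝒳) {𝒰 : AlgSt.Cat S}
    (hU : AlgSt.RepByAlgSp 𝒰) (f : 𝒰 ⥤ᵇ 𝒳)
    (hf₁ : AlgSt.RepByAlgSpWith (AlgSp.LocP @Smooth) f)
    (hf₃ : AlgSt.RepByAlgSpWith AlgSp.IsSurjectiveMor f) :
    AlgSt.IsAlgStack Scheme.fppfPrecoverage 𝒳 := by
  obtain ⟨A, e, he⟩ := hU
  exact isAlgStack_of_space h𝒳 (e ⊚ f)
    (Groth.Agent.Lib.Helper27.LocQOver.repByAlgSpWith_equiv_comp _ e he f hf₁)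
    (Groth.Agent.Lib.Helper27.LocQOver.repByAlgSpWith_equiv_comp _ e he f hf₃)

/-- Descent of algebraicity along a smooth surjective base change. -/
theorem isAlgStack_of_fp {𝒴 : AlgSt.Cat S} (h𝒳 : Stk.IsStack (AlgSp.J S) 𝒳)
    (f : 𝒳 ⥤ᵇ 𝒴) {𝒵 : AlgSt.Cat S} (z : 𝒵 ⥤ᵇ 𝒴)
    (hz₁ : AlgSt.RepByAlgSpWith (AlgSp.LocP @Smooth) z)
    (hz₃ : AlgSt.RepByAlgSpWith AlgSp.IsSurjectiveMor z)
    (hfp : AlgSt.IsAlgStack Scheme.fppfPrecoverage (fp z f)) :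
    AlgSt.IsAlgStack Scheme.fppfPrecoverage 𝒳 := by
  obtain ⟨V, c, hc₁, hc₃⟩ := hfp.atlas
  have hfV : FibCat.IsFibGrpd (overCat V).p :=
    Groth.Agent.Lib.Helper27.ReprAux.isFibGrpd_overCat V
  have hffp : FibCat.IsFibGrpd (fp z f).p := hfp.isStack.1
  exact isAlgStack_of_rep h𝒳 (Groth.Agent.Lib.Helper27.FpRepSp2.repByAlgSp_overCat V)
    (c ⊚ fpSnd z f)
    (comp_gen _ (compHyp_locP Groth.Agent.Lib.Helper3.isEtLocal_smooth) hfV hffp c _ hc₁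
      (Groth.Agent.Lib.Helper27.FpSwap.repByAlgSpWith_fpSnd _ f z hz₁))
    (comp_gen _ Groth.Agent.Lib.Helper27.DiagLft.compHyp_isSurjectiveMor hfV hffp c _ hc₃
      (Groth.Agent.Lib.Helper27.FpSwap.repByAlgSpWith_fpSnd _ f z hz₃))

end Chart

end Groth.Agent.Lib.Helper27.SmBoot
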