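import Groth.Agent.Lib.helper19.SmChart5
import Groth.Agent.Lib.Helper3.AlgSpChartSurj

/-!
# Smooth coverings of algebraic spaces are refined by etale coverings (helper27)
-/

set_option autoImplicit false
set_option backward.isDefEq.respectTransparency false
set_option backward.isDefEq.respectTransparency.types false

universe u

open CategoryTheory CategoryTheory.Limits AlgebraicGeometry Opposite AlgSp Groth.Agent.Lib.Helper3

namespace Groth.Agent.Lib.Helper27.SmRefine

variable {S : Scheme.{u}}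

/-- Local form: through every point of an etale chart of the target of a smooth morphism hitting
that point, there is an etale neighbourhood over which the morphism has a section. -/
theorem exists_local_lift {X Y : Sp S} (hX : IsAlgSpace X) (hY : IsAlgSpace Y) (f : X ⟶ Y)
    (hf : LocP @Smooth f) {V : Over S} (p : (yon S).obj V ⟶ Y) (hpe : RepWith @Etale p)
    (v : ↥V.left) (ξ : Points X) (hξ : Points.map f ξ = Points.map p (Points.schemeHomeo V v)) :
    ∃ (T : Over S) (e : T ⟶ V) (t : ↥T.left) (r : (yon S).obj T ⟶ X), Etale e.left ∧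
      e.left t = v ∧ r ≫ f = (yon S).map e ≫ p := by
  obtain ⟨U, u, h, hue, hus, hce, -, hh, hw⟩ := exists_chart_over hX hY f p hpe
  have hsm : Smooth h.left := hf (u ≫ pullback.fst f p) p h hce hpe hw
  obtain ⟨z, hz1, hz2⟩ := Points.exists_of_isPullback (IsPullback.of_hasPullback f p) ξ
    (Points.schemeHomeo V v) hξ
  obtain ⟨w, hw0⟩ := exists_ofPt_eq u hus z
  have hw0' : Points.map u (Points.schemeHomeo U w) = z := by
    rw [← hw0]; exact (Points.ofPt_eq_map_ofScheme u w).symm
  have hwv : h.left w = v := by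
    apply (Points.schemeHomeo V).injective
    rw [← Points.map_yon_map_apply, hh, Points.map_comp, hw0', hz2]
  obtain ⟨S', g, s', hg, hgs, k, hk⟩ :=
    Groth.Agent.Lib.Helper19.SmChart5.main h.left v ⟨w, hwv⟩
  have hkw : k ≫ U.hom = g ≫ V.hom := by
    have h2 : h.left ≫ V.hom = U.hom := Over.w h
    rw [← h2, ← Category.assoc, hk]
  obtain ⟨T, e, k', t, he₁, he₂, hk'⟩ : ∃ (T : Over S) (e : T ⟶ V) (k' : T ⟶ U) (t : ↥T.left),
      Etale e.left ∧ e.left t = v ∧ k' ≫ h = e := by
    refine ⟨Over.mk (g ≫ V.hom), Over.homMk g rfl, Over.homMk k hkw, s', hg, hgs, ?_⟩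
    apply Over.OverMorphism.ext
    exact hk
  refine ⟨T, e, t, (yon S).map k' ≫ u ≫ pullback.fst f p, he₁, he₂, ?_⟩
  have h1 : ((yon S).map k' ≫ u ≫ pullback.fst f p) ≫ f =
      (yon S).map k' ≫ ((u ≫ pullback.fst f p) ≫ f) := by
    simp only [Category.assoc]
  rw [h1, hw, ← Category.assoc, ← Functor.map_comp, hk']

/-- A smooth covering of an algebraic space by algebraic spaces is refined by an etale covering by
schemes. -/
theorem exists_refinement (X : Space S) {ι : Type u} (Xi : ι → Space S) (g : ∀ i, Xi i ⟶ X)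
    (h : IsSmCover (fun i => (Xi i).obj) (fun i => (g i).hom)) :
    ∃ (κ : Type u) (U : κ → Space S) (c : ∀ j, U j ⟶ X),
      IsEtCover (fun j => (U j).obj) (fun j => (c j).hom) ∧
      ∀ j, ∃ (i : ι) (r : U j ⟶ Xi i), r ≫ g i = c j := by
  obtain ⟨V, p, hpe, hps⟩ := X.property.atlas
  have key : ∀ v : ↥V.left, ∃ (i : ι) (T : Over S) (e : T ⟶ V) (t : ↥T.left)
      (r : (yon S).obj T ⟶ (Xi i).obj), Etale e.left ∧ e.left t = v ∧
      r ≫ (g i).hom = (yon S).map e ≫ p := by
    intro v
    obtain ⟨i, ξ, hξ⟩ := h.2 (Points.map p (Points.schemeHomeo V v))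
    obtain ⟨T, e, t, r, h1, h2, h3⟩ := exists_local_lift (Xi i).property X.property (g i).hom
      (h.1 i) p hpe v ξ hξ
    exact ⟨i, T, e, t, r, h1, h2, h3⟩
  choose i T e t r he₁ he₂ hr using key
  refine ⟨↥V.left, fun v => ⟨(yon S).obj (T v), IsAlgSpace.yon_obj (T v)⟩,
    fun v => ObjectProperty.homMk ((yon S).map (e v) ≫ p), ⟨?_, ?_⟩, ?_⟩
  · intro v W φ hφ
    exact MorphismProperty.comp_mem _ _ _ hφ
      (MorphismProperty.comp_mem _ _ _ ((repWith_yon_map_iff @Etale (e v)).2 (he₁ v)) hpe)
  · intro x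
    obtain ⟨y, hy⟩ := surjective_map_of_repWith hps x
    obtain ⟨v, rfl⟩ := (Points.schemeHomeo V).surjective y
    refine ⟨v, Points.schemeHomeo (T v) (t v), ?_⟩
    change Points.map ((yon S).map (e v) ≫ p) _ = x
    rw [Points.map_comp, Points.map_yon_map_apply, he₂ v, hy]
  · intro v
    refine ⟨i v, ObjectProperty.homMk (r v), ?_⟩
    apply ObjectProperty.hom_ext
    exact hr v

end Groth.Agent.Lib.Helper27.SmRefine
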