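import Mathlib.RingTheory.FinitePresentation
import Mathlib.RingTheory.Localization.Away.AdjoinRoot
import Mathlib.RingTheory.Localization.Ideal
import Mathlib.RingTheory.Polynomial.Basic
import Mathlib.RingTheory.Ideal.Quotient.Operations
import Mathlib.RingTheory.Ideal.Maximal

/-!
# Descent of finite type / finite presentation along `B ⟶ B[x]_F`

For a polynomial `F` over `B` in several variables with a unit coefficient, the ring map
`B ⟶ B[x]_F` is faithfully flat; we prove directly (through the content of the powers of `F`) that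
finite type and finite presentation over a base ring `A` descend along it.
-/

set_option autoImplicit false

open MvPolynomial

namespace Groth.Agent.Lib.Helper27.SmSrcAlg

/-- If a multivariate polynomial has a unit coefficient, the coefficients of each of its powers
generate the unit ideal. -/
theorem span_coeff_pow_eq_top {R σ : Type*} [CommRing R] (F : MvPolynomial σ R) (m : σ →₀ ℕ)
    (hu : IsUnit (F.coeff m)) (N : ℕ) :
    Ideal.span (Set.range fun k => (F ^ N).coeff k) = ⊤ := by
  by_contra h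
  obtain ⟨M, hM, hle⟩ := Ideal.exists_le_maximal _ h
  have h0 : (MvPolynomial.map (Ideal.Quotient.mk M) (F ^ N)) = 0 := by
    ext k
    rw [MvPolynomial.coeff_map, MvPolynomial.coeff_zero, Ideal.Quotient.eq_zero_iff_mem]
    exact hle (Ideal.subset_span ⟨k, rfl⟩)
  rw [map_pow] at h0
  have hF : MvPolynomial.map (Ideal.Quotient.mk M) F ≠ 0 := by
    intro h1
    have h2 := congrArg (MvPolynomial.coeff m) h1
    rw [MvPolynomial.coeff_map, MvPolynomial.coeff_zero, Ideal.Quotient.eq_zero_iff_mem] at h2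
    exact hM.ne_top (Ideal.eq_top_of_isUnit_mem _ h2 hu)
  have : IsDomain (R ⧸ M) := Ideal.Quotient.isDomain M
  exact hF (eq_zero_of_pow_eq_zero h0)
  
/-- If `b` multiplies all coefficients of a power of a polynomial over a subalgebra `B₀` with a unit
coefficient into `B₀`, then `b ∈ B₀`. -/
theorem mem_of_forall_mul_coeff_pow_mem {A B σ : Type*} [CommRing A] [CommRing B] [Algebra A B]
    (B₀ : Subalgebra A B) (F₀ : MvPolynomial σ B₀) (m : σ →₀ ℕ) (hu : IsUnit (F₀.coeff m))
    (N : ℕ) (b : B)
    (hb : ∀ k, b * ((MvPolynomial.map (algebraMap B₀ B) F₀) ^ N).coeff k ∈ B₀) : b ∈ B₀ := by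
  have h1 := span_coeff_pow_eq_top F₀ m hu N
  have h2 : ∀ y ∈ Ideal.span (Set.range fun k => (F₀ ^ N).coeff k), b * (y : B) ∈ B₀ := by
    intro y hy
    induction hy using Submodule.span_induction with
    | mem y hy =>
      obtain ⟨k, rfl⟩ := hy
      have := hb k
      rw [← map_pow, MvPolynomial.coeff_map] at this
      exact this
    | zero => simp
    | add x y _ _ hx hy =>
      have : b * ((x + y : B₀) : B) = b * (x : B) + b * (y : B) := by
        rw [Subalgebra.coe_add, mul_add]
      rw [this]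
      exact B₀.add_mem hx hy
    | smul r x _ hx =>
      have : b * ((r • x : B₀) : B) = (r : B) * (b * (x : B)) := by
        rw [smul_eq_mul, Subalgebra.coe_mul]; ring
      rw [this]
      exact B₀.mul_mem r.2 hx
  have h3 := h2 1 (by rw [h1]; trivial)
  simpa using h3

section

variable {A B L σ : Type*} [CommRing A] [CommRing B] [CommRing L] [Algebra A B]
    [Algebra (MvPolynomial σ B) L] [Algebra A L] [IsScalarTower A (MvPolynomial σ B) L]

/-- The elements of the localisation `B[x]_F` which can be written with numerator having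
coefficients in the subalgebra `B₀`. -/
def fracSub (B₀ : Subalgebra A B) (F₀ : MvPolynomial σ B₀) : Subalgebra A L where
  carrier := {z | ∃ (k : ℕ) (p₀ : MvPolynomial σ B₀),
    z * algebraMap (MvPolynomial σ B) L (MvPolynomial.map (algebraMap B₀ B) F₀ ^ k) =
      algebraMap (MvPolynomial σ B) L (MvPolynomial.map (algebraMap B₀ B) p₀)}
  mul_mem' := by
    rintro z₁ z₂ ⟨k₁, p₁, h₁⟩ ⟨k₂, p₂, h₂⟩
    refine ⟨k₁ + k₂, p₁ * p₂, ?_⟩
    rw [pow_add, map_mul, map_mul, map_mul, ← h₁, ← h₂]
    ring
  add_mem' := by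
    rintro z₁ z₂ ⟨k₁, p₁, h₁⟩ ⟨k₂, p₂, h₂⟩
    refine ⟨k₁ + k₂, p₁ * F₀ ^ k₂ + p₂ * F₀ ^ k₁, ?_⟩
    simp only [pow_add, map_mul, map_add, map_pow] at h₁ h₂ ⊢
    rw [← h₁, ← h₂]
    ring
  algebraMap_mem' := by
    intro a
    refine ⟨0, MvPolynomial.C (algebraMap A B₀ a), ?_⟩
    rw [pow_zero, map_one, mul_one, MvPolynomial.map_C,
      IsScalarTower.algebraMap_apply A (MvPolynomial σ B) L, MvPolynomial.algebraMap_apply]
    rfl

theorem mem_fracSub_iff (B₀ : Subalgebra A B) (F₀ : MvPolynomial σ B₀) (z : L) :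
    z ∈ fracSub (L := L) B₀ F₀ ↔ ∃ (k : ℕ) (p₀ : MvPolynomial σ B₀),
    z * algebraMap (MvPolynomial σ B) L (MvPolynomial.map (algebraMap B₀ B) F₀ ^ k) =
      algebraMap (MvPolynomial σ B) L (MvPolynomial.map (algebraMap B₀ B) p₀) := Iff.rfl

/-- Descent of finite type along `B ⟶ B[x]_F` for `F` with a unit coefficient. -/
theorem finiteType_of_away (F : MvPolynomial σ B) [IsLocalization.Away F L] (m : σ →₀ ℕ)
    (hu : IsUnit (F.coeff m)) (h : Algebra.FiniteType A L) : Algebra.FiniteType A B := by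
  classical
  obtain ⟨s, hs⟩ := h.out
  choose k p hkp using fun g : L => IsLocalization.Away.surj F g
  obtain ⟨d, hd⟩ := hu.exists_right_inv
  let T : Finset B := (s.biUnion fun g => (p g).coeffs) ∪ F.coeffs ∪ {d}
  let B₀ : Subalgebra A B := Algebra.adjoin A (T : Set B)
  have hT : (T : Set B) ⊆ B₀ := Algebra.subset_adjoin
  have hrange : Set.range (algebraMap B₀ B) = (B₀ : Set B) := by
    ext x
    constructor
    · rintro ⟨y, rfl⟩
      exact y.2
    · intro hx
      exact ⟨⟨x, hx⟩, rfl⟩
  have hlift : ∀ q : MvPolynomial σ B, (q.coeffs : Set B) ⊆ T →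
      ∃ q₀ : MvPolynomial σ B₀, MvPolynomial.map (algebraMap B₀ B) q₀ = q := by
    intro q hq
    have : q ∈ Set.range (MvPolynomial.map (algebraMap B₀ B)) := by
      rw [MvPolynomial.mem_range_map_iff_coeffs_subset, hrange]
      exact hq.trans hT
    exact this
  obtain ⟨F₀, hF₀⟩ := hlift F (by
    intro x hx
    simp only [T, Finset.coe_union, Set.mem_union]
    exact Or.inl (Or.inr hx))
  have hd₀ : d ∈ B₀ := hT (by simp [T])
  have hu₀ : IsUnit (F₀.coeff m) := by
    refine IsUnit.of_mul_eq_one ⟨d, hd₀⟩ ?_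
    apply Subtype.ext
    rw [Subalgebra.coe_mul, Subalgebra.coe_one]
    have : ((F₀.coeff m : B₀) : B) = F.coeff m := by
      rw [← hF₀, MvPolynomial.coeff_map]; rfl
    rw [this]
    exact hd
  have hD : fracSub (L := L) B₀ F₀ = ⊤ := by
    rw [eq_top_iff, ← hs]
    refine Algebra.adjoin_le ?_
    intro g hg
    obtain ⟨p₀, hp₀⟩ := hlift (p g) (by
      intro x hx
      simp only [T, Finset.coe_union, Set.mem_union]
      refine Or.inl (Or.inl ?_)
      simp only [Finset.coe_biUnion, Set.mem_iUnion]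
      exact ⟨g, hg, hx⟩)
    refine ⟨k g, p₀, ?_⟩
    rw [hF₀, hp₀, map_pow]
    exact hkp g
  refine ⟨⟨T, ?_⟩⟩
  rw [eq_top_iff]
  rintro b -
  have hb : algebraMap (MvPolynomial σ B) L (MvPolynomial.C b) ∈ fracSub (L := L) B₀ F₀ := by
    rw [hD]; trivial
  obtain ⟨k₁, p₀, hp₀⟩ := hb
  rw [← map_mul, hF₀, IsLocalization.eq_iff_exists (Submonoid.powers F)] at hp₀
  obtain ⟨⟨_, l, rfl⟩, hl⟩ := hp₀
  change F ^ l * (MvPolynomial.C b * F ^ k₁) = F ^ l * _ at hl
  refine mem_of_forall_mul_coeff_pow_mem B₀ F₀ m hu₀ (l + k₁) b ?_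
  intro j
  have h1 : MvPolynomial.C b * (MvPolynomial.map (algebraMap B₀ B) F₀) ^ (l + k₁) =
      MvPolynomial.map (algebraMap B₀ B) (F₀ ^ l * p₀) := by
    rw [hF₀, map_mul, map_pow, hF₀, ← hl, pow_add]
    ring
  rw [← MvPolynomial.coeff_C_mul, h1, MvPolynomial.coeff_map]
  exact ((F₀ ^ l * p₀).coeff j).2

/-- An element killed by all coefficients of a power of a polynomial with a unit coefficient
vanishes. -/
theorem eq_zero_of_C_mul_pow_eq_zero {R : Type*} [CommRing R] (F : MvPolynomial σ R) (m : σ →₀ ℕ)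
    (hu : IsUnit (F.coeff m)) (N : ℕ) (b : R) (hb : MvPolynomial.C b * F ^ N = 0) : b = 0 := by
  have h1 := span_coeff_pow_eq_top F m hu N
  have h2 : ∀ y ∈ Ideal.span (Set.range fun k => (F ^ N).coeff k), b * y = 0 := by
    intro y hy
    induction hy using Submodule.span_induction with
    | mem y hy =>
      obtain ⟨k, rfl⟩ := hy
      change b * coeff k (F ^ N) = 0
      rw [← MvPolynomial.coeff_C_mul, hb, MvPolynomial.coeff_zero]
    | zero => simp
    | add x y _ _ hx hy => rw [mul_add, hx, hy, add_zero]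
    | smul r x _ hx => rw [smul_eq_mul, mul_left_comm, hx, mul_zero]
  have h3 := h2 1 (by rw [h1]; trivial)
  simpa using h3

/-- Descent of finite presentation along `B ⟶ B[x]_F` for `F` with a unit coefficient. -/
theorem finitePresentation_of_away [Finite σ] (F : MvPolynomial σ B) [IsLocalization.Away F L]
    (m : σ →₀ ℕ) (hu : IsUnit (F.coeff m)) (h : Algebra.FinitePresentation A L) :
    Algebra.FinitePresentation A B := by
  classical
  have hft : Algebra.FiniteType A B := finiteType_of_away (L := L) F m hu inferInstance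
  obtain ⟨n, ρ, hρ⟩ := Algebra.FiniteType.iff_quotient_mvPolynomial''.1 hft
  obtain ⟨d, hd⟩ := hu.exists_right_inv
  obtain ⟨F', hF'⟩ := MvPolynomial.map_surjective (σ := σ) (ρ : MvPolynomial (Fin n) A →+* B) hρ F
  obtain ⟨d', hd'⟩ := hρ d
  let B' := MvPolynomial (Fin n) A
  let R' := MvPolynomial σ B'
  let C' := Localization.Away F'
  have : Algebra.FinitePresentation A R' := Algebra.FinitePresentation.mvPolynomial_of_finitePresentation _
  have : Algebra.FinitePresentation R' C' := IsLocalization.Away.finitePresentation F'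
  have hC' : Algebra.FinitePresentation A C' := Algebra.FinitePresentation.trans A R' C'
  let g : R' →ₐ[A] L := (IsScalarTower.toAlgHom A (MvPolynomial σ B) L).comp (MvPolynomial.mapAlgHom ρ)
  have hgF : g F' = algebraMap (MvPolynomial σ B) L F := by
    change algebraMap (MvPolynomial σ B) L (MvPolynomial.map (ρ : MvPolynomial (Fin n) A →+* B) F') = _
    rw [hF']
  have hg : ∀ y : Submonoid.powers F', IsUnit (g y) := by
    rintro ⟨_, l, rfl⟩
    rw [map_pow, hgF]
    exact (IsLocalization.Away.algebraMap_isUnit F).pow l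
  let Φ : C' →ₐ[A] L := IsLocalization.liftAlgHom (M := Submonoid.powers F') (f := g) hg
  have hΦ : ∀ q : R', Φ (algebraMap R' C' q) = g q := fun q => IsLocalization.lift_eq hg q
  have hsurj : Function.Surjective Φ := by
    intro z
    obtain ⟨k, p, hp⟩ := IsLocalization.Away.surj F z
    obtain ⟨p', hp'⟩ := MvPolynomial.map_surjective (σ := σ) (ρ : MvPolynomial (Fin n) A →+* B) hρ p
    refine ⟨IsLocalization.mk' C' p' (⟨F' ^ k, k, rfl⟩ : Submonoid.powers F'), ?_⟩
    have hunit : IsUnit (algebraMap (MvPolynomial σ B) L F ^ k) :=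
      (IsLocalization.Away.algebraMap_isUnit F).pow k
    apply hunit.mul_right_cancel
    rw [hp, ← hgF, ← map_pow, ← hΦ (F' ^ k), ← map_mul, IsLocalization.mk'_spec, hΦ]
    change algebraMap _ L (MvPolynomial.map (ρ : MvPolynomial (Fin n) A →+* B) p') = _
    rw [hp']
  have hker : (RingHom.ker Φ.toRingHom).FG :=
    Algebra.FinitePresentation.ker_fG_of_surjective Φ hsurj
  let ψ : B' →+* C' := (algebraMap R' C').comp MvPolynomial.C
  let I : Ideal B' := RingHom.ker (ρ : B' →+* B)
  have hkerEq : RingHom.ker Φ.toRingHom = Ideal.span (ψ '' I) := by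
    apply le_antisymm
    · intro z hz
      obtain ⟨k, q, hq⟩ := IsLocalization.Away.surj F' z
      have h0 : g q = 0 := by
        have hz' : Φ z = 0 := hz
        rw [← hΦ, ← hq, map_mul, hz', zero_mul]
      have h1 : algebraMap (MvPolynomial σ B) L (MvPolynomial.map (ρ : B' →+* B) q) = 0 := h0
      rw [← map_zero (algebraMap (MvPolynomial σ B) L),
        IsLocalization.eq_iff_exists (Submonoid.powers F)] at h1
      obtain ⟨⟨_, l, rfl⟩, hl⟩ := h1
      have h2 : F' ^ l * q ∈ Ideal.map (MvPolynomial.C : B' →+* R') I := by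
        rw [← MvPolynomial.ker_map, RingHom.mem_ker, map_mul, map_pow, hF']
        simpa using hl
      have h3 : z ∈ Ideal.map (algebraMap R' C') (Ideal.map (MvPolynomial.C : B' →+* R') I) := by
        rw [IsLocalization.mem_map_algebraMap_iff (Submonoid.powers F')]
        refine ⟨⟨⟨F' ^ l * q, h2⟩, ⟨F' ^ (l + k), l + k, rfl⟩⟩, ?_⟩
        simp only
        rw [pow_add, map_mul, map_mul, ← hq, map_pow, map_pow]
        ring
      rw [Ideal.map_map, Ideal.map] at h3
      exact h3
    · rw [Ideal.span_le]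
      rintro _ ⟨b, hb, rfl⟩
      change Φ (algebraMap R' C' (C b)) = 0
      rw [hΦ]
      change algebraMap _ L (MvPolynomial.map (ρ : B' →+* B) (C b)) = 0
      have hb' : (ρ : B' →+* B) b = 0 := hb
      rw [MvPolynomial.map_C, hb', map_zero, map_zero]
  rw [hkerEq] at hker
  obtain ⟨t, ht, hts⟩ := (Submodule.fg_span_iff_fg_span_finset_subset _).1 hker
  obtain ⟨t', ht', rfl⟩ := Finset.subset_set_image_iff.1 ht
  let w : B' := F'.coeff m * d' - 1
  have hw : w ∈ I := by
    change (ρ : B' →+* B) w = 0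
    have : (ρ : B' →+* B) (F'.coeff m) = F.coeff m := by rw [← hF', MvPolynomial.coeff_map]
    simp only [w, map_sub, map_mul, map_one]
    rw [this]
    change coeff m F * ρ d' - 1 = 0
    rw [hd', hd, sub_self]
  let I₁ : Ideal B' := Ideal.span (insert w (t' : Set B'))
  have hI₁ : I₁ ≤ I := Ideal.span_le.2 (Set.insert_subset hw ht')
  have hI : I ≤ I₁ := by
    intro b hb
    have h1 : ψ b ∈ Ideal.span (ψ '' I) := Ideal.subset_span ⟨b, hb, rfl⟩
    have hts' : Ideal.span ((t'.image ψ : Finset C') : Set C') = Ideal.span (ψ '' I) := hts.symm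
    rw [← hts', Finset.coe_image] at h1
    have h2 : ψ b ∈ Ideal.map (algebraMap R' C') (Ideal.map (MvPolynomial.C : B' →+* R') I₁) := by
      rw [Ideal.map_map]
      refine Ideal.span_mono ?_ h1
      exact Set.image_mono (fun x hx => Ideal.subset_span (Set.mem_insert_of_mem _ hx))
    rw [IsLocalization.mem_map_algebraMap_iff (Submonoid.powers F')] at h2
    obtain ⟨⟨⟨x, hx⟩, ⟨_, l, rfl⟩⟩, hxl⟩ := h2
    simp only at hxl
    have h3 : algebraMap R' C' (C b * F' ^ l) = algebraMap R' C' x := by rw [map_mul]; exact hxl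
    rw [IsLocalization.eq_iff_exists (Submonoid.powers F')] at h3
    obtain ⟨⟨_, l', rfl⟩, hl'⟩ := h3
    have h4 : MvPolynomial.map (Ideal.Quotient.mk I₁) (F' ^ l' * x) = 0 := by
      rw [← RingHom.mem_ker, MvPolynomial.ker_map, Ideal.mk_ker]
      exact Ideal.mul_mem_left _ _ hx
    have h5 : C (Ideal.Quotient.mk I₁ b) * (MvPolynomial.map (Ideal.Quotient.mk I₁) F') ^ (l' + l) = 0 := by
      have hl'' : F' ^ l' * (C b * F' ^ l) = F' ^ l' * x := hl'
      rw [← hl'', map_mul, map_mul, map_pow, map_pow, MvPolynomial.map_C] at h4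
      rw [← h4, pow_add]
      ring
    have hu' : IsUnit ((MvPolynomial.map (Ideal.Quotient.mk I₁) F').coeff m) := by
      rw [coeff_map]
      refine IsUnit.of_mul_eq_one (Ideal.Quotient.mk I₁ d') ?_
      rw [← map_mul, ← sub_eq_zero, ← map_one (Ideal.Quotient.mk I₁), ← map_sub,
        Ideal.Quotient.eq_zero_iff_mem]
      exact Ideal.subset_span (Set.mem_insert _ _)
    have h6 := eq_zero_of_C_mul_pow_eq_zero _ m hu' _ _ h5
    exact Ideal.Quotient.eq_zero_iff_mem.1 h6
  have hfg : I.FG := by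
    rw [le_antisymm hI hI₁]
    refine ⟨insert w t', ?_⟩
    rw [Finset.coe_insert]
  exact Algebra.FinitePresentation.of_surjective hρ hfg

end

end Groth.Agent.Lib.Helper27.SmSrcAlg
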