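import Groth.Agent.Lib.Helper3.SmoothEt4
import Mathlib.RingTheory.Smooth.StandardSmoothOfFree
import Mathlib.RingTheory.RingHom.StandardSmooth
import Mathlib.RingTheory.Etale.Kaehler

set_option autoImplicit false
set_option backward.isDefEq.respectTransparency false
set_option backward.isDefEq.respectTransparency.types false

universe u
open TensorProduct Algebra

namespace Groth.Agent.Lib.Helper27.SmSrcH1

section Inj

variable {R S T : Type u} [CommRing R] [CommRing S] [CommRing T] [Algebra R S] [Algebra R T]
  [Algebra S T]
variable {P : Extension.{u} R S} {Q : Extension.{u} R T} (f : P.Hom Q)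

attribute [local instance] SMulCommClass.of_commMonoid

open Extension in
set_option backward.defeqAttrib.useBackward true in
theorem h1Cotangent_liftBaseChange_injective [alg : Algebra P.Ring Q.Ring]
    (halg : algebraMap P.Ring Q.Ring = f.toRingHom) [Module.Flat S T]
    (H₂ : Function.Bijective ((f.mapKer halg).liftBaseChange Q.Ring)) :
    Function.Injective ((Extension.H1Cotangent.map f).liftBaseChange T) := by
  rw [injective_iff_map_eq_zero]
  intro x hx
  apply Module.Flat.lTensor_preserves_injective_linearMap _ h1Cotangentι_injective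
  apply (Extension.tensorCotangent f halg H₂).injective
  simp only [map_zero]
  rw [← h1Cotangentι.map_zero, ← hx]
  change ((Cotangent.map f).liftBaseChange T ∘ₗ h1Cotangentι.baseChange T) x =
    (h1Cotangentι ∘ₗ _) x
  congr 1
  ext x
  simp

end Inj

section Poly

variable {R S : Type u} [CommRing R] [CommRing S] [Algebra R S] (P : Extension.{u} R S) (n : ℕ)

/-- The surjection `P[Y] → S[Y]`. -/
noncomputable def polyMap : MvPolynomial (Fin n) P.Ring →ₐ[R] MvPolynomial (Fin n) S :=
  MvPolynomial.mapAlgHom (IsScalarTower.toAlgHom R P.Ring S)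

theorem polyMap_surjective : Function.Surjective (polyMap P n) :=
  MvPolynomial.map_surjective _ P.algebraMap_surjective

/-- The extension `P[Y] → S[Y]`. -/
noncomputable def polyExt : Extension.{u} R (MvPolynomial (Fin n) S) :=
  Extension.ofSurjective (polyMap P n) (polyMap_surjective P n)

/-- The morphism of extensions `(P → S) → (P[Y] → S[Y])`. -/
noncomputable def polyHom : P.Hom (polyExt P n) where
  toRingHom := (MvPolynomial.C : P.Ring →+* MvPolynomial (Fin n) P.Ring)
  toRingHom_algebraMap x := by
    change MvPolynomial.C (algebraMap R P.Ring x) = algebraMap R (MvPolynomial (Fin n) P.Ring) x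
    rfl
  algebraMap_toRingHom x := by
    change polyMap P n (MvPolynomial.C x) = MvPolynomial.C (algebraMap P.Ring S x)
    exact MvPolynomial.map_C _ _

noncomputable instance : Algebra P.Ring (polyExt P n).Ring :=
  inferInstanceAs (Algebra P.Ring (MvPolynomial (Fin n) P.Ring))

instance : Module.Flat P.Ring (polyExt P n).Ring :=
  inferInstanceAs (Module.Flat P.Ring (MvPolynomial (Fin n) P.Ring))

theorem polyExt_ker_le (y : (polyExt P n).Ring) (hy : y ∈ (polyExt P n).ker) :
    y ∈ P.ker.map (algebraMap P.Ring (polyExt P n).Ring) := by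
  have h1 : (polyExt P n).ker =
      RingHom.ker (MvPolynomial.map (σ := Fin n) (algebraMap P.Ring S)) := rfl
  rw [h1, MvPolynomial.ker_map] at hy
  exact hy

theorem polyHom_bijective :
    Function.Bijective (((polyHom P n).mapKer rfl).liftBaseChange (polyExt P n).Ring) :=
  Groth.Agent.Lib.Helper3.mapKer_liftBaseChange_bijective (polyHom P n) rfl (polyExt_ker_le P n)

theorem polyHom_h1_injective :
    Function.Injective ((Extension.H1Cotangent.map (polyHom P n)).liftBaseChange
      (MvPolynomial (Fin n) S)) :=
  h1Cotangent_liftBaseChange_injective (polyHom P n) rfl (polyHom_bijective P n)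

end Poly

section Transfer

variable (R S : Type u) [CommRing R] [CommRing S] [Algebra R S]

/-- If `D` is flat over `S[Y]` and `D ⊗ H¹(L_{S[Y]/R}) = 0` then `D ⊗ H¹(L_{S/R}) = 0`. -/
theorem subsingleton_tensor_of_mvPolynomial (n : ℕ) (D : Type u) [CommRing D]
    [Algebra (MvPolynomial (Fin n) S) D] [Algebra S D] [IsScalarTower S (MvPolynomial (Fin n) S) D]
    [Module.Flat (MvPolynomial (Fin n) S) D]
    (h : Subsingleton (D ⊗[MvPolynomial (Fin n) S] H1Cotangent R (MvPolynomial (Fin n) S))) :
    Subsingleton (D ⊗[S] H1Cotangent R S) := by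
  let P : Extension.{u} R S := (Generators.self R S).toExtension
  have hP : FormallySmooth R P.Ring := inferInstanceAs (FormallySmooth R (MvPolynomial _ _))
  have hQ' : FormallySmooth P.Ring (polyExt P n).Ring :=
    inferInstanceAs (FormallySmooth P.Ring (MvPolynomial (Fin n) P.Ring))
  have hst : IsScalarTower R P.Ring (polyExt P n).Ring :=
    inferInstanceAs (IsScalarTower R P.Ring (MvPolynomial (Fin n) P.Ring))
  have hQ : FormallySmooth R (polyExt P n).Ring := .comp R P.Ring _
  let j₀ := (Extension.H1Cotangent.map (polyHom P n)).liftBaseChange (MvPolynomial (Fin n) S)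
  have hj₀ : Function.Injective j₀ := polyHom_h1_injective P n
  let j : MvPolynomial (Fin n) S ⊗[S] H1Cotangent R S →ₗ[MvPolynomial (Fin n) S]
      H1Cotangent R (MvPolynomial (Fin n) S) :=
    (polyExt P n).equivH1CotangentOfFormallySmooth.toLinearMap ∘ₗ j₀
  have hj : Function.Injective j :=
    (polyExt P n).equivH1CotangentOfFormallySmooth.injective.comp hj₀
  have hk : Function.Injective (LinearMap.lTensor D j) :=
    Module.Flat.lTensor_preserves_injective_linearMap (M := D) j hj
  have h1 : Subsingleton (D ⊗[MvPolynomial (Fin n) S]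
      (MvPolynomial (Fin n) S ⊗[S] H1Cotangent R S)) := hk.subsingleton
  exact (TensorProduct.AlgebraTensorModule.cancelBaseChange S (MvPolynomial (Fin n) S) D D
    (H1Cotangent R S)).symm.toEquiv.subsingleton

end Transfer

section Key

variable {R S T : Type u} [CommRing R] [CommRing S] [CommRing T] [Algebra R S]
  [Algebra S T] [Algebra R T] [IsScalarTower R S T]

/-- If `T` is etale over `S` and formally smooth over `R`, then `T ⊗ H¹(L_{S/R}) = 0`. -/
theorem subsingleton_tensor_h1Cotangent_of_etale [Algebra.Etale S T] [FormallySmooth R T] :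
    Subsingleton (T ⊗[S] H1Cotangent R S) := by
  refine subsingleton_of_forall_eq 0 fun x => ?_
  by_contra hx
  let I : Ideal T := LinearMap.ker (LinearMap.toSpanSingleton T _ x)
  have hI : I ≠ ⊤ := by
    intro h
    have : (1 : T) ∈ I := h ▸ Submodule.mem_top
    exact hx (by simpa [I] using this)
  obtain ⟨q, hq, hIq⟩ := Ideal.exists_le_maximal I hI
  have := hq.isPrime
  obtain ⟨h, hhq, hstd⟩ := Algebra.IsEtaleAt.exists_isStandardEtale (R := S) q
  have : FormallySmooth R (Localization.Away h) := FormallySmooth.comp R T (Localization.Away h)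
  have h2 : Subsingleton ((Localization.Away h) ⊗[S] H1Cotangent R S) :=
    Groth.Agent.Lib.Helper3.subsingleton_tensor_h1Cotangent_of_isStandardEtale
  have h3 : Subsingleton ((Localization.Away h) ⊗[T] (T ⊗[S] H1Cotangent R S)) :=
    (TensorProduct.AlgebraTensorModule.cancelBaseChange S T (Localization.Away h)
      (Localization.Away h) _).toEquiv.subsingleton
  have hloc : IsLocalizedModule (Submonoid.powers h)
      (TensorProduct.mk T (Localization.Away h) (T ⊗[S] H1Cotangent R S) 1) :=
    (isLocalizedModule_iff_isBaseChange _ (Localization.Away h) _).mpr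
      (TensorProduct.isBaseChange T _ (Localization.Away h))
  have hx0 : TensorProduct.mk T (Localization.Away h) (T ⊗[S] H1Cotangent R S) 1 x = 0 :=
    Subsingleton.elim _ _
  obtain ⟨⟨c, n, rfl⟩, hc⟩ := (IsLocalizedModule.eq_zero_iff (Submonoid.powers h)
    (TensorProduct.mk T (Localization.Away h) (T ⊗[S] H1Cotangent R S) 1)).1 hx0
  have : h ^ n ∈ q := hIq hc
  exact hhq (hq.isPrime.mem_of_pow_mem _ this)

/-- If `T` is standard smooth over `S` and formally smooth over `R`, then
`T ⊗ H¹(L_{S/R}) = 0`. -/
theorem subsingleton_tensor_h1Cotangent_of_isStandardSmooth [Algebra.IsStandardSmooth S T]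
    [FormallySmooth R T] : Subsingleton (T ⊗[S] H1Cotangent R S) := by
  have hstd : (algebraMap S T).IsStandardSmooth := RingHom.isStandardSmooth_algebraMap.2 ‹_›
  obtain ⟨n, g, hgC, hg⟩ := hstd.exists_etale_mvPolynomial
  let _ : Algebra (MvPolynomial (Fin n) S) T := g.toAlgebra
  have h1 : IsScalarTower S (MvPolynomial (Fin n) S) T := .of_algebraMap_eq' hgC.symm
  have h2 : IsScalarTower R (MvPolynomial (Fin n) S) T := by
    refine .of_algebraMap_eq' ?_
    rw [IsScalarTower.algebraMap_eq R S T, IsScalarTower.algebraMap_eq R S (MvPolynomial (Fin n) S),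
      ← RingHom.comp_assoc]
    congr 1
    exact hgC.symm
  have h3 : Algebra.Etale (MvPolynomial (Fin n) S) T := hg
  have h4 : Module.Flat (MvPolynomial (Fin n) S) T := inferInstance
  have h := subsingleton_tensor_h1Cotangent_of_etale (R := R) (S := MvPolynomial (Fin n) S)
    (T := T)
  exact subsingleton_tensor_of_mvPolynomial R S n T h

/-- If `T` is smooth and faithfully flat over `S` and formally smooth over `R`, then
`H¹(L_{S/R}) = 0`. -/
theorem subsingleton_h1Cotangent_of_smooth_of_faithfullyFlat [Algebra.Smooth S T]
    [Module.FaithfullyFlat S T] [FormallySmooth R T] : Subsingleton (H1Cotangent R S) := by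
  suffices h : Subsingleton (T ⊗[S] H1Cotangent R S) from
    Module.FaithfullyFlat.lTensor_reflects_triviality S T _
  refine subsingleton_of_forall_eq 0 fun x => ?_
  by_contra hx
  let I : Ideal T := LinearMap.ker (LinearMap.toSpanSingleton T _ x)
  have hI : I ≠ ⊤ := by
    intro h
    have : (1 : T) ∈ I := h ▸ Submodule.mem_top
    exact hx (by simpa [I] using this)
  obtain ⟨q, hq, hIq⟩ := Ideal.exists_le_maximal I hI
  have hqp := hq.isPrime
  have hsm : Algebra.IsSmoothAt S q := FormallySmooth.comp S T (Localization.AtPrime q)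
  obtain ⟨h, hhq, hstd⟩ := Algebra.IsSmoothAt.exists_notMem_isStandardSmooth S q
  have : FormallySmooth R (Localization.Away h) := FormallySmooth.comp R T (Localization.Away h)
  have h2 : Subsingleton ((Localization.Away h) ⊗[S] H1Cotangent R S) :=
    subsingleton_tensor_h1Cotangent_of_isStandardSmooth
  have h3 : Subsingleton ((Localization.Away h) ⊗[T] (T ⊗[S] H1Cotangent R S)) :=
    (TensorProduct.AlgebraTensorModule.cancelBaseChange S T (Localization.Away h)
      (Localization.Away h) _).toEquiv.subsingleton
  have hloc : IsLocalizedModule (Submonoid.powers h)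
      (TensorProduct.mk T (Localization.Away h) (T ⊗[S] H1Cotangent R S) 1) :=
    (isLocalizedModule_iff_isBaseChange _ (Localization.Away h) _).mpr
      (TensorProduct.isBaseChange T _ (Localization.Away h))
  have hx0 : TensorProduct.mk T (Localization.Away h) (T ⊗[S] H1Cotangent R S) 1 x = 0 :=
    Subsingleton.elim _ _
  obtain ⟨⟨c, n, rfl⟩, hc⟩ := (IsLocalizedModule.eq_zero_iff (Submonoid.powers h)
    (TensorProduct.mk T (Localization.Away h) (T ⊗[S] H1Cotangent R S) 1)).1 hx0
  have : h ^ n ∈ q := hIq hc
  exact hhq (hq.isPrime.mem_of_pow_mem _ this)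

/-- If `T` is formally smooth and faithfully flat over `S` and formally smooth over `R`, then
`Ω[S⁄R]` is flat. -/
theorem flat_kaehler_of_formallySmooth_of_faithfullyFlat [FormallySmooth S T]
    [Module.FaithfullyFlat S T] [FormallySmooth R T] : Module.Flat S Ω[S⁄R] := by
  have hinj : Function.Injective (KaehlerDifferential.mapBaseChange R S T) := by
    have hex := Algebra.H1Cotangent.exact_δ_mapBaseChange R S T
    have hsub : Subsingleton (H1Cotangent S T) := inferInstance
    rw [injective_iff_map_eq_zero]
    intro x hx
    obtain ⟨y, rfl⟩ := (hex x).1 hx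
    rw [Subsingleton.elim y 0, map_zero]
  have hex2 := KaehlerDifferential.exact_mapBaseChange_map R S T
  have hsurj := KaehlerDifferential.map_surjective R S T
  obtain ⟨s, hs⟩ := Module.projective_lifting_property (KaehlerDifferential.map R S T T)
    LinearMap.id hsurj
  have h01 : (Function.Injective (KaehlerDifferential.mapBaseChange R S T) ∧
      ∃ l, (KaehlerDifferential.map R S T T) ∘ₗ l = LinearMap.id) →
      (Function.Surjective (KaehlerDifferential.map R S T T) ∧
      ∃ l, l ∘ₗ (KaehlerDifferential.mapBaseChange R S T) = LinearMap.id) :=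
    (hex2.split_tfae'.out 0 1).1
  obtain ⟨-, r, hr⟩ := h01 ⟨hinj, s, hs⟩
  have hfl : Module.Flat T Ω[T⁄R] := inferInstance
  have h1 : Module.Flat T (T ⊗[S] Ω[S⁄R]) :=
    Module.Flat.of_retract (KaehlerDifferential.mapBaseChange R S T) r hr
  exact Module.Flat.of_flat_tensorProduct _ _ T

/-- Smoothness descends along smooth faithfully flat maps on the source: if `S` is a finitely
presented `R`-algebra and `T` is smooth and faithfully flat over `S` and formally smooth over `R`,
then `S` is smooth over `R`. -/
theorem smooth_of_smooth_of_faithfullyFlat [Algebra.FinitePresentation R S] [Algebra.Smooth S T]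
    [Module.FaithfullyFlat S T] [FormallySmooth R T] : Algebra.Smooth R S := by
  refine ⟨?_, inferInstance⟩
  rw [formallySmooth_iff]
  constructor
  · have : Module.Flat S Ω[S⁄R] := flat_kaehler_of_formallySmooth_of_faithfullyFlat (T := T)
    exact Module.Flat.projective_of_finitePresentation
  · exact subsingleton_h1Cotangent_of_smooth_of_faithfullyFlat (T := T)

end Key

end Groth.Agent.Lib.Helper27.SmSrcH1
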