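import Groth.Agent.Lib.Helper27.LocQComp
import Groth.Agent.Lib.Helper3.AlgSpFpqcMono

/-!
# Comparing smooth charts of a stack (helper27)
-/

set_option autoImplicit false
set_option backward.isDefEq.respectTransparency false
set_option backward.isDefEq.respectTransparency.types false

universe v₄ u₄ v₃ u₃ v₂ u₂ u

open CategoryTheory CategoryTheory.Limits AlgebraicGeometry Opposite FibCat
  Groth.Agent.Lib.Helper27.FpKit Groth.Agent.Lib.Helper27.PshKit Groth.Agent.Lib.Helper27.PshFp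
  Groth.Agent.Lib.Helper27.PshRep Groth.Agent.Lib.Helper27.RepWithComp
  Groth.Agent.Lib.Helper27.Descent Groth.Agent.Lib.Helper27.LocQChart
  Groth.Agent.Lib.Helper27.LocQSpace Groth.Agent.Lib.Helper27.LocQOver
  Groth.Agent.Lib.Helper27.LocQComp

namespace Groth.Agent.Lib.Helper27.SmoothLoc

variable {S : Scheme.{u}}

open Stk

variable {𝒳 : AlgSt.Cat S}

/-- Two smooth charts of a stack, the first one surjective, are dominated by a scheme which is
smooth over both and surjective over the second one. -/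
theorem exists_common_chart {U U' : Over S} (x : overCat U ⥤ᵇ 𝒳)
    (hx₁ : AlgSt.RepByAlgSpWith (AlgSp.LocP @Smooth) x)
    (hx₂ : AlgSt.RepByAlgSpWith AlgSp.IsSurjectiveMor x) (x' : overCat U' ⥤ᵇ 𝒳)
    (hx'₁ : AlgSt.RepByAlgSpWith (AlgSp.LocP @Smooth) x') :
    ∃ (T : Over S) (τ₁ : T ⟶ U') (τ₂ : T ⟶ U), Smooth τ₁.left ∧ Function.Surjective τ₁.left ∧
      Smooth τ₂.left := by
  obtain ⟨W, eW, heW, hw₁s⟩ := hx₁ U' x'
  obtain ⟨W₂, eW₂, heW₂, hw₁j⟩ := hx₂ U' x'
  have hw₁j' : AlgSp.IsSurjectiveMor (AlgSt.spMapOfOver (BasedFunctor.comp eW (fpFst x' x))) :=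
    indep_gen _ isSurjectiveMor_precomp_iso W.property W₂.property eW eW₂ heW heW₂
      (fpFst x' x) hw₁j
  have hw₂s : AlgSp.LocP @Smooth (ObjectProperty.homMk
      (pshMapOf (BasedFunctor.comp (BasedFunctor.comp eW (fpSnd x' x)) (AlgSt.ofOverCat U))) :
      W.obj ⟶ (AlgSp.yon S).obj U) :=
    prop_structMap _ (compHyp_locP Groth.Agent.Lib.Helper3.isEtLocal_smooth) W.property
      (BasedFunctor.comp eW (fpSnd x' x)) (repByAlgSpWith_equiv_comp _ eW heW _
        (Groth.Agent.Lib.Helper27.FpSwap.repByAlgSpWith_fpSnd _ x x' hx'₁))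
  obtain ⟨T, q, hqe, hqs⟩ := W.property.atlas
  obtain ⟨τ₁, hτ₁⟩ := (AlgSp.yon S).map_surjective
    (q ≫ AlgSt.spMapOfOver (BasedFunctor.comp eW (fpFst x' x)))
  obtain ⟨τ₂, hτ₂⟩ := (AlgSp.yon S).map_surjective
    (q ≫ (ObjectProperty.homMk
      (pshMapOf (BasedFunctor.comp (BasedFunctor.comp eW (fpSnd x' x)) (AlgSt.ofOverCat U))) :
      W.obj ⟶ (AlgSp.yon S).obj U))
  refine ⟨T, τ₁, τ₂, ?_, ?_, ?_⟩
  · apply AlgSp.locP_yon_map (S := S) (P := @Smooth) (g := τ₁)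
    rw [hτ₁]
    exact Groth.Agent.Lib.Helper3.locP_comp Groth.Agent.Lib.Helper3.isEtLocal_smooth
      (AlgSp.IsAlgSpace.yon_obj T) W.property (AlgSp.IsAlgSpace.yon_obj U') q _
      (smooth_of_etale q hqe) hw₁s
  · apply Groth.Agent.Lib.Helper3.surjective_of_isSurjectiveMor_yon_map
    rw [hτ₁]
    exact Groth.Agent.Lib.Helper3.isSurjectiveMor_comp (surj_of_surj q hqs) hw₁j'
  · apply AlgSp.locP_yon_map (S := S) (P := @Smooth) (g := τ₂)
    rw [hτ₂]
    exact Groth.Agent.Lib.Helper3.locP_comp Groth.Agent.Lib.Helper3.isEtLocal_smooth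
      (AlgSp.IsAlgSpace.yon_obj T) W.property (AlgSp.IsAlgSpace.yon_obj U) q _
      (smooth_of_etale q hqe) hw₂s

end Groth.Agent.Lib.Helper27.SmoothLoc
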