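import Groth.Agent.Lib.Helper27.SmoothLoc
import Groth.Agent.Lib.Helper27.LocQOver
import Groth.Agent.Lib.Helper27.DiagLft
import Mathlib.AlgebraicGeometry.Sites.MorphismProperty

/-!
# Smooth local properties of algebraic stacks (helper27)
-/

set_option autoImplicit false
set_option backward.isDefEq.respectTransparency false
set_option backward.isDefEq.respectTransparency.types false

universe u

open CategoryTheory CategoryTheory.Limits AlgebraicGeometry Opposite FibCat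
  Groth.Agent.Lib.Helper27.FpKit Groth.Agent.Lib.Helper27.RepWithComp
  Groth.Agent.Lib.Helper27.LocQOver Groth.Agent.Lib.Helper27.LocQSpace
  Groth.Agent.Lib.Helper27.Descent

namespace Groth.Agent.Lib.Helper27.SmoothLocP

/-- Locality of a property of schemes in the smooth topology. -/
def IsSmLocal (P : Scheme.{u} → Prop) : Prop :=
  ∀ (U : Scheme.{u}) (R : Presieve U), R ∈ Scheme.precoverage @Smooth U →
    (P U ↔ ∀ ⦃V : Scheme.{u}⦄ (g : V ⟶ U), R g → P V)

variable {P : Scheme.{u} → Prop} (hP : IsSmLocal P)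

include hP in
theorem of_surj {V U : Scheme.{u}} (g : V ⟶ U) (hg : Smooth g) (hs : Function.Surjective g.base)
    (h : P V) : P U := by
  refine (hP U (Presieve.singleton g)
    ((Scheme.singleton_mem_precoverage_iff @Smooth g).2 ⟨hs, hg⟩)).2 ?_
  intro V' g' hg'
  cases hg'
  exact h

include hP in
theorem of_smooth {V U : Scheme.{u}} (g : V ⟶ U) (hg : Smooth g) (h : P U) : P V := by
  let X : Bool → Scheme.{u} := fun b => match b with
    | true => V
    | false => U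
  let f : ∀ b, X b ⟶ U := fun b => match b with
    | true => g
    | false => 𝟙 U
  have hR : Presieve.ofArrows X f ∈ Scheme.precoverage @Smooth U := by
    rw [Scheme.ofArrows_mem_precoverage_iff]
    refine ⟨fun x => ⟨false, x, rfl⟩, fun b => ?_⟩
    cases b
    · exact (inferInstance : Smooth (𝟙 U))
    · exact hg
  exact (hP U _ hR).1 h g (Presieve.ofArrows.mk true)

variable {S : Scheme.{u}} {𝒳 : AlgSt.Cat S}

include hP in
theorem smoothLocally_of_chart {U : Over S} (x : overCat U ⥤ᵇ 𝒳)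
    (hx₁ : AlgSt.RepByAlgSpWith (AlgSp.LocP @Smooth) x)
    (hx₂ : AlgSt.RepByAlgSpWith AlgSp.IsSurjectiveMor x) (hU : P U.left) :
    AlgSt.SmoothLocally P 𝒳 := by
  intro U' x' hx'₁
  obtain ⟨T, τ₁, τ₂, hs₁, hj₁, hs₂⟩ :=
    Groth.Agent.Lib.Helper27.SmoothLoc.exists_common_chart x hx₁ hx₂ x' hx'₁
  exact of_surj hP τ₁.left hs₁ hj₁ (of_smooth hP τ₂.left hs₂ hU)

/-- The chart of a category over an algebraic space given by an etale chart of the space. -/
abbrev chartOf {X : AlgSp.Sp S} {W : Over S} (p : (AlgSp.yon S).obj W ⟶ X)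
    (x : AlgSt.ofSp X ⥤ᵇ 𝒳) : overCat W ⥤ᵇ 𝒳 :=
  BasedFunctor.comp (AlgSt.ofOverCat W) (BasedFunctor.comp (AlgSt.ofSpMap p) x)

theorem chartOf_smooth {X : AlgSp.Space S} {W : Over S} (p : (AlgSp.yon S).obj W ⟶ X.obj)
    (hpe : AlgSp.RepWith @Etale p) (x : AlgSt.ofSp X.obj ⥤ᵇ 𝒳)
    (hx : AlgSt.RepByAlgSpWith (AlgSp.LocP @Smooth) x) :
    AlgSt.RepByAlgSpWith (AlgSp.LocP @Smooth) (chartOf p x) :=
  repByAlgSpWith_equiv_comp _ (AlgSt.ofOverCat W) (isEquivOver_ofOverCat W) _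
    (comp_gen _ (compHyp_locP Groth.Agent.Lib.Helper3.isEtLocal_smooth)
      (Stk.isFibGrpd_ofPsh (P := ((AlgSp.yon S).obj W).obj))
      (Stk.isFibGrpd_ofPsh (P := X.obj.obj)) (AlgSt.ofSpMap p) x
      (repByAlgSpWith_ofSpMap_of_repWith @Etale _ smooth_of_etale
        (AlgSp.IsAlgSpace.yon_obj W) X.property p hpe) hx)

theorem chartOf_surj {X : AlgSp.Space S} {W : Over S} (p : (AlgSp.yon S).obj W ⟶ X.obj)
    (hps : AlgSp.RepWith @Surjective p) (x : AlgSt.ofSp X.obj ⥤ᵇ 𝒳)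
    (hx : AlgSt.RepByAlgSpWith AlgSp.IsSurjectiveMor x) :
    AlgSt.RepByAlgSpWith AlgSp.IsSurjectiveMor (chartOf p x) :=
  repByAlgSpWith_equiv_comp _ (AlgSt.ofOverCat W) (isEquivOver_ofOverCat W) _
    (comp_gen _ Groth.Agent.Lib.Helper27.DiagLft.compHyp_isSurjectiveMor
      (Stk.isFibGrpd_ofPsh (P := ((AlgSp.yon S).obj W).obj))
      (Stk.isFibGrpd_ofPsh (P := X.obj.obj)) (AlgSt.ofSpMap p) x
      (repByAlgSpWith_ofSpMap_of_repWith @Surjective _ surj_of_surj
        (AlgSp.IsAlgSpace.yon_obj W) X.property p hps) hx)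

include hP in
/-- (3) ⇒ (2). -/
theorem smoothLocally_of_space_chart (X : AlgSp.Space S) (x : AlgSt.ofSp X.obj ⥤ᵇ 𝒳)
    (hx₁ : AlgSt.RepByAlgSpWith (AlgSp.LocP @Smooth) x)
    (hx₂ : AlgSt.RepByAlgSpWith AlgSp.IsSurjectiveMor x) (hX : AlgSp.EtaleLocally P X.obj) :
    AlgSt.SmoothLocally P 𝒳 := by
  obtain ⟨W, p, hpe, hps, hW⟩ := hX
  exact smoothLocally_of_chart hP (chartOf p x) (chartOf_smooth p hpe x hx₁)
    (chartOf_surj p hps x hx₂) hW

/-- (2) ⇒ (4). -/
theorem etaleLocally_of_smoothLocally (h : AlgSt.SmoothLocally P 𝒳) (X : AlgSp.Space S)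
    (x : AlgSt.ofSp X.obj ⥤ᵇ 𝒳) (hx₁ : AlgSt.RepByAlgSpWith (AlgSp.LocP @Smooth) x) :
    AlgSp.EtaleLocally P X.obj := by
  obtain ⟨W, p, hpe, hps⟩ := X.property.atlas
  exact ⟨W, p, hpe, hps, h W (chartOf p x) (chartOf_smooth p hpe x hx₁)⟩

include hP in
/-- (4) ⇒ (2). -/
theorem smoothLocally_of_forall (h : ∀ (U : AlgSp.Space S) (x : AlgSt.ofSp U.obj ⥤ᵇ 𝒳),
    AlgSt.RepByAlgSpWith (AlgSp.LocP @Smooth) x → AlgSp.EtaleLocally P U.obj) :
    AlgSt.SmoothLocally P 𝒳 := by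
  intro V x' hx'
  obtain ⟨W, p, hpe, hps, hW⟩ := h ⟨(AlgSp.yon S).obj V, AlgSp.IsAlgSpace.yon_obj V⟩
    (BasedFunctor.comp (AlgSt.toOverCat V) x')
    (repByAlgSpWith_equiv_comp _ (AlgSt.toOverCat V)
      (Groth.Agent.Lib.Helper27.PshRep.isEquivOver_toOverCat V) x' hx')
  obtain ⟨q, rfl⟩ := (AlgSp.yon S).map_surjective p
  have hq : Etale q.left := (AlgSp.repWith_yon_map_iff @Etale q).1 hpe
  have hqs : Surjective q.left := (AlgSp.repWith_yon_map_iff @Surjective q).1 hps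
  exact of_surj hP q.left inferInstance hqs.surj hW

/-- The identity functor of the category of a sheaf is the functor of the identity map. -/
def idIso (X : AlgSp.Sp S) : AlgSt.ofSpMap (𝟙 X) ≅ BasedFunctor.id (AlgSt.ofSp X) :=
  BasedNatIso.mkNatIso
    (NatIso.ofComponents (fun _ => Iso.refl _)
      (fun _ => (Category.comp_id _).trans (Category.id_comp _).symm))
    (fun t => (Vert.id _).lift (BasedFunctor.w_obj _ t))

theorem id_smooth (X : AlgSp.Space S) :
    AlgSt.RepByAlgSpWith (AlgSp.LocP @Smooth) (BasedFunctor.id (AlgSt.ofSp X.obj)) :=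
  repByAlgSpWith_of_iso _ (idIso X.obj)
    (repByAlgSpWith_ofSpMap_of_repWith @Etale _ smooth_of_etale X.property X.property _
      (haveI := AlgSp.repWith_isMultiplicative (S := S) @Etale
       (AlgSp.RepWith (S := S) @Etale).id_mem X.obj))

theorem id_surj (X : AlgSp.Space S) :
    AlgSt.RepByAlgSpWith AlgSp.IsSurjectiveMor (BasedFunctor.id (AlgSt.ofSp X.obj)) :=
  repByAlgSpWith_of_iso _ (idIso X.obj)
    (repByAlgSpWith_ofSpMap_of_repWith @Surjective _ surj_of_surj X.property X.property _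
      (haveI := AlgSp.repWith_isMultiplicative (S := S) @Surjective
       (AlgSp.RepWith (S := S) @Surjective).id_mem X.obj))

include hP in
theorem smoothLocally_ofSp_iff (X : AlgSp.Space S) :
    AlgSt.SmoothLocally P (AlgSt.ofSp X.obj) ↔ AlgSp.EtaleLocally P X.obj :=
  ⟨fun h => etaleLocally_of_smoothLocally h X (BasedFunctor.id _) (id_smooth X),
    fun h => smoothLocally_of_space_chart hP X (BasedFunctor.id _) (id_smooth X) (id_surj X) h⟩

end Groth.Agent.Lib.Helper27.SmoothLocP
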