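import Mathlib.Topology.Spectral.ConstructibleTopology
import Mathlib.Topology.Sober
import Mathlib.Topology.Inseparable

/-!
# Open quotients of spectral spaces (helper27)

Let `X` be a spectral space and `π : X → Y` a continuous open surjection such that saturations of
quasi-compact opens are quasi-compact, generalizations lift along `π`, and every fibre has a point
which is maximal for generalization within the fibre.  Then `Y` is spectral.
-/

set_option autoImplicit false

open Topology TopologicalSpace Set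

namespace Groth.Agent.Lib.Helper27.SpecQuot

variable {X Y : Type*} [TopologicalSpace X] [TopologicalSpace Y]

/-- A spectral space is quasi-compact for the constructible topology. -/
theorem compactSpace_constructible [SpectralSpace X] : @CompactSpace X (constructibleTopology X) :=
  @Function.Surjective.compactSpace (WithConstructibleTopology X) X _ (constructibleTopology X)
    WithTopology.ofTopology (WithTopology.continuous_ofTopology _) inferInstance
    (WithTopology.ofTopology_surjective _)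

theorem isClosed_constructible_of_isClosed [PrespectralSpace X] {A : Set X} (hA : IsClosed A) :
    IsClosed[constructibleTopology X] A := by
  rw [← @isOpen_compl_iff X _ (constructibleTopology X)]
  obtain ⟨𝒮, h𝒮, h𝒮'⟩ :=
    (PrespectralSpace.isTopologicalBasis (X := X)).open_eq_sUnion hA.isOpen_compl
  rw [h𝒮']
  apply @isOpen_sUnion X (constructibleTopology X)
  intro t ht
  exact (h𝒮 ht).2.isOpen_constructibleTopology_of_isOpen (h𝒮 ht).1

theorem isClosed_constructible_of_isCompact_isOpen {A : Set X} (hA : IsOpen A) (hA' : IsCompact A) :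
    IsClosed[constructibleTopology X] A := by
  rw [← @isOpen_compl_iff X _ (constructibleTopology X)]
  exact IsCompact.isOpen_constructibleTopology_of_isClosed (by rwa [compl_compl]) hA.isClosed_compl

section Quot

variable (π : X → Y) (hc : Continuous π) (ho : IsOpenMap π) (hs : Function.Surjective π)

include hc ho hs

theorem prespectralSpace_of_open_surjective [PrespectralSpace X] : PrespectralSpace Y := by
  refine PrespectralSpace.of_isTopologicalBasis
    (B := {W | ∃ K : Set X, IsOpen K ∧ IsCompact K ∧ W = π '' K}) ?_ ?_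
  · refine isTopologicalBasis_of_isOpen_of_nhds ?_ ?_
    · rintro _ ⟨K, hK, -, rfl⟩
      exact ho K hK
    · intro y W hyW hW
      obtain ⟨x, rfl⟩ := hs y
      obtain ⟨K, ⟨hK₁, hK₂⟩, hxK, hKW⟩ :=
        (PrespectralSpace.isTopologicalBasis (X := X)).exists_subset_of_mem_open
          (show x ∈ π ⁻¹' W from hyW) (hW.preimage hc)
      exact ⟨π '' K, ⟨K, hK₁, hK₂, rfl⟩, ⟨x, hxK, rfl⟩, Set.image_subset_iff.2 hKW⟩
  · rintro _ ⟨K, -, hK, rfl⟩
    exact hK.image hc

variable (h2 : ∀ K : Set X, IsOpen K → IsCompact K → IsCompact (π ⁻¹' (π '' K)))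

include h2

/-- Preimages of quasi-compact opens are quasi-compact. -/
theorem isCompact_preimage [PrespectralSpace X] {W : Set Y} (hW : IsOpen W) (hW' : IsCompact W) :
    IsCompact (π ⁻¹' W) := by
  -- write `W` as the image of a quasi-compact open
  have hcov : ∀ y ∈ W, ∃ K : Set X, IsOpen K ∧ IsCompact K ∧ K ⊆ π ⁻¹' W ∧ y ∈ π '' K := by
    intro y hy
    obtain ⟨x, rfl⟩ := hs y
    obtain ⟨K, ⟨hK₁, hK₂⟩, hxK, hKW⟩ :=
      (PrespectralSpace.isTopologicalBasis (X := X)).exists_subset_of_mem_open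
        (show x ∈ π ⁻¹' W from hy) (hW.preimage hc)
    exact ⟨K, hK₁, hK₂, hKW, ⟨x, hxK, rfl⟩⟩
  choose! K hK₁ hK₂ hK₃ hK₄ using hcov
  obtain ⟨t, ht, htfin, htW⟩ := hW'.elim_finite_subcover_image (b := W) (c := fun y => π '' K y)
    (fun y hy => ho _ (hK₁ y hy)) (fun y hy => Set.mem_biUnion hy (hK₄ y hy))
  let K₀ : Set X := ⋃ y ∈ t, K y
  have hK₀o : IsOpen K₀ := isOpen_biUnion fun y hy => hK₁ y (ht hy)
  have hK₀c : IsCompact K₀ := htfin.isCompact_biUnion fun y hy => hK₂ y (ht hy)
  have hK₀W : π '' K₀ = W := by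
    apply Set.Subset.antisymm
    · rintro _ ⟨x, hx, rfl⟩
      obtain ⟨y, hy, hxy⟩ := Set.mem_iUnion₂.1 hx
      exact hK₃ y (ht hy) hxy
    · intro y hy
      obtain ⟨z, hz, hyz⟩ := Set.mem_iUnion₂.1 (htW hy)
      obtain ⟨x, hx, rfl⟩ := hyz
      exact ⟨x, Set.mem_iUnion₂.2 ⟨z, hz, hx⟩, rfl⟩
  rw [← hK₀W]
  exact h2 K₀ hK₀o hK₀c

theorem quasiSeparatedSpace_of_open_surjective [PrespectralSpace X] [QuasiSeparatedSpace X] :
    QuasiSeparatedSpace Y := by
  constructor
  intro U V hU hU' hV hV'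
  have h1 := QuasiSeparatedSpace.inter_isCompact _ _ (hU.preimage hc)
    (isCompact_preimage π hc ho hs h2 hU hU') (hV.preimage hc)
    (isCompact_preimage π hc ho hs h2 hV hV')
  have h3 : U ∩ V = π '' (π ⁻¹' U ∩ π ⁻¹' V) := by
    rw [← Set.preimage_inter, Set.image_preimage_eq _ hs]
  rw [h3]
  exact h1.image hc

theorem quasiSober_of_open_surjective [SpectralSpace X] : QuasiSober Y := by
  constructor
  intro T hTirr hTcl
  let C : Set X := π ⁻¹' T
  have hC : IsClosed C := hTcl.preimage hc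
  let 𝒜 : Set (Set X) := {A | A = C ∨ ∃ W : Set Y, IsOpen W ∧ IsCompact W ∧ (T ∩ W).Nonempty ∧
    A = π ⁻¹' W}
  have hcl : ∀ A ∈ 𝒜, IsClosed[constructibleTopology X] A := by
    rintro A (rfl | ⟨W, hW, hW', -, rfl⟩)
    · exact isClosed_constructible_of_isClosed hC
    · exact isClosed_constructible_of_isCompact_isOpen (hW.preimage hc)
        (isCompact_preimage π hc ho hs h2 hW hW')
  have hfip : ∀ 𝒜' ⊆ 𝒜, 𝒜'.Finite → (⋂₀ 𝒜').Nonempty := by
    intro 𝒜' h𝒜' hfin
    suffices h : ∃ W : Set Y, IsOpen W ∧ (T ∩ W).Nonempty ∧ C ∩ π ⁻¹' W ⊆ ⋂₀ 𝒜' by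
      obtain ⟨W, -, ⟨y, hyT, hyW⟩, hsub⟩ := h
      obtain ⟨x, rfl⟩ := hs y
      exact ⟨x, hsub ⟨hyT, hyW⟩⟩
    induction 𝒜', hfin using Set.Finite.induction_on with
    | empty =>
      exact ⟨Set.univ, isOpen_univ, by simpa using hTirr.nonempty, by simp⟩
    | @insert A 𝒜'' hA hfin' ih =>
      obtain ⟨W, hW, hTW, hsub⟩ := ih (fun a ha => h𝒜' (Set.mem_insert_of_mem _ ha))
      rcases h𝒜' (Set.mem_insert A 𝒜'') with rfl | ⟨W', hW', -, hTW', rfl⟩
      · refine ⟨W, hW, hTW, ?_⟩
        rw [Set.sInter_insert]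
        exact Set.subset_inter Set.inter_subset_left hsub
      · refine ⟨W' ∩ W, hW'.inter hW, hTirr.isPreirreducible W' W hW' hW hTW' hTW, ?_⟩
        rw [Set.sInter_insert]
        refine Set.subset_inter ?_ ?_
        · rintro x ⟨-, hx⟩
          exact hx.1
        · rintro x ⟨hxC, hx⟩
          exact hsub ⟨hxC, hx.2⟩
  obtain ⟨x, hx⟩ := @CompactSpace.nonempty_sInter X (constructibleTopology X)
    compactSpace_constructible 𝒜 hcl hfip
  have hxC : π x ∈ T := hx C (Or.inl rfl)
  refine ⟨π x, ?_⟩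
  have hY := prespectralSpace_of_open_surjective π hc ho hs
  apply Set.Subset.antisymm
  · exact closure_minimal (Set.singleton_subset_iff.2 hxC) hTcl
  · intro t ht
    rw [mem_closure_iff]
    intro O hO htO
    obtain ⟨W, ⟨hW₁, hW₂⟩, htW, hWO⟩ :=
      (PrespectralSpace.isTopologicalBasis (X := Y)).exists_subset_of_mem_open htO hO
    have : x ∈ π ⁻¹' W := hx _ (Or.inr ⟨W, hW₁, hW₂, ⟨t, ht, htW⟩, rfl⟩)
    exact ⟨π x, hWO this, rfl⟩

variable (h3 : ∀ (x₀ : X) (y' : Y), y' ⤳ π x₀ → ∃ x₁, x₁ ⤳ x₀ ∧ π x₁ = y')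
  (h4 : ∀ y : Y, ∃ a, π a = y ∧ ∀ b, π b = y → b ⤳ a → b = a)

include h3 h4 in
omit hc ho hs h2 in
theorem t0Space_of_lift [T0Space X] : T0Space Y := by
  constructor
  intro y y' hyy'
  obtain ⟨a, rfl, ha⟩ := h4 y
  obtain ⟨u', hu'a, rfl⟩ := h3 a y' hyy'.specializes'
  obtain ⟨u'', hu''u', hu''⟩ := h3 u' (π a) hyy'.specializes
  have h5 : u'' = a := ha u'' hu'' (hu''u'.trans hu'a)
  rw [h5] at hu''u'
  have h6 : u' = a := (hu'a.antisymm hu''u').eq
  rw [h6]

include h3 h4 in
/-- The quotient of a spectral space by a suitable open equivalence relation is spectral. -/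
theorem spectralSpace_of_open_surjective [SpectralSpace X] : SpectralSpace Y where
  __ := t0Space_of_lift π h3 h4
  __ := hs.compactSpace hc
  __ := quasiSober_of_open_surjective π hc ho hs h2
  __ := quasiSeparatedSpace_of_open_surjective π hc ho hs h2
  __ := prespectralSpace_of_open_surjective π hc ho hs

end Quot

end Groth.Agent.Lib.Helper27.SpecQuot
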