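import Groth.Agent.Lib.Helper27.SpecQuot1
import Groth.Agent.Lib.Helper27.GenLift1
import Groth.Agent.Lib.Helper27.LocQTriple

/-!
# The space of points of a smooth affine chart of a stack with quasi-compact diagonal (helper27)
-/

set_option autoImplicit false
set_option backward.isDefEq.respectTransparency false
set_option backward.isDefEq.respectTransparency.types false

universe u

open CategoryTheory CategoryTheory.Limits FibCat AlgebraicGeometry Opposite Topology
  Groth.Agent.Lib.Helper27.FpKit Groth.Agent.Lib.Helper27.PointsKit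
  Groth.Agent.Lib.Helper27.RepWithComp Groth.Agent.Lib.Helper27.StPoints
  Groth.Agent.Lib.Helper27.RepCancel Groth.Agent.Lib.Helper27.LocQChart

namespace Groth.Agent.Lib.Helper27.SpecQuot

variable {S : Scheme.{u}} {𝒴 : AlgSt.Cat S}

local infixr:80 " ⊚ " => BasedFunctor.comp

/-- An affine scheme smooth over an affine smooth chart whose two maps to the chart describe the
equivalence relation of having the same image in the space of points. -/
theorem exists_relation_chart [QuasiSeparatedSpace ↥S] (h𝒴 : FibCat.IsFibGrpd 𝒴.p)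
    (hd : AlgSt.RepByAlgSpWith AlgSp.IsQuasiCompactMor (FibCat.diag (FibCat.toSelf 𝒴)))
    {V : Over S} (hV : IsAffine V.left) (v : overCat V ⥤ᵇ 𝒴)
    (hv : AlgSt.RepByAlgSpWith (AlgSp.LocP @Smooth) v) :
    ∃ (R' : Over S) (s t : R' ⟶ V), IsAffine R'.left ∧ Smooth s.left ∧
      (∀ q, AlgSt.Points.ofChart v (s.left q) = AlgSt.Points.ofChart v (t.left q)) ∧
      (∀ o v₂, AlgSt.Points.ofChart v o = AlgSt.Points.ofChart v v₂ →
        ∃ q, s.left q = o ∧ t.left q = v₂) := by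
  have hfO : ∀ Z : Over S, FibCat.IsFibGrpd (overCat Z).p :=
    fun Z => Groth.Agent.Lib.Helper27.ReprAux.isFibGrpd_overCat Z
  have hsmooth := compHyp_locP (S := S) Groth.Agent.Lib.Helper3.isEtLocal_smooth
  have hVst := Groth.Agent.Lib.Helper27.QcStack.isAlgStack_overCat V
  have hVq := Groth.Agent.Lib.Helper27.QcStack.isQuasiCompact_overCat V hV
  obtain ⟨R', r, hR'a, hr₁, hr₂⟩ :=
    Groth.Agent.Lib.Helper27.QcOpenCrit.isQuasiCompact_fp_of_diag hVst hVst hd v v hVq hVq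
  have hfW : FibCat.IsFibGrpd (fp v v).p :=
    Groth.Agent.Lib.Helper27.FpFib.isFibGrpd_fp v v (hfO V) (hfO V) h𝒴
  obtain ⟨s, hs⟩ : ∃ s : R' ⟶ V, s = homOf (r ⊚ fpFst v v) := ⟨_, rfl⟩
  obtain ⟨t, ht⟩ : ∃ t : R' ⟶ V, t = homOf (r ⊚ fpSnd v v) := ⟨_, rfl⟩
  have θs : r ⊚ fpFst v v ≅ AlgSt.overMap s := by rw [hs]; exact isoOverMap _
  have θt : r ⊚ fpSnd v v ≅ AlgSt.overMap t := by rw [ht]; exact isoOverMap _
  have hps : ∀ q, AlgSt.Points.map (fpFst v v) (AlgSt.Points.ofChart r q) = ptOf V (s.left q) := by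
    intro q
    rw [ofChart_eq, ← map_comp, map_iso θs, map_overMap_ptOf]
  have hpt : ∀ q, AlgSt.Points.map (fpSnd v v) (AlgSt.Points.ofChart r q) = ptOf V (t.left q) := by
    intro q
    rw [ofChart_eq, ← map_comp, map_iso θt, map_overMap_ptOf]
  have hrs := ofChart_surjective hfW r hr₂
  refine ⟨R', s, t, hR'a, ?_, ?_, ?_⟩
  · have hsm : AlgSt.RepByAlgSpWith (AlgSp.LocP @Smooth) (r ⊚ fpFst v v) :=
      comp_gen _ hsmooth (hfO R') hfW r (fpFst v v) hr₁
        (Groth.Agent.Lib.Helper27.RepWithGeneral.repByAlgSpWith_fpFst _ v v hv)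
    have h1 := Groth.Agent.Lib.Helper27.LocQTriple.prop_yon_homOf _ hsmooth (r ⊚ fpFst v v) hsm
    rw [← hs] at h1
    exact AlgSp.locP_yon_map h1
  · intro q
    rw [ofChart_eq, ofChart_eq, ← hps, ← hpt, ← map_comp, ← map_comp]
    exact map_iso (fpIso v v) _
  · intro o v₂ ho
    obtain ⟨w, hw₁, hw₂⟩ := exists_points_fp (hfO V) h𝒴 (hfO V) v v (ptOf V o) (ptOf V v₂)
      (by rw [← ofChart_eq, ← ofChart_eq, ho])
    obtain ⟨q, rfl⟩ := hrs w
    rw [hps] at hw₁
    rw [hpt] at hw₂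
    exact ⟨q, (ptOf_bijective V).1 hw₁, (ptOf_bijective V).1 hw₂⟩

end Groth.Agent.Lib.Helper27.SpecQuot
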