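import Groth.Agent.Lib.Helper27.SpecQuot2

/-!
# Spectrality of the image of a smooth affine chart (helper27)
-/

set_option autoImplicit false
set_option backward.isDefEq.respectTransparency false
set_option backward.isDefEq.respectTransparency.types false

universe u

open CategoryTheory CategoryTheory.Limits AlgebraicGeometry Opposite Topology TopologicalSpace

namespace Groth.Agent.Lib.Helper27.SpecQuot

/-- The fibres of a morphism of finite type are Noetherian. -/
theorem noetherianSpace_fiber {R V : Scheme.{u}} (s : R ⟶ V) [LocallyOfFiniteType s]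
    [QuasiCompact s] (v : V) : NoetherianSpace ↥(s.fiber v) := by
  haveI : LocallyOfFiniteType (s.fiberToSpecResidueField v) :=
    MorphismProperty.pullback_snd _ _ inferInstance
  haveI : QuasiCompact (s.fiberToSpecResidueField v) :=
    MorphismProperty.pullback_snd _ _ inferInstance
  haveI : IsLocallyNoetherian (s.fiber v) :=
    LocallyOfFiniteType.isLocallyNoetherian (s.fiberToSpecResidueField v)
  haveI : CompactSpace ↥(s.fiber v) :=
    QuasiCompact.compactSpace_of_compactSpace (s.fiberToSpecResidueField v)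
  haveI : IsNoetherian (s.fiber v) := {}
  infer_instance

/-- The image of a nonempty Noetherian quasi-sober space in a `T0` space has a point without
proper generalizations in the image. -/
theorem exists_maximal_of_noetherian {F X : Type*} [TopologicalSpace F] [TopologicalSpace X]
    [NoetherianSpace F] [QuasiSober F] [Nonempty F] [T0Space X] (σ : F → X) (hσ : Continuous σ) :
    ∃ a ∈ Set.range σ, ∀ b ∈ Set.range σ, b ⤳ a → b = a := by
  have hfin : (irreducibleComponents F).Finite := NoetherianSpace.finite_irreducibleComponents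
  have hgen : ∀ C ∈ irreducibleComponents F, ∃ ξ : F, IsGenericPoint ξ C := by
    intro C hC
    exact QuasiSober.sober hC.1 (isClosed_of_mem_irreducibleComponents C hC)
  choose! g hg using hgen
  have hne : (irreducibleComponents F).Nonempty := by
    obtain ⟨x⟩ := (inferInstance : Nonempty F)
    have hx : x ∈ ⋃₀ irreducibleComponents F := by rw [sUnion_irreducibleComponents]; trivial
    obtain ⟨C, hC, -⟩ := hx
    exact ⟨C, hC⟩
  let A : Set X := (fun C => σ (g C)) '' irreducibleComponents F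
  have hA : A.Finite := hfin.image _
  have hAne : A.Nonempty := hne.image _
  letI := specializationPreorder X
  obtain ⟨a, ha⟩ := hA.exists_maximal hAne
  obtain ⟨⟨C₀, hC₀, rfl⟩, hmax⟩ := ha
  refine ⟨σ (g C₀), ⟨_, rfl⟩, ?_⟩
  rintro _ ⟨φ, rfl⟩ hb
  have hφ : φ ∈ ⋃₀ irreducibleComponents F := by rw [sUnion_irreducibleComponents]; trivial
  obtain ⟨C, hC, hφC⟩ := hφ
  have h1 : g C ⤳ φ := by
    rw [specializes_iff_mem_closure, (hg C hC).def]
    exact hφC
  have h2 : σ (g C) ⤳ σ φ := h1.map hσ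
  have h3 : σ (g C) ⤳ σ (g C₀) := h2.trans hb
  have h4 : σ (g C₀) ⤳ σ (g C) := hmax ⟨C, hC, rfl⟩ h3
  exact ((h4.trans h2).antisymm hb).eq.symm

section Chart

variable {V R : Scheme.{u}} [IsAffine V] [IsAffine R] (s t : R ⟶ V) [Smooth s]
  {Y : Type*} [TopologicalSpace Y] (π : ↥V → Y)
  (hE1 : ∀ q, π (s q) = π (t q))
  (hE2 : ∀ o v₂, π o = π v₂ → ∃ q, s q = o ∧ t q = v₂)

include hE1 hE2 in
/-- Saturations of quasi-compact opens are quasi-compact. -/
theorem isCompact_saturation (K : Set ↥V) (hK : IsOpen K) (hK' : IsCompact K) :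
    IsCompact (π ⁻¹' (π '' K)) := by
  have h1 : π ⁻¹' (π '' K) = s '' (t ⁻¹' K) := by
    ext o
    constructor
    · rintro ⟨k, hk, hko⟩
      obtain ⟨q, hq₁, hq₂⟩ := hE2 o k hko.symm
      exact ⟨q, by rw [Set.mem_preimage, hq₂]; exact hk, hq₁⟩
    · rintro ⟨q, hq, rfl⟩
      exact ⟨t q, hq, (hE1 q).symm⟩
  rw [h1]
  haveI : QuasiCompact t := inferInstance
  exact (QuasiCompact.isCompact_preimage (f := t) K hK hK').image s.continuous

variable (hc : Continuous π) (ho : IsOpenMap π)

include hE1 hE2 ho in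
/-- Generalizations lift along the chart. -/
theorem exists_generalization (x₀ : ↥V) (y' : Y) (hsp : y' ⤳ π x₀) :
    ∃ x₁, x₁ ⤳ x₀ ∧ π x₁ = y' := by
  obtain ⟨v₂, hv₂⟩ : ∃ v₂ : ↥V, π v₂ = y' := by
    have h1 : IsOpen (Set.range π) := ho.isOpen_range
    exact hsp.mem_open h1 ⟨x₀, rfl⟩
  haveI : QuasiCompact s := inferInstance
  haveI := noetherianSpace_fiber s v₂
  let ι : s.fiber v₂ ⟶ R := s.fiberι v₂
  let h : ↥(s.fiber v₂) → ↥V := fun φ => t (ι φ)
  have hcont : Continuous h := t.continuous.comp ι.continuous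
  have hcl : x₀ ∈ closure (Set.range h) := by
    rw [mem_closure_iff]
    intro O hO hx₀O
    have h1 : IsOpen (π '' O) := ho O hO
    obtain ⟨o, hoO, ho'⟩ := hsp.mem_open h1 ⟨x₀, hx₀O, rfl⟩
    obtain ⟨q, hq₁, hq₂⟩ := hE2 v₂ o (by rw [hv₂, ho'])
    have hq₃ : q ∈ Set.range ι := by
      rw [Scheme.Hom.range_fiberι]
      exact hq₁
    obtain ⟨φ, rfl⟩ := hq₃
    exact ⟨o, hoO, φ, hq₂⟩
  obtain ⟨ξ, hξ⟩ :=
    Groth.Agent.Lib.Helper3.DvrCl.exists_specializes_of_mem_closure_range h hcont x₀ hcl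
  refine ⟨h ξ, hξ, ?_⟩
  rw [← hv₂]
  change π (t (ι ξ)) = _
  rw [← hE1]
  congr 1
  have h2 : ι ξ ∈ s ⁻¹' {v₂} := by
    rw [← Scheme.Hom.range_fiberι]
    exact ⟨ξ, rfl⟩
  exact h2

include hE1 hE2 in
/-- Every fibre of the chart has a point without proper generalization in the fibre. -/
theorem exists_maximal_fibre (x : ↥V) :
    ∃ a, π a = π x ∧ ∀ b, π b = π x → b ⤳ a → b = a := by
  haveI : QuasiCompact s := inferInstance
  haveI := noetherianSpace_fiber s x
  let ι : s.fiber x ⟶ R := s.fiberι x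
  let h : ↥(s.fiber x) → ↥V := fun φ => t (ι φ)
  have hcont : Continuous h := t.continuous.comp ι.continuous
  have hrange : Set.range h = {b | π b = π x} := by
    ext b
    constructor
    · rintro ⟨φ, rfl⟩
      change π (t (ι φ)) = π x
      rw [← hE1]
      congr 1
      have h2 : ι φ ∈ s ⁻¹' {x} := by
        rw [← Scheme.Hom.range_fiberι]
        exact ⟨φ, rfl⟩
      exact h2
    · intro hb
      obtain ⟨q, hq₁, hq₂⟩ := hE2 x b (Eq.symm hb)
      have hq₃ : q ∈ Set.range ι := by
        rw [Scheme.Hom.range_fiberι]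
        exact hq₁
      obtain ⟨φ, rfl⟩ := hq₃
      exact ⟨φ, hq₂⟩
  haveI : Nonempty ↥(s.fiber x) := by
    have : x ∈ Set.range h := by rw [hrange]; rfl
    obtain ⟨φ, -⟩ := this
    exact ⟨φ⟩
  obtain ⟨a, ha, hmax⟩ := exists_maximal_of_noetherian h hcont
  rw [hrange] at ha hmax
  exact ⟨a, ha, hmax⟩

include hE1 hE2 hc ho in
/-- The image of the chart is a spectral space. -/
theorem spectralSpace_range : SpectralSpace ↥(Set.range π) := by
  haveI : QuasiSeparatedSpace ↥V := quasiSeparatedSpace_of_isAffine V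
  haveI : SpectralSpace ↥V := {}
  let π' : ↥V → ↥(Set.range π) := Set.rangeFactorization π
  have hc' : Continuous π' := hc.subtype_mk _
  have ho' : IsOpenMap π' := by
    intro K hK
    have h1 : π' '' K = Subtype.val ⁻¹' (π '' K) := by
      ext y
      constructor
      · rintro ⟨k, hk, rfl⟩
        exact ⟨k, hk, rfl⟩
      · rintro ⟨k, hk, hky⟩
        exact ⟨k, hk, Subtype.ext hky⟩
    rw [h1]
    exact (ho K hK).preimage continuous_subtype_val
  have hs' : Function.Surjective π' := Set.rangeFactorization_surjective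
  have hval : ∀ a b : ↥V, π' a = π' b ↔ π a = π b := fun a b => Subtype.ext_iff
  refine spectralSpace_of_open_surjective π' hc' ho' hs' ?_ ?_ ?_
  · intro K hK hK'
    have h1 : π' ⁻¹' (π' '' K) = π ⁻¹' (π '' K) := by
      ext o
      constructor
      · rintro ⟨k, hk, hko⟩
        exact ⟨k, hk, (hval k o).1 hko⟩
      · rintro ⟨k, hk, hko⟩
        exact ⟨k, hk, (hval k o).2 hko⟩
    rw [h1]
    exact isCompact_saturation s t π hE1 hE2 K hK hK'
  · intro x₀ y' hsp
    have hsp' : y'.1 ⤳ π x₀ := (Topology.IsInducing.subtypeVal.specializes_iff).2 hsp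
    obtain ⟨x₁, hx₁, hx₁'⟩ := exists_generalization s t π hE1 hE2 ho x₀ y'.1 hsp'
    exact ⟨x₁, hx₁, Subtype.ext hx₁'⟩
  · intro y
    obtain ⟨x, rfl⟩ := hs' y
    obtain ⟨a, ha, hmax⟩ := exists_maximal_fibre s t π hE1 hE2 x
    exact ⟨a, (hval a x).2 ha, fun b hb => hmax b ((hval b x).1 hb)⟩

end Chart

end Groth.Agent.Lib.Helper27.SpecQuot
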