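import Groth.Agent.Lib.Helper27.SpecQuot3
import Groth.Agent.Lib.Helper27.StPointsTop3
import Groth.Agent.Lib.Helper27.OpenSub

/-!
# The space of points of an algebraic stack with quasi-compact diagonal is locally spectral
# (helper27)
-/

set_option autoImplicit false
set_option backward.isDefEq.respectTransparency false
set_option backward.isDefEq.respectTransparency.types false

universe u

open CategoryTheory CategoryTheory.Limits FibCat AlgebraicGeometry Opposite Topology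
  Groth.Agent.Lib.Helper27.FpKit Groth.Agent.Lib.Helper27.PointsKit
  Groth.Agent.Lib.Helper27.RepWithComp Groth.Agent.Lib.Helper27.StPoints
  Groth.Agent.Lib.Helper27.RepCancel Groth.Agent.Lib.Helper27.LocQChart

namespace Groth.Agent.Lib.Helper27.SpecQuot

variable {S : Scheme.{u}} {𝒴 : AlgSt.Cat S}

local infixr:80 " ⊚ " => BasedFunctor.comp

/-- The image of a smooth affine chart of an algebraic stack with quasi-compact diagonal is a
spectral space. -/
theorem spectralSpace_range_ofChart [QuasiSeparatedSpace ↥S]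
    (h𝒴 : AlgSt.IsAlgStack Scheme.fppfPrecoverage 𝒴)
    (hd : AlgSt.RepByAlgSpWith AlgSp.IsQuasiCompactMor (FibCat.diag (FibCat.toSelf 𝒴)))
    {V : Over S} (hV : IsAffine V.left) (v : overCat V ⥤ᵇ 𝒴)
    (hv : AlgSt.RepByAlgSpWith (AlgSp.LocP @Smooth) v) :
    SpectralSpace ↥(Set.range (AlgSt.Points.ofChart v)) := by
  obtain ⟨R', s, t, hR', hs, hE1, hE2⟩ := exists_relation_chart h𝒴.isStack.1 hd hV v hv
  haveI := hV
  haveI := hR'
  haveI := hs
  exact spectralSpace_range s.left t.left (AlgSt.Points.ofChart v) hE1 hE2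
    (continuous_ofChart h𝒴 v) (isOpenMap_ofChart_of_smooth h𝒴.isStack.1 v hv)

/-- The space of points of a quasi-compact algebraic stack with quasi-compact diagonal is
spectral. -/
theorem spectralSpace_points [QuasiSeparatedSpace ↥S]
    (h𝒴 : AlgSt.IsAlgStack Scheme.fppfPrecoverage 𝒴) (hqc : AlgSt.IsQuasiCompact 𝒴)
    (hd : AlgSt.RepByAlgSpWith AlgSp.IsQuasiCompactMor (FibCat.diag (FibCat.toSelf 𝒴))) :
    SpectralSpace (AlgSt.Points 𝒴) := by
  obtain ⟨V, v, hV, hv₁, hv₂⟩ := hqc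
  have H := spectralSpace_range_ofChart h𝒴 hd hV v hv₁
  have hsurj := ofChart_surjective h𝒴.isStack.1 v hv₂
  have hr : Set.range (AlgSt.Points.ofChart v) = Set.univ := hsurj.range_eq
  rw [hr] at H
  haveI := hV
  haveI : CompactSpace (AlgSt.Points 𝒴) :=
    Function.Surjective.compactSpace (continuous_ofChart h𝒴 v) hsurj
  exact (Homeomorph.Set.univ (AlgSt.Points 𝒴)).symm.isOpenEmbedding.spectralSpace

/-- Every point of an algebraic stack with quasi-compact diagonal has an open spectral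
neighbourhood. -/
theorem exists_spectral_nhd [QuasiSeparatedSpace ↥S]
    (h𝒴 : AlgSt.IsAlgStack Scheme.fppfPrecoverage 𝒴)
    (hd : AlgSt.RepByAlgSpWith AlgSp.IsQuasiCompactMor (FibCat.diag (FibCat.toSelf 𝒴)))
    (x : AlgSt.Points 𝒴) :
    ∃ U : Set (AlgSt.Points 𝒴), IsOpen U ∧ x ∈ U ∧ SpectralSpace ↥U := by
  obtain ⟨Y, y, hy₁, hy₂⟩ := h𝒴.atlas
  obtain ⟨y₀, rfl⟩ := ofChart_surjective h𝒴.isStack.1 y hy₂ x
  obtain ⟨V₀, hV₀, hyV₀, -⟩ := exists_isAffineOpen_mem_and_subset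
    (x := y₀) (U := (⊤ : Y.left.Opens)) trivial
  let V : Over S := Groth.Agent.Lib.Helper27.OpenSub.opObj V₀
  let j : V ⟶ Y := Groth.Agent.Lib.Helper27.OpenSub.opHom V₀
  have hfO : ∀ Z : Over S, FibCat.IsFibGrpd (overCat Z).p :=
    fun Z => Groth.Agent.Lib.Helper27.ReprAux.isFibGrpd_overCat Z
  have hjs : Smooth j.left := by
    change Smooth V₀.ι
    infer_instance
  have hv : AlgSt.RepByAlgSpWith (AlgSp.LocP @Smooth) (AlgSt.overMap j ⊚ y) :=
    comp_gen _ (compHyp_locP (S := S) Groth.Agent.Lib.Helper3.isEtLocal_smooth) (hfO _) (hfO _)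
      (AlgSt.overMap j) y
      (Groth.Agent.Lib.Helper27.LocQSmoothOpen.repByAlgSpWith_overMap _
        (Groth.Agent.Lib.Helper27.QcImage.locP_stable Groth.Agent.Lib.Helper3.isEtLocal_smooth) j
        (Groth.Agent.Lib.Helper27.LocQSmoothOpen.locP_smooth_yon_map j hjs)) hy₁
  have hVa : IsAffine V.left := hV₀
  refine ⟨Set.range (AlgSt.Points.ofChart (AlgSt.overMap j ⊚ y)), ?_, ?_,
    spectralSpace_range_ofChart h𝒴 hd hVa _ hv⟩
  · exact (isOpenMap_ofChart_of_smooth h𝒴.isStack.1 _ hv).isOpen_range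
  · refine ⟨⟨y₀, hyV₀⟩, ?_⟩
    rw [ofChart_overMap]
    rfl

/-- The space of points of an algebraic stack with quasi-compact diagonal is locally spectral,
sober and Kolmogorov. -/
theorem locally_spectral [QuasiSeparatedSpace ↥S]
    (h𝒴 : AlgSt.IsAlgStack Scheme.fppfPrecoverage 𝒴)
    (hd : AlgSt.RepByAlgSpWith AlgSp.IsQuasiCompactMor (FibCat.diag (FibCat.toSelf 𝒴))) :
    (∀ x : AlgSt.Points 𝒴, ∃ U : Set (AlgSt.Points 𝒴), IsOpen U ∧ x ∈ U ∧ SpectralSpace ↥U) ∧
      QuasiSober (AlgSt.Points 𝒴) ∧ T0Space (AlgSt.Points 𝒴) := by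
  have H := exists_spectral_nhd h𝒴 hd
  refine ⟨H, ?_, ?_⟩
  · let 𝒮 : Set (Set (AlgSt.Points 𝒴)) := {U | IsOpen U ∧ SpectralSpace ↥U}
    haveI : ∀ s : 𝒮, QuasiSober s := fun s => by
      haveI := s.2.2
      infer_instance
    refine quasiSober_of_open_cover 𝒮 (fun s => s.2.1) ?_
    rw [Set.top_eq_univ, Set.eq_univ_iff_forall]
    intro x
    obtain ⟨U, hU, hxU, hUs⟩ := H x
    exact ⟨U, ⟨hU, hUs⟩, hxU⟩
  · refine T0Space.of_open_cover fun x => ?_
    obtain ⟨U, hU, hxU, hUs⟩ := H x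
    exact ⟨U, hxU, hU, inferInstance⟩

end Groth.Agent.Lib.Helper27.SpecQuot
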