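import Mathlib.Topology.Spectral.Basic
import Mathlib.Topology.Spectral.ConstructibleTopology

set_option autoImplicit false

namespace Groth.Agent.Lib.Helper27.SpecTop

open Topology

variable {X : Type*} [TopologicalSpace X]

/-- A set is pro-constructible if it is closed in the constructible topology. -/
def IsProCons (D : Set X) : Prop := IsClosed[constructibleTopology X] D

lemma isOpen_cons_of_isOpen [PrespectralSpace X] {U : Set X} (hU : IsOpen U) :
    IsOpen[constructibleTopology X] U := by
  rw [PrespectralSpace.isTopologicalBasis.open_eq_sUnion' hU]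
  refine @isOpen_sUnion X (constructibleTopology X) _ ?_
  rintro s ⟨⟨hs1, hs2⟩, -⟩
  exact hs2.isOpen_constructibleTopology_of_isOpen hs1

lemma IsProCons.of_isClosed [PrespectralSpace X] {D : Set X} (h : IsClosed D) : IsProCons D := by
  refine @IsClosed.mk X (constructibleTopology X) _ ?_
  exact isOpen_cons_of_isOpen h.isOpen_compl

lemma IsProCons.of_isCompact_isOpen {U : Set X} (hc : IsCompact U) (ho : IsOpen U) :
    IsProCons U := by
  refine @IsClosed.mk X (constructibleTopology X) _ ?_
  refine IsCompact.isOpen_constructibleTopology_of_isClosed ?_ ho.isClosed_compl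
  rwa [compl_compl]

lemma IsProCons.inter {D E : Set X} (hD : IsProCons D) (hE : IsProCons E) : IsProCons (D ∩ E) :=
  @IsClosed.inter X D E (constructibleTopology X) hD hE

lemma IsProCons.union {D E : Set X} (hD : IsProCons D) (hE : IsProCons E) : IsProCons (D ∪ E) :=
  @IsClosed.union X D E (constructibleTopology X) hD hE

lemma IsProCons.sInter {S : Set (Set X)} (h : ∀ D ∈ S, IsProCons D) : IsProCons (⋂₀ S) :=
  @isClosed_sInter X (constructibleTopology X) S h

lemma IsProCons.biUnion_finset {ι : Type*} (T : Finset ι) (D : ι → Set X)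
    (h : ∀ k ∈ T, IsProCons (D k)) : IsProCons (⋃ k ∈ T, D k) :=
  @Set.Finite.isClosed_biUnion X ι (constructibleTopology X) (↑T) D T.finite_toSet h

/-- The set of generalizations of the points of a compact set is pro-constructible. -/
lemma isProCons_gen [PrespectralSpace X] {T : Set X} (hT : IsCompact T) :
    IsProCons {y | ∃ c ∈ T, y ⤳ c} := by
  have : {y : X | ∃ c ∈ T, y ⤳ c} =
      ⋂₀ {W : Set X | IsCompact W ∧ IsOpen W ∧ T ⊆ W} := by
    ext y
    simp only [Set.mem_ofPred_eq, Set.mem_sInter, and_imp]
    constructor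
    · rintro ⟨c, hc, hyc⟩ W - hWo hTW
      exact hyc.mem_open hWo (hTW hc)
    · intro h
      by_contra hcon
      push Not at hcon
      have hsub : T ⊆ (closure {y})ᶜ := by
        intro c hc hcy
        exact hcon c hc (specializes_iff_mem_closure.mpr hcy)
      obtain ⟨W, hWc, hWo, hTW, hWU⟩ :=
        PrespectralSpace.exists_isCompact_and_isOpen_between hT isClosed_closure.isOpen_compl hsub
      exact hWU (h W hWc hWo hTW) (subset_closure rfl)
  rw [this]
  exact IsProCons.sInter fun W hW => IsProCons.of_isCompact_isOpen hW.1 hW.2.1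

lemma IsProCons.isCompact_cons [CompactSpace X] [QuasiSober X] [PrespectralSpace X]
    [QuasiSeparatedSpace X] {D : Set X} (hD : IsProCons D) :
    @IsCompact X (constructibleTopology X) D := by
  have h1 : IsCompact (WithTopology.ofTopology (t := constructibleTopology X) ⁻¹' D) := by
    apply IsClosed.isCompact
    rw [WithConstructibleTopology.isClosed_iff]
    exact hD
  have h2 := @IsCompact.image _ X _ (constructibleTopology X) _ _ h1
    (WithTopology.continuous_ofTopology _)
  rwa [Set.image_preimage_eq _ (WithTopology.ofTopology_surjective _)] at h2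

/-- If `D` is pro-constructible and no point of `D` specializes to `x`, then some open
neighbourhood of `x` is disjoint from `D`. -/
theorem exists_open_nhd_disjoint [CompactSpace X] [QuasiSober X] [PrespectralSpace X]
    [QuasiSeparatedSpace X] {D : Set X} (hD : IsProCons D) (x : X)
    (hx : ∀ y ∈ D, ¬ y ⤳ x) :
    ∃ N : Set X, IsOpen N ∧ x ∈ N ∧ Disjoint N D := by
  have hc := hD.isCompact_cons
  -- for each y ∈ D choose a compact open nbhd of x not containing y
  have key : ∀ y ∈ D, ∃ W : Set X, IsCompact W ∧ IsOpen W ∧ x ∈ W ∧ y ∉ W := by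
    intro y hy
    have hxy : x ∈ (closure {y})ᶜ := fun h => hx y hy (specializes_iff_mem_closure.mpr h)
    obtain ⟨W, hW, hxW, hWU⟩ :=
      PrespectralSpace.isTopologicalBasis.exists_subset_of_mem_open hxy
        isClosed_closure.isOpen_compl
    exact ⟨W, hW.2, hW.1, hxW, fun hyW => hWU hyW (subset_closure rfl)⟩
  choose! W hWc hWo hxW hyW using key
  obtain ⟨t, htD, htfin, hcov⟩ := @IsCompact.elim_finite_subcover_image X X (constructibleTopology X)
    D D (fun y => (W y)ᶜ) hc
    (fun y hy => by
      refine IsCompact.isOpen_constructibleTopology_of_isClosed ?_ (hWo y hy).isClosed_compl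
      rw [compl_compl]; exact hWc y hy)
    (fun y hy => Set.mem_biUnion hy (hyW y hy))
  refine ⟨⋂ y ∈ t, W y, htfin.isOpen_biInter fun y hy => hWo y (htD hy), ?_, ?_⟩
  · simp only [Set.mem_iInter]
    exact fun y hy => hxW y (htD hy)
  · rw [Set.disjoint_left]
    intro a ha haD
    obtain ⟨y, hy, hay⟩ := Set.mem_iUnion₂.mp (hcov haD)
    exact hay (Set.mem_iInter₂.mp ha y hy)

end Groth.Agent.Lib.Helper27.SpecTop
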