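import Groth.Agent.Lib.Helper27.SpecTop1
import Mathlib.Topology.Sheaves.SheafCondition.UniqueGluing
import Mathlib.Topology.Sheaves.Stalks

set_option autoImplicit false

universe u

open CategoryTheory Opposite TopologicalSpace Topology

namespace Groth.Agent.Lib.Helper27.SpecTop

variable {X : TopCat.{u}} (F : TopCat.Sheaf (Type u) X)

/-- Two sections agree near a point. -/
def AgreeAt {U V : Opens X} (s : F.1.obj (op U)) (t : F.1.obj (op V)) (x : X) : Prop :=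
  ∃ (W : Opens X) (_ : x ∈ W) (f : W ⟶ U) (g : W ⟶ V), F.1.map f.op s = F.1.map g.op t

variable {F}

lemma AgreeAt.refl {U : Opens X} (s : F.1.obj (op U)) {x : X} (hx : x ∈ U) : AgreeAt F s s x :=
  ⟨U, hx, 𝟙 _, 𝟙 _, rfl⟩

lemma AgreeAt.symm {U V : Opens X} {s : F.1.obj (op U)} {t : F.1.obj (op V)} {x : X}
    (h : AgreeAt F s t x) : AgreeAt F t s x := by
  obtain ⟨W, hx, f, g, e⟩ := h
  exact ⟨W, hx, g, f, e.symm⟩

lemma AgreeAt.mem_left {U V : Opens X} {s : F.1.obj (op U)} {t : F.1.obj (op V)} {x : X}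
    (h : AgreeAt F s t x) : x ∈ U := by
  obtain ⟨W, hx, f, g, e⟩ := h
  exact f.le hx

lemma AgreeAt.mem_right {U V : Opens X} {s : F.1.obj (op U)} {t : F.1.obj (op V)} {x : X}
    (h : AgreeAt F s t x) : x ∈ V := h.symm.mem_left

lemma map_map_apply {U V W : Opens X} (f : V ⟶ U) (g : W ⟶ V) (h : W ⟶ U) (s : F.1.obj (op U)) :
    F.1.map g.op (F.1.map f.op s) = F.1.map h.op s := by
  obtain rfl : h = g ≫ f := Subsingleton.elim _ _
  rw [op_comp, F.1.map_comp, ConcreteCategory.comp_apply]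

lemma map_comp_apply' {U V W : Opens X} (f : V ⟶ U) (g : W ⟶ V) (s : F.1.obj (op U)) :
    F.1.map g.op (F.1.map f.op s) = F.1.map (g ≫ f).op s :=
  map_map_apply f g _ s

lemma AgreeAt.trans {U V V' : Opens X} {s : F.1.obj (op U)} {t : F.1.obj (op V)}
    {r : F.1.obj (op V')} {x : X}
    (h : AgreeAt F s t x) (h' : AgreeAt F t r x) : AgreeAt F s r x := by
  obtain ⟨W, hx, f, g, e⟩ := h
  obtain ⟨W', hx', f', g', e'⟩ := h'
  refine ⟨W ⊓ W', ⟨hx, hx'⟩, Opens.infLELeft _ _ ≫ f, Opens.infLERight _ _ ≫ g', ?_⟩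
  rw [← map_map_apply f (Opens.infLELeft W W') _ s, e,
    map_map_apply g (Opens.infLELeft W W') (Opens.infLERight W W' ≫ f') t,
    ← map_map_apply f' (Opens.infLERight W W') _ t, e',
    map_map_apply g' (Opens.infLERight W W') _ r]

lemma AgreeAt.of_specializes {U V : Opens X} {s : F.1.obj (op U)} {t : F.1.obj (op V)} {x y : X}
    (h : AgreeAt F s t x) (hyx : y ⤳ x) : AgreeAt F s t y := by
  obtain ⟨W, hx, f, g, e⟩ := h
  exact ⟨W, hyx.mem_open W.2 hx, f, g, e⟩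

lemma isOpen_agreeAt {U V : Opens X} (s : F.1.obj (op U)) (t : F.1.obj (op V)) :
    IsOpen {x | AgreeAt F s t x} := by
  rw [isOpen_iff_forall_mem_open]
  rintro x ⟨W, hx, f, g, e⟩
  exact ⟨W, fun y hy => ⟨W, hy, f, g, e⟩, W.2, hx⟩

lemma AgreeAt.restrict_left {U U' V : Opens X} {s : F.1.obj (op U)} {t : F.1.obj (op V)} {x : X}
    (h : AgreeAt F s t x) (f : U' ⟶ U) (hx : x ∈ U') : AgreeAt F (F.1.map f.op s) t x := by
  refine AgreeAt.trans ?_ h
  exact ⟨U', hx, 𝟙 _, f, by simp⟩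

/-- Sections agreeing near every point of `W` have equal restrictions to `W`. -/
lemma eq_of_agreeAt {U V W : Opens X} (s : F.1.obj (op U)) (t : F.1.obj (op V))
    (f : W ⟶ U) (g : W ⟶ V) (h : ∀ y ∈ W, AgreeAt F s t y) :
    F.1.map f.op s = F.1.map g.op t := by
  choose N hN fN gN eN using h
  refine TopCat.Sheaf.eq_of_locally_eq' F (fun y : W => N y.1 y.2 ⊓ W) W
    (fun y => Opens.infLERight _ _) ?_ _ _ ?_
  · intro y hy
    exact Opens.mem_iSup.mpr ⟨⟨y, hy⟩, hN y hy, hy⟩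
  · intro y
    rw [map_map_apply f _ (Opens.infLELeft _ _ ≫ fN y.1 y.2) s,
      map_map_apply g _ (Opens.infLELeft _ _ ≫ gN y.1 y.2) t,
      ← map_map_apply (fN y.1 y.2) (Opens.infLELeft _ _) _ s, eN,
      map_map_apply (gN y.1 y.2) (Opens.infLELeft _ _) _ t]

end Groth.Agent.Lib.Helper27.SpecTop
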