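import Groth.Agent.Lib.Helper27.SpecTop2

set_option autoImplicit false

universe u v

open CategoryTheory Opposite TopologicalSpace Topology

namespace Groth.Agent.Lib.Helper27.SpecTop

variable {X : TopCat.{u}} {ι : Type v}

/-- The index `k` is active at `y`: some specialization of `y` lies in `Z ∩ U k`. -/
def Act (Z : Set X) (T : Finset ι) (U : ι → Opens X) (y : X) (k : ι) : Prop :=
  k ∈ T ∧ ∃ c ∈ Z, y ⤳ c ∧ c ∈ U k

variable {Z : Set X} {T : Finset ι} {U : ι → Opens X}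

lemma Act.mem {y : X} {k : ι} (h : Act Z T U y k) : y ∈ U k := by
  obtain ⟨-, c, -, hyc, hc⟩ := h
  exact hyc.mem_open (U k).2 hc

lemma Act.of_specializes {x y : X} {k : ι} (h : Act Z T U x k) (hyx : y ⤳ x) : Act Z T U y k := by
  obtain ⟨hk, c, hcZ, hxc, hc⟩ := h
  exact ⟨hk, c, hcZ, hyx.trans hxc, hc⟩

lemma act_exists (hcov : Z ⊆ ⋃ k ∈ T, (U k : Set X))
    (hconn : ∀ x : X, IsConnected (Z ∩ closure {x})) (y : X) : ∃ k, Act Z T U y k := by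
  obtain ⟨c, hcZ, hcy⟩ := (hconn y).nonempty
  obtain ⟨k, hk, hck⟩ := Set.mem_iUnion₂.mp (hcov hcZ)
  exact ⟨k, hk, c, hcZ, specializes_iff_mem_closure.mpr hcy, hck⟩

variable {F : TopCat.Sheaf (Type u) X} {s : ∀ k, F.1.obj (op (U k))}

/-- Sections with active indices at `y` agree near `y`. -/
lemma agreeAt_of_act (hcov : Z ⊆ ⋃ k ∈ T, (U k : Set X))
    (hconn : ∀ x : X, IsConnected (Z ∩ closure {x}))
    (hagree : ∀ k ∈ T, ∀ l ∈ T, ∀ z ∈ Z, z ∈ U k → z ∈ U l → AgreeAt F (s k) (s l) z)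
    (y : X) (k l : ι) (hk : Act Z T U y k) (hl : Act Z T U y l) :
    AgreeAt F (s k) (s l) y := by
  by_contra hne
  set u : Set X := ⋃ m ∈ {m | Act Z T U y m ∧ AgreeAt F (s k) (s m) y}, (U m : Set X) with hu
  set v : Set X := ⋃ m ∈ {m | Act Z T U y m ∧ ¬ AgreeAt F (s k) (s m) y}, (U m : Set X) with hv
  have huo : IsOpen u := isOpen_biUnion fun m _ => (U m).2
  have hvo : IsOpen v := isOpen_biUnion fun m _ => (U m).2
  have hsub : Z ∩ closure {y} ⊆ u ∪ v := by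
    rintro c ⟨hcZ, hcy⟩
    obtain ⟨m, hm, hcm⟩ := Set.mem_iUnion₂.mp (hcov hcZ)
    have hact : Act Z T U y m := ⟨hm, c, hcZ, specializes_iff_mem_closure.mpr hcy, hcm⟩
    by_cases hag : AgreeAt F (s k) (s m) y
    · exact Or.inl (Set.mem_iUnion₂.mpr ⟨m, ⟨hact, hag⟩, hcm⟩)
    · exact Or.inr (Set.mem_iUnion₂.mpr ⟨m, ⟨hact, hag⟩, hcm⟩)
  have hnu : ((Z ∩ closure {y}) ∩ u).Nonempty := by
    obtain ⟨hkT, c, hcZ, hyc, hck⟩ := hk
    exact ⟨c, ⟨hcZ, specializes_iff_mem_closure.mp hyc⟩,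
      Set.mem_iUnion₂.mpr ⟨k, ⟨⟨hkT, c, hcZ, hyc, hck⟩, AgreeAt.refl _ (hyc.mem_open (U k).2 hck)⟩,
        hck⟩⟩
  have hnv : ((Z ∩ closure {y}) ∩ v).Nonempty := by
    obtain ⟨hlT, c, hcZ, hyc, hcl⟩ := hl
    exact ⟨c, ⟨hcZ, specializes_iff_mem_closure.mp hyc⟩,
      Set.mem_iUnion₂.mpr ⟨l, ⟨⟨hlT, c, hcZ, hyc, hcl⟩, hne⟩, hcl⟩⟩
  obtain ⟨c, ⟨hcZ, hcy⟩, hcu, hcv⟩ := (hconn y).isPreconnected u v huo hvo hsub hnu hnv
  obtain ⟨m, ⟨hm, hkm⟩, hcm⟩ := Set.mem_iUnion₂.mp hcu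
  obtain ⟨m', ⟨hm', hkm'⟩, hcm'⟩ := Set.mem_iUnion₂.mp hcv
  have h1 : AgreeAt F (s m) (s m') c := hagree m hm.1 m' hm'.1 c hcZ hcm hcm'
  exact hkm' (hkm.trans (h1.of_specializes (specializes_iff_mem_closure.mpr hcy)))

end Groth.Agent.Lib.Helper27.SpecTop
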