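import Groth.Agent.Lib.Helper27.SpecTop3

set_option autoImplicit false

universe u v

open CategoryTheory Opposite TopologicalSpace Topology

namespace Groth.Agent.Lib.Helper27.SpecTop

variable {X : TopCat.{u}} [SpectralSpace X] {ι : Type v}
variable {Z : Set X} {T : Finset ι} {U : ι → Opens X}
variable {F : TopCat.Sheaf (Type u) X} {s : ∀ k, F.1.obj (op (U k))}

/-- Near a point `x` at which `k` is active, `s k` agrees with every section active there. -/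
lemma exists_nhd_agree (hZ : IsClosed Z) (hUc : ∀ k ∈ T, IsCompact (U k : Set X))
    (hcov : Z ⊆ ⋃ k ∈ T, (U k : Set X))
    (hconn : ∀ x : X, IsConnected (Z ∩ closure {x}))
    (hagree : ∀ k ∈ T, ∀ l ∈ T, ∀ z ∈ Z, z ∈ U k → z ∈ U l → AgreeAt F (s k) (s l) z)
    (x : X) (k : ι) (hk : Act Z T U x k) :
    ∃ N : Opens X, x ∈ N ∧ N ≤ U k ∧ ∀ y ∈ N, ∀ l, Act Z T U y l → AgreeAt F (s k) (s l) y := by
  set D : Set X := ⋃ l ∈ T, (((U k : Set X) ∩ {y | AgreeAt F (s k) (s l) y}ᶜ) ∩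
    {y | ∃ c ∈ Z ∩ (U l : Set X), y ⤳ c}) with hD
  have hDp : IsProCons D := by
    refine IsProCons.biUnion_finset T _ fun l hl => ?_
    refine IsProCons.inter (IsProCons.inter ?_ ?_) ?_
    · exact IsProCons.of_isCompact_isOpen (hUc k hk.1) (U k).2
    · exact IsProCons.of_isClosed (isOpen_agreeAt _ _).isClosed_compl
    · exact isProCons_gen ((hUc l hl).inter_left hZ)
  have hno : ∀ y ∈ D, ¬ y ⤳ x := by
    intro y hy hyx
    obtain ⟨l, hl, ⟨-, hne⟩, c, ⟨hcZ, hcl⟩, hyc⟩ := Set.mem_iUnion₂.mp hy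
    exact hne (agreeAt_of_act hcov hconn hagree y k l (hk.of_specializes hyx)
      ⟨hl, c, hcZ, hyc, hcl⟩)
  obtain ⟨N₀, hN₀o, hxN₀, hdisj⟩ := exists_open_nhd_disjoint hDp x hno
  refine ⟨⟨N₀, hN₀o⟩ ⊓ U k, ⟨hxN₀, hk.mem⟩, inf_le_right, ?_⟩
  rintro y ⟨hyN₀, hyk⟩ l hl
  by_contra hne
  refine Set.disjoint_left.mp hdisj hyN₀ (Set.mem_iUnion₂.mpr ⟨l, hl.1, ⟨hyk, hne⟩, ?_⟩)
  obtain ⟨-, c, hcZ, hyc, hcl⟩ := hl
  exact ⟨c, ⟨hcZ, hcl⟩, hyc⟩

/-- Gluing lemma: a finite family of sections over compact opens covering `Z`, agreeing near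
the points of `Z`, comes from a global section (near `Z`). -/
theorem exists_glue (hZ : IsClosed Z) (hUc : ∀ k ∈ T, IsCompact (U k : Set X))
    (hcov : Z ⊆ ⋃ k ∈ T, (U k : Set X))
    (hconn : ∀ x : X, IsConnected (Z ∩ closure {x}))
    (hagree : ∀ k ∈ T, ∀ l ∈ T, ∀ z ∈ Z, z ∈ U k → z ∈ U l → AgreeAt F (s k) (s l) z) :
    ∃ t : F.1.obj (op ⊤), ∀ k ∈ T, ∀ z ∈ Z, z ∈ U k → AgreeAt F t (s k) z := by
  have hex := fun x => act_exists (T := T) (U := U) hcov hconn x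
  choose κ hκ using hex
  have hN := fun x => exists_nhd_agree hZ hUc hcov hconn hagree x (κ x) (hκ x)
  choose N hxN hNU hNag using hN
  let sf : ∀ x : X, F.1.obj (op (N x)) := fun x => F.1.map (homOfLE (hNU x)).op (s (κ x))
  have hcompat : TopCat.Presheaf.IsCompatible F.1 N sf := by
    intro x x'
    dsimp only [sf]
    rw [map_map_apply _ _ (Opens.infLELeft _ _ ≫ homOfLE (hNU x)),
      map_map_apply _ _ (Opens.infLERight _ _ ≫ homOfLE (hNU x'))]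
    apply eq_of_agreeAt
    rintro y ⟨hy, hy'⟩
    obtain ⟨l, hl⟩ := act_exists (T := T) (U := U) hcov hconn y
    exact (hNag x y hy l hl).trans (hNag x' y hy' l hl).symm
  obtain ⟨t, ht, -⟩ := F.existsUnique_gluing' N ⊤ (fun x => homOfLE le_top)
    (fun x _ => Opens.mem_iSup.mpr ⟨x, hxN x⟩) sf hcompat
  refine ⟨t, fun k hk z hzZ hzk => ?_⟩
  have h1 : AgreeAt F t (s (κ z)) z :=
    ⟨N z, hxN z, homOfLE le_top, homOfLE (hNU z), ht z⟩
  exact h1.trans (hNag z z (hxN z) k ⟨hk, z, hzZ, specializes_rfl, hzk⟩)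

end Groth.Agent.Lib.Helper27.SpecTop
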