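import Groth.Agent.Lib.Helper27.SpecTop4
import Mathlib.Topology.Sheaves.Functors

set_option autoImplicit false

universe u

open CategoryTheory Opposite TopologicalSpace Topology

namespace Groth.Agent.Lib.Helper27.SpecTop

variable {X : TopCat.{u}}

/-- The inclusion of a subset, as a morphism of `TopCat`. -/
def incl (Z : Set X) : TopCat.of Z ⟶ X :=
  TopCat.ofHom ⟨(Subtype.val : Z → X), continuous_subtype_val⟩

variable {Z : Set X} {F : TopCat.Sheaf (Type u) X} {G : TopCat.Sheaf (Type u) (TopCat.of Z)}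
  (η : F ⟶ (TopCat.Sheaf.pushforward (Type u) (incl Z)).obj G)

lemma eta_map_apply {U V : Opens X} (f : V ⟶ U) (s : F.1.obj (op U)) :
    η.hom.app (op V) (F.1.map f.op s) =
      G.1.map ((Opens.map (incl Z)).map f).op (η.hom.app (op U) s) := by
  have := η.hom.naturality f.op
  exact ConcreteCategory.congr_hom this s

lemma AgreeAt.eta {U V : Opens X} {s : F.1.obj (op U)} {s' : F.1.obj (op V)} {z : Z}
    (h : AgreeAt F s s' z.1) :
    AgreeAt G (η.hom.app (op U) s) (η.hom.app (op V) s') z := by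
  obtain ⟨W, hz, f, g, e⟩ := h
  refine ⟨(Opens.map (incl Z)).obj W, hz, (Opens.map (incl Z)).map f, (Opens.map (incl Z)).map g, ?_⟩
  rw [← eta_map_apply, ← eta_map_apply, e]

end Groth.Agent.Lib.Helper27.SpecTop

namespace Groth.Agent.Lib.Helper27.SpecTop

variable {X : TopCat.{u}} [SpectralSpace X]
variable {Z : Set X} {F : TopCat.Sheaf (Type u) X} {G : TopCat.Sheaf (Type u) (TopCat.of Z)}
  (η : F ⟶ (TopCat.Sheaf.pushforward (Type u) (incl Z)).obj G)

/-- local lifting of a global section of `G` to sections of `F` over compact opens -/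
lemma exists_local_lift
    (H2 : ∀ (z : Z) (V' : Opens (TopCat.of Z)) (g : G.1.obj (op V')), z ∈ V' →
      ∃ (U : Opens X) (s : F.1.obj (op U)), AgreeAt G (η.hom.app (op U) s) g z)
    (g : G.1.obj (op ((Opens.map (incl Z)).obj ⊤))) (z : Z) :
    ∃ (U : Opens X) (_ : IsCompact (U : Set X)) (_ : z.1 ∈ U) (s : F.1.obj (op U)),
      η.hom.app (op U) s = G.1.map ((Opens.map (incl Z)).map (homOfLE le_top : U ⟶ ⊤)).op g := by
  obtain ⟨U', s', W, hzW, f, gg, e⟩ := H2 z _ g trivial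
  obtain ⟨V, hVo, hVW⟩ := isOpen_induced_iff.mp W.2
  have hzU' : z.1 ∈ U' := f.le hzW
  have hzV : z.1 ∈ V := by
    have : z ∈ Subtype.val ⁻¹' V := by rw [hVW]; exact hzW
    exact this
  obtain ⟨Uc, ⟨hUco, hUcc⟩, hzUc, hUcsub⟩ :=
    PrespectralSpace.isTopologicalBasis.exists_subset_of_mem_open
      (show z.1 ∈ (U' : Set X) ∩ V from ⟨hzU', hzV⟩) (U'.2.inter hVo)
  have hle : (⟨Uc, hUco⟩ : Opens X) ≤ U' := fun y hy => (hUcsub hy).1
  have hleW : (Opens.map (incl Z)).obj ⟨Uc, hUco⟩ ≤ W := by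
    intro y hy
    have : y ∈ Subtype.val ⁻¹' V := (hUcsub hy).2
    rw [hVW] at this
    exact this
  refine ⟨⟨Uc, hUco⟩, hUcc, hzUc, F.1.map (homOfLE hle).op s', ?_⟩
  rw [eta_map_apply,
    ← map_map_apply (F := G) f (homOfLE hleW) ((Opens.map (incl Z)).map (homOfLE hle)), e,
    map_map_apply (F := G)]

theorem bijective_of_local (hZ : IsClosed Z) (hconn : ∀ x : X, IsConnected (Z ∩ closure {x}))
    (H1 : ∀ (z : Z) (U V : Opens X) (s : F.1.obj (op U)) (s' : F.1.obj (op V)),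
      AgreeAt G (η.hom.app (op U) s) (η.hom.app (op V) s') z → AgreeAt F s s' z.1)
    (H2 : ∀ (z : Z) (V' : Opens (TopCat.of Z)) (g : G.1.obj (op V')), z ∈ V' →
      ∃ (U : Opens X) (s : F.1.obj (op U)), AgreeAt G (η.hom.app (op U) s) g z) :
    Function.Bijective (η.hom.app (op ⊤)) := by
  constructor
  · intro s t hst
    have h : ∀ y ∈ (⊤ : Opens X), AgreeAt F s t y := by
      intro y _
      obtain ⟨c, hcZ, hcy⟩ := (hconn y).nonempty
      have h1 : AgreeAt F s t c := H1 ⟨c, hcZ⟩ ⊤ ⊤ s t (by rw [hst]; exact AgreeAt.refl _ trivial)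
      exact h1.of_specializes (specializes_iff_mem_closure.mpr hcy)
    have := eq_of_agreeAt s t (𝟙 _) (𝟙 _) h
    simpa using this
  · intro g
    have hloc := fun z => exists_local_lift η H2 g z
    choose U hUc hzU s hs using hloc
    have hcov0 : Z ⊆ ⋃ z : Z, (U z : Set X) := fun x hx => Set.mem_iUnion.mpr ⟨⟨x, hx⟩, hzU ⟨x, hx⟩⟩
    obtain ⟨T, hT⟩ := hZ.isCompact.elim_finite_subcover (fun z : Z => (U z : Set X))
      (fun z => (U z).2) hcov0
    have hagree : ∀ k ∈ T, ∀ l ∈ T, ∀ z ∈ Z, z ∈ U k → z ∈ U l → AgreeAt F (s k) (s l) z := by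
      intro k _ l _ z hzZ hzk hzl
      refine H1 ⟨z, hzZ⟩ (U k) (U l) (s k) (s l) ?_
      refine ⟨(Opens.map (incl Z)).obj (U k) ⊓ (Opens.map (incl Z)).obj (U l), ⟨hzk, hzl⟩,
        Opens.infLELeft _ _, Opens.infLERight _ _, ?_⟩
      rw [hs k, hs l, map_comp_apply' (F := G), map_comp_apply' (F := G)]
      exact congrArg (fun h => (G.1.map (Quiver.Hom.op h)) g) (Subsingleton.elim _ _)
    obtain ⟨t, ht⟩ := exists_glue (F := F) (s := s) hZ (fun k _ => hUc k) hT hconn hagree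
    refine ⟨t, ?_⟩
    have h : ∀ z ∈ (Opens.map (incl Z)).obj ⊤, AgreeAt G (η.hom.app (op ⊤) t) g z := by
      intro z _
      obtain ⟨k, hk, hzk⟩ := Set.mem_iUnion₂.mp (hT z.2)
      have h1 : AgreeAt F t (s k) z.1 := ht k hk z.1 z.2 hzk
      have h2 : AgreeAt G (η.hom.app (op (U k)) (s k)) g z :=
        ⟨(Opens.map (incl Z)).obj (U k), hzk, 𝟙 _, (Opens.map (incl Z)).map (homOfLE le_top),
          by rw [hs k]; simp⟩
      exact (h1.eta η).trans h2
    have := eq_of_agreeAt (F := G) _ g (𝟙 _) (𝟙 _) h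
    rw [op_id, G.1.map_id] at this
    exact this

end Groth.Agent.Lib.Helper27.SpecTop
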