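import Groth.Agent.Lib.Helper27.SpecTop5
import Mathlib.Topology.Sheaves.Sheafify

set_option autoImplicit false
set_option backward.isDefEq.respectTransparency false

universe u

open CategoryTheory Opposite TopologicalSpace Topology TopCat TopCat.Presheaf

namespace Groth.Agent.Lib.Helper27.SpecTop

section general

variable {X Z' : TopCat.{u}} (i : Z' ⟶ X)

lemma stalkPushforward_naturality {P Q : Z'.Presheaf (Type u)} (α : P ⟶ Q) (z : Z') :
    (stalkFunctor (Type u) (i z)).map ((Presheaf.pushforward (Type u) i).map α) ≫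
        Q.stalkPushforward (Type u) i z =
      P.stalkPushforward (Type u) i z ≫ (stalkFunctor (Type u) z).map α := by
  refine stalk_hom_ext _ fun U hU => ?_
  rw [stalkFunctor_map_germ_assoc, stalkPushforward_germ, stalkPushforward_germ_assoc,
    stalkFunctor_map_germ]
  rfl

variable {F : TopCat.Sheaf (Type u) X} {G : TopCat.Sheaf (Type u) Z'}

/-- The map on stalks induced by a morphism `F ⟶ i_* G`. -/
noncomputable def stalkTheta (η : F ⟶ (TopCat.Sheaf.pushforward (Type u) i).obj G) (z : Z') :
    F.presheaf.stalk (i z) ⟶ G.presheaf.stalk z :=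
  (stalkFunctor (Type u) (i z)).map η.hom ≫ G.presheaf.stalkPushforward (Type u) i z

lemma stalkTheta_germ (η : F ⟶ (TopCat.Sheaf.pushforward (Type u) i).obj G) (z : Z')
    (U : Opens X) (hz : i z ∈ U) (s : F.1.obj (op U)) :
    stalkTheta i η z (F.presheaf.germ U (i z) hz s) =
      G.presheaf.germ ((Opens.map i).obj U) z hz (η.hom.app (op U) s) := by
  have h : F.presheaf.germ U (i z) hz ≫ stalkTheta i η z =
      η.hom.app (op U) ≫ G.presheaf.germ ((Opens.map i).obj U) z hz := by
    dsimp only [stalkTheta]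
    rw [stalkFunctor_map_germ_assoc]
    exact congrArg (η.hom.app (op U) ≫ ·) (stalkPushforward_germ (Type u) i G.1 U z hz)
  exact ConcreteCategory.congr_hom h s

end general

variable {X : TopCat.{u}} {F : TopCat.Sheaf (Type u) X}

lemma agreeAt_iff_germ {U V : Opens X} (s : F.1.obj (op U)) (t : F.1.obj (op V)) (x : X) :
    AgreeAt F s t x ↔ ∃ (hU : x ∈ U) (hV : x ∈ V),
      F.presheaf.germ U x hU s = F.presheaf.germ V x hV t := by
  constructor
  · rintro ⟨W, hx, f, g, e⟩
    refine ⟨f.le hx, g.le hx, ?_⟩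
    rw [← germ_res_apply F.1 f x hx s, ← germ_res_apply F.1 g x hx t, e]
  · rintro ⟨hU, hV, e⟩
    obtain ⟨W, hx, f, g, e'⟩ := germ_eq F.1 x hU hV s t e
    exact ⟨W, hx, f, g, e'⟩

end Groth.Agent.Lib.Helper27.SpecTop
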