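import Groth.Agent.Lib.Helper27.SpecTop6

set_option autoImplicit false
set_option backward.isDefEq.respectTransparency false

universe u

open CategoryTheory Opposite TopologicalSpace Topology TopCat TopCat.Presheaf

namespace Groth.Agent.Lib.Helper27.SpecTop

variable {X : TopCat.{u}} [SpectralSpace X]
variable {Z : Set X} {F : TopCat.Sheaf (Type u) X} {G : TopCat.Sheaf (Type u) (TopCat.of Z)}
  (η : F ⟶ (TopCat.Sheaf.pushforward (Type u) (incl Z)).obj G)

/-- If `η : F ⟶ i_* G` induces bijections on all stalks at points of `Z`, then it induces a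
bijection on global sections (under the connectedness hypothesis on `Z`). -/
theorem bijective_of_stalkTheta (hZ : IsClosed Z)
    (hconn : ∀ x : X, IsConnected (Z ∩ closure {x}))
    (hθ : ∀ z : Z, Function.Bijective (stalkTheta (incl Z) η z)) :
    Function.Bijective (η.hom.app (op ⊤)) := by
  refine bijective_of_local η hZ hconn ?_ ?_
  · intro z U V s s' h
    obtain ⟨hU, hV, e⟩ := (agreeAt_iff_germ _ _ _).mp h
    refine (agreeAt_iff_germ _ _ _).mpr ⟨hU, hV, (hθ z).1 ?_⟩
    have h1 := stalkTheta_germ (incl Z) η z U hU s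
    have h2 := stalkTheta_germ (incl Z) η z V hV s'
    exact h1.trans (e.trans h2.symm)
  · intro z V' g hz
    obtain ⟨a, ha⟩ := (hθ z).2 (G.presheaf.germ V' z hz g)
    obtain ⟨U, hU, s, rfl⟩ := exists_germ_eq F.presheaf a
    refine ⟨U, s, (agreeAt_iff_germ _ _ _).mpr ⟨hU, hz, ?_⟩⟩
    exact (stalkTheta_germ (incl Z) η z U hU s).symm.trans ha

end Groth.Agent.Lib.Helper27.SpecTop
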