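import Groth.Agent.Lib.Helper27.SpecTop7

set_option autoImplicit false
set_option backward.isDefEq.respectTransparency false

universe u

open CategoryTheory Opposite TopologicalSpace Topology TopCat TopCat.Presheaf

namespace Groth.Agent.Lib.Helper27.SpecTop

variable {X Z' : TopCat.{u}} (i : Z' ⟶ X) (F : TopCat.Sheaf (Type u) X)

/-- The constructed adjunction between pullback and pushforward of sheaves of types. -/
noncomputable abbrev adjC :=
  Functor.sheafPullbackConstruction.sheafAdjunctionContinuous (Opens.map i) (Type u)
    (Opens.grothendieckTopology X) (Opens.grothendieckTopology Z')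

lemma adjC_unit_hom :
    ((adjC i).unit.app F).hom =
      (TopCat.Presheaf.pullbackPushforwardAdjunction (Type u) i).unit.app F.1 ≫
        (Presheaf.pushforward (Type u) i).map
          (toSheafify (Opens.grothendieckTopology Z') ((Presheaf.pullback (Type u) i).obj F.1)) := by
  have key := Adjunction.map_restrictFullyFaithful_unit_app
    (L := Functor.sheafPullbackConstruction.sheafPullback (Opens.map i) (Type u)
      (Opens.grothendieckTopology X) (Opens.grothendieckTopology Z'))
    (R := (Opens.map i).sheafPushforwardContinuous (Type u)
      (Opens.grothendieckTopology X) (Opens.grothendieckTopology Z'))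
    (((Opens.map i).op.lanAdjunction (Type u)).comp
      (sheafificationAdjunction (Opens.grothendieckTopology Z') (Type u)))
    (fullyFaithfulSheafToPresheaf (Opens.grothendieckTopology X) (Type u))
    (Functor.FullyFaithful.id _) (Iso.refl _) (Iso.refl _) F
  rw [Adjunction.comp_unit_app] at key
  refine key.trans ?_
  simp
  rfl

end Groth.Agent.Lib.Helper27.SpecTop

namespace Groth.Agent.Lib.Helper27.SpecTop

variable {X Z' : TopCat.{u}} (i : Z' ⟶ X) (F : TopCat.Sheaf (Type u) X)

lemma stalkTheta_adjC (z : Z') :
    stalkTheta i ((adjC i).unit.app F) z =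
      stalkPullbackHom (Type u) i F.1 z ≫ (stalkFunctor (Type u) z).map
        (toSheafify (Opens.grothendieckTopology Z') ((Presheaf.pullback (Type u) i).obj F.1)) := by
  dsimp only [stalkTheta]
  rw [adjC_unit_hom, Functor.map_comp, Category.assoc]
  erw [stalkPushforward_naturality]
  rfl

lemma bijective_stalkTheta_adjC (z : Z') :
    Function.Bijective (stalkTheta i ((adjC i).unit.app F) z) := by
  rw [stalkTheta_adjC]
  have h1 : IsIso (stalkPullbackHom (Type u) i F.1 z) :=
    (stalkPullbackIso (Type u) i F.1 z).isIso_hom
  have h2 := stalkFunctor_map_unit_toSheafify_isIso z (Type u)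
    ((Presheaf.pullback (Type u) i).obj F.1)
  have : IsIso (stalkPullbackHom (Type u) i F.1 z ≫ (stalkFunctor (Type u) z).map
        (toSheafify (Opens.grothendieckTopology Z') ((Presheaf.pullback (Type u) i).obj F.1))) :=
    inferInstance
  exact (isIso_iff_bijective _).mp this

end Groth.Agent.Lib.Helper27.SpecTop
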