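import Groth.Agent.Lib.Helper27.SpecTop8

set_option autoImplicit false
set_option backward.isDefEq.respectTransparency false

universe u

open CategoryTheory Opposite TopologicalSpace Topology TopCat TopCat.Presheaf

namespace Groth.Agent.Lib.Helper27.SpecTop

/-- Sections over a closed subset `Z` of a spectral space such that `Z ∩ closure {x}` is
connected for all `x`: restriction `Γ(X, F) → Γ(Z, F|_Z)` is bijective. -/
theorem sections_bijective (X : TopCat.{u}) [SpectralSpace X]
    (Z : Set X) (hZ : IsClosed Z)
    (hconn : ∀ x : X, IsConnected (Z ∩ closure {x}))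
    (F : TopCat.Sheaf (Type u) X) :
    Function.Bijective
      (((TopCat.Sheaf.pullbackPushforwardAdjunction (Type u) (incl Z)).unit.app F).hom.app
        (op ⊤)) := by
  have h1 : Function.Bijective (((adjC (incl Z)).unit.app F).hom.app (op ⊤)) :=
    bijective_of_stalkTheta _ hZ hconn (bijective_stalkTheta_adjC (incl Z) F)
  have e := Adjunction.unit_leftAdjointUniq_hom_app
    (TopCat.Sheaf.pullbackPushforwardAdjunction (Type u) (incl Z)) (adjC (incl Z)) F
  set φ := ((TopCat.Sheaf.pullbackPushforwardAdjunction (Type u) (incl Z)).leftAdjointUniq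
    (adjC (incl Z))).hom.app F with hφ
  have hψ : IsIso (((TopCat.Sheaf.pushforward (Type u) (incl Z)).map φ).hom.app (op ⊤)) := by
    have : IsIso ((TopCat.Sheaf.pushforward (Type u) (incl Z)).map φ) := inferInstance
    have h2 : IsIso ((sheafToPresheaf (Opens.grothendieckTopology X) (Type u)).map
        ((TopCat.Sheaf.pushforward (Type u) (incl Z)).map φ)) :=
      inferInstance
    exact NatIso.isIso_app_of_isIso ((sheafToPresheaf (Opens.grothendieckTopology X) (Type u)).map
        ((TopCat.Sheaf.pushforward (Type u) (incl Z)).map φ)) (op (⊤ : Opens X))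
  have hψ' := (isIso_iff_bijective _).mp hψ
  have e2 : ((adjC (incl Z)).unit.app F).hom.app (op ⊤) =
      ((TopCat.Sheaf.pullbackPushforwardAdjunction (Type u) (incl Z)).unit.app F).hom.app (op ⊤) ≫
        ((TopCat.Sheaf.pushforward (Type u) (incl Z)).map φ).hom.app (op ⊤) := by
    rw [← e]
    rfl
  rw [e2] at h1
  exact (Function.Bijective.of_comp_iff' hψ' _).mp h1

end Groth.Agent.Lib.Helper27.SpecTop
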