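import Mathlib.Topology.Spectral.Basic
import Mathlib.Topology.Spectral.ConstructibleTopology

set_option autoImplicit false

namespace Groth.Agent.Lib.Helper27

open Topology

variable {X : Type*} [TopologicalSpace X]

theorem compactSpace_constructibleTopology [CompactSpace X] [QuasiSober X]
    [PrespectralSpace X] [QuasiSeparatedSpace X] : @CompactSpace X (constructibleTopology X) :=
  @Function.Surjective.compactSpace _ _ _ (constructibleTopology X) _
    (WithTopology.continuous_ofTopology (constructibleTopology X)) _
    (WithTopology.ofTopology_surjective (constructibleTopology X))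

theorem isClosed_constructibleTopology_of_isOpen_isCompact {U : Set X} (ho : IsOpen U)
    (hc : IsCompact U) : IsClosed[constructibleTopology X] U := by
  rw [← @isOpen_compl_iff _ _ (constructibleTopology X)]
  exact IsCompact.isOpen_constructibleTopology_of_isClosed (by simpa using hc) ho.isClosed_compl

theorem isOpen_constructibleTopology_of_isOpen [PrespectralSpace X] {V : Set X} (hV : IsOpen V) :
    IsOpen[constructibleTopology X] V := by
  obtain ⟨S, hS, rfl⟩ := PrespectralSpace.isTopologicalBasis.open_eq_sUnion hV
  exact @isOpen_sUnion _ (constructibleTopology X) _ fun s hs =>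
    IsCompact.isOpen_constructibleTopology_of_isOpen (hS hs).2 (hS hs).1

theorem isClosed_constructibleTopology_of_isClosed [PrespectralSpace X] {V : Set X}
    (hV : IsClosed V) : IsClosed[constructibleTopology X] V := by
  rw [← @isOpen_compl_iff _ _ (constructibleTopology X)]
  exact isOpen_constructibleTopology_of_isOpen hV.isOpen_compl

end Groth.Agent.Lib.Helper27
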