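import Groth.Prelude.Def_FibClv
import Mathlib.CategoryTheory.FiberedCategory.Grothendieck
import Mathlib.CategoryTheory.Bicategory.Functor.LocallyDiscrete

/-!
# A split fibred category is isomorphic to a CoGrothendieck construction (helper27)
-/

set_option autoImplicit false
set_option backward.isDefEq.respectTransparency false
set_option backward.isDefEq.respectTransparency.types false

universe v₁ v₂ u₁ u₂

open CategoryTheory CategoryTheory.Functor Opposite FibCat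

namespace Groth.Agent.Lib.Helper27.SplitIso

variable {𝒮 : Type u₁} [Category.{v₁} 𝒮] {𝒳 : Type u₂} [Category.{v₂} 𝒳]
  {p : 𝒳 ⥤ 𝒮} (K : Cleavage p)

/-- A functor which is injective on objects and faithful is left-cancellable. -/
theorem functor_cancel {A : Type*} [Category A] {B : Type*} [Category B] {D : Type*} [Category D]
    (H₁ H₂ : A ⥤ B) (Ψ : B ⥤ D) (hinj : Function.Injective Ψ.obj) [Ψ.Faithful]
    (h : H₁ ⋙ Ψ = H₂ ⋙ Ψ) : H₁ = H₂ := by
  refine CategoryTheory.Functor.ext (fun X => hinj (Functor.congr_obj h X)) (fun X Y f => ?_)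
  apply Ψ.map_injective
  have := Functor.congr_hom h f
  simpa [eqToHom_map] using this

theorem val_eqToHom {S : 𝒮} {a b : p.Fiber S} (h : a = b) :
    (eqToHom h : a ⟶ b).1 = eqToHom (congrArg Subtype.val h) := by
  subst h; rfl

section Strict

variable (hK : K.IsSplitting)

include hK in
theorem obj_id {S : 𝒮} (a : p.Fiber S) : (K.inverseImage (𝟙 S)).obj a = a := by
  obtain ⟨h, -⟩ := hK.1 a.2
  exact Subtype.ext h

include hK in
theorem lift_id {S : 𝒮} (a : p.Fiber S) :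
    K.lift a.2 (𝟙 S) = eqToHom (congrArg Subtype.val (obj_id K hK a)) := by
  obtain ⟨h, h'⟩ := hK.1 a.2
  exact h'

include hK in
theorem obj_comp {S T U : 𝒮} (f : T ⟶ S) (g : U ⟶ T) (a : p.Fiber S) :
    (K.inverseImage (g ≫ f)).obj a = (K.inverseImage g).obj ((K.inverseImage f).obj a) := by
  obtain ⟨h, -⟩ := hK.2 f g a.2
  exact Subtype.ext h.symm

include hK in
theorem lift_comp {S T U : 𝒮} (f : T ⟶ S) (g : U ⟶ T) (a : p.Fiber S) :
    K.lift a.2 (g ≫ f) = eqToHom (congrArg Subtype.val (obj_comp K hK f g a)) ≫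
      K.lift (K.obj_proj a.2 f) g ≫ K.lift a.2 f := by
  obtain ⟨h, h'⟩ := hK.2 f g a.2
  rw [h']
  simp

include hK in
theorem inverseImage_id (S : 𝒮) : K.inverseImage (𝟙 S) = 𝟭 (p.Fiber S) := by
  refine CategoryTheory.Functor.ext (fun a => obj_id K hK a) (fun a b φ => ?_)
  apply Fiber.hom_ext
  rw [Cleavage.inverseImage_map]
  symm
  apply IsCartesian.map_uniq
  rw [lift_id K hK b, lift_id K hK a]
  simp only [Functor.id_obj, Functor.id_map, Functor.map_comp, eqToHom_map, Category.assoc,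
    eqToHom_trans, eqToHom_refl, Category.comp_id]

include hK in
theorem inverseImage_comp {S T U : 𝒮} (f : T ⟶ S) (g : U ⟶ T) :
    K.inverseImage (g ≫ f) = K.inverseImage f ⋙ K.inverseImage g := by
  refine CategoryTheory.Functor.ext (fun a => obj_comp K hK f g a) (fun a b φ => ?_)
  apply Fiber.hom_ext
  rw [Cleavage.inverseImage_map]
  symm
  apply IsCartesian.map_uniq
  rw [lift_comp K hK f g b, lift_comp K hK f g a]
  simp only [Functor.comp_obj, Functor.comp_map, Functor.map_comp, eqToHom_map, Category.assoc,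
    eqToHom_trans_assoc, eqToHom_refl, Category.id_comp]
  congr 1
  rw [Cleavage.inverseImage_map, IsCartesian.fac_assoc, Category.assoc,
    Cleavage.inverseImage_map, IsCartesian.fac]

/-- The strict functor of fibres of a split fibred category. -/
noncomputable def F : 𝒮ᵒᵖ ⥤ Cat.{v₂, u₂} where
  obj S := Cat.of (p.Fiber S.unop)
  map f := (K.inverseImage f.unop).toCatHom
  map_id S := by
    apply Cat.Hom.ext
    exact inverseImage_id K hK S.unop
  map_comp f g := by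
    apply Cat.Hom.ext
    exact inverseImage_comp K hK f.unop g.unop

end Strict


section Iso

open Pseudofunctor Pseudofunctor.CoGrothendieck

variable (hK : K.IsSplitting)

/-- The CoGrothendieck construction of the fibres. -/
abbrev Tot : Type _ := ∫ᶜ (F K hK).toPseudofunctor'

variable {K hK}

/-- The fibre component of a morphism of the total category. -/
def fib {X Y : Tot K hK} (f : X ⟶ Y) :
    (X.fiber : p.Fiber X.base) ⟶ (K.inverseImage f.base).obj Y.fiber := f.fiber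

theorem fib_id (X : Tot K hK) :
    (fib (𝟙 X)).1 = eqToHom (congrArg Subtype.val (obj_id K hK X.fiber)).symm := by
  have : fib (𝟙 X) = eqToHom (obj_id K hK X.fiber).symm := by
    change ((F K hK).toPseudofunctor'.mapId ⟨op X.base⟩).inv.toNatTrans.app X.fiber = _
    simp [Cat.eqToHom_app]
  rw [this]
  exact val_eqToHom _

theorem fib_comp {X Y Z : Tot K hK} (f : X ⟶ Y) (g : Y ⟶ Z) :
    (fib (f ≫ g)).1 = (fib f).1 ≫ ((K.inverseImage f.base).map (fib g)).1 ≫
      eqToHom (congrArg Subtype.val (obj_comp K hK g.base f.base Z.fiber)).symm := by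
  have : fib (f ≫ g) = fib f ≫ (K.inverseImage f.base).map (fib g) ≫
      eqToHom (obj_comp K hK g.base f.base Z.fiber).symm := by
    change f.fiber ≫ ((F K hK).toPseudofunctor'.map f.base.op.toLoc).toFunctor.map g.fiber ≫
      ((F K hK).toPseudofunctor'.mapComp g.base.op.toLoc f.base.op.toLoc).inv.toNatTrans.app
        Z.fiber = _
    simp [Cat.eqToHom_app]
    rfl
  rw [this]
  have e := val_eqToHom (obj_comp K hK g.base f.base Z.fiber).symm
  rw [← e]
  rfl

/-- The comparison functor on morphisms. -/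
noncomputable def Ψmap {X Y : Tot K hK} (f : X ⟶ Y) : X.fiber.1 ⟶ Y.fiber.1 :=
  (fib f).1 ≫ K.lift Y.fiber.2 f.base

theorem Ψmap_lift {X Y : Tot K hK} (f : X ⟶ Y) : p.IsHomLift f.base (Ψmap f) := by
  have h1 : p.IsHomLift (𝟙 X.base) (fib f).1 := (fib f).2
  have : p.IsHomLift (𝟙 X.base ≫ f.base) ((fib f).1 ≫ K.lift Y.fiber.2 f.base) := inferInstance
  rwa [Category.id_comp] at this

variable (K hK) in
/-- The comparison functor from the total category to `𝒳`. -/
noncomputable def Ψ : Tot K hK ⥤ 𝒳 where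
  obj X := X.fiber.1
  map f := Ψmap f
  map_id X := by
    change (fib (𝟙 X)).1 ≫ K.lift X.fiber.2 (𝟙 X.base) = 𝟙 _
    rw [fib_id, lift_id K hK]
    simp
  map_comp {X Y Z} f g := by
    change (fib (f ≫ g)).1 ≫ K.lift Z.fiber.2 (f.base ≫ g.base) =
      ((fib f).1 ≫ K.lift Y.fiber.2 f.base) ≫ ((fib g).1 ≫ K.lift Z.fiber.2 g.base)
    rw [fib_comp, lift_comp K hK g.base f.base Z.fiber]
    simp only [Category.assoc, eqToHom_trans_assoc, eqToHom_refl, Category.id_comp]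
    congr 1
    have := Cleavage.inverseImage_map K f.base (fib g)
    change ((K.inverseImage f.base).map (fib g)).1 = _ at this
    rw [this, IsCartesian.fac_assoc]
    exact Category.assoc _ _ _

theorem tot_ext (X Y : Tot K hK) (h : X.fiber.1 = Y.fiber.1) : X = Y := by
  obtain ⟨S, a⟩ := X
  obtain ⟨T, b⟩ := Y
  have hS : S = T := (a : p.Fiber S).2.symm.trans ((congrArg p.obj h).trans (b : p.Fiber T).2)
  subst hS
  have hab : a = b := Subtype.ext h
  rw [hab]

theorem Ψ_obj_injective : Function.Injective (Ψ K hK).obj :=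
  fun X Y h => tot_ext X Y h

theorem hom_ext_tot {X Y : Tot K hK} (f f' : X ⟶ Y) (hb : f.base = f'.base)
    (hv : (fib f).1 ≫ K.lift Y.fiber.2 f.base = (fib f').1 ≫ K.lift Y.fiber.2 f'.base) :
    f = f' := by
  obtain ⟨b, φ⟩ := f
  obtain ⟨b', φ'⟩ := f'
  dsimp at hb
  subst hb
  have l1 : p.IsHomLift (𝟙 X.base) (fib (⟨b, φ⟩ : X ⟶ Y)).1 := (fib (⟨b, φ⟩ : X ⟶ Y)).2
  have l2 : p.IsHomLift (𝟙 X.base) (fib (⟨b, φ'⟩ : X ⟶ Y)).1 := (fib (⟨b, φ'⟩ : X ⟶ Y)).2
  have h1 : (fib (⟨b, φ⟩ : X ⟶ Y)).1 = (fib (⟨b, φ'⟩ : X ⟶ Y)).1 :=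
    IsCartesian.ext p b (K.lift Y.fiber.2 b) _ _ hv
  have h2 : fib (⟨b, φ⟩ : X ⟶ Y) = fib (⟨b, φ'⟩ : X ⟶ Y) := Fiber.hom_ext h1
  have h3 : φ = φ' := h2
  rw [h3]

instance Ψ_faithful : (Ψ K hK).Faithful := by
  refine ⟨fun {X Y} f f' e => ?_⟩
  have e' : Ψmap f = Ψmap f' := e
  have hb : f.base = f'.base := by
    have h1 := Ψmap_lift f
    have h2 := Ψmap_lift f'
    rw [← e'] at h2
    exact (IsHomLift.fac p f.base (Ψmap f)).trans (IsHomLift.fac p f'.base (Ψmap f)).symm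
  exact hom_ext_tot f f' hb e'

instance Ψ_full : (Ψ K hK).Full := by
  refine ⟨fun {X Y} β => ?_⟩
  let β' : X.fiber.1 ⟶ Y.fiber.1 := β
  let b : X.base ⟶ Y.base := eqToHom X.fiber.2.symm ≫ p.map β' ≫ eqToHom Y.fiber.2
  have hβ : p.IsHomLift b β' := by
    change p.IsHomLift (eqToHom X.fiber.2.symm ≫ p.map β' ≫ eqToHom Y.fiber.2) β'
    infer_instance
  let φ : (X.fiber : p.Fiber X.base) ⟶ (K.inverseImage b).obj Y.fiber :=
    ⟨IsCartesian.map p b (K.lift Y.fiber.2 b) β', inferInstance⟩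
  refine ⟨(⟨b, φ⟩ : X ⟶ Y), ?_⟩
  exact IsCartesian.fac p b (K.lift Y.fiber.2 b) β'

variable (K hK) in
/-- The inverse of the comparison functor on objects. -/
def Φobj (a : 𝒳) : Tot K hK := ⟨p.obj a, (⟨a, rfl⟩ : p.Fiber (p.obj a))⟩

theorem Ψ_Φobj (a : 𝒳) : (Ψ K hK).obj (Φobj K hK a) = a := rfl

variable (K hK) in
/-- The inverse of the comparison functor on morphisms. -/
noncomputable def Φmap {a b : 𝒳} (φ : a ⟶ b) : Φobj K hK a ⟶ Φobj K hK b :=
  (Ψ K hK).preimage (X := Φobj K hK a) (Y := Φobj K hK b)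
    (show (Ψ K hK).obj (Φobj K hK a) ⟶ (Ψ K hK).obj (Φobj K hK b) from φ)

theorem Ψ_Φmap {a b : 𝒳} (φ : a ⟶ b) : (Ψ K hK).map (Φmap K hK φ) = φ :=
  (Ψ K hK).map_preimage (X := Φobj K hK a) (Y := Φobj K hK b)
    (show (Ψ K hK).obj (Φobj K hK a) ⟶ (Ψ K hK).obj (Φobj K hK b) from φ)

variable (K hK) in
/-- The inverse of the comparison functor. -/
noncomputable def Φ : 𝒳 ⥤ Tot K hK where
  obj a := Φobj K hK a
  map {a b} φ := Φmap K hK φ
  map_id a := by
    apply (Ψ K hK).map_injective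
    rw [Ψ_Φmap, (Ψ K hK).map_id]
    rfl
  map_comp φ ψ := by
    apply (Ψ K hK).map_injective
    rw [Ψ_Φmap, (Ψ K hK).map_comp, Ψ_Φmap, Ψ_Φmap]

theorem Φ_comp_Ψ : Φ K hK ⋙ Ψ K hK = 𝟭 𝒳 := by
  refine CategoryTheory.Functor.ext (fun a => rfl) (fun a b φ => ?_)
  simp only [Functor.comp_map, Functor.id_map, eqToHom_refl, Category.comp_id, Category.id_comp]
  exact Ψ_Φmap φ

theorem Ψ_comp_Φ : Ψ K hK ⋙ Φ K hK = 𝟭 _ := by
  apply functor_cancel _ _ (Ψ K hK) Ψ_obj_injective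
  rw [Functor.assoc, Φ_comp_Ψ]
  rfl

theorem Φ_comp_forget :
    Φ K hK ⋙ CoGrothendieck.forget (F K hK).toPseudofunctor' = p := by
  refine CategoryTheory.Functor.ext (fun a => rfl) (fun a b φ => ?_)
  simp only [eqToHom_refl, Category.comp_id, Category.id_comp]
  change ((Φ K hK).map φ).base = p.map φ
  have h1 := Ψmap_lift ((Φ K hK).map φ)
  have h2 : Ψmap ((Φ K hK).map φ) = φ := Ψ_Φmap φ
  have h3 : ((Φ K hK).map φ).base = p.map (Ψmap ((Φ K hK).map φ)) :=
    @IsHomLift.eq_of_isHomLift _ _ _ _ p a b ((Φ K hK).map φ).base (Ψmap ((Φ K hK).map φ)) h1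
  exact h3.trans (congrArg p.map h2)

theorem main (K : Cleavage p) (hK : K.IsSplitting) :
    ∃ (F : 𝒮ᵒᵖ ⥤ Cat.{v₂, u₂})
      (Φ : 𝒳 ⥤ Pseudofunctor.CoGrothendieck F.toPseudofunctor')
      (Ψ : Pseudofunctor.CoGrothendieck F.toPseudofunctor' ⥤ 𝒳),
      Φ ⋙ Ψ = 𝟭 𝒳 ∧ Ψ ⋙ Φ = 𝟭 _ ∧
        Φ ⋙ Pseudofunctor.CoGrothendieck.forget F.toPseudofunctor' = p :=
  ⟨F K hK, Φ K hK, Ψ K hK, Φ_comp_Ψ, Ψ_comp_Φ, Φ_comp_forget⟩

end Iso

end Groth.Agent.Lib.Helper27.SplitIso
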