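import Groth.Prelude.Def_Hensel
import Mathlib.RingTheory.Henselian
import Mathlib.Algebra.Ring.Subring.Basic
import Mathlib.RingTheory.LocalRing.ResidueField.Basic

/-!
# Gluing a henselian local ring along a residue map

For a local ring `R`, a henselian local ring `R'` and a ring map `η : R → κ(R')`, the fibre product
`R ×_{κ(R')} R'` is a henselian local ring when `R` is.
-/

set_option autoImplicit false
universe u

open IsLocalRing Polynomial

namespace Groth.Agent.Lib.Helper27.Spz

variable {R R' : Type u} [CommRing R] [CommRing R'] [IsLocalRing R'] (η : R →+* ResidueField R')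

/-- The fibre product ring `R ×_{κ(R')} R'`. -/
noncomputable def Glue : Subring (R × R') :=
  RingHom.eqLocus (η.comp (RingHom.fst R R')) ((residue R').comp (RingHom.snd R R'))

theorem mem_glue (p : R × R') : p ∈ Glue η ↔ η p.1 = residue R' p.2 := Iff.rfl

/-- First projection. -/
noncomputable def pr₁ : Glue η →+* R := (RingHom.fst R R').comp (Glue η).subtype

/-- Second projection. -/
noncomputable def pr₂ : Glue η →+* R' := (RingHom.snd R R').comp (Glue η).subtype

theorem glue_compat (t : Glue η) : η (pr₁ η t) = residue R' (pr₂ η t) := t.2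

theorem pr₁_surjective : Function.Surjective (pr₁ η) := by
  intro r
  obtain ⟨t, ht⟩ := residue_surjective (η r)
  exact ⟨⟨(r, t), ht.symm⟩, rfl⟩

theorem glue_ext {s t : Glue η} (h1 : pr₁ η s = pr₁ η t) (h2 : pr₂ η s = pr₂ η t) : s = t :=
  Subtype.ext (Prod.ext h1 h2)

variable [IsLocalRing R]

theorem isUnit_of_isUnit_pr₁ (t : Glue η) (h : IsUnit (pr₁ η t)) : IsUnit t := by
  have h2 : IsUnit (pr₂ η t) := by
    have h3 : IsUnit (η (pr₁ η t)) := h.map η
    rw [glue_compat] at h3
    exact (isUnit_map_iff (residue R') _).1 h3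
  obtain ⟨u, hu⟩ := h
  obtain ⟨v, hv⟩ := h2
  have hmem : ((↑u⁻¹ : R), (↑v⁻¹ : R')) ∈ Glue η := by
    rw [mem_glue]
    show η ↑u⁻¹ = residue R' ↑v⁻¹
    have e1 : η ↑u * η ↑u⁻¹ = 1 := by rw [← map_mul, Units.mul_inv, map_one]
    have e2 : residue R' ↑v * residue R' ↑v⁻¹ = 1 := by rw [← map_mul, Units.mul_inv, map_one]
    have e3 : η ↑u = residue R' ↑v := by rw [hu, hv]; exact glue_compat η t
    rw [e3] at e1
    have hne : residue R' (↑v : R') ≠ 0 := by
      intro h0; rw [h0, zero_mul] at e2; exact zero_ne_one e2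
    exact mul_left_cancel₀ hne (e1.trans e2.symm)
  refine IsUnit.of_mul_eq_one (⟨_, hmem⟩ : Glue η) ?_
  apply glue_ext
  · show pr₁ η t * ↑u⁻¹ = 1
    rw [← hu, Units.mul_inv]
  · show pr₂ η t * ↑v⁻¹ = 1
    rw [← hv, Units.mul_inv]

instance isLocalHom_pr₁ : IsLocalHom (pr₁ η) := ⟨isUnit_of_isUnit_pr₁ η⟩

instance isLocalRing_glue : IsLocalRing (Glue η) := RingHom.domain_isLocalRing (pr₁ η)

theorem mem_maximalIdeal_glue (t : Glue η) :
    t ∈ maximalIdeal (Glue η) ↔ pr₁ η t ∈ maximalIdeal R := by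
  rw [mem_maximalIdeal, mem_maximalIdeal, mem_nonunits_iff, mem_nonunits_iff, not_iff_not]
  exact ⟨fun h => h.map _, isUnit_of_isUnit_pr₁ η t⟩

end Groth.Agent.Lib.Helper27.Spz
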