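import Groth.Agent.Lib.Helper27.Spz1

/-!
# The glued ring is henselian
-/

set_option autoImplicit false
universe u

open IsLocalRing Polynomial

namespace Groth.Agent.Lib.Helper27.Spz

variable {R R' : Type u} [CommRing R] [CommRing R'] [HenselianLocalRing R] [HenselianLocalRing R']
  (η : R →+* ResidueField R')

theorem comp_pr_eq : (residue R').comp (pr₂ η) = η.comp (pr₁ η) := by
  ext t
  exact (glue_compat η t).symm

theorem isUnit_eval_of_sub_mem {S : Type u} [CommRing S] [IsLocalRing S] (p : S[X]) (a b : S)
    (hab : a - b ∈ maximalIdeal S) (hb : IsUnit (p.eval b)) : IsUnit (p.eval a) := by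
  have h1 : p.eval a - p.eval b ∈ maximalIdeal S :=
    Ideal.mem_of_dvd _ (Polynomial.sub_dvd_eval_sub a b p) hab
  by_contra hna
  have h2 : p.eval a ∈ maximalIdeal S := hna
  have h3 : p.eval b ∈ maximalIdeal S := by
    have := (maximalIdeal S).sub_mem h2 h1
    rwa [sub_sub_cancel] at this
  exact h3 hb

instance henselian_glue : HenselianLocalRing (Glue η) where
  is_henselian f hf a₀ h0 h1 := by
    have hR : HenselianLocalRing R := inferInstance
    have hR' : HenselianLocalRing R' := inferInstance
    -- first component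
    have e1 : (f.map (pr₁ η)).eval (pr₁ η a₀) ∈ maximalIdeal R := by
      rw [Polynomial.eval_map_apply]
      exact (mem_maximalIdeal_glue η _).1 h0
    have e2 : IsUnit ((f.map (pr₁ η)).derivative.eval (pr₁ η a₀)) := by
      rw [Polynomial.derivative_map, Polynomial.eval_map_apply]
      exact h1.map _
    obtain ⟨r, hr, hr0⟩ := hR.is_henselian (f.map (pr₁ η)) (hf.map _) (pr₁ η a₀) e1 e2
    have hru : IsUnit ((f.map (pr₁ η)).derivative.eval r) :=
      isUnit_eval_of_sub_mem _ r (pr₁ η a₀) hr0 e2
    obtain ⟨t₁, ht₁⟩ := residue_surjective (η r)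
    -- second component
    have key : ∀ p : (Glue η)[X], residue R' ((p.map (pr₂ η)).eval t₁) =
        η ((p.map (pr₁ η)).eval r) := by
      intro p
      rw [← Polynomial.eval_map_apply, ← Polynomial.eval_map_apply, Polynomial.map_map,
        Polynomial.map_map, comp_pr_eq, ht₁]
    have e3 : (f.map (pr₂ η)).eval t₁ ∈ maximalIdeal R' := by
      rw [← residue_eq_zero_iff, key, hr, map_zero]
    have e4 : IsUnit ((f.map (pr₂ η)).derivative.eval t₁) := by
      rw [Polynomial.derivative_map]
      apply (isUnit_map_iff (residue R') _).1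
      rw [key, ← Polynomial.derivative_map]
      exact hru.map η
    obtain ⟨t, ht, ht0⟩ := hR'.is_henselian (f.map (pr₂ η)) (hf.map _) t₁ e3 e4
    have hmem : (r, t) ∈ Glue η := by
      rw [mem_glue]
      show η r = residue R' t
      rw [← ht₁]
      symm
      rw [← sub_eq_zero, ← map_sub, residue_eq_zero_iff]
      exact ht0
    refine ⟨⟨(r, t), hmem⟩, ?_, ?_⟩
    · show f.eval _ = 0
      apply glue_ext
      · rw [← Polynomial.eval_map_apply, map_zero]; exact hr
      · rw [← Polynomial.eval_map_apply, map_zero]; exact ht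
    · rw [mem_maximalIdeal_glue, map_sub]
      exact hr0

end Groth.Agent.Lib.Helper27.Spz
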