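import Groth.Agent.Lib.Helper27.Spz2

/-!
# Non-local maps out of a strict henselization

Let `R` be a strict henselization of the local ring `A`, `R'` a henselian local ring, `ψ : A → R'` any
ring map and `η : R → κ(R')` a ring map compatible with `ψ`.  Then there is exactly one ring map
`R → R'` over `ψ` inducing `η`.
-/

set_option autoImplicit false
universe u

open IsLocalRing Polynomial

namespace Groth.Agent.Lib.Helper27.Spz

section

variable (A : Type u) [CommRing A] [IsLocalRing A] (R : Type u) [CommRing R] [IsLocalRing R]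
  [Algebra A R] [IsLocalHom (algebraMap A R)] [Hensel.IsStrictHenselization A R]
  (R' : Type u) [CommRing R'] [HenselianLocalRing R'] (ψ : A →+* R')
  (η : R →+* ResidueField R') (h : η.comp (algebraMap A R) = (residue R').comp ψ)

include h

/-- The structure map `A → R ×_{κ(R')} R'`. -/
noncomputable def toGlue : A →+* Glue η :=
  RingHom.codRestrict (RingHom.prod (algebraMap A R) ψ) (Glue η) (fun a => by
    rw [mem_glue]
    exact congrArg (fun k => k a) h)

omit [IsLocalRing A] [IsLocalRing R] [IsLocalHom (algebraMap A R)]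
  [Hensel.IsStrictHenselization A R] in
theorem pr₁_toGlue (a : A) : pr₁ η (toGlue A R R' ψ η h a) = algebraMap A R a := rfl

omit [IsLocalRing A] [IsLocalRing R] [IsLocalHom (algebraMap A R)]
  [Hensel.IsStrictHenselization A R] in
theorem pr₂_toGlue (a : A) : pr₂ η (toGlue A R R' ψ η h a) = ψ a := rfl

end

section

variable {R R' : Type u} [CommRing R] [IsLocalRing R] [CommRing R'] [IsLocalRing R']
  (η : R →+* ResidueField R')

theorem map_pr₁_bijective : Function.Bijective (ResidueField.map (pr₁ η)) := by
  refine ⟨(ResidueField.map (pr₁ η)).injective, fun y => ?_⟩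
  obtain ⟨r, rfl⟩ := residue_surjective y
  obtain ⟨t, rfl⟩ := pr₁_surjective η r
  exact ⟨residue _ t, rfl⟩

/-- The inverse of the isomorphism of residue fields induced by the first projection. -/
noncomputable def τG : ResidueField R →+* ResidueField (Glue η) :=
  (RingEquiv.ofBijective (ResidueField.map (pr₁ η)) (map_pr₁_bijective η)).symm.toRingHom

theorem map_pr₁_τG (y : ResidueField R) : ResidueField.map (pr₁ η) (τG η y) = y :=
  (RingEquiv.ofBijective (ResidueField.map (pr₁ η)) (map_pr₁_bijective η)).apply_symm_apply y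

theorem eq_τG_iff (z : ResidueField (Glue η)) (y : ResidueField R) :
    z = τG η y ↔ ResidueField.map (pr₁ η) z = y := by
  constructor
  · rintro rfl; exact map_pr₁_τG η y
  · intro hz
    apply (map_pr₁_bijective η).1
    rw [map_pr₁_τG, hz]

end

section

variable (A : Type u) [CommRing A] [IsLocalRing A] (R : Type u) [CommRing R] [IsLocalRing R]
  [Algebra A R] [IsLocalHom (algebraMap A R)] [Hensel.IsStrictHenselization A R]
  (R' : Type u) [CommRing R'] [HenselianLocalRing R'] (ψ : A →+* R')
  (η : R →+* ResidueField R') (h : η.comp (algebraMap A R) = (residue R').comp ψ)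

include h

theorem existsUnique_lift :
    ∃! φ : R →+* R', φ.comp (algebraMap A R) = ψ ∧ (residue R').comp φ = η := by
  haveI hRh : HenselianLocalRing R := Hensel.IsStrictHenselization.henselian A
  let f : A →+* Glue η := toGlue A R R' ψ η h
  haveI hfl : IsLocalHom f := ⟨fun a ha => by
    have h1 : IsUnit (pr₁ η (f a)) := ha.map _
    exact isUnit_of_map_unit (algebraMap A R) a h1⟩
  have hcompat : (τG η).comp (ResidueField.map (algebraMap A R)) = ResidueField.map f := by
    ext y
    obtain ⟨a, rfl⟩ := residue_surjective y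
    symm
    rw [RingHom.comp_apply, eq_τG_iff]
    rfl
  obtain ⟨g, ⟨hg1, hg2⟩, hguniq⟩ :=
    Hensel.IsStrictHenselization.universal (R := A) (S := R) (Glue η) f (τG η) hcompat
  -- first projection of `g` is the identity
  have hid : (pr₁ η).comp g = RingHom.id R := by
    have hc : (RingHom.id (ResidueField R)).comp (ResidueField.map (algebraMap A R)) =
        ResidueField.map (algebraMap A R) := RingHom.id_comp _
    obtain ⟨g₀, -, hg₀⟩ := Hensel.IsStrictHenselization.universal (R := A) (S := R) R
      (algebraMap A R) (RingHom.id _) hc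
    have e1 : (pr₁ η).comp g = g₀ := hg₀ _ ⟨by
      rw [RingHom.comp_assoc, hg1]; rfl, fun x => by
      have : residue R (pr₁ η (g x)) = ResidueField.map (pr₁ η) (residue _ (g x)) := rfl
      rw [RingHom.comp_apply, this, hg2, map_pr₁_τG]; rfl⟩
    have e2 : RingHom.id R = g₀ := hg₀ _ ⟨RingHom.id_comp _, fun x => rfl⟩
    rw [e1, e2]
  refine ⟨(pr₂ η).comp g, ⟨?_, ?_⟩, ?_⟩
  · rw [RingHom.comp_assoc, hg1]; rfl
  · ext r
    have h1 : pr₁ η (g r) = r := congrArg (fun k => k r) hid
    rw [RingHom.comp_apply, RingHom.comp_apply, ← glue_compat, h1]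
  · intro φ ⟨hφ1, hφ2⟩
    let g' : R →+* Glue η := RingHom.codRestrict (RingHom.prod (RingHom.id R) φ) (Glue η)
      (fun r => by
        rw [mem_glue]
        exact (congrArg (fun k => k r) hφ2).symm)
    have hg' : g' = g := hguniq g' ⟨RingHom.ext fun a =>
      glue_ext η rfl (congrArg (fun k => k a) hφ1), fun x => by
      rw [eq_τG_iff]; rfl⟩
    rw [← hg']
    rfl

end

end Groth.Agent.Lib.Helper27.Spz
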