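import Groth.Agent.Lib.Helper27.Spz3
import Groth.Prelude.Def_Hens2

/-!
# Specialization maps between strict localizations: scheme-level translation
-/

set_option autoImplicit false
universe u

open IsLocalRing CategoryTheory AlgebraicGeometry

namespace Groth.Agent.Lib.Helper27.Spz

variable (X : Scheme.{u}) (x x' : X)

/-- A morphism from a local scheme to `X` which factors through `Spec O_x` and, by a local map,
through `Spec O_x'` exhibits `x` as a specialization of `x'`. -/
theorem specializes_of_factor (T : Type u) [CommRing T] [IsLocalRing T]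
    (α : X.presheaf.stalk x' →+* T) [IsLocalHom α]
    (v : Spec (CommRingCat.of T) ⟶ Spec (X.presheaf.stalk x))
    (h : v ≫ X.fromSpecStalk x = Spec.map (CommRingCat.ofHom α) ≫ X.fromSpecStalk x') :
    x' ⤳ x := by
  haveI : IsLocalRing ↑(CommRingCat.of T) := ‹IsLocalRing T›
  haveI : IsLocalHom (CommRingCat.ofHom α).hom := ‹IsLocalHom α›
  have h1 : (Spec.map (CommRingCat.ofHom α) ≫ X.fromSpecStalk x') (closedPoint T) = x' := by
    rw [Scheme.Hom.comp_apply]
    have : Spec.map (CommRingCat.ofHom α) (closedPoint T) = closedPoint (X.presheaf.stalk x') :=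
      Spec_closedPoint
    rw [this, Scheme.fromSpecStalk_closedPoint]
  rw [← h, Scheme.Hom.comp_apply] at h1
  have h2 : x' ∈ Set.range (X.fromSpecStalk x) := ⟨_, h1⟩
  rw [Scheme.range_fromSpecStalk] at h2
  exact h2

variable {X x x'}

/-- Ring-level form of a factorization over `X`. -/
theorem comp_eq_of_spec_eq (hsp : x' ⤳ x) {R T : Type u} [CommRing R]
    [Algebra (X.presheaf.stalk x) R] [CommRing T]
    (β : R →+* T) (α : X.presheaf.stalk x' →+* T)
    (h : Spec.map (CommRingCat.ofHom β) ≫ Hens2.specOf X x R =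
      Spec.map (CommRingCat.ofHom α) ≫ X.fromSpecStalk x') :
    β.comp (algebraMap (X.presheaf.stalk x) R) = α.comp (X.presheaf.stalkSpecializes hsp).hom := by
  rw [← Scheme.SpecMap_stalkSpecializes_fromSpecStalk hsp] at h
  simp only [Hens2.specOf, ← Category.assoc] at h
  rw [cancel_mono] at h
  rw [← Spec.map_comp, ← Spec.map_comp] at h
  have h2 := Spec.map_injective h
  have h3 := congrArg CommRingCat.Hom.hom h2
  exact h3

/-- Converse of `comp_eq_of_spec_eq`. -/
theorem spec_eq_of_comp_eq (hsp : x' ⤳ x) {R T : Type u} [CommRing R]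
    [Algebra (X.presheaf.stalk x) R] [CommRing T]
    (β : R →+* T) (α : X.presheaf.stalk x' →+* T)
    (h : β.comp (algebraMap (X.presheaf.stalk x) R) =
      α.comp (X.presheaf.stalkSpecializes hsp).hom) :
    Spec.map (CommRingCat.ofHom β) ≫ Hens2.specOf X x R =
      Spec.map (CommRingCat.ofHom α) ≫ X.fromSpecStalk x' := by
  rw [← Scheme.SpecMap_stalkSpecializes_fromSpecStalk hsp]
  simp only [Hens2.specOf, ← Category.assoc]
  congr 1
  rw [← Spec.map_comp, ← Spec.map_comp]
  congr 1
  ext a
  exact congrArg (fun k => k a) h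

end Groth.Agent.Lib.Helper27.Spz
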