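import Groth.Agent.Lib.Helper27.Spz4

/-!
# Specialization arrows between strict localizations are determined by the closed point
-/

set_option autoImplicit false
universe u

open IsLocalRing CategoryTheory AlgebraicGeometry

namespace Groth.Agent.Lib.Helper27.Spz

variable (X : Scheme.{u}) (x x' : X)
    (R : Type u) [CommRing R] [IsLocalRing R] [Algebra (X.presheaf.stalk x) R]
    [IsLocalHom (algebraMap (X.presheaf.stalk x) R)]
    [Hensel.IsStrictHenselization (X.presheaf.stalk x) R]
    (R' : Type u) [CommRing R'] [IsLocalRing R'] [Algebra (X.presheaf.stalk x') R']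
    [IsLocalHom (algebraMap (X.presheaf.stalk x') R')]
    [Hensel.IsStrictHenselization (X.presheaf.stalk x') R']

omit [IsLocalRing R] [IsLocalHom (algebraMap (X.presheaf.stalk x) R)]
  [Hensel.IsStrictHenselization (X.presheaf.stalk x) R]
  [Hensel.IsStrictHenselization (X.presheaf.stalk x') R'] in
theorem specializes_of_arrow (g : Spec (CommRingCat.of R') ⟶ Spec (CommRingCat.of R))
    (hg : g ≫ Hens2.specOf X x R = Hens2.specOf X x' R') : x' ⤳ x := by
  refine specializes_of_factor X x x' R' (algebraMap (X.presheaf.stalk x') R')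
    (g ≫ Spec.map (CommRingCat.ofHom (algebraMap (X.presheaf.stalk x) R))) ?_
  rw [Category.assoc]
  exact hg

omit [IsLocalRing R] [IsLocalHom (algebraMap (X.presheaf.stalk x) R)]
  [Hensel.IsStrictHenselization (X.presheaf.stalk x) R]
  [Hensel.IsStrictHenselization (X.presheaf.stalk x') R'] in
theorem geomPt_eq : Hens2.geomPt X x' R' =
    Spec.map (CommRingCat.ofHom ((residue R').comp (algebraMap (X.presheaf.stalk x') R'))) ≫
      X.fromSpecStalk x' := by
  simp only [Hens2.geomPt, Hens2.specOf, ← Category.assoc]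
  rw [← Spec.map_comp]
  rfl

omit [IsLocalRing R] [IsLocalHom (algebraMap (X.presheaf.stalk x) R)]
  [Hensel.IsStrictHenselization (X.presheaf.stalk x) R]
  [Hensel.IsStrictHenselization (X.presheaf.stalk x') R'] in
theorem specializes_of_point
    (h : Spec (CommRingCat.of (ResidueField R')) ⟶ Spec (CommRingCat.of R))
    (hh : h ≫ Hens2.specOf X x R = Hens2.geomPt X x' R') : x' ⤳ x := by
  refine specializes_of_factor X x x' (ResidueField R')
    ((residue R').comp (algebraMap (X.presheaf.stalk x') R'))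
    (h ≫ Spec.map (CommRingCat.ofHom (algebraMap (X.presheaf.stalk x) R))) ?_
  rw [Category.assoc, ← geomPt_eq]
  exact hh

theorem arrow_injective (g₁ g₂ : Spec (CommRingCat.of R') ⟶ Spec (CommRingCat.of R))
    (h1 : g₁ ≫ Hens2.specOf X x R = Hens2.specOf X x' R')
    (h2 : g₂ ≫ Hens2.specOf X x R = Hens2.specOf X x' R')
    (h3 : Spec.map (CommRingCat.ofHom (residue R')) ≫ g₁ =
      Spec.map (CommRingCat.ofHom (residue R')) ≫ g₂) : g₁ = g₂ := by
  have hsp : x' ⤳ x := specializes_of_arrow X x x' R R' g₁ h1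
  haveI : HenselianLocalRing R' := Hensel.IsStrictHenselization.henselian (X.presheaf.stalk x')
  obtain ⟨φ₁, rfl⟩ := Spec.map_surjective g₁
  obtain ⟨φ₂, rfl⟩ := Spec.map_surjective g₂
  have e1 := comp_eq_of_spec_eq hsp φ₁.hom (algebraMap (X.presheaf.stalk x') R') h1
  have e2 := comp_eq_of_spec_eq hsp φ₂.hom (algebraMap (X.presheaf.stalk x') R') h2
  rw [← Spec.map_comp, ← Spec.map_comp] at h3
  have e3 : (residue R').comp φ₁.hom = (residue R').comp φ₂.hom :=
    congrArg CommRingCat.Hom.hom (Spec.map_injective h3)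
  have hη : ((residue R').comp φ₁.hom).comp (algebraMap (X.presheaf.stalk x) R) =
      (residue R').comp ((algebraMap (X.presheaf.stalk x') R').comp
        (X.presheaf.stalkSpecializes hsp).hom) := by
    rw [RingHom.comp_assoc, e1]
  obtain ⟨φ, -, hφ⟩ := existsUnique_lift (X.presheaf.stalk x) R R' _ _ hη
  have u1 : φ₁.hom = φ := hφ _ ⟨e1, rfl⟩
  have u2 : φ₂.hom = φ := hφ _ ⟨e2, e3.symm⟩
  have : φ₁ = φ₂ := CommRingCat.hom_ext (u1.trans u2.symm)
  rw [this]

theorem arrow_surjective (h : Spec (CommRingCat.of (ResidueField R')) ⟶ Spec (CommRingCat.of R))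
    (hh : h ≫ Hens2.specOf X x R = Hens2.geomPt X x' R') :
    ∃ g : Spec (CommRingCat.of R') ⟶ Spec (CommRingCat.of R),
      g ≫ Hens2.specOf X x R = Hens2.specOf X x' R' ∧
      Spec.map (CommRingCat.ofHom (residue R')) ≫ g = h := by
  have hsp : x' ⤳ x := specializes_of_point X x x' R R' h hh
  haveI : HenselianLocalRing R' := Hensel.IsStrictHenselization.henselian (X.presheaf.stalk x')
  obtain ⟨η, rfl⟩ := Spec.map_surjective h
  rw [geomPt_eq] at hh
  have e1 := comp_eq_of_spec_eq hsp η.hom _ hh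
  have hη : η.hom.comp (algebraMap (X.presheaf.stalk x) R) =
      (residue R').comp ((algebraMap (X.presheaf.stalk x') R').comp
        (X.presheaf.stalkSpecializes hsp).hom) := by
    rw [e1, RingHom.comp_assoc]
  obtain ⟨φ, ⟨hφ1, hφ2⟩, -⟩ := existsUnique_lift (X.presheaf.stalk x) R R' _ _ hη
  refine ⟨Spec.map (CommRingCat.ofHom φ), ?_, ?_⟩
  · exact spec_eq_of_comp_eq hsp φ (algebraMap (X.presheaf.stalk x') R') hφ1
  · rw [← Spec.map_comp]
    congr 1
    exact CommRingCat.hom_ext hφ2

end Groth.Agent.Lib.Helper27.Spz
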