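import Groth.Agent.Lib.Helper12.HensFibre
import Groth.Agent.Lib.Helper12.StrictStruct5

/-!
# Maps from a strict henselization to a separably closed field
-/

set_option autoImplicit false
universe u

open IsLocalRing Polynomial TensorProduct

namespace Groth.Agent.Lib.Helper27.Spz

open Groth.Agent.Lib.Helper12

/-- A root (in a domain) of a separable irreducible polynomial over a separably closed field lies in
the field. -/
theorem mem_range_of_root {k L : Type u} [Field k] [IsSepClosed k] [CommRing L] [IsDomain L]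
    [Algebra k L] (p : k[X]) (hp : Irreducible p) (hsep : p.Separable) (θ : L)
    (h : aeval θ p = 0) : θ ∈ Set.range (algebraMap k L) := by
  have hdeg : p.degree = 1 := IsSepClosed.degree_eq_one_of_irreducible k hp hsep
  have ha : p.coeff 1 ≠ 0 := by
    have := Polynomial.coeff_ne_zero_of_eq_degree hdeg
    exact this
  rw [eq_X_add_C_of_degree_eq_one hdeg] at h
  have hlc : p.leadingCoeff = p.coeff 1 := by
    rw [Polynomial.leadingCoeff, Polynomial.natDegree_eq_of_degree_eq_some hdeg]
    rfl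
  rw [hlc, aeval_add, aeval_C, map_mul, aeval_C, aeval_X] at h
  refine ⟨-(p.coeff 0) / (p.coeff 1), ?_⟩
  have hu : algebraMap k L (p.coeff 1) ≠ 0 := by
    intro h0
    exact ha ((injective_iff_map_eq_zero (algebraMap k L)).1 (algebraMap k L).injective _ h0)
  apply mul_left_cancel₀ hu
  rw [← map_mul, mul_div_cancel₀ _ ha, map_neg]
  exact (eq_neg_of_add_eq_zero_left h).symm

variable (A R : Type u) [CommRing A] [IsLocalRing A] [CommRing R] [IsLocalRing R] [Algebra A R]
  [IsLocalHom (algebraMap A R)] [Hensel.IsStrictHenselization A R]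

/-- Any ring map from `A` to a separably closed field extends to the strict henselization. -/
theorem exists_residue_map (k : Type u) [Field k] [IsSepClosed k] (ψ : A →+* k) :
    ∃ η : R →+* k, η.comp (algebraMap A R) = ψ := by
  classical
  letI : Algebra A k := ψ.toAlgebra
  haveI : Module.Flat A R := StrictStruct.flat_of_isStrictHenselization A R
  haveI : Module.FaithfullyFlat A R := Module.FaithfullyFlat.of_flat_of_isLocalHom
  have hS : IndEtaleFibre.IsIndEssEtale A R := HensFibre.isIndEssEtale_of_isStrictHenselization A R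
  haveI : Nontrivial (k ⊗[A] R) := Module.FaithfullyFlat.rTensor_nontrivial A R k
  obtain ⟨n, hn⟩ := Ideal.exists_maximal (k ⊗[A] R)
  letI : Field ((k ⊗[A] R) ⧸ n) := Ideal.Quotient.field n
  have hsurj : Function.Surjective (algebraMap k ((k ⊗[A] R) ⧸ n)) := by
    intro z
    obtain ⟨y, rfl⟩ := Ideal.Quotient.mk_surjective z
    obtain ⟨B, _, _, _, _, χ, y', rfl⟩ := IndEtaleFibre.exists_lift A R k hS y
    obtain ⟨m, h, hh, hzero⟩ := IndEtaleFibre.exists_separable_prod k (k ⊗[A] B) y'
    let θ : (k ⊗[A] B) →ₐ[k] ((k ⊗[A] R) ⧸ n) :=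
      (Ideal.Quotient.mkₐ k n).comp (Algebra.TensorProduct.map (AlgHom.id k k) χ)
    have h1 : aeval (θ y') (∏ j, h j) = 0 := by
      rw [Polynomial.aeval_algHom_apply, hzero, map_zero]
    rw [map_prod, Finset.prod_eq_zero_iff] at h1
    obtain ⟨j, -, hj⟩ := h1
    obtain ⟨c, hc⟩ := mem_range_of_root (h j) (hh j).2 (hh j).1 (θ y') hj
    exact ⟨c, hc⟩
  let e : k ≃+* ((k ⊗[A] R) ⧸ n) :=
    RingEquiv.ofBijective (algebraMap k ((k ⊗[A] R) ⧸ n))
      ⟨(algebraMap k ((k ⊗[A] R) ⧸ n)).injective, hsurj⟩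
  refine ⟨e.symm.toRingHom.comp ((Ideal.Quotient.mk n).comp
    (Algebra.TensorProduct.includeRight (R := A) (A := k) (B := R)).toRingHom), ?_⟩
  ext a
  show e.symm (Ideal.Quotient.mk n ((1 : k) ⊗ₜ[A] (algebraMap A R a))) = ψ a
  rw [RingEquiv.symm_apply_eq]
  show _ = algebraMap k ((k ⊗[A] R) ⧸ n) (ψ a)
  rw [Algebra.algebraMap_eq_smul_one (ψ a), Algebra.algebraMap_eq_smul_one (R := A) a,
    TensorProduct.tmul_smul]
  have : (a • ((1 : k) ⊗ₜ[A] (1 : R)) : k ⊗[A] R) = (ψ a) • (1 : k ⊗[A] R) := by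
    rw [TensorProduct.smul_tmul', Algebra.TensorProduct.one_def, TensorProduct.smul_tmul']
    congr 1
  rw [this]
  rfl

end Groth.Agent.Lib.Helper27.Spz
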