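import Groth.Agent.Lib.Helper27.Spz5
import Groth.Agent.Lib.Helper27.Spz6

/-!
# Existence of specialization arrows between strict localizations
-/

set_option autoImplicit false
universe u

open IsLocalRing CategoryTheory AlgebraicGeometry

namespace Groth.Agent.Lib.Helper27.Spz

variable (X : Scheme.{u}) (x x' : X)
    (R : Type u) [CommRing R] [IsLocalRing R] [Algebra (X.presheaf.stalk x) R]
    [IsLocalHom (algebraMap (X.presheaf.stalk x) R)]
    [Hensel.IsStrictHenselization (X.presheaf.stalk x) R]
    (R' : Type u) [CommRing R'] [IsLocalRing R'] [Algebra (X.presheaf.stalk x') R']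
    [IsLocalHom (algebraMap (X.presheaf.stalk x') R')]
    [Hensel.IsStrictHenselization (X.presheaf.stalk x') R']

theorem exists_arrow_iff :
    (∃ g : Spec (CommRingCat.of R') ⟶ Spec (CommRingCat.of R),
      g ≫ Hens2.specOf X x R = Hens2.specOf X x' R') ↔ x' ⤳ x := by
  constructor
  · rintro ⟨g, hg⟩
    exact specializes_of_arrow X x x' R R' g hg
  · intro hsp
    haveI : HenselianLocalRing R' := Hensel.IsStrictHenselization.henselian (X.presheaf.stalk x')
    haveI : IsSepClosure (ResidueField (X.presheaf.stalk x')) (ResidueField R') :=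
      Hensel.IsStrictHenselization.isSepClosure
    haveI : IsSepClosed (ResidueField R') :=
      IsSepClosure.sep_closed (ResidueField (X.presheaf.stalk x'))
    let ψ : X.presheaf.stalk x →+* R' :=
      (algebraMap (X.presheaf.stalk x') R').comp (X.presheaf.stalkSpecializes hsp).hom
    obtain ⟨η, hη⟩ := exists_residue_map (X.presheaf.stalk x) R (ResidueField R')
      ((residue R').comp ψ)
    obtain ⟨φ, ⟨hφ1, -⟩, -⟩ := existsUnique_lift (X.presheaf.stalk x) R R' ψ η hη
    exact ⟨Spec.map (CommRingCat.ofHom φ),
      spec_eq_of_comp_eq hsp φ (algebraMap (X.presheaf.stalk x') R') hφ1⟩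

end Groth.Agent.Lib.Helper27.Spz
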