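import Groth.Agent.Lib.Helper27.StPointsHomeo
import Groth.Agent.Lib.Helper27.BaseChangePres
import Groth.Agent.Lib.Helper27.AlgStackFp2

/-!
# Universal topological properties on points: representable functors (helper27)
-/

set_option autoImplicit false
set_option backward.isDefEq.respectTransparency false
set_option backward.isDefEq.respectTransparency.types false

universe u

open CategoryTheory CategoryTheory.Limits FibCat AlgebraicGeometry Opposite
  Groth.Agent.Lib.Helper27.FpKit Groth.Agent.Lib.Helper27.PointsKit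
  Groth.Agent.Lib.Helper27.RepWithComp Groth.Agent.Lib.Helper27.PshKit

namespace Groth.Agent.Lib.Helper27.StPoints

variable {S : Scheme.{u}} {𝒳 𝒴 : AlgSt.Cat S}

/-- An equivalence between algebraic stacks is a homeomorphism on points. -/
theorem isHomeomorph_map_of_equiv (h𝒳 : AlgSt.IsAlgStack Scheme.fppfPrecoverage 𝒳)
    (h𝒴 : AlgSt.IsAlgStack Scheme.fppfPrecoverage 𝒴) (E : 𝒳 ⥤ᵇ 𝒴) (hE : IsEquivOver E) :
    IsHomeomorph (AlgSt.Points.map E) := by
  obtain ⟨E', hE', ⟨e1⟩, ⟨e2⟩⟩ := exists_inverse E hE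
  refine ⟨continuous_map h𝒴 E, ?_, map_bijective_of_equiv E hE⟩
  intro W hW
  have h1 : AlgSt.Points.map E '' W = AlgSt.Points.map E' ⁻¹' W := by
    ext y
    constructor
    · rintro ⟨x, hx, rfl⟩
      change AlgSt.Points.map E' (AlgSt.Points.map E x) ∈ W
      rw [← map_comp, map_iso e1, map_id]
      exact hx
    · intro hy
      refine ⟨AlgSt.Points.map E' y, hy, ?_⟩
      rw [← map_comp, map_iso e2, map_id]
  rw [h1]
  exact (continuous_map h𝒳 E').isOpen_preimage W hW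

/-- The cospan morphism replacing a chart by the corresponding functor from the category of the
representable sheaf. -/
def DChart (f : 𝒳 ⥤ᵇ 𝒴) {T : Over S} (t : overCat T ⥤ᵇ 𝒴) :
    MapData (BasedFunctor.comp (AlgSt.toOverCat T) t) f t f (AlgSt.ofOverCat T)
      (BasedFunctor.id 𝒳) (BasedFunctor.id 𝒴) where
  e₁ := fun _ => Iso.refl _
  n₁ := fun _ => (Category.comp_id _).trans (Category.id_comp _).symm
  l₁ := fun _ => Vert.id _
  e₂ := fun _ => Iso.refl _
  n₂ := fun _ => (Category.comp_id _).trans (Category.id_comp _).symm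
  l₂ := fun _ => Vert.id _

/-- The fibre product of sheaves along the structure map of a presentation presents the base
change. -/
theorem exists_pres_of_isPullback (f : 𝒳 ⥤ᵇ 𝒴) {T : Over S} (t : overCat T ⥤ᵇ 𝒴)
    (F : AlgSp.Space S) (e₀ : AlgSt.ofSp F.obj ⥤ᵇ fp t f) (he₀ : IsEquivOver e₀)
    {Z Z' : AlgSp.Sp S} (k : Z ⟶ (AlgSp.yon S).obj T) (fst : Z' ⟶ F.obj) (snd : Z' ⟶ Z)
    (sq : IsPullback fst snd (AlgSt.spMapOfOver (BasedFunctor.comp e₀ (fpFst t f))) k) :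
    ∃ Ξ' : AlgSt.ofSp Z' ⥤ᵇ fp (BasedFunctor.comp (AlgSt.ofSpMap k)
        (BasedFunctor.comp (AlgSt.toOverCat T) t)) f,
      IsEquivOver Ξ' ∧ ∀ x : AlgSt.Points (AlgSt.ofSp Z'),
        AlgSt.Points.map (fpFst _ f) (AlgSt.Points.map Ξ' x) =
          AlgSt.Points.map (AlgSt.ofSpMap snd) x := by
  obtain ⟨e, hedef⟩ : ∃ e : AlgSt.ofSp F.obj ⥤ᵇ fp (BasedFunctor.comp (AlgSt.toOverCat T) t) f,
    e = BasedFunctor.comp e₀ (fpMap (DChart f t)) := ⟨_, rfl⟩
  have he : IsEquivOver e := by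
    rw [hedef]
    exact isEquivOver_comp _ _ he₀ (isEquivOver_fpMap (DChart f t)
      (Groth.Agent.Lib.Helper27.Descent.isEquivOver_ofOverCat T) (isEquivOver_id _)
      (isEquivOver_id _))
  have hπ : pshMapOf (BasedFunctor.comp e (fpFst (BasedFunctor.comp (AlgSt.toOverCat T) t) f)) =
      (AlgSt.spMapOfOver (BasedFunctor.comp e₀ (fpFst t f))).hom := by
    rw [Groth.Agent.Lib.Helper27.PshRep.spMapOfOver_eq]
    apply pshMapOf_congr
    intro a
    rw [hedef]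
    exact ⟨𝟙 _, Vert.id _⟩
  have sqP : IsPullback fst.hom snd.hom
      (pshMapOf (BasedFunctor.comp e (fpFst (BasedFunctor.comp (AlgSt.toOverCat T) t) f)))
      k.hom := by
    rw [hπ]
    exact sq.map (sheafToPresheaf (AlgSp.J S) (Type (u + 1)))
  refine ⟨Groth.Agent.Lib.Helper27.BaseChangePres.Ξ f _ e k sqP,
    Groth.Agent.Lib.Helper27.BaseChangePres.isEquivOver_Ξ f _ e he k sqP, fun x => ?_⟩
  rw [← map_comp]
  exact map_congr _ _ (fun a => ⟨𝟙 _⟩) x

/-- The base change of the structure map of a presentation along a map from an algebraic space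
is, on points and up to homeomorphisms, the projection of a 2-fibre product. -/
theorem exists_homeo_square (h𝒳 : AlgSt.IsAlgStack Scheme.fppfPrecoverage 𝒳)
    (h𝒴 : AlgSt.IsAlgStack Scheme.fppfPrecoverage 𝒴) (f : 𝒳 ⥤ᵇ 𝒴) {T : Over S}
    (t : overCat T ⥤ᵇ 𝒴) (F : AlgSp.Space S) (e₀ : AlgSt.ofSp F.obj ⥤ᵇ fp t f)
    (he₀ : IsEquivOver e₀) (Z : AlgSp.Space S) {Z' : AlgSp.Sp S}
    (k : Z.obj ⟶ (AlgSp.yon S).obj T) (fst : Z' ⟶ F.obj) (snd : Z' ⟶ Z.obj)
    (sq : IsPullback fst snd (AlgSt.spMapOfOver (BasedFunctor.comp e₀ (fpFst t f))) k) :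
    ∃ (h₁ : AlgSp.Points Z' ≃ₜ AlgSt.Points (fp (BasedFunctor.comp (AlgSt.ofSpMap k)
        (BasedFunctor.comp (AlgSt.toOverCat T) t)) f))
      (h₂ : AlgSp.Points Z.obj ≃ₜ AlgSt.Points (AlgSt.ofSp Z.obj)),
      ∀ x, h₂ (AlgSp.Points.map snd x) = AlgSt.Points.map (fpFst _ f) (h₁ x) := by
  have hZ' : AlgSp.IsAlgSpace Z' :=
    Groth.Agent.S9874.result S _ (AlgSp.IsAlgSpace.yon_obj T).diag F Z _ k Z' fst snd sq
  obtain ⟨Ξ', hΞ', hfst⟩ := exists_pres_of_isPullback f t F e₀ he₀ k fst snd sq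
  have hfp : AlgSt.IsAlgStack Scheme.fppfPrecoverage (fp (BasedFunctor.comp (AlgSt.ofSpMap k)
      (BasedFunctor.comp (AlgSt.toOverCat T) t)) f) :=
    Groth.Agent.Lib.Helper27.AlgStackFp2.isAlgStack_fp' _ f _ (isAlgStack_ofSp Z) h𝒳 h𝒴
  have hΞh := isHomeomorph_map_of_equiv (isAlgStack_ofSp ⟨Z', hZ'⟩) hfp Ξ' hΞ'
  refine ⟨(toStHomeo ⟨Z', hZ'⟩).trans (hΞh.homeomorph _), toStHomeo Z, fun x => ?_⟩
  change toSt Z.obj (AlgSp.Points.map snd x) =
    AlgSt.Points.map (fpFst _ f) (AlgSt.Points.map Ξ' (toSt Z' x))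
  rw [hfst, toSt_map]

end Groth.Agent.Lib.Helper27.StPoints
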