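import Groth.Agent.Lib.Helper27.StPointsUniv
import Groth.Agent.Lib.Helper27.FpBaseChange

/-!
# Universal topological properties on points: the chart square (helper27)
-/

set_option autoImplicit false
set_option backward.isDefEq.respectTransparency false
set_option backward.isDefEq.respectTransparency.types false

universe u

open CategoryTheory CategoryTheory.Limits FibCat AlgebraicGeometry Opposite
  Groth.Agent.Lib.Helper27.FpKit Groth.Agent.Lib.Helper27.PointsKit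
  Groth.Agent.Lib.Helper27.RepWithComp Groth.Agent.Lib.Helper27.PshKit
  Groth.Agent.Lib.Helper27.FpBaseChange

namespace Groth.Agent.Lib.Helper27.StPoints

variable {S : Scheme.{u}} {𝒳 𝒴 𝒵 : AlgSt.Cat S}

/-- The square comparing, on points, the base change of `f` to a smooth atlas of `𝒵` with the
base change of `f` to `𝒵`. -/
theorem exists_chart_square (h𝒳 : AlgSt.IsAlgStack Scheme.fppfPrecoverage 𝒳)
    (h𝒴 : AlgSt.IsAlgStack Scheme.fppfPrecoverage 𝒴)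
    (h𝒵 : AlgSt.IsAlgStack Scheme.fppfPrecoverage 𝒵) (f : 𝒳 ⥤ᵇ 𝒴) (g : 𝒵 ⥤ᵇ 𝒴)
    {V : Over S} (z : overCat V ⥤ᵇ 𝒵) (hz₁ : AlgSt.RepByAlgSpWith (AlgSp.LocP @Smooth) z)
    (hz₂ : AlgSt.RepByAlgSpWith AlgSp.IsSurjectiveMor z) (F : AlgSp.Space S)
    (e₀ : AlgSt.ofSp F.obj ⥤ᵇ fp (BasedFunctor.comp z g) f) (he₀ : IsEquivOver e₀) :
    ∃ α : AlgSp.Points F.obj → AlgSt.Points (fp g f), Continuous α ∧ IsOpenMap α ∧
      Function.Surjective α ∧
      (∀ φ, AlgSt.Points.map (fpFst g f) (α φ) = AlgSt.Points.ofChart z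
        ((AlgSp.Points.schemeHomeo V).symm (AlgSp.Points.map
          (AlgSt.spMapOfOver (BasedFunctor.comp e₀ (fpFst (BasedFunctor.comp z g) f))) φ))) ∧
      (∀ v a, AlgSt.Points.ofChart z v = AlgSt.Points.map (fpFst g f) a →
        ∃ φ, (AlgSp.Points.schemeHomeo V).symm (AlgSp.Points.map
          (AlgSt.spMapOfOver (BasedFunctor.comp e₀ (fpFst (BasedFunctor.comp z g) f))) φ) = v ∧
          α φ = a) := by
  have hfV := Groth.Agent.Lib.Helper27.ReprAux.isFibGrpd_overCat V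
  have hfF : FibCat.IsFibGrpd (AlgSt.ofSp F.obj).p := Stk.isFibGrpd_ofPsh (P := F.obj.obj)
  have hfp : AlgSt.IsAlgStack Scheme.fppfPrecoverage (fp g f) :=
    Groth.Agent.Lib.Helper27.AlgStackFp2.isAlgStack_fp' g f _ h𝒵 h𝒳 h𝒴
  obtain ⟨Φ, hΦdef⟩ : ∃ Φ : AlgSt.ofSp F.obj ⥤ᵇ fp g f,
    Φ = BasedFunctor.comp e₀ (mapFst g f z) := ⟨_, rfl⟩
  have hΦ : ∀ R : MorphismProperty (AlgSp.Sp S), AlgSt.RepByAlgSpWith R z →
      AlgSt.RepByAlgSpWith R Φ := fun R hR => by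
    rw [hΦdef]
    exact Groth.Agent.Lib.Helper27.LocQOver.repByAlgSpWith_equiv_comp R e₀ he₀ _
      (repByAlgSpWith_mapFst g f z R hR)
  have hΦsm := hΦ _ hz₁
  have hΦsj := hΦ _ hz₂
  have hΦs : AlgSt.IsSurjective Φ := isSurjective_of_rep hfF hfp.isStack.1 Φ hΦsj
  have hΦo : IsOpenMap (AlgSt.Points.map Φ) :=
    isOpenMap_map_of_flat_lfp_space hfp.isStack.1 F Φ
      (Groth.Agent.Lib.Helper27.DiagLft.flat_of_smooth Φ hΦsm)
      (Groth.Agent.Lib.Helper27.DiagLft.lfp_of_smooth Φ hΦsm)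
  have hcomm : ∀ φ, AlgSt.Points.map (fpFst g f) (AlgSt.Points.map Φ (toSt F.obj φ)) =
      AlgSt.Points.ofChart z ((AlgSp.Points.schemeHomeo V).symm (AlgSp.Points.map
        (AlgSt.spMapOfOver (BasedFunctor.comp e₀ (fpFst (BasedFunctor.comp z g) f))) φ)) := by
    intro φ
    rw [ofChart_eq, ← map_toSt_eq, ← map_comp, ← map_comp]
    rw [hΦdef]
    exact map_congr _ _ (fun a => ⟨𝟙 _⟩) _
  refine ⟨fun φ => AlgSt.Points.map Φ (toSt F.obj φ),
    (continuous_map hfp Φ).comp (continuous_toSt F), hΦo.comp (isOpenMap_toSt F.obj),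
    hΦs.comp (toSt_surjective F.obj), hcomm, ?_⟩
  intro v a hva
  rw [ofChart_eq] at hva
  obtain ⟨w, hw1, hw2⟩ := exists_points_fp hfp.isStack.1 h𝒵.isStack.1 hfV (fpFst g f) z
    (ptOf V v) a hva
  obtain ⟨w₀, hw₀⟩ := map_surjective_of_equiv e₀ he₀
    (AlgSt.Points.map (pasteL f g z) w)
  obtain ⟨φ, rfl⟩ := toSt_surjective F.obj w₀
  refine ⟨φ, ?_, ?_⟩
  · apply (ptOf_bijective V).1
    rw [← map_toSt_eq, map_comp, hw₀, ← map_comp, ← hw1]
    exact map_congr _ _ (fun a => ⟨𝟙 _⟩) _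
  · change AlgSt.Points.map Φ (toSt F.obj φ) = a
    rw [hΦdef, map_comp, hw₀, ← map_comp, ← hw2]
    exact (map_iso (isoFst g f z) w).symm.trans (map_comp _ _ w) |>.trans (by rw [map_id])

end Groth.Agent.Lib.Helper27.StPoints
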