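import Groth.Prelude.Def_AlgSt
import Groth.Prelude.Def_FibCat2
import Groth.Agent.Lib.Helper27.DescentKit
import Groth.Agent.Lib.Helper27.StackRefine
import Groth.Agent.Lib.Helper27.OverFibSet
import Groth.Agent.S12801

/-!
# Stacks over stacks: the composite is a stack (helper27)
-/

set_option autoImplicit false
set_option backward.isDefEq.respectTransparency false
set_option backward.isDefEq.respectTransparency.types false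

universe v₄ u₄ v₃ u₃ v₂ u₂ v u

open CategoryTheory Groth.Agent.Lib.Helper27.DescentKit
  Groth.Agent.Lib.Helper16.FpFibGrpd Groth.Agent.Lib.Helper27.StackRefine

namespace Groth.Agent.Lib.Helper27.StackComp

variable {C : Type u} [Category.{v} C] {𝒳 : BasedCategory.{v₂, u₂} C}

open FibCat

section LiftSieve

variable {U : C} (R : Sieve U) (x : 𝒳.obj) (hx : 𝒳.p.obj x = U)

/-- The sieve on `x` of arrows whose image belongs to `R`. -/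
def liftSieve : Sieve x where
  arrows := fun _ a => R (𝒳.p.map a ≫ eqToHom hx)
  downward_closed := by
    intro y z a ha b
    change R (𝒳.p.map (b ≫ a) ≫ eqToHom hx)
    rw [𝒳.p.map_comp, Category.assoc]
    exact R.downward_closed ha _

theorem liftSieve_apply {y : 𝒳.obj} (a : y ⟶ x) :
    liftSieve R x hx a ↔ R (𝒳.p.map a ≫ eqToHom hx) := Iff.rfl

theorem liftSieve_of_lift {y : 𝒳.obj} (a : y ⟶ x) {V : C} (f : V ⟶ U) (hf : R f)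
    (ha : 𝒳.p.IsHomLift f a) : liftSieve R x hx a := by
  change R (𝒳.p.map a ≫ eqToHom hx)
  have := IsHomLift.fac' 𝒳.p f a
  rw [this]
  simp only [Category.assoc, eqToHom_trans, eqToHom_refl, Category.comp_id]
  exact R.downward_closed hf _

theorem liftSieve_lift {y : 𝒳.obj} (a : y ⟶ x) :
    𝒳.p.IsHomLift (𝒳.p.map a ≫ eqToHom hx) a := inferInstance

theorem liftSieve_mem (hp : FibCat.IsFibGrpd 𝒳.p) (J : GrothendieckTopology C) (hR : R ∈ J U) :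
    liftSieve R x hx ∈ 𝒳.p.restrictedTopology J x := by
  rw [Groth.Agent.S12801.result 𝒳.p hp J]
  subst hx
  refine J.superset_covering ?_ hR
  intro V f hf
  obtain ⟨x', a, ha⟩ := hp.exists_lift (x := x) f
  have hx' : 𝒳.p.obj x' = V := IsHomLift.domain_eq 𝒳.p f a
  refine ⟨x', a, eqToHom hx'.symm, liftSieve_of_lift R x rfl a f hf ha, ?_⟩
  have := IsHomLift.fac' 𝒳.p f a
  rw [this]
  simp

end LiftSieve

section Comp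

variable (𝒴 : BasedCategory.{v₃, u₃} 𝒳.obj)

/-- The composite category over `C`. -/
abbrev tot : BasedCategory.{v₃, u₃} C := BasedCategory.ofFunctor (𝒴.p ⋙ 𝒳.p)

/-- The structure functor of `𝒴`, as a functor over `C`. -/
def Qf : tot 𝒴 ⥤ᵇ 𝒳 where
  toFunctor := 𝒴.p
  w := rfl

variable {𝒴}

theorem tot_lift_iff {y y' : 𝒴.obj} (b : y ⟶ y') {V U : C} (f : V ⟶ U) :
    (tot 𝒴).p.IsHomLift f b ↔ 𝒳.p.IsHomLift f (𝒴.p.map b) :=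
  Groth.Agent.Lib.Helper27.OverFibSet.comp_isHomLift_iff 𝒳.p 𝒴.p f b

/-- (T1) -/
theorem tot_lift_of {y y' : 𝒴.obj} (b : y ⟶ y') {x x' : 𝒳.obj} (a : x ⟶ x')
    (hb : 𝒴.p.IsHomLift a b) {V U : C} (f : V ⟶ U) (ha : 𝒳.p.IsHomLift f a) :
    (tot 𝒴).p.IsHomLift f b := by
  rw [tot_lift_iff]
  have h1 : 𝒴.p.obj y = x := IsHomLift.domain_eq 𝒴.p a b
  have h2 : 𝒴.p.obj y' = x' := IsHomLift.codomain_eq 𝒴.p a b
  subst h1 h2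
  have h3 : a = 𝒴.p.map b := IsHomLift.eq_of_isHomLift 𝒴.p a b
  subst h3
  exact ha

theorem isFibGrpd_tot (h𝒳 : FibCat.IsFibGrpd 𝒳.p) (h𝒴 : FibCat.IsFibGrpd 𝒴.p) :
    FibCat.IsFibGrpd (tot 𝒴).p :=
  Groth.Agent.S6416.result 𝒴.p 𝒳.p h𝒴 h𝒳

end Comp

section Uniq

variable {𝒴 : BasedCategory.{v₃, u₃} 𝒳.obj} (h𝒳 : FibCat.IsFibGrpd 𝒳.p)
  (h𝒴 : FibCat.IsFibGrpd 𝒴.p) {U : C} (R : Sieve U)

include h𝒳 h𝒴 in
theorem uniqMor_tot (hu𝒳 : UniqMor R 𝒳)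
    (hu𝒴 : ∀ (x : 𝒳.obj) (hx : 𝒳.p.obj x = U), UniqMor (liftSieve R x hx) 𝒴) :
    UniqMor R (tot 𝒴) := by
  intro y y' φ ψ hφ hψ hloc
  have hφ' : 𝒳.p.IsHomLift (𝟙 U) (𝒴.p.map φ) := (tot_lift_iff φ _).1 hφ
  have hψ' : 𝒳.p.IsHomLift (𝟙 U) (𝒴.p.map ψ) := (tot_lift_iff ψ _).1 hψ
  have hy : 𝒳.p.obj (𝒴.p.obj y) = U := IsHomLift.domain_eq 𝒳.p (𝟙 U) (𝒴.p.map φ)
  -- step 1: the images agree
  have hq : 𝒴.p.map φ = 𝒴.p.map ψ := by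
    apply hu𝒳 _ _ _ _ hφ' hψ'
    intro V f x' a hf ha
    obtain ⟨y'', b, hb⟩ := h𝒴.exists_lift (x := y) a
    have h1 : 𝒴.p.obj y'' = x' := IsHomLift.domain_eq 𝒴.p a b
    subst h1
    have h2 : a = 𝒴.p.map b := IsHomLift.eq_of_isHomLift 𝒴.p a b
    subst h2
    have hb' : (tot 𝒴).p.IsHomLift f b := (tot_lift_iff b f).2 ha
    have := hloc f b hf hb'
    rw [← 𝒴.p.map_comp, ← 𝒴.p.map_comp, this]
  -- step 2: both lie over the same morphism of `𝒳`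
  have hφq : 𝒴.p.IsHomLift (𝒴.p.map φ) φ := inferInstance
  have hψq : 𝒴.p.IsHomLift (𝒴.p.map φ) ψ := by rw [hq]; infer_instance
  refine uniq_over h𝒴 (liftSieve R (𝒴.p.obj y) hy) (hu𝒴 _ hy) (𝒴.p.map φ) φ ψ hφq hψq ?_
  intro x' a y'' b ha hb
  have ha' : R (𝒳.p.map a ≫ eqToHom hy) := ha
  exact hloc _ b ha' (tot_lift_of b a hb _ (liftSieve_lift (𝒴.p.obj y) hy a))

end Uniq

section Push

variable {𝒵 : BasedCategory.{v₃, u₃} C} (h𝒳 : FibCat.IsFibGrpd 𝒳.p) (h𝒵 : FibCat.IsFibGrpd 𝒵.p)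
  (Q : 𝒵 ⥤ᵇ 𝒳) {U : C} (R : Sieve U)

theorem Q_lift {s y : 𝒵.obj} (A : s ⟶ y) {V W : C} (f : V ⟶ W) (hA : 𝒵.p.IsHomLift f A) :
    𝒳.p.IsHomLift f (Q.map A) := inferInstance

/-- The image of a matching family under a functor over `C`. -/
noncomputable def push {y y' : 𝒵.obj} (hy : 𝒵.p.obj y = U) (M : MatchFam R 𝒵 y y') :
    MatchFam R 𝒳 (Q.obj y) (Q.obj y') where
  m := fun V f x' a hf ha =>
    FG.lift h𝒳 f (Q.map (pbHom h𝒵 y hy (Over.mk f)))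
      (Q_lift Q _ f (pbHom_isHomLift h𝒵 y hy (Over.mk f))) (𝟙 V) (Category.id_comp _).symm a ha ≫
      Q.map (M.m f (pbHom h𝒵 y hy (Over.mk f)) hf (pbHom_isHomLift h𝒵 y hy (Over.mk f)))
  lift := fun V f x' a hf ha => by
    have h1 : 𝒳.p.IsHomLift (𝟙 V) (FG.lift h𝒳 f (Q.map (pbHom h𝒵 y hy (Over.mk f)))
      (Q_lift Q _ f (pbHom_isHomLift h𝒵 y hy (Over.mk f))) (𝟙 V) (Category.id_comp _).symm a ha) :=
      FG.lift_isHomLift h𝒳 _ _ _ _ _ _ _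
    have h2 : 𝒳.p.IsHomLift f
        (Q.map (M.m f (pbHom h𝒵 y hy (Over.mk f)) hf (pbHom_isHomLift h𝒵 y hy (Over.mk f)))) :=
      Q_lift Q _ f (M.lift _ _ _ _)
    infer_instance
  compat := fun V W f g x' x'' a b hf ha hb hba => by
    have hAf : 𝒵.p.IsHomLift f (pbHom h𝒵 y hy (Over.mk f)) :=
      pbHom_isHomLift h𝒵 y hy (Over.mk f)
    have hAgf : 𝒵.p.IsHomLift (g ≫ f) (pbHom h𝒵 y hy (Over.mk (g ≫ f))) :=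
      pbHom_isHomLift h𝒵 y hy (Over.mk (g ≫ f))
    let γ : Over.mk (g ≫ f) ⟶ Over.mk f := Over.homMk g rfl
    have hΓ : 𝒵.p.IsHomLift g (pbMap h𝒵 y hy γ) := pbMap_isHomLift h𝒵 y hy γ
    have hΓfac : pbMap h𝒵 y hy γ ≫ pbHom h𝒵 y hy (Over.mk f) =
        pbHom h𝒵 y hy (Over.mk (g ≫ f)) := pbMap_fac h𝒵 y hy γ
    have hΓA : 𝒵.p.IsHomLift (g ≫ f) (pbMap h𝒵 y hy γ ≫ pbHom h𝒵 y hy (Over.mk f)) :=
      inferInstance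
    have e1 : M.m (g ≫ f) (pbHom h𝒵 y hy (Over.mk (g ≫ f))) (R.downward_closed hf g) hAgf =
        pbMap h𝒵 y hy γ ≫ M.m f (pbHom h𝒵 y hy (Over.mk f)) hf hAf := by
      rw [← M.compat f g (pbHom h𝒵 y hy (Over.mk f)) (pbMap h𝒵 y hy γ) hf hAf hΓ hΓA]
      exact M.m_congr rfl hΓfac.symm _ _ _ _
    have e1' : Q.map (M.m (g ≫ f) (pbHom h𝒵 y hy (Over.mk (g ≫ f)))
        (R.downward_closed hf g) hAgf) =
        Q.map (pbMap h𝒵 y hy γ) ≫ Q.map (M.m f (pbHom h𝒵 y hy (Over.mk f)) hf hAf) := by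
      rw [e1, Q.map_comp]
    have hΓf : 𝒳.p.IsHomLift g (Q.map (pbMap h𝒵 y hy γ)) := Q_lift Q _ g hΓ
    have hAff : 𝒳.p.IsHomLift f (Q.map (pbHom h𝒵 y hy (Over.mk f))) := Q_lift Q _ f hAf
    have hAgff : 𝒳.p.IsHomLift (g ≫ f) (Q.map (pbHom h𝒵 y hy (Over.mk (g ≫ f)))) :=
      Q_lift Q _ (g ≫ f) hAgf
    have hl1 : 𝒳.p.IsHomLift (𝟙 W) (FG.lift h𝒳 (g ≫ f) (Q.map (pbHom h𝒵 y hy (Over.mk (g ≫ f))))
        hAgff (𝟙 W) (Category.id_comp _).symm (b ≫ a) hba) := FG.lift_isHomLift h𝒳 _ _ _ _ _ _ _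
    have hl2 : 𝒳.p.IsHomLift (𝟙 V) (FG.lift h𝒳 f (Q.map (pbHom h𝒵 y hy (Over.mk f)))
        hAff (𝟙 V) (Category.id_comp _).symm a ha) := FG.lift_isHomLift h𝒳 _ _ _ _ _ _ _
    have key : FG.lift h𝒳 (g ≫ f) (Q.map (pbHom h𝒵 y hy (Over.mk (g ≫ f))))
        hAgff (𝟙 W) (Category.id_comp _).symm (b ≫ a) hba ≫ Q.map (pbMap h𝒵 y hy γ) =
        b ≫ FG.lift h𝒳 f (Q.map (pbHom h𝒵 y hy (Over.mk f)))
        hAff (𝟙 V) (Category.id_comp _).symm a ha := by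
      refine FG.cancel h𝒳 f (Q.map (pbHom h𝒵 y hy (Over.mk f))) hAff g
        (ψ := FG.lift h𝒳 (g ≫ f) (Q.map (pbHom h𝒵 y hy (Over.mk (g ≫ f))))
          hAgff (𝟙 W) (Category.id_comp _).symm (b ≫ a) hba ≫ Q.map (pbMap h𝒵 y hy γ))
        (ψ' := b ≫ FG.lift h𝒳 f (Q.map (pbHom h𝒵 y hy (Over.mk f)))
          hAff (𝟙 V) (Category.id_comp _).symm a ha) inferInstance inferInstance ?_
      have e2 : Q.map (pbMap h𝒵 y hy γ) ≫ Q.map (pbHom h𝒵 y hy (Over.mk f)) =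
          Q.map (pbHom h𝒵 y hy (Over.mk (g ≫ f))) := by rw [← Q.map_comp, hΓfac]
      rw [Category.assoc, Category.assoc, e2, FG.lift_fac, FG.lift_fac]
    change FG.lift h𝒳 (g ≫ f) (Q.map (pbHom h𝒵 y hy (Over.mk (g ≫ f))))
        hAgff (𝟙 W) (Category.id_comp _).symm (b ≫ a) hba ≫
      Q.map (M.m (g ≫ f) (pbHom h𝒵 y hy (Over.mk (g ≫ f))) (R.downward_closed hf g) hAgf) =
      b ≫ FG.lift h𝒳 f (Q.map (pbHom h𝒵 y hy (Over.mk f))) hAff (𝟙 V)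
        (Category.id_comp _).symm a ha ≫ Q.map (M.m f (pbHom h𝒵 y hy (Over.mk f)) hf hAf)
    rw [e1', ← Category.assoc, key, Category.assoc]

theorem push_apply {y y' : 𝒵.obj} (hy : 𝒵.p.obj y = U) (M : MatchFam R 𝒵 y y') {V : C}
    (f : V ⟶ U) (hf : R f) {s : 𝒵.obj} (A : s ⟶ y) (hA : 𝒵.p.IsHomLift f A) :
    (push h𝒳 h𝒵 Q R hy M).m f (Q.map A) hf (Q_lift Q A f hA) = Q.map (M.m f A hf hA) := by
  have hAf : 𝒵.p.IsHomLift f (pbHom h𝒵 y hy (Over.mk f)) := pbHom_isHomLift h𝒵 y hy (Over.mk f)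
  have hAff : 𝒳.p.IsHomLift f (Q.map (pbHom h𝒵 y hy (Over.mk f))) := Q_lift Q _ f hAf
  -- factor `A` through the chosen pullback
  have hΞl : 𝒵.p.IsHomLift (𝟙 V) (FG.lift h𝒵 f (pbHom h𝒵 y hy (Over.mk f)) hAf (𝟙 V)
      (Category.id_comp _).symm A hA) := FG.lift_isHomLift h𝒵 _ _ _ _ _ _ _
  have hΞ : FG.lift h𝒵 f (pbHom h𝒵 y hy (Over.mk f)) hAf (𝟙 V)
      (Category.id_comp _).symm A hA ≫ pbHom h𝒵 y hy (Over.mk f) = A :=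
    FG.lift_fac h𝒵 _ _ _ _ _ _ _
  have hΞA : 𝒵.p.IsHomLift (𝟙 V ≫ f) (FG.lift h𝒵 f (pbHom h𝒵 y hy (Over.mk f)) hAf (𝟙 V)
      (Category.id_comp _).symm A hA ≫ pbHom h𝒵 y hy (Over.mk f)) := inferInstance
  have e1 : M.m f A hf hA = FG.lift h𝒵 f (pbHom h𝒵 y hy (Over.mk f)) hAf (𝟙 V)
      (Category.id_comp _).symm A hA ≫ M.m f (pbHom h𝒵 y hy (Over.mk f)) hf hAf := by
    rw [← M.compat f (𝟙 V) (pbHom h𝒵 y hy (Over.mk f)) _ hf hAf hΞl hΞA]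
    exact M.m_congr (Category.id_comp f).symm hΞ.symm _ _ _ _
  have e2 : FG.lift h𝒳 f (Q.map (pbHom h𝒵 y hy (Over.mk f))) hAff (𝟙 V)
      (Category.id_comp _).symm (Q.map A) (Q_lift Q A f hA) =
      Q.map (FG.lift h𝒵 f (pbHom h𝒵 y hy (Over.mk f)) hAf (𝟙 V)
        (Category.id_comp _).symm A hA) := by
    symm
    apply FG.lift_uniq h𝒳
    · exact Q_lift Q _ (𝟙 V) hΞl
    · rw [← Q.map_comp, hΞ]
  change FG.lift h𝒳 f (Q.map (pbHom h𝒵 y hy (Over.mk f))) hAff (𝟙 V)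
      (Category.id_comp _).symm (Q.map A) (Q_lift Q A f hA) ≫
    Q.map (M.m f (pbHom h𝒵 y hy (Over.mk f)) hf hAf) = _
  rw [e2, ← Q.map_comp, ← e1]

end Push

section Glue

variable {𝒴 : BasedCategory.{v₃, u₃} 𝒳.obj} (h𝒳 : FibCat.IsFibGrpd 𝒳.p)
  (h𝒴 : FibCat.IsFibGrpd 𝒴.p) {U : C} (R : Sieve U)

/-- (T2) -/
theorem lift_comp_of_map_eq {s y y' : 𝒴.obj} (b : s ⟶ y) {x' : 𝒳.obj} (a : x' ⟶ 𝒴.p.obj y)
    (hb : 𝒴.p.IsHomLift a b) (χ : 𝒴.p.obj y ⟶ 𝒴.p.obj y') (m : s ⟶ y')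
    (hm : 𝒴.p.map m = 𝒴.p.map b ≫ χ) : 𝒴.p.IsHomLift (a ≫ χ) m := by
  have h1 : 𝒴.p.obj s = x' := IsHomLift.domain_eq 𝒴.p a b
  subst h1
  have h3 : a = 𝒴.p.map b := IsHomLift.eq_of_isHomLift 𝒴.p a b
  subst h3
  rw [← hm]
  infer_instance

variable {y y' y2 : 𝒴.obj} (hy : 𝒳.p.obj (𝒴.p.obj y) = U) (M : MatchFam R (tot 𝒴) y y')
  (χ : 𝒴.p.obj y ⟶ 𝒴.p.obj y') (φ₀ : y2 ⟶ y') (hφ₀ : 𝒴.p.IsHomLift χ φ₀)
  (hkey : ∀ ⦃V : C⦄ (f : V ⟶ U) ⦃s : 𝒴.obj⦄ (b : s ⟶ y) (hf : R f)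
    (hb : (tot 𝒴).p.IsHomLift f b), 𝒴.p.map (M.m f b hf hb) = 𝒴.p.map b ≫ χ)

/-- The members of the matching family over `𝒳`. -/
noncomputable def famM {x' : 𝒳.obj} (a : x' ⟶ 𝒴.p.obj y) {s : 𝒴.obj} (b : s ⟶ y)
    (ha : liftSieve R (𝒴.p.obj y) hy a) (hb : 𝒴.p.IsHomLift a b) : s ⟶ y2 :=
  FG.lift h𝒴 χ φ₀ hφ₀ a rfl
    (M.m (𝒳.p.map a ≫ eqToHom hy) b ha
      (tot_lift_of b a hb _ (liftSieve_lift (𝒴.p.obj y) hy a)))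
    (lift_comp_of_map_eq b a hb χ _ (hkey _ b ha _))

theorem famM_lift {x' : 𝒳.obj} (a : x' ⟶ 𝒴.p.obj y) {s : 𝒴.obj} (b : s ⟶ y)
    (ha : liftSieve R (𝒴.p.obj y) hy a) (hb : 𝒴.p.IsHomLift a b) :
    𝒴.p.IsHomLift a (famM h𝒴 R hy M χ φ₀ hφ₀ hkey a b ha hb) :=
  FG.lift_isHomLift h𝒴 _ _ _ _ _ _ _

theorem famM_fac {x' : 𝒳.obj} (a : x' ⟶ 𝒴.p.obj y) {s : 𝒴.obj} (b : s ⟶ y)
    (ha : liftSieve R (𝒴.p.obj y) hy a) (hb : 𝒴.p.IsHomLift a b) :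
    famM h𝒴 R hy M χ φ₀ hφ₀ hkey a b ha hb ≫ φ₀ =
      M.m (𝒳.p.map a ≫ eqToHom hy) b ha
        (tot_lift_of b a hb _ (liftSieve_lift (𝒴.p.obj y) hy a)) :=
  FG.lift_fac h𝒴 _ _ _ _ _ _ _

/-- The matching family in `𝒴` over `𝒳`. -/
noncomputable def famOver : MatchFam (liftSieve R (𝒴.p.obj y) hy) 𝒴 y y2 where
  m := fun _ a _ b ha hb => famM h𝒴 R hy M χ φ₀ hφ₀ hkey a b ha hb
  lift := fun _ a _ b ha hb => famM_lift h𝒴 R hy M χ φ₀ hφ₀ hkey a b ha hb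
  compat := fun x' x'' a g s s' b c ha hb hc hcb => by
    have h1 : 𝒴.p.IsHomLift (g ≫ a) (famM h𝒴 R hy M χ φ₀ hφ₀ hkey (g ≫ a) (c ≫ b)
        ((liftSieve R (𝒴.p.obj y) hy).downward_closed ha g) hcb) := famM_lift _ _ _ _ _ _ _ _ _ _ _ _
    have h2 : 𝒴.p.IsHomLift a (famM h𝒴 R hy M χ φ₀ hφ₀ hkey a b ha hb) :=
      famM_lift _ _ _ _ _ _ _ _ _ _ _ _
    have h3 : 𝒴.p.IsHomLift (g ≫ a) (c ≫ famM h𝒴 R hy M χ φ₀ hφ₀ hkey a b ha hb) := inferInstance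
    refine FG.cancel h𝒴 χ φ₀ hφ₀ (g ≫ a) h1 h3 ?_
    rw [famM_fac, Category.assoc, famM_fac]
    have hc' : (tot 𝒴).p.IsHomLift (𝒳.p.map g) c := tot_lift_of c g hc _ inferInstance
    have hb' : (tot 𝒴).p.IsHomLift (𝒳.p.map a ≫ eqToHom hy) b :=
      tot_lift_of b a hb _ (liftSieve_lift (𝒴.p.obj y) hy a)
    have hcb' : (tot 𝒴).p.IsHomLift (𝒳.p.map g ≫ 𝒳.p.map a ≫ eqToHom hy) (c ≫ b) := inferInstance
    rw [← M.compat (𝒳.p.map a ≫ eqToHom hy) (𝒳.p.map g) b c ha hb' hc' hcb']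
    exact M.m_congr (by rw [𝒳.p.map_comp, Category.assoc]) rfl _ _ _ _

include h𝒳 h𝒴 in
theorem glueMor_tot (hg𝒳 : GlueMor R 𝒳)
    (hg𝒴 : ∀ (x : 𝒳.obj) (hx : 𝒳.p.obj x = U), GlueMor (liftSieve R x hx) 𝒴) :
    GlueMor R (tot 𝒴) := by
  intro y y' hy hy' M
  have hy1 : 𝒳.p.obj (𝒴.p.obj y) = U := hy
  have hy1' : 𝒳.p.obj (𝒴.p.obj y') = U := hy'
  have h𝒵 : FibCat.IsFibGrpd (tot 𝒴).p := isFibGrpd_tot h𝒳 h𝒴
  obtain ⟨χ, hχl, hχ⟩ := hg𝒳 (𝒴.p.obj y) (𝒴.p.obj y') hy1 hy1' (push h𝒳 h𝒵 (Qf 𝒴) R hy M)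
  have hkey : ∀ ⦃V : C⦄ (f : V ⟶ U) ⦃s : 𝒴.obj⦄ (b : s ⟶ y) (hf : R f)
      (hb : (tot 𝒴).p.IsHomLift f b), 𝒴.p.map (M.m f b hf hb) = 𝒴.p.map b ≫ χ := by
    intro V f s b hf hb
    have e1 := push_apply h𝒳 h𝒵 (Qf 𝒴) R hy M f hf b hb
    have e2 := hχ f ((Qf 𝒴).map b) hf (Q_lift (Qf 𝒴) b f hb)
    exact (e2.trans e1).symm
  obtain ⟨y2, φ₀, hφ₀⟩ := h𝒴.exists_lift (x := y') χ
  have hy2 : 𝒴.p.obj y2 = 𝒴.p.obj y := IsHomLift.domain_eq 𝒴.p χ φ₀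
  obtain ⟨θ, hθl, hθ⟩ := hg𝒴 (𝒴.p.obj y) hy1 y y2 rfl hy2 (famOver h𝒴 R hy1 M χ φ₀ hφ₀ hkey)
  refine ⟨θ ≫ φ₀, ?_, ?_⟩
  · have h1 : 𝒴.p.IsHomLift (𝟙 (𝒴.p.obj y) ≫ χ) (θ ≫ φ₀) := inferInstance
    rw [Category.id_comp] at h1
    exact tot_lift_of (θ ≫ φ₀) χ h1 (𝟙 U) hχl
  · intro V f s b hf hb
    have hb1 : 𝒳.p.IsHomLift f (𝒴.p.map b) := (tot_lift_iff b f).1 hb
    have hV : 𝒳.p.obj (𝒴.p.obj s) = V := IsHomLift.domain_eq 𝒳.p f (𝒴.p.map b)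
    subst hV
    have hfe : f = 𝒳.p.map (𝒴.p.map b) ≫ eqToHom hy1 := by
      have := IsHomLift.fac 𝒳.p f (𝒴.p.map b)
      simpa using this
    have ha : liftSieve R (𝒴.p.obj y) hy1 (𝒴.p.map b) := by
      change R (𝒳.p.map (𝒴.p.map b) ≫ eqToHom hy1)
      rw [← hfe]; exact hf
    have hbb : 𝒴.p.IsHomLift (𝒴.p.map b) b := inferInstance
    have e1 : b ≫ θ = famM h𝒴 R hy1 M χ φ₀ hφ₀ hkey (𝒴.p.map b) b ha hbb :=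
      hθ (𝒴.p.map b) b ha hbb
    rw [← Category.assoc, e1, famM_fac]
    exact M.m_congr hfe.symm rfl _ _ _ _

end Glue

section Eff

theorem lift_id_of_eqToHom {𝒵 : Type u₃} [Category.{v₃} 𝒵] (p : 𝒵 ⥤ C) {V V' : C} (h : V = V')
    {a b : 𝒵} (φ : a ⟶ b) (hφ : p.IsHomLift (eqToHom h) φ) : p.IsHomLift (𝟙 V') φ := by
  subst h
  simpa using hφ

variable (𝒴 : BasedCategory.{v₃, u₃} 𝒳.obj) {U : C} (R : Sieve U)

/-- A descent datum in the composite together with a gluing of its image in `𝒳`. -/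
structure EffData where
  D : Stk.sieveCat R ⥤ᵇ tot 𝒴
  x : 𝒳.obj
  hx : 𝒳.p.obj x = U
  c : ∀ s : (Stk.sieveCat R).obj, 𝒴.p.obj (D.obj s) ⟶ x
  hc : ∀ s : (Stk.sieveCat R).obj, 𝒳.p.IsHomLift s.obj.hom (c s)
  hcomp : ∀ ⦃s s' : (Stk.sieveCat R).obj⦄ (g : s ⟶ s'), 𝒴.p.map (D.map g) ≫ c s' = c s

variable {𝒴 R} (h𝒳 : FibCat.IsFibGrpd 𝒳.p) (h𝒴 : FibCat.IsFibGrpd 𝒴.p) (E : EffData 𝒴 R)

/-- The member of `R` under an arrow of the lifted sieve. -/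
def sA (a : (Stk.sieveCat (liftSieve R E.x E.hx)).obj) : (Stk.sieveCat R).obj :=
  ⟨Over.mk (𝒳.p.map a.obj.hom ≫ eqToHom E.hx), a.property⟩

/-- Functoriality of `sA`. -/
def sK {a a' : (Stk.sieveCat (liftSieve R E.x E.hx)).obj} (k : a ⟶ a') : sA E a ⟶ sA E a' :=
  ObjectProperty.homMk (Over.homMk (𝒳.p.map k.hom.left) (by
    change 𝒳.p.map k.hom.left ≫ 𝒳.p.map a'.obj.hom ≫ eqToHom E.hx =
      𝒳.p.map a.obj.hom ≫ eqToHom E.hx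
    rw [← Category.assoc, ← 𝒳.p.map_comp, Over.w]))

theorem sK_id (a : (Stk.sieveCat (liftSieve R E.x E.hx)).obj) : sK E (𝟙 a) = 𝟙 (sA E a) := by
  apply ObjectProperty.hom_ext
  apply Over.OverMorphism.ext
  change 𝒳.p.map (𝟙 a.obj.left) = 𝟙 _
  exact 𝒳.p.map_id _

theorem sK_comp {a a' a'' : (Stk.sieveCat (liftSieve R E.x E.hx)).obj} (k : a ⟶ a')
    (k' : a' ⟶ a'') : sK E (k ≫ k') = sK E k ≫ sK E k' := by
  apply ObjectProperty.hom_ext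
  apply Over.OverMorphism.ext
  change 𝒳.p.map (k.hom.left ≫ k'.hom.left) = 𝒳.p.map k.hom.left ≫ 𝒳.p.map k'.hom.left
  exact 𝒳.p.map_comp _ _

/-- The comparison isomorphism in `𝒳`. -/
noncomputable def lam (a : (Stk.sieveCat (liftSieve R E.x E.hx)).obj) :
    a.obj.left ⟶ 𝒴.p.obj (E.D.obj (sA E a)) :=
  FG.lift h𝒳 (sA E a).obj.hom (E.c (sA E a)) (E.hc _) (𝟙 (𝒳.p.obj a.obj.left))
    (Category.id_comp _).symm a.obj.hom (liftSieve_lift E.x E.hx a.obj.hom)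

theorem lam_lift (a : (Stk.sieveCat (liftSieve R E.x E.hx)).obj) :
    𝒳.p.IsHomLift (𝟙 (𝒳.p.obj a.obj.left)) (lam h𝒳 E a) :=
  FG.lift_isHomLift h𝒳 _ _ _ _ _ _ _

theorem lam_fac (a : (Stk.sieveCat (liftSieve R E.x E.hx)).obj) :
    lam h𝒳 E a ≫ E.c (sA E a) = a.obj.hom :=
  FG.lift_fac h𝒳 _ _ _ _ _ _ _

theorem D_lift {s s' : (Stk.sieveCat R).obj} (g : s ⟶ s') :
    𝒳.p.IsHomLift g.hom.left (𝒴.p.map (E.D.map g)) :=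
  (tot_lift_iff _ _).1 (D_map_lift E.D g)

theorem lam_nat {a a' : (Stk.sieveCat (liftSieve R E.x E.hx)).obj} (k : a ⟶ a') :
    lam h𝒳 E a ≫ 𝒴.p.map (E.D.map (sK E k)) = k.hom.left ≫ lam h𝒳 E a' := by
  have hl := lam_lift h𝒳 E a
  have hl' := lam_lift h𝒳 E a'
  have hD : 𝒳.p.IsHomLift (𝒳.p.map k.hom.left) (𝒴.p.map (E.D.map (sK E k))) :=
    D_lift E (sK E k)
  have h1 : 𝒳.p.IsHomLift (𝒳.p.map k.hom.left)
      (lam h𝒳 E a ≫ 𝒴.p.map (E.D.map (sK E k))) := by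
    have : 𝒳.p.IsHomLift (𝟙 _ ≫ 𝒳.p.map k.hom.left)
      (lam h𝒳 E a ≫ 𝒴.p.map (E.D.map (sK E k))) := inferInstance
    rwa [Category.id_comp] at this
  have h2 : 𝒳.p.IsHomLift (𝒳.p.map k.hom.left) (k.hom.left ≫ lam h𝒳 E a') := by
    have : 𝒳.p.IsHomLift (𝒳.p.map k.hom.left ≫ 𝟙 _) (k.hom.left ≫ lam h𝒳 E a') := inferInstance
    rwa [Category.comp_id] at this
  refine FG.cancel h𝒳 (sA E a').obj.hom (E.c (sA E a')) (E.hc _) (𝒳.p.map k.hom.left) h1 h2 ?_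
  rw [Category.assoc, Category.assoc, E.hcomp, lam_fac, lam_fac]
  exact (Over.w k.hom).symm

/-- Objects of the descent datum over `𝒳`. -/
noncomputable def dObj (a : (Stk.sieveCat (liftSieve R E.x E.hx)).obj) : 𝒴.obj :=
  pbObj h𝒴 (E.D.obj (sA E a)) rfl (Over.mk (lam h𝒳 E a))

/-- The structure morphisms of the descent datum over `𝒳`. -/
noncomputable def dHom (a : (Stk.sieveCat (liftSieve R E.x E.hx)).obj) :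
    dObj h𝒳 h𝒴 E a ⟶ E.D.obj (sA E a) :=
  pbHom h𝒴 (E.D.obj (sA E a)) rfl (Over.mk (lam h𝒳 E a))

theorem dHom_lift (a : (Stk.sieveCat (liftSieve R E.x E.hx)).obj) :
    𝒴.p.IsHomLift (lam h𝒳 E a) (dHom h𝒳 h𝒴 E a) :=
  pbHom_isHomLift h𝒴 (E.D.obj (sA E a)) rfl (Over.mk (lam h𝒳 E a))

theorem p_dObj (a : (Stk.sieveCat (liftSieve R E.x E.hx)).obj) :
    𝒴.p.obj (dObj h𝒳 h𝒴 E a) = a.obj.left :=
  p_pbObj h𝒴 (E.D.obj (sA E a)) rfl (Over.mk (lam h𝒳 E a))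

theorem dMap_aux {a a' : (Stk.sieveCat (liftSieve R E.x E.hx)).obj} (k : a ⟶ a') :
    𝒴.p.IsHomLift (lam h𝒳 E a ≫ 𝒴.p.map (E.D.map (sK E k)))
      (dHom h𝒳 h𝒴 E a ≫ E.D.map (sK E k)) := by
  haveI := dHom_lift h𝒳 h𝒴 E a
  infer_instance

/-- Transition morphisms of the descent datum over `𝒳`. -/
noncomputable def dMap {a a' : (Stk.sieveCat (liftSieve R E.x E.hx)).obj} (k : a ⟶ a') :
    dObj h𝒳 h𝒴 E a ⟶ dObj h𝒳 h𝒴 E a' :=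
  FG.lift h𝒴 (lam h𝒳 E a') (dHom h𝒳 h𝒴 E a') (dHom_lift h𝒳 h𝒴 E a') k.hom.left
    (lam_nat h𝒳 E k) (dHom h𝒳 h𝒴 E a ≫ E.D.map (sK E k)) (dMap_aux h𝒳 h𝒴 E k)

theorem dMap_lift {a a' : (Stk.sieveCat (liftSieve R E.x E.hx)).obj} (k : a ⟶ a') :
    𝒴.p.IsHomLift k.hom.left (dMap h𝒳 h𝒴 E k) :=
  FG.lift_isHomLift h𝒴 _ _ _ _ _ _ _

theorem dMap_fac {a a' : (Stk.sieveCat (liftSieve R E.x E.hx)).obj} (k : a ⟶ a') :
    dMap h𝒳 h𝒴 E k ≫ dHom h𝒳 h𝒴 E a' = dHom h𝒳 h𝒴 E a ≫ E.D.map (sK E k) :=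
  FG.lift_fac h𝒴 _ _ _ _ _ _ _

/-- The descent datum in `𝒴` over `𝒳`. -/
noncomputable def dFun : Stk.sieveCat (liftSieve R E.x E.hx) ⥤ᵇ 𝒴 where
  toFunctor :=
    { obj := fun a => dObj h𝒳 h𝒴 E a
      map := fun k => dMap h𝒳 h𝒴 E k
      map_id := fun a => by
        have h1 : 𝒴.p.IsHomLift (𝟙 a.obj.left) (dMap h𝒳 h𝒴 E (𝟙 a)) := dMap_lift h𝒳 h𝒴 E (𝟙 a)
        have h2 : 𝒴.p.IsHomLift (𝟙 a.obj.left) (𝟙 (dObj h𝒳 h𝒴 E a)) :=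
          IsHomLift.id (p_dObj h𝒳 h𝒴 E a)
        refine FG.cancel h𝒴 (lam h𝒳 E a) (dHom h𝒳 h𝒴 E a) (dHom_lift h𝒳 h𝒴 E a)
          (𝟙 a.obj.left) h1 h2 ?_
        rw [dMap_fac, sK_id, CategoryTheory.Functor.map_id, Category.id_comp]
        exact Category.comp_id _
      map_comp := fun {a a' a''} k k' => by
        have h1 : 𝒴.p.IsHomLift (k.hom.left ≫ k'.hom.left) (dMap h𝒳 h𝒴 E (k ≫ k')) :=
          dMap_lift h𝒳 h𝒴 E (k ≫ k')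
        have hk := dMap_lift h𝒳 h𝒴 E k
        have hk' := dMap_lift h𝒳 h𝒴 E k'
        have h2 : 𝒴.p.IsHomLift (k.hom.left ≫ k'.hom.left)
            (dMap h𝒳 h𝒴 E k ≫ dMap h𝒳 h𝒴 E k') := inferInstance
        refine FG.cancel h𝒴 (lam h𝒳 E a'') (dHom h𝒳 h𝒴 E a'') (dHom_lift h𝒳 h𝒴 E a'')
          (k.hom.left ≫ k'.hom.left) h1 h2 ?_
        rw [dMap_fac, Category.assoc, dMap_fac, ← Category.assoc, dMap_fac, Category.assoc,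
          sK_comp, CategoryTheory.Functor.map_comp] }
  w := by
    refine CategoryTheory.Functor.ext (fun a => p_dObj h𝒳 h𝒴 E a) (fun a a' k => ?_)
    haveI := dMap_lift h𝒳 h𝒴 E k
    exact IsHomLift.fac' 𝒴.p k.hom.left (dMap h𝒳 h𝒴 E k)

end Eff

section Eff2

variable {𝒴 : BasedCategory.{v₃, u₃} 𝒳.obj} {U : C} {R : Sieve U}
  (h𝒳 : FibCat.IsFibGrpd 𝒳.p) (h𝒴 : FibCat.IsFibGrpd 𝒴.p) (E : EffData 𝒴 R)

/-- The arrow of the lifted sieve attached to a member of `R`. -/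
def aS (s : (Stk.sieveCat R).obj) : (Stk.sieveCat (liftSieve R E.x E.hx)).obj :=
  ⟨Over.mk (E.c s), liftSieve_of_lift R E.x E.hx (E.c s) s.obj.hom s.property (E.hc s)⟩

theorem hleft (s : (Stk.sieveCat R).obj) : s.obj.left = 𝒳.p.obj (𝒴.p.obj (E.D.obj s)) :=
  haveI := E.hc s
  (IsHomLift.domain_eq 𝒳.p s.obj.hom (E.c s)).symm

/-- The comparison of a member of `R` with the member under its arrow. -/
def iS (s : (Stk.sieveCat R).obj) : s ⟶ sA E (aS E s) :=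
  ObjectProperty.homMk (Over.homMk (eqToHom (hleft E s)) (by
    haveI := E.hc s
    exact (IsHomLift.fac 𝒳.p s.obj.hom (E.c s)).symm))

/-- Functoriality of `aS`. -/
def kS {s s' : (Stk.sieveCat R).obj} (g : s ⟶ s') : aS E s ⟶ aS E s' :=
  ObjectProperty.homMk (Over.homMk (𝒴.p.map (E.D.map g)) (E.hcomp g))

theorem iS_nat {s s' : (Stk.sieveCat R).obj} (g : s ⟶ s') :
    g ≫ iS E s' = iS E s ≫ sK E (kS E g) := by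
  apply ObjectProperty.hom_ext
  apply Over.OverMorphism.ext
  change g.hom.left ≫ eqToHom (hleft E s') =
    eqToHom (hleft E s) ≫ 𝒳.p.map (𝒴.p.map (E.D.map g))
  haveI := D_lift E g
  have := IsHomLift.fac' 𝒳.p g.hom.left (𝒴.p.map (E.D.map g))
  rw [this]
  simp

theorem lam_aS (s : (Stk.sieveCat R).obj) :
    lam h𝒳 E (aS E s) = 𝒴.p.map (E.D.map (iS E s)) := by
  have h1 := lam_lift h𝒳 E (aS E s)
  have h2 : 𝒳.p.IsHomLift (𝟙 (𝒳.p.obj (𝒴.p.obj (E.D.obj s)))) (𝒴.p.map (E.D.map (iS E s))) :=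
    lift_id_of_eqToHom 𝒳.p (hleft E s) _ (D_lift E (iS E s))
  refine FG.cancel h𝒳 (sA E (aS E s)).obj.hom (E.c (sA E (aS E s))) (E.hc _)
    (𝟙 (𝒳.p.obj (𝒴.p.obj (E.D.obj s)))) h1 h2 ?_
  rw [lam_fac, E.hcomp]
  rfl

/-- The comparison of the descent datum with the one over `𝒳`. -/
noncomputable def kap (s : (Stk.sieveCat R).obj) : E.D.obj s ⟶ dObj h𝒳 h𝒴 E (aS E s) :=
  FG.lift h𝒴 (lam h𝒳 E (aS E s)) (dHom h𝒳 h𝒴 E (aS E s)) (dHom_lift h𝒳 h𝒴 E (aS E s))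
    (𝟙 (𝒴.p.obj (E.D.obj s)))
    (show 𝒴.p.map (E.D.map (iS E s)) = 𝟙 _ ≫ lam h𝒳 E (aS E s) by
      rw [Category.id_comp, lam_aS])
    (E.D.map (iS E s)) inferInstance

theorem kap_lift (s : (Stk.sieveCat R).obj) :
    𝒴.p.IsHomLift (𝟙 (𝒴.p.obj (E.D.obj s))) (kap h𝒳 h𝒴 E s) :=
  FG.lift_isHomLift h𝒴 _ _ _ _ _ _ _

theorem kap_fac (s : (Stk.sieveCat R).obj) :
    kap h𝒳 h𝒴 E s ≫ dHom h𝒳 h𝒴 E (aS E s) = E.D.map (iS E s) :=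
  FG.lift_fac h𝒴 _ _ _ _ _ _ _

theorem kap_nat {s s' : (Stk.sieveCat R).obj} (g : s ⟶ s') :
    E.D.map g ≫ kap h𝒳 h𝒴 E s' = kap h𝒳 h𝒴 E s ≫ dMap h𝒳 h𝒴 E (kS E g) := by
  have hk := kap_lift h𝒳 h𝒴 E s
  have hk' := kap_lift h𝒳 h𝒴 E s'
  have hd : 𝒴.p.IsHomLift (𝒴.p.map (E.D.map g)) (dMap h𝒳 h𝒴 E (kS E g)) :=
    dMap_lift h𝒳 h𝒴 E (kS E g)
  have h1 : 𝒴.p.IsHomLift (𝒴.p.map (E.D.map g)) (E.D.map g ≫ kap h𝒳 h𝒴 E s') := by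
    have : 𝒴.p.IsHomLift (𝒴.p.map (E.D.map g) ≫ 𝟙 _) (E.D.map g ≫ kap h𝒳 h𝒴 E s') :=
      inferInstance
    rwa [Category.comp_id] at this
  have h2 : 𝒴.p.IsHomLift (𝒴.p.map (E.D.map g))
      (kap h𝒳 h𝒴 E s ≫ dMap h𝒳 h𝒴 E (kS E g)) := by
    have : 𝒴.p.IsHomLift (𝟙 _ ≫ 𝒴.p.map (E.D.map g))
      (kap h𝒳 h𝒴 E s ≫ dMap h𝒳 h𝒴 E (kS E g)) := inferInstance
    rwa [Category.id_comp] at this
  refine FG.cancel h𝒴 (lam h𝒳 E (aS E s')) (dHom h𝒳 h𝒴 E (aS E s'))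
    (dHom_lift h𝒳 h𝒴 E (aS E s')) (𝒴.p.map (E.D.map g)) h1 h2 ?_
  rw [Category.assoc, kap_fac, Category.assoc, dMap_fac, ← Category.assoc, kap_fac,
    ← CategoryTheory.Functor.map_comp, ← CategoryTheory.Functor.map_comp, iS_nat]

end Eff2

section EffMain

variable {𝒴 : BasedCategory.{v₃, u₃} 𝒳.obj} {U : C} (R : Sieve U)
  (h𝒳 : FibCat.IsFibGrpd 𝒳.p) (h𝒴 : FibCat.IsFibGrpd 𝒴.p)

include h𝒳 h𝒴 in
theorem effective_tot (he𝒳 : Effective R 𝒳)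
    (he𝒴 : ∀ (x : 𝒳.obj) (hx : 𝒳.p.obj x = U), Effective (liftSieve R x hx) 𝒴) :
    Effective R (tot 𝒴) := by
  intro D
  obtain ⟨x, c, hx, hc, hcomp⟩ := he𝒳 (BasedFunctor.comp D (Qf 𝒴))
  let E : EffData 𝒴 R := ⟨D, x, hx, c, hc, hcomp⟩
  obtain ⟨y0, Cc, hy0, hC, hCcomp⟩ := he𝒴 x hx (dFun h𝒳 h𝒴 E)
  refine ⟨y0, fun s => kap h𝒳 h𝒴 E s ≫ Cc (aS E s), ?_, ?_, ?_⟩
  · change 𝒳.p.obj (𝒴.p.obj y0) = U
    rw [hy0]; exact hx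
  · intro s
    have hk := kap_lift h𝒳 h𝒴 E s
    have hCs : 𝒴.p.IsHomLift (c s) (Cc (aS E s)) := hC (aS E s)
    have h1 : 𝒴.p.IsHomLift (𝟙 (𝒴.p.obj (D.obj s)) ≫ c s) (kap h𝒳 h𝒴 E s ≫ Cc (aS E s)) :=
      inferInstance
    rw [Category.id_comp] at h1
    exact tot_lift_of _ (c s) h1 s.obj.hom (hc s)
  · intro s s' g
    have e1 : dMap h𝒳 h𝒴 E (kS E g) ≫ Cc (aS E s') = Cc (aS E s) := hCcomp (kS E g)
    change D.map g ≫ kap h𝒳 h𝒴 E s' ≫ Cc (aS E s') = kap h𝒳 h𝒴 E s ≫ Cc (aS E s)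
    have e2 : D.map g ≫ kap h𝒳 h𝒴 E s' = kap h𝒳 h𝒴 E s ≫ dMap h𝒳 h𝒴 E (kS E g) :=
      kap_nat h𝒳 h𝒴 E g
    rw [← Category.assoc, e2, Category.assoc, e1]

end EffMain

section Main

variable {𝒴 : BasedCategory.{v₃, u₃} 𝒳.obj}

theorem isStack_tot (J : GrothendieckTopology C) (h𝒳 : Stk.IsStack J 𝒳)
    (h𝒴 : Stk.IsStack (𝒳.p.restrictedTopology J) 𝒴) : Stk.IsStack J (tot 𝒴) := by
  refine ⟨isFibGrpd_tot h𝒳.1 h𝒴.1, ?_⟩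
  intro U R hR
  have h1 := (isStackFor_iff R h𝒳.1).1 (h𝒳.2 R hR)
  have h2 : ∀ (x : 𝒳.obj) (hx : 𝒳.p.obj x = U),
      UniqMor (liftSieve R x hx) 𝒴 ∧ GlueMor (liftSieve R x hx) 𝒴 ∧
        Effective (liftSieve R x hx) 𝒴 := fun x hx =>
    (isStackFor_iff _ h𝒴.1).1 (h𝒴.2 _ (liftSieve_mem R x hx h𝒳.1 J hR))
  rw [isStackFor_iff R (isFibGrpd_tot h𝒳.1 h𝒴.1)]
  exact ⟨uniqMor_tot h𝒳.1 h𝒴.1 R h1.1 (fun x hx => (h2 x hx).1),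
    glueMor_tot h𝒳.1 h𝒴.1 R h1.2.1 (fun x hx => (h2 x hx).2.1),
    effective_tot R h𝒳.1 h𝒴.1 h1.2.2 (fun x hx => (h2 x hx).2.2)⟩

end Main

end Groth.Agent.Lib.Helper27.StackComp
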