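import Mathlib
import Groth.Agent.Lib.helper19.HensSectionUnique

/-!
# Lifting points of étale schemes over a henselian local scheme
-/

set_option autoImplicit false
set_option backward.isDefEq.respectTransparency false
set_option backward.isDefEq.respectTransparency.types false

universe u

namespace Groth.Agent.Lib.Helper27.StkA

open CategoryTheory CategoryTheory.Limits AlgebraicGeometry Opposite

/-- the closed point of the spectrum of a local ring, as a morphism -/
noncomputable abbrev cl (T : Type u) [CommRing T] [IsLocalRing T] :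
    Spec (CommRingCat.of (IsLocalRing.ResidueField T)) ⟶ Spec (CommRingCat.of T) :=
  Spec.map (CommRingCat.ofHom (IsLocalRing.residue T))

/-- **lifting**: a point of an étale `S`-scheme `V` with values in the residue field of a henselian
local ring `T`, lying over a given `Spec T ⟶ S`, lifts uniquely to a `T`-valued point -/
theorem existsUnique_lift (T : Type u) [CommRing T] [HenselianLocalRing T] {S V : Scheme.{u}}
    (w : Spec (CommRingCat.of T) ⟶ S) (g : V ⟶ S) [Etale g]
    (t : Spec (CommRingCat.of (IsLocalRing.ResidueField T)) ⟶ V)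
    (ht : t ≫ g = cl T ≫ w) :
    ∃! p : Spec (CommRingCat.of T) ⟶ V, p ≫ g = w ∧ cl T ≫ p = t := by
  let π : pullback g w ⟶ Spec (CommRingCat.of T) := pullback.snd g w
  haveI : Etale π := MorphismProperty.pullback_snd _ _ inferInstance
  let t' : Spec (CommRingCat.of (IsLocalRing.ResidueField T)) ⟶ pullback g w :=
    pullback.lift t (cl T) ht
  have ht' : t' ≫ π = cl T := pullback.lift_snd _ _ _
  obtain ⟨σ, ⟨hσ1, hσ2⟩, huniq⟩ := Groth.Agent.Lib.Helper19.HensSectionUnique.main T π t' ht'
  refine ⟨σ ≫ pullback.fst g w, ⟨?_, ?_⟩, ?_⟩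
  · rw [Category.assoc, pullback.condition, ← Category.assoc]
    change (σ ≫ π) ≫ w = w
    rw [hσ1, Category.id_comp]
  · rw [← Category.assoc, hσ2]
    exact pullback.lift_fst _ _ _
  · rintro p' ⟨hp1, hp2⟩
    let σ' : Spec (CommRingCat.of T) ⟶ pullback g w :=
      pullback.lift p' (𝟙 _) (by rw [hp1, Category.id_comp])
    have h1 : σ' ≫ π = 𝟙 _ := pullback.lift_snd _ _ _
    have h2 : cl T ≫ σ' = t' := by
      apply pullback.hom_ext
      · rw [Category.assoc, pullback.lift_fst, pullback.lift_fst, hp2]
      · rw [Category.assoc, pullback.lift_snd, pullback.lift_snd, Category.comp_id]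
    have := huniq σ' ⟨h1, h2⟩
    rw [← this]
    exact (pullback.lift_fst _ _ _).symm

/-- uniqueness of lifts -/
theorem lift_unique (T : Type u) [CommRing T] [HenselianLocalRing T] {S V : Scheme.{u}}
    (g : V ⟶ S) [Etale g] (p p' : Spec (CommRingCat.of T) ⟶ V) (h1 : p ≫ g = p' ≫ g)
    (h2 : cl T ≫ p = cl T ≫ p') : p = p' := by
  obtain ⟨q, -, hq⟩ := existsUnique_lift T (p ≫ g) g (cl T ≫ p) (by rw [Category.assoc])
  rw [hq p ⟨rfl, rfl⟩, hq p' ⟨h1.symm, h2.symm⟩]

end Groth.Agent.Lib.Helper27.StkA
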