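import Mathlib
import Groth.Prelude.Def_Hens2
import Groth.Agent.Lib.Helper27.StkA
import Groth.Agent.Lib.Helper23.EtLocalRing

/-!
# The strict henselization is the étale local ring (part 1: the map from the étale local ring)
-/

set_option autoImplicit false
set_option backward.isDefEq.respectTransparency false
set_option backward.isDefEq.respectTransparency.types false

universe u

namespace Groth.Agent.Lib.Helper27.StkB

open CategoryTheory CategoryTheory.Limits AlgebraicGeometry Opposite
open Groth.Agent.Lib.Helper27.StkA Groth.Agent.Lib.Helper23.EtLocalRing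

variable (S : Scheme.{u}) (s : S) (R : Type u) [CommRing R] [IsLocalRing R]
  [Algebra (S.presheaf.stalk s) R] [IsLocalHom (algebraMap (S.presheaf.stalk s) R)]
  [Hensel.IsStrictHenselization (S.presheaf.stalk s) R]
  [IsSepClosed (IsLocalRing.ResidueField R)]

/-- the geometric point -/
noncomputable abbrev xi : Spec (CommRingCat.of (IsLocalRing.ResidueField R)) ⟶ S :=
  Hens2.geomPt S s R

/-- the strict localization -/
noncomputable abbrev uu : Spec (CommRingCat.of R) ⟶ S := Hens2.specOf S s R

include S s in
theorem hens : HenselianLocalRing R :=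
  Hensel.IsStrictHenselization.henselian (R := ↑(S.presheaf.stalk s))

lemma xi_eq : xi S s R = cl R ≫ uu S s R := rfl

/-- the point of an étale neighbourhood, as a morphism of schemes -/
noncomputable abbrev ptL (T : S.Etale) (t : (Scheme.pointSmallEtale (xi S s R)).fiber.obj T) :
    Spec (CommRingCat.of (IsLocalRing.ResidueField R)) ⟶ T.left := t.left

lemma ptL_hom (T : S.Etale) (t : (Scheme.pointSmallEtale (xi S s R)).fiber.obj T) :
    ptL S s R T t ≫ T.hom = xi S s R := Over.w t

instance (T : S.Etale) : Etale T.hom := T.prop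

lemma liftR_exists (T : S.Etale) (t : (Scheme.pointSmallEtale (xi S s R)).fiber.obj T) :
    ∃! p : Spec (CommRingCat.of R) ⟶ T.left, p ≫ T.hom = uu S s R ∧ cl R ≫ p = ptL S s R T t :=
  @existsUnique_lift R _ (hens S s R) _ _ (uu S s R) T.hom _ (ptL S s R T t) (ptL_hom S s R T t)

/-- the canonical lift of the strict localization to an étale neighbourhood -/
noncomputable def liftR (T : S.Etale) (t : (Scheme.pointSmallEtale (xi S s R)).fiber.obj T) :
    Spec (CommRingCat.of R) ⟶ T.left := (liftR_exists S s R T t).exists.choose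

lemma liftR_hom (T : S.Etale) (t : (Scheme.pointSmallEtale (xi S s R)).fiber.obj T) :
    liftR S s R T t ≫ T.hom = uu S s R := (liftR_exists S s R T t).exists.choose_spec.1

lemma cl_liftR (T : S.Etale) (t : (Scheme.pointSmallEtale (xi S s R)).fiber.obj T) :
    cl R ≫ liftR S s R T t = ptL S s R T t := (liftR_exists S s R T t).exists.choose_spec.2

lemma liftR_unique (T : S.Etale) (t : (Scheme.pointSmallEtale (xi S s R)).fiber.obj T)
    (p : Spec (CommRingCat.of R) ⟶ T.left) (h1 : p ≫ T.hom = uu S s R)
    (h2 : cl R ≫ p = ptL S s R T t) : p = liftR S s R T t :=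
  (liftR_exists S s R T t).unique ⟨h1, h2⟩ ⟨liftR_hom S s R T t, cl_liftR S s R T t⟩

lemma liftR_map {T T' : S.Etale} (k : T ⟶ T')
    (t : (Scheme.pointSmallEtale (xi S s R)).fiber.obj T) :
    liftR S s R T t ≫ k.left =
      liftR S s R T' ((Scheme.pointSmallEtale (xi S s R)).fiber.map k t) := by
  apply liftR_unique
  · rw [Category.assoc]
    have : k.left ≫ T'.hom = T.hom := Over.w k.hom
    rw [this, liftR_hom]
  · rw [← Category.assoc, cl_liftR]
    rfl

/-- the components of the map from the étale local ring to `R` -/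
noncomputable def phiC (T : S.Etale) (t : (Scheme.pointSmallEtale (xi S s R)).fiber.obj T) :
    (EtBase.OO S).obj (op T) ⟶ CommRingCat.of R :=
  (liftR S s R T t).appTop ≫ (Scheme.ΓSpecIso (CommRingCat.of R)).hom

lemma phiC_w {T T' : S.Etale} (k : T ⟶ T')
    (t : (Scheme.pointSmallEtale (xi S s R)).fiber.obj T) :
    (EtBase.OO S).map k.op ≫ phiC S s R T t =
      phiC S s R T' ((Scheme.pointSmallEtale (xi S s R)).fiber.map k t) := by
  unfold phiC
  rw [← liftR_map, ← Category.assoc]
  congr 1

/-- the map from the étale local ring to the strict henselization -/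
noncomputable def phi : EtBase.etaleLocalRing (xi S s R) ⟶ CommRingCat.of R :=
  (Scheme.pointSmallEtale (xi S s R)).presheafFiberDesc (phiC S s R)
    (fun _ _ k t => phiC_w S s R k t)

@[reassoc]
lemma germ_phi (T : S.Etale) (t : (Scheme.pointSmallEtale (xi S s R)).fiber.obj T) :
    germ (xi S s R) T t ≫ phi S s R = phiC S s R T t :=
  (Scheme.pointSmallEtale (xi S s R)).toPresheafFiber_presheafFiberDesc _ _ T t

/-- `phi` is compatible with evaluation at the geometric point -/
lemma phi_residue :
    phi S s R ≫ CommRingCat.ofHom (IsLocalRing.residue R) = ev (xi S s R) := by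
  apply (Scheme.pointSmallEtale (xi S s R)).presheafFiber_hom_ext
  intro T t
  change germ (xi S s R) T t ≫ _ = germ (xi S s R) T t ≫ _
  rw [germ_phi_assoc, germ_ev]
  unfold phiC evAt
  have h := cl_liftR S s R T t
  change _ = (ptL S s R T t).appTop ≫ _
  rw [← h, Scheme.Hom.comp_appTop, Category.assoc, Category.assoc]
  congr 1
  exact (Scheme.ΓSpecIso_naturality (CommRingCat.ofHom (IsLocalRing.residue R))).symm

lemma residue_phi (x : EtBase.etaleLocalRing (xi S s R)) :
    IsLocalRing.residue R (phi S s R x) = ev (xi S s R) x :=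
  congrArg (fun f : EtBase.etaleLocalRing (xi S s R) ⟶
    CommRingCat.of (IsLocalRing.ResidueField R) => f.hom x) (phi_residue S s R)

end Groth.Agent.Lib.Helper27.StkB
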