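import Mathlib
import Groth.Prelude.Def_Hens2
import Groth.Agent.Lib.Helper27.StkB

/-!
# The strict henselization is the étale local ring (part 2: the canonical morphism
`Spec (etaleLocalRing ξ) ⟶ X`)
-/

set_option autoImplicit false
set_option backward.isDefEq.respectTransparency false
set_option backward.isDefEq.respectTransparency.types false

universe u

namespace Groth.Agent.Lib.Helper27.StkB

open CategoryTheory CategoryTheory.Limits AlgebraicGeometry Opposite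
open Groth.Agent.Lib.Helper27.StkA Groth.Agent.Lib.Helper23.EtLocalRing

section General

variable {X : Scheme.{u}} {Ω : Type u} [Field Ω] [IsSepClosed Ω] (ξ : Spec (CommRingCat.of Ω) ⟶ X)

/-- affine refinements of étale neighbourhoods, with the refining morphism -/
lemma exists_affine' (U : X.Etale) (u : (Scheme.pointSmallEtale ξ).fiber.obj U) :
    ∃ (R : CommRingCat.{u}) (h : Spec R ⟶ X) (_ : Etale h) (θ : R ⟶ CommRingCat.of Ω)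
      (hθ : Spec.map θ ≫ h = ξ) (k : nb R h ⟶ U),
      (Scheme.pointSmallEtale ξ).fiber.map k (pt ξ R h θ hθ) = u := by
  haveI : Etale U.hom := U.prop
  obtain ⟨R, j, _, hj, _⟩ := Scheme.exists_affine_mem_range_and_range_subset
    (x := (u.left : Spec (CommRingCat.of Ω) ⟶ U.left) (default : Spec (CommRingCat.of Ω)))
    (U := (⊤ : U.left.Opens)) (by simp)
  have hrange : Set.range (u.left : Spec (CommRingCat.of Ω) ⟶ U.left) ⊆ Set.range j := by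
    rintro _ ⟨a, rfl⟩
    have ha : a = (default : Spec (CommRingCat.of Ω)) :=
      @Subsingleton.elim (Spec (CommRingCat.of Ω)) inferInstance a default
    rw [ha]
    exact hj
  let u' : Spec (CommRingCat.of Ω) ⟶ Spec R := IsOpenImmersion.lift j u.left hrange
  have hu' : u' ≫ j = u.left := IsOpenImmersion.lift_fac j u.left hrange
  let θ : R ⟶ CommRingCat.of Ω := Spec.preimage u'
  have hθ0 : Spec.map θ = u' := Spec.map_preimage _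
  have hθ : Spec.map θ ≫ j ≫ U.hom = ξ := by
    rw [hθ0, ← Category.assoc, hu']
    exact Over.w u
  refine ⟨R, j ≫ U.hom, inferInstance, θ, hθ, MorphismProperty.Over.homMk j rfl trivial, ?_⟩
  apply Over.OverMorphism.ext
  change Spec.map θ ≫ j = u.left
  rw [hθ0, hu']

/-- the germ maps of two affine neighbourhoods related by a morphism -/
lemma γ_of_hom (R₁ : CommRingCat.{u}) (h₁ : Spec R₁ ⟶ X) [Etale h₁] (θ₁ : R₁ ⟶ CommRingCat.of Ω)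
    (hθ₁ : Spec.map θ₁ ≫ h₁ = ξ) (R₃ : CommRingCat.{u}) (h₃ : Spec R₃ ⟶ X) [Etale h₃]
    (θ₃ : R₃ ⟶ CommRingCat.of Ω) (hθ₃ : Spec.map θ₃ ≫ h₃ = ξ) (k : nb R₃ h₃ ⟶ nb R₁ h₁)
    (hk : (Scheme.pointSmallEtale ξ).fiber.map k (pt ξ R₃ h₃ θ₃ hθ₃) = pt ξ R₁ h₁ θ₁ hθ₁)
    (φ : R₁ ⟶ R₃) (hφ : Spec.map φ = (k.left : Spec R₃ ⟶ Spec R₁)) :
    γ ξ R₁ h₁ θ₁ hθ₁ = φ ≫ γ ξ R₃ h₃ θ₃ hθ₃ := by
  have e1 : germ ξ (nb R₁ h₁) (pt ξ R₁ h₁ θ₁ hθ₁) =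
      (EtBase.OO X).map k.op ≫ germ ξ (nb R₃ h₃) (pt ξ R₃ h₃ θ₃ hθ₃) := by
    rw [← hk]
    exact ((Scheme.pointSmallEtale ξ).toPresheafFiber_w k (pt ξ R₃ h₃ θ₃ hθ₃)
      (EtBase.OO X)).symm
  dsimp only [γ]
  rw [e1]
  change (Scheme.ΓSpecIso R₁).inv ≫ (k.left : Spec R₃ ⟶ Spec R₁).appTop ≫ _ = _
  rw [← hφ, Scheme.ΓSpecIso_inv_naturality_assoc]

lemma specγ_hom_of_hom (R₁ : CommRingCat.{u}) (h₁ : Spec R₁ ⟶ X) [Etale h₁]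
    (θ₁ : R₁ ⟶ CommRingCat.of Ω)
    (hθ₁ : Spec.map θ₁ ≫ h₁ = ξ) (R₃ : CommRingCat.{u}) (h₃ : Spec R₃ ⟶ X) [Etale h₃]
    (θ₃ : R₃ ⟶ CommRingCat.of Ω) (hθ₃ : Spec.map θ₃ ≫ h₃ = ξ) (k : nb R₃ h₃ ⟶ nb R₁ h₁)
    (hk : (Scheme.pointSmallEtale ξ).fiber.map k (pt ξ R₃ h₃ θ₃ hθ₃) = pt ξ R₁ h₁ θ₁ hθ₁) :
    Spec.map (γ ξ R₁ h₁ θ₁ hθ₁) ≫ h₁ = Spec.map (γ ξ R₃ h₃ θ₃ hθ₃) ≫ h₃ := by
  rw [γ_of_hom ξ R₁ h₁ θ₁ hθ₁ R₃ h₃ θ₃ hθ₃ k hk (Spec.preimage (k.left : Spec R₃ ⟶ Spec R₁))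
    (Spec.map_preimage _), Spec.map_comp, Category.assoc, Spec.map_preimage]
  congr 1
  exact Over.w k.hom

/-- the morphism `Spec (etaleLocalRing ξ) ⟶ X` does not depend on the affine neighbourhood -/
lemma specγ_hom_indep (R₁ : CommRingCat.{u}) (h₁ : Spec R₁ ⟶ X) [Etale h₁]
    (θ₁ : R₁ ⟶ CommRingCat.of Ω)
    (hθ₁ : Spec.map θ₁ ≫ h₁ = ξ) (R₀ : CommRingCat.{u}) (h₀ : Spec R₀ ⟶ X) [Etale h₀]
    (θ₀ : R₀ ⟶ CommRingCat.of Ω) (hθ₀ : Spec.map θ₀ ≫ h₀ = ξ) :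
    Spec.map (γ ξ R₁ h₁ θ₁ hθ₁) ≫ h₁ = Spec.map (γ ξ R₀ h₀ θ₀ hθ₀) ≫ h₀ := by
  let e₁ : (Scheme.pointSmallEtale ξ).fiber.Elements := ⟨nb R₁ h₁, pt ξ R₁ h₁ θ₁ hθ₁⟩
  let e₀ : (Scheme.pointSmallEtale ξ).fiber.Elements := ⟨nb R₀ h₀, pt ξ R₀ h₀ θ₀ hθ₀⟩
  let e₂ := IsCofiltered.min e₁ e₀
  let a₁ : e₂ ⟶ e₁ := IsCofiltered.minToLeft e₁ e₀
  let a₀ : e₂ ⟶ e₀ := IsCofiltered.minToRight e₁ e₀
  obtain ⟨R₃, h₃, _, θ₃, hθ₃, k, hk⟩ := exists_affine' ξ e₂.1 e₂.2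
  have hk₁ : (Scheme.pointSmallEtale ξ).fiber.map (k ≫ a₁.1) (pt ξ R₃ h₃ θ₃ hθ₃) =
      pt ξ R₁ h₁ θ₁ hθ₁ := by
    rw [Functor.map_comp_apply, hk]
    exact a₁.2
  have hk₀ : (Scheme.pointSmallEtale ξ).fiber.map (k ≫ a₀.1) (pt ξ R₃ h₃ θ₃ hθ₃) =
      pt ξ R₀ h₀ θ₀ hθ₀ := by
    rw [Functor.map_comp_apply, hk]
    exact a₀.2
  rw [specγ_hom_of_hom ξ R₁ h₁ θ₁ hθ₁ R₃ h₃ θ₃ hθ₃ (k ≫ a₁.1) hk₁,
    specγ_hom_of_hom ξ R₀ h₀ θ₀ hθ₀ R₃ h₃ θ₃ hθ₃ (k ≫ a₀.1) hk₀]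

/-- the canonical point of `top X` -/
noncomputable def pt0 : (Scheme.pointSmallEtale ξ).fiber.obj (EtCoh.top X) :=
  Over.homMk ξ (Category.comp_id ξ)

/-- affine étale neighbourhoods of the geometric point -/
structure AffNb where
  R : CommRingCat.{u}
  h : Spec R ⟶ X
  et : Etale h
  θ : R ⟶ CommRingCat.of Ω
  hθ : Spec.map θ ≫ h = ξ

instance : Nonempty (AffNb ξ) := by
  obtain ⟨R₁, h₁, e, θ₁, hθ₁, -, -⟩ := exists_affine' ξ (EtCoh.top X) (pt0 ξ)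
  exact ⟨⟨R₁, h₁, e, θ₁, hθ₁⟩⟩

/-- the germ map of an affine neighbourhood -/
noncomputable def AffNb.γ (N : AffNb ξ) : N.R ⟶ EtBase.etaleLocalRing ξ :=
  @Groth.Agent.Lib.Helper23.EtLocalRing.γ _ _ _ _ ξ N.R N.h N.et N.θ N.hθ

/-- the canonical morphism from the spectrum of the étale local ring -/
noncomputable def uLoc : Spec (EtBase.etaleLocalRing ξ) ⟶ X :=
  Spec.map (Classical.arbitrary (AffNb ξ)).γ ≫ (Classical.arbitrary (AffNb ξ)).h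

lemma specγ_hom (R₁ : CommRingCat.{u}) (h₁ : Spec R₁ ⟶ X) [Etale h₁]
    (θ₁ : R₁ ⟶ CommRingCat.of Ω) (hθ₁ : Spec.map θ₁ ≫ h₁ = ξ) :
    Spec.map (γ ξ R₁ h₁ θ₁ hθ₁) ≫ h₁ = uLoc ξ := by
  unfold uLoc AffNb.γ
  haveI := (Classical.arbitrary (AffNb ξ)).et
  exact specγ_hom_indep ξ R₁ h₁ θ₁ hθ₁ _ _ _ _

/-- the geometric point factors through `uLoc` via evaluation -/
lemma specEv_uLoc : Spec.map (ev ξ) ≫ uLoc ξ = ξ := by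
  obtain ⟨R₁, h₁, _, θ₁, hθ₁, -, -⟩ := exists_affine' ξ (EtCoh.top X) (pt0 ξ)
  rw [← specγ_hom ξ R₁ h₁ θ₁ hθ₁, ← Category.assoc, ← Spec.map_comp, γ_ev, hθ₁]

end General

end Groth.Agent.Lib.Helper27.StkB
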