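import Mathlib
import Groth.Prelude.Def_Hens2
import Groth.Agent.Lib.Helper27.StkB2

/-!
# The strict henselization is the étale local ring (part 3: the structure map from the Zariski
local ring)
-/

set_option autoImplicit false
set_option backward.isDefEq.respectTransparency false
set_option backward.isDefEq.respectTransparency.types false

universe u

namespace Groth.Agent.Lib.Helper27.StkB

open CategoryTheory CategoryTheory.Limits AlgebraicGeometry Opposite
open Groth.Agent.Lib.Helper27.StkA Groth.Agent.Lib.Helper23.EtLocalRing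

variable (S : Scheme.{u}) (s : S) (R : Type u) [CommRing R] [IsLocalRing R]
  [Algebra (S.presheaf.stalk s) R] [IsLocalHom (algebraMap (S.presheaf.stalk s) R)]
  [Hensel.IsStrictHenselization (S.presheaf.stalk s) R]
  [IsSepClosed (IsLocalRing.ResidueField R)]

/-- the étale local ring -/
noncomputable abbrev R' : CommRingCat.{u} := EtBase.etaleLocalRing (xi S s R)

lemma γ_phi (R₁ : CommRingCat.{u}) (h₁ : Spec R₁ ⟶ S) [Etale h₁]
    (θ₁ : R₁ ⟶ CommRingCat.of (IsLocalRing.ResidueField R))
    (hθ₁ : Spec.map θ₁ ≫ h₁ = xi S s R) :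
    Spec.map (γ (xi S s R) R₁ h₁ θ₁ hθ₁ ≫ phi S s R) =
      liftR S s R (nb R₁ h₁) (pt (xi S s R) R₁ h₁ θ₁ hθ₁) := by
  have e : liftR S s R (nb R₁ h₁) (pt (xi S s R) R₁ h₁ θ₁ hθ₁) =
      Spec.map (Spec.preimage (liftR S s R (nb R₁ h₁) (pt (xi S s R) R₁ h₁ θ₁ hθ₁) :
        Spec (CommRingCat.of R) ⟶ Spec R₁)) := (Spec.map_preimage _).symm
  rw [e]
  congr 1
  dsimp only [γ]
  rw [Category.assoc, germ_phi]
  unfold phiC
  change (Scheme.ΓSpecIso R₁).inv ≫
    (liftR S s R (nb R₁ h₁) (pt (xi S s R) R₁ h₁ θ₁ hθ₁) :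
      Spec (CommRingCat.of R) ⟶ Spec R₁).appTop ≫ _ = _
  rw [e, Scheme.ΓSpecIso_naturality, Iso.inv_hom_id_assoc, ← e]

lemma specPhi_uLoc : Spec.map (phi S s R) ≫ uLoc (xi S s R) = uu S s R := by
  obtain ⟨R₁, h₁, _, θ₁, hθ₁, -, -⟩ := exists_affine' (xi S s R) (EtCoh.top S) (pt0 (xi S s R))
  rw [← specγ_hom (xi S s R) R₁ h₁ θ₁ hθ₁, ← Category.assoc, ← Spec.map_comp, γ_phi]
  exact liftR_hom S s R (nb R₁ h₁) _

lemma xi_closedPoint :
    xi S s R (IsLocalRing.closedPoint (IsLocalRing.ResidueField R)) = s := by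
  change (Spec.map (CommRingCat.ofHom (IsLocalRing.residue R)) ≫
    Spec.map (CommRingCat.ofHom (algebraMap (S.presheaf.stalk s) R)) ≫ S.fromSpecStalk s) _ = s
  rw [Scheme.Hom.comp_apply, Scheme.Hom.comp_apply]
  haveI : IsLocalHom (CommRingCat.ofHom (IsLocalRing.residue R)).hom :=
    inferInstanceAs (IsLocalHom (IsLocalRing.residue R))
  haveI : IsLocalHom (CommRingCat.ofHom (algebraMap (S.presheaf.stalk s) R)).hom :=
    inferInstanceAs (IsLocalHom (algebraMap (S.presheaf.stalk s) R))
  erw [Spec_closedPoint, Spec_closedPoint]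
  exact Scheme.fromSpecStalk_closedPoint

lemma uLoc_closedPoint :
    uLoc (xi S s R) (IsLocalRing.closedPoint (R' S s R)) = s := by
  have h := xi_closedPoint S s R
  rw [← specEv_uLoc (xi S s R), Scheme.Hom.comp_apply] at h
  haveI : IsLocalHom (ev (xi S s R)).hom := isLocalHom_ev (xi S s R)
  erw [Spec_closedPoint] at h
  exact h

/-- the structure map from the Zariski local ring to the étale local ring -/
noncomputable def fA : S.presheaf.stalk s ⟶ R' S s R :=
  (S.presheaf.stalkCongr (Inseparable.of_eq (uLoc_closedPoint S s R).symm)).hom ≫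
    Scheme.stalkClosedPointTo (uLoc (xi S s R))

lemma specFA : Spec.map (fA S s R) ≫ S.fromSpecStalk s = uLoc (xi S s R) := by
  unfold fA
  rw [Spec.map_comp, Category.assoc, TopCat.Presheaf.stalkCongr_hom,
    Scheme.SpecMap_stalkSpecializes_fromSpecStalk,
    Scheme.Spec_stalkClosedPointTo_fromSpecStalk]

instance isLocalHom_fA : IsLocalHom (fA S s R).hom := by
  unfold fA
  haveI : IsLocalHom (S.presheaf.stalkCongr
      (Inseparable.of_eq (uLoc_closedPoint S s R).symm)).hom.hom :=
    isLocalHom_of_iso _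
  exact inferInstanceAs (IsLocalHom ((Scheme.stalkClosedPointTo (uLoc (xi S s R))).hom.comp
    (S.presheaf.stalkCongr (Inseparable.of_eq (uLoc_closedPoint S s R).symm)).hom.hom))

/-- `phi ∘ fA` is the structure map of the strict henselization -/
lemma fA_phi : fA S s R ≫ phi S s R =
    CommRingCat.ofHom (algebraMap (S.presheaf.stalk s) R) := by
  apply Spec.map_injective
  rw [← cancel_mono (S.fromSpecStalk s), Spec.map_comp, Category.assoc, specFA, specPhi_uLoc]

lemma phi_fA (a : S.presheaf.stalk s) :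
    phi S s R (fA S s R a) = algebraMap (S.presheaf.stalk s) R a :=
  congrArg (fun g : S.presheaf.stalk s ⟶ CommRingCat.of R => g.hom a) (fA_phi S s R)

lemma ev_fA (a : S.presheaf.stalk s) :
    ev (xi S s R) (fA S s R a) = IsLocalRing.residue R (algebraMap (S.presheaf.stalk s) R a) := by
  rw [← residue_phi, phi_fA]

end Groth.Agent.Lib.Helper27.StkB
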