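import Mathlib
import Groth.Prelude.Def_Hens2
import Groth.Agent.Lib.Helper27.StkB3

/-!
# The strict henselization is the étale local ring (part 4: the isomorphism)
-/

set_option autoImplicit false
set_option backward.isDefEq.respectTransparency false
set_option backward.isDefEq.respectTransparency.types false

universe u

namespace Groth.Agent.Lib.Helper27.StkB

open CategoryTheory CategoryTheory.Limits AlgebraicGeometry Opposite
open Groth.Agent.Lib.Helper27.StkA Groth.Agent.Lib.Helper23.EtLocalRing

variable (S : Scheme.{u}) (s : S) (R : Type u) [CommRing R] [IsLocalRing R]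
  [Algebra (S.presheaf.stalk s) R] [IsLocalHom (algebraMap (S.presheaf.stalk s) R)]
  [Hensel.IsStrictHenselization (S.presheaf.stalk s) R]
  [IsSepClosed (IsLocalRing.ResidueField R)]

open Polynomial in
lemma ev_surjective : Function.Surjective (ev (xi S s R)) := by
  intro α
  haveI : IsSepClosure (IsLocalRing.ResidueField (S.presheaf.stalk s))
      (IsLocalRing.ResidueField R) := Hensel.IsStrictHenselization.isSepClosure
  haveI : Algebra.IsSeparable (IsLocalRing.ResidueField (S.presheaf.stalk s))
      (IsLocalRing.ResidueField R) := IsSepClosure.separable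
  have hsep : (minpoly (IsLocalRing.ResidueField (S.presheaf.stalk s)) α).Separable :=
    Algebra.IsSeparable.isSeparable _ α
  have hint : IsIntegral (IsLocalRing.ResidueField (S.presheaf.stalk s)) α :=
    Algebra.IsSeparable.isIntegral _ α
  obtain ⟨F, hF, -, hmon⟩ := Polynomial.lifts_and_natDegree_eq_and_monic
    (p := minpoly (IsLocalRing.ResidueField (S.presheaf.stalk s)) α)
    (f := IsLocalRing.residue (S.presheaf.stalk s))
    ((Polynomial.mem_lifts _).2 (Polynomial.map_surjective _ IsLocalRing.residue_surjective _))
    (minpoly.monic hint)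
  have hcomp : (ev (xi S s R)).hom.comp (fA S s R).hom =
      (algebraMap (IsLocalRing.ResidueField (S.presheaf.stalk s))
        (IsLocalRing.ResidueField R)).comp (IsLocalRing.residue (S.presheaf.stalk s)) := by
    ext a
    exact ev_fA S s R a
  have hG : ((F.map (fA S s R).hom).map (ev (xi S s R)).hom) =
      (minpoly (IsLocalRing.ResidueField (S.presheaf.stalk s)) α).map
        (algebraMap (IsLocalRing.ResidueField (S.presheaf.stalk s))
          (IsLocalRing.ResidueField R)) := by
    rw [Polynomial.map_map, hcomp, ← Polynomial.map_map, hF]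
  obtain ⟨a, -, ha⟩ := exists_root (xi S s R) (F.map (fA S s R).hom) (hmon.map _) α
    (by rw [hG, Polynomial.eval_map_algebraMap, minpoly.aeval])
    (by
      rw [hG, Polynomial.derivative_map, Polynomial.eval_map_algebraMap]
      exact hsep.aeval_derivative_ne_zero (minpoly.aeval _ α))
  exact ⟨a, ha⟩

/-- evaluation on the residue field of the étale local ring -/
noncomputable def evb : IsLocalRing.ResidueField (R' S s R) →+* IsLocalRing.ResidueField R :=
  IsLocalRing.ResidueField.lift (ev (xi S s R)).hom

lemma evb_residue (x : R' S s R) : evb S s R (IsLocalRing.residue _ x) = ev (xi S s R) x := rfl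

lemma evb_bijective : Function.Bijective (evb S s R) := by
  refine ⟨(evb S s R).injective, fun α => ?_⟩
  obtain ⟨a, ha⟩ := ev_surjective S s R α
  exact ⟨IsLocalRing.residue _ a, ha⟩

/-- the identification of residue fields -/
noncomputable def tau : IsLocalRing.ResidueField R →+* IsLocalRing.ResidueField (R' S s R) :=
  ((RingEquiv.ofBijective (evb S s R) (evb_bijective S s R)).symm :
    IsLocalRing.ResidueField R ≃+* IsLocalRing.ResidueField (R' S s R)).toRingHom

lemma evb_tau (x : IsLocalRing.ResidueField R) : evb S s R (tau S s R x) = x :=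
  (RingEquiv.ofBijective (evb S s R) (evb_bijective S s R)).apply_symm_apply x

lemma tau_compat :
    (tau S s R).comp (IsLocalRing.ResidueField.map (algebraMap (S.presheaf.stalk s) R)) =
      IsLocalRing.ResidueField.map (fA S s R).hom := by
  apply Ideal.Quotient.ringHom_ext
  ext a
  apply (evb S s R).injective
  change evb S s R (tau S s R _) = evb S s R (IsLocalRing.residue _ (fA S s R a))
  rw [evb_tau, evb_residue, ev_fA]
  rfl

lemma psi_exists : ∃! g : R →+* R' S s R, g.comp (algebraMap (S.presheaf.stalk s) R) =
    (fA S s R).hom ∧ ∀ x : R, IsLocalRing.residue _ (g x) = tau S s R (IsLocalRing.residue R x) :=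
  Hensel.IsStrictHenselization.universal (R := S.presheaf.stalk s) (S := R) (R' S s R)
    (fA S s R).hom (tau S s R) (tau_compat S s R)

/-- the map from the strict henselization to the étale local ring -/
noncomputable def psi : R →+* R' S s R := (psi_exists S s R).exists.choose

lemma psi_alg : (psi S s R).comp (algebraMap (S.presheaf.stalk s) R) = (fA S s R).hom :=
  (psi_exists S s R).exists.choose_spec.1

lemma residue_psi (x : R) :
    IsLocalRing.residue _ (psi S s R x) = tau S s R (IsLocalRing.residue R x) :=
  (psi_exists S s R).exists.choose_spec.2 x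

lemma ev_psi (x : R) : ev (xi S s R) (psi S s R x) = IsLocalRing.residue R x := by
  rw [← evb_residue, residue_psi, evb_tau]

lemma phi_psi : (phi S s R).hom.comp (psi S s R) = RingHom.id R := by
  have := hens S s R
  have hu := Hensel.IsStrictHenselization.universal (R := S.presheaf.stalk s) (S := R) R
    (algebraMap (S.presheaf.stalk s) R) (RingHom.id _) (RingHom.id_comp _)
  refine hu.unique ⟨?_, fun x => ?_⟩ ⟨RingHom.id_comp _, fun x => rfl⟩
  · rw [RingHom.comp_assoc, psi_alg]
    ext a
    exact phi_fA S s R a
  · change IsLocalRing.residue R (phi S s R (psi S s R x)) = _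
    rw [residue_phi, ev_psi]
    rfl

lemma residue_psi_phi (x : R' S s R) :
    IsLocalRing.residue _ (psi S s R (phi S s R x)) = IsLocalRing.residue _ x := by
  apply (evb S s R).injective
  rw [evb_residue, evb_residue, ev_psi, residue_phi]

lemma specPsi_uu : Spec.map (CommRingCat.ofHom (psi S s R)) ≫ uu S s R = uLoc (xi S s R) := by
  change Spec.map (CommRingCat.ofHom (psi S s R)) ≫
    Spec.map (CommRingCat.ofHom (algebraMap (S.presheaf.stalk s) R)) ≫ S.fromSpecStalk s = _
  rw [← Category.assoc, ← Spec.map_comp, ← CommRingCat.ofHom_comp, psi_alg]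
  exact specFA S s R

lemma γ_phi_psi (R₁ : CommRingCat.{u}) (h₁ : Spec R₁ ⟶ S) [Etale h₁]
    (θ₁ : R₁ ⟶ CommRingCat.of (IsLocalRing.ResidueField R))
    (hθ₁ : Spec.map θ₁ ≫ h₁ = xi S s R) :
    γ (xi S s R) R₁ h₁ θ₁ hθ₁ ≫ phi S s R ≫ CommRingCat.ofHom (psi S s R) =
      γ (xi S s R) R₁ h₁ θ₁ hθ₁ := by
  apply Spec.map_injective
  apply lift_unique (R' S s R) h₁
  · rw [Spec.map_comp, Spec.map_comp, Category.assoc, Category.assoc, specγ_hom,
      specPhi_uLoc, specPsi_uu]
  · rw [← Spec.map_comp, ← Spec.map_comp]
    congr 1
    ext x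
    exact residue_psi_phi S s R (γ (xi S s R) R₁ h₁ θ₁ hθ₁ x)

lemma phi_psi' : phi S s R ≫ CommRingCat.ofHom (psi S s R) = 𝟙 _ := by
  apply (Scheme.pointSmallEtale (xi S s R)).presheafFiber_hom_ext
  intro T t
  change germ (xi S s R) T t ≫ _ = germ (xi S s R) T t ≫ _
  obtain ⟨R₁, h₁, _, θ₁, hθ₁, ψ', hψ'⟩ := exists_affine (xi S s R) T t
  rw [hψ', Category.assoc, γ_phi_psi, Category.comp_id]

/-- **the étale local ring at the geometric point over `s` is the strict henselization** -/
noncomputable def phiIso : R' S s R ≅ CommRingCat.of R where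
  hom := phi S s R
  inv := CommRingCat.ofHom (psi S s R)
  hom_inv_id := phi_psi' S s R
  inv_hom_id := by
    rw [← CommRingCat.ofHom_hom (phi S s R), ← CommRingCat.ofHom_comp, phi_psi S s R]
    rfl

end Groth.Agent.Lib.Helper27.StkB
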