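import Mathlib
import Groth.Prelude.Def_Hens2
import Groth.Agent.Lib.Helper27.StkB2

/-!
# A directed system of affine étale neighbourhoods of a geometric point
-/

set_option autoImplicit false
set_option backward.isDefEq.respectTransparency false
set_option backward.isDefEq.respectTransparency.types false

universe u

namespace Groth.Agent.Lib.Helper27.StkC

open CategoryTheory CategoryTheory.Limits AlgebraicGeometry Opposite
open Groth.Agent.Lib.Helper27.StkB Groth.Agent.Lib.Helper23.EtLocalRing

section Precomp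

variable {C : Type*} [Category C] {D : Type*} [Category D] (F : C ⥤ D) (G : D ⥤ Type u)

instance [F.Faithful] : (Functor.Elements.precomp F G).Faithful where
  map_injective {x y} f g h := by
    apply Subtype.ext
    apply F.map_injective
    exact congrArg Subtype.val h

instance [F.Full] [F.Faithful] : (Functor.Elements.precomp F G).Full where
  map_surjective {x y} g := by
    refine ⟨⟨F.preimage g.1, ?_⟩, ?_⟩
    · change G.map (F.map (F.preimage g.1)) x.2 = y.2
      rw [F.map_preimage]
      exact g.2
    · apply Subtype.ext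
      exact F.map_preimage g.1

end Precomp

variable {X : Scheme.{u}} {Ω : Type u} [Field Ω] [IsSepClosed Ω] (ξ : Spec (CommRingCat.of Ω) ⟶ X)

theorem exists_index :
    ∃ (α : Type u) (_ : PartialOrder α) (_ : IsDirected α (· ≤ ·)) (_ : Nonempty α)
      (N : αᵒᵖ ⥤ (Scheme.pointSmallEtale ξ).fiber.Elements), N.Initial ∧
        ∀ a, IsAffine (N.obj a).1.left := by
  let P := Functor.Elements.precomp (Scheme.AffineEtale.Spec X) (Scheme.pointSmallEtale ξ).fiber
  have hw : ∀ d : (Scheme.pointSmallEtale ξ).fiber.Elements, ∃ c, Nonempty (P.obj c ⟶ d) := by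
    rintro ⟨U, u⟩
    obtain ⟨R, h, _, θ, hθ, k, hk⟩ := exists_affine' ξ U u
    exact ⟨Functor.elementsMk _ (Scheme.AffineEtale.mk h) (pt ξ R h θ hθ), ⟨⟨k, hk⟩⟩⟩
  haveI : IsCofiltered ((Scheme.AffineEtale.Spec X) ⋙ (Scheme.pointSmallEtale ξ).fiber).Elements :=
    IsCofiltered.of_exists_of_isCofiltered_of_fullyFaithful P hw
  haveI : P.Initial := Functor.initial_of_exists_of_isCofiltered_of_fullyFaithful P hw
  let E₀ := ((Scheme.AffineEtale.Spec X) ⋙ (Scheme.pointSmallEtale ξ).fiber).Elements
  let e : SmallModel.{u} E₀ ≌ E₀ := (equivSmallModel.{u} E₀).symm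
  haveI : IsCofiltered (SmallModel.{u} E₀) := IsCofiltered.of_equivalence e.symm
  obtain ⟨α, i1, i2, i3, G, hG⟩ := IsFiltered.exists_directed (SmallModel.{u} E₀)ᵒᵖ
  refine ⟨α, i1, i2, i3, G.leftOp ⋙ e.functor ⋙ P, inferInstance, fun a => ?_⟩
  change IsAffine (Spec _)
  infer_instance

end Groth.Agent.Lib.Helper27.StkC
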