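import Mathlib
import Groth.Prelude.Def_Hens2
import Groth.Agent.Lib.Helper27.StkB4
import Groth.Agent.Lib.Helper27.StkC

/-!
# The strict localization is the limit of the affine étale neighbourhoods
-/

set_option autoImplicit false
set_option backward.isDefEq.respectTransparency false
set_option backward.isDefEq.respectTransparency.types false

universe u

namespace Groth.Agent.Lib.Helper27.StkC

open CategoryTheory CategoryTheory.Limits AlgebraicGeometry Opposite
open Groth.Agent.Lib.Helper27.StkA Groth.Agent.Lib.Helper27.StkB Groth.Agent.Lib.Helper23.EtLocalRing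

variable (S : Scheme.{u}) (s : S) (R : Type u) [CommRing R] [IsLocalRing R]
  [Algebra (S.presheaf.stalk s) R] [IsLocalHom (algebraMap (S.presheaf.stalk s) R)]
  [Hensel.IsStrictHenselization (S.presheaf.stalk s) R]
  [IsSepClosed (IsLocalRing.ResidueField R)]
  {α : Type u} [PartialOrder α] [IsDirected α (· ≤ ·)] [Nonempty α]
  (N : αᵒᵖ ⥤ (Scheme.pointSmallEtale (xi S s R)).fiber.Elements) [N.Initial]

/-- the neighbourhoods -/
abbrev nbV (a : α) : S.Etale := (N.obj (op a)).1

/-- the points of the neighbourhoods -/
abbrev nbP (a : α) : (Scheme.pointSmallEtale (xi S s R)).fiber.obj (nbV S s R N a) :=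
  (N.obj (op a)).2

/-- the transition morphisms -/
abbrev nbT {a b : α} (h : a ≤ b) : nbV S s R N b ⟶ nbV S s R N a := (N.map (homOfLE h).op).1

lemma nbT_pt {a b : α} (h : a ≤ b) :
    (Scheme.pointSmallEtale (xi S s R)).fiber.map (nbT S s R N h) (nbP S s R N b) =
      nbP S s R N a := (N.map (homOfLE h).op).2

/-- the lifts of the strict localization to the neighbourhoods -/
noncomputable abbrev nbL (a : α) : Spec (CommRingCat.of R) ⟶ (nbV S s R N a).left :=
  liftR S s R (nbV S s R N a) (nbP S s R N a)

lemma nbL_T {a b : α} (h : a ≤ b) : nbL S s R N b ≫ (nbT S s R N h).left = nbL S s R N a := by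
  rw [liftR_map, nbT_pt]

/-- the universal property of `R` as the colimit of the rings of the neighbourhoods -/
lemma ring_desc {B : CommRingCat.{u}} (ψ : ∀ a : α, (EtBase.OO S).obj (op (nbV S s R N a)) ⟶ B)
    (hψ : ∀ {a b : α} (h : a ≤ b), (EtBase.OO S).map (nbT S s R N h).op ≫ ψ b = ψ a) :
    ∃! g : CommRingCat.of R ⟶ B, ∀ a, phiC S s R (nbV S s R N a) (nbP S s R N a) ≫ g = ψ a := by
  let cc := ((Scheme.pointSmallEtale (xi S s R)).presheafFiberCocone (EtBase.OO S)).whisker N.rightOp
  have hcc : IsColimit cc := (Functor.Final.isColimitWhiskerEquiv N.rightOp _).symm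
    ((Scheme.pointSmallEtale (xi S s R)).isColimitPresheafFiberCocone (EtBase.OO S))
  let cψ : Cocone (N.rightOp ⋙ (CategoryOfElements.π (Scheme.pointSmallEtale (xi S s R)).fiber).op ⋙
      EtBase.OO S) :=
    { pt := B
      ι := { app := fun a => ψ a
             naturality := fun a b f => by
               have h : a ≤ b := leOfHom f
               have hf : f = homOfLE h := Subsingleton.elim _ _
               subst hf
               refine Eq.trans ?_ (Category.comp_id _).symm
               exact hψ h } }
  have hι : ∀ a, cc.ι.app a = germ (xi S s R) (nbV S s R N a) (nbP S s R N a) := fun a => rfl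
  refine ⟨(phiIso S s R).inv ≫ hcc.desc cψ, fun a => ?_, fun g hg => ?_⟩
  · rw [← germ_phi, Category.assoc]
    change _ ≫ (phiIso S s R).hom ≫ (phiIso S s R).inv ≫ _ = _
    rw [Iso.hom_inv_id_assoc, ← hι]
    exact hcc.fac cψ a
  · rw [Iso.eq_inv_comp]
    apply hcc.hom_ext
    intro a
    rw [hcc.fac, hι]
    change _ ≫ phi S s R ≫ g = _
    rw [germ_phi_assoc]
    exact hg a

/-- the diagram of the neighbourhoods -/
noncomputable def Ds : αᵒᵖ ⥤ Scheme.{u} :=
  N ⋙ CategoryOfElements.π _ ⋙ Scheme.Etale.forget S ⋙ Over.forget S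

lemma Ds_obj (a : α) : (Ds S s R N).obj (op a) = (nbV S s R N a).left := rfl

lemma Ds_map {a b : α} (h : a ≤ b) : (Ds S s R N).map (homOfLE h).op = (nbT S s R N h).left := rfl

/-- the cone of the strict localization over the neighbourhoods -/
noncomputable def coneD : Cone (Ds S s R N) where
  pt := Spec (CommRingCat.of R)
  π :=
    { app := fun a => nbL S s R N a.unop
      naturality := fun a b f => by
        have h : b.unop ≤ a.unop := leOfHom f.unop
        have hf : f = (homOfLE h).op := Quiver.Hom.unop_inj (Subsingleton.elim _ _)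
        subst hf
        refine Eq.trans (Category.id_comp _) ?_
        exact (nbL_T S s R N h).symm }

variable (haff : ∀ a : αᵒᵖ, IsAffine (N.obj a).1.left)

include haff in
/-- **the strict localization is the limit of the affine étale neighbourhoods** -/
theorem isLimit_coneD : Nonempty (IsLimit (coneD S s R N)) := by
  have : ∀ a : α, IsAffine (nbV S s R N a).left := fun a => haff (op a)
  have key : ∀ (Z : Scheme.{u}) (σ : ∀ a : α, Z ⟶ (nbV S s R N a).left)
      (hσ : ∀ {a b : α} (h : a ≤ b), σ b ≫ (nbT S s R N h).left = σ a),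
      ∃! l : Z ⟶ Spec (CommRingCat.of R), ∀ a, l ≫ nbL S s R N a = σ a := by
    intro Z σ hσ
    obtain ⟨g, hg, hu⟩ := ring_desc S s R N (B := Γ(Z, ⊤)) (fun a => (σ a).appTop)
      (fun {a b} h => by
        change (nbT S s R N h).left.appTop ≫ (σ b).appTop = (σ a).appTop
        rw [← Scheme.Hom.comp_appTop, hσ h])
    refine ⟨Z.toSpecΓ ≫ Spec.map g, fun a => ?_, fun l hl => ?_⟩
    · apply ext_of_isAffine
      rw [Scheme.Hom.comp_appTop, Scheme.Hom.comp_appTop, ← hg a]
      unfold phiC
      rw [Category.assoc]
      congr 1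
      rw [Scheme.toSpecΓ_appTop, Scheme.ΓSpecIso_naturality]
    · have h1 : l = Z.toSpecΓ ≫ Spec.map ((Scheme.ΓSpecIso (CommRingCat.of R)).inv ≫ l.appTop) := by
        rw [Spec.map_comp, ← Scheme.toSpecΓ_naturality_assoc]
        simp
      rw [h1]
      congr 2
      apply hu
      intro a
      unfold phiC
      rw [Category.assoc, Iso.hom_inv_id_assoc, ← Scheme.Hom.comp_appTop, hl a]
  refine ⟨{ lift := fun t => (key t.pt (fun a => t.π.app (op a)) (fun {a b} h => ?_)).exists.choose
            fac := fun t a => ?_
            uniq := fun t m hm => ?_ }⟩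
  · exact t.w (homOfLE h).op
  · exact (key t.pt (fun a => t.π.app (op a))
      (fun {a b} h => t.w (homOfLE h).op)).exists.choose_spec a.unop
  · exact (key t.pt (fun a => t.π.app (op a)) (fun {a b} h => t.w (homOfLE h).op)).unique
      (fun a => hm (op a))
      (key t.pt (fun a => t.π.app (op a)) (fun {a b} h => t.w (homOfLE h).op)).exists.choose_spec

end Groth.Agent.Lib.Helper27.StkC
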