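import Mathlib
import Groth.Prelude.Def_Hens2
import Groth.Agent.Lib.Helper27.StkC2
import Groth.Agent.Lib.Helper27.EtLimA

/-!
# The base change of the strict localization is the limit of the base changes of the
neighbourhoods
-/

set_option autoImplicit false
set_option backward.isDefEq.respectTransparency false
set_option backward.isDefEq.respectTransparency.types false

universe u

namespace Groth.Agent.Lib.Helper27.StkC

open CategoryTheory CategoryTheory.Limits AlgebraicGeometry Opposite
open Groth.Agent.Lib.Helper27.StkA Groth.Agent.Lib.Helper27.StkB Groth.Agent.Lib.Helper23.EtLocalRing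
open Groth.Agent.Lib.Helper27.EtLimA

variable (S : Scheme.{u}) (s : S) (R : Type u) [CommRing R] [IsLocalRing R]
  [Algebra (S.presheaf.stalk s) R] [IsLocalHom (algebraMap (S.presheaf.stalk s) R)]
  [Hensel.IsStrictHenselization (S.presheaf.stalk s) R]
  [IsSepClosed (IsLocalRing.ResidueField R)]
  {X : Scheme.{u}} (f : X ⟶ S)

/-- the fibre product -/
noncomputable abbrev Xbar : Scheme.{u} := pullback f (uu S s R)

/-- the projection to `X` -/
noncomputable abbrev gX : Xbar S s R f ⟶ X := pullback.fst f (uu S s R)

/-- the canonical morphism from the fibre product to the base change of a neighbourhood -/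
noncomputable def qT (T : S.Etale) (t : (Scheme.pointSmallEtale (xi S s R)).fiber.obj T) :
    Xbar S s R f ⟶ ((EtCoh.bc f).obj T).left :=
  pullback.lift (pullback.snd f (uu S s R) ≫ liftR S s R T t) (pullback.fst f (uu S s R))
    (by rw [Category.assoc, liftR_hom, pullback.condition])

lemma qT_prL (T : S.Etale) (t : (Scheme.pointSmallEtale (xi S s R)).fiber.obj T) :
    qT S s R f T t ≫ prL f T = pullback.snd f (uu S s R) ≫ liftR S s R T t :=
  pullback.lift_fst _ _ _

lemma qT_hom (T : S.Etale) (t : (Scheme.pointSmallEtale (xi S s R)).fiber.obj T) :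
    qT S s R f T t ≫ ((EtCoh.bc f).obj T).hom = gX S s R f :=
  pullback.lift_snd _ _ _

lemma qT_map {T T' : S.Etale} (k : T ⟶ T')
    (t : (Scheme.pointSmallEtale (xi S s R)).fiber.obj T) :
    qT S s R f T t ≫ ((EtCoh.bc f).map k).left =
      qT S s R f T' ((Scheme.pointSmallEtale (xi S s R)).fiber.map k t) := by
  apply sch_ext
  · rw [Category.assoc, bc_map_prL, ← Category.assoc, qT_prL, qT_prL, Category.assoc, liftR_map]
  · rw [Category.assoc, qT_hom]
    have : ((EtCoh.bc f).map k).left ≫ ((EtCoh.bc f).obj T').hom = ((EtCoh.bc f).obj T).hom :=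
      Over.w ((EtCoh.bc f).map k).hom
    rw [this, qT_hom]

variable {α : Type u} [PartialOrder α] [IsDirected α (· ≤ ·)] [Nonempty α]
  (N : αᵒᵖ ⥤ (Scheme.pointSmallEtale (xi S s R)).fiber.Elements) [N.Initial]

/-- the base-changed diagram -/
noncomputable def Xs : αᵒᵖ ⥤ Scheme.{u} :=
  N ⋙ CategoryOfElements.π _ ⋙ EtCoh.bc f ⋙ Scheme.Etale.forget X ⋙ Over.forget X

/-- the base changes of the neighbourhoods -/
noncomputable abbrev nbW (a : α) : X.Etale := (EtCoh.bc f).obj (nbV S s R N a)

lemma Xs_obj (a : α) : (Xs S s R f N).obj (op a) = (nbW S s R f N a).left := rfl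

lemma Xs_map {a b : α} (h : a ≤ b) :
    (Xs S s R f N).map (homOfLE h).op = ((EtCoh.bc f).map (nbT S s R N h)).left := rfl

/-- the morphisms to the fibre product -/
noncomputable abbrev nbQ (a : α) : Xbar S s R f ⟶ (nbW S s R f N a).left :=
  qT S s R f (nbV S s R N a) (nbP S s R N a)

lemma nbQ_T {a b : α} (h : a ≤ b) :
    nbQ S s R f N b ≫ ((EtCoh.bc f).map (nbT S s R N h)).left = nbQ S s R f N a := by
  rw [qT_map, nbT_pt]

/-- the cone of the fibre product over the base-changed neighbourhoods -/
noncomputable def coneX : Cone (Xs S s R f N) where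
  pt := Xbar S s R f
  π :=
    { app := fun a => nbQ S s R f N a.unop
      naturality := fun a b k => by
        have h : b.unop ≤ a.unop := leOfHom k.unop
        have hk : k = (homOfLE h).op := Quiver.Hom.unop_inj (Subsingleton.elim _ _)
        subst hk
        refine Eq.trans (Category.id_comp _) ?_
        exact (nbQ_T S s R f N h).symm }

variable (haff : ∀ a : αᵒᵖ, IsAffine (N.obj a).1.left)

include haff in
/-- **the fibre product is the limit of the base-changed neighbourhoods** -/
theorem isLimit_coneX : Nonempty (IsLimit (coneX S s R f N)) := by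
  obtain ⟨hD⟩ := isLimit_coneD S s R N haff
  have key : ∀ (Z : Scheme.{u}) (σ : ∀ a : α, Z ⟶ (nbW S s R f N a).left)
      (hσ : ∀ {a b : α} (h : a ≤ b), σ b ≫ ((EtCoh.bc f).map (nbT S s R N h)).left = σ a),
      ∃! l : Z ⟶ Xbar S s R f, ∀ a, l ≫ nbQ S s R f N a = σ a := by
    intro Z σ hσ
    let cZ : Cone (Ds S s R N) :=
      { pt := Z
        π := { app := fun a => σ a.unop ≫ prL f (nbV S s R N a.unop)
               naturality := fun a b k => by
                 have h : b.unop ≤ a.unop := leOfHom k.unop
                 have hk : k = (homOfLE h).op := Quiver.Hom.unop_inj (Subsingleton.elim _ _)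
                 subst hk
                 refine Eq.trans (Category.id_comp _) ?_
                 change _ = (σ a.unop ≫ prL f _) ≫ (nbT S s R N h).left
                 rw [Category.assoc, ← bc_map_prL, ← Category.assoc, hσ h] } }
    let L : Z ⟶ Spec (CommRingCat.of R) := hD.lift cZ
    have hL : ∀ a : α, L ≫ nbL S s R N a = σ a ≫ prL f (nbV S s R N a) :=
      fun a => hD.fac cZ (op a)
    let a₀ : α := Classical.arbitrary α
    have hmono : ∀ {a b : α} (h : a ≤ b),
        σ b ≫ (nbW S s R f N b).hom = σ a ≫ (nbW S s R f N a).hom := by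
      intro a b h
      have : ((EtCoh.bc f).map (nbT S s R N h)).left ≫ (nbW S s R f N a).hom =
          (nbW S s R f N b).hom := Over.w ((EtCoh.bc f).map (nbT S s R N h)).hom
      rw [← hσ h, Category.assoc, this]
    have hx : ∀ a : α, σ a ≫ (nbW S s R f N a).hom = σ a₀ ≫ (nbW S s R f N a₀).hom := by
      intro a
      obtain ⟨c, h1, h2⟩ := exists_ge_ge a a₀
      rw [← hmono h1, ← hmono h2]
    have hcond : (σ a₀ ≫ (nbW S s R f N a₀).hom) ≫ f = L ≫ uu S s R := by
      rw [← liftR_hom S s R (nbV S s R N a₀) (nbP S s R N a₀), ← Category.assoc, hL a₀,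
        Category.assoc, Category.assoc, prL_comp]
    refine ⟨pullback.lift _ _ hcond, fun a => ?_, fun m hm => ?_⟩
    · apply sch_ext
      · rw [Category.assoc, qT_prL, pullback.lift_snd_assoc, hL a]
      · rw [Category.assoc, qT_hom, pullback.lift_fst, hx a]
    · apply pullback.hom_ext
      · rw [pullback.lift_fst, ← hm a₀, Category.assoc, qT_hom]
      · rw [pullback.lift_snd]
        apply hD.hom_ext
        intro a
        change (m ≫ _) ≫ nbL S s R N a.unop = L ≫ nbL S s R N a.unop
        rw [hL, ← hm a.unop, Category.assoc, Category.assoc, qT_prL]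
  refine ⟨{ lift := fun t => (key t.pt (fun a => t.π.app (op a)) (fun {a b} h => ?_)).exists.choose
            fac := fun t a => ?_
            uniq := fun t m hm => ?_ }⟩
  · exact t.w (homOfLE h).op
  · exact (key t.pt (fun a => t.π.app (op a))
      (fun {a b} h => t.w (homOfLE h).op)).exists.choose_spec a.unop
  · exact (key t.pt (fun a => t.π.app (op a)) (fun {a b} h => t.w (homOfLE h).op)).unique
      (fun a => hm (op a))
      (key t.pt (fun a => t.π.app (op a)) (fun {a b} h => t.w (homOfLE h).op)).exists.choose_spec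

include haff in
theorem isAffineHom_Xs_map {a b : αᵒᵖ} (k : a ⟶ b) : IsAffineHom ((Xs S s R f N).map k) := by
  haveI := haff a
  haveI := haff b
  have sq := (EtCoh.isPullback_bc_map f (N.map k).1).flip
  have h1 : IsAffineHom (N.map k).1.left :=
    @isAffineHom_of_isAffine (N.obj a).1.left (N.obj b).1.left (N.map k).1.left (haff a) (haff b)
  exact MorphismProperty.of_isPullback (P := @IsAffineHom) sq h1

include haff in
theorem compactSpace_Xs [QuasiCompact f] (a : αᵒᵖ) : CompactSpace ↥((Xs S s R f N).obj a) := by
  haveI := haff a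
  exact QuasiCompact.compactSpace_of_compactSpace (prL f (N.obj a).1)

include haff in
theorem quasiSeparatedSpace_Xs [QuasiSeparated f] (a : αᵒᵖ) :
    QuasiSeparatedSpace ↥((Xs S s R f N).obj a) := by
  haveI := haff a
  exact quasiSeparatedSpace_of_quasiSeparated (prL f (N.obj a).1)

end Groth.Agent.Lib.Helper27.StkC
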