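import Mathlib
import Groth.Prelude.Def_EtBase
import Groth.Agent.Lib.Helper27.BrInj1
import Groth.Agent.Lib.Helper27.EtLimH
import Groth.Agent.Lib.Helper23.EtJCont

/-!
# Evaluating sections of an inverse image at a point of an étale scheme
-/

set_option autoImplicit false
set_option backward.isDefEq.respectTransparency false
set_option backward.isDefEq.respectTransparency.types false

universe u

namespace Groth.Agent.Lib.Helper27.StkE

open CategoryTheory CategoryTheory.Limits AlgebraicGeometry Opposite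
open Groth.Agent.Lib.Helper27.EtLimA Groth.Agent.Lib.Helper27.EtLimB
  Groth.Agent.Lib.Helper27.EtLimC Groth.Agent.Lib.Helper23.FinBC0
  Groth.Agent.Lib.Helper23.EtRestr Groth.Agent.Lib.Helper27.EtLimH

variable {X Z Z' : Scheme.{u}}

/-- the section of the base change of `W` attached to a `Z`-point of `W` -/
noncomputable def sigma (p : Z ⟶ X) (W : X.Etale) (q : Z ⟶ W.left) (hq : q ≫ W.hom = p) :
    EtCoh.top Z ⟶ (EtCoh.bc p).obj W :=
  bcLift p W (EtCoh.top Z) q (by
    rw [hq]
    exact (Category.id_comp p).symm)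

lemma sigma_prL (p : Z ⟶ X) (W : X.Etale) (q : Z ⟶ W.left) (hq : q ≫ W.hom = p) :
    (sigma p W q hq).left ≫ prL p W = q := bcLift_prL _ _ _ _ _

/-- evaluation of sections over `W` at a `Z`-point of `W` -/
noncomputable def evHom (p : Z ⟶ X) (W : X.Etale) (q : Z ⟶ W.left) (hq : q ≫ W.hom = p)
    (F : EtCoh.Ab X) :
    F.obj.obj (op W) ⟶ ((EtCoh.pull p).obj F).obj.obj (op (EtCoh.top Z)) :=
  secMap p (unitG p F) W ≫ ((EtCoh.pull p).obj F).obj.map (sigma p W q hq).op

lemma evHom_apply (p : Z ⟶ X) (W : X.Etale) (q : Z ⟶ W.left) (hq : q ≫ W.hom = p)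
    (F : EtCoh.Ab X) (x : F.obj.obj (op W)) :
    evHom p W q hq F x =
      ((EtCoh.pull p).obj F).obj.map (sigma p W q hq).op (secMap p (unitG p F) W x) := rfl

/-- (E1) naturality in the sheaf -/
lemma evHom_natural (p : Z ⟶ X) (W : X.Etale) (q : Z ⟶ W.left) (hq : q ≫ W.hom = p)
    {F G : EtCoh.Ab X} (φ : F ⟶ G) :
    φ.hom.app (op W) ≫ evHom p W q hq G =
      evHom p W q hq F ≫ ((EtCoh.pull p).map φ).hom.app (op (EtCoh.top Z)) := by
  unfold evHom
  have h1 : φ ≫ unitG p G = unitG p F ≫ (EtCoh.push p).map ((EtCoh.pull p).map φ) :=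
    ((EtCoh.pullPushAdj p).unit.naturality φ)
  rw [← Category.assoc, ← secMap_comp', h1, secMap_comp, Category.assoc, Category.assoc]
  congr 1
  exact (((EtCoh.pull p).map φ).hom.naturality (sigma p W q hq).op).symm

/-- (E2) compatibility with morphisms of étale schemes -/
lemma evHom_map (p : Z ⟶ X) {W' W : X.Etale} (k : W' ⟶ W) (q' : Z ⟶ W'.left)
    (hq' : q' ≫ W'.hom = p) (F : EtCoh.Ab X) :
    F.obj.map k.op ≫ evHom p W' q' hq' F =
      evHom p W (q' ≫ k.left) (by
        have : k.left ≫ W.hom = W'.hom := Over.w k.hom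
        rw [Category.assoc, this, hq']) F := by
  unfold evHom
  rw [← Category.assoc, secMap_naturality, Category.assoc, ← Functor.map_comp, ← op_comp]
  congr 3
  apply bc_hom_ext
  rw [comp_left', Category.assoc, bc_map_prL, ← Category.assoc, sigma_prL, sigma_prL]

lemma bcTopIso_inv_prL (r : Z' ⟶ Z) :
    (EtCore.bcTopIso r).inv.left ≫ prL r (EtCoh.top Z) = r := by
  have h1 : (EtCore.bcTopIso r).inv.left ≫ ((EtCoh.bc r).obj (EtCoh.top Z)).hom = 𝟙 Z' :=
    Over.w (EtCore.bcTopIso r).inv.hom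
  have h2 := prL_comp r (EtCoh.top Z)
  have h3 : prL r (EtCoh.top Z) = ((EtCoh.bc r).obj (EtCoh.top Z)).hom ≫ r :=
    (Category.comp_id (prL r (EtCoh.top Z))).symm.trans h2
  rw [h3, ← Category.assoc, h1]
  exact Category.id_comp r

/-- (T) transitivity of evaluation -/
theorem evHom_trans (p : Z ⟶ X) (r : Z' ⟶ Z) (p' : Z' ⟶ X) (w : r ≫ p = p')
    (F : EtCoh.Ab X) {C : EtCoh.Ab Z'} (δ : (EtCoh.pull p).obj F ⟶ (EtCoh.push r).obj C)
    (W : X.Etale) (q : Z ⟶ W.left) (hq : q ≫ W.hom = p) (x : F.obj.obj (op W)) :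
    C.obj.map (sigma p' W (r ≫ q) (by rw [Category.assoc, hq, w])).op
        (secMap p' (relComp p r p' w (unitG p F) δ) W x) =
      C.obj.map (EtCore.bcTopIso r).inv.op (secMap r δ (EtCoh.top Z) (evHom p W q hq F x)) := by
  have key : sigma p' W (r ≫ q) (by rw [Category.assoc, hq, w]) ≫ (triIso r p p' w).inv.app W =
      (EtCore.bcTopIso r).inv ≫ (EtCoh.bc r).map (sigma p W q hq) := by
    apply bc_hom_ext₂
    rw [comp_left', comp_left', Category.assoc, triIso_inv_prL, sigma_prL, Category.assoc,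
      ← Category.assoc ((EtCoh.bc r).map (sigma p W q hq)).left, bc_map_prL, Category.assoc,
      sigma_prL, ← Category.assoc, bcTopIso_inv_prL]
  rw [evHom_apply, secMap_nat_apply, ← map_comp_apply, relComp_sec, ← key]
  exact (map_comp_apply C _ _ _).symm

end Groth.Agent.Lib.Helper27.StkE
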