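import Mathlib
import Groth.Prelude.Def_EtBase
import Groth.Agent.Lib.Helper27.StkE0

/-!
# Sections of the inverse image along an étale morphism
-/

set_option autoImplicit false
set_option backward.isDefEq.respectTransparency false
set_option backward.isDefEq.respectTransparency.types false

universe u

namespace Groth.Agent.Lib.Helper27.StkE

open CategoryTheory CategoryTheory.Limits AlgebraicGeometry Opposite
open Groth.Agent.Lib.Helper27.EtLimA Groth.Agent.Lib.Helper27.EtLimB
  Groth.Agent.Lib.Helper27.EtLimC Groth.Agent.Lib.Helper23.FinBC0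
  Groth.Agent.Lib.Helper23.EtRestr Groth.Agent.Lib.Helper27.EtLimH
  Groth.Agent.Lib.Helper27.BrInj1

variable {X : Scheme.{u}} (W : X.Etale)

instance : Etale W.hom := W.prop

/-- the structure morphism -/
abbrev jW : W.left ⟶ X := W.hom

/-- the étale sections map -/
noncomputable def es (F : EtCoh.Ab X) :
    F.obj.obj (op W) ⟶ ((EtCoh.pull (jW W)).obj F).obj.obj (op (EtCoh.top W.left)) :=
  evHom (jW W) W (𝟙 W.left) (Category.id_comp _) F

/-- the canonical morphism `(W.left = W.left → X) ⟶ W` -/
noncomputable def kap : (EtShriek.compEtale (jW W)).obj (EtCoh.top W.left) ⟶ W :=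
  MorphismProperty.Over.homMk (𝟙 W.left) (by
    change 𝟙 W.left ≫ W.hom = 𝟙 W.left ≫ W.hom
    rfl) trivial

/-- its inverse -/
noncomputable def kapInv : W ⟶ (EtShriek.compEtale (jW W)).obj (EtCoh.top W.left) :=
  MorphismProperty.Over.homMk (𝟙 W.left) (by
    change 𝟙 W.left ≫ 𝟙 W.left ≫ W.hom = W.hom
    rw [Category.id_comp, Category.id_comp]) trivial

lemma kap_kapInv : kap W ≫ kapInv W = 𝟙 _ := by
  apply MorphismProperty.Over.Hom.ext
  exact Category.id_comp _

lemma kapInv_kap : kapInv W ≫ kap W = 𝟙 _ := by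
  apply MorphismProperty.Over.Hom.ext
  exact Category.id_comp _

lemma unit_kap :
    (adjSite (jW W)).unit.app (EtCoh.top W.left) ≫ (EtCoh.bc (jW W)).map (kap W) =
      sigma (jW W) W (𝟙 W.left) (Category.id_comp _) := by
  apply bc_hom_ext
  rw [comp_left', Category.assoc, bc_map_prL, ← Category.assoc, unit_left_prL, sigma_prL]
  exact Category.id_comp _

lemma es_eq (F : EtCoh.Ab X) :
    es W F = F.obj.map (kap W).op ≫
      ((pullIsoRestr (jW W)).inv.app F).hom.app (op (EtCoh.top W.left)) := by
  have h1 : toPull (jW W) (unitG (jW W) F) = 𝟙 _ := toPull_unitG _ _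
  rw [toPull_eq_restr] at h1
  have h2 : (pullIsoRestr (jW W)).inv.app F =
      ((restrPushAdj (jW W)).homEquiv F _).symm (unitG (jW W) F) := by
    rw [← cancel_epi ((pullIsoRestr (jW W)).hom.app F), Iso.hom_inv_id_app, h1]
  rw [h2, Adjunction.homEquiv_counit]
  change _ = F.obj.map (kap W).op ≫
    (secMap (jW W) (unitG (jW W) F) ((EtShriek.compEtale (jW W)).obj (EtCoh.top W.left)) ≫
      ((EtCoh.pull (jW W)).obj F).obj.map ((adjSite (jW W)).unit.app (EtCoh.top W.left)).op)
  rw [← Category.assoc, secMap_naturality, Category.assoc, ← Functor.map_comp, ← op_comp, unit_kap]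
  rfl

instance isIso_es (F : EtCoh.Ab X) : IsIso (es W F) := by
  rw [es_eq]
  haveI : IsIso (F.obj.map (kap W).op) :=
    ⟨⟨F.obj.map (kapInv W).op, by
      rw [← Functor.map_comp, ← op_comp, kapInv_kap, op_id]; exact F.obj.map_id _, by
      rw [← Functor.map_comp, ← op_comp, kap_kapInv, op_id]; exact F.obj.map_id _⟩⟩
  haveI : IsIso (((pullIsoRestr (jW W)).inv.app F).hom.app (op (EtCoh.top W.left))) :=
    inferInstanceAs (IsIso ((EtCore.gsec W.left).map ((pullIsoRestr (jW W)).inv.app F)))
  infer_instance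

lemma es_bijective (F : EtCoh.Ab X) : Function.Bijective (es W F) :=
  (ConcreteCategory.isIso_iff_bijective (es W F)).1 inferInstance

end Groth.Agent.Lib.Helper27.StkE
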