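import Mathlib
import Groth.Prelude.Def_Hens2
import Groth.Agent.Lib.Helper27.StkD
import Groth.Agent.Lib.Helper27.StkE1
import Groth.Agent.Lib.Helper27.EtLimL2
import Groth.Agent.Lib.Helper27.EtLimJ

/-!
# The stalk of the direct image in degree zero
-/

set_option autoImplicit false
set_option backward.isDefEq.respectTransparency false
set_option backward.isDefEq.respectTransparency.types false

universe u

namespace Groth.Agent.Lib.Helper27.StkC

open CategoryTheory CategoryTheory.Limits AlgebraicGeometry Opposite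
open Groth.Agent.Lib.Helper27.StkA Groth.Agent.Lib.Helper27.StkB Groth.Agent.Lib.Helper27.StkE
open Groth.Agent.Lib.Helper27.EtLimA Groth.Agent.Lib.Helper27.EtLimB
  Groth.Agent.Lib.Helper27.EtLimC Groth.Agent.Lib.Helper27.EtLimD
  Groth.Agent.Lib.Helper27.EtLimH Groth.Agent.Lib.Helper27.EtLimJ
  Groth.Agent.Lib.Helper27.EtLimL Groth.Agent.Lib.Helper23.FinBC0

instance i1 : PreservesFilteredColimitsOfSize.{u,u} (forget AddCommGrpCat.{u+1}) :=
  preservesFilteredColimitsOfSize_shrink.{u, u+1, u, u+1} _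

variable (S : Scheme.{u}) (s : S) (R : Type u) [CommRing R] [IsLocalRing R]
  [Algebra (S.presheaf.stalk s) R] [IsLocalHom (algebraMap (S.presheaf.stalk s) R)]
  [Hensel.IsStrictHenselization (S.presheaf.stalk s) R]
  [IsSepClosed (IsLocalRing.ResidueField R)]
  {X : Scheme.{u}} (f : X ⟶ S)

lemma evHom_congr {X Z : Scheme.{u}} (p : Z ⟶ X) (W : X.Etale) {q q' : Z ⟶ W.left} (h : q = q')
    (hq : q ≫ W.hom = p) (F : EtCoh.Ab X) :
    evHom p W q hq F = evHom p W q' (h ▸ hq) F := by
  subst h
  rfl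

/-- the components of the comparison morphism -/
noncomputable def cmpC (F : EtCoh.Ab X) (T : S.Etale)
    (t : (Scheme.pointSmallEtale (xi S s R)).fiber.obj T) :
    ((EtCoh.push f).obj F).obj.obj (op T) ⟶
      ((EtCoh.pull (gX S s R f)).obj F).obj.obj (op (EtCoh.top (Xbar S s R f))) :=
  evHom (gX S s R f) ((EtCoh.bc f).obj T) (qT S s R f T t) (qT_hom S s R f T t) F

lemma cmpC_w (F : EtCoh.Ab X) {T T' : S.Etale} (k : T ⟶ T')
    (t : (Scheme.pointSmallEtale (xi S s R)).fiber.obj T) :
    ((EtCoh.push f).obj F).obj.map k.op ≫ cmpC S s R f F T t =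
      cmpC S s R f F T' ((Scheme.pointSmallEtale (xi S s R)).fiber.map k t) := by
  unfold cmpC
  change F.obj.map ((EtCoh.bc f).map k).op ≫ _ = _
  rw [evHom_map]
  exact evHom_congr _ _ (qT_map S s R f k t) _ F

/-- the comparison morphism from the stalk of the direct image to the sections on the fibre
product -/
noncomputable def cmp (F : EtCoh.Ab X) :
    (EtCoh.stalk (xi S s R)).obj ((EtCoh.push f).obj F) ⟶
      (EtCore.gsec (Xbar S s R f)).obj ((EtCoh.pull (gX S s R f)).obj F) :=
  (Scheme.pointSmallEtale (xi S s R)).presheafFiberDesc (cmpC S s R f F)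
    (fun _ _ k t => cmpC_w S s R f F k t)

lemma germ_cmp (F : EtCoh.Ab X) (T : S.Etale)
    (t : (Scheme.pointSmallEtale (xi S s R)).fiber.obj T) :
    (Scheme.pointSmallEtale (xi S s R)).toPresheafFiber T t ((EtCoh.push f).obj F).obj ≫
      cmp S s R f F = cmpC S s R f F T t :=
  (Scheme.pointSmallEtale (xi S s R)).toPresheafFiber_presheafFiberDesc _ _ T t

lemma germ_cmp_apply (F : EtCoh.Ab X) (T : S.Etale)
    (t : (Scheme.pointSmallEtale (xi S s R)).fiber.obj T)
    (x : ((EtCoh.push f).obj F).obj.obj (op T)) :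
    cmp S s R f F ((Scheme.pointSmallEtale (xi S s R)).toPresheafFiber T t
      ((EtCoh.push f).obj F).obj x) = cmpC S s R f F T t x :=
  ConcreteCategory.congr_hom (germ_cmp S s R f F T t) x

lemma cmp_natural {F G : EtCoh.Ab X} (φ : F ⟶ G) :
    (EtCoh.stalk (xi S s R)).map ((EtCoh.push f).map φ) ≫ cmp S s R f G =
      cmp S s R f F ≫ (EtCore.gsec (Xbar S s R f)).map ((EtCoh.pull (gX S s R f)).map φ) := by
  apply (Scheme.pointSmallEtale (xi S s R)).presheafFiber_hom_ext
  intro T t
  have h1 := germ_cmp S s R f F T t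
  have h2 := germ_cmp S s R f G T t
  change (Scheme.pointSmallEtale (xi S s R)).toPresheafFiber T t ((EtCoh.push f).obj F).obj ≫
    (Scheme.pointSmallEtale (xi S s R)).presheafFiber.map ((EtCoh.push f).map φ).hom ≫
      cmp S s R f G =
    (Scheme.pointSmallEtale (xi S s R)).toPresheafFiber T t ((EtCoh.push f).obj F).obj ≫
      cmp S s R f F ≫ _
  rw [← Category.assoc _ (cmp S s R f F), h1,
    GrothendieckTopology.Point.toPresheafFiber_naturality_assoc, h2]
  exact evHom_natural _ _ _ _ φ

end Groth.Agent.Lib.Helper27.StkC
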