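import Mathlib
import Groth.Prelude.Def_Hens2
import Groth.Agent.Lib.Helper27.StkE2

/-!
# The comparison morphism in degree zero is bijective
-/

set_option autoImplicit false
set_option backward.isDefEq.respectTransparency false
set_option backward.isDefEq.respectTransparency.types false

universe u

namespace Groth.Agent.Lib.Helper27.StkC

open CategoryTheory CategoryTheory.Limits AlgebraicGeometry Opposite
open Groth.Agent.Lib.Helper27.StkA Groth.Agent.Lib.Helper27.StkB Groth.Agent.Lib.Helper27.StkE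
open Groth.Agent.Lib.Helper27.EtLimA Groth.Agent.Lib.Helper27.EtLimB
  Groth.Agent.Lib.Helper27.EtLimC Groth.Agent.Lib.Helper27.EtLimD
  Groth.Agent.Lib.Helper27.EtLimH Groth.Agent.Lib.Helper27.EtLimJ
  Groth.Agent.Lib.Helper27.EtLimL Groth.Agent.Lib.Helper23.FinBC0

variable (S : Scheme.{u}) (s : S) (R : Type u) [CommRing R] [IsLocalRing R]
  [Algebra (S.presheaf.stalk s) R] [IsLocalHom (algebraMap (S.presheaf.stalk s) R)]
  [Hensel.IsStrictHenselization (S.presheaf.stalk s) R]
  [IsSepClosed (IsLocalRing.ResidueField R)]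
  {X : Scheme.{u}} (f : X ⟶ S)
  {α : Type u} [PartialOrder α] [IsDirected α (· ≤ ·)] [Nonempty α]
  (N : αᵒᵖ ⥤ (Scheme.pointSmallEtale (xi S s R)).fiber.Elements) [N.Initial]
  (haff : ∀ a : αᵒᵖ, IsAffine (N.obj a).1.left)

/-- the structure morphisms of the stages -/
noncomputable abbrev tX (a : α) : (Xs S s R f N).obj (op a) ⟶ X := (nbW S s R f N a).hom

lemma tX_tr {j k : α} (h : j ≤ k) :
    tr (Xs S s R f N) h ≫ tX S s R f N j = tX S s R f N k :=
  Over.w ((EtCoh.bc f).map (nbT S s R N h)).hom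

lemma pr_tX (j : α) : pr (coneX S s R f N) j ≫ tX S s R f N j = gX S s R f :=
  qT_hom S s R f _ _

lemma map_iso_injective {Y : Scheme.{u}} (B : EtCoh.Ab Y) {U V : Y.Etale} (e : U ≅ V)
    (b : B.obj.obj (op U)) (hb : B.obj.map e.inv.op b = 0) : b = 0 := by
  have h := congrArg (B.obj.map e.hom.op) hb
  rw [map_zero, ← map_comp_apply, e.hom_inv_id] at h
  erw [B.obj.map_id] at h
  exact h

include haff in
theorem cmp_bijective [QuasiCompact f] [QuasiSeparated f] (F : EtCoh.Ab X) :
    Function.Bijective (cmp S s R f F) := by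
  obtain ⟨hc⟩ := isLimit_coneX S s R f N haff
  haveI : ∀ (a b : αᵒᵖ) (h : a ⟶ b), IsAffineHom ((Xs S s R f N).map h) :=
    fun a b h => isAffineHom_Xs_map S s R f N haff h
  haveI : ∀ a, CompactSpace ↥((Xs S s R f N).obj a) := fun a => compactSpace_Xs S s R f N haff a
  haveI : ∀ a, QuasiSeparatedSpace ↥((Xs S s R f N).obj a) :=
    fun a => quasiSeparatedSpace_Xs S s R f N haff a
  let c := coneX S s R f N
  have ht : ∀ {j k : α} (h : j ≤ k), tr (Xs S s R f N) h ≫ tX S s R f N j = tX S s R f N k :=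
    fun h => tX_tr S s R f N h
  have ht' : ∀ j : α, pr c j ≫ tX S s R f N j = gX S s R f := fun j => pr_tX S s R f N j
  let Sy := pbSys (tX S s R f N) ht F
  let cc := pbCocone (tX S s R f N) ht F c (gX S s R f) ht'
  have hcc : IsColimit cc := isColimitOfIsIso cc
  have hθ : ∀ j, Sy.θ c cc j = pbθ (tX S s R f N) F c (gX S s R f) ht' j :=
    fun j => ofPull_toPull _ _
  have key1 : ∀ (j : α) (x : F.obj.obj (op (nbW S s R f N j))),
      cmpC S s R f F (nbV S s R N j) (nbP S s R N j) x =
        cc.pt.obj.map (EtCore.bcTopIso (pr c j)).inv.op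
          (secMap (pr c j) (pbθ (tX S s R f N) F c (gX S s R f) ht' j) (EtCoh.top _)
            (es (nbW S s R f N j) F x)) := by
    intro j x
    have h := evHom_trans (tX S s R f N j) (pr c j) (gX S s R f) (ht' j) F
      (pbθ (tX S s R f N) F c (gX S s R f) ht' j) (nbW S s R f N j) (𝟙 _) (Category.id_comp _) x
    unfold pbθ at h
    rw [relComp_relLift] at h
    refine Eq.trans ?_ h
    have e : nbQ S s R f N j = pr c j ≫ 𝟙 _ := (Category.comp_id _).symm
    exact ConcreteCategory.congr_hom (evHom_congr (gX S s R f) (nbW S s R f N j) e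
      (qT_hom S s R f _ _) F) x
  constructor
  · rw [injective_iff_map_eq_zero]
    intro z hz
    obtain ⟨T, t₀, x₀, hz0⟩ :=
      (Scheme.pointSmallEtale (xi S s R)).toPresheafFiber_jointly_surjective
        (P := ((EtCoh.push f).obj F).obj) z
    obtain ⟨m⟩ : Nonempty (CostructuredArrow N ⟨T, t₀⟩) :=
      (Functor.Initial.out (F := N) ⟨T, t₀⟩).is_nonempty
    obtain ⟨a, k₀, hk₀⟩ : ∃ (a : α) (k₀ : nbV S s R N a ⟶ T),
        (Scheme.pointSmallEtale (xi S s R)).fiber.map k₀ (nbP S s R N a) = t₀ :=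
      ⟨m.left.unop, m.hom.1, m.hom.2⟩
    obtain ⟨x, hx⟩ : ∃ x : F.obj.obj (op (nbW S s R f N a)),
        x = ((EtCoh.push f).obj F).obj.map k₀.op x₀ := ⟨_, rfl⟩
    have hz1 : (Scheme.pointSmallEtale (xi S s R)).toPresheafFiber T t₀
          ((EtCoh.push f).obj F).obj x₀ =
        (Scheme.pointSmallEtale (xi S s R)).toPresheafFiber (nbV S s R N a) (nbP S s R N a)
          ((EtCoh.push f).obj F).obj x := by
      rw [← hk₀, hx]
      exact ((Scheme.pointSmallEtale (xi S s R)).toPresheafFiber_w_apply k₀ (nbP S s R N a)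
        ((EtCoh.push f).obj F).obj x₀).symm
    have hzz : z = (Scheme.pointSmallEtale (xi S s R)).toPresheafFiber (nbV S s R N a)
        (nbP S s R N a) ((EtCoh.push f).obj F).obj x := hz0.symm.trans hz1
    rw [hzz] at hz ⊢
    rw [germ_cmp_apply, key1] at hz
    have h3 : secMap (pr c a) (Sy.θ c cc a) (EtCoh.top _) (es (nbW S s R f N a) F x) = 0 := by
      rw [hθ]
      exact map_iso_injective cc.pt (EtCore.bcTopIso (pr c a)) _ hz
    obtain ⟨b, h, hb⟩ := P2 c hc Sy cc hcc (EtCoh.top _) (es (nbW S s R f N a) F x) h3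
    have h4 := evHom_trans (tX S s R f N a) (tr (Xs S s R f N) h) (tX S s R f N b) (ht h) F
      (pbτ (tX S s R f N) ht F h) (nbW S s R f N a) (𝟙 _) (Category.id_comp _) x
    unfold pbτ at h4
    rw [relComp_relLift] at h4
    have hb' : secMap (tr (Xs S s R f N) h)
        (relLift (tX S s R f N a) (tr (Xs S s R f N) h) (tX S s R f N b) (ht h)
          (unitG (tX S s R f N b) F)) (EtCoh.top _) (es (nbW S s R f N a) F x) = 0 := hb
    have h4' : ((EtCoh.pull (tX S s R f N b)).obj F).obj.map
        (sigma (tX S s R f N b) (nbW S s R f N a) (tr (Xs S s R f N) h ≫ 𝟙 _)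
          (by rw [Category.assoc, Category.id_comp]; exact ht h)).op
        (secMap (tX S s R f N b) (unitG (tX S s R f N b) F) (nbW S s R f N a) x) = 0 := by
      refine h4.trans ?_
      erw [hb']
      exact map_zero _
    have h5 : es (nbW S s R f N b) F (F.obj.map ((EtCoh.bc f).map (nbT S s R N h)).op x) = 0 := by
      have e1 := ConcreteCategory.congr_hom (evHom_map (tX S s R f N b)
        ((EtCoh.bc f).map (nbT S s R N h)) (𝟙 _) (Category.id_comp _) F) x
      refine e1.trans ?_
      refine Eq.trans ?_ h4'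
      have e : 𝟙 _ ≫ ((EtCoh.bc f).map (nbT S s R N h)).left = tr (Xs S s R f N) h ≫ 𝟙 _ :=
        (Category.id_comp _).trans (Category.comp_id _).symm
      exact ConcreteCategory.congr_hom (evHom_congr (tX S s R f N b) (nbW S s R f N a) e _ F) x
    have h6 : F.obj.map ((EtCoh.bc f).map (nbT S s R N h)).op x = 0 :=
      (es_bijective (nbW S s R f N b) F).1 (h5.trans (map_zero _).symm)
    have hz2 : (Scheme.pointSmallEtale (xi S s R)).toPresheafFiber (nbV S s R N a)
          (nbP S s R N a) ((EtCoh.push f).obj F).obj x =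
        (Scheme.pointSmallEtale (xi S s R)).toPresheafFiber (nbV S s R N b) (nbP S s R N b)
          ((EtCoh.push f).obj F).obj (((EtCoh.push f).obj F).obj.map (nbT S s R N h).op x) := by
      rw [← nbT_pt S s R N h]
      exact ((Scheme.pointSmallEtale (xi S s R)).toPresheafFiber_w_apply (nbT S s R N h)
        (nbP S s R N b) ((EtCoh.push f).obj F).obj x).symm
    rw [hz2]
    have h7 : ((EtCoh.push f).obj F).obj.map (nbT S s R N h).op x = 0 := h6
    rw [h7]
    exact map_zero _
  · intro y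
    obtain ⟨gy, hgy⟩ := sec_surjective (B := cc.pt) y
    obtain ⟨k, g, hg⟩ := surj0 c hc Sy cc hcc gy
    obtain ⟨x, hx⟩ := (es_bijective (nbW S s R f N k) F).2 (sec g)
    refine ⟨(Scheme.pointSmallEtale (xi S s R)).toPresheafFiber (nbV S s R N k) (nbP S s R N k)
      ((EtCoh.push f).obj F).obj x, ?_⟩
    rw [germ_cmp_apply, key1, hx, ← hgy, ← hg]
    exact (sec_pull (pr c k) g (pbθ (tX S s R f N) F c (gX S s R f) ht' k)).symm

end Groth.Agent.Lib.Helper27.StkC
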