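import Mathlib
import Groth.Prelude.Def_Hens2
import Groth.Agent.Lib.Helper27.StkE3
import Groth.Agent.Lib.Helper27.EtLimL1
import Groth.Agent.Lib.Helper23.BCQ.EtaleBC

/-!
# Effaceability on the fibre product, and the degree zero isomorphism
-/

set_option autoImplicit false
set_option backward.isDefEq.respectTransparency false
set_option backward.isDefEq.respectTransparency.types false

universe u

namespace Groth.Agent.Lib.Helper27.StkC

open CategoryTheory CategoryTheory.Limits AlgebraicGeometry Opposite Abelian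
open Groth.Agent.Lib.Helper27.StkA Groth.Agent.Lib.Helper27.StkB Groth.Agent.Lib.Helper27.StkE
open Groth.Agent.Lib.Helper27.EtLimA Groth.Agent.Lib.Helper27.EtLimB
  Groth.Agent.Lib.Helper27.EtLimC Groth.Agent.Lib.Helper27.EtLimD
  Groth.Agent.Lib.Helper27.EtLimH Groth.Agent.Lib.Helper27.EtLimJ
  Groth.Agent.Lib.Helper27.EtLimL Groth.Agent.Lib.Helper23.FinBC0

variable (S : Scheme.{u}) (s : S) (R : Type u) [CommRing R] [IsLocalRing R]
  [Algebra (S.presheaf.stalk s) R] [IsLocalHom (algebraMap (S.presheaf.stalk s) R)]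
  [Hensel.IsStrictHenselization (S.presheaf.stalk s) R]
  [IsSepClosed (IsLocalRing.ResidueField R)]
  {X : Scheme.{u}} (f : X ⟶ S)

section Index

variable {α : Type u} [PartialOrder α] [IsDirected α (· ≤ ·)] [Nonempty α]
  (N : αᵒᵖ ⥤ (Scheme.pointSmallEtale (xi S s R)).fiber.Elements) [N.Initial]
  (haff : ∀ a : αᵒᵖ, IsAffine (N.obj a).1.left)

include haff in
theorem subsingleton_H_pull_injective_aux [QuasiCompact f] [QuasiSeparated f] (I : EtCoh.Ab X)
    [Injective I] (n : ℕ) :
    Subsingleton (EtCoh.H (Xbar S s R f) ((EtCoh.pull (gX S s R f)).obj I) (n + 1)) := by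
  obtain ⟨hc⟩ := isLimit_coneX S s R f N haff
  haveI : ∀ (a b : αᵒᵖ) (h : a ⟶ b), IsAffineHom ((Xs S s R f N).map h) :=
    fun a b h => isAffineHom_Xs_map S s R f N haff h
  haveI : ∀ a, CompactSpace ↥((Xs S s R f N).obj a) := fun a => compactSpace_Xs S s R f N haff a
  haveI : ∀ a, QuasiSeparatedSpace ↥((Xs S s R f N).obj a) :=
    fun a => quasiSeparatedSpace_Xs S s R f N haff a
  let c := coneX S s R f N
  have ht : ∀ {j k : α} (h : j ≤ k), tr (Xs S s R f N) h ≫ tX S s R f N j = tX S s R f N k :=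
    fun h => tX_tr S s R f N h
  have ht' : ∀ j : α, pr c j ≫ tX S s R f N j = gX S s R f := fun j => pr_tX S s R f N j
  obtain ⟨h1, -⟩ := limThm c hc (pbSys (tX S s R f N) ht I)
    (pbCocone (tX S s R f N) ht I c (gX S s R f) ht') (isColimitOfIsIso _) (n + 1)
  refine ⟨fun y y' => ?_⟩
  have hz : ∀ y : EtCoh.H (Xbar S s R f) ((EtCoh.pull (gX S s R f)).obj I) (n + 1), y = 0 := by
    intro y
    obtain ⟨j, x, hx⟩ := h1 y
    have hinj : Injective ((pbSys (tX S s R f N) ht I).F j) :=
      (Groth.Agent.Lib.Helper23.BCQ.pull_preservesInjectiveObjects_of_etale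
        (tX S s R f N j)).injective_obj (inferInstance : Injective I)
    have hx0 : x = 0 := @Ext.eq_zero_of_injective _ _ _ _ _ _ n hinj x
    rw [← hx, hx0, map_zero]
  rw [hz y, hz y']

end Index

theorem subsingleton_H_pull_injective [QuasiCompact f] [QuasiSeparated f] (I : EtCoh.Ab X)
    [Injective I] (n : ℕ) :
    Subsingleton (EtCoh.H (Xbar S s R f) ((EtCoh.pull (gX S s R f)).obj I) (n + 1)) := by
  obtain ⟨α, i1, i2, i3, N, hN, haff⟩ := exists_index (xi S s R)
  exact subsingleton_H_pull_injective_aux S s R f N haff I n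

/-- **the stalk of the direct image is the sections over the fibre product** (degree zero) -/
theorem nonempty_cmpIso [QuasiCompact f] [QuasiSeparated f] :
    Nonempty (EtCoh.push f ⋙ EtCoh.stalk (xi S s R) ≅
      EtCoh.pull (gX S s R f) ⋙ EtCore.gsec (Xbar S s R f)) := by
  obtain ⟨α, i1, i2, i3, N, hN, haff⟩ := exists_index (xi S s R)
  haveI : ∀ F : EtCoh.Ab X, IsIso (cmp S s R f F) := fun F =>
    (ConcreteCategory.isIso_iff_bijective _).2 (cmp_bijective S s R f N haff F)
  exact ⟨NatIso.ofComponents (fun F => asIso (cmp S s R f F))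
    (fun φ => cmp_natural S s R f φ)⟩

end Groth.Agent.Lib.Helper27.StkC
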