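import Mathlib
import Groth.Prelude.Def_Hens2
import Groth.Agent.Lib.Helper27.StkE4
import Groth.Agent.Lib.Helper6.HZshRestrict
import Groth.Agent.Lib.Helper6.RDCompExact
import Groth.Agent.Lib.Helper14.ExtDelta

/-!
# The stalk of the higher direct images at a geometric point
-/

set_option autoImplicit false
set_option backward.isDefEq.respectTransparency false
set_option backward.isDefEq.respectTransparency.types false

universe u

namespace Groth.Agent.Lib.Helper27.StkC

open CategoryTheory CategoryTheory.Limits AlgebraicGeometry Opposite Abelian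
open Groth.Agent.Lib.Helper27.StkA Groth.Agent.Lib.Helper27.StkB Groth.Agent.Lib.Helper27.StkE

/-- degree zero cohomology is global sections -/
noncomputable def HF0Iso (Y : Scheme.{u}) : EtCoh.HF Y 0 ≅ EtCore.gsec Y :=
  NatIso.ofComponents
    (fun B => (Sheaf.H.equiv₀ B (EtCore.topIsTerminal Y)).toAddCommGrpIso)
    (fun {B B'} φ => by
      ext x
      exact (Sheaf.H.equiv₀_naturality (EtCore.topIsTerminal Y) φ x).symm)

/-- cohomology as an `Ext` functor -/
noncomputable def HFext (Y : Scheme.{u}) (n : ℕ) :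
    EtCoh.HF Y n ≅ extFunctorObj.{u + 1} (EtCoh.const Y ℤ) n :=
  NatIso.ofComponents (fun B => Iso.refl _) (fun {B B'} φ => by
    ext x
    rfl)

variable (S : Scheme.{u}) (s : S) (R : Type u) [CommRing R] [IsLocalRing R]
  [Algebra (S.presheaf.stalk s) R] [IsLocalHom (algebraMap (S.presheaf.stalk s) R)]
  [Hensel.IsStrictHenselization (S.presheaf.stalk s) R]
  [IsSepClosed (IsLocalRing.ResidueField R)]
  {X : Scheme.{u}} (f : X ⟶ S) [QuasiCompact f] [QuasiSeparated f]

instance : (EtCoh.stalk (xi S s R)).Additive := Functor.additive_of_preserves_binary_products _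

theorem main (n : ℕ) :
    Nonempty (EtCoh.Rpush f n ⋙ EtCoh.stalk (Hens2.geomPt S s R) ≅
      EtCoh.pull (pullback.fst f (Hens2.specOf S s R)) ⋙
        EtCoh.HF (pullback f (Hens2.specOf S s R)) n) := by
  obtain ⟨e1⟩ := Groth.Agent.Lib.Helper6.HZshRestrict.nonempty_rightDerived_postcomp_iso
    (EtCoh.stalk (xi S s R)) (EtCoh.push f) n
  let T' := Groth.Agent.Lib.Helper6.RDCompExact.precomp (EtCoh.pull (gX S s R f))
    (Groth.Agent.Lib.Helper14.ExtDelta.extDelta.{u + 1} (EtCoh.const (Xbar S s R f) ℤ))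
  have hT' : T'.IsEffaceable := by
    intro k F
    refine ⟨Injective.under F, Injective.ι F, inferInstance, ?_⟩
    haveI := subsingleton_H_pull_injective S s R f (Injective.under F) k
    exact (AddCommGrpCat.isZero_of_subsingleton
      (AddCommGrpCat.of (EtCoh.H (Xbar S s R f)
        ((EtCoh.pull (gX S s R f)).obj (Injective.under F)) (k + 1)))).eq_of_tgt _ _
  obtain ⟨e0⟩ := nonempty_cmpIso S s R f
  haveI : PreservesFiniteLimits (EtCoh.push f ⋙ EtCoh.stalk (xi S s R)) :=
    comp_preservesFiniteLimits _ _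
  let e0' : (EtCoh.push f ⋙ EtCoh.stalk (xi S s R)).rightDerived 0 ≅ T'.F 0 :=
    Functor.rightDerivedZeroIsoSelf _ ≪≫ e0 ≪≫
      Functor.isoWhiskerLeft (EtCoh.pull (gX S s R f)) (HF0Iso (Xbar S s R f)).symm ≪≫
      Functor.isoWhiskerLeft (EtCoh.pull (gX S s R f)) (HFext (Xbar S s R f) 0)
  obtain ⟨e2⟩ := Groth.Agent.Lib.Helper6.RpushNatIso.nonempty_iso_of_effaceable
    (EtCoh.push f ⋙ EtCoh.stalk (xi S s R)) T' hT' e0' n
  exact ⟨e1.symm ≪≫ e2 ≪≫
    Functor.isoWhiskerLeft (EtCoh.pull (gX S s R f)) (HFext (Xbar S s R f) n).symm⟩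

end Groth.Agent.Lib.Helper27.StkC
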