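import Groth.Prelude.Def_Hensel
import Mathlib.FieldTheory.IsSepClosed
import Mathlib.FieldTheory.SeparableClosure

/-!
# Maps between strict henselizations (helper27)
-/

set_option autoImplicit false
universe u
open IsLocalRing

namespace Groth.Agent.Lib.Helper27.StrictMaps

/-- a ring map compatible with residue maps is local -/
theorem isLocalHom_of_residue {S T : Type u} [CommRing S] [IsLocalRing S] [CommRing T]
    [IsLocalRing T] (g : S →+* T) (τ : ResidueField S →+* ResidueField T)
    (h : ∀ x : S, residue T (g x) = τ (residue S x)) : IsLocalHom g := by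
  refine ⟨fun x hx => ?_⟩
  by_contra hnx
  have h1 : residue S x = 0 := (residue_eq_zero_iff x).2 hnx
  have h2 : residue T (g x) = 0 := by rw [h, h1, map_zero]
  exact ((residue_eq_zero_iff (g x)).1 h2) hx

section Lift

variable {A SA T : Type u} [CommRing A] [IsLocalRing A] [CommRing SA] [IsLocalRing SA]
  [CommRing T] [IsLocalRing T] [Algebra A SA] [IsLocalHom (algebraMap A SA)]
  [Hensel.IsStrictHenselization A SA] (hT : HenselianLocalRing T)
  [IsSepClosed (ResidueField T)] (f : A →+* T) [IsLocalHom f]

include hT in
/-- a local map from `A` to a strictly henselian local ring extends to a strict henselization -/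
theorem exists_lift : ∃ β : SA →+* T, β.comp (algebraMap A SA) = f ∧ IsLocalHom β := by
  letI : Algebra (ResidueField A) (ResidueField T) := (ResidueField.map f).toAlgebra
  haveI : IsSepClosure (ResidueField A) (ResidueField SA) :=
    Hensel.IsStrictHenselization.isSepClosure
  haveI : Algebra.IsSeparable (ResidueField A) (ResidueField SA) := IsSepClosure.separable
  let τ : ResidueField SA →ₐ[ResidueField A] ResidueField T := IsSepClosed.lift
  have hτ : (τ : ResidueField SA →+* ResidueField T).comp
      (ResidueField.map (algebraMap A SA)) = ResidueField.map f := by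
    ext r
    exact τ.commutes r
  obtain ⟨β, ⟨h1, h2⟩, -⟩ := Hensel.IsStrictHenselization.universal (R := A) (S := SA) T f
    (τ : ResidueField SA →+* ResidueField T) hτ
  exact ⟨β, h1, isLocalHom_of_residue β _ h2⟩

end Lift

end Groth.Agent.Lib.Helper27.StrictMaps
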