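import Groth.Agent.Lib.Helper27.StrictMaps1

set_option autoImplicit false
universe u
open IsLocalRing Polynomial

namespace Groth.Agent.Lib.Helper27.StrictMaps

section Field

variable {K₀ K L₀ L M : Type u} [Field K₀] [Field K] [Field L₀] [Field L] [Field M]
  [Algebra K₀ L₀] [Algebra K L] [Algebra K M] [Algebra.IsSeparable K₀ L₀] [IsSepClosed L]
  (i : K₀ →+* K) (τ : L →ₐ[K] M) (γ : L₀ →+* M)
  (hγ : γ.comp (algebraMap K₀ L₀) = (algebraMap K M).comp i)

include hγ in
/-- the image of a separable algebraic extension lands in the image of a separably closed field -/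
theorem mem_range_of_separable (ℓ : L₀) : γ ℓ ∈ (τ : L →+* M).range := by
  have hsep : (minpoly K₀ ℓ).Separable := Algebra.IsSeparable.isSeparable K₀ ℓ
  let p : K[X] := (minpoly K₀ ℓ).map i
  have hp : p.Separable := hsep.map
  have hsplit : (p.map (algebraMap K L)).Splits := IsSepClosed.splits_of_separable _ hp.map
  have hroot : (p.map (algebraMap K M)).IsRoot (γ ℓ) := by
    have h1 : p.map (algebraMap K M) = (minpoly K₀ ℓ).map (γ.comp (algebraMap K₀ L₀)) := by
      rw [hγ, Polynomial.map_map]
    rw [h1, ← Polynomial.map_map, IsRoot.def, Polynomial.eval_map, Polynomial.eval₂_hom]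
    have h2 : Polynomial.eval ℓ ((minpoly K₀ ℓ).map (algebraMap K₀ L₀)) = 0 := by
      rw [Polynomial.eval_map, ← Polynomial.aeval_def, minpoly.aeval]
    rw [h2, map_zero]
  have h3 : p.map (algebraMap K M) = (p.map (algebraMap K L)).map (τ : L →+* M) := by
    have h5 : (τ : L →+* M).comp (algebraMap K L) = algebraMap K M := by
      ext k
      exact τ.commutes k
    conv_lhs => rw [← h5]
    exact (Polynomial.map_map (algebraMap K L) (τ : L →+* M) p).symm
  rw [h3] at hroot
  have hne : p.map (algebraMap K L) ≠ 0 := by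
    intro h0
    have : p = 0 := by
      apply Polynomial.map_injective (algebraMap K L) (algebraMap K L).injective
      rw [h0, Polynomial.map_zero]
    exact hp.ne_zero this
  have h4 : γ ℓ ∈ ((p.map (algebraMap K L)).map (τ : L →+* M)).roots :=
    (Polynomial.mem_roots (Polynomial.map_ne_zero hne)).2 hroot
  rw [hsplit.roots_map (τ : L →+* M)] at h4
  obtain ⟨r, -, hr⟩ := Multiset.mem_map.1 h4
  exact ⟨r, hr⟩

end Field

end Groth.Agent.Lib.Helper27.StrictMaps
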