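import Groth.Agent.Lib.Helper27.StrictMaps2

set_option autoImplicit false
universe u
open IsLocalRing Polynomial

namespace Groth.Agent.Lib.Helper27.StrictMaps

section Field

variable {K₀ K L₀ L M : Type u} [Field K₀] [Field K] [Field L₀] [Field L] [Field M]
  [Algebra K₀ L₀] [Algebra K L] [Algebra K M] [Algebra.IsSeparable K₀ L₀] [IsSepClosed L]
  (i : K₀ →+* K) (τ : L →ₐ[K] M) (γ : L₀ →+* M)
  (hγ : γ.comp (algebraMap K₀ L₀) = (algebraMap K M).comp i)

include hγ in
theorem exists_factor :
    ∃ τ' : L₀ →+* L, (τ : L →+* M).comp τ' = γ ∧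
      τ'.comp (algebraMap K₀ L₀) = (algebraMap K L).comp i := by
  have hinj : Function.Injective (τ : L →+* M) := (τ : L →+* M).injective
  choose t ht using mem_range_of_separable i τ γ hγ
  let τ' : L₀ →+* L :=
    { toFun := t
      map_one' := hinj (by rw [ht, map_one, map_one])
      map_mul' := fun a b => hinj (by rw [ht, map_mul, map_mul, ht, ht])
      map_zero' := hinj (by rw [ht, map_zero, map_zero])
      map_add' := fun a b => hinj (by rw [ht, map_add, map_add, ht, ht]) }
  refine ⟨τ', ?_, ?_⟩
  · ext ℓ
    exact ht ℓ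
  · ext k
    apply hinj
    change (τ : L →+* M) (t (algebraMap K₀ L₀ k)) = (τ : L →+* M) (algebraMap K L (i k))
    rw [ht]
    have h1 := congrArg (fun ψ : K₀ →+* M => ψ k) hγ
    have h2 : (τ : L →+* M) (algebraMap K L (i k)) = algebraMap K M (i k) := τ.commutes (i k)
    rw [h2]
    exact h1

end Field

section Factor

variable {A₀ A S₀ S T : Type u} [CommRing A₀] [IsLocalRing A₀] [CommRing A] [IsLocalRing A]
  [CommRing S₀] [IsLocalRing S₀] [CommRing S] [IsLocalRing S] [CommRing T] [IsLocalRing T]
  (φ₀ : A₀ →+* A) [IsLocalHom φ₀]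
  [Algebra A₀ S₀] [IsLocalHom (algebraMap A₀ S₀)] [Hensel.IsStrictHenselization A₀ S₀]
  [Algebra A S] [IsLocalHom (algebraMap A S)] [Hensel.IsStrictHenselization A S]
  (hT : HenselianLocalRing T) [IsSepClosed (ResidueField T)]
  (f : A →+* T) [IsLocalHom f] (γ : S₀ →+* T) [IsLocalHom γ]
  (hγ : γ.comp (algebraMap A₀ S₀) = f.comp φ₀)

include hT hγ in
/-- a local map between strict henselizations of `A₀` and of a strictly henselian `T` over
`A₀ → A → T` factors through a strict henselization of `A` -/
theorem exists_factorization :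
    ∃ (α : S₀ →+* S) (β : S →+* T), IsLocalHom α ∧ IsLocalHom β ∧
      α.comp (algebraMap A₀ S₀) = (algebraMap A S).comp φ₀ ∧
      β.comp (algebraMap A S) = f ∧ β.comp α = γ := by
  letI : Algebra (ResidueField A) (ResidueField T) := (ResidueField.map f).toAlgebra
  haveI : IsSepClosure (ResidueField A) (ResidueField S) :=
    Hensel.IsStrictHenselization.isSepClosure
  haveI : IsSepClosed (ResidueField S) := IsSepClosure.sep_closed (ResidueField A)
  haveI : Algebra.IsSeparable (ResidueField A) (ResidueField S) := IsSepClosure.separable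
  haveI : IsSepClosure (ResidueField A₀) (ResidueField S₀) :=
    Hensel.IsStrictHenselization.isSepClosure
  haveI : Algebra.IsSeparable (ResidueField A₀) (ResidueField S₀) := IsSepClosure.separable
  have hS : HenselianLocalRing S := Hensel.IsStrictHenselization.henselian A
  let τ : ResidueField S →ₐ[ResidueField A] ResidueField T := IsSepClosed.lift
  have hτ : (τ : ResidueField S →+* ResidueField T).comp
      (ResidueField.map (algebraMap A S)) = ResidueField.map f := by
    ext r
    exact τ.commutes r
  obtain ⟨β, ⟨hβ1, hβ2⟩, -⟩ := Hensel.IsStrictHenselization.universal (R := A) (S := S) T f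
    (τ : ResidueField S →+* ResidueField T) hτ
  -- the residue map of `γ` factors through `τ`
  have hγ' : (ResidueField.map γ).comp (algebraMap (ResidueField A₀) (ResidueField S₀)) =
      (algebraMap (ResidueField A) (ResidueField T)).comp (ResidueField.map φ₀) := by
    ext r
    obtain ⟨a, rfl⟩ := residue_surjective r
    change ResidueField.map γ (ResidueField.map (algebraMap A₀ S₀) (residue A₀ a)) =
      ResidueField.map f (ResidueField.map φ₀ (residue A₀ a))
    rw [ResidueField.map_residue, ResidueField.map_residue, ResidueField.map_residue,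
      ResidueField.map_residue]
    exact congrArg (residue T) (congrArg (fun ψ : A₀ →+* T => ψ a) hγ)
  obtain ⟨τ', hτ'1, hτ'2⟩ := exists_factor (ResidueField.map φ₀) τ (ResidueField.map γ) hγ'
  -- the map `α`
  haveI : IsLocalHom ((algebraMap A S).comp φ₀) := RingHom.isLocalHom_comp _ _
  have hτ'3 : τ'.comp (ResidueField.map (algebraMap A₀ S₀)) =
      ResidueField.map ((algebraMap A S).comp φ₀) := by
    ext r
    obtain ⟨a, rfl⟩ := residue_surjective r
    have h1 := congrArg (fun ψ : ResidueField A₀ →+* ResidueField S => ψ (residue A₀ a)) hτ'2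
    change τ' (ResidueField.map (algebraMap A₀ S₀) (residue A₀ a)) =
      ResidueField.map (algebraMap A S) (ResidueField.map φ₀ (residue A₀ a)) at h1
    rw [RingHom.comp_apply, h1, ResidueField.map_residue, ResidueField.map_residue,
      ResidueField.map_residue]
    rfl
  obtain ⟨α, ⟨hα1, hα2⟩, -⟩ := Hensel.IsStrictHenselization.universal (R := A₀) (S := S₀) S
    ((algebraMap A S).comp φ₀) τ' hτ'3
  -- uniqueness
  haveI : IsLocalHom (f.comp φ₀) := RingHom.isLocalHom_comp _ _
  have hγ'' : (ResidueField.map γ).comp (ResidueField.map (algebraMap A₀ S₀)) =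
      ResidueField.map (f.comp φ₀) := by
    ext r
    obtain ⟨a, rfl⟩ := residue_surjective r
    rw [RingHom.comp_apply, ResidueField.map_residue, ResidueField.map_residue,
      ResidueField.map_residue]
    exact congrArg (residue T) (congrArg (fun ψ : A₀ →+* T => ψ a) hγ)
  have huniq := Hensel.IsStrictHenselization.universal (R := A₀) (S := S₀) T (f.comp φ₀)
    (ResidueField.map γ) hγ''
  have e : β.comp α = γ := by
    apply huniq.unique
    · refine ⟨?_, fun x => ?_⟩
      · rw [RingHom.comp_assoc, hα1, ← RingHom.comp_assoc, hβ1]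
      · change residue T (β (α x)) = _
        rw [hβ2, hα2]
        exact congrArg (fun ψ : ResidueField S₀ →+* ResidueField T => ψ (residue S₀ x)) hτ'1
    · exact ⟨hγ, fun x => (ResidueField.map_residue γ x).symm⟩
  exact ⟨α, β, isLocalHom_of_residue α _ hα2, isLocalHom_of_residue β _ hβ2, hα1, hβ1, e⟩

end Factor

end Groth.Agent.Lib.Helper27.StrictMaps
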