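import Groth.Agent.Lib.Helper27.StrictMaps3
import Groth.Agent.Lib.Helper12.StrictHenselization
import Groth.Prelude.Def_EtAcyc

set_option autoImplicit false
universe u
open CategoryTheory Limits AlgebraicGeometry IsLocalRing

namespace Groth.Agent.Lib.Helper27.StrictMaps

variable {X Y Z : Scheme.{u}} (g : X ⟶ Y) (h : Y ⟶ Z)
  (P : ∀ ⦃X' Y' : Scheme.{u}⦄, (X' ⟶ Y') → Prop)
  (hP : ∀ ⦃A B C : Scheme.{u}⦄ (a : A ⟶ B) (b : B ⟶ C), P a → (P b ↔ P (a ≫ b)))

include hP in
theorem onStrict_of_comp (hsurj : Function.Surjective g.base)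
    (hg : EtAcyc.OnStrictLocalizations g P) (hgh : EtAcyc.OnStrictLocalizations (g ≫ h) P) :
    EtAcyc.OnStrictLocalizations h P := by
  intro y RZ RY iCZ iCY iLZ iLY iAlgZ iLocZ iSHZ iAlgY iLocY iSHY iAlgZY iLocZY hcompat
  obtain ⟨x, rfl⟩ := hsurj y
  let RX : Type u := Groth.Agent.Lib.Helper12.StrictHenselization (X.presheaf.stalk x)
  have hRX : HenselianLocalRing RX := Hensel.IsStrictHenselization.henselian (X.presheaf.stalk x)
  haveI : IsSepClosure (ResidueField (X.presheaf.stalk x)) (ResidueField RX) :=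
    Hensel.IsStrictHenselization.isSepClosure
  haveI : IsSepClosed (ResidueField RX) :=
    IsSepClosure.sep_closed (ResidueField (X.presheaf.stalk x))
  let f : Y.presheaf.stalk (g.base x) →+* RX :=
    (algebraMap (X.presheaf.stalk x) RX).comp (g.stalkMap x).hom
  haveI : IsLocalHom f := RingHom.isLocalHom_comp _ _
  obtain ⟨β, hβ, hβloc⟩ := exists_lift (SA := RY) hRX f
  letI : Algebra RY RX := β.toAlgebra
  haveI : IsLocalHom (algebraMap RY RX) := hβloc
  letI : Algebra RZ RX := (β.comp (algebraMap RZ RY)).toAlgebra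
  haveI : IsLocalHom (algebraMap RZ RX) := RingHom.isLocalHom_comp β (algebraMap RZ RY)
  have h1 : P (Spec.map (CommRingCat.ofHom (algebraMap RY RX))) := hg x RY RX hβ
  have h2 : P (Spec.map (CommRingCat.ofHom (algebraMap RZ RX))) := by
    refine @hgh x RZ RX _ _ _ _ iAlgZ iLocZ iSHZ _ _ _ _ _ ?_
    change (β.comp (algebraMap RZ RY)).comp (algebraMap (Z.presheaf.stalk (h.base (g.base x))) RZ) =
      (algebraMap (X.presheaf.stalk x) RX).comp ((g ≫ h).stalkMap x).hom
    rw [RingHom.comp_assoc, hcompat, ← RingHom.comp_assoc, hβ, Scheme.Hom.stalkMap_comp]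
    rfl
  have h3 : Spec.map (CommRingCat.ofHom (algebraMap RZ RX)) =
      Spec.map (CommRingCat.ofHom (algebraMap RY RX)) ≫
        Spec.map (CommRingCat.ofHom (algebraMap RZ RY)) := by
    rw [← Spec.map_comp, ← CommRingCat.ofHom_comp]
  rw [h3] at h2
  exact (hP _ _ h1).2 h2

end Groth.Agent.Lib.Helper27.StrictMaps
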