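import Groth.Agent.Lib.Helper27.StrictMaps4

set_option autoImplicit false
universe u
open CategoryTheory Limits AlgebraicGeometry IsLocalRing

namespace Groth.Agent.Lib.Helper27.StrictMaps

variable {X Y Z : Scheme.{u}} (g : X ⟶ Y) (h : Y ⟶ Z)
  (P : ∀ ⦃X' Y' : Scheme.{u}⦄, (X' ⟶ Y') → Prop)
  (hP : ∀ ⦃A B C : Scheme.{u}⦄ (a : A ⟶ B) (b : B ⟶ C), P a → (P b ↔ P (a ≫ b)))

include hP in
theorem onStrict_comp (hg : EtAcyc.OnStrictLocalizations g P)
    (hh : EtAcyc.OnStrictLocalizations h P) : EtAcyc.OnStrictLocalizations (g ≫ h) P := by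
  intro x RZ RX iCZ iCX iLZ iLX iAlgZ iLocZ iSHZ iAlgX iLocX iSHX iAlgZX iLocZX hcompat
  -- reinterpret the instances over the stalk at `h (g x)`
  letI iAlgZ' : Algebra (Z.presheaf.stalk (h.base (g.base x))) RZ := iAlgZ
  haveI iLocZ' : IsLocalHom (algebraMap (Z.presheaf.stalk (h.base (g.base x))) RZ) := iLocZ
  haveI iSHZ' : Hensel.IsStrictHenselization (Z.presheaf.stalk (h.base (g.base x))) RZ := iSHZ
  let RY : Type u := Groth.Agent.Lib.Helper12.StrictHenselization (Y.presheaf.stalk (g.base x))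
  have hRX : HenselianLocalRing RX := Hensel.IsStrictHenselization.henselian (X.presheaf.stalk x)
  haveI : IsSepClosure (ResidueField (X.presheaf.stalk x)) (ResidueField RX) :=
    Hensel.IsStrictHenselization.isSepClosure
  haveI : IsSepClosed (ResidueField RX) :=
    IsSepClosure.sep_closed (ResidueField (X.presheaf.stalk x))
  let f : Y.presheaf.stalk (g.base x) →+* RX :=
    (algebraMap (X.presheaf.stalk x) RX).comp (g.stalkMap x).hom
  haveI : IsLocalHom f := RingHom.isLocalHom_comp _ _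
  have hγ : (algebraMap RZ RX).comp (algebraMap (Z.presheaf.stalk (h.base (g.base x))) RZ) =
      f.comp (h.stalkMap (g.base x)).hom := by
    have h0 : (algebraMap RZ RX).comp (algebraMap (Z.presheaf.stalk (h.base (g.base x))) RZ) =
        (algebraMap (X.presheaf.stalk x) RX).comp ((g ≫ h).stalkMap x).hom := hcompat
    rw [h0, Scheme.Hom.stalkMap_comp]
    rfl
  obtain ⟨α, β, hα, hβ, hα1, hβ1, hβα⟩ :=
    exists_factorization (S₀ := RZ) (S := RY) (h.stalkMap (g.base x)).hom hRX f
      (algebraMap RZ RX) hγ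
  letI : Algebra RZ RY := α.toAlgebra
  haveI : IsLocalHom (algebraMap RZ RY) := hα
  letI : Algebra RY RX := β.toAlgebra
  haveI : IsLocalHom (algebraMap RY RX) := hβ
  have h1 : P (Spec.map (CommRingCat.ofHom (algebraMap RY RX))) := hg x RY RX hβ1
  have h2 : P (Spec.map (CommRingCat.ofHom (algebraMap RZ RY))) := hh (g.base x) RZ RY hα1
  have h3 : Spec.map (CommRingCat.ofHom (algebraMap RZ RX)) =
      Spec.map (CommRingCat.ofHom (algebraMap RY RX)) ≫
        Spec.map (CommRingCat.ofHom (algebraMap RZ RY)) := by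
    rw [← Spec.map_comp, ← CommRingCat.ofHom_comp]
    exact congrArg (fun ψ => Spec.map (CommRingCat.ofHom ψ)) hβα.symm
  rw [h3]
  exact (hP _ _ h1).1 h2

end Groth.Agent.Lib.Helper27.StrictMaps
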