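import Groth.Prelude.Def_FibCat2
import Groth.Agent.Lib.Helper27.EquivOverAux
import Groth.Agent.Lib.Helper27.TwoYonedaFib
import Groth.Agent.Lib.Helper27.DescentKit
import Mathlib.CategoryTheory.FiberedCategory.Grothendieck
import Mathlib.CategoryTheory.Bicategory.Functor.LocallyDiscrete

/-!
# Every fibred category is equivalent to a split one (helper27)
-/

set_option autoImplicit false
set_option backward.isDefEq.respectTransparency false
set_option backward.isDefEq.respectTransparency.types false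

universe v₃ u₃ v₂ u₂ v u

open CategoryTheory Opposite

namespace Groth.Agent.Lib.Helper27.Strictify

section SC

variable {C : Type u} [Category.{v} C] {𝒵 : Type u₂} [Category.{v₂} 𝒵] {p : 𝒵 ⥤ C}

/-- Lifting through a strongly cartesian morphism, with explicit hypotheses. -/
noncomputable def SC.lift {R S : C} {a b : 𝒵} (f : R ⟶ S) (φ : a ⟶ b)
    (hφ : p.IsStronglyCartesian f φ) {R' : C} {a' : 𝒵} (g : R' ⟶ R) {f' : R' ⟶ S}
    (hf' : f' = g ≫ f) (φ' : a' ⟶ b) (hφ' : p.IsHomLift f' φ') : a' ⟶ a :=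
  Functor.IsStronglyCartesian.map p f φ hf' φ'

theorem SC.lift_isHomLift {R S : C} {a b : 𝒵} (f : R ⟶ S) (φ : a ⟶ b)
    (hφ : p.IsStronglyCartesian f φ) {R' : C} {a' : 𝒵} (g : R' ⟶ R) {f' : R' ⟶ S}
    (hf' : f' = g ≫ f) (φ' : a' ⟶ b) (hφ' : p.IsHomLift f' φ') :
    p.IsHomLift g (SC.lift f φ hφ g hf' φ' hφ') :=
  Functor.IsStronglyCartesian.map_isHomLift p f φ hf' φ'

theorem SC.lift_fac {R S : C} {a b : 𝒵} (f : R ⟶ S) (φ : a ⟶ b)
    (hφ : p.IsStronglyCartesian f φ) {R' : C} {a' : 𝒵} (g : R' ⟶ R) {f' : R' ⟶ S}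
    (hf' : f' = g ≫ f) (φ' : a' ⟶ b) (hφ' : p.IsHomLift f' φ') :
    SC.lift f φ hφ g hf' φ' hφ' ≫ φ = φ' :=
  Functor.IsStronglyCartesian.fac p f φ hf' φ'

theorem SC.lift_uniq {R S : C} {a b : 𝒵} (f : R ⟶ S) (φ : a ⟶ b)
    (hφ : p.IsStronglyCartesian f φ) {R' : C} {a' : 𝒵} (g : R' ⟶ R) {f' : R' ⟶ S}
    (hf' : f' = g ≫ f) (φ' : a' ⟶ b) (hφ' : p.IsHomLift f' φ') (ψ : a' ⟶ a)
    (hψ : p.IsHomLift g ψ) (h : ψ ≫ φ = φ') : ψ = SC.lift f φ hφ g hf' φ' hφ' :=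
  Functor.IsStronglyCartesian.map_uniq p f φ hf' φ' ψ h

theorem SC.cancel {R S : C} {a b : 𝒵} (f : R ⟶ S) (φ : a ⟶ b)
    (hφ : p.IsStronglyCartesian f φ) {R' : C} {a' : 𝒵} (g : R' ⟶ R) {ψ ψ' : a' ⟶ a}
    (hψ : p.IsHomLift g ψ) (hψ' : p.IsHomLift g ψ') (h : ψ ≫ φ = ψ' ≫ φ) : ψ = ψ' :=
  Functor.IsStronglyCartesian.ext p f φ g h

theorem SC.of_comp {R S T : C} {a b c : 𝒵} (f : R ⟶ S) (g : S ⟶ T) (φ : a ⟶ b) (ψ : b ⟶ c)
    (hψ : p.IsStronglyCartesian g ψ) (hφψ : p.IsStronglyCartesian (f ≫ g) (φ ≫ ψ))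
    (hφ : p.IsHomLift f φ) : p.IsStronglyCartesian f φ :=
  Functor.IsStronglyCartesian.of_comp p (f := f) (g := g) (φ := φ) (ψ := ψ)

theorem SC.isIso {R : C} {a b : 𝒵} (φ : a ⟶ b) (hφ : p.IsStronglyCartesian (𝟙 R) φ) :
    IsIso φ :=
  Functor.IsStronglyCartesian.isIso_of_base_isIso p (𝟙 R) φ

end SC

variable {C : Type u} [Category.{v} C] (𝒳 : BasedCategory.{v₂, u₂} C) [𝒳.p.IsFibered]

/-- Objects of the fibre of the strictification: formal pullbacks. -/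
structure Obj (U : C) where
  pt : 𝒳.obj
  str : U ⟶ 𝒳.p.obj pt

variable {𝒳}

theorem Obj.ext' {U : C} {o o' : Obj 𝒳 U} (h : o.pt = o'.pt)
    (h' : o.str = o'.str ≫ eqToHom (by rw [h])) : o = o' := by
  cases o; cases o'
  dsimp at h
  subst h
  simp at h'
  subst h'
  rfl

/-- The chosen pullback. -/
noncomputable def pb {U : C} (o : Obj 𝒳 U) : 𝒳.obj :=
  Functor.IsPreFibered.pullbackObj (p := 𝒳.p) rfl o.str

/-- The chosen cartesian arrow. -/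
noncomputable def π {U : C} (o : Obj 𝒳 U) : pb o ⟶ o.pt :=
  Functor.IsPreFibered.pullbackMap (p := 𝒳.p) rfl o.str

theorem π_sc {U : C} (o : Obj 𝒳 U) : 𝒳.p.IsStronglyCartesian o.str (π o) := by
  unfold π; infer_instance

theorem π_lift {U : C} (o : Obj 𝒳 U) : 𝒳.p.IsHomLift o.str (π o) :=
  (π_sc o).toIsHomLift

theorem p_pb {U : C} (o : Obj 𝒳 U) : 𝒳.p.obj (pb o) = U :=
  have := π_lift o
  IsHomLift.domain_eq 𝒳.p o.str (π o)

/-- Morphisms of formal pullbacks: morphisms over the identity between the chosen pullbacks. -/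
@[ext] structure Hom {U : C} (o o' : Obj 𝒳 U) where
  val : pb o ⟶ pb o'
  lift : 𝒳.p.IsHomLift (𝟙 U) val

noncomputable instance {U : C} : Category (Obj 𝒳 U) where
  Hom o o' := Hom o o'
  id o := ⟨𝟙 _, IsHomLift.id (p_pb o)⟩
  comp φ ψ := ⟨φ.1 ≫ ψ.1, by have := φ.2; have := ψ.2; infer_instance⟩
  id_comp φ := Hom.ext (Category.id_comp _)
  comp_id φ := Hom.ext (Category.comp_id _)
  assoc φ ψ χ := Hom.ext (Category.assoc _ _ _)

@[simp] theorem val_id {U : C} (o : Obj 𝒳 U) : (𝟙 o : o ⟶ o).1 = 𝟙 (pb o) := rfl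

@[simp] theorem val_comp {U : C} {o o' o'' : Obj 𝒳 U} (φ : o ⟶ o') (ψ : o' ⟶ o'') :
    (φ ≫ ψ).1 = φ.1 ≫ ψ.1 := rfl

theorem hom_ext {U : C} {o o' : Obj 𝒳 U} {φ ψ : o ⟶ o'} (h : φ.1 = ψ.1) : φ = ψ :=
  Hom.ext h

theorem val_eqToHom {U : C} {o o' : Obj 𝒳 U} (h : o = o') :
    (eqToHom h : o ⟶ o').1 = eqToHom (congrArg pb h) := by
  subst h; rfl

theorem π_eq {U : C} {o o' : Obj 𝒳 U} (h : o = o') :
    eqToHom (congrArg pb h) ≫ π o' = π o ≫ eqToHom (congrArg Obj.pt h) := by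
  subst h; simp

/-- Restriction of formal pullbacks. -/
def resObj {U V : C} (g : V ⟶ U) (o : Obj 𝒳 U) : Obj 𝒳 V := ⟨o.pt, g ≫ o.str⟩

/-- The canonical arrow between chosen pullbacks. -/
noncomputable def τ {U V : C} (g : V ⟶ U) (o : Obj 𝒳 U) : pb (resObj g o) ⟶ pb o :=
  SC.lift o.str (π o) (π_sc o) g rfl (π (resObj g o)) (π_lift (resObj g o))

theorem τ_lift {U V : C} (g : V ⟶ U) (o : Obj 𝒳 U) : 𝒳.p.IsHomLift g (τ g o) :=
  SC.lift_isHomLift _ _ _ _ _ _ _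

theorem τ_fac {U V : C} (g : V ⟶ U) (o : Obj 𝒳 U) : τ g o ≫ π o = π (resObj g o) :=
  SC.lift_fac _ _ _ _ _ _ _

theorem τ_uniq {U V : C} (g : V ⟶ U) (o : Obj 𝒳 U) (ψ : pb (resObj g o) ⟶ pb o)
    (hψ : 𝒳.p.IsHomLift g ψ) (h : ψ ≫ π o = π (resObj g o)) : ψ = τ g o :=
  SC.lift_uniq _ _ _ _ _ _ _ ψ hψ h

theorem τ_sc {U V : C} (g : V ⟶ U) (o : Obj 𝒳 U) : 𝒳.p.IsStronglyCartesian g (τ g o) := by
  refine SC.of_comp g o.str (τ g o) (π o) (π_sc o) ?_ (τ_lift g o)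
  rw [τ_fac]
  exact π_sc (resObj g o)

theorem resMap_aux {U V : C} (g : V ⟶ U) {o o' : Obj 𝒳 U} (φ : o ⟶ o') :
    𝒳.p.IsHomLift g (τ g o ≫ φ.1) := by
  have := τ_lift g o
  have := φ.2
  have : 𝒳.p.IsHomLift (g ≫ 𝟙 U) (τ g o ≫ φ.1) := inferInstance
  rwa [Category.comp_id] at this

/-- Restriction of morphisms. -/
noncomputable def resMap {U V : C} (g : V ⟶ U) {o o' : Obj 𝒳 U} (φ : o ⟶ o') :
    resObj g o ⟶ resObj g o' :=
  ⟨SC.lift g (τ g o') (τ_sc g o') (𝟙 V) (Category.id_comp _).symm (τ g o ≫ φ.1)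
      (resMap_aux g φ),
    SC.lift_isHomLift _ _ _ _ _ _ _⟩

theorem resMap_fac {U V : C} (g : V ⟶ U) {o o' : Obj 𝒳 U} (φ : o ⟶ o') :
    (resMap g φ).1 ≫ τ g o' = τ g o ≫ φ.1 :=
  SC.lift_fac g (τ g o') (τ_sc g o') (𝟙 V) (Category.id_comp _).symm (τ g o ≫ φ.1)
      (resMap_aux g φ)

theorem resMap_uniq {U V : C} (g : V ⟶ U) {o o' : Obj 𝒳 U} (φ : o ⟶ o')
    (ψ : resObj g o ⟶ resObj g o') (h : ψ.1 ≫ τ g o' = τ g o ≫ φ.1) : ψ = resMap g φ := by
  apply hom_ext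
  exact SC.lift_uniq g (τ g o') (τ_sc g o') (𝟙 V) (Category.id_comp _).symm (τ g o ≫ φ.1)
      (resMap_aux g φ) ψ.1 ψ.2 h

/-- The restriction functor. -/
noncomputable def res {U V : C} (g : V ⟶ U) : Obj 𝒳 U ⥤ Obj 𝒳 V where
  obj := resObj g
  map φ := resMap g φ
  map_id o := by
    symm
    apply resMap_uniq
    simp
  map_comp φ ψ := by
    symm
    apply resMap_uniq
    rw [val_comp, val_comp, Category.assoc, resMap_fac, ← Category.assoc, resMap_fac,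
      Category.assoc]

@[simp] theorem res_obj {U V : C} (g : V ⟶ U) (o : Obj 𝒳 U) : (res g).obj o = resObj g o := rfl
@[simp] theorem res_map {U V : C} (g : V ⟶ U) {o o' : Obj 𝒳 U} (φ : o ⟶ o') :
    (res g).map φ = resMap g φ := rfl

theorem resObj_id {U : C} (o : Obj 𝒳 U) : resObj (𝟙 U) o = o := by
  cases o; simp [resObj]

theorem resObj_comp {U V W : C} (g : V ⟶ U) (h : W ⟶ V) (o : Obj 𝒳 U) :
    resObj (h ≫ g) o = resObj h (resObj g o) := by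
  cases o; simp [resObj]

theorem τ_id {U : C} (o : Obj 𝒳 U) : τ (𝟙 U) o = eqToHom (congrArg pb (resObj_id o)) := by
  symm
  apply τ_uniq
  · exact IsHomLift.eqToHom_domain_lift_id _ (p_pb _)
  · rw [π_eq (resObj_id o)]
    simp

theorem τ_comp {U V W : C} (g : V ⟶ U) (h : W ⟶ V) (o : Obj 𝒳 U) :
    τ (h ≫ g) o = eqToHom (congrArg pb (resObj_comp g h o)) ≫ τ h (resObj g o) ≫ τ g o := by
  symm
  apply τ_uniq
  · have := τ_lift h (resObj g o)
    have := τ_lift g o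
    infer_instance
  · rw [Category.assoc, Category.assoc, τ_fac, τ_fac, π_eq (resObj_comp g h o)]
    simp

theorem res_id (U : C) : res (𝒳 := 𝒳) (𝟙 U) = 𝟭 _ := by
  refine CategoryTheory.Functor.ext (fun o => resObj_id o) (fun o o' φ => ?_)
  apply hom_ext
  have h := resMap_fac (𝟙 U) φ
  rw [τ_id, τ_id] at h
  simp only [res_map, Functor.id_map, val_comp, val_eqToHom]
  have h2 := congrArg (fun t => t ≫ eqToHom (congrArg pb (resObj_id o')).symm) h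
  simpa using h2

theorem res_comp {U V W : C} (g : V ⟶ U) (h : W ⟶ V) :
    res (𝒳 := 𝒳) (h ≫ g) = res g ⋙ res h := by
  refine CategoryTheory.Functor.ext (fun o => resObj_comp g h o) (fun o o' φ => ?_)
  apply hom_ext
  simp only [res_map, Functor.comp_map, val_comp, val_eqToHom]
  have hsc := τ_sc (h ≫ g) o'
  refine SC.cancel (h ≫ g) (τ (h ≫ g) o') hsc (𝟙 W) (resMap (h ≫ g) φ).2 ?_ ?_
  · have := (resMap h (resMap g φ)).2
    have l1 : 𝒳.p.IsHomLift (𝟙 W) (eqToHom (congrArg pb (resObj_comp g h o))) :=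
      IsHomLift.eqToHom_domain_lift_id _ (p_pb _)
    have l2 : 𝒳.p.IsHomLift (𝟙 W) (eqToHom (congrArg pb (resObj_comp g h o')).symm) :=
      IsHomLift.eqToHom_domain_lift_id _ (p_pb _)
    infer_instance
  · rw [resMap_fac, τ_comp g h o, τ_comp g h o']
    simp only [Category.assoc, eqToHom_trans_assoc, eqToHom_refl, Category.id_comp]
    rw [← Category.assoc (resMap h (resMap g φ)).1, resMap_fac, Category.assoc, resMap_fac]

variable (𝒳) in
/-- The strict functor of formal pullbacks. -/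
noncomputable def F : Cᵒᵖ ⥤ Cat.{v₂, max u₂ v} where
  obj U := Cat.of (Obj 𝒳 U.unop)
  map g := (res g.unop).toCatHom
  map_id U := by
    apply Cat.Hom.ext
    exact res_id U.unop
  map_comp g h := by
    apply Cat.Hom.ext
    exact res_comp g.unop h.unop


open Pseudofunctor Pseudofunctor.CoGrothendieck

variable (𝒳) in
/-- The split fibred category attached to `𝒳`. -/
abbrev Tot : Type _ := ∫ᶜ (F 𝒳).toPseudofunctor'

/-- The fibre component of a morphism of `Tot 𝒳`, as a morphism of formal pullbacks. -/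
def fib {X Y : Tot 𝒳} (f : X ⟶ Y) : Hom (U := X.base) X.fiber (resObj f.base Y.fiber) := f.fiber

theorem fib_id (X : Tot 𝒳) :
    (fib (𝟙 X)).val = eqToHom (congrArg pb (resObj_id (U := X.base) X.fiber)).symm := by
  have : fib (𝟙 X) = eqToHom (resObj_id (U := X.base) X.fiber).symm := by
    change ((F 𝒳).toPseudofunctor'.mapId ⟨op X.base⟩).inv.toNatTrans.app X.fiber = _
    simp [Cat.eqToHom_app]
  rw [this]
  exact val_eqToHom _


theorem fib_comp {X Y Z : Tot 𝒳} (f : X ⟶ Y) (g : Y ⟶ Z) :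
    (fib (f ≫ g)).val = (fib f).val ≫ (resMap f.base (fib g)).val ≫
      eqToHom (congrArg pb (resObj_comp g.base f.base Z.fiber)).symm := by
  have : fib (f ≫ g) = (fib f : X.fiber ⟶ resObj f.base Y.fiber) ≫
      (resMap f.base (fib g) : resObj f.base Y.fiber ⟶ resObj f.base (resObj g.base Z.fiber)) ≫
      eqToHom (resObj_comp g.base f.base Z.fiber).symm := by
    change f.fiber ≫ ((F 𝒳).toPseudofunctor'.map f.base.op.toLoc).toFunctor.map g.fiber ≫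
      ((F 𝒳).toPseudofunctor'.mapComp g.base.op.toLoc f.base.op.toLoc).inv.toNatTrans.app
        Z.fiber = _
    simp [Cat.eqToHom_app]
    rfl
  rw [this, val_comp, val_comp, val_eqToHom]


/-- The comparison functor on morphisms. -/
noncomputable def Gmap {X Y : Tot 𝒳} (f : X ⟶ Y) :
    pb (U := X.base) X.fiber ⟶ pb (U := Y.base) Y.fiber :=
  (fib f).val ≫ τ f.base Y.fiber

theorem Gmap_lift {X Y : Tot 𝒳} (f : X ⟶ Y) : 𝒳.p.IsHomLift f.base (Gmap f) := by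
  have h1 := (fib f).lift
  have h2 := τ_lift f.base Y.fiber
  have : 𝒳.p.IsHomLift (𝟙 X.base ≫ f.base) ((fib f).val ≫ τ f.base Y.fiber) := inferInstance
  rwa [Category.id_comp] at this

variable (𝒳) in
/-- The comparison functor from the split fibred category to `𝒳`. -/
noncomputable def Gfun : Tot 𝒳 ⥤ 𝒳.obj where
  obj X := pb (U := X.base) X.fiber
  map f := Gmap f
  map_id X := by
    change (fib (𝟙 X)).val ≫ τ (𝟙 X.base) X.fiber = 𝟙 _
    rw [fib_id, τ_id]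
    simp
  map_comp {X Y Z} f g := by
    change (fib (f ≫ g)).val ≫ τ (f.base ≫ g.base) Z.fiber =
      ((fib f).val ≫ τ f.base Y.fiber) ≫ ((fib g).val ≫ τ g.base Z.fiber)
    rw [fib_comp, τ_comp g.base f.base Z.fiber]
    simp only [Category.assoc, eqToHom_trans_assoc, eqToHom_refl, Category.id_comp]
    rw [← Category.assoc (resMap f.base (fib g)).val, resMap_fac, Category.assoc]

variable (𝒳) in
/-- The comparison functor as a functor over `C`. -/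
noncomputable def G : BasedCategory.ofFunctor (CoGrothendieck.forget (F 𝒳).toPseudofunctor') ⥤ᵇ 𝒳 where
  toFunctor := Gfun 𝒳
  w := by
    refine CategoryTheory.Functor.ext (fun X => p_pb (U := X.base) X.fiber) (fun X Y f => ?_)
    have := Gmap_lift f
    exact IsHomLift.fac' 𝒳.p f.base (Gmap f)


theorem hom_ext_tot {X Y : Tot 𝒳} (f f' : X ⟶ Y) (hb : f.base = f'.base)
    (hv : (fib f).val ≫ τ f.base Y.fiber = (fib f').val ≫ τ f'.base Y.fiber) : f = f' := by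
  obtain ⟨b, φ⟩ := f
  obtain ⟨b', φ'⟩ := f'
  dsimp at hb
  subst hb
  have h1 : (fib (⟨b, φ⟩ : X ⟶ Y)).val = (fib (⟨b, φ'⟩ : X ⟶ Y)).val :=
    SC.cancel b (τ b Y.fiber) (τ_sc b Y.fiber) (𝟙 X.base) (fib (⟨b, φ⟩ : X ⟶ Y)).lift
      (fib (⟨b, φ'⟩ : X ⟶ Y)).lift hv
  have h2 : fib (⟨b, φ⟩ : X ⟶ Y) = fib (⟨b, φ'⟩ : X ⟶ Y) := Hom.ext h1
  have h3 : φ = φ' := h2
  rw [h3]

theorem G_faithful : (G 𝒳).toFunctor.Faithful := by
  refine ⟨fun {X Y} f f' e => ?_⟩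
  have e' : Gmap f = Gmap f' := e
  have hb : f.base = f'.base := by
    have h1 := Gmap_lift f
    have h2 := Gmap_lift f'
    rw [← e'] at h2
    exact (IsHomLift.fac 𝒳.p f.base (Gmap f)).trans (IsHomLift.fac 𝒳.p f'.base (Gmap f)).symm
  exact hom_ext_tot f f' hb e'

theorem G_full : (G 𝒳).toFunctor.Full := by
  refine ⟨fun {X Y} β => ?_⟩
  let β' : pb (U := X.base) X.fiber ⟶ pb (U := Y.base) Y.fiber := β
  let b : X.base ⟶ Y.base :=
    eqToHom (p_pb (U := X.base) X.fiber).symm ≫ 𝒳.p.map β' ≫ eqToHom (p_pb (U := Y.base) Y.fiber)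
  have hβ : 𝒳.p.IsHomLift b β' := by
    change 𝒳.p.IsHomLift (eqToHom (p_pb (U := X.base) X.fiber).symm ≫ 𝒳.p.map β' ≫
      eqToHom (p_pb (U := Y.base) Y.fiber)) β'
    infer_instance
  let φ : Hom (U := X.base) X.fiber (resObj b Y.fiber) :=
    ⟨SC.lift b (τ b Y.fiber) (τ_sc b Y.fiber) (𝟙 X.base) (Category.id_comp _).symm β' hβ,
      SC.lift_isHomLift _ _ _ _ _ _ _⟩
  refine ⟨(⟨b, φ⟩ : X ⟶ Y), ?_⟩
  exact SC.lift_fac b (τ b Y.fiber) (τ_sc b Y.fiber) (𝟙 X.base) (Category.id_comp _).symm β' hβ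

theorem G_ess (x : 𝒳.obj) :
    ∃ (ξ : Tot 𝒳) (e : (G 𝒳).toFunctor.obj ξ ≅ x), 𝒳.p.IsHomLift (𝟙 (𝒳.p.obj x)) e.hom := by
  let o : Obj 𝒳 (𝒳.p.obj x) := ⟨x, 𝟙 _⟩
  have hsc : 𝒳.p.IsStronglyCartesian (𝟙 (𝒳.p.obj x)) (π o) := π_sc o
  haveI : IsIso (π o) := SC.isIso (π o) hsc
  exact ⟨⟨𝒳.p.obj x, o⟩, asIso (π o), hsc.toIsHomLift⟩

variable (𝒳) in
theorem G_isEquivOver : FibCat.IsEquivOver (G 𝒳) := by
  rw [EquivOverAux.isEquivOver_iff_ff_ess]
  exact ⟨⟨G_full, G_faithful⟩, G_ess⟩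

variable (𝒳) in
theorem exists_equiv :
    ∃ E : 𝒳 ⥤ᵇ BasedCategory.ofFunctor (CoGrothendieck.forget (F 𝒳).toPseudofunctor'),
      FibCat.IsEquivOver E := by
  obtain ⟨E, e1, e2⟩ := G_isEquivOver 𝒳
  exact ⟨E, G 𝒳, e2, e1⟩


theorem isGroupoid_F (h𝒳 : FibCat.IsFibGrpd 𝒳.p) (U : Cᵒᵖ) : IsGroupoid ((F 𝒳).obj U) := by
  refine ⟨fun {o o'} φ => ?_⟩
  let φ' : Hom (U := U.unop) o o' := φ
  haveI : IsIso φ'.val := DescentKit.FG.isIso h𝒳 φ'.val φ'.lift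
  have hl := φ'.lift
  let ψ : Hom (U := U.unop) o' o := ⟨inv φ'.val, inferInstance⟩
  refine ⟨⟨(ψ : o' ⟶ o), ?_, ?_⟩⟩
  · apply hom_ext
    change φ'.val ≫ inv φ'.val = 𝟙 _
    exact IsIso.hom_inv_id _
  · apply hom_ext
    change inv φ'.val ≫ φ'.val = 𝟙 _
    exact IsIso.inv_hom_id _

end Groth.Agent.Lib.Helper27.Strictify
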