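import Groth.Prelude.Def_TopMod
import Mathlib

/-! Auxiliary lemmas on topological modules with the deduced topology (helper27). -/

namespace Groth.Agent.Lib.Helper27.TopModAux

universe u v w

/-- An additive map from a topological group to a discrete space whose zero-fibre is a neighbourhood of `0`
is continuous. -/
theorem continuous_of_zeroFibre_mem_nhds {G : Type*} {H : Type*} [AddGroup G] [TopologicalSpace G]
    [IsTopologicalAddGroup G] [AddGroup H] [TopologicalSpace H] [DiscreteTopology H]
    (f : G → H) (hf : ∀ x y, f (x - y) = f x - f y) (h0 : {x | f x = 0} ∈ nhds (0 : G)) :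
    Continuous f := by
  rw [continuous_discrete_rng]
  intro z
  rw [isOpen_iff_mem_nhds]
  intro b hb
  have hb' : f b = z := hb
  have hcont : ContinuousAt (fun c : G => c - b) b :=
    (continuous_id.sub continuous_const).continuousAt
  have hT : Filter.Tendsto (fun c : G => c - b) (nhds b) (nhds 0) := by
    have := hcont.tendsto
    simpa using this
  have := hT h0
  refine Filter.mem_of_superset this ?_
  intro c hc
  have hc' : f (c - b) = 0 := hc
  rw [hf, sub_eq_zero] at hc'
  change f c = z
  rw [hc', hb']

end Groth.Agent.Lib.Helper27.TopModAux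

namespace Groth.Agent.Lib.Helper27.TopModAux

/-- Density gives approximation modulo an open subgroup-like neighbourhood of zero. -/
theorem exists_sub_mem_of_denseRange {G : Type*} {H : Type*} [AddGroup H] [TopologicalSpace H]
    [IsTopologicalAddGroup H] (f : G → H) (hf : DenseRange f) (S : Set H) (hS : S ∈ nhds (0 : H)) (y : H) :
    ∃ x : G, y - f x ∈ S := by
  have hcont : ContinuousAt (fun c : H => y - c) y :=
    (continuous_const.sub continuous_id).continuousAt
  have hT : Filter.Tendsto (fun c : H => y - c) (nhds y) (nhds 0) := by
    have := hcont.tendsto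
    simpa using this
  have hmem := hT hS
  obtain ⟨z, hz, ⟨x, rfl⟩⟩ := mem_closure_iff_nhds.1 (hf y) _ hmem
  exact ⟨x, hz⟩

end Groth.Agent.Lib.Helper27.TopModAux
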