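import Groth.Agent.Lib.Helper27.ToposColim3
import Mathlib.CategoryTheory.Sites.Canonical

/-!
# The canonical topology of a topos of sheaves of sets: the covering sieves are the jointly
locally surjective ones
-/

set_option autoImplicit false
set_option backward.isDefEq.respectTransparency false
set_option backward.isDefEq.respectTransparency.types false

universe w w' u

open CategoryTheory CategoryTheory.Limits Opposite

namespace Groth.Agent.Lib.Helper27.ToposColim

open ToposFin Groth.Agent.Lib.Helper13.ToposQC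

variable {C : Type u} [SmallCategory C] {J : GrothendieckTopology C}

/-- the family of all arrows of a sieve is jointly locally surjective -/
def SieveJLS {X : Sh J} (S : Sieve X) : Prop :=
  JLS (fun p : (Σ T : Sh J, {g : T ⟶ X // S g}) => p.2.1)

theorem sieveJLS_iff {X : Sh J} (S : Sieve X) :
    SieveJLS S ↔ ∀ (U : C) (x : X.obj.obj (op U)),
      Sieve.mk (fun V (f : V ⟶ U) => S (secMap J (X.obj.map f.op x))) (by
        intro V W f hf g
        change S _
        rw [map_comp_apply, ← epsMap_comp_secMap]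
        exact S.downward_closed hf _) ∈ J U := by
  constructor
  · intro h U x
    refine J.superset_covering ?_ (h U x)
    rintro V f ⟨⟨T, g, hg⟩, a, ha⟩
    change S _
    simp only at ha
    rw [← ha, ← secMap_comp]
    exact S.downward_closed hg _
  · intro h U x
    refine J.superset_covering ?_ (h U x)
    intro V f hf
    exact ⟨⟨eps J V, secMap J (X.obj.map f.op x), hf⟩, epsOf J (𝟙 V), secMap_self_epsOf J _⟩

theorem sieveJLS_pullback {X Y : Sh J} (S : Sieve X) (hS : SieveJLS S) (f : Y ⟶ X) :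
    SieveJLS (S.pullback f) := by
  rw [sieveJLS_iff] at hS ⊢
  intro U y
  refine J.superset_covering ?_ (hS U (f.hom.app (op U) y))
  intro V g hg
  change S _ at hg
  change S (secMap J (Y.obj.map g.op y) ≫ f)
  rw [secMap_comp, nat_apply]
  exact hg

theorem sieveJLS_ofArrows {X : Sh J} {ι : Type w} {F : ι → Sh J} (π : ∀ i, F i ⟶ X)
    (hπ : JLS π) : SieveJLS (Sieve.ofArrows F π) := by
  intro U x
  refine J.superset_covering ?_ (hπ U x)
  rintro V f ⟨i, a, ha⟩
  exact ⟨⟨F i, π i, Sieve.ofArrows_mk F π i⟩, a, ha⟩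

theorem isSheafFor_yoneda_of_sieveJLS {Y : Sh J} (R : Sieve Y) (hR : SieveJLS R) (Z : Sh J) :
    Presieve.IsSheafFor (yoneda.obj Z) R.arrows := by
  intro x hx
  have hg : DescCompat (fun p : (Σ T : Sh J, {g : T ⟶ Y // R g}) => p.2.1)
      (fun p => x p.2.1 p.2.2) := by
    rintro ⟨T, w, hw⟩ ⟨T', w', hw'⟩ U a b hab
    simp only at hab ⊢
    have h1 := hx (secMap J a) (secMap J b) hw hw' (by rw [secMap_comp, secMap_comp, hab])
    have h2 : secMap J a ≫ x w hw = secMap J b ≫ x w' hw' := h1
    rw [secMap_comp, secMap_comp] at h2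
    have h3 := congrArg (fun φ => φ.hom.app (op U) (epsOf J (𝟙 U))) h2
    simp only [secMap_self_epsOf] at h3
    exact h3
  obtain ⟨φ, hφ, huniq⟩ := existsUnique_desc hR hg
  refine ⟨φ, fun W w hw => hφ ⟨W, w, hw⟩, fun ψ hψ => huniq ψ (fun p => hψ p.2.1 p.2.2)⟩

theorem mem_canonical_of_sieveJLS {X : Sh J} (S : Sieve X) (hS : SieveJLS S) :
    S ∈ Sheaf.canonicalTopology (Sh J) X := by
  apply Sheaf.mem_finestTopology_of_forall_isSheafFor
  rintro P ⟨Z, rfl⟩ Y f
  exact isSheafFor_yoneda_of_sieveJLS _ (sieveJLS_pullback S hS f) Z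

theorem sieveJLS_of_mem_canonical {X : Sh J} (S : Sieve X)
    (hS : S ∈ Sheaf.canonicalTopology (Sh J) X) : SieveJLS S := by
  have hsmall : JLS (fun p : (Σ V : C, {x : X.obj.obj (op V) // S (secMap J x)}) =>
      secMap J p.2.1) := by
    apply jls_of_cancel
    intro Z a b hab
    have hsep := (Sheaf.isSheaf_yoneda_obj Z S hS).isSeparatedFor
    apply hsep.ext
    intro T g hg
    change g ≫ a = g ≫ b
    apply Sheaf.hom_ext
    ext U t
    have hS' : S (secMap J (g.hom.app U t)) := by
      rw [← secMap_comp]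
      exact S.downward_closed hg _
    have h1 := hab ⟨U.unop, g.hom.app U t, hS'⟩
    simp only at h1
    have h2 := congrArg (fun φ => φ.hom.app (op U.unop) (epsOf J (𝟙 U.unop))) h1
    simp only [comp_app_apply, secMap_self_epsOf] at h2
    exact h2
  intro U x
  refine J.superset_covering ?_ (hsmall U x)
  rintro V f ⟨⟨W, y, hy⟩, a, ha⟩
  exact ⟨⟨eps J W, secMap J y, hy⟩, a, ha⟩

theorem mem_canonical_iff {X : Sh J} (S : Sieve X) :
    S ∈ Sheaf.canonicalTopology (Sh J) X ↔ SieveJLS S :=
  ⟨sieveJLS_of_mem_canonical S, mem_canonical_of_sieveJLS S⟩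

/-- separatedness of a sheaf for the canonical topology along a jointly locally surjective
family -/
theorem ext_of_jls {G : (Sh J)ᵒᵖ ⥤ Type w'} (hG : Presieve.IsSheaf (Sheaf.canonicalTopology (Sh J)) G)
    {X : Sh J} {ι : Type w} {F : ι → Sh J} (π : ∀ i, F i ⟶ X) (hπ : JLS π)
    (α β : G.obj (op X)) (h : ∀ i, G.map (π i).op α = G.map (π i).op β) : α = β := by
  have hS := mem_canonical_of_sieveJLS _ (sieveJLS_ofArrows π hπ)
  apply (hG _ hS).isSeparatedFor.ext
  rintro T g ⟨W, r, _, ⟨i⟩, rfl⟩
  rw [op_comp, G.map_comp]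
  exact congrArg (G.map r.op) (h i)

end Groth.Agent.Lib.Helper27.ToposColim
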