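import Groth.Agent.Lib.Helper27.ToposCanon

/-!
# Sheaves of types for the canonical topology of a topos of sheaves of sets turn small colimits
into limits
-/

set_option autoImplicit false
set_option backward.isDefEq.respectTransparency false
set_option backward.isDefEq.respectTransparency.types false

universe w w' v u

open CategoryTheory CategoryTheory.Limits Opposite

namespace Groth.Agent.Lib.Helper27.ToposColim

open ToposFin Groth.Agent.Lib.Helper13.ToposQC

variable {C : Type u} [SmallCategory C] {J : GrothendieckTopology C}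

section

variable (G : (Sh J)ᵒᵖ ⥤ Type w')

theorem gmap_comp {A B D' : Sh J} (a : A ⟶ B) (b : B ⟶ D') (z : G.obj (op D')) :
    G.map (a ≫ b).op z = G.map a.op (G.map b.op z) := by
  rw [op_comp, G.map_comp]
  rfl

theorem gmap_id {A : Sh J} (z : G.obj (op A)) : G.map (𝟙 A).op z = z := by
  rw [op_id, G.map_id]
  rfl

variable {G}

theorem gmap_secMap_eq_of_secRel {I : Type w} [Category.{v} I] {D : I ⥤ Sh J}
    (x : ∀ i, G.obj (op (D.obj i)))
    (hx : ∀ {i i' : I} (m : i ⟶ i'), G.map (D.map m).op (x i') = x i)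
    {V : C} {p q : Σ k, (D.obj k).obj.obj (op V)} (h : SecRel D V p q) :
    G.map (secMap J p.2).op (x p.1) = G.map (secMap J q.2).op (x q.1) := by
  induction h with
  | rel p q h =>
    obtain ⟨m, hm⟩ := h
    obtain ⟨k, a⟩ := p
    obtain ⟨k', b⟩ := q
    simp only at hm m ⊢
    rw [hm, ← secMap_comp, gmap_comp, hx m]
  | refl p => rfl
  | symm p q _ ih => exact ih.symm
  | trans p q r _ _ ih1 ih2 => exact ih1.trans ih2

end

/-- a family of elements of `G` on a small diagram of sheaves, compatible with the transition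
maps -/
def CompatFam (G : (Sh J)ᵒᵖ ⥤ Type w') {I : Type w} [Category.{v} I] (D : I ⥤ Sh J)
    (x : ∀ i, G.obj (op (D.obj i))) : Prop :=
  ∀ {i i' : I} (m : i ⟶ i'), G.map (D.map m).op (x i') = x i

section Forward

variable {G : (Sh J)ᵒᵖ ⥤ Type w'}
  (hG : Presieve.IsSheaf (Sheaf.canonicalTopology (Sh J)) G)
  {I : Type u} [SmallCategory I] {D : I ⥤ Sh J} {c : Cocone D} (hc : IsColimit c)

include hc in
theorem jls_legs : JLS (fun i => c.ι.app i) := by
  apply (isEpiFamily_iff_jls _).1
  intro Z a b hab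
  exact hc.hom_ext hab

include hG hc in
theorem gmap_eq_of_comp_eq (x : ∀ i, G.obj (op (D.obj i))) (hx : CompatFam G D x)
    {T : Sh J} {i i' : I} (h : T ⟶ D.obj i) (h' : T ⟶ D.obj i')
    (hh : h ≫ c.ι.app i = h' ≫ c.ι.app i') :
    G.map h.op (x i) = G.map h'.op (x i') := by
  have hjls : JLS (fun idx : (Σ V : C, {t : T.obj.obj (op V) //
      SecRel D V ⟨i, h.hom.app (op V) t⟩ ⟨i', h'.hom.app (op V) t⟩}) => secMap J idx.2.1) := by
    intro U₀ t₀
    have e0 : (c.ι.app i).hom.app (op U₀) (h.hom.app (op U₀) t₀) =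
        (c.ι.app i').hom.app (op U₀) (h'.hom.app (op U₀) t₀) :=
      congrArg (fun φ => φ.hom.app (op U₀) t₀) hh
    refine J.superset_covering ?_ (secRelSieve_mem hc
      ⟨i, h.hom.app (op U₀) t₀⟩ ⟨i', h'.hom.app (op U₀) t₀⟩ e0)
    intro V g hg
    refine ⟨⟨V, T.obj.map g.op t₀, ?_⟩, epsOf J (𝟙 V), secMap_self_epsOf J _⟩
    rw [nat_apply, nat_apply]
    exact hg
  apply ext_of_jls hG _ hjls
  rintro ⟨V, t, ht⟩
  simp only
  rw [← gmap_comp, ← gmap_comp, secMap_comp, secMap_comp]
  exact gmap_secMap_eq_of_secRel x hx ht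

/-- the sieve generated by the legs of a cocone -/
def legSieve (c : Cocone D) : Sieve c.pt where
  arrows T g := ∃ (i : I) (h : T ⟶ D.obj i), h ≫ c.ι.app i = g
  downward_closed := by
    rintro T T' g ⟨i, h, rfl⟩ r
    exact ⟨i, r ≫ h, Category.assoc _ _ _⟩

include hc in
theorem legSieve_mem : legSieve c ∈ Sheaf.canonicalTopology (Sh J) c.pt := by
  apply mem_canonical_of_sieveJLS
  intro U x
  refine J.superset_covering ?_ (jls_legs hc U x)
  rintro V f ⟨i, a, ha⟩
  exact ⟨⟨D.obj i, c.ι.app i, ⟨i, 𝟙 _, Category.id_comp _⟩⟩, a, ha⟩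

/-- the family of elements on the sieve generated by the legs attached to a compatible family -/
noncomputable def legFam (x : ∀ i, G.obj (op (D.obj i))) :
    Presieve.FamilyOfElements G (legSieve c).arrows :=
  fun _ _ hg => G.map hg.choose_spec.choose.op (x hg.choose)

include hG hc in
theorem legFam_eq (x : ∀ i, G.obj (op (D.obj i))) (hx : CompatFam G D x)
    {T : Sh J} (g : T ⟶ c.pt) (hg : (legSieve c).arrows g) (i : I) (h : T ⟶ D.obj i)
    (hh : h ≫ c.ι.app i = g) : legFam x g hg = G.map h.op (x i) :=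
  gmap_eq_of_comp_eq hG hc x hx _ _ (hg.choose_spec.choose_spec.trans hh.symm)

include hG hc in
theorem legFam_compatible (x : ∀ i, G.obj (op (D.obj i))) (hx : CompatFam G D x) :
    (legFam (c := c) x).Compatible := by
  intro Y₁ Y₂ W g₁ g₂ f₁ f₂ h₁ h₂ hcomm
  obtain ⟨i₁, k₁, hk₁⟩ := id h₁
  obtain ⟨i₂, k₂, hk₂⟩ := id h₂
  rw [legFam_eq hG hc x hx f₁ h₁ i₁ k₁ hk₁, legFam_eq hG hc x hx f₂ h₂ i₂ k₂ hk₂]
  rw [← gmap_comp, ← gmap_comp]
  apply gmap_eq_of_comp_eq hG hc x hx
  rw [Category.assoc, Category.assoc, hk₁, hk₂, hcomm]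

include hG hc in
/-- a sheaf for the canonical topology turns small colimits into limits -/
theorem existsUnique_of_isSheaf_canonical (x : ∀ i, G.obj (op (D.obj i)))
    (hx : CompatFam G D x) :
    ∃! y : G.obj (op c.pt), ∀ i, G.map (c.ι.app i).op y = x i := by
  have hS := legSieve_mem hc
  have hcompat := legFam_compatible hG hc x hx
  refine ⟨(hG _ hS).amalgamate (legFam x) hcompat, ?_, ?_⟩
  · intro i
    have hi : (legSieve c).arrows (c.ι.app i) := ⟨i, 𝟙 _, Category.id_comp _⟩
    have h1 := (hG _ hS).valid_glue hcompat (c.ι.app i) hi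
    rw [legFam_eq hG hc x hx _ hi i (𝟙 _) (Category.id_comp _), gmap_id] at h1
    exact h1
  · intro y' hy'
    apply ext_of_jls hG _ (jls_legs hc)
    intro i
    have hi : (legSieve c).arrows (c.ι.app i) := ⟨i, 𝟙 _, Category.id_comp _⟩
    have h1 := (hG _ hS).valid_glue hcompat (c.ι.app i) hi
    rw [legFam_eq hG hc x hx _ hi i (𝟙 _) (Category.id_comp _), gmap_id] at h1
    exact (hy' i).trans h1.symm

end Forward

end Groth.Agent.Lib.Helper27.ToposColim
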