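import Groth.Agent.Lib.Helper27.ToposCanon2

/-!
# Presheaves of types on a topos of sheaves of sets which turn small colimits into limits are
sheaves for the canonical topology
-/

set_option autoImplicit false
set_option backward.isDefEq.respectTransparency false
set_option backward.isDefEq.respectTransparency.types false

universe w w' v u

open CategoryTheory CategoryTheory.Limits Opposite

namespace Groth.Agent.Lib.Helper27.ToposColim

open ToposFin Groth.Agent.Lib.Helper13.ToposQC

variable {C : Type u} [SmallCategory C] {J : GrothendieckTopology C}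

/-- the sections of `X` whose classifying map belongs to the sieve `S` -/
structure ElS {X : Sh J} (S : Sieve X) where
  /-- the object over which the section lives -/
  V : C
  /-- the section -/
  x : X.obj.obj (op V)
  /-- the classifying map of the section belongs to the sieve -/
  mem : S (secMap J x)

namespace ElS

variable {X : Sh J} {S : Sieve X}

instance : Category.{u} (ElS S) where
  Hom p q := {h : p.V ⟶ q.V // X.obj.map h.op q.x = p.x}
  id p := ⟨𝟙 _, by simp⟩
  comp f g := ⟨f.1 ≫ g.1, by rw [map_comp_apply, g.2, f.2]⟩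
  id_comp f := Subtype.ext (Category.id_comp _)
  comp_id f := Subtype.ext (Category.comp_id _)
  assoc f g h := Subtype.ext (Category.assoc _ _ _)

theorem comp_val {p q r : ElS S} (f : p ⟶ q) (g : q ⟶ r) : (f ≫ g).1 = f.1 ≫ g.1 := rfl

theorem id_val (p : ElS S) : (𝟙 p : p ⟶ p).1 = 𝟙 p.V := rfl

end ElS

theorem epsMap_id (V : C) : epsMap J (𝟙 V) = 𝟙 (eps J V) := by
  unfold epsMap
  rw [yoneda.map_id, (presheafToSheaf J (Type u)).map_id]

theorem epsMap_comp {U V W : C} (f : U ⟶ V) (g : V ⟶ W) :
    epsMap J (f ≫ g) = epsMap J f ≫ epsMap J g := by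
  unfold epsMap
  rw [yoneda.map_comp, (presheafToSheaf J (Type u)).map_comp]

section

variable {X : Sh J} (S : Sieve X)

/-- the diagram of representable sheaves indexed by the sections in the sieve -/
noncomputable def elD : ElS S ⥤ Sh J where
  obj p := eps J p.V
  map f := epsMap J f.1
  map_id p := epsMap_id p.V
  map_comp f g := epsMap_comp f.1 g.1

/-- the tautological cocone -/
noncomputable def elCocone : Cocone (elD S) where
  pt := X
  ι :=
    { app := fun p => secMap J p.x
      naturality := by
        intro p q f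
        change epsMap J f.1 ≫ secMap J q.x = secMap J p.x ≫ 𝟙 X
        rw [Category.comp_id, epsMap_comp_secMap, f.2] }

variable {S}

theorem jls_elCocone (hS : SieveJLS S) : JLS (fun p => (elCocone S).ι.app p) := by
  rw [sieveJLS_iff] at hS
  intro U x
  refine J.superset_covering ?_ (hS U x)
  intro V f hf
  exact ⟨⟨V, X.obj.map f.op x, hf⟩, epsOf J (𝟙 V), secMap_self_epsOf J _⟩

theorem epsOf_eq_epsMap {W V : C} (h : W ⟶ V) :
    epsOf J h = (epsMap J h).hom.app (op W) (epsOf J (𝟙 W)) := by
  rw [epsMap_epsOf, Category.id_comp]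

theorem chain_aux2 {Z : Sh J} {V U W : C} (σ : eps J V ⟶ Z) (g : W ⟶ U) (h : W ⟶ V)
    (a : (eps J V).obj.obj (op U)) (hh : epsOf J h = (eps J V).obj.map g.op a) :
    Z.obj.map g.op (σ.hom.app (op U) a) =
      (epsMap J h ≫ σ).hom.app (op W) (epsOf J (𝟙 W)) := by
  rw [comp_app_apply, ← epsOf_eq_epsMap, hh, nat_apply]

theorem descCompat_elCocone (s : Cocone (elD S)) :
    DescCompat (fun p => (elCocone S).ι.app p) (fun p => s.ι.app p) := by
  intro p q U a b hab
  change (secMap J p.x).hom.app (op U) a = (secMap J q.x).hom.app (op U) b at hab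
  have ha := epsOf_locally_surjective J a
  have hb := epsOf_locally_surjective J b
  apply (isSheaf_type s.pt _ (J.intersection_covering ha hb)).isSeparatedFor.ext
  rintro W g ⟨⟨(h : W ⟶ p.V), hh⟩, ⟨(h' : W ⟶ q.V), hh'⟩⟩
  have hh1 : epsOf J h = (eps J p.V).obj.map g.op a := hh
  have hh2 : epsOf J h' = (eps J q.V).obj.map g.op b := hh'
  have hy : X.obj.map h.op p.x = X.obj.map h'.op q.x := by
    rw [← secMap_epsOf, ← secMap_epsOf, hh1, hh2, nat_apply, nat_apply, hab]
  let r : ElS S := ⟨W, X.obj.map h.op p.x, by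
    rw [← epsMap_comp_secMap]
    exact S.downward_closed p.mem _⟩
  let m : r ⟶ p := ⟨h, rfl⟩
  let m' : r ⟶ q := ⟨h', hy.symm⟩
  have w1 : epsMap J h ≫ s.ι.app p = s.ι.app r := s.w m
  have w2 : epsMap J h' ≫ s.ι.app q = s.ι.app r := s.w m'
  have e1 : s.pt.obj.map g.op ((s.ι.app p).hom.app (op U) a) =
      (s.ι.app r).hom.app (op W) (epsOf J (𝟙 W)) := by
    rw [← w1]
    exact chain_aux2 (s.ι.app p) g h a hh1
  have e2 : s.pt.obj.map g.op ((s.ι.app q).hom.app (op U) b) =
      (s.ι.app r).hom.app (op W) (epsOf J (𝟙 W)) := by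
    rw [← w2]
    exact chain_aux2 (s.ι.app q) g h' b hh2
  exact e1.trans e2.symm

/-- a sheaf of sets is the colimit of the representable sheaves over its sections belonging to a
jointly locally surjective sieve -/
noncomputable def isColimitElCocone (hS : SieveJLS S) : IsColimit (elCocone S) :=
  isColimitOfJLS _ (jls_elCocone hS) descCompat_elCocone

end

theorem sieveJLS_top (X : Sh J) : SieveJLS (⊤ : Sieve X) := by
  rw [sieveJLS_iff]
  intro U x
  refine J.superset_covering ?_ (J.top_mem U)
  intro V f _
  trivial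

section Backward

variable {G : (Sh J)ᵒᵖ ⥤ Type w'}
  (hG : ∀ (I : Type u) [SmallCategory I] (D : I ⥤ Sh J) (c : Cocone D), IsColimit c →
    ∀ (x : ∀ i, G.obj (op (D.obj i))), CompatFam G D x →
      ∃! y : G.obj (op c.pt), ∀ i, G.map (c.ι.app i).op y = x i)

include hG in
theorem ext_of_forall_secMap {T : Sh J} (α β : G.obj (op T))
    (h : ∀ (V : C) (t : T.obj.obj (op V)), G.map (secMap J t).op α = G.map (secMap J t).op β) :
    α = β := by
  have hcol := isColimitElCocone (sieveJLS_top T)
  have hx : CompatFam G (elD (⊤ : Sieve T))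
      (fun p => G.map ((elCocone (⊤ : Sieve T)).ι.app p).op α) := by
    intro p q m
    rw [← gmap_comp]
    exact congrArg (fun φ => G.map (Quiver.Hom.op φ) α) ((elCocone (⊤ : Sieve T)).w m)
  obtain ⟨y, _, huniq⟩ := hG _ _ _ hcol _ hx
  have h1 := huniq α (fun _ => rfl)
  have h2 := huniq β (fun p => (h p.V p.x).symm)
  exact h1.trans h2.symm

include hG in
theorem isSheaf_canonical_of_existsUnique :
    Presieve.IsSheaf (Sheaf.canonicalTopology (Sh J)) G := by
  intro X S hS
  have hSJ := sieveJLS_of_mem_canonical S hS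
  have hcol := isColimitElCocone hSJ
  intro xf hxf
  have hx : CompatFam G (elD S) (fun p => xf (secMap J p.x) p.mem) := by
    intro p q m
    have h1 := hxf (epsMap J m.1) (𝟙 _) q.mem p.mem (by
      rw [Category.id_comp, epsMap_comp_secMap, m.2])
    rw [gmap_id] at h1
    exact h1
  obtain ⟨y, hy, huniq⟩ := hG _ _ _ hcol _ hx
  refine ⟨y, ?_, ?_⟩
  · intro T g hg
    apply ext_of_forall_secMap hG
    intro V t
    have hmem : S (secMap J (g.hom.app (op V) t)) := by
      rw [← secMap_comp]
      exact S.downward_closed hg _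
    have h1 := hy ⟨V, g.hom.app (op V) t, hmem⟩
    have h2 := hxf (secMap J t) (𝟙 _) hg hmem (by rw [Category.id_comp, secMap_comp])
    rw [gmap_id] at h2
    rw [← gmap_comp, secMap_comp]
    exact h1.trans h2.symm
  · intro y' hy'
    apply huniq
    intro p
    exact hy' (secMap J p.x) p.mem

end Backward

end Groth.Agent.Lib.Helper27.ToposColim
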