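import Groth.Agent.Lib.Helper27.ToposCanon3
import Mathlib.CategoryTheory.Limits.Yoneda
import Mathlib.CategoryTheory.Limits.Opposites

/-!
# A presheaf on a topos of sheaves of sets is a sheaf for the canonical topology iff it turns small
colimits into limits
-/

set_option autoImplicit false
set_option backward.isDefEq.respectTransparency false
set_option backward.isDefEq.respectTransparency.types false

universe w w' v u

open CategoryTheory CategoryTheory.Limits Opposite

namespace Groth.Agent.Lib.Helper27.ToposColim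

open ToposFin Groth.Agent.Lib.Helper13.ToposQC

variable {C : Type u} [SmallCategory C] {J : GrothendieckTopology C}
  {E' : Type v} [Category.{w} E'] (F : (Sh J)ᵒᵖ ⥤ E')

theorem preservesLimitsOfSize_of_isSheaf_canonical
    (hF : Presheaf.IsSheaf (Sheaf.canonicalTopology (Sh J)) F) :
    PreservesLimitsOfSize.{u, u} F := by
  refine ⟨fun {I} _ => ⟨fun {D'} => ⟨fun {c'} hc' => ⟨?_⟩⟩⟩⟩
  apply coyonedaJointlyReflectsLimits
  intro E
  refine Nonempty.some ((Types.isLimit_iff _).2 ?_)
  intro s hs
  have hG : Presieve.IsSheaf (Sheaf.canonicalTopology (Sh J)) (F ⋙ coyoneda.obj E) := hF E.unop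
  have hc := isColimitCoconeLeftOpOfCone D' hc'
  have hx : CompatFam (F ⋙ coyoneda.obj E) D'.leftOp (fun i => s i.unop) := by
    intro i i' m
    exact hs m.unop
  obtain ⟨y, hy, hu⟩ := existsUnique_of_isSheaf_canonical hG hc (fun i => s i.unop) hx
  exact ⟨y, fun j => hy (op j), fun y' hy' => hu y' (fun i => hy' i.unop)⟩

theorem isSheaf_canonical_of_preservesLimitsOfSize [PreservesLimitsOfSize.{u, u} F] :
    Presheaf.IsSheaf (Sheaf.canonicalTopology (Sh J)) F := by
  intro E
  apply isSheaf_canonical_of_existsUnique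
  intro I _ D c hc x hx
  haveI : PreservesLimit D.op (F ⋙ coyoneda.obj (op E)) := inferInstance
  have hl := isLimitOfPreserves (F ⋙ coyoneda.obj (op E)) hc.op
  have := (Types.isLimit_iff _).1 ⟨hl⟩ (fun j => x j.unop) (by
    intro j j' f
    exact hx f.unop)
  obtain ⟨y, hy, hu⟩ := this
  exact ⟨y, fun i => hy (op i), fun y' hy' => hu y' (fun j => hy' j.unop)⟩

theorem isSheaf_canonical_iff :
    Presheaf.IsSheaf (Sheaf.canonicalTopology (Sh J)) F ↔ PreservesLimitsOfSize.{u, u} F :=
  ⟨preservesLimitsOfSize_of_isSheaf_canonical F,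
    fun _ => isSheaf_canonical_of_preservesLimitsOfSize F⟩

end Groth.Agent.Lib.Helper27.ToposColim
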