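import Groth.Agent.Lib.Helper27.ExtFiltSec2
import Mathlib.CategoryTheory.Sites.PreservesSheafification
import Mathlib.CategoryTheory.Limits.Preserves.FunctorCategory

/-!
# The forgetful functor from abelian sheaves to sheaves of sets preserves filtered colimits
-/

set_option autoImplicit false
set_option backward.isDefEq.respectTransparency false
set_option backward.isDefEq.respectTransparency.types false

universe u

open CategoryTheory CategoryTheory.Limits Opposite

namespace Groth.Agent.Lib.Helper27.ToposCartan

open Groth.Agent.Lib.Helper27.ExtFilt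

variable {C : Type u} [SmallCategory C] (J : GrothendieckTopology C)

/-- the forgetful functor from abelian sheaves to sheaves of sets -/
abbrev Uf : Sheaf J AddCommGrpCat.{u} ⥤ Sheaf J (Type u) :=
  sheafCompose J (forget AddCommGrpCat.{u})

variable {J}
variable {I : Type u} [SmallCategory I] [IsFiltered I] (G : I ⥤ Sheaf J AddCommGrpCat.{u})

/-- postcomposition of presheaves with the forgetful functor -/
abbrev Wf : (Cᵒᵖ ⥤ AddCommGrpCat.{u}) ⥤ (Cᵒᵖ ⥤ Type u) :=
  (Functor.whiskeringRight Cᵒᵖ AddCommGrpCat.{u} (Type u)).obj (forget AddCommGrpCat.{u})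

instance : PreservesColimitsOfShape I (forget AddCommGrpCat.{u}) :=
  PreservesFilteredColimitsOfSize.preserves_filtered_colimits (F := forget AddCommGrpCat.{u}) I

/-- the cocone of underlying presheaves of sets -/
noncomputable abbrev preCoconeSet : Cocone ((G ⋙ Uf J) ⋙ sheafToPresheaf J (Type u)) :=
  (Wf (C := C)).mapCocone (colimit.cocone (preDiag G))

noncomputable def preCoconeSetIsColimit : IsColimit (preCoconeSet G) :=
  isColimitOfPreserves (Wf (C := C)) (colimit.isColimit (preDiag G))

/-- the comparison isomorphism on cocone points -/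
noncomputable def ptIso : (Sheaf.sheafifyCocone (preCoconeSet G)).pt ≅
    ((Uf J).mapCocone (stdCocone G)).pt where
  hom := ⟨(sheafifyComposeIso J (forget AddCommGrpCat.{u}) (colimit (preDiag G))).hom⟩
  inv := ⟨(sheafifyComposeIso J (forget AddCommGrpCat.{u}) (colimit (preDiag G))).inv⟩
  hom_inv_id := by
    apply Sheaf.hom_ext
    exact (sheafifyComposeIso J (forget AddCommGrpCat.{u}) (colimit (preDiag G))).hom_inv_id
  inv_hom_id := by
    apply Sheaf.hom_ext
    exact (sheafifyComposeIso J (forget AddCommGrpCat.{u}) (colimit (preDiag G))).inv_hom_id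

/-- the forgetful functor carries the standard colimit cocone to a colimit cocone -/
noncomputable def isColimitMapStd : IsColimit ((Uf J).mapCocone (stdCocone G)) := by
  refine (Sheaf.isColimitSheafifyCocone _ (preCoconeSetIsColimit G)).ofIsoColimit
    (Cocone.ext (ptIso G) ?_)
  intro i
  apply Sheaf.hom_ext
  change ((Sheaf.sheafifyCocone (preCoconeSet G)).ι.app i).hom ≫
    (sheafifyComposeIso J (forget AddCommGrpCat.{u}) (colimit (preDiag G))).hom =
    Functor.whiskerRight ((stdCocone G).ι.app i).hom (forget AddCommGrpCat.{u})
  have e1 := Sheaf.sheafifyCocone_ι_app_val (preCoconeSet G) i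
  have e2 := Sheaf.sheafifyCocone_ι_app_val (colimit.cocone (preDiag G)) i
  have e3 := sheafComposeIso_hom_fac J (forget AddCommGrpCat.{u}) (colimit (preDiag G))
  calc ((Sheaf.sheafifyCocone (preCoconeSet G)).ι.app i).hom ≫
        (sheafifyComposeIso J (forget AddCommGrpCat.{u}) (colimit (preDiag G))).hom
      = (Functor.whiskerRight (colimit.ι (preDiag G) i) (forget AddCommGrpCat.{u}) ≫
          toSheafify J (colimit (preDiag G) ⋙ forget AddCommGrpCat.{u})) ≫
        (sheafifyComposeIso J (forget AddCommGrpCat.{u}) (colimit (preDiag G))).hom :=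
        congrArg (fun φ => φ ≫
          (sheafifyComposeIso J (forget AddCommGrpCat.{u}) (colimit (preDiag G))).hom) e1
    _ = Functor.whiskerRight (colimit.ι (preDiag G) i) (forget AddCommGrpCat.{u}) ≫
          Functor.whiskerRight (toSheafify J (colimit (preDiag G))) (forget AddCommGrpCat.{u}) := by
        rw [Category.assoc, e3]
    _ = Functor.whiskerRight (colimit.ι (preDiag G) i ≫ toSheafify J (colimit (preDiag G)))
          (forget AddCommGrpCat.{u}) := (Functor.whiskerRight_comp _ _ _).symm
    _ = Functor.whiskerRight ((stdCocone G).ι.app i).hom (forget AddCommGrpCat.{u}) :=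
        congrArg (fun φ => Functor.whiskerRight φ (forget AddCommGrpCat.{u})) e2.symm

/-- the forgetful functor preserves filtered colimits -/
noncomputable def isColimitMap {c : Cocone G} (hc : IsColimit c) :
    IsColimit ((Uf J).mapCocone c) := by
  haveI : PreservesColimit G (Uf J) :=
    preservesColimit_of_preserves_colimit_cocone (stdIsColimit G) (isColimitMapStd G)
  exact isColimitOfPreserves (Uf J) hc

end Groth.Agent.Lib.Helper27.ToposCartan
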