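import Groth.Agent.Lib.Helper27.ToposFP3

/-!
# Finitely presentable objects: coequalizers and retracts
-/

set_option autoImplicit false
set_option backward.isDefEq.respectTransparency false
set_option backward.isDefEq.respectTransparency.types false

universe u

open CategoryTheory CategoryTheory.Limits Opposite

namespace Groth.Agent.Lib.Helper27.ToposFP

open ToposFin Groth.Agent.Lib.Helper13.ToposQC Groth.Agent.Lib.Helper27.ToposColim

variable {C : Type u} [SmallCategory C] {J : GrothendieckTopology C}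

theorem isFP_iff (X : Sh J) :
    IsFP X ↔ ∀ (I : Type u) [SmallCategory I] [IsFiltered I] (D : I ⥤ Sh J),
      InjAt X (colimit.cocone D) ∧ SurjAt X (colimit.cocone D) := by
  constructor
  · intro h I _ _ D
    exact (bijective_post_iff X).1 (h I D)
  · intro h I _ _ D
    exact (bijective_post_iff X).2 (h I D)

section

variable {I : Type u} [SmallCategory I] {D : I ⥤ Sh J} {c : Cocone D}

theorem injAt_of_epi {X Q : Sh J} (π : X ⟶ Q) [Epi π] (hX : InjAt X c) : InjAt Q c := by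
  intro i f g hfg
  obtain ⟨k, u, hu⟩ := hX i (π ≫ f) (π ≫ g) (by rw [Category.assoc, Category.assoc, hfg])
  refine ⟨k, u, ?_⟩
  rw [← cancel_epi π]
  simpa only [Category.assoc] using hu

theorem surjAt_of_isColimit_cofork {X₁ X₀ Q : Sh J} {a b : X₁ ⟶ X₀} {π : X₀ ⟶ Q}
    (w : a ≫ π = b ≫ π) (hQ : IsColimit (Cofork.ofπ π w)) (h1 : InjAt X₁ c)
    (h0 : SurjAt X₀ c) : SurjAt Q c := by
  intro h
  obtain ⟨i, f₀, hf₀⟩ := h0 (π ≫ h)
  have e : (a ≫ f₀) ≫ c.ι.app i = (b ≫ f₀) ≫ c.ι.app i := by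
    rw [Category.assoc, Category.assoc, hf₀, ← Category.assoc, ← Category.assoc, w]
  obtain ⟨k, u, hu⟩ := h1 i _ _ e
  have hu' : a ≫ (f₀ ≫ D.map u) = b ≫ (f₀ ≫ D.map u) := by
    simpa only [Category.assoc] using hu
  refine ⟨k, Cofork.IsColimit.desc hQ (f₀ ≫ D.map u) hu', ?_⟩
  apply Cofork.IsColimit.hom_ext hQ
  rw [← Category.assoc, Cofork.IsColimit.π_desc' hQ]
  change (f₀ ≫ D.map u) ≫ c.ι.app k = π ≫ h
  rw [Category.assoc, c.w, hf₀]

theorem injAt_of_retract {X Q : Sh J} (i : X ⟶ Q) (p : Q ⟶ X) (hip : i ≫ p = 𝟙 X)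
    (hQ : InjAt Q c) : InjAt X c := by
  intro k f g hfg
  obtain ⟨l, u, hu⟩ := hQ k (p ≫ f) (p ≫ g) (by rw [Category.assoc, Category.assoc, hfg])
  refine ⟨l, u, ?_⟩
  have := i ≫= hu
  simpa only [Category.assoc, reassoc_of% hip] using this

theorem surjAt_of_retract {X Q : Sh J} (i : X ⟶ Q) (p : Q ⟶ X) (hip : i ≫ p = 𝟙 X)
    (hQ : SurjAt Q c) : SurjAt X c := by
  intro h
  obtain ⟨k, f, hf⟩ := hQ (p ≫ h)
  refine ⟨k, i ≫ f, ?_⟩
  rw [Category.assoc, hf, ← Category.assoc, hip, Category.id_comp]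

end

theorem isFP_of_isColimit_cofork {X₁ X₀ Q : Sh J} {a b : X₁ ⟶ X₀} {π : X₀ ⟶ Q}
    (w : a ≫ π = b ≫ π) (hQ : IsColimit (Cofork.ofπ π w)) (h1 : IsFP X₁) (h0 : IsFP X₀) :
    IsFP Q := by
  rw [isFP_iff] at h1 h0 ⊢
  intro I _ _ D
  haveI : Epi π := by
    constructor
    intro Z f g hfg
    exact Cofork.IsColimit.hom_ext hQ hfg
  exact ⟨injAt_of_epi π (h0 I D).1, surjAt_of_isColimit_cofork w hQ (h1 I D).1 (h0 I D).2⟩

theorem isFP_coequalizer {X₁ X₀ : Sh J} (a b : X₁ ⟶ X₀) (h1 : IsFP X₁) (h0 : IsFP X₀) :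
    IsFP (coequalizer a b) :=
  isFP_of_isColimit_cofork (coequalizer.condition a b)
    ((coequalizerIsCoequalizer a b).ofIsoColimit (Cofork.ext (Iso.refl _) (by simp))) h1 h0

theorem isFP_of_retract {X Q : Sh J} (i : X ⟶ Q) (p : Q ⟶ X) (hip : i ≫ p = 𝟙 X) (hQ : IsFP Q) :
    IsFP X := by
  rw [isFP_iff] at hQ ⊢
  intro I _ _ D
  exact ⟨injAt_of_retract i p hip (hQ I D).1, surjAt_of_retract i p hip (hQ I D).2⟩

/-- finite presentability with respect to an arbitrary colimit cocone -/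
theorem surjAt_of_isFP {X : Sh J} (hX : IsFP X) {I : Type u} [SmallCategory I] [IsFiltered I]
    {D : I ⥤ Sh J} {c : Cocone D} (hc : IsColimit c) : SurjAt X c := by
  intro h
  let e := hc.coconePointUniqueUpToIso (colimit.isColimit D)
  obtain ⟨i, f, hf⟩ := ((isFP_iff X).1 hX I D).2 (h ≫ e.hom)
  refine ⟨i, f, ?_⟩
  rw [← cancel_mono e.hom, Category.assoc, hc.comp_coconePointUniqueUpToIso_hom]
  exact hf

/-- a retract of a coherent object is coherent -/
theorem isCoherent_of_retract {X Q : Sh J} (i : X ⟶ Q) (p : Q ⟶ X) (hip : i ≫ p = 𝟙 X)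
    (hQ : IsCoherent Q) : IsCoherent X := by
  haveI : IsSplitEpi p := ⟨⟨i, hip⟩⟩
  haveI : IsSplitMono i := ⟨⟨p, hip⟩⟩
  exact ⟨isQC_of_epi p hQ.1, isQS_of_mono i hQ.2⟩

end Groth.Agent.Lib.Helper27.ToposFP
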