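import Groth.Agent.Lib.Helper27.ToposCartan1
import Groth.Agent.Lib.Helper27.ToposFP5
import Groth.Agent.Lib.Helper27.ExtFilt3
import Groth.Agent.Lib.Helper6.CechCartan

/-!
# Maps out of the free abelian sheaf on a coherent object commute with filtered colimits
-/

set_option autoImplicit false
set_option backward.isDefEq.respectTransparency false
set_option backward.isDefEq.respectTransparency.types false

universe w u

open CategoryTheory CategoryTheory.Limits Opposite Abelian

namespace Groth.Agent.Lib.Helper27.ToposCartan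

open ToposFin Groth.Agent.Lib.Helper27.ExtFilt Groth.Agent.Lib.Helper27.ToposFP
open Groth.Agent.Lib.Helper6

variable {C : Type u} [SmallCategory C] {J : GrothendieckTopology C}
variable {I : Type u} [SmallCategory I] [IsFiltered I] (G : I ⥤ Sheaf J AddCommGrpCat.{u})

/-- the free abelian sheaf functor -/
noncomputable abbrev Φ : Sh J ⥤ Sheaf J AddCommGrpCat.{u} := CechCartan.Φ (J := J)

/-- the free-forgetful adjunction -/
noncomputable abbrev adj : Φ (J := J) ⊣ Uf J := CechCartan.adj (J := J)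

theorem hom_surj (hE : HasQCGenerators J) {T : Sh J} (hT : IsCoherent T) {c : Cocone G}
    (hc : IsColimit c) (x : (Φ (J := J)).obj T ⟶ c.pt) :
    ∃ (i : I) (xi : (Φ (J := J)).obj T ⟶ G.obj i), xi ≫ c.ι.app i = x := by
  have hfp := isFP_of_isCoherent hE hT
  obtain ⟨i, f, hf⟩ := surjAt_of_isFP hfp (isColimitMap G hc) ((adj (J := J)).homEquiv _ _ x)
  refine ⟨i, ((adj (J := J)).homEquiv _ _).symm f, ?_⟩
  apply ((adj (J := J)).homEquiv _ _).injective
  rw [Adjunction.homEquiv_naturality_right, Equiv.apply_symm_apply]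
  exact hf

theorem hom_inj {T : Sh J} (hT : IsQC T) {c : Cocone G} (hc : IsColimit c) (i : I)
    (x : (Φ (J := J)).obj T ⟶ G.obj i) (h : x ≫ c.ι.app i = 0) :
    ∃ (j : I) (u : i ⟶ j), x ≫ G.map u = 0 := by
  obtain ⟨k, u, hu⟩ := injAt_of_isQC hT (isColimitMap G hc) i ((adj (J := J)).homEquiv _ _ x)
    ((adj (J := J)).homEquiv _ _ 0) (by
      have e1 := Adjunction.homEquiv_naturality_right (adj (J := J)) x (c.ι.app i)
      have e2 := Adjunction.homEquiv_naturality_right (adj (J := J))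
        (0 : (Φ (J := J)).obj T ⟶ G.obj i) (c.ι.app i)
      rw [h] at e1
      rw [zero_comp] at e2
      exact e1.symm.trans e2)
  refine ⟨k, u, ?_⟩
  apply ((adj (J := J)).homEquiv _ _).injective
  have e1 := Adjunction.homEquiv_naturality_right (adj (J := J)) x (G.map u)
  have e2 := Adjunction.homEquiv_naturality_right (adj (J := J))
    (0 : (Φ (J := J)).obj T ⟶ G.obj i) (G.map u)
  rw [zero_comp] at e2
  exact e1.trans (hu.trans e2.symm)

variable [HasExt.{w} (Sheaf J AddCommGrpCat.{u})]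

theorem surjExt_zero (hE : HasQCGenerators J) {T : Sh J} (hT : IsCoherent T) :
    SurjExt ((Φ (J := J)).obj T) 0 G := by
  intro y
  obtain ⟨ψ, rfl⟩ := Ext.addEquiv₀.symm.surjective y
  obtain ⟨i, xi, hxi⟩ := hom_surj G hE hT (colimit.isColimit G) ψ
  refine ⟨i, Ext.mk₀ xi, ?_⟩
  rw [Ext.mk₀_comp_mk₀]
  change Ext.mk₀ _ = Ext.mk₀ ψ
  congr 1

theorem injExt_zero {T : Sh J} (hT : IsQC T) : InjExt ((Φ (J := J)).obj T) 0 G := by
  intro i x hx
  obtain ⟨φ, rfl⟩ := Ext.addEquiv₀.symm.surjective x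
  change (Ext.mk₀ φ).comp (Ext.mk₀ (colimit.ι G i)) (add_zero 0) = 0 at hx
  rw [Ext.mk₀_comp_mk₀, ← Ext.mk₀_zero] at hx
  have h1 : φ ≫ colimit.ι G i = 0 := (Ext.mk₀_bijective _ _).1 hx
  obtain ⟨j, u, hu⟩ := hom_inj G hT (colimit.isColimit G) i φ h1
  refine ⟨j, u, ?_⟩
  change (Ext.mk₀ φ).comp (Ext.mk₀ (G.map u)) (add_zero 0) = 0
  rw [Ext.mk₀_comp_mk₀, hu, Ext.mk₀_zero]

end Groth.Agent.Lib.Helper27.ToposCartan
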