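import Groth.Agent.Lib.Helper27.ToposCartan2

/-!
# Cartan's criterion relative to a class of objects and a class of good covers
-/

set_option autoImplicit false
set_option backward.isDefEq.respectTransparency false
set_option backward.isDefEq.respectTransparency.types false

universe u

open CategoryTheory CategoryTheory.Limits Opposite Abelian Simplicial AlgebraicTopology

namespace Groth.Agent.Lib.Helper27.ToposCartan

open ToposFin Groth.Agent.Lib.Helper6 Groth.Agent.Lib.Helper6.CechRes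
  Groth.Agent.Lib.Helper6.CechAcyc

variable {C : Type u} [SmallCategory C] {J : GrothendieckTopology C}

/-- lifting property of an object of the topos with respect to a short complex -/
def HasLift (S : ShortComplex (Sheaf J AddCommGrpCat.{u})) (L : Sh J) : Prop :=
  ∀ s : (Φ (J := J)).obj L ⟶ S.X₃, ∃ r : (Φ (J := J)).obj L ⟶ S.X₂, r ≫ S.g = s

/-- vanishing of the positive-degree Čech cohomology with respect to a morphism -/
def CechVanish (F : Sheaf J AddCommGrpCat.{u}) {K' K : Sh J} (f : K' ⟶ K) : Prop :=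
  ∀ q : ℕ, IsZero ((CohCx.cechNerveCx F f).homology (q + 1))

section

variable {S : ShortComplex (Sheaf J AddCommGrpCat.{u})} (hS : S.ShortExact)

include hS in
theorem hasLift_of_refine (K : Sh J)
    (href : ∀ (P : Sh J) (e : P ⟶ K), Epi e → ∃ (K' : Sh J) (f : K' ⟶ K) (k : K' ⟶ P),
      k ≫ e = f ∧ Epi f ∧ IsZero ((CohCx.cechNerveCx S.X₁ f).homology 1)) : HasLift S K := by
  intro s
  have := hS.epi_g
  let a : K ⟶ (CechCartan.U (J := J)).obj S.X₃ := (CechCartan.adj (J := J)).homEquiv _ _ s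
  let b : (CechCartan.U (J := J)).obj S.X₂ ⟶ (CechCartan.U (J := J)).obj S.X₃ :=
    (CechCartan.U (J := J)).map S.g
  have : Epi (pullback.fst a b) := CechCartan.epi_pullback_fst a b
  obtain ⟨K', f, k, hk, hf, hH⟩ := href _ (pullback.fst a b) inferInstance
  haveI := hf
  obtain ⟨t₀, ht₀⟩ : ∃ t₀ : (CechCartan.Φ (J := J)).obj K' ⟶ S.X₂,
      t₀ ≫ S.g = (CechCartan.Φ (J := J)).map f ≫ s := by
    refine ⟨((CechCartan.adj (J := J)).homEquiv _ _).symm (k ≫ pullback.snd a b), ?_⟩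
    rw [← Adjunction.homEquiv_naturality_right_symm, Category.assoc, ← pullback.condition,
      ← Category.assoc, hk, Adjunction.homEquiv_naturality_left_symm, Equiv.symm_apply_apply]
  have := CechRes.quasiIso_ε J f
  obtain ⟨t, ht⟩ : ∃ t : (P f).X 0 ⟶ S.X₂,
      t ≫ S.g = LeftAcyc.aug₀ (P f) (AlternatingFaceMapComplex.ε.app (Tg J f)) ≫ s := by
    refine ⟨(CechCartan.Φ (J := J)).map (WidePullback.π (fun _ : Fin (0 + 1) => f) 0) ≫ t₀, ?_⟩
    have hπ : (CechCartan.Φ (J := J)).map (WidePullback.π (fun _ : Fin (0 + 1) => f) 0) ≫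
        (CechCartan.Φ (J := J)).map f =
        (CechCartan.Φ (J := J)).map (WidePullback.base (fun _ : Fin (0 + 1) => f)) := by
      rw [← Functor.map_comp, WidePullback.π_arrow]
    rw [CechCartan.aug₀_eq, Category.assoc, ht₀]
    exact (Category.assoc _ _ _).symm.trans (congrArg (fun z => z ≫ s) hπ)
  exact LeftAcyc.exists_lift_of_exact₁ (P f) (AlternatingFaceMapComplex.ε.app (Tg J f)) hS
    (fun c hc => exists_factor_of_isZero S.X₁ f 0 hH c hc) s t ht

include hS in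
theorem cechVanish_X₃ {K' K : Sh J} (f : K' ⟶ K)
    (hl : ∀ n : ℕ, HasLift S ((Arrow.mk f).cechNerve.obj (op ⦋n⦌)))
    (h₁ : CechVanish S.X₁ f) (h₂ : CechVanish S.X₂ f) : CechVanish S.X₃ f := by
  intro q
  apply isZero_of_exists_factor
  exact LeftAcyc.exact_X₃ (P f) hS q (fun z => hl (q + 1) z)
    (fun c hc => exists_factor_of_isZero S.X₁ f (q + 1) (h₁ (q + 1)) c hc)
    (fun w hw => exists_factor_of_isZero S.X₂ f q (h₂ q) w hw)

end

/-- **Cartan's criterion relative to a class of objects and a class of good covers** -/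
theorem cartan_rel (𝒦 : Set (Sh J)) (𝒢 : ∀ ⦃K' K : Sh J⦄, (K' ⟶ K) → Prop)
    (hepi : ∀ ⦃K' K : Sh J⦄ (f : K' ⟶ K), 𝒢 f → Epi f)
    (G1 : ∀ K ∈ 𝒦, ∀ (P : Sh J) (e : P ⟶ K), Epi e →
      ∃ (K' : Sh J) (f : K' ⟶ K) (k : K' ⟶ P), k ≫ e = f ∧ 𝒢 f)
    (G2 : ∀ ⦃K' K : Sh J⦄ (f : K' ⟶ K), 𝒢 f → ∀ S : ShortComplex (Sheaf J AddCommGrpCat.{u}),
      S.ShortExact → (∀ L ∈ 𝒦, HasLift S L) →
      ∀ n : ℕ, HasLift S ((Arrow.mk f).cechNerve.obj (op ⦋n⦌)))
    (K : Sh J) (hK : K ∈ 𝒦) (n : ℕ) (F : Sheaf J AddCommGrpCat.{u})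
    (hF : ∀ ⦃K' K : Sh J⦄ (f : K' ⟶ K), 𝒢 f → CechVanish F f)
    (x : Ext ((Φ (J := J)).obj K) F (n + 1)) : x = 0 := by
  refine ExtAcyc.ext_succ_eq_zero_of_class ((Φ (J := J)).obj K)
    (fun F => ∀ ⦃K' K : Sh J⦄ (f : K' ⟶ K), 𝒢 f → CechVanish F f) ?_ n F hF x
  intro S hS h1 hinj
  have hlift : ∀ L ∈ 𝒦, HasLift S L := fun L hL => hasLift_of_refine hS L (fun P e he => by
    obtain ⟨K', f, k, hk, hf⟩ := G1 L hL P e he
    exact ⟨K', f, k, hk, hepi f hf, h1 f hf 0⟩)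
  refine ⟨fun K' K f hf => ?_, fun y => ?_⟩
  · haveI := hepi f hf
    haveI := hinj
    exact cechVanish_X₃ hS f (G2 f hf S hS hlift) (h1 f hf)
      (fun q => CechCartan.cechAcyclic_of_injective S.X₂ _ _ f inferInstance q)
  · obtain ⟨σ, rfl⟩ := Ext.addEquiv₀.symm.surjective y
    obtain ⟨r, hr⟩ := hlift K hK σ
    refine ⟨Ext.mk₀ r, ?_⟩
    rw [Ext.mk₀_comp_mk₀, hr]
    rfl

end Groth.Agent.Lib.Helper27.ToposCartan
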