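import Mathlib.CategoryTheory.Limits.Shapes.WidePullbacks
import Mathlib.CategoryTheory.Limits.Shapes.Pullback.HasPullback
import Mathlib.AlgebraicTopology.CechNerve

/-!
# Wide pullbacks of a constant family, recursively
-/

set_option autoImplicit false

universe v u

open CategoryTheory CategoryTheory.Limits Opposite Simplicial

namespace Groth.Agent.Lib.Helper27.ToposCartan

variable {D : Type u} [Category.{v} D] [HasPullbacks D]
  [HasWidePullbacks.{0} D] {K' K : D} (f : K' ⟶ K)

/-- the wide pullback of `n + 1` copies of `f` -/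
noncomputable abbrev Wn (n : ℕ) : D :=
  widePullback K (fun _ : Fin (n + 1) => K') (fun _ => f)

/-- the structure map of the wide pullback -/
noncomputable abbrev Wbase (n : ℕ) : Wn f n ⟶ K :=
  WidePullback.base (fun _ : Fin (n + 1) => f)

/-- the projections of the wide pullback -/
noncomputable abbrev Wπ (n : ℕ) (j : Fin (n + 1)) : Wn f n ⟶ K' :=
  WidePullback.π (fun _ : Fin (n + 1) => f) j

theorem Wπ_f (n : ℕ) (j : Fin (n + 1)) : Wπ f n j ≫ f = Wbase f n :=
  WidePullback.π_arrow (fun _ : Fin (n + 1) => f) j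

/-- lifting to the wide pullback -/
noncomputable abbrev Wlift (n : ℕ) {X : D} (b : X ⟶ K) (a : Fin (n + 1) → (X ⟶ K'))
    (w : ∀ j, a j ≫ f = b) : X ⟶ Wn f n :=
  WidePullback.lift b a w

theorem Wlift_π (n : ℕ) {X : D} (b : X ⟶ K) (a : Fin (n + 1) → (X ⟶ K'))
    (w : ∀ j, a j ≫ f = b) (j : Fin (n + 1)) : Wlift f n b a w ≫ Wπ f n j = a j :=
  WidePullback.lift_π _ _ _ _ j

theorem Wlift_base (n : ℕ) {X : D} (b : X ⟶ K) (a : Fin (n + 1) → (X ⟶ K'))
    (w : ∀ j, a j ≫ f = b) : Wlift f n b a w ≫ Wbase f n = b :=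
  WidePullback.lift_base _ _ _ _

theorem W_hom_ext (n : ℕ) {X : D} (g1 g2 : X ⟶ Wn f n)
    (h1 : ∀ j, g1 ≫ Wπ f n j = g2 ≫ Wπ f n j) (h2 : g1 ≫ Wbase f n = g2 ≫ Wbase f n) :
    g1 = g2 :=
  WidePullback.hom_ext _ _ _ h1 h2

/-- the wide pullback of a single copy -/
noncomputable def wnZeroIso : Wn f 0 ≅ K' where
  hom := Wπ f 0 0
  inv := Wlift f 0 f (fun _ => 𝟙 K') (fun _ => Category.id_comp f)
  hom_inv_id := by
    apply W_hom_ext
    · intro j
      have hj : j = 0 := Fin.ext (Nat.lt_one_iff.mp j.isLt)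
      subst hj
      rw [Category.assoc, Wlift_π, Category.comp_id, Category.id_comp]
    · rw [Category.assoc, Wlift_base, Category.id_comp, Wπ_f]
  inv_hom_id := Wlift_π f 0 _ _ _ 0

/-- the components of the inverse of the recursion isomorphism -/
noncomputable def succInvComp (n : ℕ) : Fin (n + 1 + 1) → (pullback (Wbase f n) f ⟶ K') :=
  Fin.cons (pullback.snd (Wbase f n) f) (fun j' => pullback.fst (Wbase f n) f ≫ Wπ f n j')

theorem succInvComp_zero (n : ℕ) : succInvComp f n 0 = pullback.snd (Wbase f n) f := rfl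

theorem succInvComp_succ (n : ℕ) (j : Fin (n + 1)) :
    succInvComp f n j.succ = pullback.fst (Wbase f n) f ≫ Wπ f n j := by
  unfold succInvComp
  rw [Fin.cons_succ]

theorem succInvComp_f (n : ℕ) (j : Fin (n + 1 + 1)) :
    succInvComp f n j ≫ f = pullback.fst (Wbase f n) f ≫ Wbase f n := by
  refine Fin.cases ?_ (fun j' => ?_) j
  · rw [succInvComp_zero]
    exact pullback.condition.symm
  · rw [succInvComp_succ, Category.assoc, Wπ_f]

/-- the forward map of the recursion -/
noncomputable def succHom (n : ℕ) : Wn f (n + 1) ⟶ pullback (Wbase f n) f :=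
  pullback.lift
    (Wlift f n (Wbase f (n + 1)) (fun j => Wπ f (n + 1) j.succ) (fun j => Wπ_f f (n + 1) j.succ))
    (Wπ f (n + 1) 0)
    (by rw [Wlift_base, Wπ_f])

/-- the backward map of the recursion -/
noncomputable def succInv (n : ℕ) : pullback (Wbase f n) f ⟶ Wn f (n + 1) :=
  Wlift f (n + 1) (pullback.fst (Wbase f n) f ≫ Wbase f n) (succInvComp f n) (succInvComp_f f n)

theorem succHom_fst_π (n : ℕ) (j : Fin (n + 1)) :
    succHom f n ≫ pullback.fst (Wbase f n) f ≫ Wπ f n j = Wπ f (n + 1) j.succ := by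
  unfold succHom
  rw [pullback.lift_fst_assoc, Wlift_π]

theorem succHom_fst_base (n : ℕ) :
    succHom f n ≫ pullback.fst (Wbase f n) f ≫ Wbase f n = Wbase f (n + 1) := by
  unfold succHom
  rw [pullback.lift_fst_assoc, Wlift_base]

theorem succHom_snd (n : ℕ) : succHom f n ≫ pullback.snd (Wbase f n) f = Wπ f (n + 1) 0 := by
  unfold succHom
  rw [pullback.lift_snd]

theorem succInv_π (n : ℕ) (j : Fin (n + 1 + 1)) :
    succInv f n ≫ Wπ f (n + 1) j = succInvComp f n j :=
  Wlift_π f (n + 1) _ _ _ j

theorem succInv_base (n : ℕ) :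
    succInv f n ≫ Wbase f (n + 1) = pullback.fst (Wbase f n) f ≫ Wbase f n :=
  Wlift_base f (n + 1) _ _ _

/-- the recursion: `n + 2` copies from `n + 1` copies -/
noncomputable def wnSuccIso (n : ℕ) : Wn f (n + 1) ≅ pullback (Wbase f n) f where
  hom := succHom f n
  inv := succInv f n
  hom_inv_id := by
    apply W_hom_ext
    · intro j
      rw [Category.assoc, succInv_π, Category.id_comp]
      refine Fin.cases ?_ (fun j' => ?_) j
      · rw [succInvComp_zero, succHom_snd]
      · rw [succInvComp_succ, succHom_fst_π]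
    · rw [Category.assoc, succInv_base, succHom_fst_base, Category.id_comp]
  inv_hom_id := by
    apply pullback.hom_ext
    · rw [Category.assoc, Category.id_comp]
      apply W_hom_ext
      · intro j
        rw [Category.assoc, Category.assoc, succHom_fst_π, succInv_π, succInvComp_succ]
      · rw [Category.assoc, Category.assoc, succHom_fst_base, succInv_base]
    · rw [Category.assoc, succHom_snd, succInv_π, succInvComp_zero, Category.id_comp]

end Groth.Agent.Lib.Helper27.ToposCartan
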