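import Groth.Agent.Lib.Helper27.ToposFP7
import Groth.Prelude.Def_ToposFin2

/-!
# Finitely presentable objects of a locally coherent topos
-/

set_option autoImplicit false
set_option backward.isDefEq.respectTransparency false
set_option backward.isDefEq.respectTransparency.types false

universe u

open CategoryTheory CategoryTheory.Limits Opposite

namespace Groth.Agent.Lib.Helper27.ToposFP

open ToposFin Groth.Agent.Lib.Helper13.ToposQC Groth.Agent.Lib.Helper27.ToposColim

variable {C : Type u} [SmallCategory C] {J : GrothendieckTopology C}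

/-- a finite coproduct of coherent objects is coherent -/
theorem isCoherent_sigma_of_finite {κ : Type u} [Finite κ] (G : κ → Sh J)
    (hG : ∀ k, IsCoherent (G k)) : IsCoherent (∐ G) := by
  have hc := coproductIsCoproduct G
  refine ⟨isQC_of_finite_jls G (Sigma.ι G) (jls_inj (Cofan.mk (∐ G) (Sigma.ι G)) hc)
    (fun k => (hG k).1), ?_⟩
  exact isQS_of_cofan (Cofan.mk (∐ G) (Sigma.ι G)) hc (fun k => (hG k).2)

theorem hasQCGenerators_of_hasCoherentGenerators (hE : HasCoherentGenerators J) :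
    HasQCGenerators J := by
  intro X
  obtain ⟨ι, F, π, hF, hπ⟩ := hE X
  exact ⟨ι, F, π, fun i => (hF i).1, hπ⟩

theorem exists_pres_coherent (hE : HasCoherentGenerators J) (X : Sh J) :
    ∃ P : Pres X, (∀ a, IsCoherent (P.G a)) ∧ (∀ b, IsCoherent (P.H b)) := by
  apply exists_pres IsCoherent
  intro Y
  obtain ⟨ι, F, π, hF, hπ⟩ := hE Y
  exact ⟨ι, F, π, hF, jls_of_epi π hπ⟩

/-- a finitely presentable object is a retract of a finite stage of any of its presentations -/
theorem exists_retract_of_isFP {X : Sh J} (hX : IsFP X) (P : Pres X) :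
    ∃ (st : P.Idx) (i : X ⟶ P.Q st), i ≫ P.toX st = 𝟙 X := by
  obtain ⟨st, i, hi⟩ := surjAt_of_isFP hX P.isColimit (𝟙 X)
  exact ⟨st, i, hi⟩

theorem isCoherent_X0 {X : Sh J} (P : Pres X) (hG : ∀ a, IsCoherent (P.G a)) (st : P.Idx) :
    IsCoherent (P.X0 st) :=
  isCoherent_sigma_of_finite _ (fun a => hG a)

theorem isCoherent_X1 {X : Sh J} (P : Pres X) (hH : ∀ b, IsCoherent (P.H b)) (st : P.Idx) :
    IsCoherent (P.X1 st) :=
  isCoherent_sigma_of_finite _ (fun b => hH b)

/-- the finite stages of a presentation by coherent objects are finitely presentable -/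
theorem isFP_Q (hE : HasQCGenerators J) {X : Sh J} (P : Pres X) (hG : ∀ a, IsCoherent (P.G a))
    (hH : ∀ b, IsCoherent (P.H b)) (st : P.Idx) : IsFP (P.Q st) :=
  isFP_coequalizer _ _ (isFP_of_isCoherent hE (isCoherent_X1 P hH st))
    (isFP_of_isCoherent hE (isCoherent_X0 P hG st))

/-- finitely presentable objects of a locally coherent topos -/
theorem isFP_iff_retract (hE : HasCoherentGenerators J) (X : Sh J) :
    IsFP X ↔ ∃ (X₀ X₁ : Sh J) (a b : X₁ ⟶ X₀) (i : X ⟶ coequalizer a b)
      (p : coequalizer a b ⟶ X), IsCoherent X₀ ∧ IsCoherent X₁ ∧ i ≫ p = 𝟙 X := by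
  have hE' := hasQCGenerators_of_hasCoherentGenerators hE
  constructor
  · intro hX
    obtain ⟨P, hG, hH⟩ := exists_pres_coherent hE X
    obtain ⟨st, i, hi⟩ := exists_retract_of_isFP hX P
    exact ⟨P.X0 st, P.X1 st, P.L st, P.R st, i, P.toX st, isCoherent_X0 P hG st,
      isCoherent_X1 P hH st, hi⟩
  · rintro ⟨X₀, X₁, a, b, i, p, h0, h1, hip⟩
    exact isFP_of_retract i p hip
      (isFP_coequalizer a b (isFP_of_isCoherent hE' h1) (isFP_of_isCoherent hE' h0))

theorem coherent_coequalizer_iff (hE : HasCoherentGenerators J) :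
    (∀ (X₀ X₁ : Sh J) (a b : X₁ ⟶ X₀), IsCoherent X₀ → IsCoherent X₁ →
        IsCoherent (coequalizer a b)) ↔
      (∀ X : Sh J, IsFP X → IsCoherent X) := by
  have hE' := hasQCGenerators_of_hasCoherentGenerators hE
  constructor
  · intro h X hX
    obtain ⟨X₀, X₁, a, b, i, p, h0, h1, hip⟩ := (isFP_iff_retract hE X).1 hX
    exact isCoherent_of_retract i p hip (h X₀ X₁ a b h0 h1)
  · intro h X₀ X₁ a b h0 h1
    exact h _ (isFP_coequalizer a b (isFP_of_isCoherent hE' h1) (isFP_of_isCoherent hE' h0))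

theorem filtered_colimit_coherent_iff (hE : HasCoherentGenerators J) :
    (∀ X : Sh J, ∃ (I : Type u) (_ : SmallCategory I) (_ : IsFiltered I) (D : I ⥤ Sh J),
        (∀ i, IsCoherent (D.obj i)) ∧ Nonempty (X ≅ colimit D)) ↔
      (∀ X : Sh J, IsFP X → IsCoherent X) := by
  have hE' := hasQCGenerators_of_hasCoherentGenerators hE
  constructor
  · intro h X hX
    obtain ⟨I, _, _, D, hD, ⟨e⟩⟩ := h X
    obtain ⟨i, f, hf⟩ := surjAt_of_isFP hX (colimit.isColimit D) e.hom
    refine isCoherent_of_retract f (colimit.ι D i ≫ e.inv) ?_ (hD i)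
    change f ≫ (colimit.cocone D).ι.app i ≫ e.inv = 𝟙 X
    rw [← Category.assoc, hf, e.hom_inv_id]
  · intro h X
    obtain ⟨P, hG, hH⟩ := exists_pres_coherent hE X
    exact ⟨P.Idx, inferInstance, inferInstance, P.diag,
      fun st => h _ (isFP_Q hE' P hG hH st),
      ⟨P.isColimit.coconePointUniqueUpToIso (colimit.isColimit P.diag)⟩⟩

end Groth.Agent.Lib.Helper27.ToposFP
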