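import Groth.Agent.Lib.Helper27.ToposCartan3
import Groth.Agent.Lib.Helper27.ToposCartan4
import Groth.Agent.Lib.Helper27.ToposFP8
import Groth.Agent.Lib.Helper13.ToposQC13
import Mathlib.CategoryTheory.Extensive
import Mathlib.CategoryTheory.Sites.LeftExact

/-!
# Finite coproducts of members of a class of objects of a topos, stable under fibre products
-/

set_option autoImplicit false
set_option backward.isDefEq.respectTransparency false
set_option backward.isDefEq.respectTransparency.types false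

universe u

open CategoryTheory CategoryTheory.Limits Opposite Abelian Simplicial

namespace Groth.Agent.Lib.Helper27.ToposCartan

open ToposFin Groth.Agent.Lib.Helper6 Groth.Agent.Lib.Helper27.ToposFP
  Groth.Agent.Lib.Helper13.ToposQC

variable {C : Type u} [SmallCategory C] {J : GrothendieckTopology C}

/-- finite coproducts of members of `S` -/
def FinSigma (S : Set (Sh J)) : Set (Sh J) :=
  {T | ∃ (κ : Type u) (_ : Finite κ) (G : κ → Sh J), (∀ a, G a ∈ S) ∧ Nonempty (∐ G ≅ T)}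

theorem finSigma_of_iso {S : Set (Sh J)} {T T' : Sh J} (e : T ≅ T') (h : T ∈ FinSigma S) :
    T' ∈ FinSigma S := by
  obtain ⟨κ, hκ, G, hG, ⟨e'⟩⟩ := h
  exact ⟨κ, hκ, G, hG, ⟨e' ≪≫ e⟩⟩

theorem mem_finSigma {S : Set (Sh J)} {K : Sh J} (hK : K ∈ S) : K ∈ FinSigma S := by
  refine ⟨PUnit.{u + 1}, inferInstance, fun _ => K, fun _ => hK, ⟨?_⟩⟩
  exact
    { hom := Sigma.desc (fun _ => 𝟙 K)
      inv := Sigma.ι (fun _ : PUnit.{u + 1} => K) PUnit.unit
      hom_inv_id := by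
        apply Sigma.hom_ext
        rintro ⟨⟩
        rw [Sigma.ι_desc_assoc, Category.id_comp, Category.comp_id]
      inv_hom_id := Sigma.ι_desc _ _ }

theorem finSigma_pullback {S : Set (Sh J)} (hpb : ClosedUnderPullbacks S) {T K' K : Sh J}
    (hT : T ∈ FinSigma S) (hK' : K' ∈ FinSigma S) (hK : K ∈ S) (t : T ⟶ K) (f : K' ⟶ K) :
    pullback t f ∈ FinSigma S := by
  obtain ⟨κ, hκ, G, hG, ⟨e₁⟩⟩ := hT
  obtain ⟨κ', hκ', G', hG', ⟨e₂⟩⟩ := hK'
  haveI := hκ
  haveI := hκ'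
  let t' : ∀ a, G a ⟶ K := fun a => Sigma.ι G a ≫ e₁.hom ≫ t
  let f' : ∀ b, G' b ⟶ K := fun b => Sigma.ι G' b ≫ e₂.hom ≫ f
  have h1 : Sigma.desc t' = e₁.hom ≫ t := by
    apply Sigma.hom_ext
    intro a
    rw [Sigma.ι_desc]
  have h2 : Sigma.desc f' = e₂.hom ≫ f := by
    apply Sigma.hom_ext
    intro b
    rw [Sigma.ι_desc]
  choose P p q hP hpbP using fun (ab : κ × κ') =>
    hpb (t' ab.1) (f' ab.2) (hG ab.1) (hG' ab.2) hK
  let iso1 : ∐ P ≅ ∐ (fun ab : κ × κ' => pullback (t' ab.1) (f' ab.2)) :=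
    Sigma.mapIso (fun ab => (hpbP ab).isoPullback)
  haveI := FinitaryPreExtensive.isIso_sigmaDesc_map t' f'
  let iso2 : ∐ (fun ab : κ × κ' => pullback (t' ab.1) (f' ab.2)) ≅
      pullback (Sigma.desc t') (Sigma.desc f') :=
    asIso (Sigma.desc fun (p : κ × κ') =>
      pullback.map (t' p.1) (f' p.2) (Sigma.desc t') (Sigma.desc f') (Sigma.ι _ p.1)
        (Sigma.ι _ p.2) (𝟙 K) (by simp) (by simp))
  let iso3 : pullback (Sigma.desc t') (Sigma.desc f') ≅ pullback t f :=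
    asIso (pullback.map (Sigma.desc t') (Sigma.desc f') t f e₁.hom e₂.hom (𝟙 K)
      (by rw [h1, Category.comp_id]) (by rw [h2, Category.comp_id]))
  exact ⟨κ × κ', inferInstance, P, hP, ⟨iso1 ≪≫ iso2 ≪≫ iso3⟩⟩

/-- the terms of the Čech nerve of a good cover are finite coproducts of members of `S` -/
theorem finSigma_Wn {S : Set (Sh J)} (hpb : ClosedUnderPullbacks S) {K' K : Sh J}
    (hK' : K' ∈ FinSigma S) (hK : K ∈ S) (f : K' ⟶ K) (n : ℕ) : Wn f n ∈ FinSigma S := by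
  induction n with
  | zero => exact finSigma_of_iso (wnZeroIso f).symm hK'
  | succ n ih =>
    exact finSigma_of_iso (wnSuccIso f n).symm (finSigma_pullback hpb ih hK' hK (Wbase f n) f)

theorem isCoherent_of_finSigma {S : Set (Sh J)} (hcoh : ∀ K ∈ S, IsCoherent K) {T : Sh J}
    (hT : T ∈ FinSigma S) : IsCoherent T := by
  obtain ⟨κ, hκ, G, hG, ⟨e⟩⟩ := hT
  haveI := hκ
  exact isCoherent_of_retract e.inv e.hom e.inv_hom_id
    (isCoherent_sigma_of_finite G (fun k => hcoh _ (hG k)))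

/-- the lifting property passes to finite coproducts -/
theorem hasLift_of_finSigma {S : Set (Sh J)} (X : ShortComplex (Sheaf J AddCommGrpCat.{u}))
    (hl : ∀ L ∈ S, HasLift X L) {T : Sh J} (hT : T ∈ FinSigma S) : HasLift X T := by
  obtain ⟨κ, hκ, G, hG, ⟨e⟩⟩ := hT
  intro s
  choose r hr using fun a => hl (G a) (hG a) ((Φ (J := J)).map (Sigma.ι G a ≫ e.hom) ≫ s)
  let r' : T ⟶ (Uf J).obj X.X₂ :=
    e.inv ≫ Sigma.desc (fun a => (adj (J := J)).homEquiv _ _ (r a))
  refine ⟨((adj (J := J)).homEquiv _ _).symm r', ?_⟩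
  apply ((adj (J := J)).homEquiv _ _).injective
  rw [Adjunction.homEquiv_naturality_right, Equiv.apply_symm_apply]
  rw [← cancel_epi e.hom]
  apply Sigma.hom_ext
  intro a
  have e1 : Sigma.ι G a ≫ e.hom ≫ r' ≫ (Uf J).map X.g =
      (adj (J := J)).homEquiv _ _ (r a) ≫ (Uf J).map X.g := by
    change Sigma.ι G a ≫ e.hom ≫ (e.inv ≫ Sigma.desc _) ≫ _ = _
    rw [Category.assoc, e.hom_inv_id_assoc, Sigma.ι_desc_assoc]
  rw [e1, ← Adjunction.homEquiv_naturality_right, hr a, Adjunction.homEquiv_naturality_left,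
    Category.assoc]

end Groth.Agent.Lib.Helper27.ToposCartan
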