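import Groth.Agent.Lib.Helper27.ToposCartan5

/-!
# Filtered colimits of injective abelian sheaves are acyclic on the members of a generating
class of quasi-compact objects stable under fibre products
-/

set_option autoImplicit false
set_option backward.isDefEq.respectTransparency false
set_option backward.isDefEq.respectTransparency.types false

universe u

open CategoryTheory CategoryTheory.Limits Opposite Abelian Simplicial

namespace Groth.Agent.Lib.Helper27.ToposCartan

open ToposFin Groth.Agent.Lib.Helper6 Groth.Agent.Lib.Helper27.ToposFP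
  Groth.Agent.Lib.Helper13.ToposQC Groth.Agent.Lib.Helper6.CechAcyc

variable {C : Type u} [SmallCategory C] {J : GrothendieckTopology C}
variable {I : Type u} [SmallCategory I] [IsFiltered I]

/-- Čech acyclicity with respect to a cover with coherent Čech nerve passes to filtered
colimits -/
theorem cechVanish_colimit (hE : HasQCGenerators J) {K' K : Sh J} (f : K' ⟶ K)
    (hW : ∀ n, IsCoherent (Wn f n)) (G : I ⥤ Sheaf J AddCommGrpCat.{u})
    (hG : ∀ i, CechVanish (G.obj i) f) : CechVanish (colimit G) f := by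
  intro q
  apply isZero_of_exists_factor
  intro x hx
  obtain ⟨i, xi, hxi⟩ := hom_surj G hE (hW (q + 1)) (colimit.isColimit G)
    (x : (Φ (J := J)).obj (Wn f (q + 1)) ⟶ colimit G)
  have h0 : ((P f).d (q + 2) (q + 1) ≫ xi) ≫ colimit.ι G i = 0 := by
    rw [Category.assoc]
    exact (congrArg (fun z => (P f).d (q + 2) (q + 1) ≫ z) hxi).trans hx
  obtain ⟨j, u, hu⟩ := hom_inj G (hW (q + 2)).1 (colimit.isColimit G) i
    (((P f).d (q + 2) (q + 1) ≫ xi : (P f).X (q + 2) ⟶ G.obj i) :
      (Φ (J := J)).obj (Wn f (q + 2)) ⟶ G.obj i) h0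
  obtain ⟨y, hy⟩ := exists_factor_of_isZero (G.obj j) f q (hG j q) (xi ≫ G.map u) (by
    rw [← Category.assoc]
    exact hu)
  refine ⟨y ≫ colimit.ι G j, ?_⟩
  rw [← Category.assoc, hy, Category.assoc, colimit.w]
  exact hxi

section Class

variable {S : Set (Sh J)} (hqc : ∀ K ∈ S, IsQC K) (hgen : IsGenerating S)
  (hpb : ClosedUnderPullbacks S)

/-- the good covers: epimorphisms from a finite coproduct of members of `S` onto a member -/
def Good (S : Set (Sh J)) ⦃K' K : Sh J⦄ (f : K' ⟶ K) : Prop :=
  Epi f ∧ K' ∈ FinSigma S ∧ K ∈ S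

include hqc hgen in
theorem exists_good (K : Sh J) (hK : K ∈ S) (P : Sh J) (e : P ⟶ K) (he : Epi e) :
    ∃ (K' : Sh J) (f : K' ⟶ K) (k : K' ⟶ P), k ≫ e = f ∧ Good S f := by
  obtain ⟨ι, F, π, hF, hπ⟩ := exists_cover_of_isGenerating hgen P
  have hjls : JLS (fun i => π i ≫ e) := by
    apply jls_of_cancel
    intro Z a b hab
    rw [← cancel_epi e]
    apply cancel_of_jls π hπ
    intro i
    simpa only [Category.assoc] using hab i
  obtain ⟨s, hs⟩ := (isQC_iff K).mp (hqc K hK) ι F (fun i => π i ≫ e) hjls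
  refine ⟨∐ (fun i : s => F i), Sigma.desc (fun i : s => π i ≫ e),
    Sigma.desc (fun i : s => π i), ?_, ?_, ?_, hK⟩
  · apply Sigma.hom_ext
    intro i
    rw [Sigma.ι_desc_assoc, Sigma.ι_desc]
  · exact epi_of_jls _ hs
  · exact ⟨s, inferInstance, fun i => F i, fun i => hF i, ⟨Iso.refl _⟩⟩

include hqc hgen hpb in
/-- **a filtered colimit of injective abelian sheaves is acyclic on the members of `S`** -/
theorem ext_colimit_eq_zero (G : I ⥤ Sheaf J AddCommGrpCat.{u}) (hG : ∀ i, Injective (G.obj i))
    (K : Sh J) (hK : K ∈ S) (p : ℕ) (y : Ext ((Φ (J := J)).obj K) (colimit G) (p + 1)) :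
    y = 0 := by
  have hE : HasQCGenerators J := hasQCGenerators_of_isGenerating hqc hgen
  have hcoh : ∀ K ∈ S, IsCoherent K := fun K hK => isCoherent_of_mem hqc hgen hpb hK
  refine cartan_rel S (Good S) (fun K' K f hf => hf.1)
    (fun K hK P e he => exists_good hqc hgen K hK P e he) ?_ K hK p (colimit G) ?_ y
  · intro K' K f hf X _ hl n
    exact hasLift_of_finSigma X hl (finSigma_Wn hpb hf.2.1 hf.2.2 f n)
  · intro K' K f hf
    haveI := hf.1
    apply cechVanish_colimit hE f
      (fun n => isCoherent_of_finSigma hcoh (finSigma_Wn hpb hf.2.1 hf.2.2 f n)) G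
    intro i
    haveI := hG i
    exact fun q => CechCartan.cechAcyclic_of_injective (G.obj i) _ _ f inferInstance q

end Class

end Groth.Agent.Lib.Helper27.ToposCartan
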