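import Groth.Agent.Lib.Helper27.ToposCartan6
import Groth.Agent.Lib.Helper27.ExtFilt3
import Groth.Agent.Lib.Helper13.ToposQC14
import Groth.Agent.Lib.Helper13.ToposQC12

/-!
# Cohomology of the members of a generating class of quasi-compact objects stable under
fibre products commutes with filtered colimits of abelian sheaves
-/

set_option autoImplicit false
set_option backward.isDefEq.respectTransparency false
set_option backward.isDefEq.respectTransparency.types false

universe u

open CategoryTheory CategoryTheory.Limits Opposite Abelian Simplicial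

namespace Groth.Agent.Lib.Helper27.ToposCartan

open ToposFin Groth.Agent.Lib.Helper6 Groth.Agent.Lib.Helper27.ToposFP
  Groth.Agent.Lib.Helper13.ToposQC Groth.Agent.Lib.Helper27.ExtFilt

variable {C : Type u} [SmallCategory C] {J : GrothendieckTopology C}
variable {I : Type u} [SmallCategory I] [IsFiltered I]

section Class

variable {S : Set (Sh J)} (hqc : ∀ K ∈ S, IsQC K) (hgen : IsGenerating S)
  (hpb : ClosedUnderPullbacks S)

include hqc hgen hpb in
theorem surjExt_injExt_of_mem (K : Sh J) (hK : K ∈ S) (p : ℕ)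
    (F : I ⥤ Sheaf J AddCommGrpCat.{u}) :
    SurjExt ((Φ (J := J)).obj K) p F ∧ InjExt ((Φ (J := J)).obj K) p F := by
  have hE : HasQCGenerators J := hasQCGenerators_of_isGenerating hqc hgen
  have hcoh : ∀ K ∈ S, IsCoherent K := fun K hK => isCoherent_of_mem hqc hgen hpb hK
  exact ExtFilt.surjExt_injExt (I := I) ((Φ (J := J)).obj K)
    (fun F => ⟨surjExt_zero F hE (hcoh K hK), injExt_zero F (hqc K hK)⟩)
    (fun F => exists_res F)
    (fun G hG p y => ext_colimit_eq_zero hqc hgen hpb G hG K hK p y) p F

include hqc hgen hpb in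
/-- **cohomology of a member of `S` commutes with filtered colimits** -/
theorem preservesColimit_ext_of_mem (K : Sh J) (hK : K ∈ S) (p : ℕ)
    (F : I ⥤ Sheaf J AddCommGrpCat.{u}) :
    PreservesColimit F (extFunctorObj ((Φ (J := J)).obj K) p) := by
  have H := surjExt_injExt_of_mem hqc hgen hpb K hK p F
  exact preservesColimit_extFunctorObj _ p F H.1 H.2

include hqc hgen hpb in
/-- **a filtered colimit of `S`-acyclic abelian sheaves is `S`-acyclic** -/
theorem subsingleton_ext_colimit (D : I ⥤ Sheaf J AddCommGrpCat.{u}) (K : Sh J) (hK : K ∈ S)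
    (q : ℕ) (hD : ∀ i, Subsingleton (Ext ((Φ (J := J)).obj K) (D.obj i) (q + 1))) :
    Subsingleton (Ext ((Φ (J := J)).obj K) (colimit D) (q + 1)) := by
  have H := (surjExt_injExt_of_mem hqc hgen hpb K hK (q + 1) D).1
  have h0 : ∀ y : Ext ((Φ (J := J)).obj K) (colimit D) (q + 1), y = 0 := by
    intro y
    obtain ⟨i, x, hx⟩ := H y
    have hx0 : x = 0 := (hD i).elim _ _
    rw [← hx, hx0, Ext.zero_comp]
  exact ⟨fun a b => (h0 a).trans (h0 b).symm⟩

end Class

section Algebraic

/-- in an algebraic topos the coherent objects are stable under fibre products -/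
theorem closedUnderPullbacks_coherent (hE : IsAlgebraic J) :
    ClosedUnderPullbacks {X : Sh J | IsCoherent X} := by
  obtain ⟨S, hqc, hgen, -, heq⟩ := hE
  intro K L M f g hK hL hM
  refine ⟨pullback f g, pullback.fst f g, pullback.snd f g, ⟨?_, ?_⟩, IsPullback.of_hasPullback f g⟩
  · exact hM.2 K L f g hK.1 hL.1
  · have hg : IsQSHom g := isQSHom_of_isQS_of_equalizers hqc hgen heq g hL.2
    exact isQS_of_isQSHom (pullback.fst f g) (isQSHom_fst f g hg) hK.2

theorem isGenerating_coherent (hE : IsAlgebraic J) :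
    IsGenerating {X : Sh J | IsCoherent X} := by
  obtain ⟨S, hqc, hgen, hpb, -⟩ := hE
  intro X
  obtain ⟨ι, F, π, hF, hπ⟩ := hgen X
  exact ⟨ι, F, π, fun i => isCoherent_of_mem hqc hgen hpb (hF i), hπ⟩

/-- **in an algebraic topos the cohomology of a coherent object commutes with filtered
colimits** -/
theorem preservesColimit_ext_of_coherent (hE : IsAlgebraic J) (K : Sh J) (hK : IsCoherent K)
    (p : ℕ) (F : I ⥤ Sheaf J AddCommGrpCat.{u}) :
    PreservesColimit F (extFunctorObj ((Φ (J := J)).obj K) p) :=
  preservesColimit_ext_of_mem (S := {X : Sh J | IsCoherent X}) (fun _ h => h.1)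
    (isGenerating_coherent hE) (closedUnderPullbacks_coherent hE) K hK p F

theorem surjExt_injExt_of_coherent (hE : IsAlgebraic J) (K : Sh J) (hK : IsCoherent K)
    (p : ℕ) (F : I ⥤ Sheaf J AddCommGrpCat.{u}) :
    SurjExt ((Φ (J := J)).obj K) p F ∧ InjExt ((Φ (J := J)).obj K) p F :=
  surjExt_injExt_of_mem (S := {X : Sh J | IsCoherent X}) (fun _ h => h.1)
    (isGenerating_coherent hE) (closedUnderPullbacks_coherent hE) K hK p F

end Algebraic

end Groth.Agent.Lib.Helper27.ToposCartan
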