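import Groth.Agent.Lib.Helper27.ToposCartan7
import Mathlib.CategoryTheory.Sites.ConstantSheaf
import Mathlib.CategoryTheory.Sites.SheafCohomology.Basic

/-!
# The free abelian sheaf on the terminal sheaf is the constant sheaf `ℤ`
-/

set_option autoImplicit false
set_option backward.isDefEq.respectTransparency false
set_option backward.isDefEq.respectTransparency.types false

universe u

open CategoryTheory CategoryTheory.Limits Opposite Abelian

namespace Groth.Agent.Lib.Helper27.ToposCartan

open ToposFin Groth.Agent.Lib.Helper6 Groth.Agent.Lib.Helper13.ToposQC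
  Groth.Agent.Lib.Helper27.ExtFilt

variable {C : Type u} [SmallCategory C] {J : GrothendieckTopology C}

/-- the sections of a terminal sheaf of sets form a singleton -/
noncomputable def uniqueSections {T : Sh J} (hT : IsTerminal T) (U : Cᵒᵖ) :
    Unique (T.obj.obj U) :=
  Types.isTerminalEquivUnique _ (hT.isTerminalObj (secFunctor J U) T)

/-- the free abelian presheaf on a terminal sheaf of sets is the constant presheaf `ℤ` -/
noncomputable def freeTerminalPresheafIso {T : Sh J} (hT : IsTerminal T) :
    T.obj ⋙ AddCommGrpCat.free.{u} ≅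
      (Functor.const Cᵒᵖ).obj (AddCommGrpCat.of (ULift.{u} ℤ)) :=
  NatIso.ofComponents
    (fun U =>
      letI := uniqueSections hT U
      ((FreeAbelianGroup.uniqueEquiv (T.obj.obj U)).trans
        AddEquiv.ulift.symm).toAddCommGrpIso)
    (by
      intro U V f
      letI := uniqueSections hT U
      letI := uniqueSections hT V
      apply AddCommGrpCat.hom_ext
      apply FreeAbelianGroup.lift_ext
      intro x
      apply ULift.ext
      change FreeAbelianGroup.lift (fun _ => (1 : ℤ))
        (FreeAbelianGroup.map (T.obj.map f) (FreeAbelianGroup.of x)) =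
        FreeAbelianGroup.lift (fun _ => (1 : ℤ)) (FreeAbelianGroup.of x)
      rw [FreeAbelianGroup.map_of_apply, FreeAbelianGroup.lift_apply_of,
        FreeAbelianGroup.lift_apply_of])

/-- the free abelian sheaf on a terminal sheaf of sets is the constant sheaf `ℤ` -/
noncomputable def freeTerminalIso {T : Sh J} (hT : IsTerminal T) :
    (Φ (J := J)).obj T ≅
      (constantSheaf J AddCommGrpCat.{u}).obj (AddCommGrpCat.of (ULift.{u} ℤ)) :=
  (presheafToSheaf J AddCommGrpCat.{u}).mapIso (freeTerminalPresheafIso hT)

variable {I : Type u} [SmallCategory I] [IsFiltered I]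

/-- transport of the preservation of a colimit along an isomorphism of the first variable -/
theorem preservesColimit_extFunctorObj_of_iso {Z Z' : Sheaf J AddCommGrpCat.{u}} (e : Z ≅ Z')
    (p : ℕ) (F : I ⥤ Sheaf J AddCommGrpCat.{u}) (h : PreservesColimit F (extFunctorObj Z p)) :
    PreservesColimit F (extFunctorObj Z' p) := by
  have e' : extFunctorObj Z p ≅ extFunctorObj Z' p := (extFunctor p).mapIso e.op.symm
  exact preservesColimit_of_natIso F e'

/-- **in a coherent topos cohomology commutes with filtered colimits** -/
theorem preservesColimit_functorH (hE : IsAlgebraic J) (hT : IsCoherent (⊤_ (Sh J))) (q : ℕ)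
    (F : I ⥤ Sheaf J AddCommGrpCat.{u}) :
    PreservesColimit F (Sheaf.functorH J q : Sheaf J AddCommGrpCat.{u} ⥤ AddCommGrpCat.{u}) := by
  have h := preservesColimit_extFunctorObj_of_iso (J := J)
    (freeTerminalIso (J := J) (T := ⊤_ (Sh J)) terminalIsTerminal) q F
    (preservesColimit_ext_of_coherent hE _ hT q F)
  exact h

end Groth.Agent.Lib.Helper27.ToposCartan
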