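import Groth.Agent.Lib.Helper27.ToposCartan7
import Groth.Agent.Lib.Helper27.ExtFilt4
import Groth.Agent.Lib.Helper6.TotAcycMono
import Groth.Prelude.Def_ToposFin2

/-!
# Cohomology with supports in the complement of a coherent open commutes with filtered colimits
-/

set_option autoImplicit false
set_option backward.isDefEq.respectTransparency false
set_option backward.isDefEq.respectTransparency.types false

universe u

open CategoryTheory CategoryTheory.Limits Opposite Abelian

namespace Groth.Agent.Lib.Helper27.ToposCartan

open ToposFin Groth.Agent.Lib.Helper6 Groth.Agent.Lib.Helper27.ExtFilt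

variable {C : Type u} [SmallCategory C] {J : GrothendieckTopology C}
variable {I : Type u} [SmallCategory I] [IsFiltered I]

/-- the short exact sequence `0 ⟶ Z_U ⟶ Z ⟶ Z / Z_U ⟶ 0` -/
noncomputable abbrev quotSeq (U : Sh J) : ShortComplex (Sheaf J AddCommGrpCat.{u}) :=
  ShortComplex.mk ((freeAb J).map (terminal.from U))
    (cokernel.π ((freeAb J).map (terminal.from U))) (cokernel.condition _)

theorem quotSeq_shortExact (U : Sh J) [Mono (terminal.from U)] : (quotSeq U).ShortExact where
  exact := ShortComplex.exact_cokernel _
  mono_f := TotAcycMono.mono_Φ_map J (terminal.from U)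
  epi_g := inferInstanceAs (Epi (cokernel.π ((freeAb J).map (terminal.from U))))

/-- **cohomology with supports in the complement of a coherent open of a coherent topos
commutes with filtered colimits** -/
theorem preservesColimit_HZ (hE : IsAlgebraic J) (hT : IsCoherent (⊤_ (Sh J))) (U : Sh J)
    [Mono (terminal.from U)] (hU : IsCoherent U) (q : ℕ) (F : I ⥤ Sheaf J AddCommGrpCat.{u}) :
    PreservesColimit F (HZFunctor U q) := by
  have H := surjExt_injExt_X₃ (quotSeq_shortExact U) F
    (fun n => surjExt_injExt_of_coherent hE U hU n F)
    (fun n => surjExt_injExt_of_coherent hE _ hT n F) q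
  exact preservesColimit_extFunctorObj (quotZ U) q F H.1 H.2

end Groth.Agent.Lib.Helper27.ToposCartan
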