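import Groth.Prelude.Def_SGA4a
import Groth.Prelude.Def_SGA4c
import Groth.Agent.Lib.Helper13.ToposEps5
import Groth.Agent.Lib.Helper13.ToposQC13
import Groth.Agent.Lib.Helper13.ToposGiraud

/-!
# Jointly locally surjective families are effective; a criterion for colimits of sheaves of sets
-/

set_option autoImplicit false
set_option backward.isDefEq.respectTransparency false
set_option backward.isDefEq.respectTransparency.types false

universe w w' u

open CategoryTheory CategoryTheory.Limits Opposite

namespace Groth.Agent.Lib.Helper27.ToposColim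

open ToposFin Groth.Agent.Lib.Helper13.ToposQC

variable {C : Type u} [SmallCategory C] {J : GrothendieckTopology C}

section Desc

variable {X Z : Sh J} {ι : Type w} {F : ι → Sh J} (π : ∀ i, F i ⟶ X) (g : ∀ i, F i ⟶ Z)

/-- the maps `g i` are compatible on the fibres of the `π i` -/
def DescCompat : Prop :=
  ∀ (i j : ι) (U : C) (a : (F i).obj.obj (op U)) (b : (F j).obj.obj (op U)),
    (π i).hom.app (op U) a = (π j).hom.app (op U) b →
      (g i).hom.app (op U) a = (g j).hom.app (op U) b

/-- the family of elements of `Z` on the lift sieve of a section of `X` -/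
noncomputable def descFam {U : C} (x : X.obj.obj (op U)) :
    Presieve.FamilyOfElements Z.obj (liftSieve π x).arrows :=
  fun V f hf => (g hf.choose).hom.app (op V) hf.choose_spec.choose

variable {π g}

theorem descFam_eq (hg : DescCompat π g) {U : C} (x : X.obj.obj (op U)) {V : C} (f : V ⟶ U)
    (hf : (liftSieve π x).arrows f) (i : ι) (a : (F i).obj.obj (op V))
    (ha : (π i).hom.app (op V) a = X.obj.map f.op x) :
    descFam π g x f hf = (g i).hom.app (op V) a :=
  hg _ _ _ _ _ (hf.choose_spec.choose_spec.trans ha.symm)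

theorem descFam_compatible (hg : DescCompat π g) {U : C} (x : X.obj.obj (op U)) :
    (descFam π g x).Compatible := by
  intro Y₁ Y₂ W g₁ g₂ f₁ f₂ h₁ h₂ hcomm
  obtain ⟨i, a, ha⟩ := id h₁
  obtain ⟨j, b, hb⟩ := id h₂
  rw [descFam_eq hg x f₁ h₁ i a ha, descFam_eq hg x f₂ h₂ j b hb]
  rw [← nat_apply, ← nat_apply]
  apply hg
  rw [nat_apply, nat_apply, ha, hb, ← map_comp_apply, ← map_comp_apply, hcomm]

theorem isSheaf_type (Z : Sh J) : Presieve.IsSheaf J Z.obj :=
  (isSheaf_iff_isSheaf_of_type _ _).1 Z.property

/-- the value of the descended map on a section -/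
noncomputable def descVal (hπ : JLS π) (hg : DescCompat π g) {U : C} (x : X.obj.obj (op U)) :
    Z.obj.obj (op U) :=
  (isSheaf_type Z _ (hπ U x)).amalgamate (descFam π g x) (descFam_compatible hg x)

theorem descVal_map (hπ : JLS π) (hg : DescCompat π g) {U : C} (x : X.obj.obj (op U))
    {V : C} (f : V ⟶ U) (i : ι) (a : (F i).obj.obj (op V))
    (ha : (π i).hom.app (op V) a = X.obj.map f.op x) :
    Z.obj.map f.op (descVal hπ hg x) = (g i).hom.app (op V) a := by
  have hf : (liftSieve π x).arrows f := ⟨i, a, ha⟩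
  have := (isSheaf_type Z _ (hπ U x)).valid_glue (descFam_compatible hg x) f hf
  rw [descFam_eq hg x f hf i a ha] at this
  exact this

theorem descVal_unique (hπ : JLS π) (hg : DescCompat π g) {U : C} (x : X.obj.obj (op U))
    (z : Z.obj.obj (op U))
    (hz : ∀ {V : C} (f : V ⟶ U) (i : ι) (a : (F i).obj.obj (op V)),
      (π i).hom.app (op V) a = X.obj.map f.op x → Z.obj.map f.op z = (g i).hom.app (op V) a) :
    z = descVal hπ hg x := by
  apply (isSheaf_type Z _ (hπ U x)).isSeparatedFor.ext
  rintro V f ⟨i, a, ha⟩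
  rw [descVal_map hπ hg x f i a ha]
  exact hz f i a ha

/-- the descended morphism -/
noncomputable def descHom (hπ : JLS π) (hg : DescCompat π g) : X ⟶ Z :=
  ⟨{ app := fun U => TypeCat.ofHom (fun x => descVal hπ hg (U := U.unop) x)
     naturality := by
      intro U U' h
      ext x
      change descVal hπ hg (X.obj.map h x) = Z.obj.map h (descVal hπ hg x)
      symm
      apply descVal_unique
      intro V f i a ha
      have h' : h = h.unop.op := rfl
      rw [h'] at ha ⊢
      rw [← map_comp_apply] at ha ⊢
      exact descVal_map hπ hg x _ i a ha }⟩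

theorem descHom_app (hπ : JLS π) (hg : DescCompat π g) {U : C} (x : X.obj.obj (op U)) :
    (descHom hπ hg).hom.app (op U) x = descVal hπ hg x := rfl

theorem fac_descHom (hπ : JLS π) (hg : DescCompat π g) (i : ι) : π i ≫ descHom hπ hg = g i := by
  apply Sheaf.hom_ext
  ext U a
  change descVal hπ hg ((π i).hom.app U a) = (g i).hom.app U a
  have := descVal_map hπ hg (U := U.unop) ((π i).hom.app U a) (𝟙 _) i a (by simp)
  simpa using this

theorem hom_ext_of_jls (hπ : JLS π) {φ ψ : X ⟶ Z} (h : ∀ i, π i ≫ φ = π i ≫ ψ) : φ = ψ := by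
  apply Sheaf.hom_ext
  ext U x
  apply (isSheaf_type Z _ (hπ U.unop x)).isSeparatedFor.ext
  rintro V f ⟨i, a, ha⟩
  have e1 : Z.obj.map f.op (φ.hom.app U x) = (π i ≫ φ).hom.app (op V) a := by
    rw [comp_app_apply, ha]
    exact (nat_apply φ f x).symm
  have e2 : Z.obj.map f.op (ψ.hom.app U x) = (π i ≫ ψ).hom.app (op V) a := by
    rw [comp_app_apply, ha]
    exact (nat_apply ψ f x).symm
  refine e1.trans (Eq.trans ?_ e2.symm)
  rw [h i]

/-- a jointly locally surjective family is effective epimorphic -/
theorem existsUnique_desc (hπ : JLS π) (hg : DescCompat π g) :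
    ∃! φ : X ⟶ Z, ∀ i, π i ≫ φ = g i :=
  ⟨descHom hπ hg, fac_descHom hπ hg, fun ψ hψ =>
    hom_ext_of_jls hπ fun i => (hψ i).trans (fac_descHom hπ hg i).symm⟩

end Desc

/-- a cocone of sheaves of sets with jointly locally surjective legs, along whose legs every
other cocone is compatible, is a colimit -/
noncomputable def isColimitOfJLS {I : Type w} [Category.{w'} I] {D : I ⥤ Sh J} (c : Cocone D)
    (h1 : JLS (fun k => c.ι.app k))
    (h2 : ∀ (s : Cocone D), DescCompat (fun k => c.ι.app k) (fun k => s.ι.app k)) :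
    IsColimit c where
  desc s := descHom h1 (h2 s)
  fac s k := fac_descHom h1 (h2 s) k
  uniq s m hm := hom_ext_of_jls h1 fun k => (hm k).trans (fac_descHom h1 (h2 s) k).symm

end Groth.Agent.Lib.Helper27.ToposColim
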