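import Groth.Agent.Lib.Helper27.ToposColim
import Mathlib.CategoryTheory.Sites.Limits
import Mathlib.CategoryTheory.Limits.Types.Colimits

/-!
# Sections of a colimit of sheaves of sets: two sections with the same image in the colimit are
locally connected by a zigzag in the diagram
-/

set_option autoImplicit false
set_option backward.isDefEq.respectTransparency false
set_option backward.isDefEq.respectTransparency.types false

universe w w' u

open CategoryTheory CategoryTheory.Limits Opposite

namespace Groth.Agent.Lib.Helper27.ToposColim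

open ToposFin Groth.Agent.Lib.Helper13.ToposQC

variable {C : Type u} [SmallCategory C] {J : GrothendieckTopology C}

theorem eqvGen_of_isColimit_types {I : Type u} [SmallCategory I] {F : I ⥤ Type u} {t : Cocone F}
    (ht : IsColimit t) {j j' : I} (x : F.obj j) (x' : F.obj j')
    (h : t.ι.app j x = t.ι.app j' x') :
    Relation.EqvGen F.ColimitTypeRel ⟨j, x⟩ ⟨j', x'⟩ := by
  apply Types.colimit_eq
  let e := ht.coconePointUniqueUpToIso (colimit.isColimit F)
  have he : ∀ k, t.ι.app k ≫ e.hom = colimit.ι F k := fun k =>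
    ht.comp_coconePointUniqueUpToIso_hom (colimit.isColimit F) k
  rw [← he, ← he]
  change e.hom (t.ι.app j x) = e.hom (t.ι.app j' x')
  rw [h]

section

variable {I : Type w} [Category.{w'} I] (D : I ⥤ Sh J)

/-- one step of the relation generating the colimit, on sections over `U` -/
def SecStep (U : C) (p q : Σ k, (D.obj k).obj.obj (op U)) : Prop :=
  ∃ m : p.1 ⟶ q.1, q.2 = (D.map m).hom.app (op U) p.2

/-- the equivalence relation generating the colimit, on sections over `U` -/
def SecRel (U : C) : (Σ k, (D.obj k).obj.obj (op U)) → (Σ k, (D.obj k).obj.obj (op U)) → Prop :=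
  Relation.EqvGen (SecStep D U)

/-- restriction of a section of a member of the diagram -/
def secRestr {U V : C} (f : V ⟶ U) (p : Σ k, (D.obj k).obj.obj (op U)) :
    Σ k, (D.obj k).obj.obj (op V) :=
  ⟨p.1, (D.obj p.1).obj.map f.op p.2⟩

theorem secRestr_comp {U V W : C} (f : V ⟶ U) (g : W ⟶ V) (p : Σ k, (D.obj k).obj.obj (op U)) :
    secRestr D g (secRestr D f p) = secRestr D (g ≫ f) p := by
  obtain ⟨k, a⟩ := p
  simp only [secRestr]
  rw [map_comp_apply]

theorem secRel_restr {U V : C} (f : V ⟶ U) {p q : Σ k, (D.obj k).obj.obj (op U)}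
    (h : SecRel D U p q) : SecRel D V (secRestr D f p) (secRestr D f q) := by
  induction h with
  | rel p q h =>
    obtain ⟨m, hm⟩ := h
    refine .rel _ _ ⟨m, ?_⟩
    obtain ⟨k, a⟩ := p
    obtain ⟨k', b⟩ := q
    simp only [secRestr] at hm ⊢
    rw [hm, nat_apply]
  | refl p => exact .refl _
  | symm p q _ ih => exact .symm _ _ ih
  | trans p q r _ _ ih1 ih2 => exact .trans _ _ _ ih1 ih2

/-- the sieve over which two sections become related -/
def secRelSieve {U : C} (p q : Σ k, (D.obj k).obj.obj (op U)) : Sieve U where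
  arrows V f := SecRel D V (secRestr D f p) (secRestr D f q)
  downward_closed := by
    intro V W f hf g
    have := secRel_restr D g hf
    rwa [secRestr_comp, secRestr_comp] at this

end

/-- two sections of members of a small diagram of sheaves with the same image in the colimit
are locally related -/
theorem secRelSieve_mem {I : Type u} [SmallCategory I] {D : I ⥤ Sh J} {c : Cocone D}
    (hc : IsColimit c) {U : C} (p q : Σ k, (D.obj k).obj.obj (op U))
    (h : (c.ι.app p.1).hom.app (op U) p.2 = (c.ι.app q.1).hom.app (op U) q.2) :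
    secRelSieve D p q ∈ J U := by
  let E : I ⥤ (Cᵒᵖ ⥤ Type u) := D ⋙ sheafToPresheaf J (Type u)
  let c₀ : Cocone D := Sheaf.sheafifyCocone (colimit.cocone E)
  have hc₀ : IsColimit c₀ := Sheaf.isColimitSheafifyCocone _ (colimit.isColimit E)
  let e := hc.coconePointUniqueUpToIso hc₀
  have he : ∀ k, c.ι.app k ≫ e.hom = c₀.ι.app k := fun k =>
    hc.comp_coconePointUniqueUpToIso_hom hc₀ k
  have h1 : (c₀.ι.app p.1).hom.app (op U) p.2 = (c₀.ι.app q.1).hom.app (op U) q.2 := by
    rw [← he, ← he]
    exact congrArg (fun z => e.hom.hom.app (op U) z) h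
  have h2 : ∀ (k : I) (x : (D.obj k).obj.obj (op U)), (c₀.ι.app k).hom.app (op U) x =
      (toSheafify J (colimit E)).app (op U) ((colimit.ι E k).app (op U) x) := by
    intro k x
    have := Sheaf.sheafifyCocone_ι_app_val (colimit.cocone E) k
    change ((Sheaf.sheafifyCocone (colimit.cocone E)).ι.app k).hom.app (op U) x = _
    rw [this]
    rfl
  rw [h2, h2] at h1
  have h3 := Presheaf.equalizerSieve_mem J (toSheafify J (colimit E)) (X := op U) _ _ h1
  refine J.superset_covering ?_ h3
  intro V f hf
  change (colimit E).map f.op ((colimit.ι E p.1).app (op U) p.2) =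
    (colimit E).map f.op ((colimit.ι E q.1).app (op U) q.2) at hf
  have nat : ∀ (k : I) (x : (D.obj k).obj.obj (op U)),
      (colimit E).map f.op ((colimit.ι E k).app (op U) x) =
        (colimit.ι E k).app (op V) ((D.obj k).obj.map f.op x) := fun k x =>
    (NatTrans.naturality_apply (colimit.ι E k) f.op x).symm
  rw [nat, nat] at hf
  let ev := (evaluation Cᵒᵖ (Type u)).obj (op V)
  have hev : IsColimit (ev.mapCocone (colimit.cocone E)) :=
    isColimitOfPreserves ev (colimit.isColimit E)
  have h4 := eqvGen_of_isColimit_types hev (j := p.1) (j' := q.1)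
    ((D.obj p.1).obj.map f.op p.2) ((D.obj q.1).obj.map f.op q.2) hf
  refine Relation.EqvGen.mono ?_ _ _ h4
  rintro ⟨k, a⟩ ⟨k', b⟩ ⟨m, hm⟩
  exact ⟨m, hm⟩

end Groth.Agent.Lib.Helper27.ToposColim
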