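import Groth.Agent.Lib.Helper27.ToposColim2

/-!
# A left exact functor between topoi of sheaves of sets which preserves jointly epimorphic
families preserves small colimits
-/

set_option autoImplicit false
set_option backward.isDefEq.respectTransparency false
set_option backward.isDefEq.respectTransparency.types false

universe w w' u

open CategoryTheory CategoryTheory.Limits Opposite

namespace Groth.Agent.Lib.Helper27.ToposColim

open ToposFin Groth.Agent.Lib.Helper13.ToposQC

variable {C C' : Type u} [SmallCategory C] [SmallCategory C'] {J : GrothendieckTopology C}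
  {J' : GrothendieckTopology C'}

theorem isEpiFamily_iff_jls {X : Sh J} {ι : Type u} {F : ι → Sh J} (π : ∀ i, F i ⟶ X) :
    SGA4.IsEpiFamily π ↔ JLS π :=
  ⟨fun h => jls_of_cancel π h, fun h => cancel_of_jls π h⟩

variable (f : Sh J ⥤ Sh J')

theorem map_secMap_eq_of_secRel {I : Type w} [Category.{w'} I] {D : I ⥤ Sh J}
    (s : Cocone (D ⋙ f)) {V : C} {p q : Σ k, (D.obj k).obj.obj (op V)} (h : SecRel D V p q) :
    f.map (secMap J p.2) ≫ s.ι.app p.1 = f.map (secMap J q.2) ≫ s.ι.app q.1 := by
  induction h with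
  | rel p q h =>
    obtain ⟨m, hm⟩ := h
    obtain ⟨k, a⟩ := p
    obtain ⟨k', b⟩ := q
    simp only at hm m ⊢
    rw [hm, ← secMap_comp, f.map_comp, Category.assoc]
    have := s.w m
    rw [← this]
    rfl
  | refl p => rfl
  | symm p q _ ih => exact ih.symm
  | trans p q r _ _ ih1 ih2 => exact ih1.trans ih2

theorem chain_aux {A P E Z : Sh J'} (σ : A ⟶ Z) (φ : P ⟶ A) (ψ : E ⟶ P) {U W : C'} (g : W ⟶ U)
    (p : P.obj.obj (op U)) (w : E.obj.obj (op W))
    (hw : ψ.hom.app (op W) w = P.obj.map g.op p) :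
    Z.obj.map g.op (σ.hom.app (op U) (φ.hom.app (op U) p)) =
      ((ψ ≫ φ) ≫ σ).hom.app (op W) w := by
  rw [comp_app_apply, comp_app_apply, hw, nat_apply, nat_apply]

/-- the zigzag-connected sections of a fibre product of two legs of a colimit cocone cover it -/
theorem jls_secMap_pullback {I : Type u} [SmallCategory I] {D : I ⥤ Sh J} {c : Cocone D}
    (hc : IsColimit c) (k k' : I) :
    JLS (fun idx : (Σ V : C, {q : (pullback (c.ι.app k) (c.ι.app k')).obj.obj (op V) //
        SecRel D V ⟨k, (pullback.fst (c.ι.app k) (c.ι.app k')).hom.app (op V) q⟩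
          ⟨k', (pullback.snd (c.ι.app k) (c.ι.app k')).hom.app (op V) q⟩}) =>
      secMap J idx.2.1) := by
  intro U₀ q₀
  refine J.superset_covering ?_ (secRelSieve_mem hc
    ⟨k, (pullback.fst (c.ι.app k) (c.ι.app k')).hom.app (op U₀) q₀⟩
    ⟨k', (pullback.snd (c.ι.app k) (c.ι.app k')).hom.app (op U₀) q₀⟩
    (condition_apply _ _ _ q₀))
  intro V g hg
  refine ⟨⟨V, (pullback (c.ι.app k) (c.ι.app k')).obj.map g.op q₀, ?_⟩, epsOf J (𝟙 V), ?_⟩
  · rw [nat_apply, nat_apply]
    exact hg
  · exact secMap_self_epsOf J _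

theorem isColimitMapCocone_aux (hf : SGA4.PreservesEpiFamilies.{u + 1, u + 1, u} f)
    [PreservesFiniteLimits f]
    {I : Type u} [SmallCategory I] {D : I ⥤ Sh J} {c : Cocone D} (hc : IsColimit c)
    (s : Cocone (D ⋙ f)) :
    DescCompat (fun k => (f.mapCocone c).ι.app k) (fun k => s.ι.app k) := by
  intro k k' U a b hab
  have hP : IsPullback (pullback.fst (c.ι.app k) (c.ι.app k'))
      (pullback.snd (c.ι.app k) (c.ι.app k')) (c.ι.app k) (c.ι.app k') :=
    IsPullback.of_hasPullback _ _
  have hfP := hP.map f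
  obtain ⟨p, hp1, hp2⟩ := exists_section_of_isPullback hfP (op U) a b hab
  have h1 := jls_secMap_pullback hc k k'
  have h2 := (isEpiFamily_iff_jls _).2 h1
  have h3 := hf _ _ _ _ h2
  have h4 := (isEpiFamily_iff_jls _).1 h3
  apply (isSheaf_type s.pt _ (h4 U p)).isSeparatedFor.ext
  rintro W g ⟨⟨V, q, hq⟩, w, hw⟩
  simp only at hw
  have key := map_secMap_eq_of_secRel f s hq
  simp only at key
  -- left side
  have e1 : s.pt.obj.map g.op ((s.ι.app k).hom.app (op U) a) =
      (f.map (secMap J ((pullback.fst (c.ι.app k) (c.ι.app k')).hom.app (op V) q)) ≫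
        s.ι.app k).hom.app (op W) w := by
    subst hp1
    rw [← secMap_comp, f.map_comp]
    exact chain_aux (s.ι.app k) (f.map (pullback.fst (c.ι.app k) (c.ι.app k')))
      (f.map (secMap J q)) g p w hw
  have e2 : s.pt.obj.map g.op ((s.ι.app k').hom.app (op U) b) =
      (f.map (secMap J ((pullback.snd (c.ι.app k) (c.ι.app k')).hom.app (op V) q)) ≫
        s.ι.app k').hom.app (op W) w := by
    subst hp2
    rw [← secMap_comp, f.map_comp]
    exact chain_aux (s.ι.app k') (f.map (pullback.snd (c.ι.app k) (c.ι.app k')))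
      (f.map (secMap J q)) g p w hw
  refine e1.trans (Eq.trans ?_ e2.symm)
  exact congrArg (fun φ => φ.hom.app (op W) w) key

/-- a left exact functor preserving small jointly epimorphic families preserves small colimits -/
noncomputable def isColimitMapCocone (hf : SGA4.PreservesEpiFamilies.{u + 1, u + 1, u} f)
    [PreservesFiniteLimits f]
    {I : Type u} [SmallCategory I] {D : I ⥤ Sh J} {c : Cocone D} (hc : IsColimit c) :
    IsColimit (f.mapCocone c) := by
  refine isColimitOfJLS _ ?_ (isColimitMapCocone_aux f hf hc)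
  apply (isEpiFamily_iff_jls _).1
  apply hf
  intro Z a b hab
  exact hc.hom_ext hab

theorem preservesColimitsOfSize (hf : SGA4.PreservesEpiFamilies.{u + 1, u + 1, u} f)
    [PreservesFiniteLimits f] : PreservesColimitsOfSize.{u, u} f :=
  ⟨fun {_} _ => ⟨fun {_} => ⟨fun hc => ⟨isColimitMapCocone f hf hc⟩⟩⟩⟩

end Groth.Agent.Lib.Helper27.ToposColim
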