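import Groth.Agent.Lib.Helper27.ToposColim3
import Mathlib.CategoryTheory.Limits.Presheaf
import Mathlib.CategoryTheory.Sites.Localization
import Mathlib.CategoryTheory.Localization.Adjunction

/-!
# A colimit preserving functor between topoi of sheaves of sets is a left adjoint
-/

set_option autoImplicit false
set_option backward.isDefEq.respectTransparency false
set_option backward.isDefEq.respectTransparency.types false

universe w w' u

open CategoryTheory CategoryTheory.Limits Opposite

namespace Groth.Agent.Lib.Helper27.ToposColim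

open ToposFin Groth.Agent.Lib.Helper13.ToposQC

variable {C C' : Type u} [SmallCategory C] [SmallCategory C'] {J : GrothendieckTopology C}
  {J' : GrothendieckTopology C'}

theorem isLeftAdjoint_of_preservesColimits (f : Sh J ⥤ Sh J')
    [PreservesColimitsOfSize.{u, u} f] : f.IsLeftAdjoint := by
  let a := presheafToSheaf J (Type u)
  let L : (Cᵒᵖ ⥤ Type u) ⥤ Sh J' := a ⋙ f
  haveI : PreservesColimitsOfSize.{u, u} L := inferInstance
  let A : C ⥤ Sh J' := uliftYoneda.{u} ⋙ L
  haveI := Presheaf.isLeftKanExtension_of_preservesColimits.{u} L (Iso.refl A)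
  let adj : L ⊣ Presheaf.restrictedULiftYoneda.{u} A :=
    Presheaf.uliftYonedaAdjunction.{u} L (Iso.refl A).hom
  let R := Presheaf.restrictedULiftYoneda.{u} A
  letI : CatCommSq L a (𝟭 (Sh J')) f := ⟨Functor.rightUnitor _⟩
  letI : CatCommSq R (𝟭 (Sh J')) a (R ⋙ a) := ⟨(Functor.leftUnitor _).symm⟩
  exact ⟨_, ⟨adj.localization a J.W (𝟭 _) (MorphismProperty.isomorphisms _) f (R ⋙ a)⟩⟩

theorem isLeftAdjoint_and_preservesColimits (f : Sh J ⥤ Sh J') [PreservesFiniteLimits f]
    (hf : SGA4.PreservesEpiFamilies.{u + 1, u + 1, u} f) :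
    f.IsLeftAdjoint ∧ PreservesColimitsOfSize.{u, u} f := by
  haveI := preservesColimitsOfSize f hf
  exact ⟨isLeftAdjoint_of_preservesColimits f, inferInstance⟩

end Groth.Agent.Lib.Helper27.ToposColim
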