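import Groth.Agent.Lib.Helper27.ToposCanon2
import Mathlib.CategoryTheory.Filtered.Basic
import Mathlib.CategoryTheory.Limits.Types.Filtered

/-!
# Finitely presentable objects of a topos of sheaves of sets: elementary reformulation
-/

set_option autoImplicit false
set_option backward.isDefEq.respectTransparency false
set_option backward.isDefEq.respectTransparency.types false

universe u

open CategoryTheory CategoryTheory.Limits Opposite

namespace Groth.Agent.Lib.Helper27.ToposFP

open ToposFin Groth.Agent.Lib.Helper13.ToposQC Groth.Agent.Lib.Helper27.ToposColim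

variable {C : Type u} [SmallCategory C] {J : GrothendieckTopology C}

section

variable {I : Type u} [SmallCategory I] {D : I ⥤ Sh J}

/-- two maps to a member of the diagram which agree in the colimit agree further along -/
def InjAt (X : Sh J) (c : Cocone D) : Prop :=
  ∀ (i : I) (f g : X ⟶ D.obj i), f ≫ c.ι.app i = g ≫ c.ι.app i →
    ∃ (k : I) (u : i ⟶ k), f ≫ D.map u = g ≫ D.map u

/-- every map to the colimit factors through a member of the diagram -/
def SurjAt (X : Sh J) (c : Cocone D) : Prop :=
  ∀ h : X ⟶ c.pt, ∃ (i : I) (f : X ⟶ D.obj i), f ≫ c.ι.app i = h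

variable [IsFiltered I]

theorem post_ι (X : Sh J) (i : I) (f : X ⟶ D.obj i) :
    colimit.post D (coyoneda.obj (op X)) (colimit.ι (D ⋙ coyoneda.obj (op X)) i f) =
      f ≫ colimit.ι D i := by
  have := ConcreteCategory.congr_hom (colimit.ι_post D (coyoneda.obj (op X)) i) f
  exact this

theorem injective_post_iff (X : Sh J) :
    Function.Injective (colimit.post D (coyoneda.obj (op X))) ↔ InjAt X (colimit.cocone D) := by
  constructor
  · intro h i f g hfg
    have h1 : colimit.ι (D ⋙ coyoneda.obj (op X)) i f =
        colimit.ι (D ⋙ coyoneda.obj (op X)) i g := by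
      apply h
      rw [post_ι, post_ι]
      exact hfg
    obtain ⟨k, u, hu⟩ := (Types.FilteredColimit.isColimit_eq_iff'
      (colimit.isColimit (D ⋙ coyoneda.obj (op X))) (i := i) f g).1 h1
    exact ⟨k, u, hu⟩
  · intro h x y hxy
    obtain ⟨i, f, rfl⟩ := Types.jointly_surjective' x
    obtain ⟨j, g, rfl⟩ := Types.jointly_surjective' y
    rw [post_ι, post_ι] at hxy
    let k := IsFiltered.max i j
    have e1 : (f ≫ D.map (IsFiltered.leftToMax i j)) ≫ (colimit.cocone D).ι.app k =
        (g ≫ D.map (IsFiltered.rightToMax i j)) ≫ (colimit.cocone D).ι.app k := by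
      rw [Category.assoc, Category.assoc]
      change f ≫ D.map _ ≫ colimit.ι D k = g ≫ D.map _ ≫ colimit.ι D k
      rw [colimit.w, colimit.w]
      exact hxy
    obtain ⟨l, u, hu⟩ := h k _ _ e1
    rw [Types.FilteredColimit.colimit_eq_iff]
    refine ⟨l, IsFiltered.leftToMax i j ≫ u, IsFiltered.rightToMax i j ≫ u, ?_⟩
    change f ≫ D.map _ = g ≫ D.map _
    rw [D.map_comp, D.map_comp, ← Category.assoc, hu, Category.assoc]

theorem surjective_post_iff (X : Sh J) :
    Function.Surjective (colimit.post D (coyoneda.obj (op X))) ↔ SurjAt X (colimit.cocone D) := by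
  constructor
  · intro h φ
    obtain ⟨x, hx⟩ := h φ
    obtain ⟨i, f, rfl⟩ := Types.jointly_surjective' x
    rw [post_ι] at hx
    exact ⟨i, f, hx⟩
  · intro h φ
    obtain ⟨i, f, hf⟩ := h φ
    exact ⟨colimit.ι (D ⋙ coyoneda.obj (op X)) i f, (post_ι X i f).trans hf⟩

theorem bijective_post_iff (X : Sh J) :
    Function.Bijective (colimit.post D (coyoneda.obj (op X))) ↔
      InjAt X (colimit.cocone D) ∧ SurjAt X (colimit.cocone D) := by
  rw [Function.Bijective, injective_post_iff, surjective_post_iff]

end

end Groth.Agent.Lib.Helper27.ToposFP
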