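import Groth.Agent.Lib.Helper27.ToposFP2
import Mathlib.CategoryTheory.Limits.Shapes.Pullback.HasPullback
import Mathlib.CategoryTheory.Filtered.Basic

/-!
# An object with `Hom(X, -)` injective on filtered colimits is quasi-compact
-/

set_option autoImplicit false
set_option backward.isDefEq.respectTransparency false
set_option backward.isDefEq.respectTransparency.types false

universe u

open CategoryTheory CategoryTheory.Limits Opposite

namespace Groth.Agent.Lib.Helper27.ToposFP

open ToposFin Groth.Agent.Lib.Helper13.ToposQC Groth.Agent.Lib.Helper27.ToposColim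

variable {C : Type u} [SmallCategory C] {J : GrothendieckTopology C}

section

variable {X : Sh J} {ι : Type u} {F : ι → Sh J} (π : ∀ i, F i ⟶ X)

/-- the cokernel pair of the finite subfamily indexed by `s` -/
noncomputable abbrev cokerObj (s : Finset ι) : Sh J :=
  pushout (Sigma.desc (fun i : s => π i)) (Sigma.desc (fun i : s => π i))

theorem coker_condition (s : Finset ι) (i : ι) (hi : i ∈ s) :
    π i ≫ (pushout.inl _ _ : X ⟶ cokerObj π s) = π i ≫ (pushout.inr _ _ : X ⟶ cokerObj π s) := by
  have := Sigma.ι (fun i : s => F i) ⟨i, hi⟩ ≫=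
    pushout.condition (f := Sigma.desc (fun i : s => π i)) (g := Sigma.desc (fun i : s => π i))
  rw [Sigma.ι_desc_assoc, Sigma.ι_desc_assoc] at this
  exact this

/-- the transition maps -/
noncomputable def cokerMap {s s' : Finset ι} (h : s ≤ s') : cokerObj π s ⟶ cokerObj π s' :=
  pushout.desc (pushout.inl _ _) (pushout.inr _ _) (by
    apply Sigma.hom_ext
    intro i
    rw [Sigma.ι_desc_assoc, Sigma.ι_desc_assoc]
    exact coker_condition π s' i.1 (h i.2))

@[reassoc]
theorem inl_cokerMap {s s' : Finset ι} (h : s ≤ s') :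
    (pushout.inl _ _ : X ⟶ cokerObj π s) ≫ cokerMap π h = pushout.inl _ _ :=
  pushout.inl_desc _ _ _

@[reassoc]
theorem inr_cokerMap {s s' : Finset ι} (h : s ≤ s') :
    (pushout.inr _ _ : X ⟶ cokerObj π s) ≫ cokerMap π h = pushout.inr _ _ :=
  pushout.inr_desc _ _ _

/-- the diagram of cokernel pairs of the finite subfamilies -/
noncomputable def cokerDiag : Finset ι ⥤ Sh J where
  obj s := cokerObj π s
  map u := cokerMap π (leOfHom u)
  map_id s := by
    apply pushout.hom_ext
    · rw [inl_cokerMap, Category.comp_id]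
    · rw [inr_cokerMap, Category.comp_id]
  map_comp u v := by
    apply pushout.hom_ext
    · rw [inl_cokerMap, inl_cokerMap_assoc, inl_cokerMap]
    · rw [inr_cokerMap, inr_cokerMap_assoc, inr_cokerMap]

end

/-- an object for which maps to a filtered colimit agreeing in the colimit agree further along is
quasi-compact -/
theorem isQC_of_injAt {X : Sh J}
    (h : ∀ (I : Type u) [SmallCategory I] [IsFiltered I] (D : I ⥤ Sh J),
      InjAt X (colimit.cocone D)) : IsQC X := by
  classical
  rw [isQC_iff]
  intro ι F π hπ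
  let D := cokerDiag π
  have e : (pushout.inl _ _ : X ⟶ cokerObj π ∅) ≫ (colimit.cocone D).ι.app ∅ =
      (pushout.inr _ _ : X ⟶ cokerObj π ∅) ≫ (colimit.cocone D).ι.app ∅ := by
    apply hom_ext_of_jls hπ
    intro i
    have hle : (∅ : Finset ι) ≤ {i} := Finset.empty_subset _
    have hw : D.map (homOfLE hle) ≫ colimit.ι D {i} = colimit.ι D ∅ := colimit.w D (homOfLE hle)
    change π i ≫ pushout.inl _ _ ≫ colimit.ι D ∅ = π i ≫ pushout.inr _ _ ≫ colimit.ι D ∅
    rw [← hw]
    change π i ≫ pushout.inl _ _ ≫ cokerMap π hle ≫ colimit.ι D {i} =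
      π i ≫ pushout.inr _ _ ≫ cokerMap π hle ≫ colimit.ι D {i}
    rw [inl_cokerMap_assoc, inr_cokerMap_assoc, ← Category.assoc, ← Category.assoc,
      coker_condition π {i} i (Finset.mem_singleton_self i)]
  obtain ⟨s, u, hu⟩ := h (Finset ι) D ∅ _ _ e
  change pushout.inl _ _ ≫ cokerMap π (leOfHom u) = pushout.inr _ _ ≫ cokerMap π (leOfHom u) at hu
  rw [inl_cokerMap, inr_cokerMap] at hu
  refine ⟨s, ?_⟩
  apply jls_of_cancel
  intro Z a b hab
  have hc : Sigma.desc (fun i : s => π i) ≫ a = Sigma.desc (fun i : s => π i) ≫ b := by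
    apply Sigma.hom_ext
    intro i
    rw [Sigma.ι_desc_assoc, Sigma.ι_desc_assoc]
    exact hab i
  have e1 : (pushout.inl _ _ : X ⟶ cokerObj π s) ≫ pushout.desc a b hc = a := pushout.inl_desc _ _ _
  have e2 : (pushout.inr _ _ : X ⟶ cokerObj π s) ≫ pushout.desc a b hc = b := pushout.inr_desc _ _ _
  exact e1.symm.trans ((congrArg (fun φ => φ ≫ pushout.desc a b hc) hu).trans e2)

end Groth.Agent.Lib.Helper27.ToposFP
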