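import Groth.Agent.Lib.Helper27.ToposFP5
import Groth.Agent.Lib.Helper13.ToposQC17

/-!
# Presentations of an object of a topos of sheaves of sets, and the filtered diagram of their
finite stages
-/

set_option autoImplicit false
set_option backward.isDefEq.respectTransparency false
set_option backward.isDefEq.respectTransparency.types false

universe u

open CategoryTheory CategoryTheory.Limits Opposite

namespace Groth.Agent.Lib.Helper27.ToposFP

open ToposFin Groth.Agent.Lib.Helper13.ToposQC Groth.Agent.Lib.Helper27.ToposColim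

variable {C : Type u} [SmallCategory C] {J : GrothendieckTopology C}

/-- a presentation of `X`: a covering family `G a ⟶ X`, and a family of relations `H b` covering
the fibre products of the members of the covering family -/
structure Pres (X : Sh J) where
  A : Type u
  G : A → Sh J
  p : ∀ a, G a ⟶ X
  hp : JLS p
  B : Type u
  H : B → Sh J
  l : B → A
  r : B → A
  lam : ∀ b, H b ⟶ G (l b)
  rho : ∀ b, H b ⟶ G (r b)
  w : ∀ b, lam b ≫ p (l b) = rho b ≫ p (r b)
  cov : ∀ (a a' : A) (U : C) (x : (G a).obj.obj (op U)) (y : (G a').obj.obj (op U)),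
    (p a).hom.app (op U) x = (p a').hom.app (op U) y →
    ∃ S ∈ J U, ∀ ⦃V : C⦄ (f : V ⟶ U), S f → ∃ (b : B) (z : (H b).obj.obj (op V)),
      (⟨l b, (lam b).hom.app (op V) z⟩ : Σ a, (G a).obj.obj (op V)) =
        ⟨a, (G a).obj.map f.op x⟩ ∧
      (⟨r b, (rho b).hom.app (op V) z⟩ : Σ a, (G a).obj.obj (op V)) =
        ⟨a', (G a').obj.map f.op y⟩

/-- every object has a presentation by members of a class of objects covering every object -/
theorem exists_pres (𝒢 : Sh J → Prop)
    (hgen : ∀ X : Sh J, ∃ (ι : Type u) (F : ι → Sh J) (π : ∀ i, F i ⟶ X),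
      (∀ i, 𝒢 (F i)) ∧ JLS π) (X : Sh J) :
    ∃ P : Pres X, (∀ a, 𝒢 (P.G a)) ∧ (∀ b, 𝒢 (P.H b)) := by
  obtain ⟨A, G, p, hG, hp⟩ := hgen X
  choose ι F π hF hπ using fun (aa : A × A) => hgen (pullback (p aa.1) (p aa.2))
  refine ⟨{
    A := A
    G := G
    p := p
    hp := hp
    B := Σ aa : A × A, ι aa
    H := fun b => F b.1 b.2
    l := fun b => b.1.1
    r := fun b => b.1.2
    lam := fun b => π b.1 b.2 ≫ pullback.fst _ _
    rho := fun b => π b.1 b.2 ≫ pullback.snd _ _
    w := fun b => by rw [Category.assoc, Category.assoc, pullback.condition]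
    cov := ?_ }, hG, fun b => hF b.1 b.2⟩
  intro a a' U x y hxy
  obtain ⟨z₀, hz1, hz2⟩ := exists_section_of_isPullback
    (IsPullback.of_hasPullback (p a) (p a')) (op U) x y hxy
  refine ⟨liftSieve (π (a, a')) z₀, hπ (a, a') U z₀, ?_⟩
  rintro V f ⟨i, z, hz⟩
  refine ⟨⟨(a, a'), i⟩, z, ?_, ?_⟩
  · refine congrArg (Sigma.mk a) ?_
    change (pullback.fst (p a) (p a')).hom.app (op V) ((π (a, a') i).hom.app (op V) z) = _
    rw [hz, nat_apply, hz1]
  · refine congrArg (Sigma.mk a') ?_
    change (pullback.snd (p a) (p a')).hom.app (op V) ((π (a, a') i).hom.app (op V) z) = _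
    rw [hz, nat_apply, hz2]

namespace Pres

variable {X : Sh J} (P : Pres X)

/-- the finite stages of a presentation -/
abbrev Idx : Type u :=
  {st : Finset P.A × Finset P.B // ∀ b ∈ st.2, P.l b ∈ st.1 ∧ P.r b ∈ st.1}

instance : Nonempty P.Idx := ⟨⟨(∅, ∅), by simp⟩⟩

instance : IsDirectedOrder P.Idx := by
  classical
  constructor
  intro st st'
  refine ⟨⟨(st.1.1 ∪ st'.1.1, st.1.2 ∪ st'.1.2), ?_⟩, ?_, ?_⟩
  · intro b hb
    rcases Finset.mem_union.1 hb with hb | hb
    · exact ⟨Finset.mem_union_left _ (st.2 b hb).1, Finset.mem_union_left _ (st.2 b hb).2⟩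
    · exact ⟨Finset.mem_union_right _ (st'.2 b hb).1, Finset.mem_union_right _ (st'.2 b hb).2⟩
  · exact ⟨Finset.subset_union_left, Finset.subset_union_left⟩
  · exact ⟨Finset.subset_union_right, Finset.subset_union_right⟩

theorem mem_of_le {st st' : P.Idx} (h : st ≤ st') {a : P.A} (ha : a ∈ st.1.1) : a ∈ st'.1.1 :=
  h.1 ha

theorem mem_of_le' {st st' : P.Idx} (h : st ≤ st') {b : P.B} (hb : b ∈ st.1.2) : b ∈ st'.1.2 :=
  h.2 hb

variable (st : P.Idx)

/-- the finite coproduct of generators -/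
noncomputable abbrev X0 : Sh J := ∐ (fun a : st.1.1 => P.G a)

/-- the finite coproduct of relations -/
noncomputable abbrev X1 : Sh J := ∐ (fun b : st.1.2 => P.H b)

/-- the left leg of the relations -/
noncomputable def L : P.X1 st ⟶ P.X0 st :=
  Sigma.desc (fun b => P.lam b ≫ Sigma.ι (fun a : st.1.1 => P.G a) ⟨P.l b, (st.2 b b.2).1⟩)

/-- the right leg of the relations -/
noncomputable def R : P.X1 st ⟶ P.X0 st :=
  Sigma.desc (fun b => P.rho b ≫ Sigma.ι (fun a : st.1.1 => P.G a) ⟨P.r b, (st.2 b b.2).2⟩)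

/-- the finite stage -/
noncomputable abbrev Q : Sh J := coequalizer (P.L st) (P.R st)

/-- the generators of the finite stage -/
noncomputable def q (a : P.A) (ha : a ∈ st.1.1) : P.G a ⟶ P.Q st :=
  Sigma.ι (fun a : st.1.1 => P.G a) ⟨a, ha⟩ ≫ coequalizer.π (P.L st) (P.R st)

theorem q_rel (b : P.B) (hb : b ∈ st.1.2) :
    P.lam b ≫ P.q st (P.l b) (st.2 b hb).1 = P.rho b ≫ P.q st (P.r b) (st.2 b hb).2 := by
  have := Sigma.ι (fun b : st.1.2 => P.H b) ⟨b, hb⟩ ≫= coequalizer.condition (P.L st) (P.R st)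
  unfold L R at this
  rw [Sigma.ι_desc_assoc, Sigma.ι_desc_assoc, Category.assoc, Category.assoc] at this
  exact this

section

variable {st} {Z : Sh J} (g : ∀ a, a ∈ st.1.1 → (P.G a ⟶ Z))
  (hg : ∀ (b : P.B) (hb : b ∈ st.1.2),
    P.lam b ≫ g (P.l b) (st.2 b hb).1 = P.rho b ≫ g (P.r b) (st.2 b hb).2)

/-- the universal property of the finite stage -/
noncomputable def descQ : P.Q st ⟶ Z :=
  coequalizer.desc (Sigma.desc (fun a : st.1.1 => g a a.2)) (by
    unfold L R
    apply Sigma.hom_ext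
    intro b
    rw [Sigma.ι_desc_assoc, Sigma.ι_desc_assoc, Category.assoc, Category.assoc, Sigma.ι_desc,
      Sigma.ι_desc]
    exact hg b b.2)

@[reassoc]
theorem q_descQ (a : P.A) (ha : a ∈ st.1.1) : P.q st a ha ≫ P.descQ g hg = g a ha := by
  unfold q descQ
  rw [Category.assoc, coequalizer.π_desc, Sigma.ι_desc]

theorem Q_hom_ext {φ ψ : P.Q st ⟶ Z} (h : ∀ a ha, P.q st a ha ≫ φ = P.q st a ha ≫ ψ) : φ = ψ := by
  apply coequalizer.hom_ext
  apply Sigma.hom_ext
  rintro ⟨a, ha⟩
  have := h a ha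
  unfold q at this
  simpa only [Category.assoc] using this

end

theorem jls_q : JLS (fun a : st.1.1 => P.q st a a.2) := by
  apply jls_of_cancel
  intro Z φ ψ h
  exact P.Q_hom_ext (fun a ha => h ⟨a, ha⟩)

/-- the transition maps between the finite stages -/
noncomputable def Qmap {st st' : P.Idx} (h : st ≤ st') : P.Q st ⟶ P.Q st' :=
  P.descQ (fun a ha => P.q st' a (P.mem_of_le h ha))
    (fun b hb => P.q_rel st' b (P.mem_of_le' h hb))

@[reassoc]
theorem q_Qmap {st st' : P.Idx} (h : st ≤ st') (a : P.A) (ha : a ∈ st.1.1) :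
    P.q st a ha ≫ P.Qmap h = P.q st' a (P.mem_of_le h ha) :=
  P.q_descQ _ _ a ha

/-- the filtered diagram of the finite stages -/
noncomputable def diag : P.Idx ⥤ Sh J where
  obj st := P.Q st
  map u := P.Qmap (leOfHom u)
  map_id st := by
    apply P.Q_hom_ext
    intro a ha
    rw [q_Qmap, Category.comp_id]
  map_comp u v := by
    apply P.Q_hom_ext
    intro a ha
    rw [q_Qmap, q_Qmap_assoc, q_Qmap]

/-- the map from a finite stage to the object presented -/
noncomputable def toX : P.Q st ⟶ X :=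
  P.descQ (fun a _ => P.p a) (fun b _ => P.w b)

@[reassoc]
theorem q_toX (a : P.A) (ha : a ∈ st.1.1) : P.q st a ha ≫ P.toX st = P.p a :=
  P.q_descQ _ _ a ha

/-- the cocone of the finite stages over the object presented -/
noncomputable def cocone : Cocone P.diag where
  pt := X
  ι :=
    { app := fun st => P.toX st
      naturality := by
        intro st st' u
        apply P.Q_hom_ext
        intro a ha
        change P.q st a ha ≫ P.Qmap (leOfHom u) ≫ P.toX st' = P.q st a ha ≫ P.toX st ≫ 𝟙 X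
        rw [q_Qmap_assoc, q_toX, Category.comp_id, q_toX] }

end Pres

end Groth.Agent.Lib.Helper27.ToposFP
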