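import Groth.Agent.Lib.Helper27.ToposFP6

/-!
# An object is the filtered colimit of the finite stages of a presentation
-/

set_option autoImplicit false
set_option backward.isDefEq.respectTransparency false
set_option backward.isDefEq.respectTransparency.types false

universe u

open CategoryTheory CategoryTheory.Limits Opposite

namespace Groth.Agent.Lib.Helper27.ToposFP

open ToposFin Groth.Agent.Lib.Helper13.ToposQC Groth.Agent.Lib.Helper27.ToposColim

variable {C : Type u} [SmallCategory C] {J : GrothendieckTopology C}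

theorem sigma_apply_eq {A : Type u} {G : A → Sh J} {Z : Sh J} (g : ∀ a, G a ⟶ Z) {U : Cᵒᵖ}
    {a a' : A} {x : (G a).obj.obj U} {x' : (G a').obj.obj U}
    (h : (⟨a, x⟩ : Σ a, (G a).obj.obj U) = ⟨a', x'⟩) :
    (g a).hom.app U x = (g a').hom.app U x' := by
  cases h
  rfl

namespace Pres

variable {X : Sh J} (P : Pres X)

/-- the stage with a single generator -/
def stOf (a : P.A) : P.Idx := ⟨({a}, ∅), by simp⟩

theorem mem_stOf (a : P.A) : a ∈ (P.stOf a).1.1 := Finset.mem_singleton_self a

open Classical in
/-- the stage with a single relation -/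
noncomputable def stRel (b : P.B) : P.Idx := ⟨({P.l b, P.r b}, {b}), by simp⟩

theorem mem_stRel (b : P.B) : b ∈ (P.stRel b).1.2 := Finset.mem_singleton_self b

variable (s : Cocone P.diag)

/-- the map from a generator induced by a cocone over the finite stages -/
noncomputable def tau (a : P.A) : P.G a ⟶ s.pt :=
  P.q (P.stOf a) a (P.mem_stOf a) ≫ s.ι.app (P.stOf a)

theorem q_ι (st : P.Idx) (a : P.A) (ha : a ∈ st.1.1) : P.q st a ha ≫ s.ι.app st = P.tau s a := by
  have hle : P.stOf a ≤ st :=
    ⟨Finset.singleton_subset_iff.2 ha, Finset.empty_subset _⟩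
  have := s.w (homOfLE hle)
  unfold tau
  rw [← this]
  change _ = P.q _ a _ ≫ P.Qmap hle ≫ s.ι.app st
  rw [q_Qmap_assoc]

theorem tau_rel (b : P.B) : P.lam b ≫ P.tau s (P.l b) = P.rho b ≫ P.tau s (P.r b) := by
  rw [← P.q_ι s (P.stRel b) (P.l b) ((P.stRel b).2 b (P.mem_stRel b)).1,
    ← P.q_ι s (P.stRel b) (P.r b) ((P.stRel b).2 b (P.mem_stRel b)).2,
    ← Category.assoc, ← Category.assoc, P.q_rel (P.stRel b) b (P.mem_stRel b)]

theorem tau_compat : DescCompat P.p (P.tau s) := by
  intro a a' U x y hxy
  obtain ⟨S, hS, h⟩ := P.cov a a' U x y hxy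
  apply (isSheaf_type s.pt _ hS).isSeparatedFor.ext
  intro V f hf
  obtain ⟨b, z, h1, h2⟩ := h f hf
  rw [← nat_apply, ← nat_apply]
  have e1 := sigma_apply_eq (P.tau s) h1
  have e2 := sigma_apply_eq (P.tau s) h2
  have e3 : (P.tau s (P.l b)).hom.app (op V) ((P.lam b).hom.app (op V) z) =
      (P.tau s (P.r b)).hom.app (op V) ((P.rho b).hom.app (op V) z) :=
    congrArg (fun φ => φ.hom.app (op V) z) (P.tau_rel s b)
  exact e1.symm.trans (e3.trans e2)

/-- the object presented is the colimit of the finite stages -/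
noncomputable def isColimit : IsColimit P.cocone where
  desc s := descHom P.hp (P.tau_compat s)
  fac s st := by
    apply P.Q_hom_ext
    intro a ha
    change P.q st a ha ≫ P.toX st ≫ _ = _
    rw [q_toX_assoc, fac_descHom, q_ι]
  uniq s m hm := by
    apply hom_ext_of_jls P.hp
    intro a
    rw [fac_descHom]
    have := hm (P.stOf a)
    change P.toX (P.stOf a) ≫ m = _ at this
    rw [← P.q_toX (P.stOf a) a (P.mem_stOf a), Category.assoc, this]
    rfl

end Pres

end Groth.Agent.Lib.Helper27.ToposFP
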