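import Groth.Agent.Lib.Helper27.ToposFP8
import Mathlib.CategoryTheory.FinCategory.Basic
import Mathlib.CategoryTheory.Limits.Shapes.FiniteLimits

/-!
# A generating set of quasi-compact objects stable under finite colimits and fibre products is
the set of coherent objects
-/

set_option autoImplicit false
set_option backward.isDefEq.respectTransparency false
set_option backward.isDefEq.respectTransparency.types false

universe u

open CategoryTheory CategoryTheory.Limits Opposite

namespace Groth.Agent.Lib.Helper27.ToposFP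

open ToposFin Groth.Agent.Lib.Helper13.ToposQC Groth.Agent.Lib.Helper27.ToposColim

variable {C : Type u} [SmallCategory C] {J : GrothendieckTopology C}

section

variable (S : Set (Sh J))
  (hiso : ∀ ⦃K L : Sh J⦄, K ∈ S → Nonempty (K ≅ L) → L ∈ S)
  (hcolim : ∀ (K : Type) [SmallCategory K] [FinCategory K] (D : K ⥤ Sh J),
    (∀ k, D.obj k ∈ S) → colimit D ∈ S)

include hiso hcolim

theorem mem_sigma_of_finite {κ : Type u} [Finite κ] (G : κ → Sh J) (hG : ∀ k, G k ∈ S) :
    ∐ G ∈ S := by
  let e : Fin (Nat.card κ) ≃ κ := (Finite.equivFin κ).symm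
  have h1 : ∐ (G ∘ e) ∈ S :=
    hcolim (Discrete (Fin (Nat.card κ))) (Discrete.functor (G ∘ e)) (fun j => hG (e j.as))
  exact hiso h1 ⟨Sigma.reindex e G⟩

theorem mem_coequalizer {X₁ X₀ : Sh J} (a b : X₁ ⟶ X₀) (h1 : X₁ ∈ S) (h0 : X₀ ∈ S) :
    coequalizer a b ∈ S :=
  hcolim WalkingParallelPair (parallelPair a b) (by
    rintro (_ | _)
    · exact h1
    · exact h0)

theorem mem_of_retract {X Q : Sh J} (i : X ⟶ Q) (p : Q ⟶ X) (hip : i ≫ p = 𝟙 X) (hQ : Q ∈ S) :
    X ∈ S := by
  have w : 𝟙 Q ≫ p = (p ≫ i) ≫ p := by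
    rw [Category.id_comp, Category.assoc, hip, Category.comp_id]
  have hcof : IsColimit (Cofork.ofπ p w) :=
    Cofork.IsColimit.mk' _ (fun s => by
      refine ⟨i ≫ s.π, ?_, ?_⟩
      · change p ≫ i ≫ s.π = s.π
        have := s.condition
        rw [Category.id_comp] at this
        rw [← Category.assoc]
        exact this.symm
      · intro m hm
        change p ≫ m = s.π at hm
        rw [← hm, ← Category.assoc, hip]
        exact (Category.id_comp m).symm)
  have h1 : coequalizer (𝟙 Q) (p ≫ i) ∈ S := mem_coequalizer S hiso hcolim _ _ hQ hQ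
  exact hiso h1 ⟨(colimit.isColimit _).coconePointUniqueUpToIso hcof⟩

theorem mem_Q {X : Sh J} (P : Pres X) (hG : ∀ a, P.G a ∈ S) (hH : ∀ b, P.H b ∈ S) (st : P.Idx) :
    P.Q st ∈ S :=
  mem_coequalizer S hiso hcolim _ _
    (mem_sigma_of_finite S hiso hcolim (fun b : st.1.2 => P.H b) (fun b => hH b))
    (mem_sigma_of_finite S hiso hcolim (fun a : st.1.1 => P.G a) (fun a => hG a))

end

/-- a generating set of quasi-compact objects, closed under isomorphism, fibre products and finite
colimits, is the set of coherent objects, and contains the finitely presentable objects -/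
theorem eq_coherent_of_generating (S : Set (Sh J)) (hqc : ∀ K ∈ S, IsQC K)
    (hiso : ∀ ⦃K L : Sh J⦄, K ∈ S → Nonempty (K ≅ L) → L ∈ S)
    (hgen : IsGenerating S) (hpb : ClosedUnderPullbacks S)
    (hcolim : ∀ (K : Type) [SmallCategory K] [FinCategory K] (D : K ⥤ Sh J),
      (∀ k, D.obj k ∈ S) → colimit D ∈ S) :
    (∀ X : Sh J, X ∈ S ↔ IsCoherent X) ∧ (∀ X : Sh J, IsFP X → IsCoherent X) := by
  have hE : HasQCGenerators J := hasQCGenerators_of_isGenerating hqc hgen
  have hmem : ∀ X : Sh J, IsFP X → X ∈ S := by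
    intro X hX
    obtain ⟨P, hG, hH⟩ := exists_pres (· ∈ S) (exists_cover_of_isGenerating hgen) X
    obtain ⟨st, i, hi⟩ := exists_retract_of_isFP hX P
    exact mem_of_retract S hiso hcolim i (P.toX st) hi (mem_Q S hiso hcolim P hG hH st)
  refine ⟨fun X => ⟨fun h => isCoherent_of_mem hqc hgen hpb h,
    fun h => hmem X (isFP_of_isCoherent hE h)⟩,
    fun X hX => isCoherent_of_mem hqc hgen hpb (hmem X hX)⟩

end Groth.Agent.Lib.Helper27.ToposFP
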