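import Groth.Prelude.Def_FibCat2

/-!
# Pasting of 2-cartesian squares of categories (helper27)
-/

set_option autoImplicit false
set_option backward.isDefEq.respectTransparency false
set_option backward.isDefEq.respectTransparency.types false

universe v u

open CategoryTheory CategoryTheory.Limits

namespace Groth.Agent.Lib.Helper27.TwoCartPaste

variable {A B A' B' A'' B'' : Type u} [Category.{v} A] [Category.{v} B] [Category.{v} A']
  [Category.{v} B'] [Category.{v} A''] [Category.{v} B'']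
  (t : A ⥤ B) (l : A ⥤ A') (r : B ⥤ B') (t' : A' ⥤ B') (l' : A' ⥤ A'') (r' : B' ⥤ B'')
  (t'' : A'' ⥤ B'') (e₁ : t ⋙ r ≅ l ⋙ t') (e₂ : t' ⋙ r' ≅ l' ⋙ t'')

/-- Comparison functor of the lower square. -/
abbrev c₂ : A' ⥤ CategoricalPullback r' t'' :=
  (CategoricalPullback.CatCommSqOver.toFunctorToCategoricalPullback r' t'' A').obj ⟨t', l', e₂⟩

/-- Comparison functor of the upper square. -/
abbrev c₁ : A ⥤ CategoricalPullback r t' :=
  (CategoricalPullback.CatCommSqOver.toFunctorToCategoricalPullback r t' A).obj ⟨t, l, e₁⟩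

/-- The pasted isomorphism. -/
abbrev pasted : t ⋙ (r ⋙ r') ≅ (l ⋙ l') ⋙ t'' :=
  (Functor.associator t r r').symm ≪≫ Functor.isoWhiskerRight e₁ r' ≪≫
    Functor.associator l t' r' ≪≫ Functor.isoWhiskerLeft l e₂ ≪≫ (Functor.associator l l' t'').symm

/-- Comparison functor of the outer rectangle. -/
abbrev c₃ : A ⥤ CategoricalPullback (r ⋙ r') t'' :=
  (CategoricalPullback.CatCommSqOver.toFunctorToCategoricalPullback (r ⋙ r') t'' A).obj
    ⟨t, l ⋙ l', pasted t l r t' l' r' t'' e₁ e₂⟩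

/-- The pasting functor. -/
def Φ : CategoricalPullback r t' ⥤ CategoricalPullback (r ⋙ r') t'' where
  obj x := ⟨x.fst, l'.obj x.snd, r'.mapIso x.iso ≪≫ e₂.app x.snd⟩
  map {x y} m :=
    { fst := m.fst
      snd := l'.map m.snd
      w := by
        have h1 : r'.map (r.map m.fst) ≫ r'.map y.iso.hom = r'.map x.iso.hom ≫ r'.map (t'.map m.snd) := by
          rw [← r'.map_comp, ← r'.map_comp, m.w]
        have h2 : r'.map (t'.map m.snd) ≫ e₂.hom.app y.snd = e₂.hom.app x.snd ≫ t''.map (l'.map m.snd) :=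
          e₂.hom.naturality m.snd
        change r'.map (r.map m.fst) ≫ r'.map y.iso.hom ≫ e₂.hom.app y.snd =
          (r'.map x.iso.hom ≫ e₂.hom.app x.snd) ≫ t''.map (l'.map m.snd)
        rw [← Category.assoc, h1, Category.assoc, h2, Category.assoc] }
  map_id x := by
    apply CategoricalPullback.hom_ext
    · rfl
    · exact l'.map_id _
  map_comp m n := by
    apply CategoricalPullback.hom_ext
    · rfl
    · exact l'.map_comp _ _

theorem Φ_obj_iso_hom (x : CategoricalPullback r t') :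
    ((Φ r t' l' r' t'' e₂).obj x).iso.hom = r'.map x.iso.hom ≫ e₂.hom.app x.snd := rfl

/-- The outer comparison factors through the upper one. -/
def c₃Iso : c₃ t l r t' l' r' t'' e₁ e₂ ≅ c₁ t l r t' e₁ ⋙ Φ r t' l' r' t'' e₂ :=
  NatIso.ofComponents (fun a => CategoricalPullback.mkIso (Iso.refl _) (Iso.refl _) (by
    change (r ⋙ r').map (𝟙 _) ≫ (r'.map (e₁.hom.app a) ≫ e₂.hom.app (l.obj a)) =
      ((pasted t l r t' l' r' t'' e₁ e₂).hom.app a) ≫ t''.map (𝟙 _)
    simp [pasted]))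
    (fun {a a'} f => by
      apply CategoricalPullback.hom_ext
      · exact (Category.comp_id _).trans (Category.id_comp _).symm
      · exact (Category.comp_id _).trans (Category.id_comp _).symm)

section Equiv

variable [h₂ : (c₂ t' l' r' t'' e₂).IsEquivalence]

theorem Φ_faithful : (Φ r t' l' r' t'' e₂).Faithful := by
  constructor
  intro x y m m' h
  have h1 : m.fst = m'.fst := congrArg (fun k => k.fst) h
  have h2 : l'.map m.snd = l'.map m'.snd := congrArg (fun k => k.snd) h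
  have h3 : t'.map m.snd = t'.map m'.snd := by
    apply (cancel_epi x.iso.hom).1
    rw [← m.w, ← m'.w, h1]
  have h4 : m.snd = m'.snd := by
    apply (c₂ t' l' r' t'' e₂).map_injective
    apply CategoricalPullback.hom_ext
    · exact h3
    · exact h2
  exact CategoricalPullback.hom_ext h1 h4

theorem Φ_full : (Φ r t' l' r' t'' e₂).Full := by
  constructor
  intro x y n
  have hn : r'.map (r.map n.fst) ≫ r'.map y.iso.hom ≫ e₂.hom.app y.snd =
      (r'.map x.iso.hom ≫ e₂.hom.app x.snd) ≫ t''.map n.snd := n.w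
  let k : (c₂ t' l' r' t'' e₂).obj x.snd ⟶ (c₂ t' l' r' t'' e₂).obj y.snd :=
    { fst := x.iso.inv ≫ r.map n.fst ≫ y.iso.hom
      snd := n.snd
      w := by
        change r'.map (x.iso.inv ≫ r.map n.fst ≫ y.iso.hom) ≫ e₂.hom.app y.snd =
          e₂.hom.app x.snd ≫ t''.map n.snd
        have h0 : r'.map x.iso.inv ≫ r'.map x.iso.hom = 𝟙 _ := by
          rw [← r'.map_comp, Iso.inv_hom_id, r'.map_id]
        rw [r'.map_comp, r'.map_comp, Category.assoc, Category.assoc, hn, Category.assoc,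
          ← Category.assoc, h0, Category.id_comp] }
  obtain ⟨α', hα'⟩ := (c₂ t' l' r' t'' e₂).map_surjective k
  have h1 : t'.map α' = x.iso.inv ≫ r.map n.fst ≫ y.iso.hom := congrArg (fun q => q.fst) hα'
  have h2 : l'.map α' = n.snd := congrArg (fun q => q.snd) hα'
  refine ⟨⟨n.fst, α', ?_⟩, ?_⟩
  · rw [h1, Iso.hom_inv_id_assoc]
  · apply CategoricalPullback.hom_ext
    · rfl
    · exact h2

theorem Φ_essSurj : (Φ r t' l' r' t'' e₂).EssSurj := by
  constructor
  intro z
  let w : CategoricalPullback r' t'' := ⟨r.obj z.fst, z.snd, z.iso⟩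
  let a' := (c₂ t' l' r' t'' e₂).objPreimage w
  let ρ : (c₂ t' l' r' t'' e₂).obj a' ≅ w := (c₂ t' l' r' t'' e₂).objObjPreimageIso w
  let μ : t'.obj a' ≅ r.obj z.fst := (CategoricalPullback.π₁ r' t'').mapIso ρ
  let ν : l'.obj a' ≅ z.snd := (CategoricalPullback.π₂ r' t'').mapIso ρ
  have hρ : r'.map μ.hom ≫ z.iso.hom = e₂.hom.app a' ≫ t''.map ν.hom := ρ.hom.w
  let x : CategoricalPullback r t' := ⟨z.fst, a', μ.symm⟩
  refine ⟨x, ⟨CategoricalPullback.mkIso (Iso.refl _) ν ?_⟩⟩
  rw [Φ_obj_iso_hom]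
  change (r ⋙ r').map (𝟙 _) ≫ z.iso.hom = (r'.map μ.inv ≫ e₂.hom.app a') ≫ t''.map ν.hom
  have h0 : r'.map μ.inv ≫ r'.map μ.hom = 𝟙 _ := by
    rw [← r'.map_comp, Iso.inv_hom_id, r'.map_id]
  rw [Category.assoc, ← hρ, ← Category.assoc, h0, CategoryTheory.Functor.map_id]
  rfl

theorem Φ_isEquivalence : (Φ r t' l' r' t'' e₂).IsEquivalence :=
  { faithful := Φ_faithful r t' l' r' t'' e₂
    full := Φ_full r t' l' r' t'' e₂
    essSurj := Φ_essSurj r t' l' r' t'' e₂ }

end Equiv

theorem paste (h₂ : FibCat.IsTwoCart t' l' r' t'' e₂) :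
    FibCat.IsTwoCart t l r t' e₁ ↔
      FibCat.IsTwoCart t (l ⋙ l') (r ⋙ r') t'' (pasted t l r t' l' r' t'' e₁ e₂) := by
  have h₂' : (c₂ t' l' r' t'' e₂).IsEquivalence := h₂
  have hΦ := Φ_isEquivalence r t' l' r' t'' e₂
  constructor
  · intro h
    have h' : (c₁ t l r t' e₁).IsEquivalence := h
    have : (c₁ t l r t' e₁ ⋙ Φ r t' l' r' t'' e₂).IsEquivalence := inferInstance
    exact Functor.isEquivalence_of_iso (c₃Iso t l r t' l' r' t'' e₁ e₂).symm
  · intro h
    have h' : (c₃ t l r t' l' r' t'' e₁ e₂).IsEquivalence := h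
    have : (c₁ t l r t' e₁ ⋙ Φ r t' l' r' t'' e₂).IsEquivalence :=
      Functor.isEquivalence_of_iso (c₃Iso t l r t' l' r' t'' e₁ e₂)
    exact Functor.isEquivalence_of_comp_right (c₁ t l r t' e₁) (Φ r t' l' r' t'' e₂)

end Groth.Agent.Lib.Helper27.TwoCartPaste
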