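import Groth.Agent.Lib.Helper27.StPointsTop3
import Groth.Agent.Lib.Helper27.StPointsUniv
import Groth.Agent.Lib.Helper27.EtBoot
import Groth.Agent.Lib.Helper27.AlgStackFp2
import Groth.Agent.Lib.Helper27.TopSquare
import Groth.Agent.Lib.Helper27.LocQSmoothOpen
import Groth.Agent.Lib.Helper27.LocQDiagLfp
import Groth.Agent.Lib.Helper27.QcStack
import Groth.Agent.Lib.Helper27.QcImage

/-!
# Points of algebraic stacks for an arbitrary topology (helper27)

Versions of the basic continuity statements which only use that the stack is fibred in groupoids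
and has a smooth surjective atlas.
-/

set_option autoImplicit false
set_option backward.isDefEq.respectTransparency false
set_option backward.isDefEq.respectTransparency.types false

universe u

open CategoryTheory CategoryTheory.Limits FibCat AlgebraicGeometry Opposite
  Groth.Agent.Lib.Helper27.FpKit Groth.Agent.Lib.Helper27.PointsKit
  Groth.Agent.Lib.Helper27.RepWithComp Groth.Agent.Lib.Helper27.StPoints

namespace Groth.Agent.Lib.Helper27.UCVal

variable {S : Scheme.{u}} {𝒳 𝒴 : AlgSt.Cat S} {K : Precoverage Scheme.{u}}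

local infixr:80 " ⊚ " => BasedFunctor.comp

/-- For an algebraic stack, the chart map of every functor from a slice is continuous. -/
theorem continuous_ofChart_K (h𝒳 : AlgSt.IsAlgStack K 𝒳) {U : Over S}
    (x : overCat U ⥤ᵇ 𝒳) : Continuous (AlgSt.Points.ofChart x) := by
  obtain ⟨Y, y, hy₁, hy₂⟩ := h𝒳.atlas
  obtain ⟨A, a, a', hsm, ⟨e⟩, hpts⟩ := exists_chart_comparison h𝒳.isStack.1 x y @Smooth hy₁
  have hsurj : Function.Surjective a.left := by
    intro u
    obtain ⟨y₀, hy₀⟩ := ofChart_surjective h𝒳.isStack.1 y hy₂ (AlgSt.Points.ofChart x u)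
    obtain ⟨t, ht, -⟩ := hpts u y₀ hy₀.symm
    exact ⟨t, ht⟩
  have : Smooth a.left := hsm
  have hopen : IsOpenMap a.left := a.left.isOpenMap
  rw [continuous_def]
  intro W hW
  have hWy : IsOpen (AlgSt.Points.ofChart y ⁻¹' W) := hW Y y hy₁
  have heq : AlgSt.Points.ofChart x ⁻¹' W =
      a.left '' (a'.left ⁻¹' (AlgSt.Points.ofChart y ⁻¹' W)) := by
    ext u
    constructor
    · intro hu
      obtain ⟨t, rfl⟩ := hsurj u
      refine ⟨t, ?_, rfl⟩
      change AlgSt.Points.ofChart y (a'.left t) ∈ W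
      rw [← ofChart_comparison x y a a' e t]
      exact hu
    · rintro ⟨t, ht, rfl⟩
      change AlgSt.Points.ofChart x (a.left t) ∈ W
      rw [ofChart_comparison x y a a' e t]
      exact ht
  rw [heq]
  exact hopen _ (hWy.preimage a'.left.continuous)

/-- Functors to algebraic stacks are continuous on points. -/
theorem continuous_map_K (h𝒴 : AlgSt.IsAlgStack K 𝒴) (f : 𝒳 ⥤ᵇ 𝒴) :
    Continuous (AlgSt.Points.map f) := by
  rw [continuous_def]
  intro W hW U x _
  have h1 := (continuous_ofChart_K h𝒴 (x ⊚ f)).isOpen_preimage W hW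
  have h2 : AlgSt.Points.ofChart (x ⊚ f) ⁻¹' W =
      AlgSt.Points.ofChart x ⁻¹' (AlgSt.Points.map f ⁻¹' W) := by
    ext u
    change AlgSt.Points.ofChart (x ⊚ f) u ∈ W ↔
      AlgSt.Points.map f (AlgSt.Points.ofChart x u) ∈ W
    rw [ofChart_eq, ofChart_eq, map_comp]
  rw [← h2]
  exact h1

/-- An equivalence between algebraic stacks is a homeomorphism on points. -/
theorem isHomeomorph_map_of_equiv_K (h𝒳 : AlgSt.IsAlgStack K 𝒳)
    (h𝒴 : AlgSt.IsAlgStack K 𝒴) (E : 𝒳 ⥤ᵇ 𝒴) (hE : IsEquivOver E) :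
    IsHomeomorph (AlgSt.Points.map E) := by
  obtain ⟨E', hE', ⟨e1⟩, ⟨e2⟩⟩ := exists_inverse E hE
  refine ⟨continuous_map_K h𝒴 E, ?_, map_bijective_of_equiv E hE⟩
  intro W hW
  have h1 : AlgSt.Points.map E '' W = AlgSt.Points.map E' ⁻¹' W := by
    ext y
    constructor
    · rintro ⟨x, hx, rfl⟩
      change AlgSt.Points.map E' (AlgSt.Points.map E x) ∈ W
      rw [← map_comp, map_iso e1, map_id]
      exact hx
    · intro hy
      refine ⟨AlgSt.Points.map E' y, hy, ?_⟩
      rw [← map_comp, map_iso e2, map_id]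
  rw [h1]
  exact (continuous_map_K h𝒳 E').isOpen_preimage W hW

/-- Slices are algebraic stacks for the etale topology. -/
theorem isAlgStack_overCat_et (Z : Over S) :
    AlgSt.IsAlgStack Scheme.etalePrecoverage (overCat Z) :=
  Groth.Agent.Lib.Helper27.EtBoot.isAlgStack_et_of_atlas
    (Groth.Agent.Lib.Helper27.EtBoot.isStack_overCat_et Z)
    (Groth.Agent.Lib.Helper27.QcStack.isAlgStack_overCat Z).atlas

/-- The identification of a scheme with the points of its slice is a homeomorphism. -/
theorem isHomeomorph_ptOf (Z : Over S) : IsHomeomorph (ptOf Z) := by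
  have hid : AlgSt.RepByAlgSpWith (AlgSp.LocP @Smooth) (BasedFunctor.id (overCat Z)) := by
    have h := Groth.Agent.Lib.Helper27.LocQSmoothOpen.repByAlgSpWith_overMap (AlgSp.LocP @Smooth)
      (Groth.Agent.Lib.Helper27.QcImage.locP_stable Groth.Agent.Lib.Helper3.isEtLocal_smooth)
      (𝟙 Z) (Groth.Agent.Lib.Helper27.LocQSmoothOpen.locP_smooth_yon_map (𝟙 Z)
        (by change Smooth (𝟙 Z.left); infer_instance))
    exact Groth.Agent.Lib.Helper27.LocQOver.repByAlgSpWith_of_iso _
      (Groth.Agent.Lib.Helper27.LocQChart.isoOverMap (BasedFunctor.id (overCat Z)) ≪≫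
        eqToIso (by rw [Groth.Agent.Lib.Helper27.LocQDiagLfp.homOf_id])).symm h
  have hfZ := Groth.Agent.Lib.Helper27.ReprAux.isFibGrpd_overCat Z
  have heq : ptOf Z = AlgSt.Points.ofChart (BasedFunctor.id (overCat Z)) := by
    funext t
    rw [ofChart_eq, map_id]
  refine ⟨?_, ?_, ptOf_bijective Z⟩
  · rw [heq]
    exact continuous_ofChart_K (isAlgStack_overCat_et Z) _
  · rw [heq]
    exact isOpenMap_ofChart_of_smooth hfZ _ hid

end Groth.Agent.Lib.Helper27.UCVal
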