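import Groth.Agent.Lib.Helper27.SliceYoneda
import Groth.Agent.Lib.Helper27.ReprAux

/-!
# The 2-fibre product of two slices over a slice, for an arbitrary pullback square (helper27)
-/

set_option autoImplicit false
set_option backward.isDefEq.respectTransparency false
set_option backward.isDefEq.respectTransparency.types false

universe v u

open CategoryTheory CategoryTheory.Limits FibCat Groth.Agent.Lib.Helper27.FpKit
  Groth.Agent.Lib.Helper27.SliceYoneda

namespace Groth.Agent.Lib.Helper27.UCVal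

variable {C : Type u} [Category.{v} C]

section Pullback

variable {U X Y P : C} (h : U ⟶ Y) (f : X ⟶ Y) (fst : P ⟶ U) (snd : P ⟶ X)
  (sq : IsPullback fst snd h f)

/-- The terminal object of the 2-fibre product of two slices over a slice, for a pullback
square. -/
noncomputable def termSq : (fp (overMap h) (overMap f)).obj :=
  mkObj (F := overMap h) (G := overMap f) (Over.mk fst) (Over.mk snd)
    (Over.isoMk (Iso.refl _) (by
      change 𝟙 _ ≫ (snd ≫ f) = fst ≫ h
      rw [Category.id_comp, sq.w]))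
    (vert_of_left _ rfl rfl)

theorem termSq_iso_left : (termSq h f fst snd sq).obj.iso.hom.left = 𝟙 _ := rfl

theorem isTerm_termSq :
    Groth.Agent.Lib.Helper27.ReprAux.IsTerm (fp (overMap h) (overMap f))
      (termSq h f fst snd sq) := by
  intro ρ
  obtain ⟨lam, hlam⟩ := left_of_vert ρ.obj.iso.hom (vert_iso ρ)
  have lam' : ρ.obj.fst.left = ρ.obj.snd.left := lam
  have hlam' : ρ.obj.iso.hom.left = eqToHom lam' := hlam
  have hw : eqToHom lam' ≫ ρ.obj.snd.hom ≫ f = ρ.obj.fst.hom ≫ h := by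
    have h0 := Over.w ρ.obj.iso.hom
    rw [hlam'] at h0
    exact h0
  let lft : ρ.obj.fst.left ⟶ P :=
    sq.lift ρ.obj.fst.hom (eqToHom lam' ≫ ρ.obj.snd.hom) (by rw [Category.assoc, hw])
  have hl1 : lft ≫ fst = ρ.obj.fst.hom := sq.lift_fst _ _ _
  have hl2 : lft ≫ snd = eqToHom lam' ≫ ρ.obj.snd.hom := sq.lift_snd _ _ _
  let α : ρ.obj.fst ⟶ Over.mk fst := Over.homMk lft hl1
  let β : ρ.obj.snd ⟶ Over.mk snd := Over.homMk (eqToHom lam'.symm ≫ lft) (by
    change (eqToHom lam'.symm ≫ lft) ≫ snd = ρ.obj.snd.hom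
    rw [Category.assoc, hl2, ← Category.assoc, eqToHom_trans, eqToHom_refl, Category.id_comp])
  have hαβ : (overMap h).toFunctor.map α ≫ (termSq h f fst snd sq).obj.iso.hom =
      ρ.obj.iso.hom ≫ (overMap f).toFunctor.map β := by
    apply Over.OverMorphism.ext
    change lft ≫ 𝟙 _ = ρ.obj.iso.hom.left ≫ (eqToHom lam'.symm ≫ lft)
    rw [hlam', Category.comp_id, ← Category.assoc, eqToHom_trans, eqToHom_refl, Category.id_comp]
  refine ⟨⟨⟨mkHom α β hαβ⟩, fun Θ => ?_⟩⟩
  have hΘ := congrArg (fun m => m.left) (hom_w Θ)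
  have hΘ' : Θ.hom.fst.left ≫ 𝟙 _ = ρ.obj.iso.hom.left ≫ Θ.hom.snd.left := hΘ
  rw [Category.comp_id, hlam'] at hΘ'
  have w1 : Θ.hom.fst.left ≫ fst = ρ.obj.fst.hom := Over.w Θ.hom.fst
  have w2 : Θ.hom.snd.left ≫ snd = ρ.obj.snd.hom := Over.w Θ.hom.snd
  have e1 : Θ.hom.fst.left = lft := by
    apply sq.hom_ext
    · rw [w1, hl1]
    · rw [hl2, hΘ', Category.assoc, w2]
  apply Groth.Agent.Lib.Helper27.StackFp.hom_ext'
  · apply Over.OverMorphism.ext
    exact e1
  · apply Over.OverMorphism.ext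
    change Θ.hom.snd.left = eqToHom lam'.symm ≫ lft
    rw [← e1, hΘ', ← Category.assoc, eqToHom_trans, eqToHom_refl, Category.id_comp]

/-- The equivalence from the 2-fibre product to the slice over the apex of the square. -/
noncomputable def toApex : fp (overMap h) (overMap f) ⥤ᵇ overCat P :=
  Groth.Agent.Lib.Helper27.ReprAux.toOver (isTerm_termSq h f fst snd sq)

theorem isEquivOver_toApex : IsEquivOver (toApex h f fst snd sq) :=
  Groth.Agent.Lib.Helper27.ReprAux.isEquivOver_toOver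
    (Groth.Agent.Lib.Helper27.FpFib.isFibGrpd_fp _ _
      (Groth.Agent.Lib.Helper27.ReprAux.isFibGrpd_overCat U)
      (Groth.Agent.Lib.Helper27.ReprAux.isFibGrpd_overCat X)
      (Groth.Agent.Lib.Helper27.ReprAux.isFibGrpd_overCat Y)) _

/-- Compatibility of `toApex` with the first projection, objectwise. -/
theorem nonempty_fst_toApex (ρ : (fp (overMap h) (overMap f)).obj) :
    Nonempty ((fpFst (overMap h) (overMap f)).toFunctor.obj ρ ⟶
      (overMap fst).toFunctor.obj ((toApex h f fst snd sq).toFunctor.obj ρ)) := by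
  let m := Groth.Agent.Lib.Helper27.ReprAux.toTerm (isTerm_termSq h f fst snd sq) ρ
  have hw : m.hom.fst.left ≫ fst = ρ.obj.fst.hom := Over.w m.hom.fst
  exact ⟨Over.homMk (𝟙 _) (by
    change 𝟙 _ ≫ (m.hom.fst.left ≫ fst) = ρ.obj.fst.hom
    rw [Category.id_comp, hw])⟩

/-- The structure morphism of the first component, through `toApex`. -/
theorem fst_hom_toApex (ρ : (fp (overMap h) (overMap f)).obj) :
    ρ.obj.fst.hom = ((toApex h f fst snd sq).toFunctor.obj ρ).hom ≫ fst := by
  let m := Groth.Agent.Lib.Helper27.ReprAux.toTerm (isTerm_termSq h f fst snd sq) ρ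
  exact (Over.w m.hom.fst).symm

/-- Compatibility of `toApex` with the second projection, objectwise. -/
theorem nonempty_snd_toApex (ρ : (fp (overMap h) (overMap f)).obj) :
    Nonempty ((fpSnd (overMap h) (overMap f)).toFunctor.obj ρ ⟶
      (overMap snd).toFunctor.obj ((toApex h f fst snd sq).toFunctor.obj ρ)) := by
  let m := Groth.Agent.Lib.Helper27.ReprAux.toTerm (isTerm_termSq h f fst snd sq) ρ
  have hw : m.hom.snd.left ≫ snd = ρ.obj.snd.hom := Over.w m.hom.snd
  have hΘ := congrArg (fun k => k.left) (hom_w m)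
  have hΘ' : m.hom.fst.left ≫ 𝟙 _ = ρ.obj.iso.hom.left ≫ m.hom.snd.left := hΘ
  rw [Category.comp_id] at hΘ'
  have hinv : ρ.obj.iso.inv.left ≫ ρ.obj.iso.hom.left = 𝟙 _ := by
    rw [← Over.comp_left, Iso.inv_hom_id]
    rfl
  exact ⟨Over.homMk ρ.obj.iso.inv.left (by
    change ρ.obj.iso.inv.left ≫ (m.hom.fst.left ≫ snd) = ρ.obj.snd.hom
    rw [hΘ', Category.assoc, ← Category.assoc ρ.obj.iso.inv.left, hinv, Category.id_comp, hw])⟩

/-- The structure morphism of the second component, through `toApex`. -/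
theorem snd_hom_toApex (ρ : (fp (overMap h) (overMap f)).obj) :
    ρ.obj.snd.hom =
      ρ.obj.iso.inv.left ≫ ((toApex h f fst snd sq).toFunctor.obj ρ).hom ≫ snd := by
  let m := Groth.Agent.Lib.Helper27.ReprAux.toTerm (isTerm_termSq h f fst snd sq) ρ
  have hw : m.hom.snd.left ≫ snd = ρ.obj.snd.hom := Over.w m.hom.snd
  have hΘ := congrArg (fun k => k.left) (hom_w m)
  have hΘ' : m.hom.fst.left ≫ 𝟙 _ = ρ.obj.iso.hom.left ≫ m.hom.snd.left := hΘ
  rw [Category.comp_id] at hΘ'
  have hinv : ρ.obj.iso.inv.left ≫ ρ.obj.iso.hom.left = 𝟙 _ := by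
    rw [← Over.comp_left, Iso.inv_hom_id]
    rfl
  change ρ.obj.snd.hom = ρ.obj.iso.inv.left ≫ (m.hom.fst.left ≫ snd)
  rw [hΘ', Category.assoc, ← Category.assoc ρ.obj.iso.inv.left, hinv, Category.id_comp, hw]

end Pullback

end Groth.Agent.Lib.Helper27.UCVal
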