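import Groth.Agent.Lib.Helper27.UCVal1
import Groth.Agent.Lib.Helper27.UCVal2
import Groth.Agent.Lib.Helper27.FpBaseChange
import Groth.Agent.Lib.Helper27.LocQOver

/-!
# Base change of a chart of a stack over a scheme along a morphism of schemes (helper27)
-/

set_option autoImplicit false
set_option backward.isDefEq.respectTransparency false
set_option backward.isDefEq.respectTransparency.types false

universe u

open CategoryTheory CategoryTheory.Limits FibCat AlgebraicGeometry Opposite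
  Groth.Agent.Lib.Helper27.FpKit Groth.Agent.Lib.Helper27.PointsKit
  Groth.Agent.Lib.Helper27.RepWithComp Groth.Agent.Lib.Helper27.StPoints
  Groth.Agent.Lib.Helper27.FpBaseChange

namespace Groth.Agent.Lib.Helper27.UCVal

variable {S : Scheme.{u}}

local infixr:80 " ⊚ " => BasedFunctor.comp

section Tower

variable {𝒲 : AlgSt.Cat S} {T T' U U' : Over S}

/-- Base change of a chart `π : U ⟶ 𝒲` of a stack over the scheme `T` along `α : T' ⟶ T`: a
chart of `T' ×_T 𝒲` from `U' = T' ×_T U`, compatible with the projections on points, with the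
same stable properties, and cartesian on points. -/
theorem exists_chart_baseChange (h𝒲 : FibCat.IsFibGrpd 𝒲.p)
    (p : 𝒲 ⥤ᵇ overCat T) (π : overCat U ⥤ᵇ 𝒲) (g : U ⟶ T) (θ : π ⊚ p ≅ AlgSt.overMap g)
    (α : T' ⟶ T) (snd' : U' ⟶ T') (fst' : U' ⟶ U) (sq : IsPullback snd' fst' α g) :
    ∃ π' : overCat U' ⥤ᵇ fp (AlgSt.overMap α) p,
      (∀ u : ↥U'.left, AlgSt.Points.map (fpFst (AlgSt.overMap α) p) (AlgSt.Points.ofChart π' u) =
        ptOf T' (snd'.left u)) ∧
      (∀ u : ↥U'.left, AlgSt.Points.map (fpSnd (AlgSt.overMap α) p) (AlgSt.Points.ofChart π' u) =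
        AlgSt.Points.ofChart π (fst'.left u)) ∧
      (∀ Q : MorphismProperty (AlgSp.Sp S), AlgSt.RepByAlgSpWith Q π →
        AlgSt.RepByAlgSpWith Q π') ∧
      (∀ (w : ↥U.left) (z : AlgSt.Points (fp (AlgSt.overMap α) p)),
        AlgSt.Points.ofChart π w = AlgSt.Points.map (fpSnd (AlgSt.overMap α) p) z →
          ∃ u : ↥U'.left, fst'.left u = w ∧ AlgSt.Points.ofChart π' u = z) ∧
      Nonempty (π' ⊚ fpFst (AlgSt.overMap α) p ≅ AlgSt.overMap snd') ∧
      Nonempty (π' ⊚ fpSnd (AlgSt.overMap α) p ≅ AlgSt.overMap fst' ⊚ π) := by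
  have hfT := Groth.Agent.Lib.Helper27.ReprAux.isFibGrpd_overCat T
  have hfT' := Groth.Agent.Lib.Helper27.ReprAux.isFibGrpd_overCat T'
  have hfU := Groth.Agent.Lib.Helper27.ReprAux.isFibGrpd_overCat U
  -- the equivalence with the slice over the apex
  obtain ⟨R', hR'def⟩ : ∃ R' : fp (AlgSt.overMap α) (AlgSt.overMap g) ⥤ᵇ overCat U',
    R' = toApex α g snd' fst' sq := ⟨_, rfl⟩
  have hR' : IsEquivOver R' := by rw [hR'def]; exact isEquivOver_toApex α g snd' fst' sq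
  have hR'1 : ∀ ρ : (fp (AlgSt.overMap α) (AlgSt.overMap g)).obj,
      Nonempty ((fpFst (AlgSt.overMap α) (AlgSt.overMap g)).toFunctor.obj ρ ⟶
        (AlgSt.overMap snd').toFunctor.obj (R'.toFunctor.obj ρ)) := by
    intro ρ; rw [hR'def]; exact nonempty_fst_toApex α g snd' fst' sq ρ
  have hR'2 : ∀ ρ : (fp (AlgSt.overMap α) (AlgSt.overMap g)).obj,
      Nonempty ((fpSnd (AlgSt.overMap α) (AlgSt.overMap g)).toFunctor.obj ρ ⟶
        (AlgSt.overMap fst').toFunctor.obj (R'.toFunctor.obj ρ)) := by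
    intro ρ; rw [hR'def]; exact nonempty_snd_toApex α g snd' fst' sq ρ
  obtain ⟨R, hR, ⟨i1⟩, ⟨i2⟩⟩ := exists_inverse R' hR'
  -- `i1 : R' ⊚ R ≅ id`, `i2 : R ⊚ R' ≅ id`
  let Θ' : fp (AlgSt.overMap α) (AlgSt.overMap g) ⥤ᵇ fp (AlgSt.overMap α) (π ⊚ p) :=
    isoMapSnd (AlgSt.overMap α) (π ⊚ p) (AlgSt.overMap g) θ.symm
  have hΘ' : IsEquivOver Θ' := isEquivOver_isoMapSnd _ _ _ _
  let M : fp (AlgSt.overMap α) (π ⊚ p) ⥤ᵇ fp (AlgSt.overMap α) p :=
    mapSnd (AlgSt.overMap α) p π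
  let E : overCat U' ⥤ᵇ fp (AlgSt.overMap α) (π ⊚ p) := R ⊚ Θ'
  have hE : IsEquivOver E := isEquivOver_comp _ _ hR hΘ'
  -- compatibilities of `R` on points
  have hRfst : ∀ q : AlgSt.Points (overCat U'),
      AlgSt.Points.map (fpFst (AlgSt.overMap α) (AlgSt.overMap g)) (AlgSt.Points.map R q) =
        AlgSt.Points.map (AlgSt.overMap snd') q := by
    intro q
    have h1 := map_congr (fpFst (AlgSt.overMap α) (AlgSt.overMap g)) (R' ⊚ AlgSt.overMap snd')
      hR'1 (AlgSt.Points.map R q)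
    rw [h1, map_comp, ← map_comp R R', map_iso i2, map_id]
  have hRsnd : ∀ q : AlgSt.Points (overCat U'),
      AlgSt.Points.map (fpSnd (AlgSt.overMap α) (AlgSt.overMap g)) (AlgSt.Points.map R q) =
        AlgSt.Points.map (AlgSt.overMap fst') q := by
    intro q
    have h1 := map_congr (fpSnd (AlgSt.overMap α) (AlgSt.overMap g)) (R' ⊚ AlgSt.overMap fst')
      hR'2 (AlgSt.Points.map R q)
    rw [h1, map_comp, ← map_comp R R', map_iso i2, map_id]
  -- compatibilities of `E`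
  have hEfst : ∀ q : AlgSt.Points (overCat U'),
      AlgSt.Points.map (fpFst (AlgSt.overMap α) (π ⊚ p)) (AlgSt.Points.map E q) =
        AlgSt.Points.map (AlgSt.overMap snd') q := by
    intro q
    rw [← hRfst q]
    change AlgSt.Points.map _ (AlgSt.Points.map (R ⊚ Θ') q) = _
    rw [map_comp R Θ' q, ← map_comp Θ']
    exact map_congr (Θ' ⊚ fpFst (AlgSt.overMap α) (π ⊚ p))
      (fpFst (AlgSt.overMap α) (AlgSt.overMap g)) (fun a => ⟨𝟙 _⟩) _
  have hEsnd : ∀ q : AlgSt.Points (overCat U'),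
      AlgSt.Points.map (fpSnd (AlgSt.overMap α) (π ⊚ p)) (AlgSt.Points.map E q) =
        AlgSt.Points.map (AlgSt.overMap fst') q := by
    intro q
    rw [← hRsnd q]
    change AlgSt.Points.map _ (AlgSt.Points.map (R ⊚ Θ') q) = _
    rw [map_comp R Θ' q, ← map_comp Θ']
    exact map_congr (Θ' ⊚ fpSnd (AlgSt.overMap α) (π ⊚ p))
      (fpSnd (AlgSt.overMap α) (AlgSt.overMap g)) (fun a => ⟨𝟙 _⟩) _
  refine ⟨E ⊚ M, ?_, ?_, ?_, ?_, ?_, ?_⟩
  · intro u
    rw [ofChart_eq, ← map_comp]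
    have : (E ⊚ M) ⊚ fpFst (AlgSt.overMap α) p = E ⊚ fpFst (AlgSt.overMap α) (π ⊚ p) := rfl
    rw [this, map_comp, hEfst, map_overMap_ptOf]
  · intro u
    rw [ofChart_eq, ← map_comp]
    have : (E ⊚ M) ⊚ fpSnd (AlgSt.overMap α) p =
        (E ⊚ fpSnd (AlgSt.overMap α) (π ⊚ p)) ⊚ π := rfl
    rw [this, map_comp, map_comp E, hEsnd, map_overMap_ptOf, ofChart_eq]
  · intro Q hQ
    exact Groth.Agent.Lib.Helper27.LocQOver.repByAlgSpWith_equiv_comp Q E hE M
      (repByAlgSpWith_mapSnd (AlgSt.overMap α) p π Q hQ)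
  · intro w z hwz
    have hffp := Groth.Agent.Lib.Helper27.FpFib.isFibGrpd_fp (AlgSt.overMap α) p hfT' h𝒲 hfT
    rw [ofChart_eq] at hwz
    obtain ⟨v, hv1, hv2⟩ := exists_points_fp hfU h𝒲 hffp π (fpSnd (AlgSt.overMap α) p) z
      (ptOf U w) hwz.symm
    -- transport `v` to the middle fibre product
    obtain ⟨v₁, hv₁⟩ : ∃ v₁, v₁ = AlgSt.Points.map (pasteR π p (AlgSt.overMap α)) v := ⟨_, rfl⟩
    have hMv₁ : AlgSt.Points.map M v₁ = z := by
      rw [hv₁, ← map_comp, ← map_iso (isoSnd (AlgSt.overMap α) p π), map_comp, map_id, hv1]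
    have hsv₁ : AlgSt.Points.map (fpSnd (AlgSt.overMap α) (π ⊚ p)) v₁ = ptOf U w := by
      rw [hv₁, ← map_comp, ← hv2]
      rfl
    obtain ⟨q, hq⟩ := map_surjective_of_equiv E hE v₁
    obtain ⟨u, rfl⟩ := (ptOf_bijective U').2 q
    refine ⟨u, ?_, ?_⟩
    · apply (ptOf_bijective U).1
      rw [← map_overMap_ptOf, ← hEsnd, hq, hsv₁]
    · rw [ofChart_eq, map_comp, hq, hMv₁]
  · have h1 : ∃ e₀ : ((R.toFunctor.obj (Over.mk (𝟙 U'))).obj.fst).left =
        (R'.toFunctor.obj (R.toFunctor.obj (Over.mk (𝟙 U')))).left,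
        (R.toFunctor.obj (Over.mk (𝟙 U'))).obj.fst.hom =
          eqToHom e₀ ≫ (R'.toFunctor.obj (R.toFunctor.obj (Over.mk (𝟙 U')))).hom ≫ snd' := by
      subst hR'def
      refine ⟨rfl, ?_⟩
      rw [eqToHom_refl, Category.id_comp]
      exact fst_hom_toApex α g snd' fst' sq _
    obtain ⟨e₀, h1⟩ := h1
    obtain ⟨e, he⟩ := Groth.Agent.Lib.Helper27.SliceYoneda.left_of_vert
      (i2.hom.toNatTrans.app (Over.mk (𝟙 U'))) (Vert.app i2.hom (Over.mk (𝟙 U')))
    have h2 : (i2.hom.toNatTrans.app (Over.mk (𝟙 U'))).left ≫ 𝟙 U' =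
        (R'.toFunctor.obj (R.toFunctor.obj (Over.mk (𝟙 U')))).hom :=
      Over.w (i2.hom.toNatTrans.app (Over.mk (𝟙 U')))
    rw [he] at h2
    have h2' : eqToHom e = (R'.toFunctor.obj (R.toFunctor.obj (Over.mk (𝟙 U')))).hom :=
      (Category.comp_id _).symm.trans h2
    rw [← h2'] at h1
    have hhom : Groth.Agent.Lib.Helper27.LocQChart.homOf
        ((E ⊚ M) ⊚ fpFst (AlgSt.overMap α) p) = snd' := by
      unfold Groth.Agent.Lib.Helper27.LocQChart.homOf
      change eqToHom _ ≫ (R.toFunctor.obj (Over.mk (𝟙 U'))).obj.fst.hom = snd'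
      rw [h1, ← Category.assoc, ← Category.assoc, eqToHom_trans, eqToHom_trans, eqToHom_refl,
        Category.id_comp]
    exact ⟨Groth.Agent.Lib.Helper27.LocQChart.isoOverMap _ ≪≫ eqToIso (by rw [hhom])⟩
  · have h1 : ∃ e₁ : ((R.toFunctor.obj (Over.mk (𝟙 U'))).obj.snd).left =
        (R'.toFunctor.obj (R.toFunctor.obj (Over.mk (𝟙 U')))).left,
        (R.toFunctor.obj (Over.mk (𝟙 U'))).obj.snd.hom =
          eqToHom e₁ ≫ (R'.toFunctor.obj (R.toFunctor.obj (Over.mk (𝟙 U')))).hom ≫ fst' := by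
      subst hR'def
      obtain ⟨e₃, he₃⟩ := Groth.Agent.Lib.Helper27.SliceYoneda.left_of_vert
        (R.toFunctor.obj (Over.mk (𝟙 U'))).obj.iso.inv
        (Vert.inv (vert_iso (R.toFunctor.obj (Over.mk (𝟙 U')))))
      refine ⟨e₃, ?_⟩
      rw [← he₃]
      exact snd_hom_toApex α g snd' fst' sq _
    obtain ⟨e₁, h1⟩ := h1
    obtain ⟨e, he⟩ := Groth.Agent.Lib.Helper27.SliceYoneda.left_of_vert
      (i2.hom.toNatTrans.app (Over.mk (𝟙 U'))) (Vert.app i2.hom (Over.mk (𝟙 U')))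
    have h2 : (i2.hom.toNatTrans.app (Over.mk (𝟙 U'))).left ≫ 𝟙 U' =
        (R'.toFunctor.obj (R.toFunctor.obj (Over.mk (𝟙 U')))).hom :=
      Over.w (i2.hom.toNatTrans.app (Over.mk (𝟙 U')))
    rw [he] at h2
    have h2' : eqToHom e = (R'.toFunctor.obj (R.toFunctor.obj (Over.mk (𝟙 U')))).hom :=
      (Category.comp_id _).symm.trans h2
    rw [← h2'] at h1
    have hhom : Groth.Agent.Lib.Helper27.LocQChart.homOf
        (E ⊚ fpSnd (AlgSt.overMap α) (π ⊚ p)) = fst' := by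
      unfold Groth.Agent.Lib.Helper27.LocQChart.homOf
      change eqToHom _ ≫ (R.toFunctor.obj (Over.mk (𝟙 U'))).obj.snd.hom = fst'
      rw [h1, ← Category.assoc, ← Category.assoc, eqToHom_trans, eqToHom_trans, eqToHom_refl,
        Category.id_comp]
    have hrfl : (E ⊚ M) ⊚ fpSnd (AlgSt.overMap α) p =
        (E ⊚ fpSnd (AlgSt.overMap α) (π ⊚ p)) ⊚ π := rfl
    rw [hrfl]
    exact ⟨Groth.Agent.Lib.Helper27.RepCancel.whiskerRightIso
      (Groth.Agent.Lib.Helper27.LocQChart.isoOverMap _ ≪≫ eqToIso (by rw [hhom])) π⟩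

end Tower

end Groth.Agent.Lib.Helper27.UCVal
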