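import Groth.Agent.Lib.Helper27.UCVal1
import Groth.Agent.Lib.Helper27.IsomQc1

/-!
# Closedness of base changes is smooth local on the base (helper27)
-/

set_option autoImplicit false
set_option backward.isDefEq.respectTransparency false
set_option backward.isDefEq.respectTransparency.types false

universe u

open CategoryTheory CategoryTheory.Limits FibCat AlgebraicGeometry Opposite
  Groth.Agent.Lib.Helper27.FpKit Groth.Agent.Lib.Helper27.PointsKit
  Groth.Agent.Lib.Helper27.RepWithComp Groth.Agent.Lib.Helper27.StPoints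

namespace Groth.Agent.Lib.Helper27.UCVal

variable {S : Scheme.{u}} {K : Precoverage Scheme.{u}}

local infixr:80 " ⊚ " => BasedFunctor.comp

section Equiv

variable {𝒜 ℬ 𝒞 : AlgSt.Cat S}

/-- Closedness on points passes along an equivalence of the sources (forward). -/
theorem isClosedMap_of_equiv_right (hℬ : AlgSt.IsAlgStack K ℬ) (E : 𝒜 ⥤ᵇ ℬ)
    (hE : IsEquivOver E) (a : 𝒜 ⥤ᵇ 𝒞) (b : ℬ ⥤ᵇ 𝒞)
    (hab : ∀ x, AlgSt.Points.map b (AlgSt.Points.map E x) = AlgSt.Points.map a x)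
    (ha : IsClosedMap (AlgSt.Points.map a)) : IsClosedMap (AlgSt.Points.map b) := by
  intro C hC
  have h1 : AlgSt.Points.map b '' C = AlgSt.Points.map a '' (AlgSt.Points.map E ⁻¹' C) := by
    ext y
    constructor
    · rintro ⟨x, hx, rfl⟩
      obtain ⟨x', rfl⟩ := map_surjective_of_equiv E hE x
      exact ⟨x', hx, (hab x').symm⟩
    · rintro ⟨x', hx', rfl⟩
      exact ⟨_, hx', hab x'⟩
  rw [h1]
  exact ha _ (hC.preimage (continuous_map_K hℬ E))

/-- Closedness on points passes along an equivalence of the sources (backward). -/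
theorem isClosedMap_of_equiv_left (h𝒜 : AlgSt.IsAlgStack K 𝒜) (hℬ : AlgSt.IsAlgStack K ℬ)
    (E : 𝒜 ⥤ᵇ ℬ) (hE : IsEquivOver E) (a : 𝒜 ⥤ᵇ 𝒞) (b : ℬ ⥤ᵇ 𝒞)
    (hab : ∀ x, AlgSt.Points.map b (AlgSt.Points.map E x) = AlgSt.Points.map a x)
    (hb : IsClosedMap (AlgSt.Points.map b)) : IsClosedMap (AlgSt.Points.map a) := by
  have hh := isHomeomorph_map_of_equiv_K h𝒜 hℬ E hE
  have : AlgSt.Points.map a = AlgSt.Points.map b ∘ AlgSt.Points.map E := by
    funext x; exact (hab x).symm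
  rw [this]
  exact hb.comp hh.isClosedMap

end Equiv

section Family

variable {𝒳 𝒴 𝒵 : AlgSt.Cat S}

/-- A subset of the points of an algebraic stack is closed if its preimages under a jointly
surjective family of smooth charts are closed. -/
theorem isClosed_of_family (h𝒵 : FibCat.IsFibGrpd 𝒵.p) {ι : Type*} (V : ι → Over S)
    (z : ∀ i, overCat (V i) ⥤ᵇ 𝒵)
    (hz : ∀ i, AlgSt.RepByAlgSpWith (AlgSp.LocP @Smooth) (z i))
    (hsurj : ∀ x : AlgSt.Points 𝒵, ∃ (i : ι) (v : ↥(V i).left), AlgSt.Points.ofChart (z i) v = x)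
    (D : Set (AlgSt.Points 𝒵)) (hD : ∀ i, IsClosed (AlgSt.Points.ofChart (z i) ⁻¹' D)) :
    IsClosed D := by
  rw [← isOpen_compl_iff]
  have h1 : Dᶜ = ⋃ i, AlgSt.Points.ofChart (z i) '' (AlgSt.Points.ofChart (z i) ⁻¹' D)ᶜ := by
    ext x
    constructor
    · intro hx
      obtain ⟨i, v, rfl⟩ := hsurj x
      exact Set.mem_iUnion.2 ⟨i, v, hx, rfl⟩
    · intro hx
      obtain ⟨i, v, hv, rfl⟩ := Set.mem_iUnion.1 hx
      exact hv
  rw [h1]
  exact isOpen_iUnion fun i =>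
    isOpenMap_ofChart_of_smooth h𝒵 (z i) (hz i) _ (hD i).isOpen_compl

/-- Closedness of the base change is local on the base for jointly surjective families of
smooth charts. -/
theorem isClosedMap_fpFst_of_family (h𝒳 : AlgSt.IsAlgStack K 𝒳) (h𝒴 : AlgSt.IsAlgStack K 𝒴)
    (h𝒵 : AlgSt.IsAlgStack K 𝒵) (f : 𝒳 ⥤ᵇ 𝒴) (g : 𝒵 ⥤ᵇ 𝒴) {ι : Type*} (V : ι → Over S)
    (hV : ∀ i, AlgSt.IsAlgStack K (overCat (V i)))
    (z : ∀ i, overCat (V i) ⥤ᵇ 𝒵)
    (hz : ∀ i, AlgSt.RepByAlgSpWith (AlgSp.LocP @Smooth) (z i))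
    (hsurj : ∀ x : AlgSt.Points 𝒵, ∃ (i : ι) (v : ↥(V i).left), AlgSt.Points.ofChart (z i) v = x)
    (H : ∀ i, IsClosedMap (AlgSt.Points.map (fpFst (z i ⊚ g) f))) :
    IsClosedMap (AlgSt.Points.map (fpFst g f)) := by
  intro W hW
  have hfp : AlgSt.IsAlgStack K (fp g f) :=
    Groth.Agent.Lib.Helper27.AlgStackFp2.isAlgStack_fp' g f K h𝒵 h𝒳 h𝒴
  apply isClosed_of_family h𝒵.isStack.1 V z hz hsurj
  intro i
  have hQ : AlgSt.IsAlgStack K (fp (z i) (fpFst g f)) :=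
    Groth.Agent.Lib.Helper27.AlgStackFp2.isAlgStack_fp' (z i) (fpFst g f) K (hV i) hfp h𝒵
  have hQ' : AlgSt.IsAlgStack K (fp (z i ⊚ g) f) :=
    Groth.Agent.Lib.Helper27.AlgStackFp2.isAlgStack_fp' (z i ⊚ g) f K (hV i) h𝒳 h𝒴
  -- the first projection of the iterated fibre product is closed
  have hcl : IsClosedMap (AlgSt.Points.map (fpFst (z i) (fpFst g f))) :=
    isClosedMap_of_equiv_left hQ hQ' (pasteL f g (z i)) (isEquivOver_pasteL f g (z i))
      (fpFst (z i) (fpFst g f)) (fpFst (z i ⊚ g) f)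
      (fun x => by
        rw [← map_comp]
        exact map_congr _ _ (fun a => ⟨𝟙 _⟩) x) (H i)
  have hc : IsClosed (AlgSt.Points.map (fpSnd (z i) (fpFst g f)) ⁻¹' W) :=
    hW.preimage (continuous_map_K hfp _)
  have h2 := hcl _ hc
  have h3 : AlgSt.Points.ofChart (z i) ⁻¹' (AlgSt.Points.map (fpFst g f) '' W) =
      ptOf (V i) ⁻¹' (AlgSt.Points.map (fpFst (z i) (fpFst g f)) ''
        (AlgSt.Points.map (fpSnd (z i) (fpFst g f)) ⁻¹' W)) := by
    ext v
    constructor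
    · rintro ⟨w, hw, hwv⟩
      rw [ofChart_eq] at hwv
      obtain ⟨q, hq1, hq2⟩ := exists_points_fp hfp.isStack.1 h𝒵.isStack.1 (hV i).isStack.1
        (fpFst g f) (z i) (ptOf (V i) v) w hwv.symm
      exact ⟨q, by rw [Set.mem_preimage, hq2]; exact hw, hq1⟩
    · rintro ⟨q, hq, hqv⟩
      refine ⟨AlgSt.Points.map (fpSnd (z i) (fpFst g f)) q, hq, ?_⟩
      rw [ofChart_eq, ← hqv, ← map_comp, ← map_comp]
      exact (map_iso (fpIso (z i) (fpFst g f)) q).symm
  rw [h3]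
  exact h2.preimage (isHomeomorph_ptOf (V i)).continuous

end Family

end Groth.Agent.Lib.Helper27.UCVal
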