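import Groth.Agent.Lib.Helper27.UCVal4
import Groth.Agent.Lib.Helper27.IsomQc10
import Groth.Agent.Lib.Helper27.ValWit

/-!
# Universal closedness can be tested on affine schemes over affine smooth charts (helper27)
-/

set_option autoImplicit false
set_option backward.isDefEq.respectTransparency false
set_option backward.isDefEq.respectTransparency.types false

universe u

open CategoryTheory CategoryTheory.Limits FibCat AlgebraicGeometry Opposite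
  Groth.Agent.Lib.Helper27.FpKit Groth.Agent.Lib.Helper27.PointsKit
  Groth.Agent.Lib.Helper27.RepWithComp Groth.Agent.Lib.Helper27.StPoints
  Groth.Agent.Lib.Helper27.IsomQc Groth.Agent.Lib.Helper27.RepCancel

namespace Groth.Agent.Lib.Helper27.UCVal

variable {S : Scheme.{u}} {K : Precoverage Scheme.{u}} {𝒳 𝒴 : AlgSt.Cat S}

local infixr:80 " ⊚ " => BasedFunctor.comp

/-- The test statement: closedness after base change to `Spec B' ⟶ Spec B ⟶ 𝒴`. -/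
def TestClosed (f : 𝒳 ⥤ᵇ 𝒴) {B B' : Type u} [CommRing B] [CommRing B'] (φ : B →+* B')
    (sB : Spec (CommRingCat.of B) ⟶ S) (v' : overCat (Over.mk sB) ⥤ᵇ 𝒴) : Prop :=
  IsClosedMap (AlgSt.Points.map (fpFst
    (AlgSt.overMap (Over.homMk (Spec.map (CommRingCat.ofHom φ)) rfl :
      Over.mk (Spec.map (CommRingCat.ofHom φ) ≫ sB) ⟶ Over.mk sB) ⊚ v') f))

/-- Closedness of a base change only depends on the isomorphism class of the base functor. -/
theorem isClosedMap_fpFst_of_iso (h𝒳 : AlgSt.IsAlgStack K 𝒳) (h𝒴 : AlgSt.IsAlgStack K 𝒴)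
    {𝒵 : AlgSt.Cat S} (h𝒵 : AlgSt.IsAlgStack K 𝒵) (f : 𝒳 ⥤ᵇ 𝒴) {g₁ g₂ : 𝒵 ⥤ᵇ 𝒴} (κ : g₂ ≅ g₁)
    (h : IsClosedMap (AlgSt.Points.map (fpFst g₁ f))) :
    IsClosedMap (AlgSt.Points.map (fpFst g₂ f)) := by
  have h1 : AlgSt.IsAlgStack K (fp g₁ f) :=
    Groth.Agent.Lib.Helper27.AlgStackFp2.isAlgStack_fp' g₁ f K h𝒵 h𝒳 h𝒴
  have h2 : AlgSt.IsAlgStack K (fp g₂ f) :=
    Groth.Agent.Lib.Helper27.AlgStackFp2.isAlgStack_fp' g₂ f K h𝒵 h𝒳 h𝒴
  exact isClosedMap_of_equiv_left h2 h1 (isoMapFst f g₁ g₂ κ) (isEquivOver_isoMapFst f g₁ g₂ κ)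
    (fpFst g₂ f) (fpFst g₁ f) (fun x => by rw [← map_comp, isoMapFst_fst]) h

/-- Universal closedness can be tested on affine schemes over affine smooth charts. -/
theorem isUnivClosed_of_testClosed (hK : ∀ Z : Over S, AlgSt.IsAlgStack K (overCat Z))
    (h𝒳 : AlgSt.IsAlgStack K 𝒳) (h𝒴 : AlgSt.IsAlgStack K 𝒴) (f : 𝒳 ⥤ᵇ 𝒴)
    (H : ∀ (B B' : Type u) [CommRing B] [CommRing B'] (φ : B →+* B')
      (sB : Spec (CommRingCat.of B) ⟶ S) (v' : overCat (Over.mk sB) ⥤ᵇ 𝒴),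
      AlgSt.RepByAlgSpWith (AlgSp.LocP @Smooth) v' → TestClosed f φ sB v') :
    AlgSt.IsUnivClosed K f := by
  intro 𝒵 h𝒵 g
  obtain ⟨Z₀, z₀, hz₁, hz₂⟩ := h𝒵.atlas
  obtain ⟨V, v, hv₁, hv₂⟩ := h𝒴.atlas
  obtain ⟨A, a, a', hsm, ⟨e⟩, hpts⟩ :=
    exists_chart_comparison h𝒴.isStack.1 (z₀ ⊚ g) v @Smooth hv₁
  have hasurj : Function.Surjective a.left := by
    intro u
    obtain ⟨y₀, hy₀⟩ := ofChart_surjective h𝒴.isStack.1 v hv₂ (AlgSt.Points.ofChart (z₀ ⊚ g) u)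
    obtain ⟨t, ht, -⟩ := hpts u y₀ hy₀.symm
    exact ⟨t, ht⟩
  have hsmooth : CompHyp (AlgSp.LocP (S := S) @Smooth) :=
    compHyp_locP Groth.Agent.Lib.Helper3.isEtLocal_smooth
  -- affine opens around each point of `A`
  have hex : ∀ t : ↥A.left, ∃ (V' : V.left.Opens) (A' : A.left.Opens), IsAffineOpen V' ∧
      IsAffineOpen A' ∧ t ∈ A' ∧ A' ≤ a'.left ⁻¹ᵁ V' := by
    intro t
    obtain ⟨V', hV', htV', -⟩ :=
      exists_isAffineOpen_mem_and_subset (x := a'.left t) (U := (⊤ : V.left.Opens)) trivial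
    obtain ⟨A', hA', htA', hle⟩ :=
      exists_isAffineOpen_mem_and_subset (x := t) (U := a'.left ⁻¹ᵁ V') htV'
    exact ⟨V', A', hV', hA', htA', hle⟩
  choose V' A' hV' hA' htA' hle using hex
  -- the data attached to a point
  let φ : ∀ t : ↥A.left, Γ(V.left, V' t) →+* Γ(A.left, A' t) :=
    fun t => (a'.left.appLE (V' t) (A' t) (hle t)).hom
  let sB : ∀ t : ↥A.left, Spec (CommRingCat.of Γ(V.left, V' t)) ⟶ S :=
    fun t => (hV' t).fromSpec ≫ V.hom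
  let jV : ∀ t : ↥A.left, Over.mk (sB t) ⟶ V := fun t => Over.homMk (hV' t).fromSpec rfl
  have hsq : ∀ t : ↥A.left, Spec.map (CommRingCat.ofHom (φ t)) ≫ (hV' t).fromSpec =
      (hA' t).fromSpec ≫ a'.left := fun t =>
    IsAffineOpen.SpecMap_appLE_fromSpec a'.left (hV' t) (hA' t) (hle t)
  let AO : ↥A.left → Over S := fun t => Over.mk (Spec.map (CommRingCat.ofHom (φ t)) ≫ sB t)
  let c : ∀ t : ↥A.left, AO t ⟶ Over.mk (sB t) :=
    fun t => Over.homMk (Spec.map (CommRingCat.ofHom (φ t))) rfl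
  let jA : ∀ t : ↥A.left, AO t ⟶ A := fun t => Over.homMk (hA' t).fromSpec (by
    change (hA' t).fromSpec ≫ A.hom = Spec.map (CommRingCat.ofHom (φ t)) ≫
      (hV' t).fromSpec ≫ V.hom
    rw [← Over.w a', ← Category.assoc, ← hsq t, Category.assoc])
  have hcomm : ∀ t : ↥A.left, jA t ≫ a' = c t ≫ jV t := fun t =>
    Over.OverMorphism.ext (hsq t).symm
  let v' : ∀ t : ↥A.left, overCat (Over.mk (sB t)) ⥤ᵇ 𝒴 := fun t => AlgSt.overMap (jV t) ⊚ v
  have hfO : ∀ Z : Over S, FibCat.IsFibGrpd (overCat Z).p :=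
    fun Z => Groth.Agent.Lib.Helper27.ReprAux.isFibGrpd_overCat Z
  have hov : ∀ {Z Z' : Over S} (j : Z ⟶ Z'), Smooth j.left →
      AlgSt.RepByAlgSpWith (AlgSp.LocP @Smooth) (AlgSt.overMap j) := fun j hj =>
    Groth.Agent.Lib.Helper27.LocQSmoothOpen.repByAlgSpWith_overMap _
      (Groth.Agent.Lib.Helper27.QcImage.locP_stable Groth.Agent.Lib.Helper3.isEtLocal_smooth) j
      (Groth.Agent.Lib.Helper27.LocQSmoothOpen.locP_smooth_yon_map j hj)
  have hv' : ∀ t, AlgSt.RepByAlgSpWith (AlgSp.LocP @Smooth) (v' t) := fun t =>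
    comp_gen _ hsmooth (hfO _) (hfO _) (AlgSt.overMap (jV t)) v
      (hov (jV t) (by change Smooth (hV' t).fromSpec; infer_instance)) hv₁
  let z : ∀ t : ↥A.left, overCat (AO t) ⥤ᵇ 𝒵 := fun t => AlgSt.overMap (jA t ≫ a) ⊚ z₀
  have hz : ∀ t, AlgSt.RepByAlgSpWith (AlgSp.LocP @Smooth) (z t) := fun t =>
    comp_gen _ hsmooth (hfO _) (hfO _) (AlgSt.overMap (jA t ≫ a)) z₀
      (hov (jA t ≫ a) (by
        haveI : Smooth a.left := hsm
        change Smooth ((hA' t).fromSpec ≫ a.left)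
        infer_instance)) hz₁
  refine isClosedMap_fpFst_of_family h𝒳 h𝒴 h𝒵 f g AO (fun t => hK _) z hz ?_ ?_
  · intro x
    obtain ⟨y, rfl⟩ := ofChart_surjective h𝒵.isStack.1 z₀ hz₂ x
    obtain ⟨t, rfl⟩ := hasurj y
    have hr : t ∈ Set.range (hA' t).fromSpec := by
      rw [(hA' t).range_fromSpec]
      exact htA' t
    obtain ⟨s, hs⟩ := hr
    refine ⟨t, s, ?_⟩
    change AlgSt.Points.ofChart (AlgSt.overMap (jA t ≫ a) ⊚ z₀) s = _
    rw [ofChart_overMap]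
    change AlgSt.Points.ofChart z₀ (a.left ((hA' t).fromSpec s)) = _
    rw [hs]
  · intro t
    have iso : z t ⊚ g ≅ AlgSt.overMap (c t) ⊚ v' t :=
      (overMapCompIso (jA t) a (jA t ≫ a) rfl (z₀ ⊚ g)).symm ≪≫
        whiskerLeftIso (AlgSt.overMap (jA t)) e ≪≫
        overMapCompIso (jA t) a' (c t ≫ jV t) (hcomm t) v ≪≫
        (overMapCompIso (c t) (jV t) (c t ≫ jV t) rfl v).symm
    exact isClosedMap_fpFst_of_iso h𝒳 h𝒴 (hK _) f iso (H _ _ (φ t) (sB t) (v' t) (hv' t))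

end Groth.Agent.Lib.Helper27.UCVal
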