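import Groth.Agent.Lib.Helper27.UCVal3

/-!
# Functors into a 2-fibre product over a slice are determined by their projections (helper27)
-/

set_option autoImplicit false
set_option backward.isDefEq.respectTransparency false
set_option backward.isDefEq.respectTransparency.types false

universe u

open CategoryTheory CategoryTheory.Limits FibCat AlgebraicGeometry Opposite
  Groth.Agent.Lib.Helper27.FpKit Groth.Agent.Lib.Helper27.PointsKit
  Groth.Agent.Lib.Helper27.RepWithComp Groth.Agent.Lib.Helper27.StPoints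

namespace Groth.Agent.Lib.Helper27.UCVal

variable {S : Scheme.{u}}

local infixr:80 " ⊚ " => BasedFunctor.comp

/-- Vertical morphisms of a slice between the same objects are equal. -/
theorem vert_unique {T : Over S} {X Y : (overCat T).obj} (φ ψ : X ⟶ Y)
    (hφ : Vert (𝒳 := overCat T) φ) (hψ : Vert (𝒳 := overCat T) ψ) : φ = ψ := by
  obtain ⟨e, he⟩ := Groth.Agent.Lib.Helper27.SliceYoneda.left_of_vert φ hφ
  obtain ⟨e', he'⟩ := Groth.Agent.Lib.Helper27.SliceYoneda.left_of_vert ψ hψ
  apply Over.OverMorphism.ext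
  rw [he, he']

section Uniq

variable {𝒯 𝒜 𝒲 : AlgSt.Cat S} {T : Over S} (G : 𝒜 ⥤ᵇ overCat T) (p : 𝒲 ⥤ᵇ overCat T)
  (a b : 𝒯 ⥤ᵇ fp G p) (e₁ : a ⊚ fpFst G p ≅ b ⊚ fpFst G p)
  (e₂ : a ⊚ fpSnd G p ≅ b ⊚ fpSnd G p)

/-- The componentwise isomorphism. -/
def isoOfProjObj (t : 𝒯.obj) : a.toFunctor.obj t ≅ b.toFunctor.obj t :=
  mkIso (t := a.toFunctor.obj t) (t' := b.toFunctor.obj t)
    (((BasedNatTrans.forgetful _ _).mapIso e₁).app t)
    (((BasedNatTrans.forgetful _ _).mapIso e₂).app t)
    (vert_unique _ _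
      (((Vert.app e₁.hom t).map G).comp (vert_iso (b.toFunctor.obj t)))
      ((vert_iso (a.toFunctor.obj t)).comp ((Vert.app e₂.hom t).map p)))

theorem isoOfProjObj_vert (t : 𝒯.obj) : Vert (isoOfProjObj G p a b e₁ e₂ t).hom := by
  rw [vert_hom_iff]
  exact Vert.app e₁.hom t

/-- Two functors into a 2-fibre product over a slice with isomorphic projections are
isomorphic. -/
def isoOfProj : a ≅ b :=
  BasedNatIso.mkNatIso
    (NatIso.ofComponents (fun t => isoOfProjObj G p a b e₁ e₂ t)
      (fun {t t'} m => by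
        apply Groth.Agent.Lib.Helper27.StackFp.hom_ext'
        · exact e₁.hom.toNatTrans.naturality m
        · exact e₂.hom.toNatTrans.naturality m))
    (fun t => (isoOfProjObj_vert G p a b e₁ e₂ t).lift (a.w_obj t))

end Uniq

end Groth.Agent.Lib.Helper27.UCVal
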