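import Groth.Agent.Lib.Helper27.UCVal5
import Groth.Agent.Lib.Helper27.UCVal6
import Groth.Agent.Lib.Helper3.SpUC

/-!
# Closedness after polynomial base changes implies closedness after affine base changes, for
# stacks (helper27)

The stack version of helper3's `SpUC.core`, run on an affine smooth chart.
-/

set_option autoImplicit false
set_option backward.isDefEq.respectTransparency false
set_option backward.isDefEq.respectTransparency.types false

universe u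

open CategoryTheory CategoryTheory.Limits FibCat AlgebraicGeometry Opposite Topology
  Groth.Agent.Lib.Helper27.FpKit Groth.Agent.Lib.Helper27.PointsKit
  Groth.Agent.Lib.Helper27.RepWithComp Groth.Agent.Lib.Helper27.StPoints
  Groth.Agent.Lib.Helper27.IsomQc Groth.Agent.Lib.Helper27.RepCancel
  Groth.Agent.Lib.Helper27.LocQChart
  Groth.Agent.Lib.lead.UnivClosedAffine Groth.Agent.Lib.lead.UnivSubtrAffine
open Groth.Agent.Lib.Helper3.SpUC (V0 TC cC cAlg cAlg_cC UC uFst uSnd isPullback_UC aTo aTo_uFst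
  aTo_uSnd)

namespace Groth.Agent.Lib.Helper27.UCVal

variable {S : Scheme.{u}} {K : Precoverage Scheme.{u}} {𝒳 𝒴 : AlgSt.Cat S}
  {B : Type u} [CommRing B] (sB : Spec (CommRingCat.of B) ⟶ S)

local infixr:80 " ⊚ " => BasedFunctor.comp

/-- The pullback square of the transition maps of the base changes of a chart. -/
theorem isPullback_aTo {U : Over S} (g : U ⟶ V0 sB) {C C' : Type u} [CommRing C] [Algebra B C]
    [CommRing C'] [Algebra B C'] (α : C →ₐ[B] C') :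
    IsPullback (uSnd sB g C') (aTo sB g α) (cAlg sB α) (uSnd sB g C) := by
  refine (IsPullback.of_map (Over.forget S) ?_ ?_).flip
  · exact aTo_uSnd sB g α
  · exact isPullback_aT (f := g.left) α

/-- Closedness after base change to polynomial rings over `B` implies closedness after base
change to every `B`-algebra. -/
theorem core_stack (hK : ∀ Z : Over S, AlgSt.IsAlgStack K (overCat Z))
    (h𝒳 : AlgSt.IsAlgStack K 𝒳) (h𝒴 : AlgSt.IsAlgStack K 𝒴) (f : 𝒳 ⥤ᵇ 𝒴)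
    (v' : overCat (V0 sB) ⥤ᵇ 𝒴) {U : Over S} [IsAffine U.left]
    (x₀ : overCat U ⥤ᵇ fp v' f)
    (hx₁ : AlgSt.RepByAlgSpWith (AlgSp.LocP @Smooth) x₀)
    (hx₂ : AlgSt.RepByAlgSpWith AlgSp.IsSurjectiveMor x₀)
    (Htest : ∀ (n : Type u) [Finite n] [Nonempty n],
      IsClosedMap (AlgSt.Points.map
        (fpFst (AlgSt.overMap (cC sB (MvPolynomial n B)) ⊚ v') f)))
    (B' : Type u) [CommRing B'] [Algebra B B'] :
    IsClosedMap (AlgSt.Points.map (fpFst (AlgSt.overMap (cC sB B') ⊚ v') f)) := by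
  have h𝒲 : AlgSt.IsAlgStack K (fp v' f) :=
    Groth.Agent.Lib.Helper27.AlgStackFp2.isAlgStack_fp' v' f K (hK _) h𝒳 h𝒴
  obtain ⟨q, hq⟩ : ∃ q : fp v' f ⥤ᵇ overCat (V0 sB), q = fpFst v' f := ⟨_, rfl⟩
  obtain ⟨g₀, hg₀⟩ : ∃ g₀ : U ⟶ V0 sB, g₀ = homOf (x₀ ⊚ q) := ⟨_, rfl⟩
  have θ₀ : x₀ ⊚ q ≅ AlgSt.overMap g₀ := by rw [hg₀]; exact isoOverMap (x₀ ⊚ q)
  haveI : IsAffine (V0 sB).left := (inferInstance : IsAffine (Spec (CommRingCat.of B)))
  haveI : QuasiCompact g₀.left := inferInstance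
  have hP : ∀ (C : Type u) [CommRing C] [Algebra B C],
      AlgSt.IsAlgStack K (fp (AlgSt.overMap (cC sB C)) q) := fun C _ _ =>
    Groth.Agent.Lib.Helper27.AlgStackFp2.isAlgStack_fp' _ q K (hK _) h𝒲 (hK _)
  -- closedness statements on iterated fibre products
  have hred : ∀ (C : Type u) [CommRing C] [Algebra B C],
      IsClosedMap (AlgSt.Points.map (fpFst (AlgSt.overMap (cC sB C) ⊚ v') f)) ↔
        IsClosedMap (AlgSt.Points.map (fpFst (AlgSt.overMap (cC sB C)) q)) := by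
    intro C _ _
    have h2 : AlgSt.IsAlgStack K (fp (AlgSt.overMap (cC sB C) ⊚ v') f) :=
      Groth.Agent.Lib.Helper27.AlgStackFp2.isAlgStack_fp' _ f K (hK _) h𝒳 h𝒴
    have h1 := hP C
    subst hq
    have hab : ∀ x, AlgSt.Points.map (fpFst (AlgSt.overMap (cC sB C) ⊚ v') f)
        (AlgSt.Points.map (pasteL f v' (AlgSt.overMap (cC sB C))) x) =
        AlgSt.Points.map (fpFst (AlgSt.overMap (cC sB C)) (fpFst v' f)) x := by
      intro x
      rw [← map_comp]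
      exact map_congr _ _ (fun a => ⟨𝟙 _⟩) x
    exact ⟨isClosedMap_of_equiv_left h1 h2 _ (isEquivOver_pasteL f v' _) _ _ hab,
      isClosedMap_of_equiv_right h2 _ (isEquivOver_pasteL f v' _) _ _ hab⟩
  -- level one charts
  have lvl1 : ∀ (C : Type u) [CommRing C] [Algebra B C],
      ∃ πC : overCat (UC sB g₀ C) ⥤ᵇ fp (AlgSt.overMap (cC sB C)) q,
      (∀ u : ↥(UC sB g₀ C).left,
        AlgSt.Points.map (fpFst (AlgSt.overMap (cC sB C)) q) (AlgSt.Points.ofChart πC u) =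
          ptOf (TC sB C) ((uSnd sB g₀ C).left u)) ∧
      (∀ u : ↥(UC sB g₀ C).left,
        AlgSt.Points.map (fpSnd (AlgSt.overMap (cC sB C)) q) (AlgSt.Points.ofChart πC u) =
          AlgSt.Points.ofChart x₀ ((uFst sB g₀ C).left u)) ∧
      (∀ Q : MorphismProperty (AlgSp.Sp S), AlgSt.RepByAlgSpWith Q x₀ →
        AlgSt.RepByAlgSpWith Q πC) ∧
      (∀ (w : ↥U.left) (z : AlgSt.Points (fp (AlgSt.overMap (cC sB C)) q)),
        AlgSt.Points.ofChart x₀ w = AlgSt.Points.map (fpSnd (AlgSt.overMap (cC sB C)) q) z →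
          ∃ u : ↥(UC sB g₀ C).left, (uFst sB g₀ C).left u = w ∧
            AlgSt.Points.ofChart πC u = z) ∧
      Nonempty (πC ⊚ fpFst (AlgSt.overMap (cC sB C)) q ≅ AlgSt.overMap (uSnd sB g₀ C)) ∧
      Nonempty (πC ⊚ fpSnd (AlgSt.overMap (cC sB C)) q ≅
        AlgSt.overMap (uFst sB g₀ C) ⊚ x₀) := fun C _ _ =>
    exists_chart_baseChange h𝒲.isStack.1 q x₀ g₀ θ₀ (cC sB C) (uSnd sB g₀ C) (uFst sB g₀ C)
      (isPullback_UC sB g₀ C).flip
  have hx₀s := ofChart_surjective h𝒲.isStack.1 x₀ hx₂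
  rw [hred B']
  obtain ⟨π', hi', -, -, hiv', ⟨ι₁'⟩, ⟨ι₂'⟩⟩ := lvl1 B'
  apply isClosedMap_of_forall_compl_image_mem_nhds
  intro Z hZ t ht
  obtain ⟨pt, hpt⟩ := (ptOf_bijective (TC sB B')).2 t
  let W : Set ↥(PB B' g₀.left) := AlgSt.Points.ofChart π' ⁻¹' Zᶜ
  have hW : IsOpen W := hZ.isOpen_compl.preimage (continuous_ofChart_K (hP B') π')
  have hfibW : (pullback.snd g₀.left (Spec.map (CommRingCat.ofHom (algebraMap B B')))).base ⁻¹' {pt}
      ⊆ W := by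
    intro u hu hzu
    apply ht
    refine ⟨AlgSt.Points.ofChart π' u, hzu, ?_⟩
    rw [hi' u, ← hpt]
    congr 1
  obtain ⟨n, hfin, hne, α, O'U, hO'U, hsub, hfib⟩ := exists_test g₀.left B' pt W hW hfibW
  -- level one at the polynomial ring
  obtain ⟨πC, -, -, hiiiC, hivC, ⟨ι₁C⟩, ⟨ι₂C⟩⟩ := lvl1 (MvPolynomial n B)
  have hπCs : Function.Surjective (AlgSt.Points.ofChart πC) := by
    intro z
    obtain ⟨w, hw⟩ := hx₀s (AlgSt.Points.map (fpSnd _ q) z)
    obtain ⟨u, -, hu⟩ := hivC w z hw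
    exact ⟨u, hu⟩
  have hπCo : IsOpenMap (AlgSt.Points.ofChart πC) :=
    isOpenMap_ofChart_of_smooth (hP (MvPolynomial n B)).isStack.1 πC (hiiiC _ hx₁)
  -- level two
  obtain ⟨pC, hpC⟩ : ∃ pC : fp (AlgSt.overMap (cC sB (MvPolynomial n B))) q ⥤ᵇ
      overCat (TC sB (MvPolynomial n B)), pC = fpFst _ q := ⟨_, rfl⟩
  have ι₁C' : πC ⊚ pC ≅ AlgSt.overMap (uSnd sB g₀ (MvPolynomial n B)) := by
    rw [hpC]; exact ι₁C
  obtain ⟨π'', hi'', hii'', -, hiv'', ⟨ι₁''⟩, ⟨ι₂''⟩⟩ :=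
    exists_chart_baseChange (hP (MvPolynomial n B)).isStack.1 pC πC
      (uSnd sB g₀ (MvPolynomial n B)) ι₁C' (cAlg sB α) (uSnd sB g₀ B') (aTo sB g₀ α)
      (isPullback_aTo sB g₀ α)
  have hπ''s : Function.Surjective (AlgSt.Points.ofChart π'') := by
    intro z
    obtain ⟨w, hw⟩ := hπCs (AlgSt.Points.map (fpSnd _ pC) z)
    obtain ⟨u, -, hu⟩ := hiv'' w z hw
    exact ⟨u, hu⟩
  -- the comparison with the fibre product over `B'`
  let κ : AlgSt.overMap (cAlg sB α) ⊚ AlgSt.overMap (cC sB (MvPolynomial n B)) ≅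
      AlgSt.overMap (cC sB B') :=
    Groth.Agent.Lib.Helper27.ValWit.overMapComp _ _ ≪≫ eqToIso (by rw [cAlg_cC])
  subst hpC
  obtain ⟨Ψ, hΨdef⟩ : ∃ Ψ : fp (AlgSt.overMap (cAlg sB α))
      (fpFst (AlgSt.overMap (cC sB (MvPolynomial n B))) q) ⥤ᵇ fp (AlgSt.overMap (cC sB B')) q,
      Ψ = pasteL q (AlgSt.overMap (cC sB (MvPolynomial n B))) (AlgSt.overMap (cAlg sB α)) ⊚
        isoMapFst q _ _ κ := ⟨_, rfl⟩
  have hΨ : IsEquivOver Ψ := by
    rw [hΨdef]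
    exact isEquivOver_comp _ _ (isEquivOver_pasteL _ _ _) (isEquivOver_isoMapFst _ _ _ _)
  have hΨfst : ∀ z, AlgSt.Points.map (fpFst (AlgSt.overMap (cC sB B')) q) (AlgSt.Points.map Ψ z) =
      AlgSt.Points.map (fpFst (AlgSt.overMap (cAlg sB α))
        (fpFst (AlgSt.overMap (cC sB (MvPolynomial n B))) q)) z := by
    intro z
    rw [← map_comp, hΨdef]
    exact map_congr _ _ (fun a => ⟨𝟙 _⟩) z
  -- comparison of the two charts of the fibre product over `B'`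
  have e₁ : π' ⊚ fpFst (AlgSt.overMap (cC sB B')) q ≅
      (π'' ⊚ Ψ) ⊚ fpFst (AlgSt.overMap (cC sB B')) q := by
    rw [hΨdef]
    exact ι₁' ≪≫ ι₁''.symm
  have e₂ : π' ⊚ fpSnd (AlgSt.overMap (cC sB B')) q ≅
      (π'' ⊚ Ψ) ⊚ fpSnd (AlgSt.overMap (cC sB B')) q := by
    rw [hΨdef]
    exact ι₂' ≪≫
      (overMapCompIso (aTo sB g₀ α) (uFst sB g₀ (MvPolynomial n B)) (uFst sB g₀ B')
        (aTo_uFst sB g₀ α) x₀).symm ≪≫
      (whiskerLeftIso (AlgSt.overMap (aTo sB g₀ α)) ι₂C).symm ≪≫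
      (whiskerRightIso ι₂'' (fpSnd (AlgSt.overMap (cC sB (MvPolynomial n B))) q)).symm
  have hcmp : ∀ u, AlgSt.Points.ofChart π' u = AlgSt.Points.map Ψ (AlgSt.Points.ofChart π'' u) := by
    intro u
    rw [ofChart_congr (isoOfProj _ q π' (π'' ⊚ Ψ) e₁ e₂) u, ofChart_eq, map_comp, ← ofChart_eq]
  have hFZ : AlgSt.Points.map (fpFst (AlgSt.overMap (cC sB B')) q) '' Z =
      AlgSt.Points.map (fpFst (AlgSt.overMap (cAlg sB α))
        (fpFst (AlgSt.overMap (cC sB (MvPolynomial n B))) q)) '' (AlgSt.Points.map Ψ ⁻¹' Z) := by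
    ext y
    constructor
    · rintro ⟨z, hz, rfl⟩
      obtain ⟨z', rfl⟩ := map_surjective_of_equiv Ψ hΨ z
      exact ⟨z', hz, (hΨfst z').symm⟩
    · rintro ⟨z', hz', rfl⟩
      exact ⟨_, hz', hΨfst z'⟩
  rw [hFZ]
  have hfT : ∀ Z : Over S, FibCat.IsFibGrpd (overCat Z).p :=
    fun Z => Groth.Agent.Lib.Helper27.ReprAux.isFibGrpd_overCat Z
  refine compl_image_mem_nhds
    (AlgSt.Points.map (fpFst (AlgSt.overMap (cAlg sB α))
      (fpFst (AlgSt.overMap (cC sB (MvPolynomial n B))) q)))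
    (AlgSt.Points.map (fpFst (AlgSt.overMap (cC sB (MvPolynomial n B))) q))
    (AlgSt.Points.map (AlgSt.overMap (cAlg sB α)))
    (AlgSt.Points.map (fpSnd (AlgSt.overMap (cAlg sB α))
      (fpFst (AlgSt.overMap (cC sB (MvPolynomial n B))) q)))
    (continuous_map_K (hK _) _) (fun z => ?_) (fun t' z' e => ?_)
    ((hred (MvPolynomial n B)).1 (Htest n)) (AlgSt.Points.map Ψ ⁻¹' Z)
    (AlgSt.Points.ofChart πC '' O'U) (hπCo _ hO'U) t (fun z hzt => ?_) (fun z hzZ hcon => ?_)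
  · rw [← map_comp, ← map_comp]
    exact (map_iso (fpIso _ _) z).symm
  · obtain ⟨w, hw1, hw2⟩ := exists_points_fp (hP (MvPolynomial n B)).isStack.1 (hfT _) (hfT _)
      (fpFst (AlgSt.overMap (cC sB (MvPolynomial n B))) q) (AlgSt.overMap (cAlg sB α)) t' z' e.symm
    exact ⟨w, hw2, hw1⟩
  · obtain ⟨u, rfl⟩ := hπ''s z
    rw [hi'' u, ← hpt] at hzt
    have hu : (uSnd sB g₀ B').left u = pt := (ptOf_bijective (TC sB B')).1 hzt
    rw [hii'' u]
    exact ⟨_, hfib hu, rfl⟩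
  · obtain ⟨w, hw, hwz⟩ := hcon
    obtain ⟨u, hu1, hu2⟩ := hiv'' w z hwz
    have huW : u ∈ W := hsub (show (aT g₀.left α).base u ∈ O'U from hu1 ▸ hw)
    apply huW
    change AlgSt.Points.ofChart π' u ∈ Z
    rw [hcmp u, hu2]
    exact hzZ

end Groth.Agent.Lib.Helper27.UCVal
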