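import Groth.Agent.Lib.Helper27.UCVal5
import Groth.Agent.Lib.Helper27.LocQBase
import Groth.Agent.Lib.Helper27.LocQComp
import Groth.Agent.Lib.Helper27.LocQRep
import Groth.Agent.Lib.Helper27.LocQFppfCancel
import Groth.Agent.Lib.Helper27.LocQDiagLfp
import Groth.Agent.Lib.Helper27.SmLocP
import Groth.Agent.Lib.Helper3.AlgSpDvrCl

/-!
# Charts of base changes of a locally finite type morphism (helper27)
-/

set_option autoImplicit false
set_option backward.isDefEq.respectTransparency false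
set_option backward.isDefEq.respectTransparency.types false

universe u

open CategoryTheory CategoryTheory.Limits FibCat AlgebraicGeometry Opposite Topology
  Groth.Agent.Lib.Helper27.FpKit Groth.Agent.Lib.Helper27.PointsKit
  Groth.Agent.Lib.Helper27.RepWithComp Groth.Agent.Lib.Helper27.StPoints
  Groth.Agent.Lib.Helper27.RepCancel Groth.Agent.Lib.Helper27.LocQChart

namespace Groth.Agent.Lib.Helper27.UCVal

variable {S : Scheme.{u}} {K : Precoverage Scheme.{u}} {𝒳 𝒴 : AlgSt.Cat S}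

local infixr:80 " ⊚ " => BasedFunctor.comp

theorem lft_comp' : ∀ ⦃X₁ Y₁ Z₁ : AlgSp.Sp S⦄, AlgSp.IsAlgSpace X₁ → AlgSp.IsAlgSpace Y₁ →
    AlgSp.IsAlgSpace Z₁ → ∀ (a : X₁ ⟶ Y₁) (b : Y₁ ⟶ Z₁), AlgSp.LocP @LocallyOfFiniteType a →
    AlgSp.LocP @LocallyOfFiniteType b → AlgSp.LocP @LocallyOfFiniteType (a ≫ b) :=
  fun _ _ _ h1 h2 h3 a b ha hb =>
    Groth.Agent.Lib.Helper3.locP_comp Groth.Agent.Lib.Helper3.isEtLocal_locallyOfFiniteType
      h1 h2 h3 a b ha hb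

/-- The scheme map underlying a smooth surjective chart of the base change of a locally finite
type morphism to a scheme is locally of finite type. -/
theorem lft_chart (h𝒳 : FibCat.IsFibGrpd 𝒳.p) (h𝒴 : FibCat.IsFibGrpd 𝒴.p) (f : 𝒳 ⥤ᵇ 𝒴)
    (hft : AlgSt.LocQ (AlgSp.LocP @LocallyOfFiniteType) f) {T U' : Over S}
    (t : overCat T ⥤ᵇ 𝒴) (x' : overCat U' ⥤ᵇ fp t f)
    (hx'₁ : AlgSt.RepByAlgSpWith (AlgSp.LocP @Smooth) x')
    (hx'₂ : AlgSt.RepByAlgSpWith AlgSp.IsSurjectiveMor x') :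
    LocallyOfFiniteType (homOf (x' ⊚ fpFst t f)).left := by
  have hP := Groth.Agent.Lib.Helper27.SmLocP.isSmoothLocalST_locP_lft (S := S)
  obtain ⟨V', y', hy'₁, hy'₂⟩ := (Groth.Agent.Lib.Helper27.QcStack.isAlgStack_overCat T).atlas
  have h1 : AlgSt.LocQ (AlgSp.LocP @LocallyOfFiniteType) (fpFst t f) :=
    Groth.Agent.Lib.Helper27.LocQBase.locQ_fpFst _ hP
      Groth.Agent.Lib.Helper27.LocQDiagLfp.lft_baseChange h𝒳 h𝒴 f t y' hy'₁ hy'₂ hft
  have hx'l : AlgSt.RepByAlgSpWith (AlgSp.LocP @LocallyOfFiniteType) x' :=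
    Groth.Agent.Lib.Helper27.SepDiag.repByAlgSpWith_mono x'
      (fun _ _ g hg => Groth.Agent.Lib.Helper3.locP_mono
        (fun _ _ k hk => by haveI : Smooth k := hk; exact (inferInstance : LocallyOfFiniteType k))
        hg) hx'₁
  have h2 : AlgSt.LocQ (AlgSp.LocP @LocallyOfFiniteType) x' :=
    Groth.Agent.Lib.Helper27.LocQRep.locQ_of_repByAlgSpWith _ hP x' x' hx'₁ hx'₂ hx'l
  have h3 : AlgSt.LocQ (AlgSp.LocP @LocallyOfFiniteType) (x' ⊚ fpFst t f) :=
    Groth.Agent.Lib.Helper27.LocQComp.locQ_comp _ hP lft_comp' x' (fpFst t f) h2 h1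
  exact Groth.Agent.Lib.Helper27.LocQFppfCancel.prop_homOf_of_locQ
    Groth.Agent.Lib.Helper27.SmLocP.isSmLocal_lft (x' ⊚ fpFst t f) h3

end Groth.Agent.Lib.Helper27.UCVal
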