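import Groth.Prelude.Def_W4stkalgstUpp
import Groth.Prelude.Def_FibCat2
import Mathlib.CategoryTheory.Localization.CalculusOfFractions
import Mathlib.CategoryTheory.FiberedCategory.Fibered
import Mathlib.CategoryTheory.Limits.Shapes.Pullback.IsPullback.Basic
import Mathlib.CategoryTheory.Limits.Preserves.Shapes.Pullbacks
import Mathlib.CategoryTheory.Limits.Preserves.Shapes.Equalizers
import Mathlib.CategoryTheory.FinCategory.Basic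

/-!
# The localisation `u_p 𝒮` (helper27): calculus of right fractions for `uppR`
-/

set_option autoImplicit false
set_option backward.isDefEq.respectTransparency false
set_option backward.isDefEq.respectTransparency.types false

universe v₃ u₃ v₂ u₂ v u

open CategoryTheory CategoryTheory.Limits Stk

namespace Groth.Agent.Lib.Helper27.UpLoc

variable {C : Type u} [Category.{v} C] {D : Type u₂} [Category.{v₂} D] (u : C ⥤ D)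
  (𝒮 : BasedCategory.{v₃, u₃} C)

theorem isStronglyCartesian_map {R S : C} (f : R ⟶ S) {a b : 𝒮.obj} (φ : a ⟶ b)
    [𝒮.p.IsStronglyCartesian f φ] : 𝒮.p.IsStronglyCartesian (𝒮.p.map φ) φ := by
  subst_hom_lift 𝒮.p f φ
  infer_instance

theorem uppR_id (a : UppObj u 𝒮) : uppR u 𝒮 (𝟙 a) := by
  refine ⟨?_, ?_⟩
  · change 𝒮.p.IsStronglyCartesian (𝒮.p.map (𝟙 a.x)) (𝟙 a.x)
    infer_instance
  · change IsIso (𝟙 a.V)
    infer_instance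

theorem uppR_comp {a b c : UppObj u 𝒮} (f : a ⟶ b) (g : b ⟶ c) (hf : uppR u 𝒮 f)
    (hg : uppR u 𝒮 g) : uppR u 𝒮 (f ≫ g) := by
  obtain ⟨hf1, hf2⟩ := hf
  obtain ⟨hg1, hg2⟩ := hg
  refine ⟨?_, ?_⟩
  · change 𝒮.p.IsStronglyCartesian (𝒮.p.map (f.top ≫ g.top)) (f.top ≫ g.top)
    rw [Functor.map_comp]
    infer_instance
  · change IsIso (f.bot ≫ g.bot)
    infer_instance

instance : (uppR u 𝒮).IsMultiplicative where
  id_mem := uppR_id u 𝒮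
  comp_mem := uppR_comp u 𝒮

variable {u 𝒮}

theorem ore_aux {a b b' : UppObj u 𝒮} (f : a ⟶ b') (s : b ⟶ b') (hs : uppR u 𝒮 s)
    {W : C} (pr1 : W ⟶ 𝒮.p.obj a.x) (pr2 : W ⟶ 𝒮.p.obj b.x)
    (hw : pr1 ≫ 𝒮.p.map f.top = pr2 ≫ 𝒮.p.map s.top)
    (hpb : IsPullback (u.map pr1) (u.map pr2) (u.map (𝒮.p.map f.top)) (u.map (𝒮.p.map s.top)))
    {x' : 𝒮.obj} (t₀ : x' ⟶ a.x) [𝒮.p.IsStronglyCartesian pr1 t₀] :
    ∃ (a' : UppObj u 𝒮) (t : a' ⟶ a) (g : a' ⟶ b), uppR u 𝒮 t ∧ t ≫ f = g ≫ s := by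
  have hcart : 𝒮.p.IsStronglyCartesian (𝒮.p.map t₀) t₀ := isStronglyCartesian_map 𝒮 pr1 t₀
  obtain rfl : 𝒮.p.obj x' = W := IsHomLift.domain_eq 𝒮.p pr1 t₀
  obtain rfl : pr1 = 𝒮.p.map t₀ := IsHomLift.eq_of_isHomLift 𝒮.p pr1 t₀
  obtain ⟨hs1, hs2⟩ := hs
  have hf' : 𝒮.p.map (t₀ ≫ f.top) = pr2 ≫ 𝒮.p.map s.top := by
    rw [Functor.map_comp, hw]
  let g₀ : x' ⟶ b.x := Functor.IsStronglyCartesian.map 𝒮.p (𝒮.p.map s.top) s.top hf' (t₀ ≫ f.top)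
  have hg₀ : 𝒮.p.IsHomLift pr2 g₀ :=
    Functor.IsStronglyCartesian.map_isHomLift 𝒮.p (𝒮.p.map s.top) s.top hf' (t₀ ≫ f.top)
  have hg₀' : pr2 = 𝒮.p.map g₀ := IsHomLift.eq_of_isHomLift 𝒮.p pr2 g₀
  have hfac : g₀ ≫ s.top = t₀ ≫ f.top :=
    Functor.IsStronglyCartesian.fac 𝒮.p (𝒮.p.map s.top) s.top hf' (t₀ ≫ f.top)
  have hcompat : a.φ ≫ u.map (𝒮.p.map f.top) =
      (f.bot ≫ inv s.bot ≫ b.φ) ≫ u.map (𝒮.p.map s.top) := by
    rw [f.w, Category.assoc, Category.assoc, s.w, IsIso.inv_hom_id_assoc]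
  let φ' : a.V ⟶ u.obj (𝒮.p.obj x') := hpb.lift a.φ (f.bot ≫ inv s.bot ≫ b.φ) hcompat
  refine ⟨⟨x', a.V, φ'⟩, ⟨t₀, 𝟙 _, ?_⟩, ⟨g₀, f.bot ≫ inv s.bot, ?_⟩, ⟨hcart, ?_⟩, ?_⟩
  · change φ' ≫ u.map (𝒮.p.map t₀) = 𝟙 _ ≫ a.φ
    rw [Category.id_comp]
    exact hpb.lift_fst _ _ _
  · change φ' ≫ u.map (𝒮.p.map g₀) = (f.bot ≫ inv s.bot) ≫ b.φ
    rw [← hg₀', Category.assoc]
    exact hpb.lift_snd _ _ _
  · change IsIso (𝟙 a.V)
    infer_instance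
  · apply UppObj.hom_ext
    · exact hfac.symm
    · change 𝟙 _ ≫ f.bot = (f.bot ≫ inv s.bot) ≫ s.bot
      simp

theorem ext_aux {a b c : UppObj u 𝒮} (f₁ f₂ : a ⟶ b) (s : b ⟶ c) (hs : uppR u 𝒮 s)
    (h : f₁ ≫ s = f₂ ≫ s) {E : C} (e : E ⟶ 𝒮.p.obj a.x)
    (he : e ≫ 𝒮.p.map f₁.top = e ≫ 𝒮.p.map f₂.top)
    (hl : ∀ (k : a.V ⟶ u.obj (𝒮.p.obj a.x)),
      k ≫ u.map (𝒮.p.map f₁.top) = k ≫ u.map (𝒮.p.map f₂.top) → ∃ l, l ≫ u.map e = k)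
    {x' : 𝒮.obj} (t₀ : x' ⟶ a.x) [𝒮.p.IsStronglyCartesian e t₀] :
    ∃ (a' : UppObj u 𝒮) (t : a' ⟶ a), uppR u 𝒮 t ∧ t ≫ f₁ = t ≫ f₂ := by
  have hcart : 𝒮.p.IsStronglyCartesian (𝒮.p.map t₀) t₀ := isStronglyCartesian_map 𝒮 e t₀
  obtain rfl : 𝒮.p.obj x' = E := IsHomLift.domain_eq 𝒮.p e t₀
  obtain rfl : e = 𝒮.p.map t₀ := IsHomLift.eq_of_isHomLift 𝒮.p e t₀
  obtain ⟨hs1, hs2⟩ := hs
  have hbot : f₁.bot = f₂.bot := by
    have h1 : f₁.bot ≫ s.bot = f₂.bot ≫ s.bot := congrArg UppObj.Hom.bot h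
    exact (cancel_mono s.bot).1 h1
  have htop : f₁.top ≫ s.top = f₂.top ≫ s.top := congrArg UppObj.Hom.top h
  obtain ⟨l, hl'⟩ := hl a.φ (by rw [f₁.w, f₂.w, hbot])
  have key : t₀ ≫ f₁.top = t₀ ≫ f₂.top := by
    have hf' : 𝒮.p.map ((t₀ ≫ f₁.top) ≫ s.top) = 𝒮.p.map (t₀ ≫ f₁.top) ≫ 𝒮.p.map s.top :=
      Functor.map_comp _ _ _
    have e1 := Functor.IsStronglyCartesian.map_uniq 𝒮.p (𝒮.p.map s.top) s.top hf'
      ((t₀ ≫ f₁.top) ≫ s.top) (t₀ ≫ f₁.top) rfl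
    have : 𝒮.p.IsHomLift (𝒮.p.map (t₀ ≫ f₁.top)) (t₀ ≫ f₂.top) := by
      have h2 : 𝒮.p.map (t₀ ≫ f₁.top) = 𝒮.p.map (t₀ ≫ f₂.top) := by
        rw [Functor.map_comp, Functor.map_comp, he]
      rw [h2]
      infer_instance
    have e2 := Functor.IsStronglyCartesian.map_uniq 𝒮.p (𝒮.p.map s.top) s.top hf'
      ((t₀ ≫ f₁.top) ≫ s.top) (t₀ ≫ f₂.top) (by rw [Category.assoc, Category.assoc, htop])
    rw [e1, e2]
  refine ⟨⟨x', a.V, l⟩, ⟨t₀, 𝟙 _, ?_⟩, ⟨hcart, ?_⟩, ?_⟩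
  · change l ≫ u.map (𝒮.p.map t₀) = 𝟙 _ ≫ a.φ
    rw [Category.id_comp, hl']
  · change IsIso (𝟙 a.V)
    infer_instance
  · apply UppObj.hom_ext
    · exact key
    · change 𝟙 _ ≫ f₁.bot = 𝟙 _ ≫ f₂.bot
      rw [hbot]

variable (u 𝒮)

theorem hasRightCalculusOfFractions [𝒮.p.IsFibered]
    (hC : ∀ (I : Type) [SmallCategory I] [FinCategory I], Nonempty I → HasLimitsOfShape I C)
    (hu : ∀ (I : Type) [SmallCategory I] [FinCategory I], Nonempty I → PreservesLimitsOfShape I u) :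
    (Stk.uppR u 𝒮).HasRightCalculusOfFractions := by
  have : HasLimitsOfShape WalkingCospan C := hC WalkingCospan ⟨WalkingCospan.one⟩
  have : HasLimitsOfShape WalkingParallelPair C :=
    hC WalkingParallelPair ⟨WalkingParallelPair.zero⟩
  have : PreservesLimitsOfShape WalkingCospan u := hu WalkingCospan ⟨WalkingCospan.one⟩
  have : PreservesLimitsOfShape WalkingParallelPair u :=
    hu WalkingParallelPair ⟨WalkingParallelPair.zero⟩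
  refine { exists_rightFraction := ?_, ext := ?_ }
  · intro a b φ
    have hs := φ.hs
    generalize φ.f = f at *
    generalize φ.s = s at *
    have hpb := IsPullback.of_hasPullback (𝒮.p.map f.top) (𝒮.p.map s.top)
    obtain ⟨x', t₀, ht₀⟩ := Functor.IsPreFibered.exists_isCartesian' (p := 𝒮.p) (a := a.x)
      (pullback.fst (𝒮.p.map f.top) (𝒮.p.map s.top))
    obtain ⟨a', t, g, ht, hg⟩ := ore_aux f s hs _ _ hpb.w (hpb.map u) t₀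
    exact ⟨⟨t, ht, g⟩, hg⟩
  · intro a b c f₁ f₂ s hs h
    obtain ⟨x', t₀, ht₀⟩ := Functor.IsPreFibered.exists_isCartesian' (p := 𝒮.p) (a := a.x)
      (equalizer.ι (𝒮.p.map f₁.top) (𝒮.p.map f₂.top))
    have hlim := isLimitForkMapOfIsLimit u (equalizer.condition _ _)
      (equalizerIsEqualizer (𝒮.p.map f₁.top) (𝒮.p.map f₂.top))
    obtain ⟨a', t, ht, hg⟩ := ext_aux f₁ f₂ s hs h
      (equalizer.ι (𝒮.p.map f₁.top) (𝒮.p.map f₂.top)) (equalizer.condition _ _)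
      (fun k hk => ⟨(Fork.IsLimit.lift' hlim k hk).1, (Fork.IsLimit.lift' hlim k hk).2⟩) t₀
    exact ⟨a', t, ht, hg⟩

end Groth.Agent.Lib.Helper27.UpLoc
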