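import Groth.Agent.Lib.Helper27.UpLoc

/-!
# The localisation `u_p 𝒮` is fibred over `D` (helper27)
-/

set_option autoImplicit false
set_option backward.isDefEq.respectTransparency false
set_option backward.isDefEq.respectTransparency.types false

universe v₃ u₃ v₂ u₂ v u

open CategoryTheory CategoryTheory.Limits Stk

namespace Groth.Agent.Lib.Helper27.UpLoc

variable {C : Type u} [Category.{v} C] {D : Type u₂} [Category.{v₂} D] (u : C ⥤ D)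
  (𝒮 : BasedCategory.{v₃, u₃} C)

/-- The localisation functor. -/
noncomputable abbrev L : UppObj u 𝒮 ⥤ (uppR u 𝒮).Localization := (uppR u 𝒮).Q

/-- The structure functor of `u_p 𝒮`. -/
noncomputable abbrev P : (uppR u 𝒮).Localization ⥤ D :=
  Localization.Construction.lift (UppObj.forget u 𝒮) (uppR_isInvertedBy u 𝒮)

variable {u 𝒮}

theorem P_map_L {a b : UppObj u 𝒮} (f : a ⟶ b) : (P u 𝒮).map ((L u 𝒮).map f) = f.bot := by
  have := Functor.congr_hom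
    (Localization.Construction.fac (UppObj.forget u 𝒮) (uppR_isInvertedBy u 𝒮)) f
  simpa using this

theorem isIso_bot {a b : UppObj u 𝒮} {s : a ⟶ b} (hs : uppR u 𝒮 s) : IsIso s.bot := hs.2

theorem P_map_frac {c a : UppObj u 𝒮} (φ : (uppR u 𝒮).RightFraction c a) :
    have := isIso_bot φ.hs
    (P u 𝒮).map (φ.map (L u 𝒮) (Localization.inverts (L u 𝒮) (uppR u 𝒮))) =
      inv φ.s.bot ≫ φ.f.bot := by
  have := isIso_bot φ.hs
  haveI := Localization.inverts (L u 𝒮) (uppR u 𝒮) _ φ.hs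
  have h1 : φ.map (L u 𝒮) (Localization.inverts (L u 𝒮) (uppR u 𝒮)) =
      inv ((L u 𝒮).map φ.s) ≫ (L u 𝒮).map φ.f := rfl
  have h2 : inv ((P u 𝒮).map ((L u 𝒮).map φ.s)) = inv φ.s.bot := by
    apply IsIso.inv_eq_of_hom_inv_id
    rw [P_map_L]
    simp
  rw [h1, Functor.map_comp, Functor.map_inv, h2, P_map_L]

/-- The object `(x, V', g ≫ φ)`. -/
def pbObj (a : UppObj u 𝒮) {V' : D} (g : V' ⟶ a.V) : UppObj u 𝒮 := ⟨a.x, V', g ≫ a.φ⟩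

/-- The morphism `(𝟙, g) : (x, V', g ≫ φ) ⟶ (x, V, φ)`. -/
def pbHom (a : UppObj u 𝒮) {V' : D} (g : V' ⟶ a.V) : pbObj a g ⟶ a :=
  ⟨𝟙 a.x, g, by change (g ≫ a.φ) ≫ u.map (𝒮.p.map (𝟙 a.x)) = g ≫ a.φ; simp⟩

theorem frac_comp {c a b : UppObj u 𝒮} (φ : (uppR u 𝒮).RightFraction c a) (k : a ⟶ b) :
    φ.map (L u 𝒮) (Localization.inverts (L u 𝒮) (uppR u 𝒮)) ≫ (L u 𝒮).map k =
      (MorphismProperty.RightFraction.mk φ.s φ.hs (φ.f ≫ k)).map (L u 𝒮)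
        (Localization.inverts (L u 𝒮) (uppR u 𝒮)) := by
  simp [MorphismProperty.RightFraction.map]

theorem exists_lift_frac (a : UppObj u 𝒮) {V' : D} (g : V' ⟶ a.V) {c : UppObj u 𝒮}
    (φ : (uppR u 𝒮).RightFraction c a) (h : c.V ⟶ V')
    (hm : (P u 𝒮).map (φ.map (L u 𝒮) (Localization.inverts (L u 𝒮) (uppR u 𝒮))) = h ≫ g) :
    ∃ χ : (L u 𝒮).obj c ⟶ (L u 𝒮).obj (pbObj a g), (P u 𝒮).map χ = h ∧
      χ ≫ (L u 𝒮).map (pbHom a g) =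
        φ.map (L u 𝒮) (Localization.inverts (L u 𝒮) (uppR u 𝒮)) := by
  have := isIso_bot φ.hs
  rw [P_map_frac] at hm
  have hfb : φ.f.bot = φ.s.bot ≫ h ≫ g := by
    rw [← hm, IsIso.hom_inv_id_assoc]
  let f' : φ.X' ⟶ pbObj a g := ⟨φ.f.top, φ.s.bot ≫ h, by
    change φ.X'.φ ≫ u.map (𝒮.p.map φ.f.top) = (φ.s.bot ≫ h) ≫ g ≫ a.φ
    rw [φ.f.w, hfb]
    simp⟩
  have hf' : f' ≫ pbHom a g = φ.f := by
    apply UppObj.hom_ext
    · change φ.f.top ≫ 𝟙 _ = _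
      simp
    · change (φ.s.bot ≫ h) ≫ g = _
      rw [hfb]
      simp
  refine ⟨(MorphismProperty.RightFraction.mk φ.s φ.hs f').map (L u 𝒮)
    (Localization.inverts (L u 𝒮) (uppR u 𝒮)), ?_, ?_⟩
  · rw [P_map_frac]
    change inv φ.s.bot ≫ φ.s.bot ≫ h = h
    simp
  · rw [frac_comp]
    change (MorphismProperty.RightFraction.mk φ.s φ.hs (f' ≫ pbHom a g)).map _ _ = _
    rw [hf']

variable [(uppR u 𝒮).HasRightCalculusOfFractions]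

theorem exists_lift (a : UppObj u 𝒮) {V' : D} (g : V' ⟶ a.V) {c : UppObj u 𝒮}
    (m : (L u 𝒮).obj c ⟶ (L u 𝒮).obj a) (h : c.V ⟶ V') (hm : (P u 𝒮).map m = h ≫ g) :
    ∃ χ : (L u 𝒮).obj c ⟶ (L u 𝒮).obj (pbObj a g), (P u 𝒮).map χ = h ∧
      χ ≫ (L u 𝒮).map (pbHom a g) = m := by
  obtain ⟨φ, rfl⟩ := Localization.exists_rightFraction (L u 𝒮) (uppR u 𝒮) m
  exact exists_lift_frac a g φ h hm

theorem lift_unique (a : UppObj u 𝒮) {V' : D} (g : V' ⟶ a.V) {c : UppObj u 𝒮}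
    (χ₁ χ₂ : (L u 𝒮).obj c ⟶ (L u 𝒮).obj (pbObj a g))
    (hP : (P u 𝒮).map χ₁ = (P u 𝒮).map χ₂)
    (hι : χ₁ ≫ (L u 𝒮).map (pbHom a g) = χ₂ ≫ (L u 𝒮).map (pbHom a g)) : χ₁ = χ₂ := by
  obtain ⟨φ₁, rfl⟩ := Localization.exists_rightFraction (L u 𝒮) (uppR u 𝒮) χ₁
  obtain ⟨φ₂, rfl⟩ := Localization.exists_rightFraction (L u 𝒮) (uppR u 𝒮) χ₂
  have := isIso_bot φ₁.hs
  have := isIso_bot φ₂.hs
  rw [P_map_frac, P_map_frac] at hP
  rw [frac_comp, frac_comp, MorphismProperty.RightFraction.map_eq_iff] at hι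
  rw [MorphismProperty.RightFraction.map_eq_iff]
  obtain ⟨Z, t₁, t₂, hst, hft, ht⟩ := hι
  dsimp at t₁ t₂ hst hft ht
  refine ⟨Z, t₁, t₂, hst, ?_, ht⟩
  apply UppObj.hom_ext
  · have h1 : (t₁.top ≫ φ₁.f.top ≫ 𝟙 _) = (t₂.top ≫ φ₂.f.top ≫ 𝟙 _) :=
      congrArg UppObj.Hom.top hft
    simpa using h1
  · change t₁.bot ≫ φ₁.f.bot = t₂.bot ≫ φ₂.f.bot
    have hb : t₁.bot ≫ φ₁.s.bot = t₂.bot ≫ φ₂.s.bot := congrArg UppObj.Hom.bot hst
    have e1 : φ₁.f.bot = φ₁.s.bot ≫ inv φ₂.s.bot ≫ φ₂.f.bot := by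
      rw [← hP, IsIso.hom_inv_id_assoc]
    rw [e1, ← Category.assoc, hb, Category.assoc, IsIso.hom_inv_id_assoc]

end Groth.Agent.Lib.Helper27.UpLoc
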