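import Groth.Agent.Lib.Helper27.UpLoc2

/-!
# The localisation `u_p 𝒮` is fibred over `D` (helper27), part 2
-/

set_option autoImplicit false
set_option backward.isDefEq.respectTransparency false
set_option backward.isDefEq.respectTransparency.types false

universe v₃ u₃ v₂ u₂ v u

open CategoryTheory CategoryTheory.Limits Stk

namespace Groth.Agent.Lib.Helper27.UpLoc

variable {C : Type u} [Category.{v} C] {D : Type u₂} [Category.{v₂} D] {u : C ⥤ D}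
  {𝒮 : BasedCategory.{v₃, u₃} C}

theorem isHomLift_of_P_map {A B : (uppR u 𝒮).Localization} (χ : A ⟶ B)
    (h : (P u 𝒮).obj A ⟶ (P u 𝒮).obj B) (e : (P u 𝒮).map χ = h) : (P u 𝒮).IsHomLift h χ := by
  subst e
  infer_instance

variable [(uppR u 𝒮).HasRightCalculusOfFractions]

theorem isStronglyCartesian_pbHom (a : UppObj u 𝒮) {V' : D} (g : V' ⟶ a.V) :
    (P u 𝒮).IsStronglyCartesian g ((L u 𝒮).map (pbHom a g)) := by
  have hlift : (P u 𝒮).IsHomLift g ((L u 𝒮).map (pbHom a g)) :=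
    isHomLift_of_P_map (A := (L u 𝒮).obj (pbObj a g)) (B := (L u 𝒮).obj a) _ g (P_map_L _)
  refine { toIsHomLift := hlift, universal_property' := ?_ }
  intro A h m hm
  obtain ⟨c, rfl⟩ : ∃ c, A = (L u 𝒮).obj c := ⟨A.as.obj, rfl⟩
  have hm' : (P u 𝒮).map m = h ≫ g :=
    (IsHomLift.eq_of_isHomLift (P u 𝒮) (a := (L u 𝒮).obj c) (b := (L u 𝒮).obj a) (h ≫ g) m).symm
  obtain ⟨χ, hχ1, hχ2⟩ := exists_lift a g m h hm'
  refine ⟨χ, ⟨isHomLift_of_P_map (A := (L u 𝒮).obj c) (B := (L u 𝒮).obj (pbObj a g)) χ h hχ1,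
    hχ2⟩, ?_⟩
  rintro χ' ⟨hχ'1, hχ'2⟩
  have e' : (P u 𝒮).map χ' = h :=
    (IsHomLift.eq_of_isHomLift (P u 𝒮) (a := (L u 𝒮).obj c) (b := (L u 𝒮).obj (pbObj a g))
      h χ').symm
  exact lift_unique a g χ' χ (e'.trans hχ1.symm) (hχ'2.trans hχ2.symm)

theorem isFibered_P : (P u 𝒮).IsFibered := by
  apply Functor.IsFibered.of_exists_isStronglyCartesian
  intro A R f
  obtain ⟨a, rfl⟩ : ∃ a, A = (L u 𝒮).obj a := ⟨A.as.obj, rfl⟩
  exact ⟨(L u 𝒮).obj (pbObj a f), (L u 𝒮).map (pbHom a f), isStronglyCartesian_pbHom a f⟩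

end Groth.Agent.Lib.Helper27.UpLoc
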