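import Groth.Agent.Lib.Helper27.UpLoc3
import Groth.Agent.Lib.Helper16.FpFibGrpd

/-!
# The localisation `u_p 𝒮` is fibred in groupoids over `D` (helper27)
-/

set_option autoImplicit false
set_option backward.isDefEq.respectTransparency false
set_option backward.isDefEq.respectTransparency.types false

universe v₃ u₃ v₂ u₂ v u

open CategoryTheory CategoryTheory.Limits Stk

namespace Groth.Agent.Lib.Helper27.UpLoc

theorem isStronglyCartesian_map' {𝒳 : Type*} {𝒴 : Type*} [Category 𝒳] [Category 𝒴] (p : 𝒳 ⥤ 𝒴)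
    {R S : 𝒴} (f : R ⟶ S) {a b : 𝒳} (φ : a ⟶ b)
    [p.IsStronglyCartesian f φ] : p.IsStronglyCartesian (p.map φ) φ := by
  subst_hom_lift p f φ
  infer_instance

theorem isFibered_of_isFibGrpd {𝒳 : Type*} {𝒴 : Type*} [Category 𝒳] [Category 𝒴] (p : 𝒳 ⥤ 𝒴)
    (h : FibCat.IsFibGrpd p) : p.IsFibered :=
  Functor.IsFibered.of_exists_isStronglyCartesian (fun a R f => by
    obtain ⟨b, φ, hφ⟩ := h.exists_lift f
    exact ⟨b, φ, Groth.Agent.Lib.Helper16.FpFibGrpd.FibGrpd.isStronglyCartesian p h f φ⟩)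

variable {C : Type u} [Category.{v} C] {D : Type u₂} [Category.{v₂} D] {u : C ⥤ D}
  {𝒮 : BasedCategory.{v₃, u₃} C}

variable [(uppR u 𝒮).HasRightCalculusOfFractions]

theorem isStronglyCartesian_frac (h𝒮 : FibCat.IsFibGrpd 𝒮.p) {c a : UppObj u 𝒮}
    (φ : (uppR u 𝒮).RightFraction c a) :
    (P u 𝒮).IsStronglyCartesian
      ((P u 𝒮).map (φ.map (L u 𝒮) (Localization.inverts (L u 𝒮) (uppR u 𝒮))))
      (φ.map (L u 𝒮) (Localization.inverts (L u 𝒮) (uppR u 𝒮))) := by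
  have := Localization.inverts (L u 𝒮) (uppR u 𝒮) _ φ.hs
  let f₁ : φ.X' ⟶ pbObj a φ.f.bot := ⟨φ.f.top, 𝟙 _, by
    change φ.X'.φ ≫ u.map (𝒮.p.map φ.f.top) = 𝟙 _ ≫ φ.f.bot ≫ a.φ
    rw [φ.f.w]
    simp⟩
  have hf₁ : uppR u 𝒮 f₁ := by
    refine ⟨h𝒮.isStronglyCartesian φ.f.top, ?_⟩
    change IsIso (𝟙 φ.X'.V)
    infer_instance
  have := Localization.inverts (L u 𝒮) (uppR u 𝒮) _ hf₁
  have hfac : f₁ ≫ pbHom a φ.f.bot = φ.f := by
    apply UppObj.hom_ext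
    · change φ.f.top ≫ 𝟙 _ = _
      simp
    · change 𝟙 _ ≫ φ.f.bot = _
      simp
  let χ : (L u 𝒮).obj c ⟶ (L u 𝒮).obj (pbObj a φ.f.bot) :=
    inv ((L u 𝒮).map φ.s) ≫ (L u 𝒮).map f₁
  have hχ : IsIso χ := by
    change IsIso (inv ((L u 𝒮).map φ.s) ≫ (L u 𝒮).map f₁)
    infer_instance
  have hm : φ.map (L u 𝒮) (Localization.inverts (L u 𝒮) (uppR u 𝒮)) =
      χ ≫ (L u 𝒮).map (pbHom a φ.f.bot) := by
    change inv ((L u 𝒮).map φ.s) ≫ (L u 𝒮).map φ.f =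
      (inv ((L u 𝒮).map φ.s) ≫ (L u 𝒮).map f₁) ≫ (L u 𝒮).map (pbHom a φ.f.bot)
    rw [Category.assoc, ← Functor.map_comp, hfac]
  have h1 : (P u 𝒮).IsStronglyCartesian ((P u 𝒮).map χ) χ := inferInstance
  have h2 := isStronglyCartesian_pbHom a φ.f.bot
  have h3 : (P u 𝒮).IsStronglyCartesian ((P u 𝒮).map χ ≫ φ.f.bot)
      (χ ≫ (L u 𝒮).map (pbHom a φ.f.bot)) := inferInstance
  rw [hm]
  exact @isStronglyCartesian_map' _ _ _ _ (P u 𝒮) _ _ ((P u 𝒮).map χ ≫ φ.f.bot) _ _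
    (χ ≫ (L u 𝒮).map (pbHom a φ.f.bot)) h3

theorem isFibGrpd_P (h𝒮 : FibCat.IsFibGrpd 𝒮.p) : FibCat.IsFibGrpd (P u 𝒮) where
  exists_lift := by
    intro A V f
    obtain ⟨a, rfl⟩ : ∃ a, A = (L u 𝒮).obj a := ⟨A.as.obj, rfl⟩
    exact ⟨(L u 𝒮).obj (pbObj a f), (L u 𝒮).map (pbHom a f),
      (isStronglyCartesian_pbHom a f).toIsHomLift⟩
  isStronglyCartesian := by
    intro B A m
    obtain ⟨a, rfl⟩ : ∃ a, A = (L u 𝒮).obj a := ⟨A.as.obj, rfl⟩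
    obtain ⟨c, rfl⟩ : ∃ c, B = (L u 𝒮).obj c := ⟨B.as.obj, rfl⟩
    obtain ⟨φ, rfl⟩ := Localization.exists_rightFraction (L u 𝒮) (uppR u 𝒮) m
    exact isStronglyCartesian_frac h𝒮 φ

end Groth.Agent.Lib.Helper27.UpLoc
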